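import Groth.Statements.S5216
import Mathlib
-- import your own Groth.Agent.* helpers here

set_option autoImplicit false
open CategoryTheory CategoryTheory.Limits
universe w v₁ u₁
open ShfCat

namespace Groth.Agent.S5216

theorem presheaf_regular (C : Type u₁) [Category.{v₁} C] [IsRegularEpiCategory (Type w)] :
    IsRegularEpiCategory (Cᵒᵖ ⥤ Type w) := inferInstance

/-- The case of the chaotic topology, i.e. for presheaves of sets on an arbitrary category: every
equivalence relation is universally effective (its quotient exists, the relation is the kernel pair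
of the quotient map, and that map is a universal effective epimorphism). -/
theorem result (C : Type u₁) [Category.{v₁} C]
    {R X : Cᵒᵖ ⥤ Type w} (p₁ p₂ : R ⟶ X) [IsEquivalenceRelation p₁ p₂] :
    IsUniversallyEffectiveEquivalenceRelation p₁ p₂ := by
  classical
  obtain ⟨e⟩ := IsEquivalenceRelation.nonempty_equivalenceRelation (p₁ := p₁) (p₂ := p₂)
  -- the relation on sections
  have jm : ∀ (U : Cᵒᵖ) (a b : R.obj U), p₁.app U a = p₁.app U b → p₂.app U a = p₂.app U b → a = b := by
    intro U a b h₁ h₂
    let P : Cᵒᵖ ⥤ Type w :=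
      { obj := fun V => {q : R.obj V × R.obj V // p₁.app V q.1 = p₁.app V q.2 ∧ p₂.app V q.1 = p₂.app V q.2}
        map := fun {V W} i => ↾(fun q => ⟨(R.map i q.1.1, R.map i q.1.2), by
          constructor
          · rw [NatTrans.naturality_apply p₁, NatTrans.naturality_apply p₁, q.2.1]
          · rw [NatTrans.naturality_apply p₂, NatTrans.naturality_apply p₂, q.2.2]⟩)
        map_id := fun V => by ext q <;> simp
        map_comp := fun i j => by ext q <;> simp }
    let u : P ⟶ R := { app := fun V => ↾(fun q => q.1.1), naturality := fun _ _ _ => by ext q; rfl }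
    let v : P ⟶ R := { app := fun V => ↾(fun q => q.1.2), naturality := fun _ _ _ => by ext q; rfl }
    have h : u = v := e.right_cancellation u v (by ext V q; exact q.2.1) (by ext V q; exact q.2.2)
    exact congr(($h).app U ⟨(a, b), h₁, h₂⟩)
  have heq : ∀ U : Cᵒᵖ, Equivalence (fun x y : X.obj U => ∃ r, p₁.app U r = x ∧ p₂.app U r = y) := fun U => by
    refine ⟨fun x => ⟨e.r.app U x, congr(($e.reflexivity₁).app U x), congr(($e.reflexivity₂).app U x)⟩, ?_, ?_⟩
    · rintro x y ⟨r, rfl, rfl⟩
      exact ⟨e.s.app U r, congr(($e.symmetry₁).app U r), congr(($e.symmetry₂).app U r)⟩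
    · rintro x y z ⟨r, rfl, hr⟩ ⟨r', hr', rfl⟩
      let Φ := (evaluation Cᵒᵖ (Type w)).obj U
      have sq := Φ.map_isPullback (IsPullback.of_isLimit e.isLimit)
      obtain ⟨c, hc₁, hc₂⟩ := ((Types.isPullback_iff _ _ _ _).mp sq).2.2 r r' (hr.trans hr'.symm)
      refine ⟨e.t.app U c, ?_, ?_⟩
      · exact (congr(($e.transitivity₁).app U c)).trans (congrArg (p₁.app U) hc₁)
      · exact (congr(($e.transitivity₂).app U c)).trans (congrArg (p₂.app U) hc₂)
  -- the quotient presheaf
  let rel : ∀ U : Cᵒᵖ, X.obj U → X.obj U → Prop := fun U x y => ∃ r, p₁.app U r = x ∧ p₂.app U r = y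
  let Q : Cᵒᵖ ⥤ Type w :=
    { obj := fun U => Quot (rel U)
      map := fun {U V} i => ↾(Quot.map (X.map i) (fun x y ⟨r, h₁, h₂⟩ => ⟨R.map i r,
        by rw [NatTrans.naturality_apply p₁, h₁], by rw [NatTrans.naturality_apply p₂, h₂]⟩))
      map_id := fun U => by ext ⟨x⟩; exact congrArg (Quot.mk _) (congr($(X.map_id U) x))
      map_comp := fun i j => by ext ⟨x⟩; exact congrArg (Quot.mk _) (congr($(X.map_comp i j) x)) }
  let qm : X ⟶ Q := { app := fun U => ↾(Quot.mk (rel U)), naturality := fun U V i => by ext x; rfl }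
  have hw : p₁ ≫ qm = p₂ ≫ qm := by
    ext U r
    exact Quot.sound ⟨r, rfl, rfl⟩
  have hpb : IsPullback p₁ p₂ qm qm := IsPullback.of_forall_isPullback_app fun U => by
    rw [Types.isPullback_iff]
    refine ⟨congr($(hw).app U), fun a b h => jm U a b h.1 h.2, fun x y h => ?_⟩
    exact ((heq U).eqvGen_iff).mp (Quot.eqvGen_exact h)
  have hrefl : ∀ {T : Cᵒᵖ ⥤ Type w} (u v : X ⟶ T), p₁ ≫ u = p₂ ≫ v → u = v := fun u v h => by
    ext U x
    have := congr(($h).app U (e.r.app U x))
    have h₁ : p₁.app U (e.r.app U x) = x := congr(($e.reflexivity₁).app U x)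
    have h₂ : p₂.app U (e.r.app U x) = x := congr(($e.reflexivity₂).app U x)
    simpa [h₁, h₂] using this
  have hpo : IsPushout p₁ p₂ qm qm := by
    refine IsPushout.of_isColimit' ⟨hw⟩ (PushoutCocone.IsColimit.mk hw (fun s =>
      { app := fun U => ↾(Quot.lift (s.inl.app U) (fun x y ⟨r, h₁, h₂⟩ => by
          rw [← h₁, ← h₂]
          refine (congr($(s.condition).app U r)).trans ?_
          rw [hrefl s.inl s.inr s.condition]
          rfl))
        naturality := fun U V i => by ext ⟨x⟩; exact NatTrans.naturality_apply s.inl i x })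
      (fun s => by ext U x; rfl) (fun s => by ext U x; exact congr(($(hrefl s.inl s.inr s.condition)).app U x))
      (fun s m h₁ h₂ => by ext U ⟨x⟩; exact congr(($h₁).app U x)))
  haveI : Epi qm := ⟨fun u v h => by ext U ⟨x⟩; exact congr(($h).app U x)⟩
  refine ⟨⟨{ toEquivalenceRelation := e, B := Q, π := qm, isKernelPair := hpb, isPushout := hpo
             universally_effectiveEpi_π := ?_ }⟩⟩
  intro A' B' i₁ i₂ f' sq
  haveI : ∀ U, Epi (f'.app U) := fun U => by
    rw [CategoryTheory.epi_iff_surjective]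
    intro z
    have sq' := ((evaluation Cᵒᵖ (Type w)).obj U).map_isPullback sq
    obtain ⟨x, hx⟩ := Quot.exists_rep (i₂.app U z)
    obtain ⟨c, hc, -⟩ := ((Types.isPullback_iff _ _ _ _).mp sq').2.2 z x hx.symm
    exact ⟨c, hc⟩
  haveI : Epi f' := NatTrans.epi_of_epi_app _
  haveI : SplitEpiCategory (Type w) := ⟨fun f hf => IsSplitEpi.mk'
    { section_ := ↾(Function.surjInv ((CategoryTheory.epi_iff_surjective f).1 hf))
      id := by ext x; exact Function.surjInv_eq _ x }⟩
  haveI : IsRegularEpiCategory (Type w) := regularEpiCategoryOfSplitEpiCategory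
  haveI : IsRegularEpiCategory (Cᵒᵖ ⥤ Type w) := presheaf_regular C
  change EffectiveEpi f'
  rw [← isRegularEpi_iff_effectiveEpi]
  exact IsRegularEpiCategory.regularEpiOfEpi f'

end Groth.Agent.S5216
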