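import Groth.Statements.S5220
import Mathlib.CategoryTheory.EffectiveEpi.Basic
-- import your own Groth.Agent.* helpers here

set_option autoImplicit false
open CategoryTheory CategoryTheory.Limits
universe w v₁ u₁
open GrpQ

namespace Groth.Agent.S5220

/-- In a category with pullbacks: let `d₀ d₁ : X₁ ⇉ X₀` admit a common section and let `f₀ : Y₀ ⟶ X₀` be
an effective epimorphism which is also a universal epimorphism. For the inverse-image pair `Y₁ :=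
(Y₀ ×_{X₀,d₁} X₁) ×_{d₀,X₀} Y₀ ⇉ Y₀`, every morphism out of `Y₀` equalized by the two projections
descends uniquely to a morphism out of `X₀` equalized by `d₀, d₁`. (Only the common section of the
groupoid structure is used.) -/
theorem result {C : Type u₁} [Category.{v₁} C] [HasPullbacks C]
    {X₁ X₀ Y₀ : C} (d₀ d₁ : X₁ ⟶ X₀) (s : X₀ ⟶ X₁) (hs₀ : s ≫ d₀ = 𝟙 X₀) (hs₁ : s ≫ d₁ = 𝟙 X₀)
    (f₀ : Y₀ ⟶ X₀) [EffectiveEpi f₀]
    (hf : MorphismProperty.universally (MorphismProperty.epimorphisms C) f₀)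
    {T : C} (g : Y₀ ⟶ T)
    (hg : (pullback.fst (pullback.snd f₀ d₁ ≫ d₀) f₀ ≫ pullback.fst f₀ d₁) ≫ g =
      pullback.snd (pullback.snd f₀ d₁ ≫ d₀) f₀ ≫ g) :
    ∃! h : X₀ ⟶ T, d₁ ≫ h = d₀ ≫ h ∧ f₀ ≫ h = g := by
  have hd : ∀ {Z : C} (g₁ g₂ : Z ⟶ Y₀), g₁ ≫ f₀ = g₂ ≫ f₀ → g₁ ≫ g = g₂ ≫ g := by
    intro Z g₁ g₂ h
    have e₁ : g₁ ≫ f₀ = (g₁ ≫ f₀ ≫ s) ≫ d₁ := by simp [hs₁]
    have e₂ : pullback.lift g₁ (g₁ ≫ f₀ ≫ s) e₁ ≫ pullback.snd f₀ d₁ ≫ d₀ = g₂ ≫ f₀ := by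
      rw [pullback.lift_snd_assoc, Category.assoc, Category.assoc, hs₀, Category.comp_id, h]
    have := pullback.lift (pullback.lift g₁ (g₁ ≫ f₀ ≫ s) e₁) g₂ e₂ ≫= hg
    simp only [Category.assoc, pullback.lift_fst_assoc, pullback.lift_snd_assoc] at this
    exact this
  refine ⟨EffectiveEpi.desc f₀ g hd, ⟨?_, EffectiveEpi.fac f₀ g hd⟩, fun m hm => EffectiveEpi.uniq f₀ g hd m hm.2⟩
  haveI : Epi (pullback.snd f₀ d₁) := hf _ _ _ (IsPullback.of_hasPullback f₀ d₁).flip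
  haveI : Epi (pullback.fst (pullback.snd f₀ d₁ ≫ d₀) f₀) :=
    hf _ _ _ (IsPullback.of_hasPullback (pullback.snd f₀ d₁ ≫ d₀) f₀)
  rw [← cancel_epi (pullback.fst (pullback.snd f₀ d₁ ≫ d₀) f₀ ≫ pullback.snd f₀ d₁)]
  have c := pullback.condition (f := pullback.snd f₀ d₁ ≫ d₀) (g := f₀) =≫ EffectiveEpi.desc f₀ g hd
  simp only [Category.assoc, EffectiveEpi.fac] at c hg ⊢
  rw [c, ← hg, ← pullback.condition_assoc (f := f₀) (g := d₁), EffectiveEpi.fac]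

end Groth.Agent.S5220
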