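import Groth.Statements.S5221
import Mathlib

set_option autoImplicit false
open CategoryTheory CategoryTheory.Limits
universe w v₁ u₁
open GrpQ

namespace Groth.Agent.S5221

/-- Existence part: in a category with pullbacks: with `d₀ d₁ : X₁ ⇉ X₀` admitting a common section and
`f₀ : Y₀ ⟶ X₀` an effective and universal epimorphism, the pair `(d₀, d₁)` has a coequalizer if and
only if its inverse-image pair on `Y₀` has one. -/
theorem result {C : Type u₁} [Category.{v₁} C] [HasPullbacks C]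
    {X₁ X₀ Y₀ : C} (d₀ d₁ : X₁ ⟶ X₀) (s : X₀ ⟶ X₁) (hs₀ : s ≫ d₀ = 𝟙 X₀) (hs₁ : s ≫ d₁ = 𝟙 X₀)
    (f₀ : Y₀ ⟶ X₀) [EffectiveEpi f₀]
    (hf : MorphismProperty.universally (MorphismProperty.epimorphisms C) f₀) :
    HasCoequalizer d₁ d₀ ↔
      HasCoequalizer (pullback.fst (pullback.snd f₀ d₁ ≫ d₀) f₀ ≫ pullback.fst f₀ d₁)
        (pullback.snd (pullback.snd f₀ d₁ ≫ d₀) f₀) := by
  haveI hepi : ∀ {A B : C} (a : A ⟶ B) (b : B ⟶ X₀) , Epi (pullback.snd f₀ b) := fun {A B} _ b =>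
    hf _ _ _ (IsPullback.of_hasPullback f₀ b).flip
  have hepi' : ∀ {B : C} (b : B ⟶ X₀), Epi (pullback.fst b f₀) := fun b =>
    hf _ _ _ (IsPullback.of_hasPullback b f₀)
  set P := pullback f₀ d₁
  set c := pullback.snd f₀ d₁ ≫ d₀ with hc
  set q := pullback.fst c f₀ ≫ pullback.snd f₀ d₁ with hq
  haveI : Epi q := by
    haveI := hepi' c
    haveI := hepi (𝟙 X₁) d₁
    exact epi_comp _ _
  set a := pullback.fst c f₀ ≫ pullback.fst f₀ d₁ with ha
  set b := pullback.snd c f₀ with hb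
  have hqa : a ≫ f₀ = q ≫ d₁ := by
    rw [ha, hq, Category.assoc, Category.assoc, pullback.condition]
  have hqb : b ≫ f₀ = q ≫ d₀ := by
    rw [hb, hq, ← pullback.condition, Category.assoc]
  have down : ∀ {Z : C} (h' : Y₀ ⟶ Z), a ≫ h' = b ≫ h' → ∃ h : X₀ ⟶ Z, d₁ ≫ h = d₀ ≫ h ∧ f₀ ≫ h = h' := by
    intro Z h' hh
    have hk : ∀ {W : C} (g₁ g₂ : W ⟶ Y₀), g₁ ≫ f₀ = g₂ ≫ f₀ → g₁ ≫ h' = g₂ ≫ h' := by
      intro W g₁ g₂ hg
      let u : W ⟶ pullback f₀ d₁ := pullback.lift g₁ (g₁ ≫ f₀ ≫ s) (by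
        rw [Category.assoc, Category.assoc, hs₁, Category.comp_id])
      let v : W ⟶ pullback c f₀ := pullback.lift u g₂ (by
        rw [hc, ← Category.assoc, pullback.lift_snd, Category.assoc, Category.assoc, hs₀, Category.comp_id, hg])
      have e1 : v ≫ a = g₁ := by rw [ha, pullback.lift_fst_assoc, pullback.lift_fst]
      have e2 : v ≫ b = g₂ := pullback.lift_snd _ _ _
      rw [← e1, ← e2]
      exact (Category.assoc _ _ _).trans ((congrArg (v ≫ ·) hh).trans (Category.assoc _ _ _).symm)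
    refine ⟨EffectiveEpi.desc f₀ h' hk, ?_, EffectiveEpi.fac f₀ h' hk⟩
    have e := EffectiveEpi.fac f₀ h' hk
    apply (cancel_epi q).1
    calc q ≫ d₁ ≫ EffectiveEpi.desc f₀ h' hk = (a ≫ f₀) ≫ EffectiveEpi.desc f₀ h' hk := by
          rw [hqa]; exact (Category.assoc _ _ _).symm
      _ = a ≫ h' := (Category.assoc _ _ _).trans (congrArg (a ≫ ·) e)
      _ = b ≫ h' := hh
      _ = (b ≫ f₀) ≫ EffectiveEpi.desc f₀ h' hk := ((Category.assoc _ _ _).trans (congrArg (b ≫ ·) e)).symm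
      _ = q ≫ d₀ ≫ EffectiveEpi.desc f₀ h' hk := by rw [hqb]; exact Category.assoc _ _ _
  have up : ∀ {Z : C} (h : X₀ ⟶ Z), d₁ ≫ h = d₀ ≫ h → a ≫ (f₀ ≫ h) = b ≫ (f₀ ≫ h) := by
    intro Z h hh
    calc a ≫ (f₀ ≫ h) = (q ≫ d₁) ≫ h := by rw [← hqa]; exact (Category.assoc _ _ _).symm
      _ = q ≫ d₁ ≫ h := Category.assoc _ _ _
      _ = q ≫ d₀ ≫ h := congrArg (q ≫ ·) hh
      _ = (b ≫ f₀) ≫ h := by rw [hqb]; exact (Category.assoc _ _ _).symm
      _ = b ≫ (f₀ ≫ h) := Category.assoc _ _ _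
  have inj : ∀ {Z : C} (h₁ h₂ : X₀ ⟶ Z), f₀ ≫ h₁ = f₀ ≫ h₂ → h₁ = h₂ := fun h₁ h₂ e => (cancel_epi f₀).1 e
  constructor
  · intro hX
    refine ⟨⟨⟨Cofork.ofπ (f₀ ≫ coequalizer.π d₁ d₀) (up _ (coequalizer.condition d₁ d₀)),
      Cofork.IsColimit.mk' _ fun t => ?_⟩⟩⟩
    choose h hh hfh using down t.π t.condition
    refine ⟨coequalizer.desc h hh, ?_, fun {m} hm => ?_⟩
    · show (f₀ ≫ coequalizer.π d₁ d₀) ≫ coequalizer.desc h hh = t.π
      rw [Category.assoc, coequalizer.π_desc, hfh]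
    · refine coequalizer.hom_ext (inj _ _ ?_)
      rw [coequalizer.π_desc, hfh, ← Category.assoc]
      exact hm
  · intro hY
    choose h hh hfh using down (coequalizer.π a b) (coequalizer.condition a b)
    refine ⟨⟨⟨Cofork.ofπ h hh, Cofork.IsColimit.mk' _ fun t => ?_⟩⟩⟩
    refine ⟨coequalizer.desc (f₀ ≫ t.π) (up _ t.condition), ?_, fun {m} hm => ?_⟩
    · show h ≫ coequalizer.desc (f₀ ≫ t.π) (up _ t.condition) = t.π
      apply inj
      rw [← Category.assoc, hfh, coequalizer.π_desc]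
    · apply (cancel_epi (coequalizer.π a b)).1
      refine Eq.trans ?_ (coequalizer.π_desc _ _).symm
      rw [← hfh]
      exact (Category.assoc _ _ _).trans (congrArg (f₀ ≫ ·) hm)

end Groth.Agent.S5221
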