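import Groth.Statements.S5222
import Mathlib.CategoryTheory.Monoidal.Cartesian.Grp
-- import your own Groth.Agent.* helpers here

set_option autoImplicit false
set_option linter.style.haveILetI false
open CategoryTheory CategoryTheory.Limits MonoidalCategory
universe v₁ u₁
open DescCat

namespace Groth.Agent.S5222

open MonObj CartesianMonoidalCategory SemiCartesianMonoidalCategory in
/-- In a cartesian monoidal category with pullbacks: for a homomorphism `f : G ⟶ G'` of group objects
with kernel `K = G ×_{G'} e`, the pair `G × K ⇉ G` given by the projection and by multiplication is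
the kernel pair of `f`. -/
theorem result {C : Type u₁} [Category.{v₁} C]
    [CartesianMonoidalCategory C] [HasPullbacks C]
    {G G' : C} [GrpObj G] [GrpObj G'] (f : G ⟶ G') [IsMonHom f] :
    IsKernelPair f (fst G (pullback f η[G']))
      ((G ◁ pullback.fst f η[G']) ≫ μ[G]) := by
  let m : G ⊗ pullback f η[G'] ⟶ G := fst G (pullback f η[G']) * (snd G (pullback f η[G']) ≫ pullback.fst f η[G'])
  have hm : (G ◁ pullback.fst f η[G']) ≫ μ[G] = m := by
    simp only [m, Hom.mul_def]
    congr 1
    ext <;> simp
  have hk : ∀ {Z : C} (z : Z ⟶ pullback f η[G']), (z ≫ pullback.fst f η[G']) ≫ f = 1 := fun z => by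
    rw [Category.assoc, pullback.condition, Hom.one_def, ← Category.assoc]
    exact congrArg (· ≫ η[G']) (toUnit_unique _ _)
  rw [hm]
  refine ⟨⟨?_⟩, ⟨PullbackCone.IsLimit.mk _ (fun s => lift s.fst (pullback.lift (s.fst⁻¹ * s.snd) (toUnit _) ?_))
    (fun s => lift_fst _ _) (fun s => ?_) (fun s n h₁ h₂ => ?_)⟩⟩
  · simp only [m]
    rw [MonObj.mul_comp, hk, _root_.mul_one]
  · rw [MonObj.mul_comp, GrpObj.inv_comp, s.condition, inv_mul_cancel]
    exact Hom.one_def.symm.trans rfl
  · simp only [m, MonObj.comp_mul, lift_fst, lift_snd_assoc, pullback.lift_fst, mul_inv_cancel_left]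
  · ext
    · simpa using h₁
    · simp only [Category.assoc]
      simp only [m, MonObj.comp_mul] at h₂
      rw [h₁] at h₂
      simp [pullback.lift_fst, ← h₂]

end Groth.Agent.S5222
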