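import Groth.Statements.S5225
import Mathlib
import Groth.Agent.MonoQuotLib.Effective
-- import your own Groth.Agent.* helpers here

set_option autoImplicit false
set_option backward.isDefEq.respectTransparency false
set_option linter.all false
open CategoryTheory CategoryTheory.Limits AlgebraicGeometry
universe u
open GrpQ

namespace Groth.Agent.S5225

theorem etale_le_fppf : Scheme.etalePrecoverage.{u} ≤ Scheme.fppfPrecoverage.{u} := by
  apply Scheme.precoverage_mono
  intro X Y f hf
  haveI : Etale f := hf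
  exact ⟨inferInstance, inferInstance⟩

variable {S : Scheme.{u}} {R U Y : Over S} {s t : R ⟶ U}

/-- Sheaf maps out of `h_V` are sections over `V`. -/
noncomputable def repEquiv (K : Precoverage Scheme.{u}) (V : Over S) (F : QuotSh.Sh K S) :
    (QuotSh.rep K V ⟶ F) ≃ F.obj.obj (Opposite.op V) :=
  ((sheafificationAdjunction (QuotSh.J K S) (Type (u + 1))).homEquiv _ _).trans uliftYonedaEquiv

theorem repEquiv_naturality (K : Precoverage Scheme.{u}) {V W : Over S} (g : V ⟶ W) (F : QuotSh.Sh K S)
    (f : QuotSh.rep K W ⟶ F) :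
    repEquiv K V F (QuotSh.repMap K g ≫ f) = F.obj.map g.op (repEquiv K W F f) := by
  simp only [repEquiv, Equiv.trans_apply, Adjunction.homEquiv_naturality_left]
  exact (uliftYonedaEquiv_naturality ((sheafificationAdjunction (QuotSh.J K S) (Type (u + 1))).homEquiv _ _ f) g.op).symm

/-- Universal property of a quotient sheaf. -/
theorem isQuotient_iff_forall (K : Precoverage Scheme.{u}) (q : U ⟶ Y) :
    QuotSh.IsQuotient K s t q ↔ s ≫ q = t ≫ q ∧
      ∀ (F : QuotSh.Sh K S) (x : F.obj.obj (Opposite.op U)), F.obj.map s.op x = F.obj.map t.op x →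
        ∃! y, F.obj.map q.op y = x := by
  constructor
  · rintro ⟨w, hiso⟩
    refine ⟨w, fun F x hx => ?_⟩
    haveI := hiso
    let f := (repEquiv K U F).symm x
    have hf : QuotSh.repMap K s ≫ f = QuotSh.repMap K t ≫ f := (repEquiv K R F).injective (by
      rw [repEquiv_naturality, repEquiv_naturality, Equiv.apply_symm_apply]; exact hx)
    have hq : QuotSh.quotπ K s t ≫ QuotSh.quotDesc K q w = QuotSh.repMap K q := coequalizer.π_desc _ _
    refine ⟨repEquiv K Y F (inv (QuotSh.quotDesc K q w) ≫ coequalizer.desc f hf), ?_, fun y hy => ?_⟩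
    · change F.obj.map q.op _ = x
      rw [← repEquiv_naturality, ← hq, Category.assoc, IsIso.hom_inv_id_assoc]
      exact (congrArg (repEquiv K U F) (coequalizer.π_desc f hf)).trans (Equiv.apply_symm_apply _ _)
    · obtain ⟨g, rfl⟩ := (repEquiv K Y F).surjective y
      congr 1
      rw [IsIso.eq_inv_comp]
      apply coequalizer.hom_ext
      rw [coequalizer.π_desc]
      apply (repEquiv K U F).injective
      rw [Equiv.apply_symm_apply, ← hy, ← repEquiv_naturality, ← hq, Category.assoc]
      rfl
  · rintro ⟨w, h⟩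
    refine ⟨w, ?_⟩
    have hq : QuotSh.quotπ K s t ≫ QuotSh.quotDesc K q w = QuotSh.repMap K q := coequalizer.π_desc _ _
    obtain ⟨y, hy, -⟩ := h (QuotSh.quot K s t) (repEquiv K U _ (QuotSh.quotπ K s t)) (by
      rw [← repEquiv_naturality, ← repEquiv_naturality]
      exact congrArg _ (QuotSh.quot_condition K s t))
    obtain ⟨ψ, rfl⟩ := (repEquiv K Y (QuotSh.quot K s t)).surjective y
    have hψ : QuotSh.repMap K q ≫ ψ = QuotSh.quotπ K s t :=
      (repEquiv K U _).injective (by rw [repEquiv_naturality]; exact hy)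
    refine ⟨ψ, ?_, ?_⟩
    · apply coequalizer.hom_ext
      change QuotSh.quotπ K s t ≫ _ ≫ ψ = QuotSh.quotπ K s t ≫ 𝟙 _
      rw [reassoc_of% hq, hψ, Category.comp_id]
    · obtain ⟨z, hz, huniq⟩ := h (QuotSh.rep K Y) (repEquiv K U _ (QuotSh.repMap K q)) (by
        rw [← repEquiv_naturality, ← repEquiv_naturality, ← Functor.map_comp, ← Functor.map_comp,
          ← Functor.whiskerRight_comp, ← Functor.whiskerRight_comp, ← yoneda.map_comp, ← yoneda.map_comp, w])
      apply (repEquiv K Y _).injective
      refine (huniq _ ?_).trans (huniq (repEquiv K Y _ (𝟙 _)) ?_).symm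
      · change (QuotSh.rep K Y).obj.map q.op _ = _
        rw [← repEquiv_naturality, reassoc_of% hψ, hq]
      · change (QuotSh.rep K Y).obj.map q.op _ = _
        rw [← repEquiv_naturality, Category.comp_id]

/-- A quotient sheaf for a topology is one for every finer topology. -/
theorem isQuotient_mono {K L : Precoverage Scheme.{u}} (hKL : K ≤ L) {q : U ⟶ Y}
    (h : QuotSh.IsQuotient K s t q) : QuotSh.IsQuotient L s t q := by
  rw [isQuotient_iff_forall] at h ⊢
  refine ⟨h.1, fun F x hx => ?_⟩
  have hJ : QuotSh.J K S ≤ QuotSh.J L S := fun V T hT => Precoverage.toGrothendieck_mono hKL _ hT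
  exact h.2 ⟨F.obj, (isSheaf_iff_isSheaf_of_type _ _).mpr
    (Presieve.isSheaf_of_le _ hJ ((isSheaf_iff_isSheaf_of_type _ _).mp F.property))⟩ x hx

/-- A covering map with kernel pair `R` is a quotient. -/
theorem isQuotient_of_singleton {K : Precoverage Scheme.{u}} (q : U ⟶ Y) (hk : IsKernelPair q s t)
    (hq : Presieve.singleton q.left ∈ K Y.left) : QuotSh.IsQuotient K s t q := by
  rw [isQuotient_iff_forall]
  refine ⟨hk.w, fun F x hx => ?_⟩
  have hmem : Sieve.generate (Presieve.singleton q) ∈ QuotSh.J K S Y := by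
    rw [GrothendieckTopology.mem_over_iff, Sieve.overEquiv_generate]
    refine GrothendieckTopology.superset_covering _ (Sieve.generate_mono ?_) (Precoverage.generate_mem_toGrothendieck hq)
    rintro _ _ ⟨⟩
    exact ⟨U, q, 𝟙 _, Presieve.singleton_self q, by simp⟩
  have hsheaf := (Presieve.isSheafFor_iff_generate _).mpr
    ((isSheaf_iff_isSheaf_of_type _ _).mp F.property _ hmem)
  refine Presieve.isSheafFor_singleton.mp hsheaf x fun {Z} p₁ p₂ e => ?_
  obtain ⟨l, rfl, rfl⟩ : ∃ l, l ≫ s = p₁ ∧ l ≫ t = p₂ :=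
    ⟨_, IsPullback.lift_fst hk p₁ p₂ e, IsPullback.lift_snd hk p₁ p₂ e⟩
  simp only [op_comp, Functor.map_comp_apply, hx]

end Groth.Agent.S5225

namespace Groth.Agent.S5225

/-- For the étale topology: let `s, t : R ⇉ U` be an equivalence relation of schemes over `S` with `s`
étale and surjective. A morphism `q : U ⟶ Y` over `S` is an étale surjective quotient with kernel
pair `R` if and only if `q` identifies `h_Y` with the étale quotient sheaf `U/R`. -/
theorem result {S : Scheme.{u}} {R U Y : Over S} (s t : R ⟶ U)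
    [IsEquivalenceRelation s t] [Etale s.left] [Surjective s.left]
    (q : U ⟶ Y) :
    (IsKernelPair q s t ∧ Etale q.left ∧ Surjective q.left) ↔
      QuotSh.IsQuotient Scheme.etalePrecoverage s t q := by
  have hle : Scheme.etalePrecoverage.{u} ≤ Scheme.fppfPrecoverage.{u} :=
    Groth.Agent.S5225.etale_le_fppf
  constructor
  · rintro ⟨hk, he, hs⟩
    haveI := he; haveI := hs
    exact isQuotient_of_singleton q hk (by rw [Scheme.etalePrecoverage, Scheme.singleton_mem_precoverage_iff]; exact ⟨hs.1, he⟩)
  · intro h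
    have h' := isQuotient_mono hle h
    obtain ⟨hk, hf, hs, hl⟩ := (Groth.Agent.MonoQuot.isQuotient_iff q).mpr h'
    refine ⟨hk, ?_, hs⟩
    exact MorphismProperty.of_isPullback_of_descendsAlong (P := @Etale)
      (Q := @Surjective ⊓ @Flat ⊓ @LocallyOfFinitePresentation) (hk.map (Over.forget S))
      ⟨⟨hs, hf⟩, hl⟩ ‹Etale s.left›

end Groth.Agent.S5225
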