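import Groth.Statements.S5226
import Groth.Agent.BlowRegLib.QuotRestr
-- import your own Groth.Agent.* helpers here

set_option autoImplicit false
open CategoryTheory CategoryTheory.Limits
universe w v₁ u₁
open ShfCat

namespace Groth.Agent.S5226

/-- For sheaves of sets on a site with sheafification: if `R ⇉ X` is an equivalence relation with
(universally effective) quotient `X/R` and `Y ⊆ X` is a subsheaf with induced relation `R_Y`, then
the canonical map `Y/R_Y ⟶ X/R` is a monomorphism. Here `R_Y` is built as the iterated pullback of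
`R` along `Y ⟶ X` on both sides. -/
theorem result {C : Type u₁} [Category.{v₁} C]
    (J : GrothendieckTopology C) [HasSheafify J (Type w)]
    {R X Y : Sheaf J (Type w)} {p₁ p₂ : R ⟶ X} (e : UniversallyEffectiveEquivalenceRelation p₁ p₂)
    (ι : Y ⟶ X) [Mono ι]
    [HasCoequalizer (pullback.fst (pullback.fst p₁ ι ≫ p₂) ι ≫ pullback.snd p₁ ι)
      (pullback.snd (pullback.fst p₁ ι ≫ p₂) ι)]
    (g : coequalizer (pullback.fst (pullback.fst p₁ ι ≫ p₂) ι ≫ pullback.snd p₁ ι)
      (pullback.snd (pullback.fst p₁ ι ≫ p₂) ι) ⟶ e.B)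
    (hg : coequalizer.π _ _ ≫ g = ι ≫ e.π) :
    Mono g := by
  let f₁ := pullback.fst (pullback.fst p₁ ι ≫ p₂) ι ≫ pullback.snd p₁ ι
  let f₂ := pullback.snd (pullback.fst p₁ ι ≫ p₂) ι
  exact BlowRegLib.mono_quotient_restrict e ι (coequalizer.π f₁ f₂) (coequalizer.condition f₁ f₂)
    ⟨coequalizer.desc (Sheaf.toImage (coequalizer.π f₁ f₂)) (by
      rw [← cancel_mono (Sheaf.imageι _), Category.assoc, Category.assoc, Sheaf.toImage_ι]
      exact coequalizer.condition f₁ f₂), coequalizer.π_desc _ _⟩ g hg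

end Groth.Agent.S5226
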