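import Groth.Statements.S5228
import Mathlib
-- import your own Groth.Agent.* helpers here

set_option autoImplicit false
universe w u
open HopfRep

open scoped TensorProduct
namespace Groth.Agent.S5228

/-- Over an affine base, in comodule form: for a representation `V` of a diagonalizable group `D(M)`
over a commutative ring `k` (a `k[M]`-comodule), every sub-representation which is a direct summand
as a `k`-module is a direct summand as a representation. (The published statement: a short exact
sequence of quasi-coherent `D(M)`-modules that splits as a sequence of modules splits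
equivariantly.) -/
theorem result {k : Type u} [CommRing k] {M : Type u} [CommGroup M]
    (V : Type w) [AddCommGroup V] [Module k V] [HopfRep.Comod k (MonoidAlgebra k M) V]
    (W : Submodule k V) (hW : HopfRep.IsSubcomod (k := k) (A := MonoidAlgebra k M) W)
    (hsplit : ∃ W' : Submodule k V, IsCompl W W') :
    ∃ W'' : Submodule k V, HopfRep.IsSubcomod (k := k) (A := MonoidAlgebra k M) W'' ∧ IsCompl W W'' := by
  classical
  obtain ⟨W', hc⟩ := hsplit
  let H := MonoidAlgebra k M
  let b := MonoidAlgebra.basis M k
  let ρ := HopfRep.Comod.coact (k := k) (A := H) (V := V)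
  let p : V →ₗ[k] V := W.subtype ∘ₗ W.projectionOnto W' hc
  let e : M → (V →ₗ[k] V) := fun a => (TensorProduct.rid k V).toLinearMap ∘ₗ (b.coord a).lTensor V ∘ₗ ρ
  let Ψ : V ⊗[k] H →ₗ[k] V := TensorProduct.lift (LinearMap.flip (b.constr k fun a => e a ∘ₗ p))
  let P : V →ₗ[k] V := Ψ ∘ₗ ρ
  have hΨ : ∀ (v : V) (a : M), Ψ (v ⊗ₜ[k] b a) = e a (p v) := fun v a => by simp [Ψ]
  have hcb : ∀ a, CoalgebraStruct.comul (R := k) (b a) = b a ⊗ₜ[k] b a := fun a => by simp [b]
  have hεb : ∀ a, CoalgebraStruct.counit (R := k) (b a) = 1 := fun a => by simp [b]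
  -- weight vectors
  have hρe : ∀ (a : M) (v : V), ρ (e a v) = e a v ⊗ₜ[k] b a := fun a v => by
    let L : V ⊗[k] (H ⊗[k] H) →ₗ[k] V ⊗[k] H :=
      (TensorProduct.rid k H).toLinearMap.lTensor V ∘ₗ ((b.coord a).lTensor H).lTensor V
    have e1 : ∀ z : V ⊗[k] H, L (TensorProduct.assoc k V H H (ρ.rTensor H z)) =
        ρ ((TensorProduct.rid k V) ((b.coord a).lTensor V z)) := fun z => by
      induction z with
      | zero => simp
      | add z z' hz hz' => simp only [map_add, hz, hz']
      | tmul r c =>
        rw [LinearMap.rTensor_tmul, LinearMap.lTensor_tmul, TensorProduct.rid_tmul, map_smul]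
        generalize ρ r = w
        induction w with
        | zero => simp
        | add w w' hw hw' => simp only [TensorProduct.add_tmul, map_add, smul_add, hw, hw']
        | tmul x y => simp [L, TensorProduct.smul_tmul']
    have e2 : ∀ c : H, (TensorProduct.rid k H) ((b.coord a).lTensor H (CoalgebraStruct.comul (R := k) c)) =
        b.coord a c • b a := by
      intro c
      have hL : (TensorProduct.rid k H).toLinearMap ∘ₗ (b.coord a).lTensor H ∘ₗ CoalgebraStruct.comul =
          (b.coord a).smulRight (b a) := b.ext fun a' => by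
        simp only [LinearMap.comp_apply, hcb, LinearMap.lTensor_tmul, LinearEquiv.coe_coe, TensorProduct.rid_tmul,
          LinearMap.smulRight_apply]
        rcases eq_or_ne a' a with h | h
        · subst h; simp
        · simp [h]
      exact LinearMap.congr_fun hL c
    show ρ ((TensorProduct.rid k V) ((b.coord a).lTensor V (ρ v))) = _
    rw [← e1, show TensorProduct.assoc k V H H (ρ.rTensor H (ρ v)) =
      (CoalgebraStruct.comul (R := k) (A := H)).lTensor V (ρ v) from
        LinearMap.congr_fun (HopfRep.Comod.coassoc (k := k) (A := H) (V := V)) v]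
    show L _ = ((TensorProduct.rid k V) ((b.coord a).lTensor V (ρ v))) ⊗ₜ[k] b a
    generalize ρ v = z
    induction z with
    | zero => simp
    | add z z' hz hz' => simp only [map_add, TensorProduct.add_tmul, hz, hz']
    | tmul r c => simp [L, e2, TensorProduct.smul_tmul']
  -- the averaged projection
  have hexp : ∀ v : V, ∃ s : Finset M, v = ∑ a ∈ s, e a v ∧ ρ v = ∑ a ∈ s, e a v ⊗ₜ[k] b a := by
    intro v
    obtain ⟨c, hc'⟩ := TensorProduct.eq_repr_basis_right b (ρ v)
    have he : ∀ a, e a v = c a := fun a => by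
      show (TensorProduct.rid k V) ((b.coord a).lTensor V (ρ v)) = c a
      rw [← hc']
      rcases em (a ∈ c.support) with h | h
      · rw [Finsupp.sum, map_sum, map_sum, Finset.sum_eq_single a]
        · simp
        · intro a' _ hne; simp [hne]
        · intro h'; exact absurd h h'
      · rw [Finsupp.notMem_support_iff.1 h, Finsupp.sum, map_sum, map_sum]
        refine Finset.sum_eq_zero fun a' ha' => ?_
        have : a' ≠ a := fun h' => h (h' ▸ ha')
        simp [this]
    refine ⟨c.support, ?_, ?_⟩
    · have h := LinearMap.congr_fun (HopfRep.Comod.counit_comp (k := k) (A := H) (V := V)) v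
      have h' := congrArg (TensorProduct.rid k V) h
      rw [LinearMap.comp_apply, show HopfRep.Comod.coact (k := k) (A := H) v = ρ v from rfl, ← hc', Finsupp.sum,
        map_sum, map_sum] at h'
      simpa [hεb, he] using h'.symm
    · rw [Finset.sum_congr rfl fun a _ => by rw [he a]]
      exact hc'.symm
  have hcom : ∀ v, ρ (P v) = P.rTensor H (ρ v) := fun v => by
    obtain ⟨s, -, h2⟩ := hexp v
    have hw : ∀ (a : M), P (e a v) = e a (p (e a v)) := fun a => by
      show Ψ (ρ (e a v)) = _
      rw [hρe, hΨ]
    rw [show P v = Ψ (ρ v) from rfl, h2, map_sum, map_sum, map_sum]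
    exact Finset.sum_congr rfl fun a _ => by rw [hΨ, hρe, LinearMap.rTensor_tmul, hw]
  have hWe : ∀ (a : M), ∀ w ∈ W, e a w ∈ W := fun a w hw => by
    obtain ⟨t, ht⟩ := hW w hw
    show (TensorProduct.rid k V) ((b.coord a).lTensor V (ρ w)) ∈ W
    rw [show ρ w = W.subtype.rTensor H t from ht.symm]
    clear ht
    induction t with
    | zero => simp
    | add x y hx hy => rw [map_add, map_add, map_add]; exact add_mem hx hy
    | tmul x c => simp only [LinearMap.rTensor_tmul, LinearMap.lTensor_tmul, TensorProduct.rid_tmul]; exact W.smul_mem _ x.2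
  have hPW : ∀ v, P v ∈ W := fun v => by
    obtain ⟨s, -, h2⟩ := hexp v
    rw [show P v = Ψ (ρ v) from rfl, h2, map_sum]
    exact Submodule.sum_mem _ fun a _ => by rw [hΨ]; exact hWe a _ (Submodule.coe_mem _)
  have hP1 : ∀ w ∈ W, P w = w := fun w hw => by
    obtain ⟨s, h1, h2⟩ := hexp w
    have hidem : ∀ a, e a (e a w) = e a w := fun a => by
      show (TensorProduct.rid k V) ((b.coord a).lTensor V (ρ (e a w))) = _
      rw [hρe]; simp
    have hpw : ∀ a, p (e a w) = e a w := fun a => by
      show ((W.projectionOnto W' hc (e a w) : W) : V) = _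
      exact congrArg Subtype.val (Submodule.projectionOnto_apply_left hc ⟨_, hWe a w hw⟩)
    rw [show P w = Ψ (ρ w) from rfl, h2, map_sum]
    conv_rhs => rw [h1]
    exact Finset.sum_congr rfl fun a _ => by rw [hΨ, hpw, hidem]
  refine ⟨LinearMap.ker P, fun v hv => ?_, ?_, ?_⟩
  · have hker : LinearMap.range ((LinearMap.id : V →ₗ[k] V) - P) = LinearMap.ker P := by
      refine le_antisymm ?_ fun x hx => ⟨x, by simp [LinearMap.mem_ker.1 hx]⟩
      rintro _ ⟨x, rfl⟩
      simp [hP1 _ (hPW x)]
    have h1 : ρ v = ((LinearMap.id : V →ₗ[k] V) - P).rTensor H (ρ v) := by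
      rw [LinearMap.rTensor_sub, LinearMap.sub_apply, ← hcom, LinearMap.mem_ker.1 hv, map_zero, sub_zero,
        LinearMap.rTensor_id, LinearMap.id_apply]
    show ρ v ∈ _
    rw [h1]
    generalize ρ v = z
    induction z with
    | zero => simp
    | add x y hx hy => rw [map_add]; exact add_mem hx hy
    | tmul x c =>
      exact ⟨(⟨((LinearMap.id : V →ₗ[k] V) - P) x, hker ▸ LinearMap.mem_range_self _ x⟩ : LinearMap.ker P) ⊗ₜ c, rfl⟩
  · rw [disjoint_iff, eq_bot_iff]
    rintro x ⟨hxW, hx⟩
    exact (Submodule.mem_bot k).2 (by rw [← hP1 x hxW]; exact hx)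
  · rw [codisjoint_iff, eq_top_iff]
    intro x _
    rw [← add_sub_cancel (P x) x]
    exact Submodule.add_mem_sup (hPW x) (by simp [LinearMap.mem_ker, hP1 _ (hPW x)])

end Groth.Agent.S5228
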