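import Groth.Statements.S5229
-- import your own Groth.Agent.* helpers here

set_option autoImplicit false
set_option linter.style.haveILetI false
open CategoryTheory CategoryTheory.Limits
universe v₁ u₁
open DescCat

namespace Groth.Agent.S5229

/-- For universal effective epimorphisms, in a category with pullbacks and binary products: for two
universally effective equivalence relations `R ⇉ X` and `R' ⇉ X'` with quotient maps `π` and `π'`,
the product relation `R × R' ⇉ X × X'` is the kernel pair of `π × π'`. (Together with the fact that
a product of two universal effective epimorphisms is again one, this says that `(X × X')/(R × R')`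
is `(X/R) × (X'/R')`; only the kernel-pair assertion is stated here.) -/
theorem result {C : Type u₁} [Category.{v₁} C]
    [HasPullbacks C] [HasBinaryProducts C]
    {R X R' X' : C} {p₁ p₂ : R ⟶ X} {p₁' p₂' : R' ⟶ X'}
    (e : UniversallyEffectiveEquivalenceRelation p₁ p₂)
    (e' : UniversallyEffectiveEquivalenceRelation p₁' p₂') :
    IsKernelPair (prod.map e.π e'.π) (prod.map p₁ p₁') (prod.map p₂ p₂') := by
  refine ⟨⟨by ext <;> simp [e.isKernelPair.w, e'.isKernelPair.w]⟩, ⟨PullbackCone.IsLimit.mk _
    (fun s => prod.lift
      (e.isKernelPair.lift (s.fst ≫ prod.fst) (s.snd ≫ prod.fst) (by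
        simpa using s.condition =≫ prod.fst))
      (e'.isKernelPair.lift (s.fst ≫ prod.snd) (s.snd ≫ prod.snd) (by
        simpa using s.condition =≫ prod.snd)))
    (fun s => by ext <;> simp [prod.lift_fst, prod.lift_snd, prod.lift_fst_assoc, prod.lift_snd_assoc])
    (fun s => by ext <;> simp [prod.lift_fst, prod.lift_snd, prod.lift_fst_assoc, prod.lift_snd_assoc])
    (fun s m h₁ h₂ => ?_)⟩⟩
  ext
  · rw [prod.lift_fst]
    apply e.isKernelPair.hom_ext
    · simpa using h₁ =≫ prod.fst
    · simpa using h₂ =≫ prod.fst
  · rw [prod.lift_snd]
    apply e'.isKernelPair.hom_ext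
    · simpa using h₁ =≫ prod.snd
    · simpa using h₂ =≫ prod.snd

end Groth.Agent.S5229
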