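import Groth.Statements.S5231
import Mathlib

set_option autoImplicit false
open CategoryTheory
universe w v₁ u₁
open ShfCat

namespace Groth.Agent.S5231

/-- (iii) ⇒ (i): a morphism `f` of sheaves of sets on a site is a monomorphism (resp. an epimorphism) as
soon as, for every object `S`, the morphisms `T ⟶ S` over which the restriction of `f` to the
induced site `C/T` is a monomorphism (resp. an epimorphism) form a covering sieve. No sheafification
is assumed. (The published statement also treats isomorphisms in the same way; that case is left out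
here.) -/
theorem result {C : Type u₁} [Category.{v₁} C]
    (J : GrothendieckTopology C) {F G : Sheaf J (Type w)} (f : F ⟶ G) :
    ((∀ S : C, ∃ R : Sieve S, R ∈ J S ∧ ∀ ⦃T : C⦄ (g : T ⟶ S), R g →
        Mono ((J.overPullback (Type w) T).map f)) → Mono f) ∧
    ((∀ S : C, ∃ R : Sieve S, R ∈ J S ∧ ∀ ⦃T : C⦄ (g : T ⟶ S), R g →
        Epi ((J.overPullback (Type w) T).map f)) → Epi f) := by
  constructor
  · intro h
    refine ⟨fun {H} a b hab => ?_⟩
    ext : 1
    refine NatTrans.ext (funext fun X => ?_)
    obtain ⟨X⟩ := X
    refine ConcreteCategory.hom_ext _ _ fun x => ?_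
    obtain ⟨R, hR, hT⟩ := h X
    refine (((isSheaf_iff_isSheaf_of_type J F.obj).1 F.property).isSeparated R hR).ext ?_
    intro T g hg
    haveI := hT g hg
    have hab' : (J.overPullback (Type w) T).map a ≫ (J.overPullback (Type w) T).map f
        = (J.overPullback (Type w) T).map b ≫ (J.overPullback (Type w) T).map f := by
      rw [← Functor.map_comp, ← Functor.map_comp, hab]
    have e := (cancel_mono _).1 hab'
    have e' : a.hom.app (Opposite.op T) = b.hom.app (Opposite.op T) :=
      NatTrans.congr_app (congrArg InducedCategory.Hom.hom e) (Opposite.op (Over.mk (𝟙 T)))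
    rw [← NatTrans.naturality_apply a.hom g.op x, ← NatTrans.naturality_apply b.hom g.op x, e']
  · intro h
    refine ⟨fun {H} a b hab => ?_⟩
    ext : 1
    refine NatTrans.ext (funext fun X => ?_)
    obtain ⟨X⟩ := X
    refine ConcreteCategory.hom_ext _ _ fun x => ?_
    obtain ⟨R, hR, hT⟩ := h X
    refine (((isSheaf_iff_isSheaf_of_type J H.obj).1 H.property).isSeparated R hR).ext ?_
    intro T g hg
    haveI := hT g hg
    have hab' : (J.overPullback (Type w) T).map f ≫ (J.overPullback (Type w) T).map a
        = (J.overPullback (Type w) T).map f ≫ (J.overPullback (Type w) T).map b := by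
      rw [← Functor.map_comp, ← Functor.map_comp, hab]
    have e := (cancel_epi _).1 hab'
    have e' : a.hom.app (Opposite.op T) = b.hom.app (Opposite.op T) :=
      NatTrans.congr_app (congrArg InducedCategory.Hom.hom e) (Opposite.op (Over.mk (𝟙 T)))
    rw [← NatTrans.naturality_apply a.hom g.op x, ← NatTrans.naturality_apply b.hom g.op x, e']

end Groth.Agent.S5231
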