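import Groth.Statements.S5233
import Groth.Agent.S4667
import Groth.Agent.MultLiftLib.KerBot
import Mathlib
-- import your own Groth.Agent.* helpers here

set_option autoImplicit false
open CategoryTheory CategoryTheory.Limits AlgebraicGeometry
universe u
open GrpQ

namespace Groth.Agent.S5233


theorem ker_comp_flat {W A B : Scheme.{u}} (q : W ⟶ A) (h : A ⟶ B) [Flat q] [Surjective q] :
    (q ≫ h).ker = h.ker := by
  rw [← Scheme.IdealSheafData.map_ker, MultLift.ker_eq_bot_of_flat_surjective,
    Scheme.IdealSheafData.map_bot]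

theorem ker_snd {Z A B : Scheme.{u}} (i : Z ⟶ B) (f : A ⟶ B) [IsClosedImmersion i] :
    (pullback.snd i f).ker = i.ker.comap f := by
  rw [← Scheme.IdealSheafData.ker_fst_of_isClosedImmersion, ← pullbackSymmetry_hom_comp_fst,
    Scheme.Hom.ker_comp_of_isIso]

theorem map_comap_eq {Z A B : Scheme.{u}} (i : Z ⟶ B) (f : A ⟶ B) [IsClosedImmersion i] [Flat f]
    [Surjective f] : (i.ker.comap f).map f = i.ker := by
  haveI : Surjective (pullback.fst i f) := MorphismProperty.pullback_fst _ _ inferInstance
  rw [← ker_snd, Scheme.IdealSheafData.map_ker, ← pullback.condition, ker_comp_flat]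

theorem mk_eq_of_ker {A B C : Scheme.{u}} (a : A ⟶ C) (b : B ⟶ C) [IsClosedImmersion a]
    [IsClosedImmersion b] (h : a.ker = b.ker) : Subobject.mk a = Subobject.mk b := by
  have ha : Subobject.mk a = Subobject.mk a.ker.subschemeι :=
    Subobject.mk_eq_mk_of_comm _ _ (asIso a.toImage) a.toImage_imageι
  have hb : Subobject.mk b = Subobject.mk b.ker.subschemeι :=
    Subobject.mk_eq_mk_of_comm _ _ (asIso b.toImage) b.toImage_imageι
  rw [ha, hb]
  generalize a.ker = I at h
  subst h
  rfl

theorem ker_eq_of_mk_eq {A B C : Scheme.{u}} (a : A ⟶ C) (b : B ⟶ C) [Mono a] [Mono b]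
    (h : Subobject.mk a = Subobject.mk b) : a.ker = b.ker := by
  have : (Subobject.isoOfMkEqMk a b h).hom ≫ b = a := Subobject.ofMkLEMk_comp h.le
  rw [← this, Scheme.Hom.ker_comp_of_isIso]

theorem isClosedImmersion_mk {A B : Scheme.{u}} (a : A ⟶ B) [IsClosedImmersion a] :
    IsClosedImmersion (Subobject.mk a).arrow := by
  rw [← Subobject.underlyingIso_hom_comp_eq_mk a]
  infer_instance

theorem pullback_mk {A B Z : Scheme.{u}} (f : A ⟶ B) (i : Z ⟶ B) [IsClosedImmersion i] :
    (Subobject.pullback f).obj (Subobject.mk i) = Subobject.mk (pullback.snd i f) :=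
  Subobject.pullback_obj_mk (IsPullback.of_hasPullback i f)

/-- For schemes, with (M) the faithfully flat quasi-compact morphisms and (N) the closed immersions: if
`π : X ⟶ X'` is flat, surjective and quasi-compact (so `X' = X/R` for its kernel pair `R ⇉ X`), then
`Y' ↦ π⁻¹(Y')` is a bijection from closed subschemes of `X'` onto the closed subschemes of `X`
stable under `R`. -/
theorem result {X X' : Scheme.{u}} (π : X ⟶ X')
    [Flat π] [Surjective π] [QuasiCompact π] :
    Set.BijOn (Subobject.pullback π).obj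
      {Y' : Subobject X' | IsClosedImmersion Y'.arrow}
      {Y : Subobject X | IsClosedImmersion Y.arrow ∧
        (Subobject.pullback (pullback.fst π π)).obj Y = (Subobject.pullback (pullback.snd π π)).obj Y} := by
  refine ⟨?_, ?_, ?_⟩
  · intro Y' (hY' : IsClosedImmersion Y'.arrow)
    rw [← Subobject.mk_arrow Y', pullback_mk]
    refine ⟨isClosedImmersion_mk _, ?_⟩
    rw [pullback_mk, pullback_mk]
    refine mk_eq_of_ker _ _ ?_
    simp only [ker_snd, ← Scheme.IdealSheafData.comap_comp, pullback.condition]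
  · intro Y₁ (h₁ : IsClosedImmersion Y₁.arrow) Y₂ (h₂ : IsClosedImmersion Y₂.arrow) h
    rw [← Subobject.mk_arrow Y₁, ← Subobject.mk_arrow Y₂, pullback_mk, pullback_mk] at h
    have hk := congrArg (fun I : X.IdealSheafData => I.map π) (ker_eq_of_mk_eq _ _ h)
    simp only [ker_snd, map_comap_eq] at hk
    rw [← Subobject.mk_arrow Y₁, ← Subobject.mk_arrow Y₂]
    exact mk_eq_of_ker _ _ hk
  · rintro Y ⟨(hY : IsClosedImmersion Y.arrow), heq⟩
    rw [← Subobject.mk_arrow Y] at heq ⊢
    rw [pullback_mk, pullback_mk] at heq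
    have hk : (pullback.snd Y.arrow (pullback.fst π π)).ker =
        (pullback.snd Y.arrow (pullback.snd π π)).ker := ker_eq_of_mk_eq _ _ heq
    refine ⟨Subobject.mk (Y.arrow ≫ π).ker.subschemeι, isClosedImmersion_mk _, ?_⟩
    rw [pullback_mk]
    refine mk_eq_of_ker _ _ ?_
    rw [ker_snd, Scheme.IdealSheafData.ker_subschemeι, ← Groth.Agent.S4667.result,
      ← Scheme.Hom.ker_comp_of_isIso (pullbackRightPullbackFstIso π π Y.arrow).hom,
      pullbackRightPullbackFstIso_hom_snd, ← Scheme.IdealSheafData.map_ker, hk,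
      Scheme.IdealSheafData.map_ker, ← pullback.condition]
    haveI : Surjective (pullback.snd π π) := MorphismProperty.pullback_snd _ _ inferInstance
    haveI : Surjective (pullback.fst Y.arrow (pullback.snd π π)) :=
      MorphismProperty.pullback_fst _ _ inferInstance
    exact ker_comp_flat _ _

end Groth.Agent.S5233
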