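import Groth.Statements.S5234
import Groth.Agent.SweepSix.FlatCancel

set_option autoImplicit false
open CategoryTheory CategoryTheory.Limits AlgebraicGeometry MonoidalCategory
universe u
open RedSub
set_option backward.isDefEq.respectTransparency false

namespace Groth.Agent.S5234

open CartesianMonoidalCategory SemiCartesianMonoidalCategory in
/-- (ii) ⇔ (iii), for schemes with the fppf topology: let `G` be an `S`-group scheme which is faithfully
flat and locally of finite presentation over `S`, acting on `X` so that `X` is formally principal
homogeneous. Then `X` is a torsor (its structure map is faithfully flat and locally of finite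
presentation) if and only if `X` has a point over some faithfully flat, locally finitely presented
`S' ⟶ S`. -/
theorem result {S : Scheme.{u}} {G X : Over S} [GrpObj G]
    (a : AlgGrp.Action G X)
    [Flat G.hom] [Surjective G.hom] [LocallyOfFinitePresentation G.hom]
    (hX : IsIso (lift a.act (snd G X))) :
    RedSub.IsTorsor a ↔
      ∃ S' : Over S, Surjective S'.hom ∧ Flat S'.hom ∧ LocallyOfFinitePresentation S'.hom ∧
        Nonempty (S' ⟶ X) := by
  constructor
  · rintro ⟨h1, h2, h3, -⟩
    exact ⟨X, h1, h2, h3, ⟨𝟙 X⟩⟩
  · rintro ⟨S', hs, hf, hl, ⟨x⟩⟩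
    haveI := hX
    let m : G ⊗ S' ⟶ X ⊗ S' := lift ((G ◁ x) ≫ a.act) (snd G S')
    let n : X ⊗ S' ⟶ G ⊗ S' :=
      lift ((X ◁ x) ≫ inv (lift a.act (snd G X)) ≫ fst G X) (snd X S')
    have hm : m ≫ (X ◁ x) = (G ◁ x) ≫ lift a.act (snd G X) := by ext <;> simp [m]
    have hsnd : inv (lift a.act (snd G X)) ≫ snd G X = snd X X := by
      rw [IsIso.inv_comp_eq, lift_snd]
    have hn : n ≫ (G ◁ x) = (X ◁ x) ≫ inv (lift a.act (snd G X)) := by
      apply CartesianMonoidalCategory.hom_ext
      · simp [n]
      · simp [n, hsnd]
    have hact : inv (lift a.act (snd G X)) ≫ a.act = fst X X := by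
      rw [IsIso.inv_comp_eq, lift_fst]
    have e1 : m ≫ n = 𝟙 _ := by
      apply CartesianMonoidalCategory.hom_ext
      · simp only [n, Category.assoc, lift_fst, Category.id_comp]
        rw [reassoc_of% hm, IsIso.hom_inv_id_assoc]
        simp
      · simp [m, n]
    have e2 : n ≫ m = 𝟙 _ := by
      apply CartesianMonoidalCategory.hom_ext
      · simp only [m, Category.assoc, lift_fst, Category.id_comp]
        rw [reassoc_of% hn, hact]
        simp
      · simp [m, n]
    haveI : IsIso m := ⟨n, e1, e2⟩
    haveI : IsIso m.left := inferInstanceAs (IsIso ((Over.forget S).map m))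
    haveI := hs
    haveI := hf
    haveI := hl
    have hw : m.left ≫ pullback.snd X.hom S'.hom = pullback.snd G.hom S'.hom := by
      have := congrArg (fun k => k.left) (lift_snd ((G ◁ x) ≫ a.act) (snd G S'))
      simpa [m] using this
    haveI : Surjective (pullback.snd X.hom S'.hom) := by
      haveI : Surjective (m.left ≫ pullback.snd X.hom S'.hom) := by rw [hw]; infer_instance
      exact Surjective.of_comp m.left _
    haveI : Flat (pullback.snd X.hom S'.hom) := by
      have h0 : Flat (pullback.snd G.hom S'.hom) := inferInstance
      rw [← hw] at h0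
      exact (MorphismProperty.cancel_left_of_respectsIso (P := @Flat) m.left _).mp h0
    have hlfp : LocallyOfFinitePresentation (pullback.snd X.hom S'.hom) := by
      have h0 : LocallyOfFinitePresentation (pullback.snd G.hom S'.hom) := inferInstance
      rw [← hw] at h0
      exact (MorphismProperty.cancel_left_of_respectsIso (P := @LocallyOfFinitePresentation) m.left _).mp h0
    haveI hsX : Surjective X.hom := by
      haveI : Surjective (pullback.fst X.hom S'.hom ≫ X.hom) := by
        rw [pullback.condition]; infer_instance
      exact Surjective.of_comp (pullback.fst X.hom S'.hom) _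
    refine ⟨hsX, ?_, ?_, hX⟩
    · refine (Flat.iff_flat_stalkMap X.hom).mpr fun b => ?_
      obtain ⟨y, hy⟩ := (pullback.fst X.hom S'.hom).surjective b
      subst hy
      haveI : Flat (pullback.fst X.hom S'.hom ≫ X.hom) := by
        rw [pullback.condition]; infer_instance
      have h2 := (Flat.iff_flat_stalkMap (pullback.fst X.hom S'.hom ≫ X.hom)).mp inferInstance y
      rw [Scheme.Hom.stalkMap_comp] at h2
      exact _root_.SweepSix.flat_of_comp _ _
        ((Flat.iff_flat_stalkMap (pullback.fst X.hom S'.hom)).mp inferInstance y) h2
    · exact MorphismProperty.of_pullback_snd_of_descendsAlong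
        (P := @LocallyOfFinitePresentation)
        (Q := @Surjective ⊓ @Flat ⊓ @LocallyOfFinitePresentation)
        (f := X.hom) (g := S'.hom) ⟨⟨hs, hf⟩, hl⟩ hlfp

end Groth.Agent.S5234
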