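import Groth.Statements.S5235
import Mathlib
-- import your own Groth.Agent.* helpers here

set_option autoImplicit false
open CategoryTheory CategoryTheory.Limits AlgebraicGeometry
universe u
open GrpQ

namespace Groth.Agent.S5235


theorem pullback_mk_ι {A B : Scheme.{u}} (f : A ⟶ B) (U : B.Opens) :
    (Subobject.pullback f).obj (Subobject.mk U.ι) = Subobject.mk (f ⁻¹ᵁ U).ι :=
  Subobject.pullback_obj_mk (isPullback_morphismRestrict f U)

theorem isOpenImmersion_mk_ι {A : Scheme.{u}} (U : A.Opens) :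
    IsOpenImmersion (Subobject.mk U.ι).arrow := by
  rw [← Subobject.underlyingIso_hom_comp_eq_mk U.ι]
  infer_instance

theorem eq_mk_ι {A : Scheme.{u}} (Y : Subobject A) (h : IsOpenImmersion Y.arrow) :
    Y = Subobject.mk Y.arrow.opensRange.ι := by
  conv_lhs => rw [← Subobject.mk_arrow Y]
  exact Subobject.mk_eq_mk_of_comm _ _ Y.arrow.isoOpensRange (Scheme.Hom.isoOpensRange_hom_ι _)

theorem range_arrow_mk_ι {A : Scheme.{u}} (U : A.Opens) :
    Set.range (Subobject.mk U.ι).arrow.base = (U : Set A) := by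
  rw [← Subobject.underlyingIso_hom_comp_eq_mk U.ι, Scheme.Hom.comp_base, TopCat.coe_comp,
    Set.range_comp,
    show Set.range (Subobject.underlyingIso U.ι).hom.base = Set.univ from
      Set.range_eq_univ.mpr (Subobject.underlyingIso U.ι).hom.homeomorph.surjective, Set.image_univ,
    Scheme.Opens.range_ι]

theorem mk_ι_congr {A : Scheme.{u}} {U V : A.Opens} (h : U = V) :
    Subobject.mk U.ι = Subobject.mk V.ι := by
  subst h
  rfl

theorem mk_ι_inj {A : Scheme.{u}} {U V : A.Opens} (h : Subobject.mk U.ι = Subobject.mk V.ι) : U = V := by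
  refine TopologicalSpace.Opens.ext ?_
  rw [← range_arrow_mk_ι U, h, range_arrow_mk_ι]

/-- For schemes, with (M) the faithfully flat quasi-compact morphisms and (N) the open immersions: if `π
: X ⟶ X'` is flat, surjective and quasi-compact, then `Y' ↦ π⁻¹(Y')` is a bijection from open
subschemes of `X'` onto the open subschemes of `X` stable under the kernel pair of `π`. -/
theorem result {X X' : Scheme.{u}} (π : X ⟶ X')
    [Flat π] [Surjective π] [QuasiCompact π] :
    Set.BijOn (Subobject.pullback π).obj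
      {Y' : Subobject X' | IsOpenImmersion Y'.arrow}
      {Y : Subobject X | IsOpenImmersion Y.arrow ∧
        (Subobject.pullback (pullback.fst π π)).obj Y = (Subobject.pullback (pullback.snd π π)).obj Y} := by
  refine ⟨?_, ?_, ?_⟩
  · intro Y' hY'
    rw [eq_mk_ι Y' hY', pullback_mk_ι]
    refine ⟨isOpenImmersion_mk_ι _, ?_⟩
    rw [pullback_mk_ι, pullback_mk_ι, ← Scheme.Hom.comp_preimage, ← Scheme.Hom.comp_preimage,
      pullback.condition]
  · intro Y₁ h₁ Y₂ h₂ h
    rw [eq_mk_ι Y₁ h₁, eq_mk_ι Y₂ h₂, pullback_mk_ι, pullback_mk_ι] at h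
    rw [eq_mk_ι Y₁ h₁, eq_mk_ι Y₂ h₂]
    haveI : IsOpenImmersion Y₁.arrow := h₁
    haveI : IsOpenImmersion Y₂.arrow := h₂
    have e : Y₁.arrow.opensRange = Y₂.arrow.opensRange := TopologicalSpace.Opens.ext
      (π.surjective.preimage_injective (congrArg (fun U : X.Opens => (U : Set X)) (mk_ι_inj h)))
    exact mk_ι_congr e
  · rintro Y ⟨hY, heq⟩
    rw [eq_mk_ι Y hY] at heq ⊢
    rw [pullback_mk_ι, pullback_mk_ι] at heq
    have heq' := mk_ι_inj heq
    generalize Y.arrow.opensRange = U at heq' ⊢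
    have hsat : π.base ⁻¹' (π.base '' (U : Set X)) = U := by
      refine Set.Subset.antisymm ?_ (Set.subset_preimage_image _ _)
      rintro b ⟨a, ha, hab⟩
      obtain ⟨p, hp₁, hp₂⟩ := Scheme.Pullback.exists_preimage_pullback (f := π) (g := π) a b hab
      have hp : p ∈ pullback.fst π π ⁻¹ᵁ U := show (pullback.fst π π).base p ∈ U by rw [hp₁]; exact ha
      rw [heq'] at hp
      rw [← hp₂]
      exact hp
    have hopen : IsOpen (π.base '' (U : Set X)) := by
      rw [← (Flat.isQuotientMap_of_surjective π).isOpen_preimage, hsat]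
      exact U.2
    refine ⟨Subobject.mk (Scheme.Opens.ι (⟨_, hopen⟩ : X'.Opens)), isOpenImmersion_mk_ι _, ?_⟩
    rw [pullback_mk_ι]
    have e : π ⁻¹ᵁ (⟨_, hopen⟩ : X'.Opens) = U := TopologicalSpace.Opens.ext hsat
    exact mk_ι_congr e

end Groth.Agent.S5235
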