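import Groth.Statements.S5236
import Groth.Agent.MonoQuotLib.QuotGrp

set_option autoImplicit false
open CategoryTheory CategoryTheory.Limits AlgebraicGeometry MonoidalCategory
universe u
open RedSub

namespace Groth.Agent.S5236
theorem grpObj_ext {D : Type*} [Category D] [CartesianMonoidalCategory D] {X : D}
    (s t : GrpObj X) (h : s.toMonObj = t.toMonObj) : s = t := by
  cases s with
  | mk i l r =>
    cases t with
    | mk i' l' r' =>
      subst h
      letI G : GrpObj X := { inv := i, left_inv := l, right_inv := r }
      have : i' = i := by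
        apply GrpObj.lift_left_mul_ext (𝟙 X)
        exact l'.trans l.symm
      subst this
      rfl

/-- For group schemes and the fppf topology: if `i : H ⟶ G` is a normal monomorphism of `S`-group
schemes and `q : G ⟶ Q` exhibits `Q` as the fppf quotient `G/H`, then there is exactly one
group-scheme structure on `Q` over `S` making `q` a homomorphism. -/
theorem result {S : Scheme.{u}} {H G Q : Over S} [GrpObj H] [hG : GrpObj G]
    (i : H ⟶ G) [IsMonHom i] [Mono i] (hn : AlgGrp.IsNormalHom i)
    (q : G ⟶ Q) (hq : RedSub.IsQuotient i q) :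
    ∃! s : GrpObj Q, @IsMonHom (Over S) _ _ G Q hG.toMonObj s.toMonObj q := by
  obtain ⟨h1, h2, h3, hsq⟩ := hq
  have hp : MonoQuot.IsCov q.left := MonoQuot.IsCov.of_fppf _
  obtain ⟨s, hs⟩ := MonoQuot.exists_grpObj_quotient hp hn hsq
  refine ⟨s, hs, fun s' hs' => ?_⟩
  have hmon : s'.toMonObj = s.toMonObj := by
    apply MonObj.ext
    haveI := hp.epi_tensor hp
    rw [← cancel_epi (q ⊗ₘ q)]
    exact (hs'.mul_hom).symm.trans hs.mul_hom
  exact grpObj_ext s' s hmon

end Groth.Agent.S5236
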