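import Groth.Statements.S5237
import Mathlib
import Groth.Agent.MonoQuotLib.Orbit
-- import your own Groth.Agent.* helpers here

set_option autoImplicit false
set_option backward.isDefEq.respectTransparency false
open CategoryTheory CategoryTheory.Limits AlgebraicGeometry MonoidalCategory
universe u
open RedSub

namespace Groth.Agent.S5237

open MonObj GrpObj CartesianMonoidalCategory in
/-- For group schemes and the fppf topology: if `q : G ⟶ Q = G/H` is the fppf quotient of `G` by a
normal subgroup `H`, with its group structure, then a homomorphism `G ⟶ K` that kills `H` factors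
uniquely through `q`, and the factorisation is a homomorphism. -/
theorem result {S : Scheme.{u}} {H G Q K : Over S}
    [GrpObj H] [GrpObj G] [GrpObj Q] [GrpObj K]
    (i : H ⟶ G) [IsMonHom i] [Mono i] (hn : AlgGrp.IsNormalHom i)
    (q : G ⟶ Q) [IsMonHom q] (hq : RedSub.IsQuotient i q)
    (f : G ⟶ K) [IsMonHom f] (hf : i ≫ f = 1) :
    ∃! g : Q ⟶ K, q ≫ g = f ∧ IsMonHom g := by
  obtain ⟨hs, hfl, hlfp, sq⟩ := hq
  haveI := hs; haveI := hfl; haveI := hlfp
  obtain ⟨g, hg⟩ := Groth.Agent.MonoQuot.exists_desc_over q f fun T a b e => by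
    obtain ⟨l, hl1, h1⟩ : ∃ l : T ⟶ MonoidalCategoryStruct.tensorObj G H, l ≫ fst G H = a ∧
        l ≫ MonoidalCategoryStruct.whiskerLeft G i ≫ μ[G] = b := ⟨sq.lift a b e, sq.lift_fst _ _ _, sq.lift_snd _ _ _⟩
    rw [Groth.Agent.MonoQuot.mulHom_eq, MonObj.comp_mul, hl1] at h1
    rw [← h1, MonObj.mul_comp]
    simp only [Category.assoc, hf, MonObj.comp_one, _root_.mul_one]
  haveI : Epi q := Groth.Agent.MonoQuot.epi_over q
  obtain ⟨f1, f2, f3⟩ := Groth.Agent.MonoQuot.fppf_tensor q q
  haveI := f1; haveI := f2; haveI := f3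
  haveI : Epi (MonoidalCategory.tensorHom q q) := Groth.Agent.MonoQuot.epi_over _
  have hgm : IsMonHom g := by
    refine ⟨?_, ?_⟩
    · rw [← IsMonHom.one_hom q, Category.assoc, hg, IsMonHom.one_hom f]
    · rw [← cancel_epi (MonoidalCategory.tensorHom q q), ← Category.assoc, ← IsMonHom.mul_hom q, Category.assoc,
        hg, IsMonHom.mul_hom f, ← Category.assoc, MonoidalCategory.tensorHom_comp_tensorHom, hg]
  exact ⟨g, ⟨hg, hgm⟩, fun g' hg' => by rw [← cancel_epi q, hg'.1, hg]⟩

end Groth.Agent.S5237
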