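import Groth.Statements.S5238
import Mathlib
import Groth.Agent.QFSectLib.Scheme
-- import your own Groth.Agent.* helpers here

set_option autoImplicit false
open CategoryTheory AlgebraicGeometry Limits
universe w u
open GrpQ

namespace Groth.Agent.S5238

theorem isSeparated_iso {X Y : Scheme.{u}} (e : X ≅ Y) (F : Scheme.{u}ᵒᵖ ⥤ Type w) :
    Function.Injective (F.map e.hom.op) := fun a b h => by
  have := congrArg (F.map e.inv.op) h
  simpa [← Functor.map_comp_apply, ← op_comp] using this


/-- A presheaf of sets on schemes is a sheaf for the fppf topology (the topology generated by jointly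
surjective families of flat morphisms locally of finite presentation) if and only if it is a Zariski
sheaf and satisfies the sheaf condition for every single morphism of affine schemes `T ⟶ S` which is
flat, surjective, locally of finite presentation and locally quasi-finite. (Between affine schemes
such a morphism is faithfully flat, of finite presentation and quasi-finite; that these quasi-finite
covers suffice rests on the existence of quasi-finite flat quasi-sections of flat surjective
morphisms locally of finite presentation.) -/
theorem result (F : Scheme.{u}ᵒᵖ ⥤ Type w) :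
    Presheaf.IsSheaf Scheme.fppfTopology F ↔
      Presheaf.IsSheaf Scheme.zariskiTopology F ∧
        ∀ (T S : Scheme.{u}) [IsAffine T] [IsAffine S] (f : T ⟶ S)
          [Flat f] [Surjective f] [LocallyOfFinitePresentation f] [LocallyQuasiFinite f],
          Presieve.IsSheafFor F (Presieve.singleton f) := by
  have hP : Scheme.fppfTopology.{u} = Scheme.propQCTopology ((@Flat : MorphismProperty Scheme.{u}) ⊓ @LocallyOfFinitePresentation) := by
    show Scheme.fppfPrecoverage.toGrothendieck = (Scheme.propQCPrecoverage ((@Flat : MorphismProperty Scheme.{u}) ⊓ @LocallyOfFinitePresentation)).toGrothendieck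
    congr 1
    exact le_antisymm (le_inf (Scheme.precoverage_le_qcPrecoverage_of_isOpenMap fun X Y f ⟨_, _⟩ ↦ f.isOpenMap) le_rfl)
      inf_le_right
  haveI : MorphismProperty.IsMultiplicative @LocallyOfFinitePresentation.{u} :=
    { id_mem := fun X => inferInstance }
  rw [hP, isSheaf_iff_isSheaf_of_type, isSheaf_iff_isSheaf_of_type, isSheaf_type_propQCTopology_iff]
  refine and_congr_right fun hzar => ⟨?_, ?_⟩
  · intro h T S _ _ f _ _ _ _
    obtain ⟨φ, hφ⟩ := Spec.map_surjective (T.isoSpec.inv ≫ f ≫ S.isoSpec.hom)
    haveI : Surjective (T.isoSpec.inv ≫ f ≫ S.isoSpec.hom) := inferInstance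
    have h1 := h φ (by rw [hφ]; exact ⟨inferInstance, inferInstance⟩) (by rw [hφ]; infer_instance)
    rw [hφ, Presieve.isSheafFor_singleton] at h1
    rw [Presieve.isSheafFor_singleton]
    intro x hx
    obtain ⟨y, hy, huniq⟩ := h1 (F.map T.isoSpec.inv.op x) fun p₁ p₂ hp => by
      rw [← Functor.map_comp_apply, ← Functor.map_comp_apply, ← op_comp, ← op_comp]
      refine hx _ _ ?_
      rw [← cancel_mono S.isoSpec.hom]
      simpa using hp
    refine ⟨F.map S.isoSpec.hom.op y, ?_, fun z hz => ?_⟩
    · apply (isSeparated_iso T.isoSpec.symm F)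
      dsimp only [Iso.symm_hom]
      rw [← hy, ← Functor.map_comp_apply, ← Functor.map_comp_apply, ← op_comp, ← op_comp]
      simp
    · have := huniq (F.map S.isoSpec.inv.op z) (by
        show F.map (T.isoSpec.inv ≫ f ≫ S.isoSpec.hom).op (F.map S.isoSpec.inv.op z) = F.map T.isoSpec.inv.op x
        change F.map f.op z = x at hz
        rw [← hz, ← Functor.map_comp_apply, ← Functor.map_comp_apply, ← op_comp, ← op_comp]
        simp)
      rw [← this, ← Functor.map_comp_apply, ← op_comp, Iso.hom_inv_id, op_id, F.map_id]
      rfl
  · intro h R S φ hf hs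
    haveI : Flat (Spec.map φ) := hf.1
    haveI : LocallyOfFinitePresentation (Spec.map φ) := hf.2
    haveI : Surjective (Spec.map φ) := hs
    obtain ⟨T, s, hT, hfp, hqf, hsurj, hflat⟩ := QFSectLib.exists_affine_section (Spec.map φ)
    haveI := hflat inferInstance
    have hg := Presieve.isSheafFor_singleton.1 (h T _ (s ≫ Spec.map φ))
    have hsep := Presieve.isSeparatedFor_singleton.1 (h (pullback (Spec.map φ) (s ≫ Spec.map φ)) _
      (pullback.fst (Spec.map φ) (s ≫ Spec.map φ))).isSeparatedFor
    have hinj := Presieve.isSeparatedFor_singleton.1 (h T _ (s ≫ Spec.map φ)).isSeparatedFor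
    rw [Presieve.isSheafFor_singleton]
    intro x hx
    obtain ⟨y, hy, huniq⟩ := hg (F.map s.op x) fun p₁ p₂ hp => by
      rw [← Functor.map_comp_apply, ← Functor.map_comp_apply, ← op_comp, ← op_comp]
      exact hx _ _ (by simpa using hp)
    refine ⟨y, hsep ?_, fun z hz => hinj ?_⟩
    · rw [← Functor.map_comp_apply, ← op_comp, pullback.condition, op_comp, Functor.map_comp_apply, hy,
        ← Functor.map_comp_apply, ← op_comp]
      exact hx _ _ (by rw [Category.assoc, pullback.condition])
    · rw [hy, ← hz, ← Functor.map_comp_apply, ← op_comp]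

end Groth.Agent.S5238
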