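import Groth.Statements.S5255
import Groth.Agent.NormCentLib.Global

set_option autoImplicit false
open CategoryTheory MonoidalCategory CartesianMonoidalCategory MonObj GrpObj AlgebraicGeometry
universe u
open SGA3x

namespace Groth.Agent.S5255

/-- Let K be an S-group locally of finite type over S whose fibres are connected, and i : H ⟶ K a
subgroup scheme of multiplicative type and of finite type which is normal in K. Then H is central in
K: for every S-scheme X, every X-point of K commutes with (the image of) every X-point of H. -/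
theorem result {S : Scheme.{u}} (K H : Over S) [GrpObj K] [GrpObj H]
    [LocallyOfFiniteType K.hom] (hconn : ∀ s : S, ConnectedSpace ↥(Limits.pullback K.hom (S.fromSpecResidueField s)))
    (i : H ⟶ K) [IsMonHom i] [Mono i] (hH : SGA3x.IsMultTypeFT H) (hn : AlgGrp.IsNormalHom i) :
    ∀ (X : Over S) (k : X ⟶ K) (h : X ⟶ H), k * (h ≫ i) = (h ≫ i) * k := by
  obtain ⟨c, hc⟩ := hn (K ⊗ H) (fst K H) (snd K H)
  have hc' : ∀ (Y : Over S) (k : Y ⟶ K) (h : Y ⟶ H), (lift k h ≫ c) ≫ i = k * (h ≫ i) * k⁻¹ := fun Y k h => by
    rw [Category.assoc, ← hc, MonObj.comp_mul, MonObj.comp_mul, GrpObj.comp_inv, lift_fst, lift_snd_assoc]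
  have hmul : NormCent.Mult c := fun Y k h h' => by
    rw [← cancel_mono i, hc', MonObj.mul_comp, MonObj.mul_comp, hc', hc']
    simp only [_root_.mul_assoc, inv_mul_cancel_left]
  have hone : ∀ T : Over S, NormCent.Triv c (1 : T ⟶ K) := fun T Y y h => by
    rw [← cancel_mono i, hc', MonObj.comp_one, _root_.one_mul, inv_one, _root_.mul_one]
  have e := NormCent.eq_snd_of_connected hconn hH c hmul hone
  intro X k h
  have h1 := hc' X k h
  rw [e, lift_snd, eq_mul_inv_iff_mul_eq] at h1
  exact h1.symm

end Groth.Agent.S5255
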