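import Groth.Statements.S5270
import Mathlib.RingTheory.AdicCompletion.Noetherian
import Mathlib.RingTheory.Flat.FaithfullyFlat.Algebra
import Mathlib.LinearAlgebra.TensorProduct.Quotient

set_option autoImplicit false
universe u
open TensorProduct SGA3b
open SGA3b

namespace Groth.Agent.S5270

/-- Injectivity of the map to formal homomorphisms. Let A be a Noetherian ring, separated and complete
for the I-adic topology, H = Spec B an isotrivial A-group of multiplicative type and G = Spec C an
affine A-group. If two homomorphisms H ⟶ G, given by bialgebra maps φ, ψ : C → B, have the same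
reduction modulo I^(n+1) for every n ≥ 0, then φ = ψ. (Affine group schemes over an affine base are
taken in Hopf-algebra form; base change is the tensor product; a homomorphism of groups Spec A ⟶
Spec C is a bialgebra map C → A.) -/
theorem result (A : Type u) [CommRing A] [IsNoetherianRing A] (I : Ideal A) [IsAdicComplete I A]
    (B : Type u) [CommRing B] [HopfAlgebra A B] (hH : IsIsotrivial A B)
    (C : Type u) [CommRing C] [HopfAlgebra A C] (φ ψ : C →ₐc[A] B)
    (h : ∀ (n : ℕ) (c : C), (1 : A ⧸ I ^ (n + 1)) ⊗ₜ[A] (φ c) = (1 : A ⧸ I ^ (n + 1)) ⊗ₜ[A] (ψ c)) :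
    φ = ψ := by
  obtain ⟨R', _, _, _, _, _, M, _, ⟨e⟩⟩ := hH
  classical
  haveI : IsHausdorff I R' := IsHausdorff.of_le_jacobson _ _ (IsAdicComplete.le_jacobson_bot I)
  refine DFunLike.ext _ _ fun c => ?_
  rw [← sub_eq_zero]
  have hmem : ∀ n : ℕ, φ c - ψ c ∈ (I ^ (n + 1) • ⊤ : Submodule A B) := by
    intro n
    have h1 := h n c
    rw [← sub_eq_zero, ← TensorProduct.tmul_sub] at h1
    have h2 := congrArg (TensorProduct.quotTensorEquivQuotSMul B (I ^ (n + 1))) h1
    simp [← Submodule.Quotient.mk_sub, Submodule.Quotient.mk_eq_zero] at h2 ⊢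
    exact h2
  generalize φ c - ψ c = d at hmem ⊢
  let ι : B →ₗ[A] R' ⊗[A] B := TensorProduct.mk A R' B 1
  have hι : Function.Injective ι := Module.FaithfullyFlat.tensorProduct_mk_injective B
  apply hι
  rw [map_zero]
  apply e.injective
  rw [map_zero]
  apply MonoidAlgebra.coeff_injective
  refine Finsupp.ext fun m => ?_
  refine IsHausdorff.haus (I := I) inferInstance _ fun n => ?_
  rw [SModEq.zero]
  let g : B →ₗ[A] R' :=
    { toFun := fun b => (e (ι b)).coeff m
      map_add' := fun x y => by simp [map_add]
      map_smul' := fun a x => by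
        rw [map_smul, ← IsScalarTower.algebraMap_smul R' a (ι x), map_smul]
        simp }
  have : g d ∈ (I ^ n • ⊤ : Submodule A R') := by
    have h3 : d ∈ (I ^ n • ⊤ : Submodule A B) :=
      Submodule.smul_mono_left (Ideal.pow_le_pow_right (Nat.le_succ n)) (hmem n)
    exact (Submodule.map_smul'' _ _ g).trans_le (Submodule.smul_mono le_rfl le_top) ⟨d, h3, rfl⟩
  exact this

end Groth.Agent.S5270
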