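import Groth.Statements.S5277
import Groth.Agent.HomLiftLib.Types

set_option autoImplicit false
universe u
open TensorProduct SGA3b
open SGA3b

namespace Groth.Agent.S5277

/-- Let A be a Noetherian ring, separated and complete for the I-adic topology, and H = Spec C an affine
A-group with C flat and of finite type over A, all of whose fibres Spec (κ(p) ⊗ C) are connected. If
the reduction H₀ = Spec ((A/I) ⊗ C) is an isotrivial torus over A/I, then H is an isotrivial torus
over A. (Affine group schemes over an affine base are taken in Hopf-algebra form; base change is the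
tensor product; a homomorphism of groups Spec A ⟶ Spec C is a bialgebra map C → A.) -/
theorem result (A : Type u) [CommRing A] [IsNoetherianRing A] (I : Ideal A) [IsAdicComplete I A]
    (C : Type u) [CommRing C] [HopfAlgebra A C] [Module.Flat A C] (hft : Algebra.FiniteType A C)
    (hconn : ∀ (p : Ideal A) [p.IsPrime], ConnectedSpace (PrimeSpectrum (p.ResidueField ⊗[A] C)))
    (h0 : IsIsotrivial (A ⧸ I) ((A ⧸ I) ⊗[A] C) ∧ IsTorus (A ⧸ I) ((A ⧸ I) ⊗[A] C)) :
    IsIsotrivial A C ∧ IsTorus A C := by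
  have hC := Groth.Agent.HomLift.isIsotrivial_of_fibres_connected I hft hconn h0.1
  refine ⟨hC, ?_⟩
  rcases subsingleton_or_nontrivial A with hA | hA
  · exact Groth.Agent.HomLift.isTorus_of_subsingleton
  obtain ⟨T, _, _, -, -, hff, N, _, ⟨eN⟩⟩ := id hC
  haveI := hff
  obtain ⟨E⟩ := Groth.Agent.DiagHopf.exists_split_of_bialgEquiv eN
  haveI : Nontrivial (A ⧸ I) := Ideal.Quotient.nontrivial_iff.2 fun h => by
    have := IsAdicComplete.le_jacobson_bot I
    rw [h, top_le_iff, Ideal.jacobson_eq_top_iff] at this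
    exact bot_ne_top this
  obtain ⟨P, hP⟩ := Ideal.exists_maximal (A ⧸ I)
  haveI := hP.isPrime
  obtain ⟨L, _, _, n, -, ⟨EL⟩⟩ := Groth.Agent.HomLift.exists_field_split_of_isTorus h0.2 P
  letI : Algebra A L := ((algebraMap (A ⧸ I) L).comp (algebraMap A (A ⧸ I))).toAlgebra
  haveI : IsScalarTower A (A ⧸ I) L := IsScalarTower.of_algebraMap_eq fun _ => rfl
  obtain ⟨EL'⟩ := Groth.Agent.DiagHopf.exists_split_transfer EL
  haveI : Nontrivial (L ⊗[A] T) := Module.FaithfullyFlat.rTensor_nontrivial A T L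
  obtain ⟨Q, hQ⟩ := Ideal.exists_maximal (L ⊗[A] T)
  letI := Ideal.Quotient.field Q
  let f₁ : L →ₐ[A] (L ⊗[A] T) ⧸ Q :=
    (Ideal.Quotient.mkₐ A Q).comp Algebra.TensorProduct.includeLeft
  let f₂ : T →ₐ[A] (L ⊗[A] T) ⧸ Q :=
    (Ideal.Quotient.mkₐ A Q).comp Algebra.TensorProduct.includeRight
  obtain ⟨E₁, -⟩ := Groth.Agent.TorusField.exists_split_push EL' f₁
  obtain ⟨E₂, -⟩ := Groth.Agent.TorusField.exists_split_push E f₂
  obtain ⟨g⟩ := Groth.Agent.HomLift.exists_type_equiv E₂ E₁
  obtain ⟨E₃, -⟩ := Groth.Agent.HomLift.exists_split_congr g E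
  exact Groth.Agent.HomLift.isTorus_of_split E₃

end Groth.Agent.S5277
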