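import Groth.Statements.S5278
import Mathlib

set_option autoImplicit false
open CategoryTheory AlgebraicGeometry
universe u
open SGA3x

namespace Groth.Agent.S5278

/-- Let X be a connected scheme, f : X' ⟶ X a finite etale morphism and x a point of X. Then every
connected component of X' meets the fibre of f over x; equivalently the map from the connected
components of the fibre (or of the geometric fibre) to those of X' is surjective. -/
theorem result {X X' : Scheme.{u}} [ConnectedSpace X] (f : X' ⟶ X)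
    [IsFinite f] [Etale f] (x : X) (c : X') :
    ∃ x' : X', f.base x' = x ∧ x' ∈ connectedComponent c := by
  classical
  have hmeet : ∀ Z : Set X', IsClopen Z → Z.Nonempty → (Z ∩ f.base ⁻¹' {x}).Nonempty := by
    intro Z hZ hne
    have h : IsClopen (f.base '' Z) := ⟨f.isClosedMap _ hZ.1, f.isOpenMap _ hZ.2⟩
    obtain ⟨z, hz, hzx⟩ := (h.eq_univ (hne.image _)).symm ▸ Set.mem_univ x
    exact ⟨z, hz, hzx⟩
  have hfin : (f.base ⁻¹' {x}).Finite := f.finite_preimage_singleton x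
  have hex : ∃ n, ∃ Z : Set X', IsClopen Z ∧ c ∈ Z ∧ (Z ∩ f.base ⁻¹' {x}).ncard = n :=
    ⟨_, Set.univ, isClopen_univ, trivial, rfl⟩
  obtain ⟨Z, hZ, hcZ, hn⟩ := Nat.find_spec hex
  have hpre : _root_.IsPreconnected Z := by
    intro u v hu hv hcov hZu hZv
    by_contra hne
    rw [Set.not_nonempty_iff_eq_empty] at hne
    have key : ∀ a b : Set X', IsOpen a → IsOpen b → Z ⊆ a ∪ b → Z ∩ (a ∩ b) = ∅ → c ∈ a → (Z ∩ b).Nonempty → False := by
      intro a b ha hb hab hdis hca hZb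
      have hclopen : ∀ p q : Set X', IsOpen p → IsOpen q → Z ⊆ p ∪ q → Z ∩ (p ∩ q) = ∅ → IsClopen (Z ∩ p) := by
        intro p q hp hq hpq hd
        refine ⟨?_, hZ.2.inter hp⟩
        have : Z ∩ p = Z ∩ qᶜ := by
          ext z
          refine ⟨fun h => ⟨h.1, fun hz => (Set.eq_empty_iff_forall_notMem.1 hd) z ⟨h.1, h.2, hz⟩⟩,
            fun h => ⟨h.1, (hpq h.1).resolve_right h.2⟩⟩
        rw [this]
        exact hZ.1.inter hq.isClosed_compl
      have h1 := hclopen a b ha hb hab hdis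
      obtain ⟨z, hz, hzx⟩ := hmeet _ (hclopen b a hb ha (Set.union_comm a b ▸ hab) (by rwa [Set.inter_comm b a])) hZb
      have hlt : Z ∩ a ∩ f.base ⁻¹' {x} ⊂ Z ∩ f.base ⁻¹' {x} := by
        refine ⟨fun y hy => ⟨hy.1.1, hy.2⟩, fun hsub => ?_⟩
        exact (Set.eq_empty_iff_forall_notMem.1 hdis) z ⟨hz.1, (hsub ⟨hz.1, hzx⟩).1.2, hz.2⟩
      exact Nat.find_min hex (hn ▸ Set.ncard_lt_ncard hlt (hfin.inter_of_right Z)) ⟨_, h1, ⟨hcZ, hca⟩, rfl⟩
    rcases hcov hcZ with hc | hc
    · exact key u v hu hv hcov hne hc hZv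
    · exact key v u hv hu (Set.union_comm u v ▸ hcov) (by rwa [Set.inter_comm v u]) hc hZu
  obtain ⟨x', hxZ, hx'⟩ := hmeet Z hZ ⟨c, hcZ⟩
  exact ⟨x', hx', hpre.subset_connectedComponent hcZ hxZ⟩

end Groth.Agent.S5278
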