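import Groth.Statements.S5282
import Groth.Agent.NormExtLib.Main
-- import your own Groth.Agent.* helpers here

set_option autoImplicit false
open CategoryTheory MonoidalCategory CartesianMonoidalCategory MonObj GrpObj AlgebraicGeometry
universe u
open SGA3x

namespace Groth.Agent.S5282

/-- Let S be a locally Noetherian, integral and normal scheme (all local rings integrally closed
domains) with generic point η, H an S-group smooth over S with connected fibres, T an S-group of
multiplicative type and of finite type, and u_η : H_η ⟶ T_η a homomorphism between the generic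
fibres. Then u_η extends to a homomorphism of S-groups u : H ⟶ T (whose base change to η is u_η). -/
theorem result {S : Scheme.{u}} [IsIntegral S] [IsLocallyNoetherian S]
    (hnorm : ∀ x : S, IsIntegrallyClosed (S.presheaf.stalk x))
    (H T : Over S) [GrpObj H] [GrpObj T] (hH : Smooth H.hom)
    (hconn : ∀ s : S, ConnectedSpace ↥(Limits.pullback H.hom (S.fromSpecResidueField s)))
    (hT : SGA3x.IsMultTypeFT T)
    (uη : Red.bc (S.fromSpecResidueField (genericPoint S)) H ⟶ Red.bc (S.fromSpecResidueField (genericPoint S)) T) [IsMonHom uη] :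
    ∃ u : H ⟶ T, IsMonHom u ∧ (Over.pullback (S.fromSpecResidueField (genericPoint S))).map u = uη := by
  let xη := S.fromSpecResidueField (genericPoint S)
  let F := Over.pullback xη
  let uF : F.obj H ⟶ F.obj T := uη
  haveI : IsMonHom uF := ‹IsMonHom uη›
  let g : Limits.pullback H.hom xη ⟶ T.left := uF.left ≫ Limits.pullback.fst T.hom xη
  have hg : g ≫ T.hom = Limits.pullback.fst _ _ ≫ H.hom := by
    have hw : uF.left ≫ Limits.pullback.snd T.hom xη = Limits.pullback.snd H.hom xη := Over.w uF
    simp only [g, Category.assoc]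
    rw [Limits.pullback.condition, ← Category.assoc, hw, Limits.pullback.condition]
  have hone : (η[F.obj H] : 𝟙_ _ ⟶ _).left ≫ g = xη ≫ (η[T] : 𝟙_ (Over S) ⟶ T).left := by
    rw [← Category.assoc, ← Over.comp_left, IsMonHom.one_hom]
    exact NormExt.one_bc_fst xη T
  obtain ⟨u, hu⟩ := NormExt.exists_ext hnorm H T hH hconn hT g hg hone
  haveI := hH
  have hTa : IsAffineHom T.hom := MultEq.isAffineHom_of_isMultTypeFT hT
  have hFu : F.map u = uF := by
    ext1
    apply Limits.pullback.hom_ext
    · rw [show (F.map u).left ≫ Limits.pullback.fst T.hom xη = Limits.pullback.fst H.hom xη ≫ u.left from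
        Limits.pullback.lift_fst _ _ _]
      exact hu
    · exact (Over.w (F.map u)).trans (Over.w uF).symm
  have hext : ∀ (Y : Over S) [Flat Y.hom] (a b : Y ⟶ T), F.map a = F.map b → a = b := fun Y _ a b h => by
    refine NormExt.ext_of_generic Y T hTa a b ?_
    have e : ∀ c : Y ⟶ T, (F.map c).left ≫ Limits.pullback.fst T.hom xη = Limits.pullback.fst Y.hom xη ≫ c.left :=
      fun c => Limits.pullback.lift_fst _ _ _
    rw [← e a, ← e b, h]
  haveI : Flat (𝟙_ (Over S)).hom := inferInstanceAs (Flat (𝟙 S))
  haveI : Flat (H ⊗ H).hom := inferInstanceAs (Flat (Limits.pullback.fst H.hom H.hom ≫ H.hom))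
  have h1 : η[F.obj H] ≫ F.map u = η[F.obj T] := by rw [hFu, IsMonHom.one_hom]
  have h2 : μ[F.obj H] ≫ F.map u = (F.map u ⊗ₘ F.map u) ≫ μ[F.obj T] := by rw [hFu, IsMonHom.mul_hom]
  refine ⟨u, ⟨hext _ _ _ ?_, hext _ _ _ ?_⟩, hFu⟩
  · rw [← cancel_epi (Functor.LaxMonoidal.ε F), F.map_comp, ← Category.assoc]
    simpa only [Functor.obj.η_def] using h1
  · rw [← cancel_epi (Functor.LaxMonoidal.μ F H H), F.map_comp, F.map_comp, ← Category.assoc, ← Category.assoc,
      ← Functor.LaxMonoidal.μ_natural, Category.assoc, Category.assoc]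
    simpa only [Functor.obj.μ_def, Category.assoc] using h2

end Groth.Agent.S5282
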