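import Groth.Statements.S5285
import Groth.Agent.HomLiftLib.Idem

set_option autoImplicit false
universe u
open TensorProduct SGA3b
open SGA3b

namespace Groth.Agent.S5285

/-- Let A be a Noetherian ring, separated and complete for the I-adic topology, and H = Spec C an affine
A-group with C of finite type over A, flat over A at the points of H₀ (C localised at any prime
containing IC is flat over A), such that H₀ = Spec ((A/I) ⊗ C) is an isotrivial (A/I)-group of
multiplicative type. Then H has an open and closed subgroup G which is an isotrivial A-group of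
multiplicative type with G₀ = H₀: there is an idempotent e of C lying in IC such that the ideal (e)
is a Hopf ideal and Spec (C/(e)) is isotrivial of multiplicative type. (Affine group schemes over an
affine base are taken in Hopf-algebra form; base change is the tensor product; a homomorphism of
groups Spec A ⟶ Spec C is a bialgebra map C → A.) -/
theorem result (A : Type u) [CommRing A] [IsNoetherianRing A] (I : Ideal A) [IsAdicComplete I A]
    (C : Type u) [CommRing C] [HopfAlgebra A C] (hft : Algebra.FiniteType A C)
    (hfl : ∀ (q : Ideal C) [q.IsPrime], Ideal.map (algebraMap A C) I ≤ q → Module.Flat A (Localization.AtPrime q))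
    (h0 : IsIsotrivial (A ⧸ I) ((A ⧸ I) ⊗[A] C)) :
    ∃ e : C, IsIdempotentElem e ∧ e ∈ Ideal.map (algebraMap A C) I ∧
      ∃ _ : (Ideal.span {e}).IsHopfIdeal A, IsIsotrivial A (C ⧸ Ideal.span {e}) := by
  classical
  haveI := hft
  haveI : IsNoetherianRing C := Algebra.FiniteType.isNoetherianRing A C
  obtain ⟨F, _, _, φ, s, hF, hflat, hsurj, h1, h2, h3⟩ := Groth.Agent.HomLift.exists_model I hft hfl h0
  haveI := hflat
  obtain ⟨e, he, hker⟩ := Groth.Agent.HomLift.exists_idempotent_ker φ hsurj (IsNoetherian.noetherian _) h1 h2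
  have heI : e ∈ Ideal.map (algebraMap A C) I := by
    have := h3 e ((hker e).2 (Ideal.subset_span rfl))
    rwa [Ideal.smul_top_eq_map, Submodule.restrictScalars_mem] at this
  haveI hH := Groth.Agent.HomLift.isHopfIdeal_of_ker φ hsurj hker
  refine ⟨e, he, heI, hH, ?_⟩
  let J := Ideal.span {e}
  let mk : C →ₐc[A] C ⧸ J := Bialgebra.Quotient.mkBialgHom J
  let ψ : C ⧸ J →ₐ[A] F := Ideal.Quotient.liftₐ J (φ : C →ₐ[A] F) fun x hx => (hker x).2 hx
  have hψ : ∀ c, ψ (mk c) = φ c := fun c => rfl
  have hmks : Function.Surjective mk := Ideal.Quotient.mk_surjective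
  let ψc : C ⧸ J →ₐc[A] F := BialgHom.ofAlgHom ψ
    (AlgHom.ext fun x => by
      obtain ⟨c, rfl⟩ := hmks x
      show Bialgebra.counitAlgHom A F (ψ (mk c)) = _
      rw [hψ]
      exact (CoalgHomClass.counit_comp_apply φ c).trans (CoalgHomClass.counit_comp_apply mk c).symm)
    (AlgHom.ext fun x => by
      obtain ⟨c, rfl⟩ := hmks x
      show Algebra.TensorProduct.map ψ ψ (Coalgebra.comul (R := A) (mk c)) = Coalgebra.comul (R := A) (ψ (mk c))
      rw [hψ, ← CoalgHomClass.map_comp_comul_apply mk c, ← CoalgHomClass.map_comp_comul_apply φ c]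
      generalize Coalgebra.comul (R := A) c = z
      induction z using TensorProduct.induction_on with
      | zero => simp
      | add p q hp hq => simp only [map_add, hp, hq]
      | tmul p q => rfl)
  have hbij : Function.Bijective ψc := by
    refine ⟨(injective_iff_map_eq_zero ψ).2 fun x hx => ?_, fun y => ?_⟩
    · obtain ⟨c, rfl⟩ := hmks x
      rw [hψ] at hx
      exact Ideal.Quotient.eq_zero_iff_mem.2 ((hker c).1 hx)
    · obtain ⟨c, rfl⟩ := hsurj y
      exact ⟨mk c, hψ c⟩
  exact Groth.Agent.HomLift.isIsotrivial_of_bialgEquiv (BialgEquiv.ofBijective ψc hbij).symm hF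

end Groth.Agent.S5285
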