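import Groth.Statements.S5290
import Groth.Agent.MultLiftLib.Eq

set_option autoImplicit false
open CategoryTheory MonoidalCategory CartesianMonoidalCategory MonObj GrpObj AlgebraicGeometry
universe u
open SGA3x

namespace Groth.Agent.S5290

/-- Let S = Spec R be affine, J a nilpotent ideal of R and S₀ = Spec (R/J); let G be an arbitrary
S-group and i : H ⟶ G, i' : H' ⟶ G two sub-group-schemes (homomorphisms which are immersions) of
multiplicative type (fpqc-locally on S isomorphic, as groups, to diagonalisable groups D(M), M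
allowed to vary and taken in Type 0), with H central in G (every point of G commutes with every
point of H). If H ×_S S₀ and H' ×_S S₀ coincide as subgroups of G ×_S S₀, then H = H' as subgroups
of G: there is an isomorphism H ≅ H' compatible with i and i'. -/
theorem result {R : Type u} [CommRing R] (J : Ideal R) (hJ : IsNilpotent J)
    (G H H' : Over (Spec (CommRingCat.of R))) [GrpObj G] [GrpObj H] [GrpObj H']
    (hH : TwC.Locally (Spec (CommRingCat.of R)) TwC.Topology.fpqc (fun S' f => ∃ (M : Type) (_ : AddCommGroup M), Nonempty (Grp.mk (Red.bc f H) ≅ Grp.mk (Red.DS S' M))))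
    (hH' : TwC.Locally (Spec (CommRingCat.of R)) TwC.Topology.fpqc (fun S' f => ∃ (M : Type) (_ : AddCommGroup M), Nonempty (Grp.mk (Red.bc f H') ≅ Grp.mk (Red.DS S' M))))
    (i : H ⟶ G) [IsMonHom i] [IsImmersion i.left] (i' : H' ⟶ G) [IsMonHom i'] [IsImmersion i'.left]
    (hc : ∀ (X : Over (Spec (CommRingCat.of R))) (g : X ⟶ G) (h : X ⟶ H), g * (h ≫ i) = (h ≫ i) * g)
    (h0 : ∃ ψ : Red.bc (Spec.map (CommRingCat.ofHom (Ideal.Quotient.mk J))) H ≅ Red.bc (Spec.map (CommRingCat.ofHom (Ideal.Quotient.mk J))) H',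
      ψ.hom ≫ (Over.pullback (Spec.map (CommRingCat.ofHom (Ideal.Quotient.mk J)))).map i' = (Over.pullback (Spec.map (CommRingCat.ofHom (Ideal.Quotient.mk J)))).map i) :
    ∃ φ : H ≅ H', φ.hom ≫ i' = i := by
  obtain ⟨ψ, hψ⟩ := h0
  have hψ' : ψ.inv ≫ (Over.pullback (Spec.map (CommRingCat.ofHom (Ideal.Quotient.mk J)))).map i =
      (Over.pullback (Spec.map (CommRingCat.ofHom (Ideal.Quotient.mk J)))).map i' :=
    ((congrArg (ψ.inv ≫ ·) hψ).symm.trans (ψ.inv_hom_id_assoc _))
  obtain ⟨φ, hφ⟩ := MultLift.exists_factor hH hH' i i' (Or.inl hc) hJ (MultLift.leMod_of_hom i i' J ψ.hom hψ)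
  obtain ⟨φ', hφ'⟩ := MultLift.exists_factor hH' hH i' i (Or.inr hc) hJ (MultLift.leMod_of_hom i' i J ψ.inv hψ')
  haveI : Mono ((Over.forget _).map i) := inferInstanceAs (Mono i.left)
  haveI : Mono ((Over.forget _).map i') := inferInstanceAs (Mono i'.left)
  haveI : Mono i := Functor.mono_of_mono_map (Over.forget _) ‹Mono ((Over.forget _).map i)›
  haveI : Mono i' := Functor.mono_of_mono_map (Over.forget _) ‹Mono ((Over.forget _).map i')›
  refine ⟨⟨φ, φ', ?_, ?_⟩, hφ⟩
  · rw [← cancel_mono i, Category.assoc, hφ', hφ, Category.id_comp]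
  · rw [← cancel_mono i', Category.assoc, hφ, hφ', Category.id_comp]

end Groth.Agent.S5290
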