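import Groth.Statements.S5294
import Groth.Agent.ConjAvgLib.IsoGlue
import Groth.Agent.ConjAvgLib.LiftNilp
import Groth.Agent.S5273

set_option autoImplicit false
open CategoryTheory MonoidalCategory CartesianMonoidalCategory MonObj GrpObj AlgebraicGeometry
universe u
open SGA3x

namespace Groth.Agent.S5294

/-- Let S = Spec R be affine, J a nilpotent ideal of R and S₀ = Spec (R/J); let G be an S-group smooth
over S, i : H ⟶ G and i' : H' ⟶ G two sub-group-schemes (homomorphisms which are immersions) of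
multiplicative type (fpqc-locally on S isomorphic, as groups, to diagonalisable groups D(M), M
allowed to vary and taken in Type 0), and g₀ an S₀-valued point of G with int(g₀)(H₀) = H'₀: for
points over S₀-schemes, conjugation by g₀ carries the points of H onto the points of H'. Then g₀
lifts to an S-point g of G with int(g)(H) = H' (int(g) ∘ i factors through i' by an isomorphism). -/
theorem result {R : Type u} [CommRing R] (J : Ideal R) (hJ : IsNilpotent J)
    (G H H' : Over (Spec (CommRingCat.of R))) [GrpObj G] [GrpObj H] [GrpObj H'] (hG : Smooth G.hom)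
    (hH : TwC.Locally (Spec (CommRingCat.of R)) TwC.Topology.fpqc (fun S' f => ∃ (M : Type) (_ : AddCommGroup M), Nonempty (Grp.mk (Red.bc f H) ≅ Grp.mk (Red.DS S' M))))
    (hH' : TwC.Locally (Spec (CommRingCat.of R)) TwC.Topology.fpqc (fun S' f => ∃ (M : Type) (_ : AddCommGroup M), Nonempty (Grp.mk (Red.bc f H') ≅ Grp.mk (Red.DS S' M))))
    (i : H ⟶ G) [IsMonHom i] [IsImmersion i.left] (i' : H' ⟶ G) [IsMonHom i'] [IsImmersion i'.left]
    (g₀ : (Over.mk (Spec.map (CommRingCat.ofHom (Ideal.Quotient.mk J))) : Over (Spec (CommRingCat.of R))) ⟶ G)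
    (h0 : ∀ (X : Over (Spec (CommRingCat.of R))) (p : X ⟶ (Over.mk (Spec.map (CommRingCat.ofHom (Ideal.Quotient.mk J))) : Over (Spec (CommRingCat.of R)))),
      (∀ h : X ⟶ H, ∃ h' : X ⟶ H', (p ≫ g₀) * (h ≫ i) * (p ≫ g₀)⁻¹ = h' ≫ i') ∧
      (∀ h' : X ⟶ H', ∃ h : X ⟶ H, (p ≫ g₀)⁻¹ * (h' ≫ i') * (p ≫ g₀) = h ≫ i)) :
    ∃ g : 𝟙_ (Over (Spec (CommRingCat.of R))) ⟶ G, toUnit (Over.mk (Spec.map (CommRingCat.ofHom (Ideal.Quotient.mk J))) : Over (Spec (CommRingCat.of R))) ≫ g = g₀ ∧ SGA3x.ConjBy i i' g := by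
  haveI := hG
  obtain ⟨gt, hgt⟩ := ConjAvg.exists_lift_nilpotent hJ g₀
  haveI : IsMonHom (AGF.conjBy gt (𝟙 G)) := DiagRep.isMonHom_conjBy gt
  haveI : IsIso (AGF.conjBy gt (𝟙 G)).left :=
    inferInstanceAs (IsIso ((Over.forget _).map (AGF.conjBy gt (𝟙 G))))
  let i'' : H ⟶ G := i ≫ AGF.conjBy gt (𝟙 G)
  haveI : IsMonHom i'' := inferInstanceAs (IsMonHom (i ≫ AGF.conjBy gt (𝟙 G)))
  haveI : Mono i''.left := inferInstanceAs (Mono (i.left ≫ (AGF.conjBy gt (𝟙 G)).left))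
  have hi'' : ∀ (X : Over (Spec (CommRingCat.of R))) (p : X ⟶ SqLift.S₀ J) (h : X ⟶ H),
      h ≫ i'' = (p ≫ g₀) * (h ≫ i) * (p ≫ g₀)⁻¹ := by
    intro X p h
    rw [show i'' = AGF.conjBy gt i from (DiagRep.conjBy_eq_comp gt i).symm, AGF.conjBy, comp_mul, comp_mul,
      GrpObj.comp_inv, ← Category.assoc, toUnit_unique (h ≫ toUnit _) (p ≫ toUnit _), Category.assoc, hgt]
  obtain ⟨φ, hφ, hmod⟩ := ConjAvg.exists_iso_modEq hH hH' i'' i' hJ
    (fun Y q hq h => by
      obtain ⟨h', hh'⟩ := (h0 Y (Over.homMk q hq)).1 h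
      exact ⟨h', hh'.symm.trans (hi'' Y (Over.homMk q hq) h).symm⟩)
    (fun Y q hq h' => by
      obtain ⟨h, hh⟩ := (h0 Y (Over.homMk q hq)).2 h'
      refine ⟨h, ?_⟩
      rw [hi'' Y (Over.homMk q hq) h, ← hh]
      simp only [_root_.mul_assoc, mul_inv_cancel, mul_inv_cancel_left, _root_.mul_one])
  haveI := hφ
  obtain ⟨g, hg1, hg⟩ := Groth.Agent.S5273.result J hJ H G hH hG i (φ.hom ≫ i') g₀ fun X p h => by
    rw [← hi'' X p h]
    exact ConjAvg.eq_on_killed (fun D _ _ hD y => hmod D hD y) X h p.left (Over.w p)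
  refine ⟨g, hg1, φ, ?_⟩
  have h := hg H (𝟙 H)
  simp only [Category.id_comp] at h
  exact h.symm

end Groth.Agent.S5294
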