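import Groth.Statements.S5296
import Groth.Agent.MultFinLib.Order
import Groth.Agent.DiagHopfLib.Groups
import Groth.Agent.QIsoLib.Level
import Mathlib.LinearAlgebra.TensorProduct.Quotient

set_option autoImplicit false
universe u
open TensorProduct SGA3b
open SGA3b

namespace Groth.Agent.S5296

/-- Over a local base, where an open neighbourhood of the closed point is the whole base: Let R be a
local ring with maximal ideal 𝔪 and residue field k, H = Spec A an R-group of multiplicative type
and of finite type, and K = Spec (A/J) a closed subgroup scheme of H (J a Hopf ideal) with A/J of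
finite presentation over R, whose closed fibre Spec (k ⊗ A/J) is finite over k. Then K ⊆ ₙH for some
integer n > 0: the ideal of the kernel of the n-th power map (generated by the image of the
augmentation ideal under the n-th power endomorphism) is contained in J. (K is then finite over R,
ₙH being finite; this row states only the containment.) (Affine group schemes over an affine base
are taken in Hopf-algebra form; base change is the tensor product; a homomorphism of groups Spec A ⟶
Spec C is a bialgebra map C → A.) -/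
theorem result (R : Type u) [CommRing R] [IsLocalRing R]
    (A : Type u) [CommRing A] [HopfAlgebra R A] (hft : Algebra.FiniteType R A) (hH : IsMultType R A)
    (J : Ideal A) [J.IsHopfIdeal R] (hK : Algebra.FinitePresentation R (A ⧸ J))
    (hs : Module.Finite (IsLocalRing.ResidueField R) (IsLocalRing.ResidueField R ⊗[R] (A ⧸ J))) :
    ∃ n : ℕ, 0 < n ∧ torsionIdeal R A n ≤ J := by
  classical
  haveI := hft
  obtain ⟨S, _, _, N, _, hff, ⟨E⟩⟩ := DiagHopf.exists_split_of_isLocalRing hH
  haveI := hff
  obtain ⟨P, hP⟩ := PrimeSpectrum.comap_surjective_of_faithfullyFlat (B := S)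
    ⟨IsLocalRing.maximalIdeal R, inferInstance⟩
  let T := Localization.AtPrime P.asIdeal
  haveI : IsLocalHom (algebraMap R T) := ⟨fun r hr => by
    by_contra hn
    have h1 : algebraMap R S r ∈ P.asIdeal := by
      have : r ∈ (PrimeSpectrum.comap (algebraMap R S) P).asIdeal := hP.symm ▸ hn
      exact this
    rw [IsScalarTower.algebraMap_apply R S T, IsLocalization.AtPrime.isUnit_to_map_iff T P.asIdeal] at hr
    exact hr h1⟩
  haveI : Module.Flat R T := Module.Flat.trans R S T
  haveI : Module.FaithfullyFlat R T := Module.FaithfullyFlat.of_flat_of_isLocalHom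
  obtain ⟨E', -⟩ := TorusField.exists_split_push E (IsScalarTower.toAlgHom R S T)
  haveI : AddGroup.FG (Additive N) := AddGroup.fg_iff_addMonoid_fg.2 (DiagHopf.fg_of_split' E')
  let g : Additive N → T ⊗[R] (A ⧸ J) := fun a => DiagHopf.quotExt T J (E'.e a)
  have hgl : ∀ a, IsGroupLikeElem T (g a) := fun a =>
    (DiagHopf.groupLike_of_isGL (E'.gl a)).map
      (Bialgebra.TensorProduct.map (BialgHom.id T T) (Bialgebra.Quotient.mkBialgHom (R := R) J))
  have hspan : Submodule.span T (Set.range g) = ⊤ := by
    rw [show Set.range g = (DiagHopf.quotExt (R := R) T J).toLinearMap '' Set.range E'.e from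
      Set.range_comp _ _, ← Submodule.map_span, E'.e.span_eq, Submodule.map_top, LinearMap.range_eq_top]
    exact DiagHopf.quotExt_surjective J
  haveI := hs
  let k := IsLocalRing.ResidueField T
  haveI : Module.Finite k (k ⊗[R] (A ⧸ J)) :=
    Module.Finite.equiv (TensorProduct.AlgebraTensorModule.cancelBaseChange R (IsLocalRing.ResidueField R) k k (A ⧸ J))
  haveI : Module.Finite k (k ⊗[T] (T ⊗[R] (A ⧸ J))) :=
    Module.Finite.equiv (TensorProduct.AlgebraTensorModule.cancelBaseChange R T k k (A ⧸ J)).symm
  let d := Module.finrank k (k ⊗[T] (T ⊗[R] (A ⧸ J)))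
  have hdep : ∀ a : Additive N, ∃ c : Fin (d + 1) → T, (∃ i, IsUnit (c i)) ∧
      ∑ i, c i • g ((i : ℕ) • a) ∈ IsLocalRing.maximalIdeal T • Submodule.span T (Set.range g) := by
    intro a
    have hnli : ¬ LinearIndependent k fun i : Fin (d + 1) => (1 : k) ⊗ₜ[T] g ((i : ℕ) • a) := fun h => by
      have := h.fintype_card_le_finrank
      simp [d] at this
    obtain ⟨c, hc, i, hi⟩ := Fintype.not_linearIndependent_iff.1 hnli
    choose c' hc' using fun i => IsLocalRing.residue_surjective (c i)
    refine ⟨c', ⟨i, IsLocalRing.residue_ne_zero_iff_isUnit _ |>.1 (by rwa [hc'])⟩, ?_⟩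
    have h0 : (1 : T ⧸ IsLocalRing.maximalIdeal T) ⊗ₜ[T] (∑ i, c' i • g ((i : ℕ) • a)) = 0 := by
      show (1 : k) ⊗ₜ[T] (∑ i, c' i • g ((i : ℕ) • a)) = 0
      rw [TensorProduct.tmul_sum, ← hc]
      refine Finset.sum_congr rfl fun j _ => ?_
      rw [TensorProduct.tmul_smul, ← algebraMap_smul k (c' j), ← hc']
      rfl
    have e := congrArg (TensorProduct.quotTensorEquivQuotSMul (T ⊗[R] (A ⧸ J)) (IsLocalRing.maximalIdeal T)) h0
    rw [map_zero, show (1 : T ⧸ IsLocalRing.maximalIdeal T) = Ideal.Quotient.mk _ 1 from rfl,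
      TensorProduct.quotTensorEquivQuotSMul_mk_tmul, one_smul, Submodule.Quotient.mk_eq_zero] at e
    rwa [hspan]
  haveI : Algebra.FiniteType R (A ⧸ J) :=
    Algebra.FiniteType.of_surjective (Ideal.Quotient.mkₐ R J) Ideal.Quotient.mk_surjective
  obtain ⟨n, hn, hg⟩ := MultFin.exists_pow_eq_one_all hgl
    (show DiagHopf.quotExt T J (E'.e 0) = 1 by rw [E'.e_zero, map_one])
    (fun a b => show DiagHopf.quotExt T J (E'.e (a + b)) = _ by rw [E'.e_add, map_mul]) hspan hdep
    (Algebra.TensorProduct.map (AlgHom.id T T) (SGA3b.powConv R (A ⧸ J) d.factorial))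
    (fun a => DiagHopf.map_powConv_gl _
      (DiagHopf.isGL_of_groupLike (hgl a).comul_eq_tmul_self (hgl a).counit_eq_one))
  refine ⟨n, hn, (QIso.apply_powConv E' n (Ideal.Quotient.mkₐ R J) fun a => ?_).trans_eq Ideal.mk_ker⟩
  show g (n • a) = 1
  rw [← hg a]
  show DiagHopf.quotExt T J (E'.e (n • a)) = DiagHopf.quotExt T J (E'.e a) ^ n
  rw [← map_pow]
  congr 1
  clear hg hn
  induction n with
  | zero => rw [zero_nsmul, E'.e_zero, pow_zero]
  | succ j ih => rw [succ_nsmul, E'.e_add, ih, pow_succ]

end Groth.Agent.S5296
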