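import Groth.Statements.S5301
import Groth.Agent.MultNhdLib.General
import Groth.Agent.MultNhdLib.Geom
-- import your own Groth.Agent.* helpers here

set_option autoImplicit false
set_option backward.isDefEq.respectTransparency false
set_option backward.isDefEq.respectTransparency.types false
set_option linter.style.haveILetI false
set_option synthInstance.maxHeartbeats 200000
set_option maxHeartbeats 1600000
open CategoryTheory MonoidalCategory CartesianMonoidalCategory MonObj GrpObj AlgebraicGeometry
universe u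
open SGA3x

namespace Groth.Agent.S5301

open CategoryTheory.Limits CoactBr Groth.Agent
open Groth.Agent.DiagRep (baseHom bcHom)
open scoped TensorProduct

attribute [local instance] CoactBr.braidedAlgSpecOf

/-- Let H be an S-group which is affine and of finite presentation over S, and s ∈ S a point such that
(α) H is flat over S at every point of the fibre H_s and (β) H_s is a κ(s)-group of multiplicative
type (of finite type). Then there are an etale morphism S' ⟶ S, a point s' of S' over s whose
residue field extension κ(s) → κ(s') is an isomorphism, and an open and closed subgroup G' of H' = H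
×_S S' which is of multiplicative type and of finite type, isotrivial (split, with finitely
generated types, over the open and closed pieces of one finite etale surjective cover of S'), and
whose fibre at s' is all of H'_{s'}. -/
theorem result {S : Scheme.{u}} (H : Over S) [GrpObj H]
    [IsAffineHom H.hom] [LocallyOfFinitePresentation H.hom] (s : S)
    (hfl : ∀ x : ↥H.left, H.hom.base x = s → (H.hom.stalkMap x).hom.Flat)
    (hs : SGA3x.IsMultTypeFT (Red.bc (S.fromSpecResidueField s) H)) :
    ∃ (S' : Scheme.{u}) (f : S' ⟶ S) (s' : S'), Etale f ∧ f.base s' = s ∧ IsIso (f.residueFieldMap s') ∧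
      ∃ (G' : Over S') (_ : GrpObj G') (j : G' ⟶ Red.bc f H), IsMonHom j ∧ IsOpenImmersion j.left ∧ IsClosedImmersion j.left ∧
        SGA3x.IsMultTypeFT G' ∧ TwC.Locally S' TwC.Topology.finiteEtale (fun S'' g => ∃ (M : Type) (_ : AddCommGroup M), AddGroup.FG M ∧ Nonempty (Grp.mk (Red.bc g G') ≅ Grp.mk (Red.DS S'' M))) ∧
        IsIso ((Over.pullback (S'.fromSpecResidueField s')).map j).left := by
  obtain ⟨V, hV, hsV, -⟩ := exists_isAffineOpen_mem_and_subset (X := S) (x := s) (U := ⊤) trivial
  let A : Type u := Γ(S, V)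
  let i : Spec (CommRingCat.of A) ⟶ S := hV.fromSpec
  obtain ⟨pt₀, hpt⟩ : ∃ x : PrimeSpectrum A, i.base x = s :=
    ⟨hV.primeIdealOf ⟨s, hsV⟩, hV.fromSpec_primeIdealOf ⟨s, hsV⟩⟩
  clear hsV
  let p : Ideal A := pt₀.asIdeal
  haveI hpp : p.IsPrime := pt₀.isPrime
  subst hpt
  haveI hiopen : IsOpenImmersion i := hV.isOpenImmersion_fromSpec
  haveI : IsAffine (Red.bc i H).left :=
    haveI : IsAffineHom (Red.bc i H).hom := MorphismProperty.pullback_snd _ _ ‹IsAffineHom H.hom›
    isAffine_of_isAffineHom (Red.bc i H).hom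
  obtain ⟨C, _, _, w, hw, hw'⟩ := HomCorr.exists_hopf (R := A) (Red.bc i H)
  haveI := hw
  haveI := hw'
  haveI : Algebra.FinitePresentation A C := by
    have h1 : LocallyOfFinitePresentation (Red.bc i H).hom := MorphismProperty.pullback_snd _ _ ‹_›
    haveI : IsIso w.hom.left := inferInstanceAs (IsIso ((Over.forget _).map w.hom))
    have h2 : LocallyOfFinitePresentation (sp A C).hom := by
      rw [← Over.w w.hom]
      infer_instance
    have h3 : LocallyOfFinitePresentation (Spec.map (CommRingCat.ofHom (algebraMap A C))) := h2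
    rw [HasRingHomProperty.Spec_iff (P := @LocallyOfFinitePresentation)] at h3
    exact RingHom.finitePresentation_algebraMap.1 h3
  have hflC : ∀ (q : Ideal C) [q.IsPrime], q.comap (algebraMap A C) = p → Module.Flat A (Localization.AtPrime q) :=
    fun q _ hq => MultNhd.flat_atPrime_of_chart H i w p hfl q hq
  let K : Type u := p.ResidueField
  let eK : S.residueField (i.base pt₀) ⟶ CommRingCat.of K :=
    i.residueFieldMap pt₀ ≫ (Scheme.Spec.residueFieldIso (CommRingCat.of A) pt₀).hom
  haveI : IsIso eK := inferInstanceAs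
    (IsIso (i.residueFieldMap pt₀ ≫ (Scheme.Spec.residueFieldIso (CommRingCat.of A) pt₀).hom))
  have hsec : baseHom A K ≫ i = Spec.map eK ≫ S.fromSpecResidueField (i.base pt₀) := by
    have h1 : baseHom A K = Spec.map (Scheme.Spec.residueFieldIso (CommRingCat.of A) pt₀).hom ≫
        (Spec (CommRingCat.of A)).fromSpecResidueField pt₀ := by
      rw [← Scheme.Spec.map_residueFieldIso_inv_eq_fromSpecResidueField, ← Spec.map_comp_assoc, Iso.inv_hom_id,
        Spec.map_id, Category.id_comp]
    rw [h1, Category.assoc, ← Scheme.Hom.SpecMap_residueFieldMap_fromSpecResidueField, ← Spec.map_comp_assoc]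
  -- the fibre
  have hsC : SGA3b.IsMultType K (K ⊗[A] C) :=
    MultNhd.isMultType_of_section H i w (Spec.map eK) (S.fromSpecResidueField (i.base pt₀)) hsec hs
  -- the algebra
  obtain ⟨S', _, _, θ, F, _, _, φ, ε, hEt, hφs, hε, hker, hθ, U, _, _, hUet, hUfin, hUff, M₀, _, hM₀, ⟨E⟩⟩ :=
    MultNhd.exists_nhd_ring p hflC hsC
  haveI := hEt; haveI := hUet; haveI := hUfin; haveI := hUff; haveI := hM₀
  let f : Spec (CommRingCat.of S') ⟶ S := baseHom A S' ≫ i
  haveI : Etale (baseHom A S') := by
    rw [HasRingHomProperty.Spec_iff (P := @Etale)]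
    exact RingHom.etale_algebraMap.2 inferInstance
  haveI : Etale f := inferInstanceAs (Etale (baseHom A S' ≫ i))
  let σ : Spec (CommRingCat.of K) ⟶ Spec (CommRingCat.of S') := Spec.map (CommRingCat.ofHom θ.toRingHom)
  have hσ : σ ≫ f = Spec.map eK ≫ S.fromSpecResidueField (i.base pt₀) := by
    rw [← hsec]
    show Spec.map _ ≫ Spec.map _ ≫ i = Spec.map _ ≫ i
    rw [← Spec.map_comp_assoc, ← CommRingCat.ofHom_comp]
    congr 3
    exact θ.comp_algebraMap
  obtain ⟨hres, -, hfs⟩ := MultNhd.isIso_residueFieldMap_of_section f σ (i.base pt₀) eK hσ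
  refine ⟨Spec (CommRingCat.of S'), f, σ (IsLocalRing.closedPoint K), inferInstance, hfs, hres, ?_⟩
  obtain ⟨I₀, hI₁, hI₂, hI₃⟩ := MultNhd.exists_chart_bc H i w S'
  haveI := hI₁; haveI := hI₂; haveI := hI₃
  let φ' : S' ⊗[A] C →ₐ[S'] F := φ
  haveI : IsMonHom (pt φ') := SekSuwa.isMonHom_specHom φ
  let j : sp S' F ⟶ Red.bc f H := pt φ' ≫ I₀
  obtain ⟨ho, hc⟩ := MultNhd.isClopen_specMap φ'.toRingHom hφs ε hε hker
  haveI : IsOpenImmersion (pt φ').left := ho
  haveI : IsClosedImmersion (pt φ').left := hc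
  haveI : IsOpenImmersion j.left := inferInstanceAs (IsOpenImmersion ((pt φ').left ≫ I₀.left))
  haveI : IsClosedImmersion j.left := inferInstanceAs (IsClosedImmersion ((pt φ').left ≫ I₀.left))
  haveI : IsMonHom j := inferInstanceAs (IsMonHom (pt φ' ≫ I₀))
  -- the cover
  obtain ⟨M, _, hM, ⟨eM⟩⟩ := HomCorr.exists_small M₀
  obtain ⟨E'⟩ := HomCorr.exists_reindex E eM
  obtain ⟨eDS⟩ := HomCorr.exists_iso_DS_of_split (H := sp S' F) (𝟙 _) E'
  haveI : IsFinite (baseHom S' U) := (IsFinite.SpecMap_iff _).2 (RingHom.finite_algebraMap.2 inferInstance)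
  haveI : Etale (baseHom S' U) := by
    rw [HasRingHomProperty.Spec_iff (P := @Etale)]
    exact RingHom.etale_algebraMap.2 inferInstance
  haveI : Surjective (baseHom S' U) := ⟨PrimeSpectrum.comap_surjective_of_faithfullyFlat⟩
  obtain ⟨hmt, hloc⟩ := MultNhd.isMultTypeFT_of_finiteEtale (G := sp S' F) (baseHom S' U) hM eDS
  refine ⟨sp S' F, inferInstance, j, inferInstance, inferInstance, inferInstance, hmt, hloc, ?_⟩
  refine MultNhd.isIso_pullback_map_of_fibre j _ fun y hy => ?_
  rw [Scheme.range_fromSpecResidueField] at hy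
  haveI : Surjective I₀.left := inferInstance
  obtain ⟨z, rfl⟩ := I₀.left.surjective y
  have hz : (sp S' (S' ⊗[A] C)).hom.base z = σ (IsLocalRing.closedPoint K) := by
    rw [← Over.w I₀]
    exact hy
  let Q : Ideal (S' ⊗[A] C) := PrimeSpectrum.asIdeal (R := S' ⊗[A] C) z
  haveI : Q.IsPrime := PrimeSpectrum.isPrime (R := S' ⊗[A] C) z
  have hεQ : ε ∈ Q := by
    refine MultNhd.mem_of_map_eq_zero p θ ε hθ Q ?_
    have h1 : Q.comap (algebraMap S' (S' ⊗[A] C)) = (IsLocalRing.maximalIdeal K).comap θ.toRingHom :=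
      congrArg PrimeSpectrum.asIdeal hz
    rw [h1, IsLocalRing.maximalIdeal_eq_bot]
    rfl
  have hQle : RingHom.ker φ'.toRingHom ≤ Q := fun x hx => by
    obtain ⟨c, rfl⟩ := Ideal.mem_span_singleton'.1 ((hker x).1 hx)
    exact Q.mul_mem_left c hεQ
  have hQ2 : (⟨Q, inferInstance⟩ : PrimeSpectrum (S' ⊗[A] C)) ∈ Set.range (PrimeSpectrum.comap φ'.toRingHom) := by
    rw [range_comap_of_surjective _ φ'.toRingHom hφs]
    exact hQle
  obtain ⟨t, ht⟩ := hQ2
  refine ⟨t, ?_⟩
  show I₀.left.base ((pt φ').left.base t) = I₀.left.base z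
  exact congrArg I₀.left.base ht

end Groth.Agent.S5301
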