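import Groth.Statements.S5303
import Groth.Agent.MultSubFTLib.Univ
import Groth.Agent.TransporterLib.ClosedImm

set_option autoImplicit false
set_option backward.isDefEq.respectTransparency false
set_option linter.style.haveILetI false
set_option synthInstance.maxHeartbeats 400000
open CategoryTheory MonoidalCategory CartesianMonoidalCategory MonObj GrpObj AlgebraicGeometry
universe u
open CategoryTheory.Limits
open SGA3x
open scoped MonObj
attribute [-instance] CategoryTheory.Hom.commGroup

namespace Groth.Agent.S5303

/-- Let G be an S-group which is smooth and affine over S. Then the functor which to an S-scheme T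
assigns the set of subgroup schemes of multiplicative type of G ×_S T (homomorphisms which are
immersions from a T-group of multiplicative type and of finite type — finite type being automatic
here) is representable by an S-scheme M which is smooth and separated over S: M carries a universal
such subgroup K ⟶ G ×_S M, and for every S-morphism f : T ⟶ S and every such subgroup K' of G ×_S T
there is exactly one S-morphism v : T ⟶ M under which the pull-back of K equals K' as a subscheme of
G ×_S T (compared through their maps to G and to T). -/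
theorem result {S : Scheme.{u}} (G : Over S) [GrpObj G]
    (hG : Smooth G.hom) (hGa : IsAffineHom G.hom) :
    ∃ (M : Over S) (K : Over M.left) (_ : GrpObj K) (j : K ⟶ Red.bc M.hom G),
      Smooth M.hom ∧ IsSeparated M.hom ∧ IsMonHom j ∧ IsImmersion j.left ∧ SGA3x.IsMultTypeFT K ∧
      ∀ (T : Scheme.{u}) (f : T ⟶ S) (K' : Over T) [GrpObj K'] (j' : K' ⟶ Red.bc f G),
        IsMonHom j' → IsImmersion j'.left → SGA3x.IsMultTypeFT K' →
        ∃! v : T ⟶ M.left, v ≫ M.hom = f ∧
          ∃ φ : K'.left ≅ (Red.bc v K).left,
            φ.hom ≫ (Red.bc v K).hom = K'.hom ∧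
            φ.hom ≫ ((Over.pullback v).map j).left ≫ pullback.fst (Red.bc M.hom G).hom v ≫ pullback.fst G.hom M.hom =
              j'.left ≫ pullback.fst G.hom f := by
  haveI := hG
  haveI := hGa
  obtain ⟨K, hK, j, V, hj, hjm, he, ⟨eV, heV1, heV2⟩, hV⟩ := MultSubFTLib.exists_univ G
  have hmult : SGA3x.IsMultTypeFT K := MultSubFTLib.isMultTypeFT_univ he
  haveI := hj
  haveI := hjm
  haveI hjc : IsClosedImmersion j.left :=
    Groth.Agent.Transporter.isClosedImmersion_of_mono (Groth.Agent.Transporter.locally_of_isMultTypeFT hmult)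
      (MorphismProperty.pullback_snd (P := @IsAffineHom) _ _ hGa) j
  have hjl : IsImmersion j.left := inferInstance
  refine ⟨MultSubFTLib.MM G, K, hK, j, MultSubFTLib.smooth_MM G, MultSubFTLib.separated_MM G, hj, hjl, hmult, ?_⟩
  intro T f K' _ j' hj' hji' hK'
  haveI := hj'
  haveI := hji'
  haveI : Mono j' := Over.mono_of_mono_left _
  let V' : MultSubLib.Tri G.left T :=
    { K := K'.left
      k := K'.hom
      c := j'.left ≫ pullback.fst G.hom f
      mono := fun a b h h' => (cancel_mono j'.left).1 (pullback.hom_ext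
        ((Category.assoc _ _ _).trans (h'.trans (Category.assoc _ _ _).symm))
        ((Category.assoc _ _ _).trans ((congrArg (a ≫ ·) (Over.w j')).trans
          (h.trans ((congrArg (b ≫ ·) (Over.w j')).symm.trans (Category.assoc _ _ _).symm))))) }
  have conv : ∀ v : T ⟶ (MultSubFTLib.MM G).left, MultSubLib.Tri.Same V' (V.pull v) ↔
      ∃ φ : K'.left ≅ (Red.bc v K).left, φ.hom ≫ (Red.bc v K).hom = K'.hom ∧
        φ.hom ≫ ((Over.pullback v).map j).left ≫ pullback.fst (Red.bc (MultSubFTLib.MM G).hom G).hom v ≫
          pullback.fst G.hom (MultSubFTLib.MM G).hom = j'.left ≫ pullback.fst G.hom f := by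
    intro v
    have sq : IsPullback (pullback.fst K.hom v ≫ eV.hom) (pullback.snd K.hom v) V.k v :=
      (IsPullback.of_hasPullback K.hom v).of_iso (Iso.refl _) eV (Iso.refl _) (Iso.refl _)
        (by simp) (by simp) (by simp [heV1]) (by simp)
    let ev : (Red.bc v K).left ≅ (V.pull v).K := sq.isoPullback
    have h1 : ev.hom ≫ (V.pull v).k = (Red.bc v K).hom :=
      (IsPullback.isoPullback_hom_snd _)
    have h2 : ev.hom ≫ (V.pull v).c = ((Over.pullback v).map j).left ≫
        pullback.fst (Red.bc (MultSubFTLib.MM G).hom G).hom v ≫ pullback.fst G.hom (MultSubFTLib.MM G).hom := by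
      show ev.hom ≫ pullback.fst V.k v ≫ V.c = _
      rw [ActBC.pullback_map_left_fst_assoc, ← heV2]
      exact (Category.assoc _ _ _).symm.trans ((congrArg (· ≫ V.c) sq.isoPullback_hom_fst).trans (Category.assoc _ _ _))
    constructor
    · rintro ⟨φ, hφ1, hφ2⟩
      refine ⟨φ ≪≫ ev.symm, ?_, ?_⟩
      · rw [Iso.trans_hom, Iso.symm_hom, Category.assoc, ← h1, Iso.inv_hom_id_assoc]
        exact hφ1
      · rw [Iso.trans_hom, Iso.symm_hom, Category.assoc, ← h2, Iso.inv_hom_id_assoc]
        exact hφ2
    · rintro ⟨φ, hφ1, hφ2⟩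
      refine ⟨φ ≪≫ ev, ?_, ?_⟩
      · rw [Iso.trans_hom, Category.assoc, h1]
        exact hφ1
      · rw [Iso.trans_hom, Category.assoc, h2]
        exact hφ2
  obtain ⟨v, hv⟩ := MultSubFTLib.exists_classifying hV f j' hK' V' ⟨Iso.refl _, Category.id_comp _, Category.id_comp _⟩
  refine ⟨v.left, ⟨Over.w v, (conv v.left).1 hv⟩, fun v' hv' => ?_⟩
  obtain ⟨hw, hφ⟩ := hv'
  have := MultSubFTLib.eq_of_same hV (X := Over.mk f) (Over.homMk v' hw) v ((((conv v').2 hφ).symm).trans hv)
  exact congrArg CommaMorphism.left this

end Groth.Agent.S5303
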