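import Groth.Statements.S5305
import Groth.Agent.TransporterLib.Smooth
import Groth.Agent.EtSectLib.Main

set_option autoImplicit false
open CategoryTheory MonoidalCategory CartesianMonoidalCategory MonObj GrpObj AlgebraicGeometry
universe u
open SGA3x
set_option backward.isDefEq.respectTransparency false

namespace Groth.Agent.S5305

/-- (ii) ⇒ (i): Let H be an S-group of multiplicative type and of finite type, G an S-group smooth and
affine over S, and u₁, u₂ : H ⟶ G two homomorphisms. Suppose that for every s ∈ S, writing s̄ for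
the spectrum of an algebraic closure of κ(s), the homomorphisms u₁ and u₂ restricted to points over
s̄ are conjugate by a point of G with values in s̄. Then u₁ and u₂ are conjugate locally for the
etale topology: every point of S is in the image of an etale S' ⟶ S over which there is an S'-point
g of G ×_S S' with u₂ = int(g) ∘ u₁ on points. -/
theorem result {S : Scheme.{u}} (H G : Over S) [GrpObj H] [GrpObj G]
    (hH : SGA3x.IsMultTypeFT H) (hG : Smooth G.hom) (hGa : IsAffineHom G.hom) (u₁ u₂ : H ⟶ G) [IsMonHom u₁] [IsMonHom u₂]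
    (hgeom : ∀ s : S, ∃ g : Over.mk (Red.geomPt s) ⟶ G, ∀ (X : Over S) (p : X ⟶ Over.mk (Red.geomPt s)) (h : X ⟶ H),
      h ≫ u₂ = (p ≫ g) * (h ≫ u₁) * (p ≫ g)⁻¹) :
    TwC.Locally S TwC.Topology.etale (fun S' f => ∃ g : 𝟙_ (Over S') ⟶ Red.bc f G,
      ∀ (X : Over S') (h : X ⟶ Red.bc f H),
        h ≫ (Over.pullback f).map u₂ = (toUnit X ≫ g) * (h ≫ (Over.pullback f).map u₁) * (toUnit X ≫ g)⁻¹) := by
  haveI := hG
  haveI := hGa
  have hH' : TwC.Locally S TwC.Topology.fpqc (fun S' f => ∃ (M : Type) (_ : AddCommGroup M),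
      Nonempty (Grp.mk (Red.bc f H) ≅ Grp.mk (Red.DS S' M))) := by
    obtain ⟨S', f, hflat, hsurj, hcov, hloc⟩ := hH
    refine ⟨S', f, hflat, hsurj, hcov, fun x => ?_⟩
    obtain ⟨U, hU, M, hM, -, he⟩ := hloc x
    exact ⟨U, hU, M, hM, he⟩
  obtain ⟨T, j, hj, hfp, hT⟩ := Transporter.exists_transporter hH' u₁ u₂
  haveI := hj
  haveI := hfp
  haveI : LocallyOfFinitePresentation T.hom := by
    rw [← Over.w j]
    infer_instance
  haveI : Smooth T.hom := Transporter.smooth_transporter hH' hG u₁ u₂ j hT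
  intro s
  have hs : s ∈ Set.range T.hom := by
    obtain ⟨g, hg⟩ := hgeom s
    obtain ⟨t, -⟩ := (hT _ g).2 fun X x h => (hg X x h).symm
    let z : Spec (CommRingCat.of (AlgebraicClosure (S.residueField s))) := default
    refine ⟨t.left z, ?_⟩
    have h1 := congrArg (fun k : _ ⟶ S => k z) (Over.w t)
    simp only [Scheme.Hom.comp_apply] at h1
    refine h1.trans ?_
    show (Spec.map (CommRingCat.ofHom (algebraMap (S.residueField s) (AlgebraicClosure (S.residueField s)))) ≫
      S.fromSpecResidueField s) z = s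
    rw [Scheme.Hom.comp_apply]
    exact S.fromSpecResidueField_apply s _
  obtain ⟨S', f, s', hf, hfs, k, hk⟩ := EtSectLib.exists_section T.hom s hs
  let adj := Over.mapPullbackAdj f
  let t : (Over.map f).obj (𝟙_ (Over S')) ⟶ T := Over.homMk k (hk.trans (Category.id_comp f).symm)
  refine ⟨S', f, hf, ⟨s', hfs⟩, adj.homEquiv _ G (t ≫ j), fun X h => ?_⟩
  obtain ⟨h₀, hh₀⟩ := (adj.homEquiv X H).surjective h
  have h1 := (hT _ (t ≫ j)).1 ⟨t, rfl⟩ _ ((Over.map f).map (toUnit X)) h₀
  rw [mul_inv_eq_iff_eq_mul] at h1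
  have h2 := congrArg (adj.homEquiv X G) h1
  rw [AlgGrp.Action.homEquiv_mul, AlgGrp.Action.homEquiv_mul, adj.homEquiv_naturality_left,
    adj.homEquiv_naturality_right h₀ u₁, adj.homEquiv_naturality_right h₀ u₂, hh₀] at h2
  exact eq_mul_inv_iff_mul_eq.2 h2.symm

end Groth.Agent.S5305
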