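import Groth.Statements.S5308
import Mathlib
import Groth.Agent.TwStructLib.Chart
import Groth.Agent.S5266
-- import your own Groth.Agent.* helpers here

set_option autoImplicit false
open CategoryTheory MonoidalCategory CartesianMonoidalCategory MonObj GrpObj AlgebraicGeometry
universe u
set_option linter.style.haveILetI false
set_option backward.isDefEq.respectTransparency false
open SGA3x

namespace Groth.Agent.S5308

open CategoryTheory.Limits

/-- (i) ⇒ (ii). Let R be a commutative twisted constant S-group which is isotrivial (it becomes a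
constant group over the open and closed pieces of one finite etale surjective S' ⟶ S). Then R is a
union of open and closed subschemes which are quasi-compact, indeed finite, over S: every point of R
has an open and closed neighbourhood U in R with U ⟶ S finite. -/
theorem result {S : Scheme.{u}} (R : Over S) [GrpObj R]
    (hcomm : ∀ (X : Over S) (a b : X ⟶ R), a * b = b * a) (hR : TwC.IsTwConstGrp TwC.Topology.finiteEtale R) (x : R.left) :
    ∃ U : R.left.Opens, x ∈ U ∧ IsClosed (U : Set R.left) ∧ IsFinite (U.ι ≫ R.hom) := by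
  obtain ⟨S', f, hff, hfe, hfs, hloc⟩ := hR
  haveI := hff
  haveI := hfe
  choose U hsU hUc M instM e he using hloc
  have hfp : TwC.IsTwConst TwC.Topology.fpqc R := by
    refine ⟨S', f, inferInstance, hfs, fun V hV => ⟨f ⁻¹ᵁ V, (hV.preimage f).isCompact, ?_⟩,
      fun s' => ⟨U s', hsU s', M s', ⟨e s'⟩⟩⟩
    exact Set.image_preimage_eq _ f.surjective
  obtain ⟨s', hs'⟩ := f.surjective (R.hom x)
  let g := (U s').ι ≫ f
  haveI : IsClosedImmersion (U s').ι := IsClosedImmersion.of_isPreimmersion _ (by
    rw [Scheme.Opens.range_ι]; exact hUc s')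
  haveI : IsFinite g := inferInstance
  haveI : Etale g := inferInstance
  obtain ⟨w, hw, -⟩ := Scheme.Pullback.exists_preimage_pullback (f := R.hom) (g := g) x ⟨s', hsU s'⟩ hs'.symm
  let el : pullback R.hom g ≅ ∐ fun _ : M s' => ((U s') : Scheme.{u}) := (Over.forget _).mapIso (e s')
  have hel : el.hom ≫ Sigma.desc (fun _ : M s' => 𝟙 ((U s') : Scheme.{u})) = pullback.snd R.hom g := Over.w (e s').hom
  obtain ⟨⟨m, a⟩, ha⟩ := (sigmaMk fun _ : M s' => ((U s') : Scheme.{u})).surjective (el.hom w)
  rw [sigmaMk_mk] at ha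
  let ι₀ := Sigma.ι (fun _ : M s' => ((U s') : Scheme.{u})) m
  haveI : IsClosedImmersion ι₀ := IsClosedImmersion.of_isPreimmersion _ (by
    rw [← isOpen_compl_iff, isOpen_iff_forall_mem_open]
    intro z hz
    obtain ⟨j, hj⟩ := TwConstLib.mem_range_sigmaι z
    refine ⟨_, fun y hy hy' => ?_, (Sigma.ι (fun _ : M s' => ((U s') : Scheme.{u})) j).isOpenEmbedding.isOpen_range, hj⟩
    have hne : m ≠ j := fun h => hz (by subst h; exact hj)
    exact Set.disjoint_left.mp (TopologicalSpace.Opens.coe_disjoint.mpr (disjoint_opensRange_sigmaι _ m j hne)) hy' hy)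
  let c : ((U s') : Scheme.{u}) ⟶ R.left := ι₀ ≫ el.inv ≫ pullback.fst R.hom g
  have hc : c ≫ R.hom = g := by
    simp only [c, Category.assoc, pullback.condition]
    rw [← hel, Category.assoc, el.inv_hom_id_assoc, Sigma.ι_desc_assoc, Category.id_comp]
  haveI : IsFinite c := inferInstance
  haveI : Etale c := inferInstance
  let V : R.left.Opens := ⟨Set.range c, c.isOpenMap.isOpen_range⟩
  have hVc : IsClosed (V : Set R.left) := c.isClosedMap.isClosed_range
  refine ⟨V, ⟨a, ?_⟩, hVc, ?_⟩
  · show (pullback.fst R.hom g) (el.inv (ι₀ a)) = x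
    rw [ha, ← Scheme.Hom.comp_apply el.hom el.inv, el.hom_inv_id]
    exact hw
  haveI : IsClosedImmersion V.ι := IsClosedImmersion.of_isPreimmersion _ (by
    rw [Scheme.Opens.range_ι]; exact hVc)
  haveI : QuasiCompact (V.ι ≫ R.hom) := by
    refine ⟨fun W hWo hWc => ?_⟩
    have h1 : IsCompact (c '' (g ⁻¹' W)) := ((inferInstance : QuasiCompact g).isCompact_preimage W hWo hWc).image c.continuous
    rw [V.ι.isOpenEmbedding.isInducing.isCompact_iff]
    convert h1 using 1
    ext r
    constructor
    · rintro ⟨⟨_, u, rfl⟩, hr, rfl⟩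
      refine ⟨u, ?_, rfl⟩
      rw [Set.mem_preimage, ← hc, Scheme.Hom.comp_apply]
      exact hr
    · rintro ⟨u, hu, rfl⟩
      refine ⟨⟨c u, u, rfl⟩, ?_, rfl⟩
      rw [Set.mem_preimage, ← hc, Scheme.Hom.comp_apply] at hu
      exact hu
  exact Groth.Agent.S5266.result R hfp V.ι

end Groth.Agent.S5308
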