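import Groth.Statements.S5309
-- import your own Groth.Agent.* helpers here

set_option autoImplicit false
set_option backward.isDefEq.respectTransparency false
open CategoryTheory MonoidalCategory CartesianMonoidalCategory MonObj GrpObj AlgebraicGeometry
universe u
open CategoryTheory.Limits
open SGA3x

namespace Groth.Agent.S5309

/-- Algebraic core: a directed decreasing family of ideals of a Noetherian ring which at every prime
gets into every power of that prime vanishes eventually. -/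
lemma exists_eq_bot {R : Type u} [CommRing R] [IsNoetherianRing R] {D : Type u} [Preorder D]
    [IsDirected D (fun a b => a ≤ b)] [Nonempty D] (I : D → Ideal R) (hanti : ∀ i j, i ≤ j → I j ≤ I i)
    (h : ∀ (p : Ideal R) [p.IsPrime] (n : ℕ), ∃ i, (I i).map (algebraMap R (Localization.AtPrime p)) ≤
      IsLocalRing.maximalIdeal (Localization.AtPrime p) ^ n) :
    ∃ i, I i = ⊥ := by
  obtain ⟨i₁, hi₁⟩ : ∃ i₁, ∀ i, (I i).annihilator ≤ (I i₁).annihilator := by
    obtain ⟨_, ⟨i₁, rfl⟩, hmax⟩ := set_has_maximal_iff_noetherian.mpr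
      (inferInstanceAs (IsNoetherian R R)) (Set.range fun i => (I i).annihilator)
      (Set.range_nonempty _)
    refine ⟨i₁, fun i => ?_⟩
    obtain ⟨j, hj₁, hj⟩ := exists_ge_ge i₁ i
    have h1 : (I i₁).annihilator ≤ (I j).annihilator := Submodule.annihilator_mono (hanti _ _ hj₁)
    have h2 : (I i).annihilator ≤ (I j).annihilator := Submodule.annihilator_mono (hanti _ _ hj)
    have h3 := eq_of_le_of_not_lt h1 (hmax _ ⟨j, rfl⟩)
    exact h3 ▸ h2
  by_cases ha : (I i₁).annihilator = ⊤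
  · exact ⟨i₁, Submodule.annihilator_eq_top_iff.mp ha⟩
  exfalso
  obtain ⟨p, hp⟩ := Ideal.nonempty_minimalPrimes ha
  have hpp : p.IsPrime := hp.1.1
  let L := Localization.AtPrime p
  let m := IsLocalRing.maximalIdeal L
  have hrad := IsLocalization.AtPrime.radical_map_of_mem_minimalPrimes (A := L) p _ hp
  obtain ⟨t, ht⟩ : ∃ t : ℕ, m ^ t ≤ ((I i₁).annihilator).map (algebraMap R L) := by
    obtain ⟨t, ht⟩ := Ideal.exists_radical_pow_le_of_fg (((I i₁).annihilator).map (algebraMap R L))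
      (IsNoetherian.noetherian _)
    exact ⟨t, by rw [hrad, IsLocalization.AtPrime.map_eq_maximalIdeal p L] at ht; exact ht⟩
  let M : Ideal L := (I i₁).map (algebraMap R L)
  have hM : m ^ t * M = ⊥ := by
    refine le_bot_iff.mp ((Ideal.mul_mono_left ht).trans ?_)
    rw [← Ideal.map_mul]
    refine le_trans (Ideal.map_mono ?_) (Ideal.map_bot.le)
    exact Submodule.annihilator_mul (I i₁) |>.le
  obtain ⟨k, hk⟩ := Ideal.exists_pow_inf_eq_pow_smul m M
  obtain ⟨i, hi⟩ := h p (t + k)
  obtain ⟨j, hj₁, hj⟩ := exists_ge_ge i₁ i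
  have hjbot : (I j).map (algebraMap R L) = ⊥ := by
    have h1 : (I j).map (algebraMap R L) ≤ m ^ (t + k) • (⊤ : Ideal L) ⊓ M := by
      refine le_inf ?_ (Ideal.map_mono (hanti _ _ hj₁))
      simpa using (Ideal.map_mono (hanti _ _ hj)).trans hi
    rw [hk (t + k) (Nat.le_add_left k t)] at h1
    refine le_bot_iff.mp (h1.trans ?_)
    rw [Nat.add_sub_cancel, smul_eq_mul, ← hM]
    exact Ideal.mul_mono_right inf_le_right
  obtain ⟨G, hG⟩ := (IsNoetherian.noetherian (I j))
  have hex : ∀ a ∈ G, ∃ s, s ∉ p ∧ s * a = 0 := by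
    intro a ha'
    have : algebraMap R L a = 0 := by
      have := Ideal.mem_map_of_mem (algebraMap R L) (hG ▸ Submodule.subset_span ha' : a ∈ I j)
      rw [hjbot] at this
      simpa using this
    obtain ⟨⟨s, hs⟩, hs'⟩ := (IsLocalization.map_eq_zero_iff p.primeCompl L a).mp this
    exact ⟨s, hs, hs'⟩
  choose! s hs hs' using hex
  have hprod : (∏ a ∈ G, s a) ∈ (I j).annihilator := by
    rw [← hG]
    refine Submodule.mem_annihilator_span _ _ |>.mpr ?_
    rintro ⟨a, ha'⟩
    show (∏ b ∈ G, s b) * a = 0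
    classical
    rw [← Finset.prod_erase_mul _ _ (Finset.mem_coe.mp ha'), _root_.mul_assoc, hs' a ha', mul_zero]
  obtain ⟨a, ha', hap⟩ := hpp.prod_mem_iff.mp (hp.1.2 (hi₁ j hprod))
  exact hs a ha' hap

variable {X : Scheme.{u}}

/-- A directed family of immersions whose ranges cover a Noetherian scheme has a surjective member. -/
lemma exists_surjective [IsNoetherian X] {D : Type u} [Preorder D]
    [IsDirected D (fun a b => a ≤ b)] [Nonempty D] (R : D → Set X) (hR : ∀ i, IsLocallyClosed (R i))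
    (hmono : ∀ i j, i ≤ j → R i ⊆ R j) (hcov : ∀ p : X, ∃ i, p ∈ R i) :
    ∃ i, ∀ p : X, p ∈ R i := by
  have : ∀ Z : TopologicalSpace.Closeds X, ∃ i, (Z : Set X) ⊆ R i := by
    intro Z
    induction Z using WellFoundedLT.induction with
    | _ Z ih =>
      by_cases hne : (Z : Set X).Nonempty
      · by_cases hirr : IsPreirreducible (Z : Set X)
        · obtain ⟨gen, hgen⟩ := QuasiSober.sober (S := (Z : Set X)) ⟨hne, hirr⟩ Z.isClosed
          obtain ⟨i, hi⟩ := hcov gen
          obtain ⟨O, C, hO, hC, hOC⟩ := hR i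
          have hgenC : gen ∈ C := (hOC ▸ hi).2
          have hZC : (Z : Set X) ⊆ C := hgen.def ▸ hC.closure_subset_iff.mpr (by simpa using hgenC)
          have hlt : (⟨(Z : Set X) \ O, Z.isClosed.sdiff hO⟩ : TopologicalSpace.Closeds X) < Z :=
            lt_of_le_of_ne (fun y hy => hy.1) (fun e => by
              have : gen ∈ (Z : Set X) \ O := by
                have hmem : gen ∈ (Z : Set X) := hgen.mem
                rw [← congrArg (fun W : TopologicalSpace.Closeds X => (W : Set X)) e] at hmem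
                exact hmem
              exact this.2 (hOC ▸ hi).1)
          obtain ⟨j, hj⟩ := ih _ hlt
          obtain ⟨k, hik, hjk⟩ := exists_ge_ge i j
          refine ⟨k, fun y hy => ?_⟩
          by_cases hyO : y ∈ O
          · exact hmono i k hik (hOC ▸ ⟨hyO, hZC hy⟩)
          · exact hmono j k hjk (hj ⟨hy, hyO⟩)
        · rw [isPreirreducible_iff_isClosed_union_isClosed] at hirr
          push Not at hirr
          obtain ⟨A, B, hA, hB, hZAB, hZA, hZB⟩ := hirr
          obtain ⟨i, hi⟩ := ih ⟨(Z : Set X) ∩ A, Z.isClosed.inter hA⟩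
            (lt_of_le_of_ne (fun y hy => hy.1) (fun e => hZA (fun y hy => by
              rw [← congrArg (fun W : TopologicalSpace.Closeds X => (W : Set X)) e] at hy
              exact hy.2)))
          obtain ⟨j, hj⟩ := ih ⟨(Z : Set X) ∩ B, Z.isClosed.inter hB⟩
            (lt_of_le_of_ne (fun y hy => hy.1) (fun e => hZB (fun y hy => by
              rw [← congrArg (fun W : TopologicalSpace.Closeds X => (W : Set X)) e] at hy
              exact hy.2)))
          obtain ⟨k, hik, hjk⟩ := exists_ge_ge i j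
          refine ⟨k, fun y hy => ?_⟩
          rcases hZAB hy with hyA | hyB
          · exact hmono i k hik (hi ⟨hy, hyA⟩)
          · exact hmono j k hjk (hj ⟨hy, hyB⟩)
      · obtain ⟨i⟩ := ‹Nonempty D›
        exact ⟨i, fun y hy => absurd ⟨y, hy⟩ hne⟩
  obtain ⟨i, hi⟩ := this ⊤
  exact ⟨i, fun p => hi trivial⟩

/-- The key test point. -/
lemma exists_factor {S : Scheme.{u}} (f : X ⟶ S) {Z : Scheme.{u}} (z : Z ⟶ X)
    {T : CommRingCat.{u}} [IsLocalRing T] (q : Spec T ⟶ X) (n : ℕ)
    (hT : IsLocalRing.maximalIdeal T ^ (n + 1) = ⊥)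
    (h : IsIso (pullback.snd z (pullback.fst f
        (Spec.map (CommRingCat.ofHom (Ideal.Quotient.mk (IsLocalRing.maximalIdeal
          (S.presheaf.stalk ((q ≫ f) (IsLocalRing.closedPoint T))) ^ (n + 1)))) ≫
          S.fromSpecStalk ((q ≫ f) (IsLocalRing.closedPoint T)))))) :
    ∃ g : Spec T ⟶ Z, g ≫ z = q := by
  set s := (q ≫ f) (IsLocalRing.closedPoint T) with hs
  let φ : S.presheaf.stalk s ⟶ T := Scheme.stalkClosedPointTo (q ≫ f)
  have hle : IsLocalRing.maximalIdeal (S.presheaf.stalk s) ^ (n + 1) ≤ RingHom.ker φ.hom := by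
    rw [← Ideal.map_eq_bot_iff_le_ker, Ideal.map_pow]
    exact le_bot_iff.mp ((Ideal.pow_right_mono
      (((IsLocalRing.local_hom_TFAE φ.hom).out 0 2).mp (Scheme.isLocalHom_stalkClosedPointTo (q ≫ f))) _).trans hT.le)
  let ψ : CommRingCat.of _ ⟶ T := CommRingCat.ofHom (Ideal.Quotient.lift _ φ.hom fun a ha => hle ha)
  have hψ : CommRingCat.ofHom (Ideal.Quotient.mk
      (IsLocalRing.maximalIdeal (S.presheaf.stalk s) ^ (n + 1))) ≫ ψ = φ := by
    ext a
    simp [ψ]
  have hcomp : q ≫ f = Spec.map ψ ≫ (Spec.map (CommRingCat.ofHom (Ideal.Quotient.mk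
      (IsLocalRing.maximalIdeal (S.presheaf.stalk s) ^ (n + 1)))) ≫ S.fromSpecStalk s) := by
    rw [← Category.assoc, ← Spec.map_comp, hψ]
    exact (Scheme.Spec_stalkClosedPointTo_fromSpecStalk (q ≫ f)).symm
  let r := pullback.lift q (Spec.map ψ) hcomp
  refine ⟨r ≫ inv (pullback.snd z (pullback.fst f _)) ≫ pullback.fst z (pullback.fst f _), ?_⟩
  rw [Category.assoc, Category.assoc, pullback.condition, IsIso.inv_hom_id_assoc, pullback.lift_fst]


/-- Let S be a Noetherian scheme, f : X ⟶ S quasi-finite (locally quasi-finite, of finite type), and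
(X_i) an increasing filtered family of subschemes of X (immersions x_i : X_i ⟶ X indexed by a
directed preorder, x_i factoring through x_j for i ≤ j) such that for every s ∈ S and every n ≥ 0
there is an index i for which the base change of x_i to Spec (O_{S,s}/𝔪_s^(n+1)) is an isomorphism
onto X ×_S Spec (O_{S,s}/𝔪_s^(n+1)). Then x_i is an isomorphism for some i. -/
theorem result {S X : Scheme.{u}} [IsNoetherian S] (f : X ⟶ S)
    [LocallyQuasiFinite f] [LocallyOfFiniteType f] [QuasiCompact f]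
    {D : Type u} [Preorder D] [IsDirected D (fun a b => a ≤ b)] [Nonempty D]
    (Xi : D → Scheme.{u}) (x : ∀ i, Xi i ⟶ X) (hx : ∀ i, IsImmersion (x i))
    (hmono : ∀ i j, i ≤ j → ∃ t : Xi i ⟶ Xi j, t ≫ x j = x i)
    (h : ∀ (s : S) (n : ℕ), ∃ i : D,
      IsIso (pullback.snd (x i) (pullback.fst f
        (Spec.map (CommRingCat.ofHom (Ideal.Quotient.mk (IsLocalRing.maximalIdeal (S.presheaf.stalk s) ^ (n + 1)))) ≫ S.fromSpecStalk s)))) :
    ∃ i : D, IsIso (x i) := by
  classical
  have : IsNoetherian X := {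
    toCompactSpace := QuasiCompact.compactSpace_of_compactSpace f
    toIsLocallyNoetherian := LocallyOfFiniteType.isLocallyNoetherian f }
  have hsurj : ∃ i, ∀ p : X, p ∈ Set.range (x i) := by
    refine exists_surjective (fun i => Set.range (x i))
      (fun i => haveI := hx i; (x i).isLocallyClosed_range) ?_ ?_
    · intro i j hij
      obtain ⟨t, ht⟩ := hmono i j hij
      rintro _ ⟨y, rfl⟩
      exact ⟨t y, by rw [← Scheme.Hom.comp_apply, ht]⟩
    · intro p
      let q := X.fromSpecResidueField p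
      obtain ⟨i, hi⟩ := h ((q ≫ f) (IsLocalRing.closedPoint _)) 0
      obtain ⟨g, hg⟩ := exists_factor f (x i) q 0
        (by rw [zero_add, pow_one, IsLocalRing.maximalIdeal_eq_bot]) hi
      exact ⟨i, g (IsLocalRing.closedPoint _), by
        rw [← Scheme.Hom.comp_apply, hg, Scheme.fromSpecResidueField_apply]⟩
  obtain ⟨i₀, hi₀⟩ := hsurj
  have hcl : ∀ i, i₀ ≤ i → IsClosedImmersion (x i) := by
    intro i hi
    have := hx i
    obtain ⟨t, ht⟩ := hmono i₀ i hi
    have hu : Set.range (x i) = Set.univ := by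
      rw [Set.eq_univ_iff_forall]
      intro p
      obtain ⟨y, rfl⟩ := hi₀ p
      exact ⟨t y, by rw [← Scheme.Hom.comp_apply, ht]⟩
    exact IsClosedImmersion.of_isPreimmersion _ (hu ▸ isClosed_univ)
  let D' := {i : D // i₀ ≤ i}
  have : Nonempty D' := ⟨⟨i₀, le_rfl⟩⟩
  have : IsDirected D' (fun a b => a ≤ b) := ⟨fun a b => by
    obtain ⟨c, hac, hbc⟩ := exists_ge_ge a.1 b.1
    exact ⟨⟨c, a.2.trans hac⟩, hac, hbc⟩⟩
  have hkermono : ∀ i j : D', i ≤ j → (x j.1).ker ≤ (x i.1).ker := by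
    intro i j hij
    obtain ⟨t, ht⟩ := hmono i.1 j.1 hij
    rw [← ht]
    exact Scheme.Hom.le_ker_comp t (x j.1)
  have hloc : ∀ U : X.affineOpens, ∃ i : D', (x i.1).ker.ideal U = ⊥ := by
    intro U
    have : IsNoetherianRing Γ(X, U.1) := IsLocallyNoetherian.component_noetherian U
    refine exists_eq_bot (fun i : D' => (x i.1).ker.ideal U) (fun i j hij => hkermono i j hij U) ?_
    intro p hp n
    let L := Localization.AtPrime p
    let T : CommRingCat.{u} := CommRingCat.of (L ⧸ IsLocalRing.maximalIdeal L ^ (n + 1))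
    have : Nontrivial T := Ideal.Quotient.nontrivial_iff.mpr (fun e =>
      (IsLocalRing.maximalIdeal.isMaximal L).ne_top (top_le_iff.mp (e ▸ Ideal.pow_le_self (by omega))))
    have : IsLocalRing T := IsLocalRing.of_surjective' (Ideal.Quotient.mk _) Ideal.Quotient.mk_surjective
    have hT : IsLocalRing.maximalIdeal T ^ (n + 1) = ⊥ := by
      rw [← IsLocalRing.map_maximalIdeal_of_surjective (Ideal.Quotient.mk (IsLocalRing.maximalIdeal L ^ (n + 1)))
        Ideal.Quotient.mk_surjective, ← Ideal.map_pow, Ideal.map_quotient_self]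
    let θ : Γ(X, U.1) ⟶ T := CommRingCat.ofHom ((Ideal.Quotient.mk _).comp (algebraMap Γ(X, U.1) L))
    let q : Spec T ⟶ X := Spec.map θ ≫ U.2.fromSpec
    obtain ⟨i, hi⟩ := h ((q ≫ f) (IsLocalRing.closedPoint T)) n
    obtain ⟨g, hg⟩ := exists_factor f (x i) q n hT hi
    obtain ⟨j, hj₀, hij⟩ := exists_ge_ge i₀ i
    refine ⟨⟨j, hj₀⟩, ?_⟩
    obtain ⟨t, ht⟩ := hmono i j hij
    have := hcl j hj₀
    have hq : Spec.map θ ≫ U.2.fromSpec = (g ≫ t) ≫ x j := by
      rw [Category.assoc, ht, hg]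
    rw [Ideal.map_le_iff_le_comap]
    intro a ha
    rw [Scheme.Hom.ker_apply, RingHom.mem_ker] at ha
    refine Ideal.pow_le_pow_right (Nat.le_succ n) ?_
    rw [← Ideal.Quotient.eq_zero_iff_mem]
    show θ a = 0
    have key : ∀ (U' : X.Opens) (hU' : IsAffineOpen U') (θ' : Γ(X, U') ⟶ T)
        (htop : (⊤ : (Spec T).Opens) ≤ (Spec.map θ' ≫ hU'.fromSpec) ⁻¹ᵁ U'),
        (Spec.map θ' ≫ hU'.fromSpec).appLE U' ⊤ htop = θ' ≫ (Scheme.ΓSpecIso T).inv := by
      intro U' hU' θ' htop
      simp only [Scheme.Hom.appLE, Scheme.Hom.comp_app, hU'.fromSpec_app_self, Category.assoc,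
        Scheme.Hom.naturality_assoc, ← Functor.map_comp]
      rw [← Category.assoc]
      change ((Scheme.ΓSpecIso Γ(X, U')).inv ≫ (Spec.map θ').appTop) ≫ _ = _
      rw [← Scheme.ΓSpecIso_inv_naturality, Category.assoc]
      refine (congrArg (fun m => θ' ≫ (Scheme.ΓSpecIso T).inv ≫ m) ?_).trans
        (congrArg (θ' ≫ ·) (Category.comp_id _))
      exact (congrArg (Spec T).presheaf.map (Subsingleton.elim _ (𝟙 _))).trans ((Spec T).presheaf.map_id _)
    have htop : (⊤ : (Spec T).Opens) ≤ (Spec.map θ ≫ U.2.fromSpec) ⁻¹ᵁ U.1 := by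
      rw [Scheme.Hom.comp_preimage, IsAffineOpen.fromSpec_preimage_self U.2]
      rfl
    have e2 : (Spec.map θ ≫ U.2.fromSpec).appLE U.1 ⊤ htop a = 0 := by
      have hq' : ∀ (F : Spec T ⟶ X) (hF : F = (g ≫ t) ≫ x j) (h' : (⊤ : (Spec T).Opens) ≤ F ⁻¹ᵁ U.1),
          F.appLE U.1 ⊤ h' a = 0 := by
        rintro _ rfl h'
        rw [Scheme.Hom.appLE, Scheme.Hom.comp_app]
        simp [ha]
      exact hq' _ hq htop
    rw [key U.1 U.2 θ htop, CommRingCat.comp_apply] at e2
    exact (map_eq_zero_iff _ (Scheme.ΓSpecIso T).commRingCatIsoToRingEquiv.symm.injective).mp e2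
  obtain ⟨s, hsfin, hscov⟩ : ∃ s : Set X.affineOpens, s.Finite ∧ ⨆ U ∈ s, (U.1 : X.Opens) = ⊤ := by
    obtain ⟨s, hs, hs'⟩ := (isCompact_iff_finite_and_eq_biUnion_affineOpens (U := (⊤ : X.Opens))).mp isCompact_univ
    exact ⟨s, hs, hs'.symm⟩
  choose i hi using hloc
  obtain ⟨M, hM⟩ := Finset.exists_le (hsfin.toFinset.image i)
  refine ⟨M.1, ?_⟩
  have := hcl M.1 M.2
  rw [IsClosedImmersion.isIso_iff_ker_eq_bot]
  refine Scheme.IdealSheafData.ext_of_iSup_eq_top (fun U : s => U.1) (by rw [← hscov, iSup_subtype]) ?_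
  intro U
  rw [Scheme.IdealSheafData.ideal_bot]
  refine le_bot_iff.mp ((hkermono _ _ (hM _ (Finset.mem_image_of_mem i (hsfin.mem_toFinset.mpr U.2)))
    U.1).trans (hi U.1).le)

end Groth.Agent.S5309
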