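import Groth.Statements.S5310
import Groth.Agent.GrpLociLib.MaxOpen
-- import your own Groth.Agent.* helpers here

set_option autoImplicit false
set_option backward.isDefEq.respectTransparency false
universe u
open CategoryTheory CategoryTheory.Limits MonoidalCategory CartesianMonoidalCategory MonObj GrpObj AlgebraicGeometry
open SGA3

namespace Groth.Agent.S5310

/-- Let u : G → H be a homomorphism of S-group schemes, with G or H flat over S and G or H locally of
finite presentation over S. Let P be one of the properties 'flat and locally of finite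
presentation', 'smooth', 'etale', and let V be the largest open subscheme of G on which the
restriction of u has P. Then the image U of V in S is open and V is an open subgroup scheme of G
over U: V contains the unit point of every fibre of G that it meets, V is stable under the inversion
of G, and the product of a point of G ×_S G whose two projections lie in V lies in V. -/
theorem result (S : Scheme.{u}) (G H : Over S) [GrpObj G] [GrpObj H]
    (u : G ⟶ H) [IsMonHom u]
    (hfl : Flat G.hom ∨ Flat H.hom) (hfp : LocallyOfFinitePresentation G.hom ∨ LocallyOfFinitePresentation H.hom)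
    (P : MorphismProperty Scheme.{u})
    (hP : (∀ (X Y : Scheme.{u}) (f : X ⟶ Y), P f ↔ (Flat f ∧ LocallyOfFinitePresentation f)) ∨
      (∀ (X Y : Scheme.{u}) (f : X ⟶ Y), P f ↔ Smooth f) ∨ (∀ (X Y : Scheme.{u}) (f : X ⟶ Y), P f ↔ Etale f))
    (V : G.left.Opens) (hV : P (V.ι ≫ u.left)) (hmax : ∀ W : G.left.Opens, P (W.ι ≫ u.left) → W ≤ V) :
    IsOpen (G.hom.base '' (V : Set G.left)) ∧
    (∀ g ∈ V, ∀ p : ↥(𝟙_ (Over S)).left, (𝟙_ (Over S)).hom.base p = G.hom.base g → η[G].left.base p ∈ V) ∧
    (∀ g ∈ V, ι[G].left.base g ∈ V) ∧
    (∀ z : ↥(G ⊗ G).left, (fst G G).left.base z ∈ V → (snd G G).left.base z ∈ V → μ[G].left.base z ∈ V) := by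
  have hflV : Flat (V.ι ≫ u.left) ∧ LocallyOfFinitePresentation (V.ι ≫ u.left) := by
    rcases hP with h | h | h
    · exact (h _ _ _).mp hV
    · haveI := (h _ _ _).mp hV
      exact ⟨inferInstance, inferInstance⟩
    · haveI := (h _ _ _).mp hV
      exact ⟨inferInstance, inferInstance⟩
  obtain ⟨hflV, hfpV⟩ := hflV
  haveI hflS : Flat (V.ι ≫ G.hom) := by
    rcases hfl with h | h
    · infer_instance
    · rw [← Over.w u, ← Category.assoc]; infer_instance
  haveI hfpS : LocallyOfFinitePresentation (V.ι ≫ G.hom) := by
    rcases hfp with h | h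
    · infer_instance
    · rw [← Over.w u, ← Category.assoc]; infer_instance
  have hPb : P.IsStableUnderBaseChange := by
    rcases hP with h | h | h
    · rw [show P = (@Flat ⊓ @LocallyOfFinitePresentation : MorphismProperty Scheme.{u}) from
        MorphismProperty.ext _ _ (fun {X Y} f => h X Y f)]
      infer_instance
    · rw [show P = @Smooth from funext fun X => funext fun Y => funext fun f => propext (h X Y f)]
      infer_instance
    · rw [show P = @Etale from funext fun X => funext fun Y => funext fun f => propext (h X Y f)]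
      infer_instance
  refine GrpLoci.MaxOpen.subgroup_of_maxOpen u (Q := @Flat ⊓ @LocallyOfFinitePresentation) (P := P)
    (fun {A B} f ⟨_, _⟩ => inferInstance) ⟨?_⟩ V hV hmax ⟨hflS, hfpS⟩
  intro A B A' B' v d g w hw sq O hs hd
  obtain ⟨hw1, hw2⟩ := hw
  haveI := hw1
  haveI := hw2
  rcases hP with h | h | h <;> rw [h] at hd ⊢
  · exact ⟨GrpLoci.MaxOpen.flat_descend sq O hs hd.1, GrpLoci.MaxOpen.lfp_descend sq O hs hd.2⟩
  · exact GrpLoci.MaxOpen.smooth_descend sq O hs hd
  · exact GrpLoci.MaxOpen.etale_descend sq O hs hd

end Groth.Agent.S5310
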