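import Groth.Statements.S5318
import Groth.Agent.DiagFinLib.Basic
import Groth.Agent.WeilResLib.UnitDiag
import Groth.Agent.UnrStalkLib.Locus

set_option autoImplicit false
set_option backward.isDefEq.respectTransparency false
universe u
open CategoryTheory CategoryTheory.Limits MonoidalCategory CartesianMonoidalCategory MonObj GrpObj AlgebraicGeometry
open SGA3

namespace Groth.Agent.S5318

/-- (ii) ⟺ (iii) and, for G locally of finite presentation over S, (ii) ⟺ (iv): let G be an S-group
scheme. The unit section of G is an open immersion if and only if G is locally of finite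
presentation over S on some open containing the unit section and every fibre G_s is unramified
(formally unramified and locally of finite presentation) over κ(s). If G is locally of finite
presentation over S, the unit section is an open immersion if and only if G is unramified over S. -/
theorem result (S : Scheme.{u}) (G : Over S) [GrpObj G] :
    (IsOpenImmersion η[G].left ↔
      ((∃ W : G.left.Opens, (∀ p : ↥(𝟙_ (Over S)).left, η[G].left.base p ∈ W) ∧ LocallyOfFinitePresentation (W.ι ≫ G.hom)) ∧
        ∀ s : S, FormallyUnramified (G.hom.fiberToSpecResidueField s) ∧ LocallyOfFinitePresentation (G.hom.fiberToSpecResidueField s))) ∧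
    (LocallyOfFinitePresentation G.hom → (IsOpenImmersion η[G].left ↔ FormallyUnramified G.hom)) := by
  let P := MorphismProperty.diagonal @IsOpenImmersion
  have hdiag : IsOpenImmersion η[G].left → P G.hom := fun h => by
    have e : pullback.diagonal G.hom = (CartesianMonoidalCategory.lift (𝟙 G) (𝟙 G)).left :=
      pullback.hom_ext (by simp) (by simp)
    show IsOpenImmersion (pullback.diagonal G.hom)
    rw [e]
    exact MorphismProperty.of_isPullback (P := @IsOpenImmersion)
      (((Groth.Agent.WeilRes.isPullback_diagonal_unit G).map (Over.forget S)).flip) h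
  have hη : η[G].left ≫ G.hom = 𝟙 S := Over.w η[G]
  refine ⟨⟨fun h => ?_, fun ⟨⟨W, hW, hWfp⟩, hs⟩ => ?_⟩, fun hG => ?_⟩
  · haveI : IsOpenImmersion (pullback.diagonal G.hom) := hdiag h
    haveI : FormallyUnramified G.hom := inferInstance
    refine ⟨⟨η[G].left.opensRange, fun p => ⟨p, rfl⟩, ?_⟩, fun s => ⟨?_, ?_⟩⟩
    · rw [← MorphismProperty.cancel_left_of_respectsIso (@LocallyOfFinitePresentation : MorphismProperty Scheme.{u})
        (η[G].left.isoOpensRange).hom, ← Category.assoc, Scheme.Hom.isoOpensRange_hom_ι, hη]
      exact (inferInstance : LocallyOfFinitePresentation (𝟙 S))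
    · exact MorphismProperty.pullback_snd (P := (@FormallyUnramified : MorphismProperty Scheme.{u})) _ _ inferInstance
    · let q := G.hom.fiberToSpecResidueField s
      have hq : P q := MorphismProperty.pullback_snd (P := P) _ _ (hdiag h)
      refine IsZariskiLocalAtSource.of_openCover (P := (@LocallyOfFinitePresentation : MorphismProperty Scheme.{u}))
        (G.hom.fiber s).affineCover fun j => ?_
      have hj : P ((G.hom.fiber s).affineCover.f j ≫ q) := by
        refine MorphismProperty.comp_mem P _ _ ?_ hq
        show IsOpenImmersion (pullback.diagonal ((G.hom.fiber s).affineCover.f j))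
        infer_instance
      obtain ⟨φ, hφ⟩ := Spec.map_surjective ((G.hom.fiber s).affineCover.f j ≫ q)
      rw [← hφ] at hj ⊢
      rw [HasRingHomProperty.Spec_iff (P := (@LocallyOfFinitePresentation : MorphismProperty Scheme.{u}))]
      exact DiagFinLib.finiteType_finitePresentation_of_diagonal (Field.toIsField _) φ hj
  · haveI : LocallyOfFinitePresentation (W.ι ≫ G.hom) := hWfp
    have hU : FormallyUnramified (W.ι ≫ G.hom) := by
      rw [UnrStalkLib.formallyUnramified_iff_fibres (W.ι ≫ G.hom) (𝟙 S)]
      intro s
      let a := (𝟙 S : S ⟶ S).fiberToSpecResidueField s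
      have ha : (𝟙 S : S ⟶ S).fiberι s = a ≫ S.fromSpecResidueField s := by
        refine (Category.comp_id _).symm.trans ?_
        exact pullback.condition
      have h0 : FormallyUnramified (pullback.snd (W.ι ≫ G.hom) (S.fromSpecResidueField s)) := by
        have e := pullbackRightPullbackFstIso_hom_snd (f := G.hom) (g := S.fromSpecResidueField s) (f' := W.ι)
        rw [← MorphismProperty.cancel_left_of_respectsIso (@FormallyUnramified : MorphismProperty Scheme.{u})
          (pullbackRightPullbackFstIso G.hom (S.fromSpecResidueField s) W.ι).hom, e]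
        exact MorphismProperty.comp_mem _ _ _ inferInstance (hs s).1
      rw [ha]
      have e2 := pullbackLeftPullbackSndIso_hom_snd (W.ι ≫ G.hom) (S.fromSpecResidueField s) a
      rw [← MorphismProperty.cancel_left_of_respectsIso (@FormallyUnramified : MorphismProperty Scheme.{u})
        (pullbackLeftPullbackSndIso (W.ι ≫ G.hom) (S.fromSpecResidueField s) a).hom, e2]
      exact MorphismProperty.pullback_snd (P := (@FormallyUnramified : MorphismProperty Scheme.{u})) _ _ h0
    have hr : Set.range η[G].left ⊆ Set.range W.ι := by
      rintro _ ⟨p, rfl⟩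
      exact (Scheme.Opens.range_ι W).ge (hW p)
    let e' : S ⟶ W.toScheme := IsOpenImmersion.lift W.ι η[G].left hr
    have he' : e' ≫ W.ι = η[G].left := IsOpenImmersion.lift_fac _ _ _
    haveI : IsOpenImmersion e' := FFDescLib.isOpenImmersion_of_section (W.ι ≫ G.hom) e'
      (by rw [← Category.assoc, he', hη])
    rw [← he']
    infer_instance
  · exact (Groth.Agent.WeilRes.formallyUnramified_iff_unit G).symm

end Groth.Agent.S5318
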