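import Groth.Statements.S5319
import Groth.Agent.KernelPropLib.Basic
-- import your own Groth.Agent.* helpers here

set_option autoImplicit false
set_option backward.isDefEq.respectTransparency false
universe u
open CategoryTheory CategoryTheory.Limits MonoidalCategory CartesianMonoidalCategory MonObj GrpObj AlgebraicGeometry
open SGA3

namespace Groth.Agent.S5319

/-- Let u : G → H be a homomorphism of S-group schemes which is locally of finite type, with every fibre
G_s locally of finite type over κ(s), and let i : K → G be the kernel of u (the square i, u, unit of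
H is cartesian). The following are equivalent: u is locally quasi-finite; every fibre u_s : G_s →
H_s is locally quasi-finite; K is locally quasi-finite over S; every fibre of K over S is a discrete
space. -/
theorem result (S : Scheme.{u}) (G H : Over S) [GrpObj G] [GrpObj H] (u : G ⟶ H) [IsMonHom u]
    [LocallyOfFiniteType u.left] (hG : ∀ s : S, LocallyOfFiniteType (G.hom.fiberToSpecResidueField s)) (K : Over S) [GrpObj K] (i : K ⟶ G) [IsMonHom i] (hK : AlgGrp.IsKernel i u) :
    (LocallyQuasiFinite u.left ↔ ∀ s : S, LocallyQuasiFinite ((Over.pullback (S.fromSpecResidueField s)).map u).left) ∧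
    (LocallyQuasiFinite u.left ↔ LocallyQuasiFinite K.hom) ∧
    (LocallyQuasiFinite u.left ↔ ∀ s : S, DiscreteTopology ↥(K.hom.base ⁻¹' {s})) := by
  refine ⟨⟨fun h s => MorphismProperty.of_isPullback (GrpLoci.isPullback_map _ u) h, fun h => ?_⟩,
    ⟨fun h => KernelProp.prop_kernel u hK _ h, fun h => KernelProp.lqf_of_kernel u hK h⟩,
    ⟨fun h s => ?_, fun h => ?_⟩⟩
  · choose W hxW hW using fun x => GrpLoci.lqf_near u x (h (G.hom.base x))
    exact IsZariskiLocalAtSource.of_iSup_eq_top (P := @LocallyQuasiFinite) W
      (eq_top_iff.mpr fun x _ => TopologicalSpace.Opens.mem_iSup.mpr ⟨x, hxW x⟩) hW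
  · haveI := KernelProp.prop_kernel u hK _ h
    exact (K.hom.isDiscrete_preimage_singleton s).to_subtype
  · haveI : LocallyOfFiniteType K.hom := KernelProp.prop_kernel u hK _ inferInstance
    exact KernelProp.lqf_of_kernel u hK (KernelProp.lqf_of_discrete K.hom h)

end Groth.Agent.S5319
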