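import Groth.Statements.S5320
import Groth.Agent.KernelPropLib.Basic
-- import your own Groth.Agent.* helpers here

set_option autoImplicit false
set_option backward.isDefEq.respectTransparency false
universe u
open CategoryTheory CategoryTheory.Limits MonoidalCategory CartesianMonoidalCategory MonObj GrpObj AlgebraicGeometry
open SGA3

namespace Groth.Agent.S5320

/-- Let u : G → H be a homomorphism of S-group schemes which is locally of finite presentation, with
every fibre G_s locally of finite type over κ(s), and let i : K → G be the kernel of u (the square
i, u, unit of H is cartesian, K with the group structure making i a homomorphism). The following are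
equivalent: u is unramified (formally unramified); every fibre u_s : G_s → H_s is unramified; K is
unramified over S; the unit section of K is an open immersion. -/
theorem result (S : Scheme.{u}) (G H : Over S) [GrpObj G] [GrpObj H] (u : G ⟶ H) [IsMonHom u]
    [LocallyOfFinitePresentation u.left] (hG : ∀ s : S, LocallyOfFiniteType (G.hom.fiberToSpecResidueField s)) (K : Over S) [GrpObj K] (i : K ⟶ G) [IsMonHom i] (hK : AlgGrp.IsKernel i u) :
    (FormallyUnramified u.left ↔ ∀ s : S, FormallyUnramified ((Over.pullback (S.fromSpecResidueField s)).map u).left) ∧
    (FormallyUnramified u.left ↔ FormallyUnramified K.hom) ∧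
    (FormallyUnramified u.left ↔ IsOpenImmersion η[K].left) := by
  haveI : LocallyOfFiniteType K.hom := KernelProp.prop_kernel u hK _ inferInstance
  refine ⟨⟨fun h s => MorphismProperty.of_isPullback (GrpLoci.isPullback_map _ u) h, fun h => ?_⟩,
    ⟨fun h => KernelProp.prop_kernel u hK _ h, fun h => KernelProp.unramified_of_kernel u hK h⟩,
    ⟨fun h => ?_, fun h => KernelProp.unramified_of_kernel u hK (KernelProp.unramified_of_unit K h)⟩⟩
  · choose W hxW hW using fun x => GrpLoci.unramified_near u x (h (G.hom.base x))
    exact IsZariskiLocalAtSource.of_iSup_eq_top (P := @FormallyUnramified) W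
      (eq_top_iff.mpr fun x _ => TopologicalSpace.Opens.mem_iSup.mpr ⟨x, hxW x⟩) hW
  · haveI : FormallyUnramified K.hom := KernelProp.prop_kernel u hK _ h
    exact FFDescLib.isOpenImmersion_of_section K.hom _ (Over.w η[K])

end Groth.Agent.S5320
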