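import Groth.Statements.S5321
import Mathlib
import Groth.Agent.GrpLociLib.Basic
-- import your own Groth.Agent.* helpers here

set_option autoImplicit false
set_option backward.isDefEq.respectTransparency false
universe u
open CategoryTheory CategoryTheory.Limits MonoidalCategory CartesianMonoidalCategory MonObj GrpObj AlgebraicGeometry
open SGA3

namespace Groth.Agent.S5321

/-- Consider a morphism π : X → S admitting a section ε, and assume the map of underlying spaces of π is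
closed. Fix a point s of S, and suppose that on some open neighbourhood of ε(s) the morphism π is
locally of finite presentation, and that the fibre X_s → Spec κ(s) is an isomorphism. Under these
assumptions one can find an open subset U of S containing s such that π restricts to an isomorphism
π⁻¹(U) → U (consequently ε restricted to U is an isomorphism onto π⁻¹(U)). -/
theorem result (X S : Scheme.{u}) (π : X ⟶ S) (ε : S ⟶ X) (hε : ε ≫ π = 𝟙 S)
    (hcl : IsClosedMap π.base) (s : S)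
    (hfp : ∃ W : X.Opens, ε.base s ∈ W ∧ LocallyOfFinitePresentation (W.ι ≫ π))
    (hs : IsIso (π.fiberToSpecResidueField s)) :
    ∃ U : S.Opens, s ∈ U ∧ IsIso (π ∣_ U) := by
  obtain ⟨W, hxW, hW⟩ := hfp
  haveI := hW
  haveI := hs
  have hπε : ∀ t, π (ε t) = t := fun t => by rw [← Scheme.Hom.comp_apply, hε]; rfl
  have hpt : ∀ y, π y = s → y = ε s := by
    intro y hy
    obtain ⟨a, ha⟩ : y ∈ Set.range (π.fiberι s) := by rw [Scheme.Hom.range_fiberι]; exact hy
    obtain ⟨b, hb⟩ : ε s ∈ Set.range (π.fiberι s) := by rw [Scheme.Hom.range_fiberι]; exact hπε s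
    have : a = b := (π.fiberToSpecResidueField s).homeomorph.injective (Subsingleton.elim _ _)
    rw [← ha, ← hb, this]
  have hfib : ∀ t, t = s → FormallyUnramified ((W.ι ≫ π).fiberToSpecResidueField t) := by
    rintro t rfl
    rw [Scheme.Hom.fiberToSpecResidueField, ← pullbackRightPullbackFstIso_inv_snd_snd]
    exact MorphismProperty.comp_mem @FormallyUnramified _ _ inferInstance
      (MorphismProperty.comp_mem @FormallyUnramified _ _
        (MorphismProperty.pullback_snd _ _ inferInstance) (inferInstanceAs (FormallyUnramified (π.fiberToSpecResidueField t))))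
  obtain ⟨W₁, hxW₁, hW₁⟩ := Groth.Agent.GrpLoci.exists_unramified_nhd (W.ι ≫ π) ⟨ε.base s, hxW⟩
    (hfib _ (hπε s))
  haveI := hW₁
  let j : W₁.toScheme ⟶ X := W₁.ι ≫ W.ι
  let U₀ : S.Opens := ε ⁻¹ᵁ j.opensRange
  let σ : U₀.toScheme ⟶ W₁.toScheme := IsOpenImmersion.lift j (U₀.ι ≫ ε) (by rintro _ ⟨u, rfl⟩; exact u.2)
  have hσ : σ ≫ j = U₀.ι ≫ ε := IsOpenImmersion.lift_fac _ _ _
  have hσg : σ ≫ W₁.ι ≫ W.ι ≫ π = U₀.ι := by
    rw [← Category.assoc W₁.ι, ← Category.assoc σ, hσ, Category.assoc, hε, Category.comp_id]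
  haveI : IsOpenImmersion σ := by
    haveI : Etale (σ ≫ W₁.ι ≫ W.ι ≫ π) := by rw [hσg]; infer_instance
    haveI : Etale σ := Etale.of_comp σ (W₁.ι ≫ W.ι ≫ π)
    haveI : Mono (σ ≫ W₁.ι ≫ W.ι ≫ π) := by rw [hσg]; infer_instance
    haveI : Mono σ := mono_of_mono σ (W₁.ι ≫ W.ι ≫ π)
    exact IsOpenImmersion.of_flat_of_mono σ
  let k : U₀.toScheme ⟶ X := σ ≫ j
  haveI : IsOpenImmersion k := inferInstance
  have hk : k = U₀.ι ≫ ε := hσ
  have hsU₀ : s ∈ U₀ := ⟨⟨⟨ε.base s, hxW⟩, hxW₁⟩, rfl⟩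
  have hC : IsClosed (π '' (Set.range k)ᶜ) := hcl _ k.isOpenEmbedding.isOpen_range.isClosed_compl
  let U : S.Opens := U₀ ⊓ ⟨(π '' (Set.range k)ᶜ)ᶜ, hC.isOpen_compl⟩
  have hsU : s ∈ U := ⟨hsU₀, fun ⟨y, hy, hys⟩ => hy ⟨⟨s, hsU₀⟩, by
    rw [hk, Scheme.Hom.comp_apply, hpt y hys]
    rfl⟩⟩
  refine ⟨U, hsU, ?_⟩
  let l : (π ⁻¹ᵁ U).toScheme ⟶ U₀.toScheme := IsOpenImmersion.lift k (π ⁻¹ᵁ U).ι (by
    rintro _ ⟨z, rfl⟩
    by_contra hz
    exact z.2.2 ⟨_, hz, rfl⟩)
  have hl : l ≫ k = (π ⁻¹ᵁ U).ι := IsOpenImmersion.lift_fac _ _ _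
  have key : (π ⁻¹ᵁ U).ι ≫ π ≫ ε = (π ⁻¹ᵁ U).ι := by
    rw [← hl, hk]
    simp only [Category.assoc]
    rw [reassoc_of% hε]
  let r : U.toScheme ⟶ (π ⁻¹ᵁ U).toScheme := IsOpenImmersion.lift (π ⁻¹ᵁ U).ι (U.ι ≫ ε) (by
    rintro _ ⟨u, rfl⟩
    rw [Scheme.Opens.range_ι]
    show π (ε u.1) ∈ U
    rw [hπε]
    exact u.2)
  have hr : r ≫ (π ⁻¹ᵁ U).ι = U.ι ≫ ε := IsOpenImmersion.lift_fac _ _ _
  refine ⟨r, ?_, ?_⟩
  · rw [← cancel_mono (π ⁻¹ᵁ U).ι, Category.assoc, hr, ← Category.assoc, morphismRestrict_ι, Category.assoc, key,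
      Category.id_comp]
  · rw [← cancel_mono U.ι, Category.assoc, morphismRestrict_ι, ← Category.assoc, hr, Category.assoc, hε,
      Category.comp_id, Category.id_comp]

end Groth.Agent.S5321
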