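import Groth.Statements.S5329
import Mathlib
import Groth.Agent.NeutralSchLib.Fibre
import Groth.Agent.UOpenLib.FibreDim
import Groth.Agent.FibDimLib.Semicont
import Groth.Agent.FibDimLib.Retro
-- import your own Groth.Agent.* helpers here

set_option autoImplicit false
universe u
open CategoryTheory CategoryTheory.Limits MonoidalCategory CartesianMonoidalCategory MonObj GrpObj AlgebraicGeometry
open SGA3

namespace Groth.Agent.S5329

/-- Let G be an S-group scheme locally of finite type over S. Then (i) s ↦ dim G_s is upper
semicontinuous on S; (ii) if G is locally of finite presentation over S, this function is locally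
constructible: every point of S has an open neighbourhood V on which it takes finitely many values
and on which each of its level sets is constructible. (The published statement is for an S-scheme
locally of finite type with a section ε such that dim G_s = dim_{ε(s)} G_s for all s; this row takes
the case of a group scheme, where that condition holds.) -/
theorem result (S : Scheme.{u}) (G : Over S) [GrpObj G] [LocallyOfFiniteType G.hom] :
    UpperSemicontinuous (fun s : S => topologicalKrullDim ↥(G.hom.base ⁻¹' {s})) ∧
    (LocallyOfFinitePresentation G.hom → ∀ s : S, ∃ V : S.Opens, s ∈ V ∧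
      ((fun t : S => topologicalKrullDim ↥(G.hom.base ⁻¹' {t})) '' (V : Set S)).Finite ∧
      ∀ d : WithBot ℕ∞, Topology.IsConstructible {t : V | topologicalKrullDim ↥(G.hom.base ⁻¹' {(t : S)}) = d}) := by
  let e : S ⟶ G.left := (η[G] : 𝟙_ (Over S) ⟶ G).left
  have key : (fun s : S => topologicalKrullDim ↥(G.hom.base ⁻¹' {s})) =
      (fun x => FlatMor.fibreDimAt G.hom x) ∘ e.base := by
    funext s
    simp only [Function.comp_apply]
    rw [Groth.Agent.NeutralSch.fibreDimAt_eq_comp_dim, Groth.Agent.NeutralSch.dim_fibre_eq]
    have hs : G.hom (e s) = s := by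
      rw [← Scheme.Hom.comp_apply, Groth.Agent.NeutralSch.us_fac G]; rfl
    rw [hs]
  refine ⟨?_, fun hlfp s => ?_⟩
  · rw [key, upperSemicontinuous_iff_isOpen_preimage]
    intro y
    refine IsOpen.preimage e.continuous (t := (fun x => FlatMor.fibreDimAt G.hom x) ⁻¹' Set.Iio y) ?_
    rw [isOpen_iff_forall_mem_open]
    intro x hx
    exact ⟨{z | FlatMor.fibreDimAt G.hom z ≤ FlatMor.fibreDimAt G.hom x},
      fun z hz => lt_of_le_of_lt (show FlatMor.fibreDimAt G.hom z ≤ FlatMor.fibreDimAt G.hom x from hz) hx,
      FibDimLib.isOpen_fibreDimAt_le G.hom _, le_refl (FlatMor.fibreDimAt G.hom x)⟩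
  · obtain ⟨W, hW, hxW, -⟩ := exists_isAffineOpen_mem_and_subset (U := (⊤ : G.left.Opens)) (x := e s) trivial
    obtain ⟨V, hV, hsV, hVW⟩ := exists_isAffineOpen_mem_and_subset (U := e ⁻¹ᵁ W) (x := s) hxW
    refine ⟨V, hsV, ?_, fun d => ?_⟩
    · rw [key]
      -- finitely many values
      have hcov : (V : Set S) ⊆ ⋃ n : ℕ, e.base ⁻¹' {z | FlatMor.fibreDimAt G.hom z ≤ (n : WithBot ℕ∞)} := fun t _ => by
        obtain ⟨n, hn⟩ := UOpenLib.exists_fibreDimAt_eq_nat G.hom (e t)
        exact Set.mem_iUnion.2 ⟨n, le_of_eq hn⟩
      obtain ⟨N, hN⟩ := hV.isCompact.elim_finite_subcover _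
        (fun n => (FibDimLib.isOpen_fibreDimAt_le G.hom _).preimage e.continuous) hcov
      refine ((Set.finite_Iic (N.sup id)).image (fun n : ℕ => (n : WithBot ℕ∞))).subset ?_
      rintro _ ⟨t, ht, rfl⟩
      obtain ⟨n, hn⟩ := UOpenLib.exists_fibreDimAt_eq_nat G.hom (e t)
      obtain ⟨m, hm, hmt⟩ := Set.mem_iUnion₂.1 (hN ht)
      have : FlatMor.fibreDimAt G.hom (e t) ≤ (m : WithBot ℕ∞) := hmt
      rw [hn] at this
      exact ⟨n, (show n ≤ m by exact_mod_cast this).trans (Finset.le_sup (f := id) hm), hn.symm⟩
    · -- each level set is constructible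
      have hC : ∀ n : ℕ, Topology.IsConstructible
          {t : V | FlatMor.fibreDimAt G.hom (e (t : S)) ≤ (n : WithBot ℕ∞)} := fun n => by
        have hle : V ≤ e ⁻¹ᵁ W := hVW
        let r : (V : Scheme) ⟶ (W : Scheme) := e.resLE W V hle
        haveI : IsAffine (W : Scheme) := hW
        haveI : IsAffine (V : Scheme) := hV
        haveI : CompactSpace (V : Scheme) := inferInstance
        haveI : QuasiSeparatedSpace (V : Scheme) := inferInstance
        let T : TopologicalSpace.Opens (V : Scheme) :=
          ⟨{t : V | FlatMor.fibreDimAt G.hom (e (t : S)) ≤ (n : WithBot ℕ∞)},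
            (FibDimLib.isOpen_fibreDimAt_le G.hom _).preimage (e.continuous.comp continuous_subtype_val)⟩
        have hcpt : IsCompact (T : Set (V : Scheme)) := by
          have h1 : IsCompact ({z | FlatMor.fibreDimAt G.hom z ≤ (n : WithBot ℕ∞)} ∩ (W : Set G.left)) := by
            exact FibDimLib.isRetrocompact_fibreDimAt_le G.hom n hW.isCompact W.isOpen
          let P : (W : Scheme).Opens := W.ι ⁻¹ᵁ ⟨_, FibDimLib.isOpen_fibreDimAt_le G.hom (n : WithBot ℕ∞)⟩
          have h2 : IsCompact (P : Set (W : Scheme)) := by
            rw [W.ι.isOpenEmbedding.isInducing.isCompact_iff]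
            convert h1 using 1
            ext z
            simp only [Set.mem_image, Set.mem_inter_iff]
            constructor
            · rintro ⟨z', hz', rfl⟩
              exact ⟨hz', z'.2⟩
            · rintro ⟨hz, hzW⟩
              exact ⟨⟨z, hzW⟩, hz, rfl⟩
          haveI : QuasiCompact r := inferInstance
          have h3 := QuasiCompact.isCompact_preimage (f := r) _ P.isOpen h2
          convert h3 using 1
          ext t
          show _ ↔ FlatMor.fibreDimAt G.hom ((r ≫ W.ι) t) ≤ _
          rw [show r ≫ W.ι = V.ι ≫ e from Scheme.Hom.resLE_comp_ι _ _]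
          rfl
        exact IsRetrocompact.isConstructible T.isOpen
          ((QuasiSeparatedSpace.isRetrocompact_iff_isCompact T.isOpen).2 hcpt)
      have hd : {t : V | topologicalKrullDim ↥(G.hom.base ⁻¹' {(t : S)}) = d} =
          {t : V | FlatMor.fibreDimAt G.hom (e (t : S)) = d} := by
        ext t
        simp only [Set.mem_setOf_eq]
        rw [congrFun key (t : S)]
        rfl
      rw [hd]
      by_cases hn : ∃ n : ℕ, d = (n : WithBot ℕ∞)
      · obtain ⟨n, rfl⟩ := hn
        rcases n with _ | m
        · convert hC 0 using 1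
          ext t
          obtain ⟨j, hj⟩ := UOpenLib.exists_fibreDimAt_eq_nat G.hom (e (t : S))
          simp only [Set.mem_setOf_eq, hj]
          constructor
          · exact le_of_eq
          · intro h
            have : j ≤ 0 := by exact_mod_cast h
            simp [Nat.le_zero.1 this]
        · convert (hC (m + 1)).sdiff (hC m) using 1
          ext t
          obtain ⟨j, hj⟩ := UOpenLib.exists_fibreDimAt_eq_nat G.hom (e (t : S))
          simp only [Set.mem_setOf_eq, Set.mem_sdiff, hj]
          norm_cast
          omega
      · convert Topology.IsConstructible.empty using 1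
        ext t
        obtain ⟨j, hj⟩ := UOpenLib.exists_fibreDimAt_eq_nat G.hom (e (t : S))
        simp only [Set.mem_setOf_eq, Set.mem_empty_iff_false, iff_false]
        exact fun h => hn ⟨j, h.symm.trans hj⟩

end Groth.Agent.S5329
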