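import Groth.Statements.S5331
import Groth.Agent.NeutralSchLib.Artin
import Groth.Agent.FComplLib.Thicken
open Groth.Agent
-- import your own Groth.Agent.* helpers here

set_option autoImplicit false
universe u
open CategoryTheory CategoryTheory.Limits MonoidalCategory CartesianMonoidalCategory MonObj GrpObj AlgebraicGeometry
open SGA3

namespace Groth.Agent.S5331

/-- Let S be a scheme whose underlying topological space is discrete. Then every S-group scheme is
separated over S. -/
theorem result (S : Scheme.{u}) [DiscreteTopology S] (G : Over S) [GrpObj G] :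
    IsSeparated G.hom := by
  let V : S → S.Opens := fun s => ⟨{s}, isOpen_discrete _⟩
  refine IsZariskiLocalAtTarget.of_iSup_eq_top V
    (top_le_iff.mp fun s _ => TopologicalSpace.Opens.mem_iSup.2 ⟨s, rfl⟩) fun s => ?_
  haveI : Subsingleton ↥(V s).toScheme := ⟨fun a b => Subtype.ext (a.2.trans b.2.symm)⟩
  let G' := Red.bc (V s).ι G
  suffices h : IsSeparated G'.hom from
    ((MorphismProperty.arrow_mk_iso_iff (P := @IsSeparated)
      (Arrow.isoMk (pullbackRestrictIsoRestrict G.hom (V s)).symm (Iso.refl _)
        (by simp [G', morphismRestrict]; rfl))).2 h)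
  let s' : (V s).toScheme := ⟨s, rfl⟩
  let j := (V s).toScheme.fromSpecResidueField s'
  haveI : IsClosedImmersion j := isClosed_singleton_iff_isClosedImmersion.mp (isClosed_discrete _)
  haveI : Surjective j := ⟨fun x => by
    have : x ∈ Set.range j.base := by rw [Scheme.range_fromSpecResidueField]; exact Subsingleton.elim _ _
    exact this⟩
  haveI : IsSeparated (NeutralSch.Fib G' s').hom := GrpField.isSeparated_grp
  haveI : IsSeparated (Limits.pullback.snd G'.hom j) := this
  exact FComplLib.isSeparated_of_thickening (IsPullback.of_hasPullback G'.hom j)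
end Groth.Agent.S5331
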