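import Groth.Statements.S5333
import Groth.Agent.BMLib.Geom
import Mathlib.AlgebraicGeometry.Morphisms.Separated

set_option autoImplicit false
universe u
open CategoryTheory CategoryTheory.Limits MonoidalCategory CartesianMonoidalCategory MonObj GrpObj AlgebraicGeometry
open SGA3 BMLib

namespace Groth.Agent.S5333

/-- (i) ⟺ (iii) ⟺ (iv'): let f : X → S be a morphism of schemes. Then X is separated over S if and only
if for every reduced scheme T and every two morphisms T → X with the same composite to S which agree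
on a dense open subscheme of T are equal; and X is separated over S if and only if every two points
of X in the same fibre over S lie in a common open subscheme of X which is separated over S. -/
theorem result (X S : Scheme.{u}) (f : X ⟶ S) :
    (IsSeparated f ↔ ∀ (T : Scheme.{u}) [IsReduced T] (g₁ g₂ : T ⟶ X) (U : T.Opens), g₁ ≫ f = g₂ ≫ f →
      Dense (U : Set T) → U.ι ≫ g₁ = U.ι ≫ g₂ → g₁ = g₂) ∧
    (IsSeparated f ↔ ∀ x₁ x₂ : X, f.base x₁ = f.base x₂ →
      ∃ V : X.Opens, x₁ ∈ V ∧ x₂ ∈ V ∧ IsSeparated (V.ι ≫ f)) := by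
  classical
  let Δ := pullback.diagonal f
  have hsep : IsClosed (Set.range Δ) → IsSeparated f := fun h =>
    ⟨IsClosedImmersion.of_isPreimmersion Δ h⟩
  refine ⟨⟨fun h T _ g₁ g₂ U hg hU hUg => ?_, fun h => hsep ?_⟩, ⟨fun h x₁ x₂ _ => ⟨⊤, trivial, trivial, inferInstance⟩, fun h => hsep ?_⟩⟩
  · haveI : IsDominant U.ι := ⟨by rw [DenseRange, Scheme.Opens.range_ι]; exact hU⟩
    exact ext_of_isDominant_of_isSeparated f hg U.ι hUg
  · let C : TopologicalSpace.Closeds ↥(pullback f f) := ⟨closure (Set.range Δ), isClosed_closure⟩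
    let I := Scheme.IdealSheafData.vanishingIdeal C
    haveI : IsReduced I.subscheme := isReduced_vanishingIdeal C
    let j := I.subschemeι
    have hj : Set.range j = closure (Set.range Δ) := by
      rw [Scheme.IdealSheafData.range_subschemeι, Scheme.IdealSheafData.coe_support_vanishingIdeal]
      rfl
    let O := j ⁻¹ᵁ Δ.coborderRange
    have hO : ∀ z : I.subscheme, z ∈ O → j z ∈ Set.range Δ := fun z hz => by
      have h1 : j z ∈ coborder (Set.range Δ) := hz
      have h2 : j z ∈ closure (Set.range Δ) := hj ▸ ⟨z, rfl⟩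
      exact by_contra fun h3 => h1 ⟨h2, h3⟩
    have hd : Dense (O : Set I.subscheme) := fun z => by
      rw [j.isEmbedding.closure_eq_preimage_closure_image, Set.mem_preimage]
      refine closure_mono ?_ (hj ▸ ⟨z, rfl⟩ : j z ∈ closure (Set.range Δ))
      intro a ha
      obtain ⟨z', rfl⟩ : a ∈ Set.range j := hj ▸ subset_closure ha
      exact ⟨z', subset_coborder ha, rfl⟩
    let l := j ∣_ Δ.coborderRange
    let q := pullback.fst l Δ.liftCoborder
    haveI : Surjective q := ⟨fun w => by
      obtain ⟨x, hx⟩ := hO w.1 w.2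
      have : l w = Δ.liftCoborder x := by
        apply Δ.coborderRange.ι.isOpenEmbedding.injective
        rw [← Scheme.Hom.comp_apply, ← Scheme.Hom.comp_apply, morphismRestrict_ι, Scheme.Hom.liftCoborder_ι]
        exact hx.symm
      obtain ⟨p, hp, -⟩ := Scheme.Pullback.exists_preimage_pullback w x this
      exact ⟨p, hp⟩⟩
    haveI : IsIso q := isIso_of_isClosedImmersion_of_surjective q
    have hfac : O.ι ≫ j = (inv q ≫ pullback.snd l Δ.liftCoborder) ≫ Δ := by
      rw [← morphismRestrict_ι, ← cancel_epi q, Category.assoc, IsIso.hom_inv_id_assoc]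
      conv_rhs => arg 2; rw [← Δ.liftCoborder_ι]
      exact pullback.condition_assoc _
    have heq := h I.subscheme (j ≫ pullback.fst f f) (j ≫ pullback.snd f f) O
      (by rw [Category.assoc, Category.assoc, pullback.condition]) hd
      (by rw [← Category.assoc, ← Category.assoc, hfac]; simp [Δ])
    refine isClosed_of_closure_subset fun z hz => ?_
    obtain ⟨w, rfl⟩ : z ∈ Set.range j := hj.symm ▸ hz
    refine ⟨pullback.fst f f (j w), ?_⟩
    have h2 : j = (j ≫ pullback.fst f f) ≫ Δ := by
      apply pullback.hom_ext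
      · simp [Δ]
      · simp [Δ, heq]
    rw [← Scheme.Hom.comp_apply, ← Scheme.Hom.comp_apply, ← Category.assoc, ← h2]
  · refine isClosed_of_closure_subset fun z hz => ?_
    let x₁ := pullback.fst f f z
    let x₂ := pullback.snd f f z
    obtain ⟨V, h₁, h₂, hV⟩ := h x₁ x₂ (by
      show f (pullback.fst f f z) = f (pullback.snd f f z)
      rw [← Scheme.Hom.comp_apply, ← Scheme.Hom.comp_apply, pullback.condition])
    let m := pullback.map (V.ι ≫ f) (V.ι ≫ f) f f V.ι V.ι (𝟙 S) (by simp) (by simp)
    have hz' : z ∈ Set.range m := by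
      rw [Scheme.Pullback.range_map]
      exact ⟨by rw [Set.mem_preimage, Scheme.Opens.range_ι]; exact h₁, by rw [Set.mem_preimage, Scheme.Opens.range_ι]; exact h₂⟩
    obtain ⟨w, rfl⟩ := hz'
    have hm : pullback.diagonal (V.ι ≫ f) ≫ m = V.ι ≫ Δ := by
      apply pullback.hom_ext
      · rw [Category.assoc, Category.assoc]
        erw [pullback.lift_fst, pullback.diagonal_fst, Category.comp_id]
        exact pullback.diagonal_fst_assoc (V.ι ≫ f) V.ι
      · rw [Category.assoc, Category.assoc]
        erw [pullback.lift_snd, pullback.diagonal_snd, Category.comp_id]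
        exact pullback.diagonal_snd_assoc (V.ι ≫ f) V.ι
    have hcl : IsClosed (Set.range (pullback.diagonal (V.ι ≫ f))) :=
      (pullback.diagonal (V.ι ≫ f)).isClosedEmbedding.isClosed_range
    have hpre : m ⁻¹' Set.range Δ ⊆ Set.range (pullback.diagonal (V.ι ≫ f)) := by
      rintro w ⟨x, hx⟩
      have hxV : x ∈ V := by
        have h3 : pullback.fst (V.ι ≫ f) (V.ι ≫ f) ≫ V.ι = m ≫ pullback.fst f f := (pullback.lift_fst _ _ _).symm
        have := congr($(h3) w)
        rw [Scheme.Hom.comp_apply, Scheme.Hom.comp_apply, ← hx, ← Scheme.Hom.comp_apply Δ, pullback.diagonal_fst] at this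
        change _ = x at this
        exact this ▸ (pullback.fst (V.ι ≫ f) (V.ι ≫ f) w).2
      refine ⟨⟨x, hxV⟩, m.isOpenEmbedding.injective ?_⟩
      rw [← Scheme.Hom.comp_apply, hm]
      exact hx
    have := m.isOpenEmbedding.isOpenMap.preimage_closure_subset_closure_preimage (Set.mem_preimage.mpr hz)
    obtain ⟨v, hv⟩ := closure_minimal hpre hcl this
    exact ⟨V.ι v, by rw [← hv, ← Scheme.Hom.comp_apply, ← Scheme.Hom.comp_apply, hm]⟩

end Groth.Agent.S5333
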