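import Groth.Statements.S5335
import Groth.Agent.GrpFTOpenLib.Artin
import Groth.Agent.GenSubLib.Main
-- import your own Groth.Agent.* helpers here

set_option autoImplicit false
set_option backward.isDefEq.respectTransparency false
universe u
open CategoryTheory CategoryTheory.Limits MonoidalCategory CartesianMonoidalCategory MonObj GrpObj AlgebraicGeometry
open SGA3

namespace Groth.Agent.S5335

/-- Everything is universally open over a local artinian ring. -/
theorem universallyOpen_of_artinian (A : Type u) [CommRing A] [IsArtinianRing A] [IsLocalRing A]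
    {Y : Scheme.{u}} (f : Y ⟶ Spec (CommRingCat.of A)) : UniversallyOpen f := by
  refine ⟨fun P T a b q hsq => ?_⟩
  let i : Spec (CommRingCat.of (IsLocalRing.ResidueField A)) ⟶ Spec (CommRingCat.of A) :=
    Groth.Agent.GrpFTOpen.closedPt A
  obtain ⟨⟨hi, his⟩, -⟩ := Groth.Agent.GrpFTOpen.finiteOrder_closedPt A
  let j := pullback.fst b i
  haveI : IsClosedImmersion j := MorphismProperty.pullback_fst _ _ hi
  haveI : Surjective j := MorphismProperty.pullback_fst (P := @Surjective) _ _ his
  let j' := pullback.fst q j
  haveI : Surjective j' := MorphismProperty.pullback_fst (P := @Surjective) _ _ inferInstance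
  -- the reduction is a base change of the special fibre
  have h1 : IsPullback (j' ≫ a) (pullback.snd q j) f (j ≫ b) :=
    (IsPullback.of_hasPullback q j).paste_horiz hsq.flip
  rw [pullback.condition] at h1
  let m : pullback q j ⟶ pullback f i :=
    pullback.lift (j' ≫ a) (pullback.snd q j ≫ pullback.snd b i) (by rw [h1.w, Category.assoc])
  have h2 : IsPullback m (pullback.snd q j) (pullback.snd f i) (pullback.snd b i) := by
    refine IsPullback.of_right ?_ (pullback.lift_snd _ _ _) (IsPullback.of_hasPullback f i)
    rw [pullback.lift_fst]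
    exact h1
  haveI : UniversallyOpen (pullback.snd f i) := inferInstance
  haveI : UniversallyOpen (pullback.snd q j) := MorphismProperty.of_isPullback h2 inferInstance
  intro O hO
  have hj : Topology.IsClosedEmbedding j.base := j.isClosedEmbedding
  have e : q.base '' O = j.base '' ((pullback.snd q j).base '' (j'.base ⁻¹' O)) := by
    rw [← Set.image_comp]
    have hc : j.base ∘ (pullback.snd q j).base = q.base ∘ j'.base := by
      funext p
      exact (congrArg (fun g : pullback q j ⟶ T => g.base p) pullback.condition).symm
    rw [hc, Set.image_comp, Set.image_preimage_eq O j'.surjective]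
  rw [e]
  exact (hj.isEmbedding.toHomeomorphOfSurjective j.surjective).isOpenMap _
    ((pullback.snd q j).isOpenMap _ (hO.preimage j'.continuous))

/-- Let A be a local artinian ring and f : X' → X, g : Y' → Y two quasi-compact dominant morphisms of
schemes over A. Then the product morphism f ×_A g : X' ×_A Y' → X ×_A Y is dominant (and
quasi-compact). -/
theorem result (A : Type u) [CommRing A] [IsArtinianRing A] [IsLocalRing A] (X X' Y Y' : Over (Spec (CommRingCat.of A)))
    (f : X' ⟶ X) (g : Y' ⟶ Y) [QuasiCompact f.left] [QuasiCompact g.left]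
    (hf : DenseRange f.left.base) (hg : DenseRange g.left.base) :
    DenseRange (f ⊗ₘ g).left.base ∧ QuasiCompact (f ⊗ₘ g).left := by
  haveI := universallyOpen_of_artinian A X.hom
  haveI := universallyOpen_of_artinian A Y'.hom
  haveI : UniversallyOpen (fst X Y').left := by rw [Over.fst_left]; infer_instance
  haveI : UniversallyOpen (snd X Y).left := by rw [Over.snd_left]; infer_instance
  have e : f ⊗ₘ g = (f ▷ Y') ≫ (X ◁ g) := MonoidalCategory.tensorHom_def f g
  have sq₁ := GenSub.isPullback_whiskerRight_left (Y := Y') f
  have sq₂ := FinHom.isPullback_whiskerLeft X g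
  haveI : QuasiCompact (f ▷ Y').left := MorphismProperty.of_isPullback sq₁.flip ‹QuasiCompact f.left›
  haveI : QuasiCompact (X ◁ g).left := MorphismProperty.of_isPullback sq₂.flip ‹QuasiCompact g.left›
  refine ⟨?_, by rw [e, Over.comp_left]; infer_instance⟩
  have h1 : DenseRange (f ▷ Y').left.base := by
    refine Dense.mono ?_ (hf.preimage (fst X Y').left.isOpenMap)
    rintro p ⟨x, hx⟩
    obtain ⟨z, hz, -⟩ := Scheme.exists_preimage_of_isPullback sq₁ p x hx.symm
    exact ⟨z, hz⟩
  have h2 : DenseRange (X ◁ g).left.base := by
    refine Dense.mono ?_ (hg.preimage (snd X Y).left.isOpenMap)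
    rintro p ⟨y, hy⟩
    obtain ⟨z, hz, -⟩ := Scheme.exists_preimage_of_isPullback sq₂ p y hy.symm
    exact ⟨z, hz⟩
  rw [e]
  exact h2.comp h1 (X ◁ g).left.continuous

end Groth.Agent.S5335
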