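import Groth.Statements.S5338
import Groth.Agent.ThickFlatLib.Ring
-- import your own Groth.Agent.* helpers here

set_option autoImplicit false
universe u
open CategoryTheory CategoryTheory.Limits MonoidalCategory CartesianMonoidalCategory MonObj GrpObj AlgebraicGeometry
open SGA3

namespace Groth.Agent.S5338

/-- Let A → B → C be homomorphisms of commutative rings and n a nilpotent ideal of A; write nB and nC
for the extended ideals. (i) If C/nC is a (B/nB)-algebra of finite type, then C is a B-algebra of
finite type. (ii) If moreover C is flat over A and C/nC is a (B/nB)-algebra of finite presentation,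
then C is a B-algebra of finite presentation. -/
theorem result (A B C : Type u) [CommRing A] [CommRing B] [CommRing C]
    [Algebra A B] [Algebra B C] [Algebra A C] [IsScalarTower A B C] (n : Ideal A) (hn : IsNilpotent n) :
    (Algebra.FiniteType (B ⧸ n.map (algebraMap A B)) (C ⧸ (n.map (algebraMap A B)).map (algebraMap B C)) →
      Algebra.FiniteType B C) ∧
    (Module.Flat A C →
      Algebra.FinitePresentation (B ⧸ n.map (algebraMap A B)) (C ⧸ (n.map (algebraMap A B)).map (algebraMap B C)) →
      Algebra.FinitePresentation B C) := by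
  classical
  let J := n.map (algebraMap A B)
  let J' := J.map (algebraMap B C)
  let k : CommRingCat.of B ⟶ CommRingCat.of (B ⧸ J) := CommRingCat.ofHom (Ideal.Quotient.mk J)
  let r : CommRingCat.of B ⟶ CommRingCat.of C := CommRingCat.ofHom (algebraMap B C)
  let h : CommRingCat.of (B ⧸ J) ⟶ CommRingCat.of (C ⧸ J') :=
    CommRingCat.ofHom (Ideal.quotientMap J' (algebraMap B C) Ideal.le_comap_map)
  let c : CommRingCat.of C ⟶ CommRingCat.of (C ⧸ J') := CommRingCat.ofHom (Ideal.Quotient.mk J')
  have hJ : IsNilpotent J := by
    obtain ⟨m, hm⟩ := hn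
    exact ⟨m, by rw [← Ideal.map_pow, hm, Ideal.zero_eq_bot, Ideal.map_bot]; rfl⟩
  have hw : k ≫ h = r ≫ c := by
    ext x
    rfl
  have sq : CategoryTheory.IsPushout k r h c := by
    refine ⟨⟨hw⟩, ⟨CategoryTheory.Limits.PushoutCocone.isColimitAux' _ fun s => ?_⟩⟩
    have hker : J' ≤ RingHom.ker s.inr.hom := by
      rw [Ideal.map_le_iff_le_comap]
      intro x hx
      rw [Ideal.mem_comap, RingHom.mem_ker]
      have e := congrArg (fun m => m.hom x) s.condition
      simp only [CommRingCat.hom_comp, RingHom.comp_apply] at e
      refine e.symm.trans ?_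
      show s.inl.hom (Ideal.Quotient.mk J x) = 0
      rw [Ideal.Quotient.eq_zero_iff_mem.2 hx, map_zero]
    refine ⟨CommRingCat.ofHom (Ideal.Quotient.lift J' s.inr.hom hker), ?_, ?_, ?_⟩
    · refine CommRingCat.hom_ext (Ideal.Quotient.ringHom_ext (RingHom.ext fun x => ?_))
      have e := congrArg (fun m => m.hom x) s.condition
      simp only [CommRingCat.hom_comp, RingHom.comp_apply] at e
      exact e.symm
    · exact CommRingCat.hom_ext (RingHom.ext fun x => rfl)
    · intro m _ hm
      refine CommRingCat.hom_ext (Ideal.Quotient.ringHom_ext (RingHom.ext fun x => ?_))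
      exact congrArg (fun m => m.hom x) hm
  have hks : Function.Surjective k.hom := Ideal.Quotient.mk_surjective
  have hkk : RingHom.ker k.hom = J := Ideal.mk_ker
  have halg : h.hom = algebraMap (B ⧸ J) (C ⧸ J') := by
    refine Ideal.Quotient.ringHom_ext (RingHom.ext fun x => ?_)
    rfl
  constructor
  · intro hft
    have h1 : h.hom.FiniteType := by
      rw [halg]; exact RingHom.finiteType_algebraMap.2 hft
    exact RingHom.finiteType_algebraMap.1
      (SweepSix.finiteType_of_nilpotent sq hks (by rw [hkk]; exact hJ) h1)
  · intro hfl hfp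
    have h1 : h.hom.FinitePresentation := by
      rw [halg]; exact RingHom.finitePresentation_algebraMap.2 hfp
    have h2 : (CommRingCat.ofHom (algebraMap A B) ≫ r).hom.Flat := by
      show ((algebraMap B C).comp (algebraMap A B)).Flat
      rw [← IsScalarTower.algebraMap_eq]
      exact RingHom.flat_algebraMap_iff.2 hfl
    exact RingHom.finitePresentation_algebraMap.1
      (ThickFlatLib.finitePresentation_of_nilpotent (CommRingCat.ofHom (algebraMap A B)) n hn sq hks hkk h2 h1)

end Groth.Agent.S5338
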