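import Groth.Statements.S5339
import Groth.Agent.GrpFTOpenLib.Artin
import Groth.Agent.HomTranslLib.Basic
import Groth.Agent.NeutralSchLib.Artin
-- import your own Groth.Agent.* helpers here

set_option autoImplicit false
universe u
open CategoryTheory CategoryTheory.Limits MonoidalCategory CartesianMonoidalCategory MonObj GrpObj AlgebraicGeometry
open SGA3

namespace Groth.Agent.S5339

/-- Let A be a local artinian ring and G a flat A-group scheme (not assumed locally of finite type). If
G is locally quasi-finite and locally of finite type (resp. unramified, resp. smooth, resp. etale)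
over A on some nonempty open subscheme, then G is locally quasi-finite and locally of finite type
(resp. unramified, resp. smooth, resp. etale) over A. -/
theorem result (A : Type u) [CommRing A] [IsArtinianRing A] [IsLocalRing A] (G : Over (Spec (CommRingCat.of A))) [GrpObj G] [Flat G.hom]
    (W : G.left.Opens) (hW : (W : Set G.left).Nonempty) :
    (LocallyQuasiFinite (W.ι ≫ G.hom) → LocallyOfFiniteType (W.ι ≫ G.hom) → LocallyQuasiFinite G.hom ∧ LocallyOfFiniteType G.hom) ∧
    (FormallyUnramified (W.ι ≫ G.hom) → LocallyOfFinitePresentation (W.ι ≫ G.hom) →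
      FormallyUnramified G.hom ∧ LocallyOfFinitePresentation G.hom) ∧
    (Smooth (W.ι ≫ G.hom) → Smooth G.hom) ∧ (Etale (W.ι ≫ G.hom) → Etale G.hom) := by
  haveI := NeutralSch.subsingleton_spec A
  let a : AlgGrp.Action G (𝟙_ (Over (Spec (CommRingCat.of A)))) :=
    { act := toUnit _, one_act := toUnit_unique _ _, mul_act := toUnit_unique _ _ }
  have hf : μ[G] ≫ toUnit G = (G ◁ toUnit G) ≫ a.act := toUnit_unique _ _
  have hl : (toUnit G).left = G.hom := rfl
  have lft : LocallyOfFiniteType (W.ι ≫ G.hom) → LocallyOfFiniteType G.hom :=
    fun _ => GrpFTOpen.lft_of_open_artinian A G W hW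
  have lfp : LocallyOfFiniteType (W.ι ≫ G.hom) → LocallyOfFinitePresentation G.hom := fun h => by
    haveI := lft h
    exact LocallyOfFinitePresentation.iff_locallyOfFiniteType.2 inferInstance
  refine ⟨fun hq ht => ?_, fun hu hp => ?_, fun hs => ?_, fun he => ?_⟩
  · haveI : LocallyOfFiniteType (toUnit G).left := lft ht
    haveI : LocallyQuasiFinite (W.ι ≫ (toUnit G).left) := hq
    exact ⟨HomTransl.lqf_of_open hf W hW, lft ht⟩
  · haveI : LocallyOfFinitePresentation G.hom := lfp inferInstance
    haveI : LocallyOfFiniteType (toUnit G).left := inferInstanceAs (LocallyOfFiniteType G.hom)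
    haveI : FormallyUnramified (W.ι ≫ (toUnit G).left) := hu
    exact ⟨HomTransl.unramified_of_open hf W hW, inferInstance⟩
  · haveI : LocallyOfFinitePresentation G.hom := lfp inferInstance
    haveI : Smooth (W.ι ≫ (toUnit G).left) := hs
    exact HomTransl.smooth_of_open hf W hW
  · haveI : LocallyOfFinitePresentation G.hom := lfp inferInstance
    haveI : Etale (W.ι ≫ (toUnit G).left) := he
    exact HomTransl.etale_of_open hf W hW
end Groth.Agent.S5339
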