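import Groth.Statements.S5343
import Mathlib


-- import your own Groth.Agent.* helpers here

set_option autoImplicit false
universe u
open CategoryTheory CategoryTheory.Limits MonoidalCategory CartesianMonoidalCategory MonObj GrpObj AlgebraicGeometry
open SGA3

namespace Groth.Agent.S5343

/-- Let R be a commutative ring and B a commutative R-algebra which is projective as an R-module. Then
the image of Spec B → Spec R is an open and closed subset of Spec R. (The published statement
concerns a quasi-coherent algebra on any scheme which is a direct summand of a free module; this row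
is the affine case.) -/
theorem result (R B : Type u) [CommRing R] [CommRing B] [Algebra R B] [Module.Projective R B] :
    IsClopen (Set.range (PrimeSpectrum.comap (algebraMap R B))) := by
  classical
  obtain ⟨s, hs⟩ := Module.projective_def'.1 (inferInstance : Module.Projective R B)
  set T : Ideal R := LinearMap.range (LinearMap.applyₗ (1 : B) : (B →ₗ[R] R) →ₗ[R] R) with hT
  have hmemT : ∀ (φ : B →ₗ[R] R) (b : B), φ b ∈ T := fun φ b => by
    exact ⟨φ ∘ₗ LinearMap.mulLeft R b, by simp⟩
  set G : Finset R := (s (1 : B)).support.image (fun i => s 1 i) with hG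
  have hexp : ∀ φ : B →ₗ[R] R, φ 1 = (s 1).sum (fun i r => r * φ i) := fun φ => by
    have h := LinearMap.congr_fun hs (1 : B)
    rw [LinearMap.comp_apply, Finsupp.linearCombination_apply, LinearMap.id_apply] at h
    conv_lhs => rw [← h]
    simp [Finsupp.sum, map_sum]
  have hTG : T = Ideal.span (G : Set R) := by
    refine le_antisymm ?_ (Ideal.span_le.2 ?_)
    · rintro _ ⟨φ, rfl⟩
      show φ 1 ∈ _
      rw [hexp]
      refine Ideal.sum_mem _ fun i hi => Ideal.mul_mem_right _ _ (Ideal.subset_span ?_)
      simp only [hG, Finset.coe_image, Set.mem_image]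
      exact ⟨i, hi, rfl⟩
    · intro r hr
      simp only [hG, Finset.coe_image, Set.mem_image] at hr
      obtain ⟨i, _, rfl⟩ := hr
      exact hmemT (Finsupp.lapply i ∘ₗ s) 1
  have hidem : IsIdempotentElem T := by
    refine le_antisymm Ideal.mul_le_left ?_
    rintro _ ⟨φ, rfl⟩
    show φ 1 ∈ _
    rw [hexp]
    exact Ideal.sum_mem _ fun i _ =>
      Ideal.mul_mem_mul (hmemT (Finsupp.lapply i ∘ₗ s) 1) (hmemT φ i)
  obtain ⟨e, he, hTe⟩ := (Ideal.isIdempotentElem_iff_of_fg T ⟨G, hTG.symm⟩).1 hidem
  rw [PrimeSpectrum.isClopen_iff]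
  refine ⟨e, he, Set.ext fun p => ?_⟩
  rw [PrimeSpectrum.mem_range_comap_iff]
  show _ ↔ e ∉ p.asIdeal
  constructor
  · intro h hep
    have hle : T ≤ p.asIdeal := by
      rw [hTe, Submodule.span_le, Set.singleton_subset_iff]
      exact hep
    apply p.2.ne_top
    rw [← h, Ideal.comap_eq_top_iff]
    rw [Ideal.eq_top_iff_one]
    have h1 := LinearMap.congr_fun hs (1 : B)
    rw [LinearMap.comp_apply, Finsupp.linearCombination_apply, LinearMap.id_apply] at h1
    rw [← h1]
    refine Ideal.sum_mem _ fun i _ => ?_
    simp only [id_eq]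
    rw [Algebra.smul_def]
    exact Ideal.mul_mem_right _ _ (Ideal.mem_map_of_mem _ (hle (hmemT (Finsupp.lapply i ∘ₗ s) 1)))
  · intro hep
    refine le_antisymm (fun r hr => ?_) Ideal.le_comap_map
    have hne : e ∈ T := by rw [hTe]; exact Submodule.mem_span_singleton_self e
    obtain ⟨φ, hφ⟩ := hne
    have hsub : ∀ y ∈ p.asIdeal.map (algebraMap R B), φ y ∈ p.asIdeal := by
      intro y hy
      have hy' : y ∈ p.asIdeal • (⊤ : Submodule R B) := by rw [Ideal.smul_top_eq_map]; exact hy
      refine Submodule.smul_induction_on hy' (fun a ha b _ => ?_) (fun u v hu hv => ?_)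
      · rw [map_smul, smul_eq_mul]
        exact Ideal.mul_mem_right _ _ ha
      · rw [map_add]
        exact add_mem hu hv
    have h2 := hsub _ hr
    rw [Algebra.algebraMap_eq_smul_one, map_smul, smul_eq_mul] at h2
    have h3 : φ 1 = e := hφ
    rw [h3] at h2
    exact (p.2.mem_or_mem h2).resolve_right hep

end Groth.Agent.S5343
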