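import Groth.Statements.S5346
import Groth.Agent.ThickFlatLib.Scheme
import Groth.Agent.GrpFTOpenLib.Artin
-- import your own Groth.Agent.* helpers here

set_option autoImplicit false
set_option backward.isDefEq.respectTransparency false
universe u
open CategoryTheory CategoryTheory.Limits MonoidalCategory CartesianMonoidalCategory MonObj GrpObj AlgebraicGeometry
open SGA3

namespace Groth.Agent.S5346

/-- Finite type along a finite order thickening of the base of the base. -/
theorem lft_of_base {X X' Y Y' S S' : Scheme.{u}} {iX : X ⟶ X'} {iY : Y ⟶ Y'} {iS : S ⟶ S'}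
    {f : X ⟶ Y} {f' : X' ⟶ Y'} {g : Y ⟶ S} {g' : Y' ⟶ S'} (hS : MoreMor.IsFiniteOrderThickening iS)
    (hc : IsPullback iX f f' iY) (hcY : IsPullback iY g g' iS) (hf : LocallyOfFiniteType f) :
    LocallyOfFiniteType f' := by
  obtain ⟨⟨_, _⟩, hn⟩ := hS
  refine ThickFlatLib.of_forall_chart (iS := iS) (g' := g') @LocallyOfFiniteType fun {V U W} D => ?_
  obtain ⟨B, A, _, _, k, h, c, hh, hks, hker, sq⟩ := ThickFlatLib.exists_piece iS @LocallyOfFiniteType hc hcY hf D
  have := D.hV
  have : IsAffine W := D.hW
  have : IsAffine U := D.hU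
  refine (HasRingHomProperty.iff_of_isAffine (P := @LocallyOfFiniteType)).2 ?_
  refine SweepSix.finiteType_of_nilpotent sq hks ?_ ((HasRingHomProperty.iff_of_isAffine (P := @LocallyOfFiniteType)).1 hh)
  obtain ⟨n, hn'⟩ := SweepSix.ker_isNilpotent iS hn ⟨W, D.hW⟩
  refine ⟨n, ?_⟩
  rw [hker, ← Ideal.map_pow, hn', Ideal.zero_eq_bot, Ideal.map_bot]
  rfl

/-- Immersions are detected on thickenings, for morphisms locally of finite type. -/
theorem isImmersion_of_thickening {X X' Y Y' : Scheme.{u}} {iX : X ⟶ X'} {iY : Y ⟶ Y'} {f : X ⟶ Y} {f' : X' ⟶ Y'}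
    (hY : MoreMor.IsThickening iY) (hc : IsPullback iX f f' iY) [LocallyOfFiniteType f'] [IsImmersion f] :
    IsImmersion f' := by
  obtain ⟨_, _⟩ := hY
  haveI : IsClosedImmersion iX := MorphismProperty.of_isPullback hc.flip ‹IsClosedImmersion iY›
  haveI : Surjective iX := MorphismProperty.of_isPullback hc.flip ‹Surjective iY›
  let e : Y ≃ₜ Y' := iY.isClosedEmbedding.isEmbedding.toHomeomorphOfSurjective iY.surjective
  have hr : Set.range f'.base = e '' Set.range f.base := by
    refine Set.Subset.antisymm ?_ ?_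
    · rintro _ ⟨x, rfl⟩
      obtain ⟨z, rfl⟩ := iX.surjective x
      exact ⟨f.base z, ⟨z, rfl⟩, (congrArg (fun g : X ⟶ Y' => g.base z) hc.w).symm⟩
    · rintro _ ⟨_, ⟨z, rfl⟩, rfl⟩
      exact ⟨iX.base z, congrArg (fun g : X ⟶ Y' => g.base z) hc.w⟩
  have hlc : IsLocallyClosed (Set.range f'.base) := by
    rw [hr]
    exact f.isLocallyClosed_range.image e.isInducing (by rw [e.surjective.range_eq]; exact isOpen_univ.isLocallyClosed)
  let O : Y'.Opens := ⟨coborder (Set.range f'.base), hlc.isOpen_coborder⟩
  let u' : X' ⟶ O := IsOpenImmersion.lift O.ι f' (by rw [Scheme.Opens.range_ι]; exact subset_coborder)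
  have hu' : u' ≫ O.ι = f' := IsOpenImmersion.lift_fac _ _ _
  let v : X ⟶ (iY ⁻¹ᵁ O).toScheme := IsOpenImmersion.lift (iY ⁻¹ᵁ O).ι f (by
    rw [Scheme.Opens.range_ι]
    rintro _ ⟨z, rfl⟩
    show iY.base (f.base z) ∈ coborder (Set.range f'.base)
    exact subset_coborder ⟨iX.base z, congrArg (fun g : X ⟶ Y' => g.base z) hc.w⟩)
  have hv : v ≫ (iY ⁻¹ᵁ O).ι = f := IsOpenImmersion.lift_fac _ _ _
  have sq : IsPullback iX v u' (iY ∣_ O) := by
    refine IsPullback.of_bot (h₁₁ := iX) (v₂₁ := (iY ⁻¹ᵁ O).ι) (v₂₂ := O.ι) (h₃₁ := iY) ?_ ?_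
      (isPullback_morphismRestrict iY O)
    · rw [hv, hu']; exact hc
    · rw [← cancel_mono O.ι, Category.assoc, hu', Category.assoc, morphismRestrict_ι, reassoc_of% hv]
      exact hc.w
  haveI : IsPreimmersion (v ≫ (iY ⁻¹ᵁ O).ι) := by rw [hv]; infer_instance
  haveI : IsPreimmersion v := .of_comp v (iY ⁻¹ᵁ O).ι
  haveI : IsClosedImmersion v := by
    refine .of_isPreimmersion _ ?_
    have hE := Topology.IsInducing.isClosed_iff (f := O.ι.base) O.ι.isOpenEmbedding.isInducing
      (s := Set.range u'.base)
    have h1 : IsClosed (Set.range u'.base) := by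
      have h2 : O.ι.base ⁻¹' Set.range f'.base = Set.range u'.base := by
        refine Set.Subset.antisymm ?_ ?_
        · rintro p ⟨x, hx⟩
          exact ⟨x, O.ι.isOpenEmbedding.injective ((congrArg (fun g : X' ⟶ Y' => g.base x) hu').trans hx)⟩
        · rintro _ ⟨x, rfl⟩
          exact ⟨x, (congrArg (fun g : X' ⟶ Y' => g.base x) hu').symm⟩
      rw [← h2]
      exact isClosed_preimage_val_coborder
    have h3 : Set.range v.base = (iY ∣_ O).base ⁻¹' Set.range u'.base := by
      refine Set.Subset.antisymm ?_ ?_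
      · rintro _ ⟨z, rfl⟩
        exact ⟨iX.base z, congrArg (fun g : X ⟶ O.toScheme => g.base z) sq.w⟩
      · rintro p ⟨x, hx⟩
        obtain ⟨z, -, hz⟩ := Scheme.exists_preimage_of_isPullback sq x p hx
        exact ⟨z, hz⟩
    rw [h3]
    exact h1.preimage (iY ∣_ O).continuous
  haveI : LocallyOfFiniteType (u' ≫ O.ι) := by rw [hu']; infer_instance
  haveI : LocallyOfFiniteType u' := locallyOfFiniteType_of_comp u' O.ι
  haveI : IsClosedImmersion u' := SweepSix.isClosedImmersion_of_thickening
    ⟨IsZariskiLocalAtTarget.restrict ‹_› _, IsZariskiLocalAtTarget.restrict ‹_› _⟩ sq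
  rw [← hu']
  infer_instance

/-- Let A be a local artinian ring with residue field k and i : Spec k → Spec A the closed point. (i) If
X is an A-scheme whose base change X ⊗_A k is locally of finite type (resp. of finite type) over k,
then X is locally of finite type (resp. of finite type) over A. (ii) If u : X → Y is a morphism of
A-schemes whose base change u ⊗_A k is an immersion (resp. a closed immersion), then u is an
immersion (resp. a closed immersion). -/
theorem result (A : Type u) [CommRing A] [IsArtinianRing A] [IsLocalRing A] (X Y : Over (Spec (CommRingCat.of A))) (u : X ⟶ Y) :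
    letI i : Spec (CommRingCat.of (IsLocalRing.ResidueField A)) ⟶ (Spec (CommRingCat.of A)) := Spec.map (CommRingCat.ofHom (IsLocalRing.residue A))
    (LocallyOfFiniteType (pullback.snd X.hom i) → LocallyOfFiniteType X.hom) ∧
    (LocallyOfFiniteType (pullback.snd X.hom i) → QuasiCompact (pullback.snd X.hom i) → QuasiCompact X.hom) ∧
    (IsImmersion ((Over.pullback i).map u).left → IsImmersion u.left) ∧
    (IsClosedImmersion ((Over.pullback i).map u).left → IsClosedImmersion u.left) := by
  let i : Spec (CommRingCat.of (IsLocalRing.ResidueField A)) ⟶ Spec (CommRingCat.of A) :=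
    Spec.map (CommRingCat.ofHom (IsLocalRing.residue A))
  have hS : MoreMor.IsFiniteOrderThickening i := Groth.Agent.GrpFTOpen.finiteOrder_closedPt A
  have hcX := IsPullback.of_hasPullback X.hom i
  have hcY := IsPullback.of_hasPullback Y.hom i
  have hc : IsPullback (pullback.fst X.hom i) ((Over.pullback i).map u).left u.left (pullback.fst Y.hom i) := by
    refine IsPullback.of_bot ?_ ?_ hcY
    · have e : ((Over.pullback i).map u).left ≫ pullback.snd Y.hom i = pullback.snd X.hom i := by
        simp [Over.pullback_map_left]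
      rw [e, Over.w]
      exact hcX
    · simp [Over.pullback_map_left]
  have hT : MoreMor.IsThickening (pullback.fst Y.hom i) :=
    ⟨MorphismProperty.pullback_fst _ _ hS.1.1, MorphismProperty.pullback_fst (P := @Surjective) _ _ hS.1.2⟩
  refine ⟨fun h => SweepSix.locallyOfFiniteType_of_finiteOrder hS hcX h, fun _ h => ?_, fun h => ?_, fun h => ?_⟩
  · haveI := h
    haveI : Surjective (pullback.fst X.hom i) := MorphismProperty.pullback_fst (P := @Surjective) _ _ hS.1.2
    haveI : CompactSpace ↥(Spec (CommRingCat.of (IsLocalRing.ResidueField A))) := inferInstance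
    haveI : CompactSpace ↥(pullback X.hom i) := QuasiCompact.compactSpace_of_compactSpace (pullback.snd X.hom i)
    haveI : CompactSpace ↥X.left := (pullback.fst X.hom i).surjective.compactSpace (pullback.fst X.hom i).continuous
    exact HasAffineProperty.iff_of_isAffine.2 ‹_›
  · haveI := h
    haveI := lft_of_base hS hc hcY inferInstance
    exact isImmersion_of_thickening hT hc
  · haveI := h
    haveI := lft_of_base hS hc hcY inferInstance
    exact SweepSix.isClosedImmersion_of_thickening hT hc

end Groth.Agent.S5346
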