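import Groth.Statements.S5347
import Groth.Agent.HomTranslLib.Basic
import Groth.Agent.NeutralSchLib.Artin
open Groth.Agent
-- import your own Groth.Agent.* helpers here

set_option autoImplicit false
universe u
open CategoryTheory CategoryTheory.Limits MonoidalCategory CartesianMonoidalCategory MonObj GrpObj AlgebraicGeometry
open SGA3

namespace Groth.Agent.S5347

/-- Let A be a local artinian ring, G a flat A-group scheme (not assumed of finite type), X an A-scheme
with a left action of G and an A-point s₀ of X, and φ : G → X the orbit morphism g ↦ g·s₀. If φ is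
flat at some point of G (the local ring of G there is flat over the local ring of X at the image),
then φ is flat. -/
theorem result (A : Type u) [CommRing A] [IsArtinianRing A] [IsLocalRing A] (G X : Over (Spec (CommRingCat.of A))) [GrpObj G] [Flat G.hom]
    (a : AlgGrp.Action G X) (s₀ : 𝟙_ (Over (Spec (CommRingCat.of A))) ⟶ X)
    (h : ∃ g : G.left, ((a.orbitMap s₀).left.stalkMap g).hom.Flat) : Flat (a.orbitMap s₀).left := by
  haveI := NeutralSch.subsingleton_spec A
  obtain ⟨x, hx⟩ := h
  refine HomTransl.flat_of_flatAt (a := a) ?_ x hx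
  have : μ[G] ≫ a.orbitMap s₀ = lift μ[G] (toUnit (G ⊗ G) ≫ s₀) ≫ a.act := by
    simp [AlgGrp.Action.orbitMap, comp_lift_assoc]
  rw [this]
  have h2 : (G ◁ a.orbitMap s₀) ≫ a.act = lift (fst G G) (lift (snd G G) (toUnit (G ⊗ G) ≫ s₀) ≫ a.act) ≫ a.act := by
    congr 1
    exact CartesianMonoidalCategory.hom_ext _ _ (by simp) (by simp [AlgGrp.Action.orbitMap, comp_lift_assoc])
  rw [h2, ← GrpShear.lift_mul_act, Hom.mul_def, lift_fst_snd, Category.id_comp]
end Groth.Agent.S5347
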