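import Groth.Statements.S5351
import Groth.Agent.QuotThickLib.Exist
import Groth.Agent.QuotThickLib.Components
import Groth.Agent.BorelLib.ImageField
import Groth.Agent.S0115

set_option linter.style.haveILetI false
set_option backward.isDefEq.respectTransparency false
set_option maxHeartbeats 800000
-- import your own Groth.Agent.* helpers here

set_option autoImplicit false
universe u
open CategoryTheory CategoryTheory.Limits MonoidalCategory CartesianMonoidalCategory MonObj GrpObj AlgebraicGeometry
open SGA3

namespace Groth.Agent.S5351
open CategoryTheory.Limits

attribute [-instance] CategoryTheory.Hom.commGroup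

/-- Let A be a local artinian ring, G an A-group scheme locally of finite type, and u : F → G a
homomorphism which is a closed immersion, with F flat and quasi-compact (hence of finite type) over
A (G is not assumed flat). Then there are an A-scheme X and a morphism p : G → X over A (the
quotient of G by F acting by left translations) such that: X is separated and locally of finite type
over A; p is surjective, flat and locally of finite presentation; the square formed by (f, g) ↦
u(f)·g, the second projection F ×_A G → G and p (twice) is cartesian; X is flat (resp.
quasi-compact, resp. smooth) over A when G is; and every connected component of X is irreducible and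
quasi-compact, of dimension d with d + dim F = dim G. (The published statement asks only that F be a
closed subgroup scheme flat over A, hence locally of finite type; this row also assumes F
quasi-compact over A, the case in which the second projection F ×_A G → G is of finite presentation,
as the reduction to the residue field used in the proof requires. The published statement also
asserts exactness of F ×_A G ⇉ G → X in the category of all ringed spaces and a right action of G on
X; these are not part of this row.) -/
theorem result (A : Type u) [CommRing A] [IsArtinianRing A] [IsLocalRing A] (F G : Over (Spec (CommRingCat.of A))) [GrpObj F] [GrpObj G]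
    [LocallyOfFiniteType G.hom] [Flat F.hom] [QuasiCompact F.hom] (u : F ⟶ G) [IsMonHom u] [IsClosedImmersion u.left] :
    ∃ (X : Over (Spec (CommRingCat.of A))) (p : G ⟶ X),
      IsSeparated X.hom ∧ LocallyOfFiniteType X.hom ∧
      Surjective p.left ∧ Flat p.left ∧ LocallyOfFinitePresentation p.left ∧
      IsPullback ((u ▷ G) ≫ μ[G]) (snd F G) p p ∧
      (Flat G.hom → Flat X.hom) ∧ (QuasiCompact G.hom → QuasiCompact X.hom) ∧ (Smooth G.hom → Smooth X.hom) ∧
      ∀ x : X.left, IsIrreducible (connectedComponent x) ∧ IsCompact (connectedComponent x) ∧
        topologicalKrullDim ↥(connectedComponent x) + topologicalKrullDim ↥F.left = topologicalKrullDim ↥G.left := by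
  haveI : Subsingleton ↥(Spec (CommRingCat.of A)) := Groth.Agent.NeutralSch.subsingleton_spec A
  obtain ⟨X, p, hsep, hlft, hps, hpf, hpl, sq⟩ := QuotThickLib.exists_quotient u
  haveI := hsep; haveI := hlft; haveI := hps; haveI := hpf; haveI := hpl
  refine ⟨X, p, hsep, hlft, hps, hpf, hpl, sq, fun hG => ?_, fun hG => ?_, fun hG => ?_, fun x => ?_⟩
  · haveI : Flat (p.left ≫ X.hom) := by rw [Over.w p]; exact hG
    exact Groth.Agent.QuotRep.flat_of_comp_surjective p.left X.hom
  · haveI : CompactSpace ↥G.left := (HasAffineProperty.iff_of_isAffine (P := @QuasiCompact)).mp hG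
    haveI : CompactSpace ↥X.left := p.left.surjective.compactSpace p.left.continuous
    exact (HasAffineProperty.iff_of_isAffine (P := @QuasiCompact)).mpr this
  · haveI : Smooth (p.left ≫ X.hom) := by rw [Over.w p]; exact hG
    exact Groth.Agent.S0115.result p.left X.hom
  let f := QuotThickLib.resPt A
  haveI := (QuotThickLib.isThickening_resPt (A := A)).1
  haveI := (QuotThickLib.isThickening_resPt (A := A)).2
  haveI : LocallyOfFiniteType F.hom := by rw [← Over.w u]; infer_instance
  haveI : LocallyOfFiniteType (Red.bc f G).hom := inferInstanceAs (LocallyOfFiniteType (pullback.snd G.hom f))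
  haveI : LocallyOfFiniteType (Red.bc f F).hom := inferInstanceAs (LocallyOfFiniteType (pullback.snd F.hom f))
  haveI : LocallyOfFiniteType (Red.bc f X).hom := inferInstanceAs (LocallyOfFiniteType (pullback.snd X.hom f))
  haveI : IsSeparated (Red.bc f X).hom := inferInstanceAs (IsSeparated (pullback.snd X.hom f))
  let u₀ : Red.bc f F ⟶ Red.bc f G := (Over.pullback f).map u
  haveI : IsMonHom u₀ := Groth.Agent.DiagRep.isMonHom_bc_map f u
  let p₀ : Red.bc f G ⟶ Red.bc f X := (Over.pullback f).map p
  have sqp := Groth.Agent.BorelLib.isPullback_bc_map f p
  haveI : Flat p₀.left := MorphismProperty.of_isPullback sqp hpf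
  haveI : Surjective p₀.left := Groth.Agent.BorelLib.surjective_bc f p
  haveI : LocallyOfFinitePresentation p₀.left := MorphismProperty.of_isPullback sqp hpl
  have sq₀ := QuotThickLib.isPullback_act_bc f u p₀ (sq.map (Over.pullback f))
  have hhom : ∀ Z : Over (Spec (CommRingCat.of A)), IsHomeomorph (pullback.fst Z.hom f).base := fun Z => by
    have h1 : IsClosedImmersion (pullback.fst Z.hom f) := inferInstance
    have h2 : Surjective (pullback.fst Z.hom f) := MorphismProperty.pullback_fst _ _ inferInstance
    exact isHomeomorph_iff_isEmbedding_surjective.2 ⟨h1.isClosedEmbedding.isEmbedding, h2.surj⟩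
  let φ : (Red.bc f X).left ≃ₜ X.left := (hhom X).homeomorph _
  obtain ⟨h1, h2, h3⟩ := QuotThickLib.components u₀ p₀ sq₀ (φ.symm x)
  have hcc : φ '' connectedComponent (φ.symm x) = connectedComponent x := by
    rw [← connectedComponentIn_univ, φ.image_connectedComponentIn (Set.mem_univ _), Set.image_univ, φ.range_coe,
      φ.apply_symm_apply, connectedComponentIn_univ]
  refine ⟨?_, ?_, ?_⟩
  · rw [← hcc]; exact h1.image _ φ.continuous.continuousOn
  · rw [← hcc]; exact h2.image φ.continuous
  · rw [← hcc, ← IsHomeomorph.topologicalKrullDim_eq _ (φ.image (connectedComponent (φ.symm x))).isHomeomorph,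
      ← IsHomeomorph.topologicalKrullDim_eq _ (hhom F), ← IsHomeomorph.topologicalKrullDim_eq _ (hhom G)]
    exact h3


end Groth.Agent.S5351
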