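import Groth.Statements.S5353
import Groth.Agent.S5938
import Groth.Agent.AlgSpLib.SrcDescent
import Mathlib.AlgebraicGeometry.Morphisms.FlatDescent
-- import your own Groth.Agent.* helpers here

set_option autoImplicit false
universe u
open CategoryTheory CategoryTheory.Limits MonoidalCategory CartesianMonoidalCategory MonObj GrpObj AlgebraicGeometry
open SGA3

namespace Groth.Agent.S5353

open CategoryTheory.Limits MonoidalCategory CartesianMonoidalCategory in
open scoped MonObj in
theorem isOpenImmersion_diagonal {S : Scheme.{u}} {N Z W : Over S} [GrpObj N] [GrpObj Z] (f : Z ⟶ N)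
    [IsOpenImmersion f.left] (q : N ⟶ W) [Flat q.left] [Surjective q.left] [LocallyOfFinitePresentation q.left]
    (sq : IsPullback (fst N Z) ((N ◁ f) ≫ μ[N]) q q) : IsOpenImmersion (pullback.diagonal W.hom) := by
  let shear : N ⊗ N ≅ N ⊗ N :=
    { hom := lift (fst N N) (fst N N * snd N N)
      inv := lift (fst N N) ((fst N N)⁻¹ * snd N N)
      hom_inv_id := by
        refine CartesianMonoidalCategory.hom_ext _ _ ?_ ?_ <;> simp [MonObj.comp_mul, GrpObj.comp_inv]
      inv_hom_id := by
        refine CartesianMonoidalCategory.hom_ext _ _ ?_ ?_ <;> simp [MonObj.comp_mul] }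
  let d : N ⊗ Z ⟶ N ⊗ N := (N ◁ f) ≫ shear.hom
  haveI : IsOpenImmersion d.left := by
    haveI : IsOpenImmersion (N ◁ f).left := by
      rw [Over.whiskerLeft_left]
      exact Scheme.pullback_map_isOpenImmersion _ _ _ _ _ _ _ _ _
    haveI : IsIso shear.hom.left := ((Over.forget S).mapIso shear).isIso_hom
    rw [Over.comp_left]
    infer_instance
  have h1 : d ≫ fst N N = fst N Z := by simp [d, shear]
  have h2 : d ≫ snd N N = (N ◁ f) ≫ μ[N] := by
    simp only [d, shear, Category.assoc, lift_snd]
    rw [MonObj.mul_eq_mul]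
  have sqL : IsPullback (fst N Z).left ((N ◁ f) ≫ μ[N]).left q.left q.left := sq.map (Over.forget S)
  let top := pullback.map q.left q.left (q.left ≫ W.hom) (q.left ≫ W.hom) (𝟙 N.left) (𝟙 N.left) W.hom
    (Category.id_comp _).symm (Category.id_comp _).symm
  let e' := pullback.congrHom (Over.w q) (Over.w q)
  have htop : sqL.isoPullback.hom ≫ top ≫ e'.hom = d.left := by
    refine pullback.hom_ext ?_ ?_
    · simp only [top, e', pullback.congrHom_hom, pullback.map, Category.assoc, pullback.lift_fst, Category.comp_id]
      rw [IsPullback.isoPullback_hom_fst, ← h1]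
      rfl
    · simp only [top, e', pullback.congrHom_hom, pullback.map, Category.assoc, pullback.lift_snd, Category.comp_id]
      rw [IsPullback.isoPullback_hom_snd, ← h2]
      rfl
  have htop' : IsOpenImmersion top := by
    rw [← MorphismProperty.cancel_left_of_respectsIso @IsOpenImmersion sqL.isoPullback.hom,
      ← MorphismProperty.cancel_right_of_respectsIso @IsOpenImmersion _ e'.hom, Category.assoc, htop]
    infer_instance
  refine MorphismProperty.of_isPullback_of_descendsAlong (P := @IsOpenImmersion)
    (Q := @Surjective ⊓ @Flat ⊓ @LocallyOfFinitePresentation) (pullback_map_diagonal_isPullback q.left q.left W.hom).flip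
    ⟨⟨?_, ?_⟩, ?_⟩ htop'
  · exact MorphismProperty.pullbackMap (P := @Surjective) inferInstance inferInstance rfl rfl
  · exact MorphismProperty.pullbackMap (P := @Flat) inferInstance inferInstance rfl rfl
  · exact MorphismProperty.pullbackMap (P := @LocallyOfFinitePresentation) inferInstance inferInstance rfl rfl

open CategoryTheory.Limits MonoidalCategory CartesianMonoidalCategory in
open scoped MonObj in
theorem isPullback_of_isKernel {S : Scheme.{u}} {Z N W : Over S} [GrpObj Z] [GrpObj N] [GrpObj W] (i : Z ⟶ N)
    (q : N ⟶ W) [IsMonHom q] (hK : AlgGrp.IsKernel i q) : IsPullback (fst N Z) ((N ◁ i) ≫ μ[N]) q q := by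
  have h1 : (N ◁ i) ≫ μ[N] = fst N Z * (snd N Z ≫ i) := by
    rw [MonObj.mul_eq_mul, MonObj.comp_mul, whiskerLeft_fst, whiskerLeft_snd]
  have hi : i ≫ q = 1 := by rw [hK.w, MonObj.one_eq_one, MonObj.comp_one]
  have hw : fst N Z ≫ q = ((N ◁ i) ≫ μ[N]) ≫ q := by
    rw [h1, MonObj.mul_comp, Category.assoc, hi, MonObj.comp_one, _root_.mul_one]
  refine IsPullback.of_isLimit' ⟨hw⟩ (PullbackCone.IsLimit.mk _
    (fun c => lift c.fst (hK.lift (c.fst⁻¹ * c.snd) (toUnit _) ?_)) (fun c => lift_fst _ _) (fun c => ?_)
    (fun c m h₁ h₂ => ?_))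
  · rw [MonObj.mul_comp, GrpObj.inv_comp, c.condition, inv_mul_cancel, MonObj.one_eq_one, MonObj.comp_one]
  · show lift _ _ ≫ (N ◁ i) ≫ μ[N] = c.snd
    rw [h1, MonObj.comp_mul, lift_fst, lift_snd_assoc, hK.lift_fst, mul_inv_cancel_left]
  · refine CartesianMonoidalCategory.hom_ext _ _ ?_ ?_
    · rw [lift_fst]; exact h₁
    · rw [lift_snd]
      refine hK.hom_ext ?_ (toUnit_unique _ _)
      rw [hK.lift_fst, ← h₂, eq_inv_mul_iff_mul_eq, Category.assoc, h1, MonObj.comp_mul, h₁]


/-- Let A be a local artinian ring, G an A-group scheme which is flat and locally of finite type, i : G⁰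
→ G an open subgroup scheme whose image is the connected component of the unit (the neutral
component), and p : G → Q a homomorphism of A-group schemes which is surjective, flat and locally of
finite presentation with kernel G⁰ (Q is the quotient of G by G⁰). Then Q is etale over A. -/
theorem result (A : Type u) [CommRing A] [IsArtinianRing A] [IsLocalRing A] (G0 G Q : Over (Spec (CommRingCat.of A))) [GrpObj G0] [GrpObj G] [GrpObj Q]
    [Flat G.hom] [LocallyOfFiniteType G.hom] (i : G0 ⟶ G) [IsMonHom i] [IsOpenImmersion i.left]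
    (pt : ↥(𝟙_ (Over (Spec (CommRingCat.of A)))).left) (hi : Set.range i.left.base = connectedComponent (η[G].left.base pt))
    (p : G ⟶ Q) [IsMonHom p] [Surjective p.left] [Flat p.left] [LocallyOfFinitePresentation p.left]
    (hK : AlgGrp.IsKernel i p) : Etale Q.hom := by
  haveI : LocallyOfFiniteType (p.left ≫ Q.hom) := by rw [Over.w p]; infer_instance
  haveI : LocallyOfFiniteType Q.hom := Groth.Agent.S5938.result p.left Q.hom
  haveI : Flat Q.hom := AlgSpLib.flat_of_flat_surjective_comp p.left Q.hom (by rw [Over.w p]; infer_instance)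
  haveI : IsLocallyNoetherian (Spec (CommRingCat.of A)) := inferInstance
  haveI : LocallyOfFinitePresentation Q.hom := inferInstance
  haveI : IsOpenImmersion (Limits.pullback.diagonal Q.hom) := isOpenImmersion_diagonal i p (isPullback_of_isKernel i p hK)
  haveI : FormallyUnramified Q.hom := inferInstance
  exact Etale.iff_flat_and_formallyUnramified.2 ⟨inferInstance, inferInstance, inferInstance⟩

end Groth.Agent.S5353
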