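import Groth.Statements.S5356
import Groth.Agent.WeilResLib.Maps
import Groth.Agent.QuotRepLib.Saturate
import Groth.Agent.ProjLib.ProjNil
-- import your own Groth.Agent.* helpers here

set_option autoImplicit false
set_option backward.isDefEq.respectTransparency false
universe u
open CategoryTheory CategoryTheory.Limits MonoidalCategory CartesianMonoidalCategory MonObj GrpObj AlgebraicGeometry
open SGA3

namespace Groth.Agent.S5356

/-- b), c) (first assertion of c)): (a) an essentially free morphism f : X → S is flat, and conversely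
if S is the spectrum of an artinian ring every flat S-scheme is essentially free over S; (b) every
scheme over a field is essentially free over it; (c) if X is essentially free over S then X ×_S S'
is essentially free over S' for every S' → S. -/
theorem result :
    (∀ (X S : Scheme.{u}) (f : X ⟶ S), SGA3x.IsEssentiallyFree f → Flat f) ∧
    (∀ (A : Type u) [CommRing A] [IsArtinianRing A] (X : Scheme.{u}) (f : X ⟶ Spec (CommRingCat.of A)),
      Flat f → SGA3x.IsEssentiallyFree f) ∧
    (∀ (k : Type u) [Field k] (X : Scheme.{u}) (f : X ⟶ Spec (CommRingCat.of k)), SGA3x.IsEssentiallyFree f) ∧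
    (∀ (X S S' : Scheme.{u}) (f : X ⟶ S) (g : S' ⟶ S), SGA3x.IsEssentiallyFree f →
      SGA3x.IsEssentiallyFree (pullback.snd f g)) := by
  classical
  refine ⟨fun X S f hf => ?_, fun A _ _ X f hf => ?_, fun k _ X f => Groth.Agent.WeilRes.isEssentiallyFree_of_field f,
    fun X S S' f g hf => Groth.Agent.WeilRes.isEssentiallyFree_baseChange f hf g _ _ (IsPullback.of_hasPullback f g)⟩
  · choose U hsU hU S' hS' g hgf hgs hproj using hf
    have hcov : iSup U = ⊤ := eq_top_iff.2 fun s _ => TopologicalSpace.Opens.mem_iSup.2 ⟨s, hsU s⟩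
    refine (IsZariskiLocalAtTarget.iff_of_openCover (P := @Flat) (S.openCoverOfIsOpenCover U hcov)).mpr fun s => ?_
    show Flat (pullback.snd f (U s).ι)
    haveI := hgf s; haveI := hgs s; haveI := hS' s
    let π := pullback.snd f (g s ≫ (U s).ι)
    let q : pullback f (g s ≫ (U s).ι) ⟶ pullback f (U s).ι :=
      pullback.lift (pullback.fst _ _) (π ≫ g s) (by rw [pullback.condition, Category.assoc])
    have hq : IsPullback q π (pullback.snd f (U s).ι) (g s) := by
      refine IsPullback.of_right ?_ (pullback.lift_snd _ _ _) (IsPullback.of_hasPullback f (U s).ι)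
      rw [pullback.lift_fst]
      exact IsPullback.of_hasPullback f (g s ≫ (U s).ι)
    haveI : Flat q := MorphismProperty.of_isPullback hq.flip (hgf s)
    haveI : Surjective q := MorphismProperty.of_isPullback (P := @Surjective) hq.flip (hgs s)
    haveI : Flat π := by
      choose V hxV hV hp using hproj s
      have hcov' : iSup V = ⊤ := eq_top_iff.2 fun x _ => TopologicalSpace.Opens.mem_iSup.2 ⟨x, hxV x⟩
      refine (IsZariskiLocalAtSource.iff_of_openCover (P := @Flat)
        (Scheme.openCoverOfIsOpenCover _ V hcov')).mpr fun x => ?_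
      show Flat ((V x).ι ≫ π)
      haveI : IsAffine (V x).toScheme := hV x
      rw [HasRingHomProperty.iff_of_isAffine (P := @Flat)]
      letI := ((V x).ι ≫ π).appTop.hom.toAlgebra
      haveI : Module.Projective Γ(S' s, ⊤) Γ((V x).toScheme, ⊤) := hp x
      exact Module.Flat.of_projective
    haveI : Flat (q ≫ pullback.snd f (U s).ι) := by rw [hq.w]; infer_instance
    exact Groth.Agent.QuotRep.flat_of_comp_surjective q _
  · intro s
    let U : (Spec (CommRingCat.of A)).Opens := ⊤
    haveI : IsAffine (U : Scheme.{u}) := isAffineOpen_top _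
    refine ⟨U, trivial, isAffineOpen_top _, U, inferInstance, 𝟙 _, inferInstance, inferInstance, fun x => ?_⟩
    obtain ⟨W, hW, hxW, -⟩ := exists_isAffineOpen_mem_and_subset
      (X := pullback f (𝟙 (U : Scheme.{u}) ≫ U.ι)) (x := x) (U := ⊤) trivial
    refine ⟨W, hxW, hW, ?_⟩
    haveI : IsAffine W.toScheme := hW
    let e : Γ((U : Scheme.{u}), ⊤) ≅ CommRingCat.of A := U.topIso ≪≫ Scheme.ΓSpecIso (CommRingCat.of A)
    haveI : IsArtinianRing Γ((U : Scheme.{u}), ⊤) :=
      e.commRingCatIsoToRingEquiv.symm.surjective.isArtinianRing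
    have hfl : (W.ι ≫ pullback.snd f (𝟙 (U : Scheme.{u}) ≫ U.ι)).appTop.hom.Flat := by
      haveI : Flat (pullback.snd f (𝟙 (U : Scheme.{u}) ≫ U.ι)) := MorphismProperty.pullback_snd _ _ hf
      exact (HasRingHomProperty.iff_of_isAffine (P := @Flat)).1 inferInstance
    letI := (W.ι ≫ pullback.snd f (𝟙 (U : Scheme.{u}) ≫ U.ι)).appTop.hom.toAlgebra
    haveI : Module.Flat Γ((U : Scheme.{u}), ⊤) Γ((W : Scheme.{u}), ⊤) := hfl
    let J := Ring.jacobson Γ((U : Scheme.{u}), ⊤)
    haveI : IsSemisimpleRing (Γ((U : Scheme.{u}), ⊤) ⧸ J) := inferInstance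
    haveI : Module.Projective (Γ((U : Scheme.{u}), ⊤) ⧸ J)
        (Γ((W : Scheme.{u}), ⊤) ⧸ (J • ⊤ : Submodule Γ((U : Scheme.{u}), ⊤) Γ((W : Scheme.{u}), ⊤))) :=
      Module.projective_of_isSemisimpleRing _ _
    exact ProjLib.projective_of_nilpotent (I := J) IsSemiprimaryRing.isNilpotent _

end Groth.Agent.S5356
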