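import Groth.Statements.S5357
import Groth.Agent.WeilResLib.FieldBase
import Groth.Agent.GrpFieldLib.Comps


-- import your own Groth.Agent.* helpers here

set_option autoImplicit false
universe u
open CategoryTheory CategoryTheory.Limits MonoidalCategory CartesianMonoidalCategory MonObj GrpObj AlgebraicGeometry
open SGA3

namespace Groth.Agent.S5357

/-- Let G be a group scheme over a field k, X a k-scheme and u, v : X → G two morphisms of k-schemes.
Then the transporter of u into v, the subfunctor of G whose points with values in S' are the g such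
that g u(x) g⁻¹ = v(x) for every S'' → S' and every point x of X with values in S'', is represented
by a closed subscheme of G. (For u = v this says that the centralizer of u is represented by a
closed subscheme of G; that it is a subgroup scheme is not stated here.) -/
theorem result (k : Type u) [Field k] (G X : Over (Spec (CommRingCat.of k))) [GrpObj G]
    (u v : X ⟶ G) :
    ∃ (T : Over (Spec (CommRingCat.of k))) (t : T ⟶ G), IsClosedImmersion t.left ∧
      ∀ (S' : Over (Spec (CommRingCat.of k))) (g : S' ⟶ G), (∃ z : S' ⟶ T, z ≫ t = g) ↔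
        ∀ (S'' : Over (Spec (CommRingCat.of k))) (s : S'' ⟶ S') (x : S'' ⟶ X), (s ≫ g) * (x ≫ u) * (s ≫ g)⁻¹ = x ≫ v := by
  haveI : IsSeparated G.hom := Groth.Agent.GrpField.isSeparated_grp (G := G)
  let a : G ⊗ X ⟶ G := fst G X * (snd G X ≫ u) * (fst G X)⁻¹
  let b : G ⊗ X ⟶ G := snd G X ≫ v
  let c : G ⊗ X ⟶ G ⊗ G := lift a b
  let Δ : G ⟶ G ⊗ G := lift (𝟙 G) (𝟙 G)
  haveI : IsClosedImmersion Δ.left := by
    have : Δ.left = pullback.diagonal G.hom := by
      apply pullback.hom_ext
      · rw [pullback.diagonal_fst]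
        show Δ.left ≫ (fst G G).left = _
        rw [← Over.comp_left, lift_fst]; rfl
      · rw [pullback.diagonal_snd]
        show Δ.left ≫ (snd G G).left = _
        rw [← Over.comp_left, lift_snd]; rfl
    rw [this]
    infer_instance
  let y : Limits.pullback c.left Δ.left ⟶ Limits.pullback G.hom X.hom := Limits.pullback.fst c.left Δ.left
  haveI : IsClosedImmersion y := inferInstanceAs (IsClosedImmersion (Limits.pullback.fst _ _))
  obtain ⟨T, t, ht, hT⟩ := Groth.Agent.WeilRes.exists_closed_inY_field G.hom X.hom y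
  refine ⟨Over.mk (t ≫ G.hom), Over.homMk t rfl, ht, fun S' g => ?_⟩
  have hconv : ∀ {Z : Over (Spec (CommRingCat.of k))} (s : Z ⟶ G ⊗ X),
      (s ≫ a = s ≫ b) ↔ (s ≫ fst G X) * (s ≫ snd G X ≫ u) * (s ≫ fst G X)⁻¹ = s ≫ snd G X ≫ v := by
    intro Z s
    simp only [a, b, MonObj.comp_mul, GrpObj.comp_inv]
  constructor
  · rintro ⟨z, hz⟩ S'' s x
    have hg : z.left ≫ t = g.left := congrArg CommaMorphism.left hz
    obtain ⟨l, hl⟩ := (hT g.left).1 ⟨z.left, hg⟩
    let st : S'' ⟶ G ⊗ X := lift (s ≫ g) x
    let π : S''.left ⟶ Limits.pullback (Limits.pullback.fst G.hom X.hom) g.left :=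
      Limits.pullback.lift st.left s.left (by
        rw [← Over.fst_left, ← Over.comp_left, lift_fst, Over.comp_left])
    have hst : st.left = (π ≫ l) ≫ y := by rw [Category.assoc, hl, Limits.pullback.lift_fst]
    have hΔa : Δ.left ≫ (fst G G).left = 𝟙 G.left := by rw [← Over.comp_left, lift_fst]; rfl
    have hΔb : Δ.left ≫ (snd G G).left = 𝟙 G.left := by rw [← Over.comp_left, lift_snd]; rfl
    have hca : c.left ≫ (fst G G).left = a.left := by rw [← Over.comp_left, lift_fst]
    have hcb : c.left ≫ (snd G G).left = b.left := by rw [← Over.comp_left, lift_snd]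
    have hab : st ≫ a = st ≫ b := by
      ext1
      rw [Over.comp_left, Over.comp_left, ← hca, ← hcb, hst]
      simp only [y, Category.assoc]
      erw [Limits.pullback.condition_assoc, Limits.pullback.condition_assoc, hΔa, hΔb]
    simpa [st] using (hconv st).1 hab
  · intro h
    let P := Limits.pullback (Limits.pullback.fst G.hom X.hom) g.left
    let S'' : Over (Spec (CommRingCat.of k)) := Over.mk (Limits.pullback.snd (Limits.pullback.fst G.hom X.hom) g.left ≫ S'.hom)
    let s : S'' ⟶ S' := Over.homMk (Limits.pullback.snd _ _) rfl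
    let st : S'' ⟶ G ⊗ X := Over.homMk (Limits.pullback.fst _ _) (by
      rw [Over.tensorObj_hom]
      show _ = Limits.pullback.snd (Limits.pullback.fst G.hom X.hom) g.left ≫ S'.hom
      rw [← Over.w g, ← Limits.pullback.condition_assoc])
    have hfst : st ≫ fst G X = s ≫ g := Over.OverMorphism.ext Limits.pullback.condition
    have hab : st ≫ a = st ≫ b := (hconv st).2 (by
      rw [hfst, ← Category.assoc st (snd G X) u, ← Category.assoc st (snd G X) v]
      exact h S'' s (st ≫ snd G X))
    have h1 : st ≫ c = (st ≫ a) ≫ Δ := CartesianMonoidalCategory.hom_ext _ _ (by simp [c, Δ]) (by simp [c, Δ, hab])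
    obtain ⟨z, hz⟩ := (hT g.left).2
      ⟨Limits.pullback.lift st.left (st ≫ a).left (congrArg CommaMorphism.left h1), Limits.pullback.lift_fst _ _ _⟩
    exact ⟨Over.homMk z (by rw [← Over.w g, ← hz, Category.assoc]; rfl), Over.OverMorphism.ext hz⟩

end Groth.Agent.S5357
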