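import Groth.Statements.S5358
import Groth.Agent.WeilResLib.Apps
import Groth.Agent.WeilResLib.Maps
import Groth.Agent.GrpFieldLib.ClosedImage


-- import your own Groth.Agent.* helpers here

set_option autoImplicit false
universe u
open CategoryTheory CategoryTheory.Limits MonoidalCategory CartesianMonoidalCategory MonObj GrpObj AlgebraicGeometry
open SGA3

namespace Groth.Agent.S5358

/-- Let G be a group scheme over a field k, y' : Y' → G an immersion and y : Y → G a closed immersion.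
(ii) The transporter of Y' into Y, whose points with values in S' are the g such that conjugation by
g carries every point of Y' (after any base change S'' → S') into Y, is represented by a closed
subscheme of G; if y' is also a closed immersion, so is the strict transporter (g Y' g⁻¹ = Y
functorially). (iii) For every subgroup scheme h : H → G (a homomorphism which is an immersion), the
normalizer of H in G is represented by a closed subscheme of G. -/
theorem result (k : Type u) [Field k] (G Y Y' : Over (Spec (CommRingCat.of k))) [GrpObj G]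
    (y : Y ⟶ G) [IsClosedImmersion y.left] (y' : Y' ⟶ G) [IsImmersion y'.left] :
    (∃ (T : Over (Spec (CommRingCat.of k))) (t : T ⟶ G), IsClosedImmersion t.left ∧
      ∀ (S' : Over (Spec (CommRingCat.of k))) (g : S' ⟶ G), (∃ z : S' ⟶ T, z ≫ t = g) ↔
        ∀ (S'' : Over (Spec (CommRingCat.of k))) (s : S'' ⟶ S') (x : S'' ⟶ Y'),
          ∃ x' : S'' ⟶ Y, (s ≫ g) * (x ≫ y') * (s ≫ g)⁻¹ = x' ≫ y) ∧
    (IsClosedImmersion y'.left →
      ∃ (T : Over (Spec (CommRingCat.of k))) (t : T ⟶ G), IsClosedImmersion t.left ∧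
      ∀ (S' : Over (Spec (CommRingCat.of k))) (g : S' ⟶ G), (∃ z : S' ⟶ T, z ≫ t = g) ↔
        ((∀ (S'' : Over (Spec (CommRingCat.of k))) (s : S'' ⟶ S') (x : S'' ⟶ Y'),
          ∃ x' : S'' ⟶ Y, (s ≫ g) * (x ≫ y') * (s ≫ g)⁻¹ = x' ≫ y) ∧
        (∀ (S'' : Over (Spec (CommRingCat.of k))) (s : S'' ⟶ S') (x' : S'' ⟶ Y),
          ∃ x : S'' ⟶ Y', (s ≫ g)⁻¹ * (x' ≫ y) * (s ≫ g) = x ≫ y'))) ∧
    (∀ (H : Over (Spec (CommRingCat.of k))) [GrpObj H] (h : H ⟶ G) [IsMonHom h] [IsImmersion h.left],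
      ∃ (N : Over (Spec (CommRingCat.of k))) (_ : GrpObj N) (n : N ⟶ G), IsClosedImmersion n.left ∧
        Red.IsNormalizerOf h n) := by
  haveI : IsSeparated G.hom := Groth.Agent.GrpField.isSeparated_grp (G := G)
  have key : ∀ {A B : Over (Spec (CommRingCat.of k))} (a : A ⟶ G) (b : B ⟶ G) [IsClosedImmersion b.left],
      (∃ (T : Over (Spec (CommRingCat.of k))) (t : T ⟶ G), IsClosedImmersion t.left ∧
        ∀ (S' : Over (Spec (CommRingCat.of k))) (g : S' ⟶ G), (∃ z : S' ⟶ T, z ≫ t = g) ↔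
          ∀ (S'' : Over (Spec (CommRingCat.of k))) (s : S'' ⟶ S') (x : S'' ⟶ A),
            ∃ x' : S'' ⟶ B, (s ≫ g) * (x ≫ a) * (s ≫ g)⁻¹ = x' ≫ b) ∧
      (∃ (T : Over (Spec (CommRingCat.of k))) (t : T ⟶ G), IsClosedImmersion t.left ∧
        ∀ (S' : Over (Spec (CommRingCat.of k))) (g : S' ⟶ G), (∃ z : S' ⟶ T, z ≫ t = g) ↔
          ∀ (S'' : Over (Spec (CommRingCat.of k))) (s : S'' ⟶ S') (x : S'' ⟶ A),
            ∃ x' : S'' ⟶ B, (s ≫ g)⁻¹ * (x ≫ a) * (s ≫ g) = x' ≫ b) := by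
    intro A B a b _
    constructor
    · obtain ⟨T, t, h1, h2⟩ := Groth.Agent.WeilRes.exists_mapsInto_closed_field
        (fst G A * (snd G A ≫ a) * (fst G A)⁻¹) b
      exact ⟨T, t, h1, fun S' g => (h2 S' g).trans (forall₃_congr fun S'' s x => by
        simp only [MonObj.comp_mul, GrpObj.comp_inv, lift_fst, lift_snd_assoc])⟩
    · obtain ⟨T, t, h1, h2⟩ := Groth.Agent.WeilRes.exists_mapsInto_closed_field
        ((fst G A)⁻¹ * (snd G A ≫ a) * fst G A) b
      exact ⟨T, t, h1, fun S' g => (h2 S' g).trans (forall₃_congr fun S'' s x => by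
        simp only [MonObj.comp_mul, GrpObj.comp_inv, lift_fst, lift_snd_assoc])⟩
  have inter : ∀ {p q : ∀ (S' : Over (Spec (CommRingCat.of k))), (S' ⟶ G) → Prop}
      (hp : ∃ (T : Over (Spec (CommRingCat.of k))) (t : T ⟶ G), IsClosedImmersion t.left ∧
        ∀ S' g, (∃ z : S' ⟶ T, z ≫ t = g) ↔ p S' g)
      (hq : ∃ (T : Over (Spec (CommRingCat.of k))) (t : T ⟶ G), IsClosedImmersion t.left ∧
        ∀ S' g, (∃ z : S' ⟶ T, z ≫ t = g) ↔ q S' g),
      ∃ (T : Over (Spec (CommRingCat.of k))) (t : T ⟶ G), IsClosedImmersion t.left ∧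
        ∀ S' g, (∃ z : S' ⟶ T, z ≫ t = g) ↔ p S' g ∧ q S' g := by
    intro p q ⟨T, t, h1, h2⟩ ⟨T', t', h1', h2'⟩
    haveI := h1
    haveI := h1'
    refine ⟨Over.mk ((Limits.pullback.fst t.left t'.left ≫ t.left) ≫ G.hom),
      Over.homMk (Limits.pullback.fst t.left t'.left ≫ t.left) rfl, inferInstanceAs (IsClosedImmersion (_ ≫ _)),
      fun S' g => ⟨?_, fun ⟨hp, hq⟩ => ?_⟩⟩
    · rintro ⟨z, rfl⟩
      refine ⟨(h2 _ _).1 ⟨Over.homMk (z.left ≫ Limits.pullback.fst _ _) ?_, Over.OverMorphism.ext (Category.assoc _ _ _)⟩,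
        (h2' _ _).1 ⟨Over.homMk (z.left ≫ Limits.pullback.snd _ _) ?_, Over.OverMorphism.ext ?_⟩⟩
      · rw [← Over.w t, Category.assoc, ← Category.assoc _ t.left]; exact Over.w z
      · rw [← Over.w t', Category.assoc, ← Category.assoc _ t'.left, ← Limits.pullback.condition]; exact Over.w z
      · exact (Category.assoc _ _ _).trans (congrArg (z.left ≫ ·) Limits.pullback.condition.symm)
    · obtain ⟨a, ha⟩ := (h2 _ _).2 hp
      obtain ⟨b, hb⟩ := (h2' _ _).2 hq
      have hab : a.left ≫ t.left = b.left ≫ t'.left := by rw [← Over.comp_left, ← Over.comp_left, ha, hb]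
      have e : Limits.pullback.lift a.left b.left hab ≫ Limits.pullback.fst t.left t'.left ≫ t.left = g.left := by
        rw [Limits.pullback.lift_fst_assoc, ← Over.comp_left, ha]
      exact ⟨Over.homMk (Limits.pullback.lift a.left b.left hab) (by
        show _ ≫ (_ ≫ _) ≫ G.hom = _
        rw [← Category.assoc, e, Over.w]), Over.OverMorphism.ext e⟩
  refine ⟨(key y' y).1, fun hy' => ?_, fun H _ h _ _ => ?_⟩
  · haveI := hy'
    exact inter (key y' y).1 (key y y').2
  · haveI : IsClosedImmersion h.left := by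
      rw [IsClosedImmersion.iff_isPreimmersion]
      exact ⟨inferInstance, Groth.Agent.GrpField.isClosed_range_hom h (Scheme.Hom.isLocallyClosed_range _)⟩
    obtain ⟨N, n, hn, hN⟩ := inter (key h h).1 (key h h).2
    haveI := hn
    haveI : Mono n := Over.mono_of_mono_left n
    have hN' : ∀ X g, (∃ w : X ⟶ N, w ≫ n = g) ↔
      ∀ (X' : Over (Spec (CommRingCat.of k))) (x : X' ⟶ X) (a : X' ⟶ H),
        (∃ h' : X' ⟶ H, (x ≫ g) * (a ≫ h) * (x ≫ g)⁻¹ = h' ≫ h) ∧
        (∃ h' : X' ⟶ H, (x ≫ g)⁻¹ * (a ≫ h) * (x ≫ g) = h' ≫ h) := fun X g =>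
      (hN X g).trans ⟨fun hh X' x a => ⟨hh.1 X' x a, hh.2 X' x a⟩,
        fun hh => ⟨fun X' x a => (hh X' x a).1, fun X' x a => (hh X' x a).2⟩⟩
    obtain ⟨gN, hm⟩ := Groth.Agent.WeilRes.grpObj_normalizer h n hN'
    exact ⟨N, gN, n, hn, hm, inferInstance, hN'⟩

end Groth.Agent.S5358
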