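import Groth.Statements.S5359
import Groth.Agent.S2732
-- import your own Groth.Agent.* helpers here

set_option autoImplicit false
universe u
open CategoryTheory CategoryTheory.Limits MonoidalCategory CartesianMonoidalCategory MonObj GrpObj AlgebraicGeometry
open SGA3

namespace Groth.Agent.S5359

/-- Let G be an S-group scheme and u : X → G a monomorphism of S-schemes with X of finite presentation
over S. If a point g : T → G is such that, for every T' → T and every point x of X with values in
T', the conjugate g x g⁻¹ is again a point of X, then the same holds for g⁻¹: the transporter of X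
into X coincides with the strict transporter (the normalizer of X). -/
theorem result (S : Scheme.{u}) (G X : Over S) [GrpObj G] (u : X ⟶ G) [Mono u]
    [LocallyOfFinitePresentation X.hom] [QuasiCompact X.hom] [QuasiSeparated X.hom]
    (T : Over S) (g : T ⟶ G)
    (hg : ∀ (T' : Over S) (t : T' ⟶ T) (x : T' ⟶ X), ∃ x' : T' ⟶ X, (t ≫ g) * (x ≫ u) * (t ≫ g)⁻¹ = x' ≫ u) :
    ∀ (T' : Over S) (t : T' ⟶ T) (x : T' ⟶ X), ∃ x' : T' ⟶ X, (t ≫ g)⁻¹ * (x ≫ u) * (t ≫ g) = x' ≫ u := by
  intro T' t x
  obtain ⟨x', hx'⟩ := hg (T ⊗ X) (fst T X) (snd T X)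
  have key : ∀ (Y : Over S) (a : Y ⟶ T ⊗ X),
      ((a ≫ fst T X) ≫ g) * ((a ≫ snd T X) ≫ u) * ((a ≫ fst T X) ≫ g)⁻¹ = (a ≫ x') ≫ u := fun Y a => by
    rw [Category.assoc a x' u, ← hx', MonObj.comp_mul, MonObj.comp_mul, GrpObj.comp_inv]
    simp only [Category.assoc]
  let φ : T ⊗ X ⟶ T ⊗ X := lift (fst T X) x'
  haveI : Mono φ := ⟨fun {Z} a b h => by
    have h1 : a ≫ fst T X = b ≫ fst T X := by simpa [φ] using congrArg (· ≫ fst T X) h
    have h2 : a ≫ x' = b ≫ x' := by simpa [φ] using congrArg (· ≫ snd T X) h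
    ext1
    · exact h1
    · rw [← cancel_mono u]
      have e := (key Z a).trans ((congrArg (· ≫ u) h2).trans (key Z b).symm)
      rw [h1] at e
      exact mul_left_cancel (mul_right_cancel e)⟩
  haveI : Mono φ.left := inferInstanceAs (Mono ((Over.forget S).map φ))
  let p : (T ⊗ X).left ⟶ T.left := (fst T X).left
  haveI : LocallyOfFinitePresentation p := inferInstanceAs (LocallyOfFinitePresentation (pullback.fst T.hom X.hom))
  haveI : QuasiCompact p := inferInstanceAs (QuasiCompact (pullback.fst T.hom X.hom))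
  haveI : QuasiSeparated p := inferInstanceAs (QuasiSeparated (pullback.fst T.hom X.hom))
  haveI := S2732.result p φ.left (by rw [← Over.comp_left, lift_fst])
  haveI : IsIso ((Over.forget S).map φ) := inferInstanceAs (IsIso φ.left)
  haveI : IsIso φ := isIso_of_reflects_iso φ (Over.forget S)
  let w := lift t x ≫ inv φ
  have h3 : w ≫ φ = lift t x := by simp [w]
  have h1 : w ≫ fst T X = t := by simpa [φ] using congrArg (· ≫ fst T X) h3
  have h2 : w ≫ x' = x := by simpa [φ] using congrArg (· ≫ snd T X) h3
  refine ⟨w ≫ snd T X, ?_⟩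
  have e := key T' w
  rw [h1, h2] at e
  rw [← e]
  group

end Groth.Agent.S5359
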