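import Groth.Statements.S5360
import Groth.Agent.AxGrothLib.Main

set_option autoImplicit false
set_option linter.all false
set_option backward.isDefEq.respectTransparency false
universe u
open CategoryTheory CategoryTheory.Limits MonoidalCategory CartesianMonoidalCategory MonObj GrpObj AlgebraicGeometry
open SGA3

namespace Groth.Agent.S5360

/-- Let G be an S-scheme of finite presentation over S with an associative composition law m : G ×_S G →
G such that for every S-scheme S' and every point g of G with values in S' the left and right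
translations by g are injective on G(S'), and such that G has an S-point. Then G is an S-group
scheme: there is a group object structure on G over S whose multiplication is m. -/
theorem result (S : Scheme.{u}) (G : Over S)
    [LocallyOfFinitePresentation G.hom] [QuasiCompact G.hom] [QuasiSeparated G.hom]
    (m : G ⊗ G ⟶ G) (hassoc : (m ▷ G) ≫ m = (α_ G G G).hom ≫ (G ◁ m) ≫ m)
    (hl : ∀ (T : Over S) (g : T ⟶ G), Function.Injective (fun x : T ⟶ G => lift g x ≫ m))
    (hr : ∀ (T : Over S) (g : T ⟶ G), Function.Injective (fun x : T ⟶ G => lift x g ≫ m))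
    (e : 𝟙_ (Over S) ⟶ G) :
    ∃ inst : GrpObj G, inst.mul = m := by
  -- associativity on points
  have assoc : ∀ (T : Over S) (a b c : T ⟶ G), lift (lift a b ≫ m) c ≫ m = lift a (lift b c ≫ m) ≫ m := by
    intro T a b c
    have h := congrArg (lift (lift a b) c ≫ ·) hassoc
    simpa using h
  -- the two translations are isomorphisms
  let L : G ⊗ G ⟶ G ⊗ G := lift (fst G G) m
  let R : G ⊗ G ⟶ G ⊗ G := lift m (snd G G)
  haveI : Mono L := ⟨fun {T} a b h => by
    have h1 := congrArg (· ≫ fst G G) h
    have h2 := congrArg (· ≫ snd G G) h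
    simp only [L, Category.assoc, lift_fst, lift_snd] at h1 h2
    refine CartesianMonoidalCategory.hom_ext _ _ h1 (hl T (a ≫ fst G G) ?_)
    show lift (a ≫ fst G G) (a ≫ snd G G) ≫ m = lift (a ≫ fst G G) (b ≫ snd G G) ≫ m
    conv_rhs => rw [h1]
    rw [lift_comp_fst_snd, lift_comp_fst_snd, h2]⟩
  haveI : Mono R := ⟨fun {T} a b h => by
    have h1 := congrArg (· ≫ fst G G) h
    have h2 := congrArg (· ≫ snd G G) h
    simp only [R, Category.assoc, lift_fst, lift_snd] at h1 h2
    refine CartesianMonoidalCategory.hom_ext _ _ (hr T (a ≫ snd G G) ?_) h2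
    show lift (a ≫ fst G G) (a ≫ snd G G) ≫ m = lift (b ≫ fst G G) (a ≫ snd G G) ≫ m
    conv_rhs => rw [h2]
    rw [lift_comp_fst_snd, lift_comp_fst_snd, h1]⟩
  haveI : LocallyOfFinitePresentation (fst G G).left := MorphismProperty.pullback_fst G.hom G.hom inferInstance
  haveI : QuasiCompact (fst G G).left := MorphismProperty.pullback_fst G.hom G.hom inferInstance
  haveI : QuasiSeparated (fst G G).left := MorphismProperty.pullback_fst G.hom G.hom inferInstance
  haveI : LocallyOfFinitePresentation (snd G G).left := MorphismProperty.pullback_snd G.hom G.hom inferInstance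
  haveI : QuasiCompact (snd G G).left := MorphismProperty.pullback_snd G.hom G.hom inferInstance
  haveI : QuasiSeparated (snd G G).left := MorphismProperty.pullback_snd G.hom G.hom inferInstance
  haveI : IsIso L.left := AxGroth.isIso_of_mono (fst G G).left L.left
    (by rw [← Over.comp_left, show L ≫ fst G G = fst G G from lift_fst _ _])
  haveI : IsIso R.left := AxGroth.isIso_of_mono (snd G G).left R.left
    (by rw [← Over.comp_left, show R ≫ snd G G = snd G G from lift_snd _ _])
  haveI : IsIso L := by
    haveI : IsIso ((Over.forget S).map L) := ‹IsIso L.left›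
    exact isIso_of_reflects_iso L (Over.forget S)
  haveI : IsIso R := by
    haveI : IsIso ((Over.forget S).map R) := ‹IsIso R.left›
    exact isIso_of_reflects_iso R (Over.forget S)
  -- divisions
  let dl : ∀ {T : Over S}, (T ⟶ G) → (T ⟶ G) → (T ⟶ G) := fun a b => lift a b ≫ inv L ≫ snd G G
  let dr : ∀ {T : Over S}, (T ⟶ G) → (T ⟶ G) → (T ⟶ G) := fun a b => lift a b ≫ inv R ≫ fst G G
  have hdl : ∀ {T : Over S} (a b : T ⟶ G), lift a (dl a b) ≫ m = b := by
    intro T a b
    have h1 : inv L ≫ fst G G = fst G G := by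
      rw [IsIso.inv_comp_eq]; exact (lift_fst _ _).symm
    have h2 : lift (inv L ≫ fst G G) (inv L ≫ snd G G) ≫ m = snd G G := by
      rw [lift_comp_fst_snd, IsIso.inv_comp_eq]; exact (lift_snd _ _).symm
    rw [h1] at h2
    have h3 := congrArg (lift a b ≫ ·) h2
    simpa [dl, comp_lift_assoc] using h3
  have hdr : ∀ {T : Over S} (a b : T ⟶ G), lift (dr a b) b ≫ m = a := by
    intro T a b
    have h1 : inv R ≫ snd G G = snd G G := by
      rw [IsIso.inv_comp_eq]; exact (lift_snd _ _).symm
    have h2 : lift (inv R ≫ fst G G) (inv R ≫ snd G G) ≫ m = fst G G := by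
      rw [lift_comp_fst_snd, IsIso.inv_comp_eq]; exact (lift_fst _ _).symm
    rw [h1] at h2
    have h3 := congrArg (lift a b ≫ ·) h2
    simpa [dr, comp_lift_assoc] using h3
  let one : 𝟙_ (Over S) ⟶ G := dl e e
  have hru : ∀ (T : Over S) (x : T ⟶ G), lift x (toUnit T ≫ one) ≫ m = x := by
    intro T x
    have he : lift (toUnit T ≫ e) (toUnit T ≫ one) ≫ m = toUnit T ≫ e := by
      rw [← comp_lift_assoc, hdl]
    have hy := hdr x (toUnit T ≫ e)
    conv_lhs => rw [← hy, assoc, he]
    exact hy
  have hlu : ∀ (T : Over S) (x : T ⟶ G), lift (toUnit T ≫ one) x ≫ m = x := by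
    intro T x
    refine hl T (toUnit T ≫ one) ?_
    show lift (toUnit T ≫ one) (lift (toUnit T ≫ one) x ≫ m) ≫ m = lift (toUnit T ≫ one) x ≫ m
    rw [← assoc, hru]
  let inverse : G ⟶ G := dl (𝟙 G) (toUnit G ≫ one)
  have hri : lift (𝟙 G) inverse ≫ m = toUnit G ≫ one := hdl _ _
  have hli : lift inverse (𝟙 G) ≫ m = toUnit G ≫ one := by
    refine hr G inverse ?_
    show lift (lift inverse (𝟙 G) ≫ m) inverse ≫ m = lift (toUnit G ≫ one) inverse ≫ m
    rw [assoc, hri, hru, hlu]
  exact ⟨{
    one := one
    mul := m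
    one_mul := by
      have h := hlu (𝟙_ (Over S) ⊗ G) (snd _ _)
      rw [toUnit_unique (toUnit (𝟙_ (Over S) ⊗ G)) (fst _ _)] at h
      rw [leftUnitor_hom]
      refine Eq.trans ?_ h
      congr 1
    mul_one := by
      have h := hru (G ⊗ 𝟙_ (Over S)) (fst _ _)
      rw [toUnit_unique (toUnit (G ⊗ 𝟙_ (Over S))) (snd _ _)] at h
      rw [rightUnitor_hom]
      refine Eq.trans ?_ h
      congr 1
    mul_assoc := hassoc
    inv := inverse
    left_inv := hli
    right_inv := hri }, rfl⟩

end Groth.Agent.S5360
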