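import Groth.Statements.S5362
import Groth.Agent.GenSubLib.Smallest
import Groth.Agent.DenseProdLib.Basic
import Groth.Agent.GrpHomLib.Image

set_option backward.isDefEq.respectTransparency false

set_option autoImplicit false
universe u
open CategoryTheory CategoryTheory.Limits MonoidalCategory CartesianMonoidalCategory MonObj GrpObj AlgebraicGeometry
open SGA3

namespace Groth.Agent.S5362

/-- Let G be a group scheme locally of finite type over a field k, and a : A → G, b : B → G two closed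
subgroup schemes which are smooth and of finite type over k, such that B normalizes A (conjugating a
point of A by a point of B gives a point of A). Let i : Γ → G be the smallest closed subgroup scheme
of G through which both a and b factor. Then Γ is reduced and its underlying set is A·B, the image
of A ×_k B under (x, y) ↦ a(x) b(y). -/
theorem result (k : Type u) [Field k] (G A B : Over (Spec (CommRingCat.of k))) [GrpObj G] [GrpObj A] [GrpObj B]
    [LocallyOfFiniteType G.hom] (a : A ⟶ G) [IsMonHom a] [IsClosedImmersion a.left] (b : B ⟶ G) [IsMonHom b]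
    [IsClosedImmersion b.left] [Smooth A.hom] [QuasiCompact A.hom] [Smooth B.hom] [QuasiCompact B.hom]
    (hN : ∀ (T : Over (Spec (CommRingCat.of k))) (y : T ⟶ B) (x : T ⟶ A), ∃ x' : T ⟶ A, (y ≫ b) * (x ≫ a) * (y ≫ b)⁻¹ = x' ≫ a)
    (Γ : Over (Spec (CommRingCat.of k))) [GrpObj Γ] (i : Γ ⟶ G) [IsMonHom i] [IsClosedImmersion i.left]
    (ha : ∃ a' : A ⟶ Γ, a' ≫ i = a) (hb : ∃ b' : B ⟶ Γ, b' ≫ i = b)
    (hmin : ∀ (Γ' : Over (Spec (CommRingCat.of k))) (_ : GrpObj Γ') (i' : Γ' ⟶ G), IsMonHom i' → IsClosedImmersion i'.left →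
        (∃ a'' : A ⟶ Γ', a'' ≫ i' = a) → (∃ b'' : B ⟶ Γ', b'' ≫ i' = b) → ∃ j : Γ ⟶ Γ', j ≫ i' = i) :
    IsReduced Γ.left ∧ Set.range i.left.base = Set.range ((a ⊗ₘ b) ≫ μ[G]).left.base := by
  haveI : GeometricallyReduced (A ⊗ B).hom := by
    haveI := AbSchLib.geometricallyReduced_of_smooth A.hom
    haveI := AbSchLib.geometricallyReduced_of_smooth B.hom
    exact GenSub.gr_prod A.hom B.hom
  let φ : A ⊗ B ⟶ G := (a ⊗ₘ b) ≫ μ[G]
  have hφ : ∀ {T : Over (Spec (CommRingCat.of k))} (u : T ⟶ A) (v : T ⟶ B), lift u v ≫ φ = (u ≫ a) * (v ≫ b) :=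
    fun u v => by simp [φ, Hom.mul_def]
  obtain ⟨a', ha'⟩ := ha
  obtain ⟨b', hb'⟩ := hb
  have hlift : ∀ {H : Over (Spec (CommRingCat.of k))} [GrpObj H] (j : H ⟶ G) [IsMonHom j] (a'' : A ⟶ H) (b'' : B ⟶ H),
      a'' ≫ j = a → b'' ≫ j = b → ((fst A B ≫ a'') * (snd A B ≫ b'')) ≫ j = φ := by
    intro H _ j _ a'' b'' e1 e2
    rw [MonObj.mul_comp, Category.assoc, Category.assoc, e1, e2, ← hφ, lift_fst_snd, Category.id_comp]
  have hfφ : ∃ f' : A ⊗ B ⟶ Γ, f' ≫ i = φ := ⟨_, hlift i a' b' ha' hb'⟩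
  obtain ⟨hred, -, hr, hv⟩ := GenSub.smallest_props φ i hfφ fun Γ' g' i' hm hc ⟨f'', hf''⟩ => by
    haveI := hm
    refine hmin Γ' g' i' hm hc ⟨lift (𝟙 A) 1 ≫ f'', ?_⟩ ⟨lift 1 (𝟙 B) ≫ f'', ?_⟩
    · rw [Category.assoc, hf'', hφ, MonObj.one_comp, _root_.mul_one, Category.id_comp]
    · rw [Category.assoc, hf'', hφ, MonObj.one_comp, _root_.one_mul, Category.id_comp]
  refine ⟨hred, Set.Subset.antisymm ?_ ?_⟩
  swap
  · rintro _ ⟨w, rfl⟩
    obtain ⟨f', hf'⟩ := hfφ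
    exact ⟨f'.left.base w, congr($(hf').left.base w)⟩
  -- the products `a * b` form a subgroup on points
  have hmul : ∀ {T : Over (Spec (CommRingCat.of k))} (u u' : T ⟶ A) (v v' : T ⟶ B),
      ∃ (u'' : T ⟶ A) (v'' : T ⟶ B), ((u ≫ a) * (v ≫ b)) * ((u' ≫ a) * (v' ≫ b)) = (u'' ≫ a) * (v'' ≫ b) := by
    intro T u u' v v'
    obtain ⟨x, hx⟩ := hN T v u'
    refine ⟨u * x, v * v', ?_⟩
    rw [MonObj.mul_comp, MonObj.mul_comp, ← hx]
    group
  have hinv : ∀ {T : Over (Spec (CommRingCat.of k))} (u : T ⟶ A) (v : T ⟶ B),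
      ∃ (u'' : T ⟶ A) (v'' : T ⟶ B), ((u ≫ a) * (v ≫ b))⁻¹ = (u'' ≫ a) * (v'' ≫ b) := by
    intro T u v
    obtain ⟨x, hx⟩ := hN T v⁻¹ u⁻¹
    refine ⟨x, v⁻¹, ?_⟩
    rw [← hx, GrpObj.inv_comp, GrpObj.inv_comp]
    group
  have hword : ∀ (l : List Bool) (T : Over (Spec (CommRingCat.of k))) (z : T ⟶ GenSub.Word (A ⊗ B) l),
      ∃ (u : T ⟶ A) (v : T ⟶ B), z ≫ GenSub.word φ l = (u ≫ a) * (v ≫ b) := by
    intro l
    induction l with
    | nil =>
      intro T z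
      refine ⟨1, 1, ?_⟩
      show z ≫ (1 : _ ⟶ G) = _
      rw [MonObj.comp_one, MonObj.one_comp, MonObj.one_comp, _root_.mul_one]
    | cons c l ih =>
      intro T z
      obtain ⟨u', v', e'⟩ := ih T (z ≫ snd _ _)
      obtain ⟨u, v, e⟩ : ∃ (u : T ⟶ A) (v : T ⟶ B),
          z ≫ fst _ _ ≫ GenSub.letter φ c = (u ≫ a) * (v ≫ b) := by
        have e0 : z ≫ fst (A ⊗ B) _ = lift (z ≫ fst _ _ ≫ fst A B) (z ≫ fst _ _ ≫ snd A B) := by
          ext <;> simp
        cases c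
        · obtain ⟨u, v, e⟩ := hinv (z ≫ fst _ _ ≫ fst A B) (z ≫ fst _ _ ≫ snd A B)
          refine ⟨u, v, ?_⟩
          show z ≫ fst _ _ ≫ φ⁻¹ = _
          rw [← Category.assoc, GrpObj.comp_inv, e0, hφ, e]
        · refine ⟨z ≫ fst _ _ ≫ fst A B, z ≫ fst _ _ ≫ snd A B, ?_⟩
          show z ≫ fst _ _ ≫ φ = _
          rw [← Category.assoc, e0, hφ]
      obtain ⟨u'', v'', e''⟩ := hmul u u' v v'
      refine ⟨u'', v'', ?_⟩
      show z ≫ ((fst _ (GenSub.Word (A ⊗ B) l) ≫ GenSub.letter φ c) *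
        (snd _ (GenSub.Word (A ⊗ B) l) ≫ GenSub.word φ l)) = _
      rw [MonObj.comp_mul, e, ← Category.assoc z (snd _ _), e', e'']
  have hsub : GenSub.wordSet φ ⊆ Set.range φ.left.base := by
    refine Set.iUnion_subset fun l => ?_
    obtain ⟨u, v, e⟩ := hword l.down _ (𝟙 _)
    rw [Category.id_comp, ← hφ] at e
    rintro _ ⟨w, rfl⟩
    exact ⟨(lift u v).left.base w, congr($(e.symm).left.base w)⟩
  obtain ⟨f', hf'⟩ := hfφ
  haveI := hred
  haveI : LocallyOfFiniteType Γ.hom := by rw [← Over.w i]; infer_instance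
  haveI : IsLocallyNoetherian Γ.left := LocallyOfFiniteType.isLocallyNoetherian Γ.hom
  haveI : QuasiCompact f'.left := by
    haveI : QuasiCompact (A ⊗ B).hom :=
      inferInstanceAs (QuasiCompact (Limits.pullback.fst A.hom B.hom ≫ A.hom))
    haveI : QuasiCompact (f'.left ≫ Γ.hom) := by rw [Over.w]; infer_instance
    exact QuasiCompact.of_comp _ Γ.hom
  have hdense : DenseRange f'.left.base := by
    intro x
    rw [i.left.isClosedEmbedding.isInducing.closure_eq_preimage_closure_image, Set.mem_preimage]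
    have hx : i.left.base x ∈ closure (GenSub.wordSet φ) := hr ▸ ⟨x, rfl⟩
    refine closure_mono ?_ hx
    intro y hy
    obtain ⟨w, rfl⟩ := hsub hy
    exact ⟨f'.left.base w, ⟨w, rfl⟩, congr($(hf').left.base w)⟩
  rintro _ ⟨x, rfl⟩
  obtain ⟨z, ⟨p, hp⟩, ⟨q, hq⟩, hz⟩ := DenseProd.exists_product (G := Γ) (Set.range f'.left.base)
    (fun s θ hθ => GrpHom.mem_range_of_isMax f'.left hdense (fun y hy => by
      haveI : Subsingleton ↥(Spec (CommRingCat.of k)) := inferInstanceAs (Subsingleton (PrimeSpectrum k))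
      obtain ⟨y', rfl⟩ : y ∈ Set.range (Γ.hom.fiberι s) := by
        rw [Scheme.Hom.range_fiberι]; exact Subsingleton.elim _ _
      rw [hθ y' ((Γ.hom.fiberι s).isEmbedding.isInducing.specializes_iff.1 hy)])) x
  obtain ⟨z', hz'q, hz'⟩ : ∃ z' : ↥(Γ ⊗ (A ⊗ B)).left, (snd Γ (A ⊗ B)).left z' = q ∧ (Γ ◁ f').left z' = z := by
    obtain ⟨w, h1, h2⟩ := Scheme.exists_preimage_of_isPullback (FinHom.isPullback_whiskerLeft Γ f') z q hq.symm
    exact ⟨w, h2, h1⟩
  obtain ⟨w, hw, -⟩ := Scheme.exists_preimage_of_isPullback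
    (GenSub.isPullback_whiskerRight_left (Y := A ⊗ B) f') z' p (by
      rw [hp, ← hz', ← Scheme.Hom.comp_apply, ← Over.comp_left, whiskerLeft_fst])
  let Φ : (A ⊗ B) ⊗ (A ⊗ B) ⟶ Γ := (f' ⊗ₘ f') ≫ μ[Γ]
  have hΦw : Φ.left.base w = x := by
    show ((f' ⊗ₘ f') ≫ μ[Γ]).left.base w = x
    rw [MonoidalCategory.tensorHom_def, Category.assoc, Over.comp_left, Over.comp_left, Scheme.Hom.comp_apply,
      Scheme.Hom.comp_apply, hw, hz', hz]
  have hΦ : Φ ≫ i = (fst _ _ ≫ φ) * (snd _ _ ≫ φ) := by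
    have e : Φ = (fst _ _ ≫ f') * (snd _ _ ≫ f') := by
      rw [Hom.mul_def]
      show (f' ⊗ₘ f') ≫ μ[Γ] = _
      congr 1
    rw [e, MonObj.mul_comp, Category.assoc, Category.assoc, hf']
  obtain ⟨u, v, e⟩ := hmul (fst (A ⊗ B) (A ⊗ B) ≫ fst A B) (snd (A ⊗ B) (A ⊗ B) ≫ fst A B)
    (fst (A ⊗ B) (A ⊗ B) ≫ snd A B) (snd (A ⊗ B) (A ⊗ B) ≫ snd A B)
  have e2 : Φ ≫ i = lift u v ≫ φ := by
    rw [hΦ, hφ, ← e, ← hφ, ← hφ, ← comp_lift, ← comp_lift, lift_fst_snd, Category.comp_id, Category.comp_id]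
  exact ⟨(lift u v).left.base w, (congr($(e2.symm).left.base w)).trans (congrArg i.left.base hΦw)⟩

end Groth.Agent.S5362
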