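import Groth.Statements.S5363
import Groth.Agent.GenSubLib.Smallest

set_option backward.isDefEq.respectTransparency false

set_option autoImplicit false
universe u
open CategoryTheory CategoryTheory.Limits MonoidalCategory CartesianMonoidalCategory MonObj GrpObj AlgebraicGeometry
open SGA3

namespace Groth.Agent.S5363

/-- Let G be a group scheme over a field k and g a k-rational point of G. Then the smallest closed
subgroup scheme Γ of G through which g factors (the closed subgroup generated by g) is commutative. -/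
theorem result (k : Type u) [Field k] (G : Over (Spec (CommRingCat.of k))) [GrpObj G]
    (g : 𝟙_ (Over (Spec (CommRingCat.of k))) ⟶ G) (Γ : Over (Spec (CommRingCat.of k))) [GrpObj Γ] (i : Γ ⟶ G) [IsMonHom i] [IsClosedImmersion i.left]
    (hf : ∃ f' : 𝟙_ (Over (Spec (CommRingCat.of k))) ⟶ Γ, f' ≫ i = g)
    (hmin : ∀ (Γ' : Over (Spec (CommRingCat.of k))) (_ : GrpObj Γ') (i' : Γ' ⟶ G), IsMonHom i' → IsClosedImmersion i'.left →
        (∃ f'' : 𝟙_ (Over (Spec (CommRingCat.of k))) ⟶ Γ', f'' ≫ i' = g) → ∃ j : Γ ⟶ Γ', j ≫ i' = i) :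
    IsCommMonObj Γ := by
  haveI : GeometricallyReduced (𝟙_ (Over (Spec (CommRingCat.of k)))).hom :=
    GenSub.gr_unit
  obtain ⟨hred, -, hr, hv⟩ := GenSub.smallest_props g i hf hmin
  haveI := hred
  choose v hv using hv
  refine GenSub.isCommMonObj_of_words g i hr v hv fun T l l' a b => ?_
  have key : ∀ (l : List Bool) (a : T ⟶ GenSub.Word _ l),
      a ≫ GenSub.word g l ∈ Subgroup.zpowers (toUnit T ≫ g) := by
    intro l
    induction l with
    | nil =>
      intro a
      show a ≫ (1 : _ ⟶ G) ∈ _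
      rw [MonObj.comp_one]
      exact one_mem _
    | cons c l ih =>
      intro a
      show a ≫ ((fst _ (GenSub.Word _ l) ≫ GenSub.letter g c) * (snd _ (GenSub.Word _ l) ≫ GenSub.word g l)) ∈ _
      rw [MonObj.comp_mul]
      refine mul_mem ?_ (by rw [← Category.assoc]; exact ih _)
      cases c
      · show a ≫ fst _ _ ≫ g⁻¹ ∈ _
        rw [← Category.assoc, toUnit_unique (a ≫ fst _ _) (toUnit T), GrpObj.comp_inv]
        exact inv_mem (Subgroup.mem_zpowers _)
      · show a ≫ fst _ _ ≫ g ∈ _
        rw [← Category.assoc, toUnit_unique (a ≫ fst _ _) (toUnit T)]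
        exact Subgroup.mem_zpowers _
  obtain ⟨m, hm⟩ := Subgroup.mem_zpowers_iff.1 (key l a)
  obtain ⟨m', hm'⟩ := Subgroup.mem_zpowers_iff.1 (key l' b)
  rw [← hm, ← hm', ← zpow_add, ← zpow_add, add_comm]

end Groth.Agent.S5363
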