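import Groth.Statements.S5364
import Groth.Agent.GenSubLib.BaseChange

set_option backward.isDefEq.respectTransparency false

set_option autoImplicit false
universe u
open CategoryTheory CategoryTheory.Limits MonoidalCategory CartesianMonoidalCategory MonObj GrpObj AlgebraicGeometry
open SGA3
attribute [-instance] CategoryTheory.Hom.commGroup

namespace Groth.Agent.S5364

/-- Let G be a group scheme over a field k and a : A → G, b : B → G two closed subgroup schemes which
are geometrically reduced over k and normal in G. Let i : Γ → G be the commutator subgroup scheme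
(A, B): the smallest closed subgroup scheme of G through which the morphism A ×_k B → G, (x, y) ↦
a(x) b(y) a(x)⁻¹ b(y)⁻¹, factors. Then Γ is normal in G. (The published statement also covers
characteristic subgroups; this row states the case of normal subgroups only.) -/
theorem result (k : Type u) [Field k] (G A B : Over (Spec (CommRingCat.of k))) [GrpObj G] [GrpObj A] [GrpObj B]
    (a : A ⟶ G) [IsMonHom a] [IsClosedImmersion a.left] (b : B ⟶ G) [IsMonHom b] [IsClosedImmersion b.left]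
    [GeometricallyReduced A.hom] [GeometricallyReduced B.hom] (hA : AlgGrp.IsNormalHom a) (hB : AlgGrp.IsNormalHom b)
    (Γ : Over (Spec (CommRingCat.of k))) [GrpObj Γ] (i : Γ ⟶ G) [IsMonHom i] [IsClosedImmersion i.left]
    (hf : ∃ f' : A ⊗ B ⟶ Γ, f' ≫ i = (((fst A B) ≫ a) * ((snd A B) ≫ b) * ((fst A B) ≫ a)⁻¹ * ((snd A B) ≫ b)⁻¹))
    (hmin : ∀ (Γ' : Over (Spec (CommRingCat.of k))) (_ : GrpObj Γ') (i' : Γ' ⟶ G), IsMonHom i' → IsClosedImmersion i'.left →
        (∃ f'' : A ⊗ B ⟶ Γ', f'' ≫ i' = (((fst A B) ≫ a) * ((snd A B) ≫ b) * ((fst A B) ≫ a)⁻¹ * ((snd A B) ≫ b)⁻¹)) → ∃ j : Γ ⟶ Γ', j ≫ i' = i) :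
    AlgGrp.IsNormalHom i := by
  let f : A ⊗ B ⟶ G := ((fst A B) ≫ a) * ((snd A B) ≫ b) * ((fst A B) ≫ a)⁻¹ * ((snd A B) ≫ b)⁻¹
  haveI : GeometricallyReduced (A ⊗ B).hom := GenSub.gr_prod A.hom B.hom
  obtain ⟨hred, -, hr, hv⟩ := GenSub.smallest_props f i hf hmin
  haveI := hred
  choose v hv using hv
  have hletter : ∀ {T : Over (Spec (CommRingCat.of k))} (g : T ⟶ G) (z : T ⟶ A ⊗ B),
      ∃ z' : T ⟶ A ⊗ B, z' ≫ f = g * (z ≫ f) * g⁻¹ := by
    intro T g z
    obtain ⟨x, hx⟩ := hA T g (z ≫ fst A B)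
    obtain ⟨y, hy⟩ := hB T g (z ≫ snd A B)
    refine ⟨lift x y, ?_⟩
    simp only [f, MonObj.comp_mul, GrpObj.comp_inv, lift_fst_assoc, lift_snd_assoc, ← hx, ← hy, Category.assoc]
    group
  have hword : ∀ (l : List Bool) (T : Over (Spec (CommRingCat.of k))) (g : T ⟶ G)
      (z : T ⟶ GenSub.Word (A ⊗ B) l),
      ∃ z' : T ⟶ GenSub.Word (A ⊗ B) l, z' ≫ GenSub.word f l = g * (z ≫ GenSub.word f l) * g⁻¹ := by
    intro l
    induction l with
    | nil =>
      intro T g z
      refine ⟨z, ?_⟩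
      show z ≫ (1 : _ ⟶ G) = g * (z ≫ (1 : _ ⟶ G)) * g⁻¹
      rw [MonObj.comp_one, _root_.mul_one, mul_inv_cancel]
    | cons c l ih =>
      intro T g z
      obtain ⟨z₁, h₁⟩ := ih T g (z ≫ snd _ _)
      obtain ⟨z₀, h₀⟩ := hletter g (z ≫ fst _ _)
      refine ⟨lift z₀ z₁, ?_⟩
      show lift z₀ z₁ ≫ ((fst _ (GenSub.Word (A ⊗ B) l) ≫ GenSub.letter f c) *
          (snd _ (GenSub.Word (A ⊗ B) l) ≫ GenSub.word f l)) =
        g * (z ≫ ((fst _ (GenSub.Word (A ⊗ B) l) ≫ GenSub.letter f c) *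
          (snd _ (GenSub.Word (A ⊗ B) l) ≫ GenSub.word f l))) * g⁻¹
      have hl : z₀ ≫ GenSub.letter f c = g * (z ≫ fst _ _ ≫ GenSub.letter f c) * g⁻¹ := by
        cases c
        · show z₀ ≫ f⁻¹ = g * (z ≫ fst _ _ ≫ f⁻¹) * g⁻¹
          simp only [GrpObj.comp_inv, h₀, Category.assoc]
          group
        · exact h₀.trans (by rw [Category.assoc]; rfl)
      rw [MonObj.comp_mul, MonObj.comp_mul, lift_fst_assoc, lift_snd_assoc, hl, h₁, Category.assoc]
      group
  let c : G ⊗ Γ ⟶ G := fst G Γ * (snd G Γ ≫ i) * (fst G Γ)⁻¹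
  haveI : IsClosedImmersion (pullback.snd i.left c.left) := MorphismProperty.pullback_snd _ _ inferInstance
  haveI : IsIso (pullback.snd i.left c.left) := by
    refine GenSub.isIso_of_family G.hom Γ.hom (fun l : ULift.{u} (List Bool) => (v l.down).left)
      (GenSub.dense_carrier f i hr v hv) _ fun l Y p w e => ?_
    let T : Over (Spec (CommRingCat.of k)) := Over.mk (p ≫ G.hom)
    let g : T ⟶ G := Over.homMk p rfl
    let z : T ⟶ GenSub.Word (A ⊗ B) l.down := Over.homMk w (by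
      show w ≫ (GenSub.Word (A ⊗ B) l.down).hom = p ≫ G.hom
      rw [e, Category.assoc, Over.w (v l.down)])
    obtain ⟨z', hz'⟩ := hword l.down T g z
    have hc : (lift g (z ≫ v l.down)) ≫ c = (z' ≫ v l.down) ≫ i := by
      rw [Category.assoc, hv, hz']
      simp only [c, MonObj.comp_mul, GrpObj.comp_inv, lift_fst, lift_snd_assoc, Category.assoc, hv]
    exact ⟨pullback.lift (z' ≫ v l.down).left (lift g (z ≫ v l.down)).left (congrArg CommaMorphism.left hc.symm),
      pullback.lift_snd _ _ _⟩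
  have e0 : (inv (pullback.snd i.left c.left) ≫ pullback.fst i.left c.left) ≫ i.left = c.left := by
    rw [Category.assoc, pullback.condition, IsIso.inv_hom_id_assoc]
  let ψ : G ⊗ Γ ⟶ Γ := Over.homMk (inv (pullback.snd i.left c.left) ≫ pullback.fst i.left c.left) (by
    conv_lhs => rw [← Over.w i]
    rw [← Category.assoc, e0, Over.w])
  have hψ : ψ ≫ i = c := Over.OverMorphism.ext e0
  intro T g n
  refine ⟨lift g n ≫ ψ, ?_⟩
  rw [Category.assoc, hψ]
  simp only [c, MonObj.comp_mul, GrpObj.comp_inv, lift_fst, lift_snd_assoc]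

end Groth.Agent.S5364
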