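import Groth.Statements.S5365
import Groth.Agent.CommSubLib.Main

set_option autoImplicit false
set_option backward.isDefEq.respectTransparency false
set_option linter.style.haveILetI false
set_option maxHeartbeats 1000000
universe u
open CategoryTheory CategoryTheory.Limits MonoidalCategory CartesianMonoidalCategory MonObj GrpObj AlgebraicGeometry
open SGA3

attribute [-instance] CategoryTheory.Hom.commGroup
open scoped MonObj

namespace Groth.Agent.S5365

/-- Let G be a group scheme locally of finite type over a field k, a : A → G and b : B → G two closed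
subgroup schemes which are geometrically reduced over k, and i : Γ → G the commutator subgroup
scheme (A, B), the smallest closed subgroup scheme through which (x, y) ↦ a(x) b(y) a(x)⁻¹ b(y)⁻¹
factors. Suppose either (a) A and B are normal in G and of finite type over k, or (b) A is connected
and B is of finite type over k. Then Γ is of finite type over k, and in case (b) Γ is connected.
(The published statement also asserts that this subgroup represents the fppf sheaf generated by
commutators and describes its neutral component; this row states only the finiteness and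
connectedness assertions.) -/
theorem result (k : Type u) [Field k] (G A B : Over (Spec (CommRingCat.of k))) [GrpObj G] [GrpObj A] [GrpObj B]
    [LocallyOfFiniteType G.hom]
    (a : A ⟶ G) [IsMonHom a] [IsClosedImmersion a.left] (b : B ⟶ G) [IsMonHom b] [IsClosedImmersion b.left]
    [GeometricallyReduced A.hom] [GeometricallyReduced B.hom] [QuasiCompact B.hom]
    (hcase : (AlgGrp.IsNormalHom a ∧ AlgGrp.IsNormalHom b ∧ QuasiCompact A.hom) ∨ ConnectedSpace A.left)
    (Γ : Over (Spec (CommRingCat.of k))) [GrpObj Γ] (i : Γ ⟶ G) [IsMonHom i] [IsClosedImmersion i.left]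
    (hf : ∃ f' : A ⊗ B ⟶ Γ, f' ≫ i = (((fst A B) ≫ a) * ((snd A B) ≫ b) * ((fst A B) ≫ a)⁻¹ * ((snd A B) ≫ b)⁻¹))
    (hmin : ∀ (Γ' : Over (Spec (CommRingCat.of k))) (_ : GrpObj Γ') (i' : Γ' ⟶ G), IsMonHom i' → IsClosedImmersion i'.left →
        (∃ f'' : A ⊗ B ⟶ Γ', f'' ≫ i' = (((fst A B) ≫ a) * ((snd A B) ≫ b) * ((fst A B) ≫ a)⁻¹ * ((snd A B) ≫ b)⁻¹)) → ∃ j : Γ ⟶ Γ', j ≫ i' = i) :
    QuasiCompact Γ.hom ∧ (ConnectedSpace A.left → ConnectedSpace Γ.left) := by
  obtain ⟨f', hf'⟩ := hf
  haveI : LocallyOfFiniteType A.hom := by rw [← Over.w a]; infer_instance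
  haveI : LocallyOfFiniteType B.hom := by rw [← Over.w b]; infer_instance
  haveI : LocallyOfFiniteType Γ.hom := by rw [← Over.w i]; infer_instance
  haveI : Mono i := Over.mono_of_mono_left i
  have key : ConnectedSpace A.left → QuasiCompact Γ.hom ∧ ConnectedSpace Γ.left := by
    intro hA
    refine CommSubLib.connected_and_qc f' ?_ ?_
    · rw [← cancel_mono i, Category.assoc, hf']
      simp only [MonObj.comp_mul, GrpObj.comp_inv, lift_fst_assoc, lift_snd_assoc, Category.id_comp,
        MonObj.one_comp, inv_one]
      group
    · intro Γ' _ i' hi' hc' ⟨f'', hf''⟩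
      haveI := hi'; haveI := hc'
      obtain ⟨j, hj⟩ := hmin Γ' inferInstance (i' ≫ i) inferInstance
        (by rw [Over.comp_left]; infer_instance) ⟨f'', by rw [← Category.assoc, hf'', hf']⟩
      exact ⟨j, by rw [← cancel_mono i, Category.assoc, hj, Category.id_comp]⟩
  refine ⟨?_, fun hA => (key hA).2⟩
  rcases hcase with ⟨hna, -, hqc⟩ | hA
  · haveI := hqc
    obtain ⟨n, hn⟩ := hna (A ⊗ B) (snd A B ≫ b) (fst A B)⁻¹
    obtain ⟨j, hj⟩ := hmin A inferInstance a inferInstance inferInstance ⟨fst A B * n, by
      rw [MonObj.mul_comp, ← hn, GrpObj.inv_comp]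
      group⟩
    haveI : IsClosedImmersion j.left := by
      haveI : IsClosedImmersion (j.left ≫ a.left) := by rw [← Over.comp_left, hj]; infer_instance
      exact IsClosedImmersion.of_comp j.left a.left
    rw [← Over.w j]
    infer_instance
  · exact (key hA).1

end Groth.Agent.S5365
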