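import Groth.Statements.S5367
import Groth.Agent.ClassBoundLib.Locus

set_option backward.isDefEq.respectTransparency false

set_option autoImplicit false
universe u
open CategoryTheory CategoryTheory.Limits MonoidalCategory CartesianMonoidalCategory MonObj GrpObj AlgebraicGeometry
open SGA3

namespace Groth.Agent.S5367

/-- Let G be an S-group scheme of finite presentation over S such that every fibre G_s is smooth over
κ(s). Then the set of points s of S such that the geometric fibre of G at s is solvable (resp.
nilpotent) is locally constructible in S. (The row tests the geometric fibre over an algebraic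
closure of κ(s), which is solvable or nilpotent exactly when G_s is.) -/
theorem result (S : Scheme.{u}) (G : Over S) [GrpObj G]
    [LocallyOfFinitePresentation G.hom] [QuasiCompact G.hom] [QuasiSeparated G.hom]
    (hsm : ∀ s : S, Smooth (G.hom.fiberToSpecResidueField s)) :
    Topology.IsLocallyConstructible {s : S | Red.IsSolvableGrp (Red.geomFibre s G)} ∧
    Topology.IsLocallyConstructible {s : S | AGF.IsNilpotentGrp (Red.geomFibre s G)} := by
  have hsm' : ∀ s : S, Smooth (Red.geomFibre s G).hom := fun s => Groth.Agent.ClassBound.smooth_geomFibre G s (hsm s)
  refine ⟨?_, ?_⟩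
  · exact Groth.Agent.ClassBound.isLocallyConstructible_of_bound (fun s => Red.IsSolvableGrp (Red.geomFibre s G))
      (Groth.Agent.ClassBound.dSet G) (fun U hU => (Groth.Agent.ClassBound.exists_bound G hsm' U hU).imp
        fun B hB s hs => (hB s hs).1) fun n => by
        haveI : LocallyOfFinitePresentation (Groth.Agent.ClassBound.DP G n).hom :=
          Groth.Agent.ClassBound.dp_prop @LocallyOfFinitePresentation inferInstance n
        haveI : QuasiCompact (Groth.Agent.ClassBound.DP G n).hom :=
          Groth.Agent.ClassBound.dp_prop @QuasiCompact inferInstance n
        exact Groth.Agent.ClassBound.isLocallyConstructible_setOf_unitSet G _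
  · exact Groth.Agent.ClassBound.isLocallyConstructible_of_bound (fun s => AGF.IsNilpotentGrp (Red.geomFibre s G))
      (Groth.Agent.ClassBound.cSet G) (fun U hU => (Groth.Agent.ClassBound.exists_bound G hsm' U hU).imp
        fun B hB s hs => (hB s hs).2) fun n => by
        haveI : LocallyOfFinitePresentation (Groth.Agent.ClassBound.CP G n).hom :=
          Groth.Agent.ClassBound.cp_prop @LocallyOfFinitePresentation inferInstance n
        haveI : QuasiCompact (Groth.Agent.ClassBound.CP G n).hom :=
          Groth.Agent.ClassBound.cp_prop @QuasiCompact inferInstance n
        exact Groth.Agent.ClassBound.isLocallyConstructible_setOf_unitSet G _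

end Groth.Agent.S5367
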