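import Groth.Statements.S5369
import Groth.Agent.QuotFormalLib.Basic
set_option backward.isDefEq.respectTransparency false

set_option autoImplicit false
universe u
open CategoryTheory CategoryTheory.Limits MonoidalCategory CartesianMonoidalCategory MonObj GrpObj AlgebraicGeometry
open SGA3

namespace Groth.Agent.S5369

attribute [-instance] CategoryTheory.Hom.commGroup

/-- Let u : G' → G be a monomorphism of S-group schemes and p : G → G'' a morphism of S-schemes which is
covering for the fpqc topology (some Z → G'' which is flat, surjective, with every affine open of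
G'' the image of a quasi-compact open of Z, factors through p) and such that the square (g, h) ↦
g·u(h), first projection G ×_S G' → G, p, p is cartesian, so that G'' represents the fpqc quotient
sheaf G/G'. Let ε'' be the composite of the unit section of G with p. Then the square formed by u,
the structure morphism G' → S, p and ε'' is cartesian; u is an immersion; and G'' is separated over
S if and only if u is a closed immersion, if and only if ε'' is a closed immersion. -/
theorem result (S : Scheme.{u}) (G G' G'' : Over S) [GrpObj G] [GrpObj G']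
    (u : G' ⟶ G) [IsMonHom u] [Mono u] (p : G ⟶ G'')
    (hcov : (∃ (Z : Scheme.{u}) (q : Z ⟶ G''.left) (r : Z ⟶ G.left), r ≫ p.left = q ∧ Surjective q ∧ Flat q ∧
        ∀ V : G''.left.Opens, IsAffineOpen V → ∃ W : Z.Opens, IsCompact (W : Set Z) ∧ q.base '' (W : Set Z) = (V : Set G''.left)))
    (hsq : IsPullback ((G ◁ u) ≫ μ[G]) (fst G G') p p) :
    IsPullback u (toUnit G') p (η[G] ≫ p) ∧ IsImmersion u.left ∧
    (IsSeparated G''.hom ↔ IsClosedImmersion u.left) ∧ (IsClosedImmersion u.left ↔ IsClosedImmersion (η[G] ≫ p).left) := by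
  obtain ⟨Z, q, r, hr, h1, h2, h3⟩ := hcov
  haveI := h1
  haveI := h2
  have hp := MonoQuot.isCov_of_compact p.left q r hr h3
  have sq := QuotFormal.isPullback_unit_left hsq
  have hsec : (η[G].left ≫ p.left) ≫ G''.hom = 𝟙 S := by
    rw [Category.assoc, Over.w p, Over.w η[G]]
    rfl
  haveI : IsImmersion (η[G].left ≫ p.left) := by
    haveI : IsImmersion ((η[G].left ≫ p.left) ≫ G''.hom) := by rw [hsec]; exact inferInstanceAs (IsImmersion (𝟙 S))
    exact IsImmersion.of_comp (η[G].left ≫ p.left) G''.hom
  have hiff : IsClosedImmersion u.left ↔ IsClosedImmersion (η[G].left ≫ p.left) :=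
    ⟨fun h => QuotFormal.descend_cov @IsClosedImmersion sq.flip hp h,
      fun h => MorphismProperty.of_isPullback (P := @IsClosedImmersion) sq.flip h⟩
  refine ⟨QuotFormal.isPullback_unit hsq, MorphismProperty.of_isPullback (P := @IsImmersion) sq.flip ‹_›,
    ⟨fun h => ?_, fun h => ?_⟩, hiff⟩
  · haveI := h
    refine hiff.2 ?_
    haveI : IsClosedImmersion ((η[G].left ≫ p.left) ≫ G''.hom) := by rw [hsec]; exact inferInstanceAs (IsClosedImmersion (𝟙 S))
    exact IsClosedImmersion.of_comp (η[G].left ≫ p.left) G''.hom
  · refine (QuotFormal.isClosedImmersion_diag_iff G'').1 (QuotFormal.descend_diag @IsClosedImmersion hp ?_)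
    let θ : G ⊗ G ≅ G ⊗ G :=
      { hom := lift (fst G G) (fst G G * snd G G)
        inv := lift (fst G G) ((fst G G)⁻¹ * snd G G)
        hom_inv_id := by ext <;> simp [MonObj.comp_mul, GrpObj.comp_inv]
        inv_hom_id := by ext <;> simp [MonObj.comp_mul, GrpObj.comp_inv] }
    haveI : IsIso θ.hom.left := @Functor.map_isIso _ _ _ _ _ _ (Over.forget S) θ.hom θ.isIso_hom
    haveI := h
    haveI : IsClosedImmersion (G ◁ u).left :=
      MorphismProperty.of_isPullback (P := @IsClosedImmersion) (FinHom.isPullback_whiskerLeft G u).flip h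
    have e : hsq.isoPullback.hom ≫ lift (pullback.fst p p) (pullback.snd p p) =
        (G ◁ u) ≫ lift (fst G G * snd G G) (fst G G) := by
      refine CartesianMonoidalCategory.hom_ext _ _ ?_ ?_
      · simp [MonObj.mul_eq_mul, MonObj.comp_mul]
      · simp
    let σ : G ⊗ G ≅ G ⊗ G := θ ≪≫ β_ G G
    have e' : lift (fst G G * snd G G) (fst G G) = σ.hom := by
      refine CartesianMonoidalCategory.hom_ext _ _ ?_ ?_ <;> simp [σ, θ]
    haveI : IsIso σ.hom.left := @Functor.map_isIso _ _ _ _ _ _ (Over.forget S) σ.hom σ.isIso_hom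
    haveI : IsIso hsq.isoPullback.inv.left := @Functor.map_isIso _ _ _ _ _ _ (Over.forget S) hsq.isoPullback.inv hsq.isoPullback.isIso_inv
    rw [show lift (pullback.fst p p) (pullback.snd p p) = hsq.isoPullback.inv ≫ (G ◁ u) ≫ σ.hom by
      rw [← e', ← e, Iso.inv_hom_id_assoc], Over.comp_left, Over.comp_left]
    infer_instance

end Groth.Agent.S5369
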