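import Groth.Statements.S5370
import Groth.Agent.QuotFormalLib.Basic
import Groth.Agent.QuotRepLib.Saturate
set_option backward.isDefEq.respectTransparency false

set_option autoImplicit false
universe u
open CategoryTheory CategoryTheory.Limits MonoidalCategory CartesianMonoidalCategory MonObj GrpObj AlgebraicGeometry
open SGA3

namespace Groth.Agent.S5370

/-- Let u : G' → G be a monomorphism of S-group schemes and p : G → G'' a morphism of S-schemes which is
covering for the fpqc topology (some Z → G'' which is flat, surjective, with every affine open of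
G'' the image of a quasi-compact open of Z, factors through p) and such that the square (g, h) ↦
g·u(h), first projection G ×_S G' → G, p, p is cartesian, so that G'' represents the fpqc quotient
sheaf G/G'. Then: (ix) if G is reduced, G'' is reduced; (xi) G' is flat over S if and only if p is
flat, and in that case G'' is flat over S if and only if G is flat over S. -/
theorem result (S : Scheme.{u}) (G G' G'' : Over S) [GrpObj G] [GrpObj G']
    (u : G' ⟶ G) [IsMonHom u] [Mono u] (p : G ⟶ G'')
    (hcov : (∃ (Z : Scheme.{u}) (q : Z ⟶ G''.left) (r : Z ⟶ G.left), r ≫ p.left = q ∧ Surjective q ∧ Flat q ∧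
        ∀ V : G''.left.Opens, IsAffineOpen V → ∃ W : Z.Opens, IsCompact (W : Set Z) ∧ q.base '' (W : Set Z) = (V : Set G''.left)))
    (hsq : IsPullback ((G ◁ u) ≫ μ[G]) (fst G G') p p) :
    (IsReduced G.left → IsReduced G''.left) ∧
    (Flat G'.hom ↔ Flat p.left) ∧ (Flat p.left → (Flat G''.hom ↔ Flat G.hom)) := by
  obtain ⟨Z, q, r, hr, h1, h2, h3⟩ := hcov
  haveI := h1
  haveI := h2
  have hp := MonoQuot.isCov_of_compact p.left q r hr h3
  refine ⟨fun hred => ?_, ⟨QuotFormal.prop_quot @Flat hp hsq, QuotFormal.prop_sub @Flat hsq⟩, fun hf => ?_⟩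
  · haveI := hred
    subst hr
    have : ∀ y, _root_.IsReduced (G''.left.presheaf.stalk y) := by
      intro y
      obtain ⟨z, rfl⟩ := (r ≫ p.left).surjective y
      let := ((r ≫ p.left).stalkMap z).hom.toAlgebra
      have : Module.Flat (G''.left.presheaf.stalk ((r ≫ p.left) z)) (Z.presheaf.stalk z) := Flat.stalkMap (r ≫ p.left) z
      have : IsLocalHom (algebraMap (G''.left.presheaf.stalk ((r ≫ p.left) z)) (Z.presheaf.stalk z)) :=
        inferInstanceAs (IsLocalHom ((r ≫ p.left).stalkMap z).hom)
      have := Module.FaithfullyFlat.of_flat_of_isLocalHom (A := G''.left.presheaf.stalk ((r ≫ p.left) z))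
        (B := Z.presheaf.stalk z)
      have hinj : Function.Injective ((r ≫ p.left).stalkMap z).hom :=
        FaithfulSMul.algebraMap_injective (G''.left.presheaf.stalk ((r ≫ p.left) z)) (Z.presheaf.stalk z)
      rw [Scheme.Hom.stalkMap_comp, CommRingCat.hom_comp, RingHom.coe_comp] at hinj
      exact isReduced_of_injective (p.left.stalkMap (r z)).hom hinj.of_comp
    exact isReduced_of_isReduced_stalk _
  · haveI := hf
    haveI := QuotFormal.surjective_of_cov hp
    rw [← Over.w p]
    refine ⟨fun _ => inferInstance, fun _ => QuotRep.flat_of_comp_surjective p.left G''.hom⟩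

end Groth.Agent.S5370
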