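import Groth.Statements.S5371
import Groth.Agent.QuotFormalLib.Props

set_option backward.isDefEq.respectTransparency false

set_option autoImplicit false
universe u
open CategoryTheory CategoryTheory.Limits MonoidalCategory CartesianMonoidalCategory MonObj GrpObj AlgebraicGeometry
open SGA3

namespace Groth.Agent.S5371

/-- Let u : G' → G be a monomorphism of S-group schemes and p : G → G'' a morphism of S-schemes which is
covering for the fpqc topology (some Z → G'' which is flat, surjective, with every affine open of
G'' the image of a quasi-compact open of Z, factors through p) and such that the square (g, h) ↦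
g·u(h), first projection G ×_S G' → G, p, p is cartesian, so that G'' represents the fpqc quotient
sheaf G/G'. (xii) G' is flat and locally of finite presentation over S if and only if p is
surjective, flat and locally of finite presentation; in that case, if G is locally of finite
presentation (resp. locally of finite type, of finite type, smooth, etale, unramified, locally
quasi-finite) over S, so is G''. (xiii) If G' is flat and of finite presentation over S then p is of
finite presentation, and G is of finite presentation over S if and only if G'' is. -/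
theorem result (S : Scheme.{u}) (G G' G'' : Over S) [GrpObj G] [GrpObj G']
    (u : G' ⟶ G) [IsMonHom u] [Mono u] (p : G ⟶ G'')
    (hcov : (∃ (Z : Scheme.{u}) (q : Z ⟶ G''.left) (r : Z ⟶ G.left), r ≫ p.left = q ∧ Surjective q ∧ Flat q ∧
        ∀ V : G''.left.Opens, IsAffineOpen V → ∃ W : Z.Opens, IsCompact (W : Set Z) ∧ q.base '' (W : Set Z) = (V : Set G''.left)))
    (hsq : IsPullback ((G ◁ u) ≫ μ[G]) (fst G G') p p) :
    ((Flat G'.hom ∧ LocallyOfFinitePresentation G'.hom) ↔
      (Surjective p.left ∧ Flat p.left ∧ LocallyOfFinitePresentation p.left)) ∧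
    (Flat p.left → LocallyOfFinitePresentation p.left →
      (LocallyOfFinitePresentation G.hom → LocallyOfFinitePresentation G''.hom) ∧
      (LocallyOfFiniteType G.hom → LocallyOfFiniteType G''.hom) ∧
      (LocallyOfFiniteType G.hom → QuasiCompact G.hom → QuasiCompact G''.hom) ∧
      (Smooth G.hom → Smooth G''.hom) ∧ (Etale G.hom → Etale G''.hom) ∧
      (FormallyUnramified G.hom → LocallyOfFinitePresentation G.hom → FormallyUnramified G''.hom) ∧
      (LocallyQuasiFinite G.hom → LocallyOfFiniteType G.hom → LocallyQuasiFinite G''.hom)) ∧
    (Flat G'.hom → LocallyOfFinitePresentation G'.hom → QuasiCompact G'.hom → QuasiSeparated G'.hom →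
      QuasiCompact p.left ∧ QuasiSeparated p.left ∧ LocallyOfFinitePresentation p.left ∧
      ((LocallyOfFinitePresentation G.hom ∧ QuasiCompact G.hom ∧ QuasiSeparated G.hom) ↔
        (LocallyOfFinitePresentation G''.hom ∧ QuasiCompact G''.hom ∧ QuasiSeparated G''.hom))) := by
  obtain ⟨Z, q, r, hr, h1, h2, h3⟩ := hcov
  haveI := h1
  haveI := h2
  have hp := MonoQuot.isCov_of_compact p.left q r hr h3
  haveI := QuotFormal.surjective_of_cov hp
  haveI := MiscFlat6.desc_quasiCompact.{u}
  haveI := MiscFlat6.desc_quasiSeparated.{u}
  refine ⟨⟨fun h => ⟨inferInstance, QuotFormal.prop_quot @Flat hp hsq h.1,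
    QuotFormal.prop_quot @LocallyOfFinitePresentation hp hsq h.2⟩,
    fun h => ⟨QuotFormal.prop_sub @Flat hsq h.2.1, QuotFormal.prop_sub @LocallyOfFinitePresentation hsq h.2.2⟩⟩,
    fun hf hl => ?_, fun hf hl hqc hqs => ?_⟩
  · haveI := hf
    haveI := hl
    haveI : Flat G'.hom := QuotFormal.prop_sub @Flat hsq hf
    haveI : LocallyOfFinitePresentation G'.hom := QuotFormal.prop_sub @LocallyOfFinitePresentation hsq hl
    have hlft : LocallyOfFiniteType G.hom → LocallyOfFiniteType G''.hom := fun h => by
      haveI : LocallyOfFiniteType (p.left ≫ G''.hom) := by rw [Over.w p]; exact h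
      exact S5938.result p.left G''.hom
    have hlfp : LocallyOfFinitePresentation G.hom → LocallyOfFinitePresentation G''.hom := fun h => by
      haveI : LocallyOfFinitePresentation (p.left ≫ G''.hom) := by rw [Over.w p]; exact h
      exact S0114.result p.left G''.hom
    have hsm : Smooth G.hom → Smooth G''.hom := fun h => by
      haveI : Smooth (p.left ≫ G''.hom) := by rw [Over.w p]; exact h
      exact S0115.result p.left G''.hom
    have hun : FormallyUnramified G.hom → LocallyOfFinitePresentation G.hom → FormallyUnramified G''.hom := fun h h' => by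
      haveI := h
      haveI := h'
      have hd := QuotFormal.descend_diag @IsOpenImmersion hp
        (QuotFormal.prop_kernelPair @IsOpenImmersion hsq QuotFormal.isOpenImmersion_of_mono)
      haveI : IsOpenImmersion (pullback.diagonal G''.hom) := hd
      infer_instance
    refine ⟨hlfp, hlft, fun _ hc => ?_, hsm, fun h => ?_, hun, fun h h' => ?_⟩
    · haveI : QuasiCompact (p.left ≫ G''.hom) := by rw [Over.w p]; exact hc
      exact QuotFormal.quasiCompact_of_surjective p.left G''.hom
    · haveI := h
      haveI := hsm inferInstance
      haveI := hun inferInstance inferInstance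
      exact Etale.of_formallyUnramified_of_flat G''.hom
    · haveI := hlft h'
      haveI : LocallyQuasiFinite (p.left ≫ G''.hom) := by rw [Over.w p]; exact h
      exact QuotFormal.locallyQuasiFinite_of_surjective p.left G''.hom
  · haveI := hf
    haveI := hl
    haveI := hqc
    haveI := hqs
    haveI : Flat p.left := QuotFormal.prop_quot @Flat hp hsq hf
    haveI : LocallyOfFinitePresentation p.left := QuotFormal.prop_quot @LocallyOfFinitePresentation hp hsq hl
    haveI : QuasiCompact p.left := QuotFormal.prop_quot @QuasiCompact hp hsq hqc
    haveI : QuasiSeparated p.left := QuotFormal.prop_quot @QuasiSeparated hp hsq hqs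
    refine ⟨inferInstance, inferInstance, inferInstance, ⟨fun ⟨a, b, c⟩ => ?_, fun ⟨a, b, c⟩ => ?_⟩⟩
    · haveI := a
      haveI := b
      haveI := c
      haveI : LocallyOfFinitePresentation (p.left ≫ G''.hom) := by rw [Over.w p]; exact a
      haveI : QuasiCompact (p.left ≫ G''.hom) := by rw [Over.w p]; exact b
      refine ⟨S0114.result p.left G''.hom, QuotFormal.quasiCompact_of_surjective p.left G''.hom, ?_⟩
      haveI : QuasiCompact (u.left ≫ G.hom) := by rw [Over.w u]; exact hqc
      have hd := QuotFormal.descend_diag @QuasiCompact hp
        (QuotFormal.prop_kernelPair @QuasiCompact hsq (QuasiCompact.of_comp u.left G.hom))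
      exact ⟨hd⟩
    · haveI := a
      haveI := b
      haveI := c
      rw [← Over.w p]
      exact ⟨inferInstance, inferInstance, inferInstance⟩

end Groth.Agent.S5371
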