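import Groth.Statements.S5374
import Groth.Agent.GenTranspLib.Basic

set_option autoImplicit false
set_option backward.isDefEq.respectTransparency false
universe u
open CategoryTheory CategoryTheory.Limits MonoidalCategory CartesianMonoidalCategory MonObj GrpObj AlgebraicGeometry
open SGA3

namespace Groth.Agent.S5374

/-- The transporter of two morphisms; the centralizer of a morphism is the case u = v: let S be an
integral scheme, G an S-group scheme of finite presentation, Y an S-scheme of finite presentation
and u, v : Y → G two morphisms of S-schemes. Then there is a nonempty open subscheme S' of S such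
that, after base change to S', the transporter of u into v (points g with g u(y) g⁻¹ = v(y) for all
points y of Y after any base change) is represented by a closed subscheme of G_{S'} of finite
presentation over S'. (The published statement also treats, over the same open, the transporter and
the strict transporter of two subschemes and the normalizer of a subscheme; this row treats the
transporter of two morphisms only.) -/
theorem result (S : Scheme.{u}) [IsIntegral S] (G Y : Over S) [GrpObj G]
    [LocallyOfFinitePresentation G.hom] [QuasiCompact G.hom] [QuasiSeparated G.hom]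
    [LocallyOfFinitePresentation Y.hom] [QuasiCompact Y.hom] [QuasiSeparated Y.hom] (u v : Y ⟶ G) :
    ∃ U : S.Opens, (U : Set S).Nonempty ∧
      ∃ (T : Over (U : Scheme.{u})) (t : T ⟶ Red.bc U.ι G), IsClosedImmersion t.left ∧
        LocallyOfFinitePresentation T.hom ∧ QuasiCompact T.hom ∧ QuasiSeparated T.hom ∧
        ∀ (S' : Over (U : Scheme.{u})) (g : S' ⟶ Red.bc U.ι G), (∃ z : S' ⟶ T, z ≫ t = g) ↔
          ∀ (S'' : Over (U : Scheme.{u})) (s : S'' ⟶ S') (y : S'' ⟶ Red.bc U.ι Y),
            (s ≫ g) * (y ≫ (Over.pullback U.ι).map u) * (s ≫ g)⁻¹ = y ≫ (Over.pullback U.ι).map v := by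
  obtain ⟨U₁, h₁, hsep⟩ := GenTransp.exists_open_isSeparated G
  obtain ⟨U₂, h₂, hfree⟩ := GenTransp.exists_open_isEssentiallyFree Y
  let U := U₁ ⊓ U₂
  have hne : (U : Set S).Nonempty :=
    ⟨genericPoint ↥S, (genericPoint_spec ↥S).mem_open_set_iff U₁.2 |>.2 (by simpa using h₁),
      (genericPoint_spec ↥S).mem_open_set_iff U₂.2 |>.2 (by simpa using h₂)⟩
  haveI : IsSeparated (Red.bc U.ι G).hom := hsep U inf_le_left
  haveI : LocallyOfFinitePresentation (Red.bc U.ι G).hom := MorphismProperty.pullback_snd _ _ ‹LocallyOfFinitePresentation G.hom›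
  haveI : QuasiCompact (Red.bc U.ι G).hom := MorphismProperty.pullback_snd _ _ ‹QuasiCompact G.hom›
  haveI : QuasiCompact (Red.bc U.ι Y).hom := MorphismProperty.pullback_snd _ _ ‹QuasiCompact Y.hom›
  let GU := Red.bc U.ι G
  let YU := Red.bc U.ι Y
  let u' : YU ⟶ GU := (Over.pullback U.ι).map u
  let v' : YU ⟶ GU := (Over.pullback U.ι).map v
  obtain ⟨T, t, hc, hT, hlfp⟩ := WeilRes.exists_eqLocus_essFree (P := GU) (X := YU) (G := GU)
    (fst GU YU * (snd GU YU ≫ u') * (fst GU YU)⁻¹) (snd GU YU ≫ v') (hfree U inf_le_right)
  haveI := hc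
  haveI : LocallyOfFinitePresentation t.left := hlfp ⟨inferInstance, inferInstance⟩
  refine ⟨U, hne, T, t, hc, ?_, ?_, ?_, fun S' g => (hT S' g).trans (forall₃_congr fun S'' s y => ?_)⟩
  · rw [← Over.w t]; infer_instance
  · rw [← Over.w t]; infer_instance
  · rw [← Over.w t]; infer_instance
  · simp only [MonObj.comp_mul, GrpObj.comp_inv, lift_fst, lift_snd_assoc]
    exact Iff.rfl

end Groth.Agent.S5374
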