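import Groth.Statements.S5377

-- import your own Groth.Agent.* helpers here

set_option autoImplicit false
universe u
open CategoryTheory CategoryTheory.Limits MonoidalCategory CartesianMonoidalCategory MonObj GrpObj AlgebraicGeometry
open SGA3

namespace Groth.Agent.S5377

theorem exists_stage {J : Type u} [SmallCategory J] [IsFiltered J] (C : J ⥤ CommRingCat.{u}) {l : ℕ}
    (x : Fin l → (colimit C : CommRingCat.{u})) : ∃ (j : J) (y : Fin l → C.obj j), ∀ i, colimit.ι C j (y i) = x i := by
  classical
  choose j y hy using fun i => Concrete.colimit_exists_rep C (x i)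
  obtain ⟨k, hk⟩ := IsFiltered.sup_objs_exists (Finset.univ.image j)
  have hf : ∀ i, Nonempty (j i ⟶ k) := fun i => hk (Finset.mem_image_of_mem j (Finset.mem_univ i))
  refine ⟨k, fun i => C.map (hf i).some (y i), fun i => ?_⟩
  rw [← CategoryTheory.comp_apply, colimit.w, hy]

theorem exists_map_eq_zero {J : Type u} [SmallCategory J] [IsFiltered J] (C : J ⥤ CommRingCat.{u}) {j : J}
    (x : C.obj j) (hx : colimit.ι C j x = 0) : ∃ (k : J) (f : j ⟶ k), C.map f x = 0 := by
  obtain ⟨k, f, g, h⟩ := Concrete.colimit_exists_of_rep_eq C x (0 : C.obj j) (by rw [hx, map_zero])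
  exact ⟨k, f, h.trans (map_zero _)⟩


/-- Let (C_i → A_i)_i be a filtered direct system of homomorphisms of commutative rings, each of which
is faithfully flat. Then the induced homomorphism colim C_i → colim A_i is faithfully flat. -/
theorem result (J : Type u) [SmallCategory J] [IsFiltered J]
    (C A : J ⥤ CommRingCat.{u}) (φ : C ⟶ A) (h : ∀ j : J, (φ.app j).hom.FaithfullyFlat) :
    (colimMap φ).hom.FaithfullyFlat := by
  letI := (colimMap φ).hom.toAlgebra
  change Module.FaithfullyFlat (colimit C : CommRingCat) (colimit A : CommRingCat)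
  have hnat : ∀ (j : J) (c : C.obj j), colimMap φ (colimit.ι C j c) = colimit.ι A j (φ.app j c) := fun j c => by
    rw [← CategoryTheory.comp_apply, ι_colimMap]; rfl
  haveI : Module.Flat (colimit C : CommRingCat) (colimit A : CommRingCat) := by
    refine Module.Flat.iff_forall_isTrivialRelation.2 fun {l r x} hrel => ?_
    obtain ⟨j₁, r', hr⟩ := exists_stage C r
    obtain ⟨j₂, x', hx⟩ := exists_stage A x
    let j := IsFiltered.max j₁ j₂
    let r'' := fun i => C.map (IsFiltered.leftToMax j₁ j₂) (r' i)
    let x'' := fun i => A.map (IsFiltered.rightToMax j₁ j₂) (x' i)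
    have hr'' : ∀ i, colimit.ι C j (r'' i) = r i := fun i => by
      simp only [r'', j]; rw [← CategoryTheory.comp_apply, colimit.w, hr]
    have hx'' : ∀ i, colimit.ι A j (x'' i) = x i := fun i => by
      simp only [x'', j]; rw [← CategoryTheory.comp_apply, colimit.w, hx]
    have h0 : colimit.ι A j (∑ i, φ.app j (r'' i) * x'' i) = 0 := by
      rw [map_sum, ← hrel]
      refine Finset.sum_congr rfl fun i _ => ?_
      rw [map_mul, hx'', ← hnat, hr'', Algebra.smul_def]
      rfl
    obtain ⟨k, f, hk⟩ := exists_map_eq_zero A _ h0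
    letI := (φ.app k).hom.toAlgebra
    haveI : Module.FaithfullyFlat (C.obj k) (A.obj k) := h k
    have hk' : ∑ i, C.map f (r'' i) • A.map f (x'' i) = 0 := by
      rw [← hk, map_sum]
      refine Finset.sum_congr rfl fun i _ => ?_
      rw [map_mul, Algebra.smul_def]
      exact congrArg (· * _) (NatTrans.naturality_apply φ f (r'' i))
    obtain ⟨κ, a, y, ha, hy⟩ := Module.Flat.isTrivialRelation_of_sum_smul_eq_zero hk'
    refine ⟨κ, fun i j => colimit.ι C k (a i j), fun j => colimit.ι A k (y j), fun i => ?_, fun j' => ?_⟩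
    · have h1 := congrArg (colimit.ι A k) (ha i)
      rw [← CategoryTheory.comp_apply, colimit.w, hx'', map_sum] at h1
      refine h1.trans (Finset.sum_congr rfl fun t _ => ?_)
      rw [Algebra.smul_def, map_mul, Algebra.smul_def]
      exact congrArg (· * _) (hnat k _).symm
    · have h1 := congrArg (colimit.ι C k) (hy j')
      rw [map_sum, map_zero] at h1
      refine Eq.trans (Finset.sum_congr rfl fun t _ => ?_) h1
      rw [map_mul, ← CategoryTheory.comp_apply, colimit.w, hr'']
  refine ⟨fun m hm htop => ?_⟩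
  have hone : (1 : (colimit A : CommRingCat)) ∈ m.map (colimMap φ).hom := by
    have : (1 : (colimit A : CommRingCat)) ∈ m • (⊤ : Submodule (colimit C : CommRingCat) (colimit A : CommRingCat)) := by
      rw [htop]; trivial
    refine Submodule.smul_induction_on this (fun c hc a _ => ?_) (fun a b ha hb => add_mem ha hb)
    rw [Algebra.smul_def]
    exact Ideal.mul_mem_right _ _ (Ideal.mem_map_of_mem _ hc)
  obtain ⟨l, a, g, hsum⟩ := Submodule.mem_span_set'.1 hone
  choose c hc hca using fun i => (g i).2
  obtain ⟨j₁, c', hc'⟩ := exists_stage C c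
  obtain ⟨j₂, a', ha'⟩ := exists_stage A a
  let j := IsFiltered.max j₁ j₂
  let c'' := fun i => C.map (IsFiltered.leftToMax j₁ j₂) (c' i)
  let a'' := fun i => A.map (IsFiltered.rightToMax j₁ j₂) (a' i)
  have hc'' : ∀ i, colimit.ι C j (c'' i) = c i := fun i => by
    simp only [c'', j]; rw [← CategoryTheory.comp_apply, colimit.w, hc']
  have ha'' : ∀ i, colimit.ι A j (a'' i) = a i := fun i => by
    simp only [a'', j]; rw [← CategoryTheory.comp_apply, colimit.w, ha']
  have h0 : colimit.ι A j (∑ i, a'' i * φ.app j (c'' i) - 1) = 0 := by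
    rw [map_sub, map_one, sub_eq_zero, map_sum, ← hsum]
    refine Finset.sum_congr rfl fun i _ => ?_
    rw [map_mul, ha'', ← hnat, hc'', smul_eq_mul, ← hca i]
  obtain ⟨k, f, hk⟩ := exists_map_eq_zero A _ h0
  rw [map_sub, map_one, sub_eq_zero, map_sum] at hk
  letI := (φ.app k).hom.toAlgebra
  haveI : Module.FaithfullyFlat (C.obj k) (A.obj k) := h k
  let I : Ideal (C.obj k) := m.comap (colimit.ι C k).hom
  have hI : (1 : A.obj k) ∈ I.map (algebraMap (C.obj k) (A.obj k)) := by
    rw [← hk]
    refine Ideal.sum_mem _ fun i _ => ?_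
    rw [map_mul]
    refine Ideal.mul_mem_left _ _ ?_
    have hmem : C.map f (c'' i) ∈ I := by
      show colimit.ι C k (C.map f (c'' i)) ∈ m
      rw [← CategoryTheory.comp_apply, colimit.w, hc'']
      exact hc i
    have := Ideal.mem_map_of_mem (algebraMap (C.obj k) (A.obj k)) hmem
    rwa [RingHom.algebraMap_toAlgebra, show (φ.app k).hom (C.map f (c'' i)) = A.map f (φ.app j (c'' i)) from
      NatTrans.naturality_apply φ f (c'' i)] at this
  have : (1 : C.obj k) ∈ I := by
    rw [← Ideal.comap_map_eq_self_of_faithfullyFlat (B := A.obj k) I, Ideal.mem_comap, map_one]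
    exact hI
  have h1 : (1 : (colimit C : CommRingCat)) ∈ m := by
    rw [← map_one (colimit.ι C k).hom]; exact this
  exact hm.ne_top ((Ideal.eq_top_iff_one m).2 h1)


end Groth.Agent.S5377
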