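import Groth.Statements.S5378
import Groth.Agent.AntiAffLib.AffineQuot
import Groth.Agent.AntiAffLib.Affinize
import Groth.Agent.HopfFFLib.Injective

set_option autoImplicit false
set_option linter.all false
set_option backward.isDefEq.respectTransparency false
set_option maxHeartbeats 1600000
universe u
open CategoryTheory CategoryTheory.Limits MonoidalCategory CartesianMonoidalCategory MonObj GrpObj AlgebraicGeometry
open SGA3 CoactBr
open scoped TensorProduct

noncomputable section

namespace Groth.Agent.S5378

attribute [-instance] CategoryTheory.Hom.commGroup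

variable {k : Type u} [Field k]

theorem exists_image_affine {G G' : Over (Spec (CommRingCat.of k))} [GrpObj G] [GrpObj G']
    [LocallyOfFiniteType G.hom] [QuasiCompact G.hom] [IsAffine G.left] [IsAffine G'.left] (u : G ⟶ G') [IsMonHom u] :
    ∃ (C : Over (Spec (CommRingCat.of k))) (_ : GrpObj C) (p : G ⟶ C) (i : C ⟶ G'), IsMonHom p ∧ IsMonHom i ∧
      p ≫ i = u ∧ Surjective p.left ∧ Flat p.left ∧ IsClosedImmersion i.left ∧ IsAffine C.left ∧
      (Function.Injective u.left.appTop.hom → IsIso i) := by
  obtain ⟨R, _, _, w, hw, hw'⟩ := OrbitLib.ToAffine.exists_sp G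
  obtain ⟨A, _, _, v, hv, hv'⟩ := OrbitLib.ToAffine.exists_sp G'
  haveI := hw; haveI := hw'; haveI := hv; haveI := hv'
  haveI : IsIso w.hom.left := inferInstanceAs (IsIso ((Over.forget _).map w.hom))
  haveI : IsIso w.inv.left := inferInstanceAs (IsIso ((Over.forget _).map w.inv))
  haveI : IsIso v.hom.left := inferInstanceAs (IsIso ((Over.forget _).map v.hom))
  haveI : IsIso v.inv.left := inferInstanceAs (IsIso ((Over.forget _).map v.inv))
  obtain ⟨φ, hφ⟩ := AntiAffLib.exists_bialgHom (w.hom ≫ u ≫ v.inv)
  let B : Subalgebra k R := (φ : A →ₐ[k] R).range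
  have hB := Groth.Agent.HopfFF.isSubHopf_range φ
  letI : HopfAlgebra k ↥B := Groth.Agent.HopfFF.hopfAlgebra hB
  haveI hm1 : IsMonHom (pt B.val) :=
    Groth.Agent.DiagRep.isMonHom_pt _ rfl (AlgHom.ext fun b => Groth.Agent.HopfFF.map_δB hB b)
  let r : A →ₐ[k] ↥B := (φ : A →ₐ[k] R).rangeRestrict
  have hr : B.val.comp r = (φ : A →ₐ[k] R) := by ext a; rfl
  have hrs : Function.Surjective r := (φ : A →ₐ[k] R).rangeRestrict_surjective
  haveI hm2 : IsMonHom (pt r) := by
    refine Groth.Agent.DiagRep.isMonHom_pt _ ?_ ?_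
    · show ((Bialgebra.counitAlgHom k R).comp B.val).comp r = _
      rw [AlgHom.comp_assoc, hr]
      exact φ.counitAlgHom_comp
    · refine AlgHom.ext fun a => ?_
      refine Groth.Agent.HopfFF.map_val_injective B ?_
      show Algebra.TensorProduct.map B.val B.val ((Algebra.TensorProduct.map r r) _) =
        Algebra.TensorProduct.map B.val B.val (Groth.Agent.HopfFF.δB hB (r a))
      rw [Groth.Agent.HopfFF.map_δB hB, ← AlgHom.comp_apply, ← Algebra.TensorProduct.map_comp, hr]
      exact CoalgHomClass.map_comp_comul_apply φ a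
  haveI : IsAffine (sp k ↥B).left := inferInstanceAs (IsAffine (Spec (CommRingCat.of ↥B)))
  haveI : IsAffine (sp k R).left := inferInstanceAs (IsAffine (Spec (CommRingCat.of R)))
  haveI : QuasiCompact (sp k R).hom := by
    haveI : IsAffineHom (sp k R).hom := isAffineHom_of_isAffine _
    infer_instance
  haveI : LocallyOfFiniteType (sp k R).hom := by rw [← Over.w w.hom]; infer_instance
  obtain ⟨hpf, hps, -⟩ := OrbitLib.ToAffine.flat_surjective_finiteType (sp k R) (sp k ↥B) (pt B.val)
    (OrbitLib.ToAffine.ker_SpecMap_eq_bot _ Subtype.val_injective)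
  haveI := hpf; haveI := hps
  haveI : IsClosedImmersion (pt r).left :=
    IsClosedImmersion.spec_of_surjective (CommRingCat.ofHom r.toRingHom) hrs
  have he : pt B.val ≫ pt r = w.hom ≫ u ≫ v.inv := by rw [← pt_comp, hr, ← hφ]
  refine ⟨sp k ↥B, inferInstance, w.inv ≫ pt B.val, pt r ≫ v.hom, inferInstance, inferInstance, ?_, ?_, ?_, ?_,
    inferInstance, fun hinj => ?_⟩
  · rw [Category.assoc, reassoc_of% he, v.inv_hom_id, Category.comp_id, w.inv_hom_id_assoc]
  · rw [Over.comp_left]; infer_instance
  · rw [Over.comp_left]; infer_instance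
  · rw [Over.comp_left]; infer_instance
  · have h1 : Function.Injective (w.hom ≫ u ≫ v.inv).left.appTop.hom := by
      rw [Over.comp_left, Over.comp_left, Scheme.Hom.comp_appTop, Scheme.Hom.comp_appTop]
      exact (ConcreteCategory.bijective_of_isIso w.hom.left.appTop).1.comp
        (hinj.comp (ConcreteCategory.bijective_of_isIso v.inv.left.appTop).1)
    rw [hφ] at h1
    have h2 : Function.Injective (φ : A →ₐ[k] R) := by
      intro a b hab
      apply (ConcreteCategory.bijective_of_isIso (Scheme.ΓSpecIso (CommRingCat.of A)).inv).1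
      apply h1
      have e := fun c : A =>
        congr($(Scheme.ΓSpecIso_inv_naturality (CommRingCat.ofHom (φ : A →ₐ[k] R).toRingHom)) c)
      exact (e a).symm.trans ((congrArg (Scheme.ΓSpecIso (CommRingCat.of R)).inv hab).trans (e b))
    let E : A ≃ₐ[k] ↥B := AlgEquiv.ofBijective r ⟨fun a b hab => h2 (congrArg Subtype.val hab), hrs⟩
    have hEr : (E : A →ₐ[k] ↥B) = r := by ext a; rfl
    haveI : IsIso (pt r) := by
      rw [← hEr]
      refine ⟨pt (E.symm : ↥B →ₐ[k] A), ?_, ?_⟩
      · rw [← pt_comp, show ((E : A →ₐ[k] ↥B)).comp (E.symm : ↥B →ₐ[k] A) = AlgHom.id k ↥B by ext x; simp]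
        exact pt_id
      · rw [← pt_comp, show ((E.symm : ↥B →ₐ[k] A)).comp (E : A →ₐ[k] ↥B) = AlgHom.id k A by ext x; simp]
        exact pt_id
    infer_instance

/-- Let k be a field, G a k-group scheme of finite type, G' an affine k-group scheme (not necessarily of
finite type) and u : G → G' a homomorphism. Then u factors as a homomorphism p : G → C which is
surjective and flat (C is the quotient of G by the kernel of u) followed by a homomorphism i : C →
G' which is a closed immersion; in particular C is affine. If moreover u induces an injective map on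
global sections, then i is an isomorphism (so G' is of finite type and u is faithfully flat). -/
theorem result (k : Type u) [Field k] (G G' : Over (Spec (CommRingCat.of k))) [GrpObj G] [GrpObj G']
    [LocallyOfFiniteType G.hom] [QuasiCompact G.hom] [IsAffine G'.left] (u : G ⟶ G') [IsMonHom u] :
    ∃ (C : Over (Spec (CommRingCat.of k))) (_ : GrpObj C) (p : G ⟶ C) (i : C ⟶ G'), IsMonHom p ∧ IsMonHom i ∧
      p ≫ i = u ∧ Surjective p.left ∧ Flat p.left ∧ IsClosedImmersion i.left ∧ IsAffine C.left ∧
      (Function.Injective u.left.appTop.hom → IsIso i) := by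
  let u' : AntiAffLib.hull G ⟶ G' := AntiAffLib.desc (AntiAffLib.toHull G) u
  haveI : IsMonHom u' := AntiAffLib.isMonHom_desc G u
  haveI : QuasiCompact (AntiAffLib.hull G).hom := by
    haveI : IsAffineHom (AntiAffLib.hull G).hom := isAffineHom_of_isAffine _
    infer_instance
  obtain ⟨C, _, p, i, hp, hi, hpi, hps, hpf, hci, haff, hiso⟩ := exists_image_affine u'
  refine ⟨C, inferInstance, AntiAffLib.toHull G ≫ p, i, inferInstance, hi, ?_, ?_, ?_, hci, haff, fun hinj => hiso ?_⟩
  · rw [Category.assoc, hpi]; exact AntiAffLib.fac _ _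
  · rw [Over.comp_left]; infer_instance
  · rw [Over.comp_left]; infer_instance
  · have h : (AntiAffLib.toHull G ≫ u').left.appTop.hom.toFun = u.left.appTop.hom.toFun := by
      rw [show AntiAffLib.toHull G ≫ u' = u from AntiAffLib.fac _ _]
    intro a b hab
    apply hinj
    have : ∀ c, u.left.appTop c = (AntiAffLib.toHull G).left.appTop (u'.left.appTop c) := fun c => by
      conv_lhs => rw [← show AntiAffLib.toHull G ≫ u' = u from AntiAffLib.fac _ _]
      rfl
    rw [this a, this b, hab]

end Groth.Agent.S5378
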