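import Groth.Statements.S5379
import Groth.Agent.GrpMonoAffLib.Main
import Mathlib.AlgebraicGeometry.Morphisms.FlatMono

set_option linter.style.haveILetI false
set_option backward.isDefEq.respectTransparency false
-- import your own Groth.Agent.* helpers here

set_option autoImplicit false
universe u
open CategoryTheory CategoryTheory.Limits MonoidalCategory CartesianMonoidalCategory MonObj GrpObj AlgebraicGeometry
open SGA3

namespace Groth.Agent.S5379

/-- Let k be a field and u : G → H a homomorphism of k-group schemes which is a quasi-compact
monomorphism, with H affine (G and H are not assumed of finite type). Then u is a closed immersion. -/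
theorem result (k : Type u) [Field k] (G H : Over (Spec (CommRingCat.of k)))
    [GrpObj G] [GrpObj H] [IsAffine H.left] (u : G ⟶ H) [IsMonHom u] [Mono u] [QuasiCompact u.left] :
    IsClosedImmersion u.left := by
  haveI : Mono u.left := inferInstanceAs (Mono ((Over.forget _).map u))
  obtain ⟨C, _, i, p, _, _, hpi, hi, hd, hq, hs⟩ := Groth.Agent.GrpHom.exists_image u
  haveI := hi; haveI := hd; haveI := hq; haveI := hs
  haveI : IsAffine C.left := isAffine_of_isAffineHom i.left
  obtain ⟨A, _, _, v, hv, hv'⟩ := OrbitLib.ToAffine.exists_sp C
  haveI := hv; haveI := hv'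
  haveI : IsIso v.hom.left := inferInstanceAs (IsIso ((Over.forget _).map v.hom))
  haveI : IsIso v.inv.left := inferInstanceAs (IsIso ((Over.forget _).map v.inv))
  haveI : QuasiCompact (p ≫ v.inv).left := by rw [Over.comp_left]; infer_instance
  haveI : IsSchemeTheoreticallyDominant (p ≫ v.inv).left := by rw [Over.comp_left]; infer_instance
  haveI := Groth.Agent.GrpMonoAff.flat_to_hopf (p ≫ v.inv)
  have e : (p ≫ v.inv).left ≫ v.hom.left = p.left := by
    rw [← Over.comp_left, Category.assoc, v.inv_hom_id, Category.comp_id]
  haveI : Flat p.left := by rw [← e]; infer_instance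
  haveI : Mono p.left := by
    haveI : Mono (p.left ≫ i.left) := by rw [← Over.comp_left, hpi]; infer_instance
    exact mono_of_mono p.left i.left
  haveI : IsIso p.left :=
    MorphismProperty.of_pullback_fst_of_descendsAlong (P := MorphismProperty.isomorphisms Scheme.{u})
      (Q := @Surjective ⊓ @Flat ⊓ @QuasiCompact) (f := p.left) (g := p.left) ⟨⟨inferInstance, inferInstance⟩, inferInstance⟩
      (inferInstanceAs (IsIso (pullback.fst p.left p.left)))
  rw [← hpi, Over.comp_left]
  infer_instance

end Groth.Agent.S5379
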