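import Groth.Statements.S5380
import Mathlib

set_option autoImplicit false
universe u
open CategoryTheory CategoryTheory.Limits MonoidalCategory CartesianMonoidalCategory MonObj GrpObj AlgebraicGeometry
open SGA3

namespace Groth.Agent.S5380


open scoped TensorProduct

variable {A M : Type u} [CommRing A] [AddCommGroup M] [Module A M]

theorem flat_quot (a : A)
    (h : Module.Flat (A ⧸ Ideal.span {a}) (M ⧸ (Ideal.span {a} • (⊤ : Submodule A M)))) :
    Module.Flat (A ⧸ Ideal.span {a}) ((A ⧸ Ideal.span {a}) ⊗[A] M) :=
  Module.Flat.of_linearEquiv ((TensorProduct.quotTensorEquivQuotSMul M (Ideal.span {a})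
    ).extendScalarsOfSurjective (S := A ⧸ Ideal.span {a}) Ideal.Quotient.mk_surjective)

theorem rTensor_injective_of_killed (a : A)
    (hfl : Module.Flat (A ⧸ Ideal.span {a}) ((A ⧸ Ideal.span {a}) ⊗[A] M))
    {P Q : Type u} [AddCommGroup P] [AddCommGroup Q] [Module A P] [Module A Q]
    [Module (A ⧸ Ideal.span {a}) P] [Module (A ⧸ Ideal.span {a}) Q]
    [IsScalarTower A (A ⧸ Ideal.span {a}) P] [IsScalarTower A (A ⧸ Ideal.span {a}) Q]
    (φ : P →ₗ[A] Q) (hφ : Function.Injective φ) : Function.Injective (φ.rTensor M) := by
  let φ' : P →ₗ[A ⧸ Ideal.span {a}] Q :=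
    φ.extendScalarsOfSurjective Ideal.Quotient.mk_surjective
  have hinj := Module.Flat.rTensor_preserves_injective_linearMap
    (M := (A ⧸ Ideal.span {a}) ⊗[A] M) φ' hφ
  let eP := TensorProduct.AlgebraTensorModule.cancelBaseChange A (A ⧸ Ideal.span {a})
    (A ⧸ Ideal.span {a}) P M
  let eQ := TensorProduct.AlgebraTensorModule.cancelBaseChange A (A ⧸ Ideal.span {a})
    (A ⧸ Ideal.span {a}) Q M
  have hnat : ∀ t, eQ (φ'.rTensor _ t) = φ.rTensor M (eP t) := by
    intro t
    induction t using TensorProduct.induction_on with
    | zero => simp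
    | add t t' ht ht' => simp only [map_add, ht, ht']
    | tmul p q =>
      induction q using TensorProduct.induction_on with
      | zero => simp
      | add q q' hq hq' => simp only [TensorProduct.tmul_add, map_add, hq, hq']
      | tmul b m =>
        simp only [eP, eQ, LinearMap.rTensor_tmul,
          TensorProduct.AlgebraTensorModule.cancelBaseChange_tmul]
        rw [← map_smul φ' b p]
        rfl
  intro s t hst
  obtain ⟨s, rfl⟩ := eP.surjective s
  obtain ⟨t, rfl⟩ := eP.surjective t
  rw [← hnat, ← hnat] at hst
  rw [hinj (eQ.injective hst)]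

theorem mem_span_smul (a : A) {N : Type u} [AddCommGroup N] [Module A N] {x : N} :
    x ∈ Ideal.span {a} • (⊤ : Submodule A N) ↔ ∃ y, a • y = x := by
  rw [Submodule.ideal_span_singleton_smul, Submodule.mem_smul_pointwise_iff_exists]
  simp

theorem eq_zero_of_smul_tensor (a : A)
    (hfl : Module.Flat (A ⧸ Ideal.span {a}) ((A ⧸ Ideal.span {a}) ⊗[A] M))
    {K F P : Type u} [AddCommGroup K] [AddCommGroup F] [AddCommGroup P] [Module A K] [Module A F]
    [Module A P] (j : K →ₗ[A] F) (p : F →ₗ[A] P) (hj : Function.Injective j)
    (hjp : Function.Exact j p) (hp : Function.Surjective p)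
    (hP : ∀ i : P, a • i = 0 → i = 0) (hF : ∀ w : F ⊗[A] M, a • w = 0 → w = 0)
    (x : P ⊗[A] M) (hx : a • x = 0) : x = 0 := by
  obtain ⟨y, rfl⟩ := LinearMap.rTensor_surjective M hp x
  have hex := rTensor_exact M hjp hp
  rw [← map_smul] at hx
  obtain ⟨z, hz⟩ := (hex _).1 hx
  let qK := (Ideal.span {a} • (⊤ : Submodule A K)).mkQ
  let qF := (Ideal.span {a} • (⊤ : Submodule A F)).mkQ
  let jbar := Submodule.mapQ (Ideal.span {a} • (⊤ : Submodule A K))
    (Ideal.span {a} • (⊤ : Submodule A F)) j (by
      rw [← Submodule.map_le_iff_le_comap, Submodule.map_smul'']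
      exact Submodule.smul_mono le_rfl le_top)
  have hjbar : Function.Injective jbar := by
    refine (injective_iff_map_eq_zero _).2 fun q hq => ?_
    obtain ⟨k, rfl⟩ := Submodule.Quotient.mk_surjective _ q
    change (Submodule.Quotient.mk (j k) : F ⧸ (Ideal.span {a} • (⊤ : Submodule A F))) = 0 at hq
    replace hq := (Submodule.Quotient.mk_eq_zero _).1 hq
    obtain ⟨f, hf⟩ := (mem_span_smul a).1 hq
    have hpf : p f = 0 := hP _ (by rw [← map_smul, hf]; exact (hjp _).2 ⟨k, rfl⟩)
    obtain ⟨k', rfl⟩ := (hjp _).1 hpf
    exact (Submodule.Quotient.mk_eq_zero _).2 ((mem_span_smul a).2 ⟨k', hj (by rw [map_smul, hf])⟩)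
  have hz0 : qK.rTensor M z = 0 := by
    refine rTensor_injective_of_killed a hfl jbar hjbar ?_
    rw [map_zero, ← LinearMap.rTensor_comp_apply,
      show jbar ∘ₗ qK = qF ∘ₗ j from Submodule.mapQ_mkQ _ _ _,
      LinearMap.rTensor_comp_apply, hz, map_smul]
    induction qF.rTensor M y using TensorProduct.induction_on with
    | zero => simp
    | add s t hs ht => rw [smul_add, hs, ht, add_zero]
    | tmul f m =>
      rw [TensorProduct.smul_tmul']
      obtain ⟨f, rfl⟩ := Submodule.Quotient.mk_surjective _ f
      rw [← Submodule.Quotient.mk_smul, (Submodule.Quotient.mk_eq_zero _).2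
        (Submodule.smul_mem_smul (Ideal.mem_span_singleton_self a) Submodule.mem_top),
        TensorProduct.zero_tmul]
  have hexK : Function.Exact (LinearMap.lsmul A K a) qK := fun k => by
    exact (Submodule.Quotient.mk_eq_zero _).trans (mem_span_smul a)
  obtain ⟨z', hz'⟩ := ((rTensor_exact M hexK (Submodule.mkQ_surjective _)) z).1 hz0
  have hz'' : z = a • z' := by
    rw [← hz']
    clear hz'
    induction z' using TensorProduct.induction_on with
    | zero => simp
    | add s t hs ht => rw [map_add, hs, ht, smul_add]
    | tmul k m => rw [LinearMap.rTensor_tmul, LinearMap.lsmul_apply, TensorProduct.smul_tmul']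
  have hy : y = j.rTensor M z' := by
    refine sub_eq_zero.1 (hF _ ?_)
    rw [smul_sub, ← map_smul, ← hz'', hz, sub_self]
  rw [hy]
  exact (hex _).2 ⟨z', rfl⟩

theorem isSMulRegular_tensor_ideal (a : A) (haA : IsSMulRegular A a) (haM : IsSMulRegular M a)
    (hfl : Module.Flat (A ⧸ Ideal.span {a}) ((A ⧸ Ideal.span {a}) ⊗[A] M))
    (I : Ideal A) : ∀ x : I ⊗[A] M, a • x = 0 → x = 0 := by
  classical
  let p : (I →₀ A) →ₗ[A] I := Finsupp.linearCombination A id
  refine eq_zero_of_smul_tensor (K := LinearMap.ker p) a hfl (LinearMap.ker p).subtype p Subtype.val_injective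
    (fun f => ⟨fun hf => ⟨⟨f, hf⟩, rfl⟩, by rintro ⟨g, rfl⟩; exact g.2⟩) (fun i => ⟨Finsupp.single i 1, by simp [p]⟩)
    (fun i hi => Subtype.ext (haA ?_)) (fun w hw => ?_)
  · simpa using congrArg Subtype.val hi
  · refine (TensorProduct.finsuppScalarLeft A M (I : Type u)).injective ?_
    rw [map_zero]
    ext i
    refine haM ?_
    show a • _ = a • _
    rw [← Finsupp.smul_apply, ← map_smul, hw, map_zero]
    simp

theorem flat_of_mod_and_away (a : A) (haA : IsSMulRegular A a) (haM : IsSMulRegular M a)
    (h1 : Module.Flat (A ⧸ Ideal.span {a}) (M ⧸ (Ideal.span {a} • (⊤ : Submodule A M))))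
    (h2 : Module.Flat (Localization.Away a) (LocalizedModule (Submonoid.powers a) M)) :
    Module.Flat A M := by
  have h2' : Module.Flat A (LocalizedModule (Submonoid.powers a) M) :=
    (Module.flat_iff_of_isLocalization (Localization.Away a) (Submonoid.powers a)
      (LocalizedModule (Submonoid.powers a) M)).1 h2
  refine Module.Flat.iff_rTensor_injective'.2 fun I => (injective_iff_map_eq_zero _).2 fun x hx => ?_
  let g := LocalizedModule.mkLinearMap (Submonoid.powers a) M
  have hx' : TensorProduct.comm A I M x ∈ LinearMap.ker (TensorProduct.AlgebraTensorModule.rTensor A I g) := by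
    rw [LinearMap.mem_ker]
    refine (Module.Flat.lTensor_preserves_injective_linearMap (M := LocalizedModule (Submonoid.powers a) M)
      I.subtype Subtype.val_injective) ?_
    rw [map_zero]
    have e1 : ∀ w, I.subtype.lTensor (LocalizedModule (Submonoid.powers a) M)
        (TensorProduct.AlgebraTensorModule.rTensor A I g w) =
        TensorProduct.AlgebraTensorModule.rTensor A A g (I.subtype.lTensor M w) := fun w => by
      induction w using TensorProduct.induction_on with
      | zero => simp
      | add s t hs ht => simp only [map_add, hs, ht]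
      | tmul m i => simp
    have e2 : ∀ w, I.subtype.lTensor M (TensorProduct.comm A I M w) =
        TensorProduct.comm A A M (I.subtype.rTensor M w) := fun w => by
      induction w using TensorProduct.induction_on with
      | zero => simp
      | add s t hs ht => simp only [map_add, hs, ht]
      | tmul m i => simp
    rw [e1, e2, hx, map_zero, map_zero]
  rw [LinearMap.mem_ker, IsLocalizedModule.eq_zero_iff (Submonoid.powers a)] at hx'
  obtain ⟨⟨_, k, rfl⟩, hk⟩ := hx'
  have hk' : a ^ k • x = 0 := by
    refine (TensorProduct.comm A I M).injective ?_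
    rw [map_smul, map_zero]
    exact hk
  clear hk
  have key := isSMulRegular_tensor_ideal a haA haM (flat_quot a h1) I
  induction k with
  | zero => simpa using hk'
  | succ m ih => exact ih (key _ (by rw [smul_smul, ← pow_succ']; exact hk'))


/-- Let R be a discrete valuation ring with uniformizer π, A a flat commutative R-algebra and M an
A-module which is flat over R. Suppose that M/πM is a flat module over A/πA and that M ⊗_R K is a
flat module over A ⊗_R K, K the fraction field of R (equivalently, M[1/π] is flat over A[1/π], the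
form used here). Then M is a flat A-module. -/
theorem result (R : Type u) [CommRing R] [IsDomain R] [IsDiscreteValuationRing R]
    (π : R) (hπ : Irreducible π) (A : Type u) [CommRing A] [Algebra R A] [Module.Flat R A]
    (M : Type u) [AddCommGroup M] [Module A M] [Module R M] [IsScalarTower R A M] [Module.Flat R M]
    (h1 : Module.Flat (A ⧸ Ideal.span {algebraMap R A π}) (M ⧸ (Ideal.span {algebraMap R A π} • (⊤ : Submodule A M))))
    (h2 : Module.Flat (Localization.Away (algebraMap R A π)) (LocalizedModule (Submonoid.powers (algebraMap R A π)) M)) :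
    Module.Flat A M := by
  have hreg : ∀ (N : Type u) [AddCommGroup N] [Module A N] [Module R N] [IsScalarTower R A N]
      [Module.Flat R N], IsSMulRegular N (algebraMap R A π) := fun N _ _ _ _ _ x y hxy => by
    simp only [algebraMap_smul] at hxy
    exact smul_right_injective N hπ.ne_zero hxy
  exact flat_of_mod_and_away _ (hreg A) (hreg M) h1 h2

end Groth.Agent.S5380
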