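import Groth.Statements.S5381
import Mathlib
-- import your own Groth.Agent.* helpers here

set_option autoImplicit false
set_option backward.isDefEq.respectTransparency false
universe u
open CategoryTheory CategoryTheory.Limits MonoidalCategory CartesianMonoidalCategory MonObj GrpObj AlgebraicGeometry
open SGA3

namespace Groth.Agent.S5381

/-- For S the spectrum of a Dedekind domain R: let X be a scheme which is flat, quasi-compact and
quasi-separated over R. Then the ring of global sections Γ(X, O_X) is a flat R-module. (The
published remark takes S locally noetherian and regular of dimension 1 and also observes, when S is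
local with closed point s and uniformizer π, that Γ(X, O_X)/πΓ(X, O_X) → Γ(X_s, O_{X_s}) is
injective; this row takes S the spectrum of a Dedekind domain and omits the injectivity.) -/
theorem result (R : Type u) [CommRing R] [IsDedekindDomain R]
    (X : Scheme.{u}) (f : X ⟶ Spec (CommRingCat.of R)) [Flat f] [QuasiCompact f] [QuasiSeparated f] :
    letI := ((Scheme.ΓSpecIso (CommRingCat.of R)).inv ≫ f.appTop).hom.toAlgebra
    Module.Flat R Γ(X, ⊤) := by
  letI := ((Scheme.ΓSpecIso (CommRingCat.of R)).inv ≫ f.appTop).hom.toAlgebra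
  show Module.Flat R Γ(X, ⊤)
  haveI : Module.IsTorsionFree R Γ(X, ⊤) := by
    refine Module.IsTorsionFree.mk fun r hr => fun s t hst => ?_
    have hst' : r • (s - t) = 0 := by rw [smul_sub, sub_eq_zero]; exact hst
    rw [← sub_eq_zero]
    refine X.sheaf.eq_of_locally_eq' (fun U : X.affineOpens => U.1) ⊤ (fun U => homOfLE le_top)
      (iSup_affineOpens_eq_top X).ge _ 0 fun U => ?_
    show (X.presheaf.map (homOfLE le_top : U.1 ⟶ ⊤).op).hom (s - t) = (X.presheaf.map (homOfLE le_top : U.1 ⟶ ⊤).op).hom 0
    rw [map_zero]
    let φ : CommRingCat.of R ⟶ Γ(X, U.1) := (Scheme.ΓSpecIso (CommRingCat.of R)).inv ≫ f.appLE ⊤ U.1 le_top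
    have hφ : φ.hom.Flat := by
      have h1 : (f.appLE ⊤ U.1 le_top).hom.Flat := f.flat_appLE (isAffineOpen_top _) U.2 le_top
      exact RingHom.Flat.comp (RingHom.Flat.of_bijective (Scheme.ΓSpecIso (CommRingCat.of R)).commRingCatIsoToRingEquiv.symm.bijective) h1
    letI := φ.hom.toAlgebra
    haveI : Module.Flat R Γ(X, U.1) := hφ
    have e : (X.presheaf.map (homOfLE le_top : U.1 ⟶ ⊤).op).hom (r • (s - t)) =
        r • (X.presheaf.map (homOfLE le_top : U.1 ⟶ ⊤).op).hom (s - t) := by
      rw [Algebra.smul_def, Algebra.smul_def, map_mul]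
      rfl
    rw [hst', map_zero] at e
    exact (smul_eq_zero_iff_right hr.ne_zero).1 e.symm
  infer_instance

end Groth.Agent.S5381
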