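import Groth.Statements.S5384
import Groth.Agent.GrpFieldLib.ClosedImage


-- import your own Groth.Agent.* helpers here

set_option autoImplicit false
universe u
open CategoryTheory CategoryTheory.Limits MonoidalCategory CartesianMonoidalCategory MonObj GrpObj AlgebraicGeometry
open SGA3

namespace Groth.Agent.S5384

/-- Let A be a local artinian ring, G an A-group scheme and u : H → G a homomorphism of A-group schemes
which is an immersion (a subgroup scheme; no finiteness is assumed). Then u is a closed immersion. -/
theorem result (A : Type u) [CommRing A] [IsArtinianRing A] [IsLocalRing A] (G H : Over (Spec (CommRingCat.of A))) [GrpObj G] [GrpObj H]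
    (u : H ⟶ G) [IsMonHom u] [IsImmersion u.left] : IsClosedImmersion u.left := by
  let k := IsLocalRing.ResidueField A
  let i : Spec (CommRingCat.of k) ⟶ Spec (CommRingCat.of A) :=
    Spec.map (CommRingCat.ofHom (IsLocalRing.residue A))
  haveI : IsClosedImmersion i := IsClosedImmersion.spec_of_surjective _ Ideal.Quotient.mk_surjective
  haveI : Surjective i := ⟨fun p => ⟨IsLocalRing.closedPoint k, by
    haveI : Subsingleton (PrimeSpectrum A) := ⟨fun a b => PrimeSpectrum.ext
      ((IsLocalRing.eq_maximalIdeal (inferInstance : a.asIdeal.IsMaximal)).trans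
        (IsLocalRing.eq_maximalIdeal (inferInstance : b.asIdeal.IsMaximal)).symm)⟩
    exact @Subsingleton.elim (PrimeSpectrum A) _ _ _⟩⟩
  let F := Over.pullback i
  letI : GrpObj (F.obj G) := Functor.grpObjObj
  letI : GrpObj (F.obj H) := Functor.grpObjObj
  haveI : IsMonHom (F.map u) := inferInstance
  let π : (F.obj G).left ⟶ G.left := Limits.pullback.fst _ _
  let p : (F.obj H).left ⟶ H.left := Limits.pullback.fst _ _
  haveI : IsClosedImmersion π := MorphismProperty.pullback_fst _ _ (inferInstance : IsClosedImmersion i)
  haveI : IsClosedImmersion p := MorphismProperty.pullback_fst _ _ (inferInstance : IsClosedImmersion i)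
  haveI : Surjective p := MorphismProperty.pullback_fst _ _ (inferInstance : Surjective i)
  have hsq : (F.map u).left ≫ π = p ≫ u.left := Limits.pullback.lift_fst _ _ _
  haveI : IsImmersion ((F.map u).left ≫ π) := hsq ▸ inferInstance
  haveI : IsImmersion (F.map u).left := IsImmersion.of_comp _ π
  have h0 := Groth.Agent.GrpField.isClosed_range_hom (F.map u) (Scheme.Hom.isLocallyClosed_range _)
  have h1 : Set.range u.left = π '' Set.range (F.map u).left := by
    rw [← Set.range_comp, ← TopCat.coe_comp, ← Scheme.Hom.comp_base, hsq, Scheme.Hom.comp_base, TopCat.coe_comp,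
      Set.range_comp, p.surjective.range_eq, Set.image_univ]
  rw [IsClosedImmersion.iff_isPreimmersion]
  exact ⟨inferInstance, h1 ▸ π.isClosedEmbedding.isClosedMap _ h0⟩

end Groth.Agent.S5384
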