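import Groth.Statements.S5385
import Mathlib
import Groth.Agent.CMFlatLib.Point
-- import your own Groth.Agent.* helpers here

set_option autoImplicit false
universe u
open CategoryTheory CategoryTheory.Limits MonoidalCategory CartesianMonoidalCategory MonObj GrpObj AlgebraicGeometry
open SGA3

namespace Groth.Agent.S5385

/-- Let A be an artinian ring and X a nonempty scheme locally of finite type over A. Then X has a closed
point whose local ring is Cohen–Macaulay. -/
theorem result (A : Type u) [CommRing A] [IsArtinianRing A] (X : Scheme.{u})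
    (f : X ⟶ Spec (CommRingCat.of A)) [LocallyOfFiniteType f] [Nonempty X] :
    ∃ x : X, IsClosed ({x} : Set X) ∧ LocCoh.IsCohenMacaulayLocalRing (X.presheaf.stalk x) := by
  haveI : IsJacobsonRing A := inferInstance
  haveI : JacobsonSpace (Spec (CommRingCat.of A)) := (inferInstance : JacobsonSpace (PrimeSpectrum A))
  haveI := LocallyOfFiniteType.jacobsonSpace f
  haveI : IsLocallyNoetherian X := LocallyOfFiniteType.isLocallyNoetherian f
  refine CMFlatLib.exists_closed_cm_point fun U => ?_
  have hft : (f.appLE ⊤ U.1 le_top).hom.FiniteType := f.finiteType_appLE (isAffineOpen_top _) U.2 le_top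
  algebraize [(f.appLE ⊤ U.1 le_top).hom]
  haveI : IsJacobsonRing Γ(Spec (CommRingCat.of A), ⊤) :=
    (isJacobsonRing_iso (Scheme.ΓSpecIso (CommRingCat.of A)).commRingCatIsoToRingEquiv).2 inferInstance
  exact isJacobsonRing_of_finiteType (A := Γ(Spec (CommRingCat.of A), ⊤))

end Groth.Agent.S5385
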