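import Groth.Statements.S5386
import Groth.Agent.StrictRatLib.Split
import Groth.Agent.StrictRatLib.Quot
-- import your own Groth.Agent.* helpers here

set_option autoImplicit false
set_option maxHeartbeats 2000000
set_option backward.isDefEq.respectTransparency false
universe u
open CategoryTheory CategoryTheory.Limits MonoidalCategory CartesianMonoidalCategory MonObj GrpObj AlgebraicGeometry
open SGA3

namespace Groth.Agent.S5386

open IsLocalRing

namespace StrictRatLib

theorem exists_field_point {X Y : Scheme.{u}} (f : X ⟶ Y) (x : X) (y : Y) (h : f x = y)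
    (K : Type u) [Field K] (φ : X.residueField x ⟶ CommRingCat.of K) :
    ∃ φ' : Y.presheaf.stalk y ⟶ CommRingCat.of K,
      (∀ a ∈ maximalIdeal (Y.presheaf.stalk y), φ'.hom a = 0) ∧
      Spec.map φ ≫ X.fromSpecResidueField x ≫ f = Spec.map φ' ≫ Y.fromSpecStalk y := by
  subst h
  refine ⟨Y.residue (f x) ≫ f.residueFieldMap x ≫ φ, fun a ha => ?_, ?_⟩
  · have : (Y.residue (f x)).hom a = 0 := Ideal.Quotient.eq_zero_iff_mem.2 ha
    simp [CommRingCat.hom_comp, this]
  · rw [Spec.map_comp, Spec.map_comp, ← f.SpecMap_residueFieldMap_fromSpecResidueField]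
    simp only [Category.assoc]
    rfl

theorem map_maximalIdeal_toStalk {A : Type u} [CommRing A] [IsArtinianRing A] [IsLocalRing A]
    (s : Spec (CommRingCat.of A)) :
    (maximalIdeal A).map (StructureSheaf.toStalk A s).hom = maximalIdeal ((Spec (CommRingCat.of A)).presheaf.stalk s) ∧
      (StructureSheaf.toStalk A s).hom.Flat := by
  let p : PrimeSpectrum A := s
  have hp : p.asIdeal = maximalIdeal A :=
    IsLocalRing.eq_maximalIdeal ((IsArtinianRing.isPrime_iff_isMaximal _).1 p.2)
  refine ⟨?_, ?_⟩
  · letI : Algebra A ((Spec (CommRingCat.of A)).presheaf.stalk s) := (StructureSheaf.toStalk A s).hom.toAlgebra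
    haveI : IsLocalization.AtPrime ((Spec (CommRingCat.of A)).presheaf.stalk s) p.asIdeal :=
      inferInstanceAs (IsLocalization.AtPrime ((Spec.structureSheaf A).presheaf.stalk p) p.asIdeal)
    rw [← hp]
    exact IsLocalization.AtPrime.map_eq_maximalIdeal p.asIdeal ((Spec (CommRingCat.of A)).presheaf.stalk s)
  · exact RingHom.flat_algebraMap_iff.2
      (IsLocalization.flat ((Spec.structureSheaf A).presheaf.stalk p) p.asIdeal.primeCompl)

end StrictRatLib


/-- Let A be a local artinian ring, G an A-group scheme which is flat and locally of finite type over A,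
and x a closed point of G. Then there is a local A-algebra A', finite and free as an A-module, such
that every point of G ⊗_A A' lying over x is strictly rational over A': it is the image of the
closed point under some section Spec A' → G ⊗_A A' of the projection. -/
theorem result (A : Type u) [CommRing A] [IsArtinianRing A] [IsLocalRing A] (G : Over (Spec (CommRingCat.of A))) [GrpObj G] [Flat G.hom]
    [LocallyOfFiniteType G.hom] (x : G.left) (hx : IsClosed ({x} : Set G.left)) :
    ∃ (A' : Type u) (_ : CommRing A') (_ : IsLocalRing A') (_ : Algebra A A') (_ : Module.Finite A A') (_ : Module.Free A A'),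
      ∀ x' : ↥(pullback G.hom (Spec.map (CommRingCat.ofHom (algebraMap A A')))),
        (pullback.fst G.hom (Spec.map (CommRingCat.ofHom (algebraMap A A')))).base x' = x →
        ∃ s : Spec (CommRingCat.of A') ⟶ pullback G.hom (Spec.map (CommRingCat.ofHom (algebraMap A A'))),
          s ≫ pullback.snd G.hom (Spec.map (CommRingCat.ofHom (algebraMap A A'))) = 𝟙 _ ∧ x' ∈ Set.range s.base := by
  let θ : CommRingCat.of A ⟶ G.left.presheaf.stalk x := Spec.preimage (G.left.fromSpecStalk x ≫ G.hom)
  have hθ : θ = StructureSheaf.toStalk A (G.hom x) ≫ G.hom.stalkMap x := by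
    apply Spec.map_injective
    rw [Spec.map_preimage, Spec.map_comp, ← Scheme.SpecMap_stalkMap_fromSpecStalk,
      Spec.fromSpecStalk_eq']
  obtain ⟨hmax, hflat0⟩ := StrictRatLib.map_maximalIdeal_toStalk (G.hom x)
  letI : Algebra A (G.left.presheaf.stalk x) := θ.hom.toAlgebra
  have hθ' : (algebraMap A (G.left.presheaf.stalk x)) =
      (G.hom.stalkMap x).hom.comp (StructureSheaf.toStalk A (G.hom x)).hom := congrArg CommRingCat.Hom.hom hθ
  haveI : Module.Flat A (G.left.presheaf.stalk x) :=
    RingHom.flat_algebraMap_iff.1 (hθ' ▸ hflat0.comp (Flat.stalkMap G.hom x))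
  have hI : (IsLocalRing.maximalIdeal A).map (algebraMap A (G.left.presheaf.stalk x)) =
      (IsLocalRing.maximalIdeal ((Spec (CommRingCat.of A)).presheaf.stalk (G.hom x))).map (G.hom.stalkMap x).hom := by
    rw [hθ', ← Ideal.map_map, hmax]
  haveI : IsLocalHom (algebraMap A (G.left.presheaf.stalk x)) := by
    refine ((IsLocalRing.local_hom_TFAE _).out 2 0).1 ?_
    rw [hI]
    exact ((IsLocalRing.local_hom_TFAE (G.hom.stalkMap x).hom).out 0 2).1 (inferInstance : IsLocalHom (G.hom.stalkMap x).hom)
  haveI : IsLocallyNoetherian G.left := LocallyOfFiniteType.isLocallyNoetherian G.hom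
  have hCM : LocCoh.IsCohenMacaulayLocalRing ((G.left.presheaf.stalk x : Type u) ⧸
      (IsLocalRing.maximalIdeal A).map (algebraMap A (G.left.presheaf.stalk x))) := by
    let g := (Spec (CommRingCat.of A)).fromSpecResidueField (G.hom x)
    haveI : GrpObj (Over.mk G.hom) := ‹GrpObj G›
    letI : GrpObj (Over.mk (pullback.snd G.hom g)) := Over.grpObjMkPullbackSnd
    haveI : LocallyOfFiniteType (Over.mk (pullback.snd G.hom g)).hom :=
      inferInstanceAs (LocallyOfFiniteType (pullback.snd G.hom g))
    have h := CMFlatLib.cm_stalk_group (K := (Spec (CommRingCat.of A)).residueField (G.hom x))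
      (Over.mk (pullback.snd G.hom g)) (G.hom.asFiber x)
    rw [hI]
    exact ((CMFlatLib.cm_fibre_stalk_iff G.hom x).1 ⟨Flat.stalkMap G.hom x, h⟩).2
  haveI : Module.Finite A (IsLocalRing.ResidueField (G.left.presheaf.stalk x)) := by
    haveI : IsClosedImmersion (G.left.fromSpecResidueField x) := isClosed_singleton_iff_isClosedImmersion.1 hx
    have h1 : LocallyOfFiniteType (Spec.map (θ ≫ G.left.residue x)) := by
      rw [Spec.map_comp, Spec.map_preimage, ← Category.assoc]
      exact inferInstanceAs (LocallyOfFiniteType (G.left.fromSpecResidueField x ≫ G.hom))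
    haveI : Algebra.FiniteType A (IsLocalRing.ResidueField (G.left.presheaf.stalk x)) :=
      RingHom.finiteType_algebraMap.1 ((HasRingHomProperty.Spec_iff (P := @LocallyOfFiniteType)).1 h1)
    exact finite_of_finite_type_of_isJacobsonRing A _
  obtain ⟨J, hJ, hfin, hfree⟩ := StrictRatLib.exists_flat_quotient A (G.left.presheaf.stalk x) hCM
  obtain ⟨A', i1, i2, i3, i4, i5, hA'⟩ :=
    StrictRatLib.exists_splitting A ((G.left.presheaf.stalk x : Type u) ⧸ J)
  refine ⟨A', i1, i2, i3, i4, i5, fun x' hx' => ?_⟩
  let κ : Type u := (pullback G.hom (Spec.map (CommRingCat.ofHom (algebraMap A A')))).residueField x'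
  letI : Field κ := inferInstanceAs (Field ((pullback G.hom (Spec.map (CommRingCat.ofHom (algebraMap A A')))).residueField x'))
  let K : Type u := AlgebraicClosure κ
  let φ : (pullback G.hom (Spec.map (CommRingCat.ofHom (algebraMap A A')))).residueField x' ⟶ CommRingCat.of K :=
    CommRingCat.ofHom (algebraMap κ K)
  let q := Spec.map φ ≫ (pullback G.hom (Spec.map (CommRingCat.ofHom (algebraMap A A')))).fromSpecResidueField x'
  obtain ⟨φ', hφ'm, hφ'⟩ := StrictRatLib.exists_field_point (pullback.fst G.hom _) x' x hx' K φ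
  let χ : CommRingCat.of A' ⟶ CommRingCat.of K := Spec.preimage (q ≫ pullback.snd G.hom _)
  have hA : θ ≫ φ' = CommRingCat.ofHom (algebraMap A A') ≫ χ := by
    apply Spec.map_injective
    rw [Spec.map_comp, Spec.map_comp, Spec.map_preimage, Spec.map_preimage, ← Category.assoc, ← hφ']
    simp only [q, Category.assoc, pullback.condition]
  let σ : ((G.left.presheaf.stalk x : Type u) ⧸ J) →+* K :=
    Ideal.Quotient.lift J φ'.hom fun a ha => hφ'm a (hJ ha)
  obtain ⟨f, hf⟩ := hA' K χ.hom σ (RingHom.ext fun a => DFunLike.congr_fun (congrArg CommRingCat.Hom.hom hA) a)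
  let fL : G.left.presheaf.stalk x ⟶ CommRingCat.of A' :=
    CommRingCat.ofHom (f.toRingHom.comp (Ideal.Quotient.mk J))
  have hfL : fL ≫ χ = φ' := CommRingCat.hom_ext (RingHom.ext fun a => DFunLike.congr_fun hf (Ideal.Quotient.mk J a))
  have hfθ : θ ≫ fL = CommRingCat.ofHom (algebraMap A A') := CommRingCat.hom_ext (RingHom.ext f.commutes)
  let s : Spec (CommRingCat.of A') ⟶ pullback G.hom (Spec.map (CommRingCat.ofHom (algebraMap A A'))) :=
    pullback.lift (Spec.map fL ≫ G.left.fromSpecStalk x) (𝟙 _) (by
      rw [Category.assoc, ← Spec.map_preimage (G.left.fromSpecStalk x ≫ G.hom), ← Spec.map_comp, hfθ, Category.id_comp])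
  refine ⟨s, pullback.lift_snd _ _ _, ?_⟩
  have hq : Spec.map χ ≫ s = q := by
    refine pullback.hom_ext ?_ ?_
    · rw [Category.assoc, pullback.lift_fst, ← Spec.map_comp_assoc, hfL, ← hφ']
      simp only [q, Category.assoc]
    · rw [Category.assoc, pullback.lift_snd, Category.comp_id, Spec.map_preimage]
  have hx'' : q (IsLocalRing.closedPoint K) = x' := by
    simp [q, Scheme.fromSpecResidueField_apply]
  exact ⟨Spec.map χ (IsLocalRing.closedPoint K), (congrArg (fun m => m.base (IsLocalRing.closedPoint K)) hq).trans hx''⟩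

end Groth.Agent.S5386
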