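import Groth.Statements.S5387
import Mathlib


-- import your own Groth.Agent.* helpers here

set_option autoImplicit false
universe u
open CategoryTheory CategoryTheory.Limits MonoidalCategory CartesianMonoidalCategory MonObj GrpObj AlgebraicGeometry
open SGA3

namespace Groth.Agent.S5387

/-- Let k be an algebraically closed field, G a group scheme locally of finite type over k and x a
closed point of G. Then the local ring of G at x is isomorphic to the local ring of G at the unit
point (an isomorphism is induced by a translation; this row asserts the existence of an isomorphism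
of rings). -/
theorem result (k : Type u) [Field k] [IsAlgClosed k] (G : Over (Spec (CommRingCat.of k))) [GrpObj G]
    [LocallyOfFiniteType G.hom] (pt : ↥(𝟙_ (Over (Spec (CommRingCat.of k)))).left) (x : G.left) (hx : IsClosed ({x} : Set G.left)) :
    Nonempty (G.left.presheaf.stalk (η[G].left.base pt) ≅ G.left.presheaf.stalk x) := by
  obtain ⟨g, hg⟩ : ∃ g : 𝟙_ (Over (Spec (CommRingCat.of k))) ⟶ G,
      g.left pt = x := by
    haveI : Subsingleton ↥(Spec (CommRingCat.of k)) := inferInstanceAs (Subsingleton (PrimeSpectrum k))
    refine ⟨Over.homMk (pointOfClosedPoint G.hom x hx) (pointOfClosedPoint_comp _ _ _), ?_⟩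
    rw [show pt = IsLocalRing.closedPoint k from @Subsingleton.elim ↥(Spec (CommRingCat.of k)) _ _ _]
    simp
  let τ : G ≅ G :=
    { hom := (toUnit G ≫ g) * 𝟙 G
      inv := (toUnit G ≫ g)⁻¹ * 𝟙 G
      hom_inv_id := by simp [MonObj.comp_mul, GrpObj.comp_inv, comp_toUnit_assoc]
      inv_hom_id := by simp [MonObj.comp_mul, comp_toUnit_assoc] }
  let e : G.left ≅ G.left := (Over.forget _).mapIso τ
  have he : e.hom (η[G].left pt) = x := by
    show τ.hom.left (η[G].left pt) = x
    rw [← Scheme.Hom.comp_apply, ← Over.comp_left]
    simp only [τ, MonObj.comp_mul, Category.comp_id, comp_toUnit_assoc]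
    rw [show toUnit (𝟙_ (Over (Spec (CommRingCat.of k)))) = 𝟙 _ from toUnit_unique _ _, Category.id_comp,
      MonObj.one_eq_one, _root_.mul_one]
    exact hg
  exact ⟨(asIso (e.hom.stalkMap (η[G].left pt))).symm ≪≫ G.left.presheaf.stalkCongr (.of_eq he)⟩

end Groth.Agent.S5387
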