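import Groth.Statements.S5388
import Groth.Agent.GrpSchLib.ReducedNbhd
import Groth.Agent.GrpFieldLib.Neutral
-- import your own Groth.Agent.* helpers here

set_option autoImplicit false
set_option backward.isDefEq.respectTransparency false
set_option linter.style.haveILetI false
universe u
open CategoryTheory CategoryTheory.Limits MonoidalCategory CartesianMonoidalCategory MonObj GrpObj AlgebraicGeometry
open SGA3

namespace Groth.Agent.S5388

/-- Let G be a group scheme locally of finite type over a field k, e its unit point and K a perfect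
extension field of k. If K ⊗_k O_{G,e} is a reduced ring, then G is smooth over k. (The published
statement is for a group flat and locally of finite type over a local artinian ring, with K the
perfect closure of the residue field; this row is the case of a base field, with K any perfect
extension.) -/
theorem result (k : Type u) [Field k] (G : Over (Spec (CommRingCat.of k))) [GrpObj G]
    [LocallyOfFiniteType G.hom] (pt : ↥(𝟙_ (Over (Spec (CommRingCat.of k)))).left) (K : Type u) [Field K] [Algebra k K] [PerfectField K] :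
    letI := ((Scheme.ΓSpecIso (CommRingCat.of k)).inv ≫ G.hom.appTop ≫ G.left.presheaf.germ ⊤ (η[G].left.base pt) trivial).hom.toAlgebra
    IsReduced (TensorProduct k K (G.left.presheaf.stalk (η[G].left.base pt))) → Smooth G.hom := by
  intro hred
  let e : G.left := η[G].left.base pt
  obtain ⟨U, hU, heU, -⟩ := exists_isAffineOpen_mem_and_subset (X := G.left) (x := e) (U := ⊤) trivial
  letI algR : Algebra k Γ(G.left, U) :=
    ((Scheme.ΓSpecIso (CommRingCat.of k)).inv ≫ G.hom.appTop ≫ G.left.presheaf.map (homOfLE le_top).op).hom.toAlgebra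
  letI : Algebra k (G.left.presheaf.stalk e) :=
    ((Scheme.ΓSpecIso (CommRingCat.of k)).inv ≫ G.hom.appTop ≫ G.left.presheaf.germ ⊤ e trivial).hom.toAlgebra
  letI : Algebra Γ(G.left, U) (G.left.presheaf.stalk e) := (G.left.presheaf.germ U e heU).hom.toAlgebra
  haveI : IsLocalization.AtPrime (G.left.presheaf.stalk e) (hU.primeIdealOf ⟨e, heU⟩).asIdeal :=
    hU.isLocalization_stalk ⟨e, heU⟩
  haveI : IsScalarTower k Γ(G.left, U) (G.left.presheaf.stalk e) := IsScalarTower.of_algebraMap_eq fun c => by
    show _ = (G.left.presheaf.germ U e heU) ((G.left.presheaf.map (homOfLE le_top).op) _)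
    rw [TopCat.Presheaf.germ_res_apply]
    rfl
  haveI : Algebra.FiniteType k Γ(G.left, U) := by
    have h := G.hom.finiteType_appLE (isAffineOpen_top (Spec (CommRingCat.of k))) hU le_top
    rw [← RingHom.finiteType_algebraMap]
    exact RingHom.finiteType_respectsIso.2 _ (Scheme.ΓSpecIso (CommRingCat.of k)).symm.commRingCatIsoToRingEquiv h
  haveI : IsNoetherianRing (TensorProduct k K Γ(G.left, U)) :=
    Algebra.FiniteType.isNoetherianRing K _
  haveI : IsReduced (TensorProduct k K (G.left.presheaf.stalk e)) := hred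
  obtain ⟨s, hs, hsred⟩ := ReducedNbhd.exists_away (k := k) (K := K) (R := Γ(G.left, U)) (L := G.left.presheaf.stalk e)
    (hU.primeIdealOf ⟨e, heU⟩).asIdeal.primeCompl
  let D := G.left.basicOpen s
  have hD : IsAffineOpen D := hU.basicOpen s
  have heD : e ∈ D := by
    rw [Scheme.mem_basicOpen _ _ _ heU]
    exact IsLocalization.map_units (G.left.presheaf.stalk e) (⟨s, hs⟩ : (hU.primeIdealOf ⟨e, heU⟩).asIdeal.primeCompl)
  letI : Algebra k Γ(G.left, D) :=
    ((Scheme.ΓSpecIso (CommRingCat.of k)).inv ≫ G.hom.appTop ≫ G.left.presheaf.map (homOfLE le_top).op).hom.toAlgebra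
  letI : Algebra Γ(G.left, U) Γ(G.left, D) := (G.left.presheaf.map (homOfLE (G.left.basicOpen_le s)).op).hom.toAlgebra
  haveI : IsLocalization.Away s Γ(G.left, D) := hU.isLocalization_basicOpen s
  haveI : IsScalarTower k Γ(G.left, U) Γ(G.left, D) := IsScalarTower.of_algebraMap_eq fun c => by
    show (G.left.presheaf.map _) _ = (G.left.presheaf.map _) ((G.left.presheaf.map _) _)
    rw [← ConcreteCategory.comp_apply, ← Functor.map_comp]
    rfl
  haveI := hsred Γ(G.left, D)
  let g : Spec (CommRingCat.of K) ⟶ Spec (CommRingCat.of k) := Spec.map (CommRingCat.ofHom (algebraMap k K))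
  have hfac : hD.isoSpec.inv ≫ D.ι ≫ G.hom = Spec.map (CommRingCat.ofHom (algebraMap k Γ(G.left, D))) := by
    rw [hD.isoSpec_inv_ι_assoc, ← IsAffineOpen.SpecMap_appLE_fromSpec G.hom (isAffineOpen_top _) hD
      (show D ≤ G.hom ⁻¹ᵁ ⊤ from le_top), IsAffineOpen.fromSpec_top]
    show _ = Spec.map ((Scheme.ΓSpecIso (CommRingCat.of k)).inv ≫ G.hom.appLE ⊤ D (show D ≤ G.hom ⁻¹ᵁ ⊤ from le_top))
    rw [Spec.map_comp, Scheme.isoSpec_Spec_inv]
  haveI : IsReduced (pullback (Spec.map (CommRingCat.ofHom (algebraMap k Γ(G.left, D)))) g) := by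
    haveI : IsReduced (Spec (CommRingCat.of (TensorProduct k Γ(G.left, D) K))) := by
      haveI : _root_.IsReduced (TensorProduct k Γ(G.left, D) K) :=
        isReduced_of_injective (Algebra.TensorProduct.comm k Γ(G.left, D) K).toRingHom (Algebra.TensorProduct.comm k Γ(G.left, D) K).injective
      infer_instance
    exact isReduced_of_isOpenImmersion (pullbackSpecIso k Γ(G.left, D) K).hom
  let w : pullback (Spec.map (CommRingCat.ofHom (algebraMap k Γ(G.left, D)))) g ⟶ pullback G.hom g :=
    pullback.map _ _ _ _ (hD.isoSpec.inv ≫ D.ι) (𝟙 _) (𝟙 _) (by simp [← hfac]) (by simp)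
  haveI : IsOpenImmersion w := inferInstance
  apply MorphismProperty.of_pullback_snd_of_descendsAlong (Q := @Surjective ⊓ @Flat ⊓ @QuasiCompact) (g := g)
  · exact ⟨⟨⟨fun y => ⟨IsLocalRing.closedPoint K, @Subsingleton.elim (PrimeSpectrum k) _ _ _⟩⟩,
      Groth.Agent.GrpField.flat_field g⟩, quasiCompact_of_compactSpace g⟩
  letI : GrpObj (Over.mk (pullback.snd G.hom g)) := Red.grpObj_bc g G
  haveI : LocallyOfFiniteType (Over.mk (pullback.snd G.hom g)).hom :=
    inferInstanceAs (LocallyOfFiniteType (pullback.snd G.hom g))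
  refine Groth.Agent.GrpSchLib.smooth_of_smoothLocus_nonempty (Over.mk (pullback.snd G.hom g)) ?_
  haveI : Nonempty ↥(pullback (Spec.map (CommRingCat.ofHom (algebraMap k Γ(G.left, D)))) g) := by
    haveI : Nontrivial Γ(G.left, D) := (G.left.presheaf.germ D e heD).hom.domain_nontrivial
    haveI : Nonempty ↥(Spec (CommRingCat.of (TensorProduct k Γ(G.left, D) K))) :=
      inferInstanceAs (Nonempty (PrimeSpectrum (TensorProduct k Γ(G.left, D) K)))
    exact Nonempty.map (pullbackSpecIso k Γ(G.left, D) K).inv inferInstance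
  obtain ⟨z, hz⟩ := (w ≫ pullback.snd G.hom g).dense_smoothLocus_of_perfectField.nonempty
  rw [← Scheme.Hom.preimage_smoothLocus_eq] at hz
  exact ⟨w z, hz⟩
end Groth.Agent.S5388
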