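import Groth.Statements.S5390
import Mathlib

set_option autoImplicit false
universe u
open CategoryTheory CategoryTheory.Limits MonoidalCategory CartesianMonoidalCategory MonObj GrpObj AlgebraicGeometry
open SGA3

namespace Groth.Agent.S5390


theorem exists_isPullback_resLE {X Y Y' : Scheme.{u}} (f : X ⟶ Y) (g : Y' ⟶ Y) (V : Y.Opens)
    (U : Y'.Opens) (e : U ≤ g ⁻¹ᵁ V) :
    ∃ φ : ((pullback.snd f g) ⁻¹ᵁ U).toScheme ⟶ (f ⁻¹ᵁ V).toScheme,
      IsPullback φ (pullback.snd f g ∣_ U) (f ∣_ V) (g.resLE V U e) := by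
  have t := (isPullback_morphismRestrict f V).flip
  have s := (isPullback_morphismRestrict (pullback.snd f g) U).flip.paste_horiz
    (IsPullback.of_hasPullback f g)
  have w : (((pullback.snd f g) ⁻¹ᵁ U).ι ≫ pullback.fst f g) ≫ f =
      ((pullback.snd f g ∣_ U) ≫ g.resLE V U e) ≫ V.ι := by
    rw [Category.assoc (pullback.snd f g ∣_ U), Scheme.Hom.resLE_comp_ι]
    exact s.w
  refine ⟨t.lift _ _ w, IsPullback.of_right ?_ (t.lift_snd _ _ w) t⟩
  rw [t.lift_fst, Scheme.Hom.resLE_comp_ι]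
  exact s


/-- Let P be a property of morphisms of schemes which is local on the target for the fpqc topology
(stable under base change, Zariski-local on the target, descending along flat surjective
quasi-compact morphisms). Let f : X → Y be a morphism, g : Y' → Y a flat morphism whose underlying
map is open, and f' : X ×_Y Y' → Y' the base change. If W is the largest open of Y over which f has
P and W₁' the largest open of Y' over which f' has P, then W₁' = g⁻¹(W). -/
theorem result (P : MorphismProperty Scheme.{u}) [P.IsStableUnderBaseChange] [IsZariskiLocalAtTarget P]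
    [P.DescendsAlong (@Flat ⊓ @Surjective ⊓ @QuasiCompact)]
    (X Y Y' : Scheme.{u}) (f : X ⟶ Y) (g : Y' ⟶ Y) [Flat g] (hg : IsOpenMap g.base)
    (W : Y.Opens) (hW : P (f ∣_ W)) (hmax : ∀ W₀ : Y.Opens, P (f ∣_ W₀) → W₀ ≤ W)
    (W₁ : Y'.Opens) (hW₁ : P (pullback.snd f g ∣_ W₁)) (hmax₁ : ∀ W₀ : Y'.Opens, P (pullback.snd f g ∣_ W₀) → W₀ ≤ W₁) :
    W₁ = g ⁻¹ᵁ W := by
  refine le_antisymm (fun y hy => ?_) ?_
  · -- every affine open inside `g '' W₁` lies in `W`
    obtain ⟨V, hV, hyV, hVle⟩ := exists_isAffineOpen_mem_and_subset (X := Y) (x := g y)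
      (U := ⟨g '' (W₁ : Set Y'), hg _ W₁.2⟩) ⟨y, hy, rfl⟩
    -- a quasi-compact open of `W₁` surjecting onto `V`
    have hcov : ∀ v : V, ∃ A : Y'.Opens, IsAffineOpen A ∧ A ≤ W₁ ⊓ g ⁻¹ᵁ V ∧
        (v : Y) ∈ g '' (A : Set Y') := by
      intro v
      obtain ⟨x, hx, hxv⟩ := hVle v.2
      obtain ⟨A, hA, hxA, hAle⟩ := exists_isAffineOpen_mem_and_subset (X := Y') (x := x)
        (U := W₁ ⊓ g ⁻¹ᵁ V) ⟨hx, show g x ∈ V by rw [hxv]; exact v.2⟩
      exact ⟨A, hA, hAle, ⟨x, hxA, hxv⟩⟩
    choose A hA hAle hAv using hcov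
    obtain ⟨t, ht⟩ := hV.isCompact.elim_finite_subcover (fun v : V => g '' (A v : Set Y'))
      (fun v => hg _ (A v).2) (fun v hv => Set.mem_iUnion.2 ⟨⟨v, hv⟩, hAv ⟨v, hv⟩⟩)
    let U : Y'.Opens := ⨆ v ∈ t, A v
    have hUle : U ≤ W₁ ⊓ g ⁻¹ᵁ V := iSup₂_le fun v _ => hAle v
    have hUc : IsCompact (U : Set Y') := by
      simp only [U, TopologicalSpace.Opens.coe_iSup]
      exact t.finite_toSet.isCompact_biUnion fun v _ => (hA v).isCompact
    let φ := g.resLE V U (hUle.trans inf_le_right)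
    haveI : CompactSpace U.toScheme := isCompact_iff_compactSpace.1 hUc
    haveI : IsAffine V.toScheme := hV
    haveI : QuasiCompact φ := quasiCompact_of_compactSpace φ
    haveI : Surjective φ := ⟨fun v => by
      obtain ⟨a, hat, x, hxa, hxv⟩ := Set.mem_iUnion₂.1 (ht v.2)
      refine ⟨⟨x, ?_⟩, Subtype.ext ?_⟩
      · exact (le_iSup₂ (f := fun v (_ : v ∈ t) => A v) a hat) hxa
      · rw [Scheme.Hom.coe_resLE_apply]; exact hxv⟩
    obtain ⟨ψ, hψ⟩ := exists_isPullback_resLE f g V U (hUle.trans inf_le_right)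
    have hU : P (pullback.snd f g ∣_ U) := by
      have hle := hUle.trans inf_le_left
      have h2 : IsPullback ((pullback f g).homOfLE ((pullback.snd f g).preimage_mono hle))
          (pullback.snd f g ∣_ U) (pullback.snd f g ∣_ W₁) (Y'.homOfLE hle) :=
        IsPullback.of_right (by
          rw [Scheme.homOfLE_ι, Scheme.homOfLE_ι]
          exact (isPullback_morphismRestrict (pullback.snd f g) U).flip)
          (by rw [← cancel_mono W₁.ι]; simp) (isPullback_morphismRestrict (pullback.snd f g) W₁).flip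
      exact P.of_isPullback h2 hW₁
    have hPV : P (f ∣_ V) := MorphismProperty.of_isPullback_of_descendsAlong
      (Q := @Flat ⊓ @Surjective ⊓ @QuasiCompact) hψ.flip
      ⟨⟨inferInstance, inferInstance⟩, inferInstance⟩ hU
    exact hmax V hPV hyV
  · obtain ⟨ψ, hψ⟩ := exists_isPullback_resLE f g W (g ⁻¹ᵁ W) le_rfl
    exact hmax₁ _ (P.of_isPullback hψ hW)

end Groth.Agent.S5390
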