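import Groth.Statements.S5389
import Groth.Agent.S5390
import Groth.Agent.WhiskerPbLib.Basic
-- import your own Groth.Agent.* helpers here

set_option autoImplicit false
set_option backward.isDefEq.respectTransparency false
universe u
open CategoryTheory CategoryTheory.Limits MonoidalCategory CartesianMonoidalCategory MonObj GrpObj AlgebraicGeometry
open SGA3

namespace Groth.Agent.S5389

open CategoryTheory.Limits

attribute [-instance] CategoryTheory.Hom.commGroup

/-- Being of type `P` over an open is stable under base change. -/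
lemma restrict_baseChange (P : MorphismProperty Scheme.{u}) [P.IsStableUnderBaseChange] {M N M' N' : Scheme.{u}}
    {F : M ⟶ N} {F' : M' ⟶ N'} {a : M' ⟶ M} {b : N' ⟶ N} (h : IsPullback a F' F b) (W : N.Opens)
    (hW : P (F ∣_ W)) : P (F' ∣_ b ⁻¹ᵁ W) := by
  have h1 : IsPullback ((F' ⁻¹ᵁ b ⁻¹ᵁ W).ι ≫ a) (F' ∣_ b ⁻¹ᵁ W) F ((b ⁻¹ᵁ W).ι ≫ b) :=
    (isPullback_morphismRestrict F' (b ⁻¹ᵁ W)).flip.paste_horiz h
  let top : (F' ⁻¹ᵁ b ⁻¹ᵁ W).toScheme ⟶ (F ⁻¹ᵁ W).toScheme :=
    (isPullback_morphismRestrict F W).flip.lift ((F' ⁻¹ᵁ b ⁻¹ᵁ W).ι ≫ a) ((F' ∣_ b ⁻¹ᵁ W) ≫ b ∣_ W)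
      (by rw [h1.w, Category.assoc, morphismRestrict_ι])
  have h2 : IsPullback (top ≫ (F ⁻¹ᵁ W).ι) (F' ∣_ b ⁻¹ᵁ W) F (b ∣_ W ≫ W.ι) := by
    rw [IsPullback.lift_fst, morphismRestrict_ι]
    exact h1
  exact P.of_isPullback (IsPullback.of_right h2 (IsPullback.lift_snd _ _ _ _)
    (isPullback_morphismRestrict F W).flip) hW

/-- Let P be a property of morphisms of schemes which is local on the target for the fpqc topology
(stable under base change, Zariski-local on the target, and descending along flat surjective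
quasi-compact morphisms). Let u : G → H be a homomorphism of S-group schemes with G flat and
universally open over S, W the largest open subscheme of H over which the restriction of u has P,
and V = u⁻¹(W). Then the image U of V in S is open and V is an open subgroup scheme of G over U: V
contains the unit point of every fibre of G that it meets, V is stable under the inversion of G, and
the product of a point of G ×_S G whose two projections lie in V lies in V. -/
theorem result (P : MorphismProperty Scheme.{u}) [P.IsStableUnderBaseChange] [IsZariskiLocalAtTarget P]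
    [P.DescendsAlong (@Flat ⊓ @Surjective ⊓ @QuasiCompact)]
    (S : Scheme.{u}) (G H : Over S) [GrpObj G] [GrpObj H] (u : G ⟶ H) [IsMonHom u] [Flat G.hom] [UniversallyOpen G.hom]
    (W : H.left.Opens) (hW : P (u.left ∣_ W)) (hmax : ∀ W' : H.left.Opens, P (u.left ∣_ W') → W' ≤ W) :
    letI V : G.left.Opens := u.left ⁻¹ᵁ W
    IsOpen (G.hom.base '' (V : Set G.left)) ∧
    (∀ g ∈ V, ∀ p : ↥(𝟙_ (Over S)).left, (𝟙_ (Over S)).hom.base p = G.hom.base g → η[G].left.base p ∈ V) ∧
    (∀ g ∈ V, ι[G].left.base g ∈ V) ∧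
    (∀ z : ↥(G ⊗ G).left, (fst G G).left.base z ∈ V → (snd G G).left.base z ∈ V → μ[G].left.base z ∈ V) := by
  classical
  have hfib : ∀ x y : G.left, G.hom x = G.hom y → y ∈ u.left ⁻¹ᵁ W → x ∈ u.left ⁻¹ᵁ W := by
    let F : (G ⊗ G).left ⟶ (H ⊗ G).left := (u ▷ G).left
    let g : (H ⊗ G).left ⟶ H.left := (fst H G).left
    have hsq : IsPullback (fst G G).left F u.left g := WhiskerPb.isPullback_whiskerRight_left u G
    haveI : Flat g := inferInstanceAs (Flat (pullback.fst H.hom G.hom))
    haveI : UniversallyOpen g := MorphismProperty.pullback_fst H.hom G.hom ‹UniversallyOpen G.hom›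
    let W₀ : (H ⊗ G).left.Opens := g ⁻¹ᵁ W
    -- maximality on the base change
    have hmax₀ : ∀ W' : (H ⊗ G).left.Opens, P (F ∣_ W') → W' ≤ W₀ := by
      intro W' hW'
      let f' := pullback.snd u.left g
      let e := hsq.isoPullback
      have he : IsPullback e.inv f' F (𝟙 _) :=
        IsPullback.of_horiz_isIso ⟨by rw [Category.comp_id]; exact hsq.isoPullback_inv_snd⟩
      have hW'' : P (f' ∣_ W') := restrict_baseChange P he W' hW'
      let ι₁ := {W : (H ⊗ G).left.Opens // P (f' ∣_ W)}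
      let W₁ : (H ⊗ G).left.Opens := ⨆ W : ι₁, W.1
      have hW₁ : P (f' ∣_ W₁) := by
        have hcov : ⨆ W : ι₁, W₁.ι ⁻¹ᵁ W.1 = ⊤ := by
          rw [← Scheme.Hom.preimage_iSup]
          exact W₁.ι_preimage_self
        refine (IsZariskiLocalAtTarget.iff_of_iSup_eq_top (P := P) _ hcov).mpr fun W => ?_
        have hle : W.1 ≤ W₁ := le_iSup (fun W : ι₁ => W.1) W
        have := morphismRestrictRestrict f' W₁ (W₁.ι ⁻¹ᵁ W.1)
        refine (P.arrow_mk_iso_iff (this ≪≫ morphismRestrictEq f' ?_)).mpr W.2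
        rw [Scheme.Hom.image_preimage_eq_opensRange_inf, Scheme.Opens.opensRange_ι, inf_eq_right.mpr hle]
      have := Groth.Agent.S5390.result P G.left H.left (H ⊗ G).left u.left g g.isOpenMap W hW hmax W₁ hW₁
        (fun W₂ h₂ => le_iSup (fun W : ι₁ => W.1) ⟨W₂, h₂⟩)
      exact (le_iSup (fun W : ι₁ => W.1) ⟨W', hW''⟩).trans this.le
    -- translation by the universal point
    let σ : G ⊗ G ⟶ G ⊗ G := lift (snd G G * fst G G) (snd G G)
    let σ' : G ⊗ G ⟶ G ⊗ G := lift ((snd G G)⁻¹ * fst G G) (snd G G)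
    haveI : IsIso σ := ⟨σ', by
        apply CartesianMonoidalCategory.hom_ext <;> simp [σ, σ', MonObj.comp_mul, GrpObj.comp_inv], by
        apply CartesianMonoidalCategory.hom_ext <;> simp [σ, σ', MonObj.comp_mul, GrpObj.comp_inv]⟩
    let τ : H ⊗ G ⟶ H ⊗ G := lift ((snd H G ≫ u) * fst H G) (snd H G)
    let τ' : H ⊗ G ⟶ H ⊗ G := lift ((snd H G ≫ u)⁻¹ * fst H G) (snd H G)
    haveI : IsIso τ := ⟨τ', by
        apply CartesianMonoidalCategory.hom_ext <;> simp [τ, τ', MonObj.comp_mul, GrpObj.comp_inv], by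
        apply CartesianMonoidalCategory.hom_ext <;> simp [τ, τ', MonObj.comp_mul, GrpObj.comp_inv]⟩
    have hστ : σ ≫ u ▷ G = u ▷ G ≫ τ := by
      apply CartesianMonoidalCategory.hom_ext <;> simp [σ, τ, MonObj.comp_mul, MonObj.mul_comp]
    have hsq' : IsPullback σ.left F F τ.left :=
      WhiskerPb.isPullback_left (IsPullback.of_horiz_isIso ⟨hστ⟩)
    have hinv : τ.left ⁻¹ᵁ W₀ ≤ W₀ :=
      hmax₀ _ (restrict_baseChange P hsq' W₀ (restrict_baseChange P hsq W hW))
    intro x y hxy hy
    -- a point above `(y, x)`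
    let κ : G ⊗ G ⟶ G ⊗ G := lift (fst G G * snd G G) (snd G G)
    let κ' : G ⊗ G ⟶ G ⊗ G := lift (fst G G * (snd G G)⁻¹) (snd G G)
    have hκ : κ' ≫ κ = 𝟙 _ := by
      apply CartesianMonoidalCategory.hom_ext <;> simp [κ, κ', MonObj.comp_mul, GrpObj.comp_inv]
    obtain ⟨z, hz₁, hz₂⟩ := Scheme.Pullback.exists_preimage_pullback (f := G.hom) (g := G.hom) y x hxy.symm
    let z' : (G ⊗ G).left := κ'.left z
    let q : G ⊗ G ⟶ H ⊗ G := lift (snd G G ≫ u) (fst G G)
    have h1 : q.left z' ∈ τ.left ⁻¹ᵁ W₀ := by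
      show (q.left ≫ τ.left ≫ g) z' ∈ W
      have e : q ≫ τ ≫ fst H G = (fst G G * snd G G) ≫ u := by
        simp [q, τ, MonObj.comp_mul, MonObj.mul_comp]
      rw [← Over.comp_left, ← Over.comp_left, e, Over.comp_left, Scheme.Hom.comp_apply]
      have e2 : (fst G G * snd G G).left z' = y := by
        rw [← hz₁]
        show ((fst G G * snd G G).left) (κ'.left z) = _
        rw [← Scheme.Hom.comp_apply, ← Over.comp_left]
        have : κ' ≫ (fst G G * snd G G) = fst G G := by
          simpa [κ] using congrArg (· ≫ fst G G) hκ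
        rw [this]
        rfl
      rw [e2]
      exact hy
    have h2 := hinv h1
    change (q.left ≫ g) z' ∈ W at h2
    have e : q ≫ fst H G = snd G G ≫ u := by simp [q]
    rw [← Over.comp_left, e, Over.comp_left, Scheme.Hom.comp_apply] at h2
    have e3 : (snd G G).left z' = x := by
      rw [← hz₂]
      show (snd G G).left (κ'.left z) = _
      rw [← Scheme.Hom.comp_apply, ← Over.comp_left]
      have : κ' ≫ snd G G = snd G G := by simp [κ']
      rw [this]
      rfl
    rw [e3] at h2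
    exact h2
  refine ⟨G.hom.isOpenMap _ (u.left ⁻¹ᵁ W).isOpen, fun g hg p hp => ?_, fun g hg => ?_, fun z hz₁ hz₂ => ?_⟩
  · refine hfib _ g ?_ hg
    rw [← hp, ← Scheme.Hom.comp_apply, Over.w η[G]]
  · refine hfib _ g ?_ hg
    rw [← Scheme.Hom.comp_apply, Over.w ι[G]]
  · refine hfib _ _ ?_ hz₂
    rw [← Scheme.Hom.comp_apply, ← Scheme.Hom.comp_apply, Over.w μ[G], Over.w (snd G G)]

end Groth.Agent.S5389
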