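import Groth.Statements.S5391
import Groth.Agent.QuasiSecLib.Point
-- import your own Groth.Agent.* helpers here

set_option autoImplicit false
universe u
open CategoryTheory CategoryTheory.Limits MonoidalCategory CartesianMonoidalCategory MonObj GrpObj AlgebraicGeometry
open SGA3

namespace Groth.Agent.S5391

/-- Let f : X → S be a morphism locally of finite presentation, s a point of S and x a point of the
fibre X_s = f⁻¹(s) which is closed in it. Suppose f is universally open at the generic point z of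
some irreducible component Z of the fibre X_s containing x, with the local dimension of X_s at x
equal to dim Z. Then there are an affine scheme S', an etale morphism w : S' → S, a finite
surjective morphism of finite presentation π : S'' → S', and a morphism h : S'' → X with h f = π w,
such that exactly one point s'' of S'' lies over s, h(s'') = x, and h induces an isomorphism κ(x) ≅
κ(s''). -/
theorem result (X S : Scheme.{u}) (f : X ⟶ S) [LocallyOfFinitePresentation f]
    (s : S) (x : X) (hxs : f.base x = s) (hx : IsClosed ((Subtype.val : ↥(f.base ⁻¹' {s}) → X) ⁻¹' {x}))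
    (Z : Set ↥(f.base ⁻¹' {s})) (hZ : Z ∈ irreducibleComponents ↥(f.base ⁻¹' {s})) (hxZ : x ∈ (Subtype.val '' Z))
    (z : X) (hz : z ∈ Subtype.val '' Z ∧ Subtype.val '' Z ⊆ closure {z}) (hopen : EGA43.IsUnivOpenAt f z)
    (hdim : FlatMor.localDim ↥(f.base ⁻¹' {s}) ⟨x, hxs⟩ = topologicalKrullDim ↥Z) :
    ∃ (S' S'' : Scheme.{u}) (_ : IsAffine S') (w : S' ⟶ S) (π : S'' ⟶ S') (h : S'' ⟶ X),
      Etale w ∧ IsFinite π ∧ Surjective π ∧ LocallyOfFinitePresentation π ∧ h ≫ f = π ≫ w ∧
      ∃ s'' : S'', (π ≫ w).base ⁻¹' {s} = {s''} ∧ h.base s'' = x ∧ IsIso (h.residueFieldMap s'') := by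
  obtain ⟨⟨⟨z, hzs⟩, hzZ, rfl⟩, hzcl⟩ := hz
  subst hxs
  simp only [Set.mem_preimage, Set.mem_singleton_iff] at hzs
  have hzx : z ⤳ x := specializes_iff_mem_closure.mpr (hzcl hxZ)
  have himg : closure {z} ∩ f.base ⁻¹' {f.base x} = Subtype.val '' Z := by
    refine Set.Subset.antisymm (fun a ha ↦ ?_) (Set.subset_inter hzcl (Subtype.coe_image_subset _ _))
    have h : (⟨z, hzs⟩ : ↥(f.base ⁻¹' {f.base x})) ⤳ ⟨a, ha.2⟩ :=
      Topology.IsInducing.subtypeVal.specializes_iff.mp (specializes_iff_mem_closure.mpr ha.1)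
    exact ⟨⟨a, ha.2⟩, (isClosed_of_mem_irreducibleComponents _ hZ).closure_subset_iff.mpr
      (Set.singleton_subset_iff.mpr hzZ) h.mem_closure, rfl⟩
  have hd : UOpenLib.fibreClosureDim f z = topologicalKrullDim ↥Z := by
    let eH := (Topology.IsEmbedding.subtypeVal.homeomorphImage Z).trans (Homeomorph.setCongr himg.symm)
    rw [UOpenLib.fibreClosureDim_eq_inter, hzs, IsHomeomorph.topologicalKrullDim_eq eH eH.isHomeomorph]
  have hl : FlatMor.fibreDimAt f x = FlatMor.localDim ↥(f.base ⁻¹' {f.base x}) ⟨x, rfl⟩ := by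
    rw [FlatMor.fibreDimAt, ← FibDimLib.localDim_eq_of_isOpenEmbedding
      (f.fiberHomeo (f.base x)).isOpenEmbedding (f.asFiber x)]
    congr 1
    exact (f.fiberHomeo (f.base x)).apply_symm_apply _
  refine Groth.Agent.QuasiSec.exists_quasiSection f x z (fun x' hx' hsp => ?_) hzx hzs hopen
    (by rw [hl, hdim, hd])
  have h : (⟨x, rfl⟩ : ↥(f.base ⁻¹' {f.base x})) ⤳ ⟨x', hx'⟩ :=
    Topology.IsInducing.subtypeVal.specializes_iff.mp hsp
  exact h.mem_closed hx (rfl : x ∈ ({x} : Set X))
end Groth.Agent.S5391
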