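import Groth.Statements.S5393
import Groth.Agent.NeutralSchLib.Basic
import Groth.Agent.GrpHomLib.Field
import Groth.Agent.ProperConnLib.Core
import Groth.Agent.FlatLib.FibreFlatScheme
import Groth.Agent.AlgSpLib.Sep
import Groth.Agent.GrpPatchLib.Fibre
import Groth.Agent.PowEtCentralLib.Split

set_option autoImplicit false
set_option backward.isDefEq.respectTransparency false
set_option backward.isDefEq.respectTransparency.types false
set_option maxHeartbeats 1000000
set_option synthInstance.maxHeartbeats 400000
universe u
open CategoryTheory CategoryTheory.Limits MonoidalCategory CartesianMonoidalCategory MonObj GrpObj AlgebraicGeometry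
open SGA3 CategoryTheory.Limits

attribute [-instance] CategoryTheory.Hom.commGroup
set_option backward.isDefEq.respectTransparency false
namespace Groth.Agent.S5393

open Groth.Agent.GrpField (Z0 unitPt)

/-- The image of an open immersion of a connected group into a group over a field is the neutral component. -/
theorem range_eq_Z0 {k : Type u} [Field k] {A B : Over (Spec (CommRingCat.of k))} [GrpObj A] [GrpObj B]
    [LocallyOfFiniteType B.hom] [QuasiCompact A.hom] [ConnectedSpace A.left] (f : A ⟶ B) [IsMonHom f]
    [IsOpenImmersion f.left] : Set.range f.left = Z0 B := by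
  haveI : IsSeparated B.hom := GrpField.isSeparated_grp (G := B)
  haveI : LocallyOfFiniteType A.hom := by rw [← Over.w f]; infer_instance
  haveI : QuasiCompact f.left := by
    haveI : QuasiCompact (f.left ≫ B.hom) := by rw [Over.w]; infer_instance
    exact QuasiCompact.of_comp f.left B.hom
  haveI := GrpHom.isClosedImmersion_of_mono (u := f)
  have hu : unitPt B ∈ Set.range f.left := ⟨unitPt A, by
    rw [GrpField.unitPt, GrpField.unitPt, ← Scheme.Hom.comp_apply, ← Over.comp_left, IsMonHom.one_hom]⟩
  rw [← GrpField.connectedComponent_unit]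
  exact subset_antisymm ((isConnected_range f.left.continuous).isPreconnected.subset_connectedComponent hu)
    (IsClopen.connectedComponent_subset ⟨f.left.isClosedEmbedding.isClosed_range, f.left.isOpenEmbedding.isOpen_range⟩ hu)

theorem range_fst_fiber {S : Scheme.{u}} (X : Over S) (s : S) :
    Set.range (pullback.fst X.hom (S.fromSpecResidueField s)) = X.hom.base ⁻¹' {s} := by
  rw [Scheme.Pullback.range_fst, Scheme.range_fromSpecResidueField]



/-- Let G be an S-group scheme locally of finite presentation and quasi-separated over S, H an S-group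
scheme smooth and of finite presentation over S with connected fibres, u : H → G a homomorphism
which is a monomorphism, n : N → G the normalizer of H in G (a closed subgroup scheme) and j : H → N
the homomorphism with j n = u. The following are equivalent: (i) j is an open immersion; (ii) H
represents the neutral component of N: a point g : T → N factors through j exactly when the image of
its underlying map lies in the union of the neutral components of the fibres of N; (iii) for every s
in S, the fibre j_s : H_s → N_s is an open immersion whose image is the neutral component of N_s.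
(The published statement asks H only to be smooth over S with connected fibres; this row also asks H
quasi-compact and quasi-separated over S, the hypotheses under which the normalizer is shown to be
representable.) -/
theorem result (S : Scheme.{u}) (G H N : Over S) [GrpObj G] [GrpObj H] [GrpObj N]
    [LocallyOfFinitePresentation G.hom] [QuasiSeparated G.hom] [Smooth H.hom] [QuasiCompact H.hom] [QuasiSeparated H.hom]
    (hconn : ∀ s : S, _root_.IsConnected (H.hom.base ⁻¹' {s})) (u : H ⟶ G) [IsMonHom u] [Mono u]
    (n : N ⟶ G) [IsClosedImmersion n.left] (hN : Red.IsNormalizerOf u n) (j : H ⟶ N) [IsMonHom j] (hj : j ≫ n = u) :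
    (IsOpenImmersion j.left ↔
      ∀ (T : Over S) (g : T ⟶ N), (∃ h : T ⟶ H, h ≫ j = g) ↔ Set.range g.left.base ⊆ SGA3x.neutralSet N) ∧
    (IsOpenImmersion j.left ↔
      ∀ s : S, IsOpenImmersion ((Over.pullback (S.fromSpecResidueField s)).map j).left ∧
        j.left.base '' (H.hom.base ⁻¹' {s}) = SGA3x.neutralSet N ∩ N.hom.base ⁻¹' {s}) := by
  classical
  haveI : LocallyOfFiniteType N.hom := by rw [← Over.w n]; infer_instance
  haveI : LocallyOfFinitePresentation j.left := by
    haveI : LocallyOfFinitePresentation (j.left ≫ N.hom) := by rw [Over.w]; infer_instance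
    exact AlgSpLib.lfp_of_comp_lft j.left N.hom
  haveI : Mono j := by
    haveI : Mono (j ≫ n) := hj ▸ inferInstance
    exact mono_of_mono j n
  haveI : Mono j.left := inferInstanceAs (Mono ((Over.forget S).map j))
  let fκ := fun s : S => S.fromSpecResidueField s
  have hbc : ∀ s : S, IsPullback (pullback.fst H.hom (fκ s)) ((Over.pullback (fκ s)).map j).left j.left (pullback.fst N.hom (fκ s)) :=
    fun s => PowEtCentralLib.isPullback_map_left (fκ s) j
  have hA : ∀ s : S, ConnectedSpace ↥(Red.bc (fκ s) H).left := fun s => by
    haveI : ConnectedSpace ↥(H.hom.base ⁻¹' {s}) := isConnected_iff_connectedSpace.1 (hconn s)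
    show ConnectedSpace ↥(H.hom.fiber s)
    exact (H.hom.fiberHomeo s).symm.surjective.connectedSpace (H.hom.fiberHomeo s).symm.continuous
  -- an open immersion on a fibre has the neutral component as image
  have key : ∀ s : S, IsOpenImmersion ((Over.pullback (fκ s)).map j).left →
      j.left.base '' (H.hom.base ⁻¹' {s}) = SGA3x.neutralSet N ∩ N.hom.base ⁻¹' {s} := by
    intro s ho
    haveI := hA s
    haveI := GrpPatchLib.isMonHom_bc_map (fκ s) j
    haveI : QuasiCompact (Red.bc (fκ s) H).hom := MorphismProperty.pullback_snd _ _ inferInstance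
    haveI : LocallyOfFiniteType (Red.bc (fκ s) N).hom := MorphismProperty.pullback_snd _ _ inferInstance
    haveI : IsOpenImmersion ((Over.pullback (fκ s)).map j :
      Red.bc (fκ s) H ⟶ Red.bc (fκ s) N).left := ho
    have h := range_eq_Z0 (A := Red.bc (fκ s) H) (B := Red.bc (fκ s) N) ((Over.pullback (fκ s)).map j)
    rw [← range_fst_fiber H s, ← Set.range_comp, ← range_fst_fiber N s, ← Set.image_preimage_eq_inter_range,
      ← NeutralSch.neutralSet_bc (G := N) (fκ s), NeutralSch.neutralSet_field, ← h, ← Set.range_comp]
    refine congrArg Set.range (funext fun x => ?_)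
    exact congr($((hbc s).w) x)
  have hfib : IsOpenImmersion j.left → ∀ s : S, IsOpenImmersion ((Over.pullback (fκ s)).map j).left := fun ho s =>
    MorphismProperty.of_isPullback (hbc s) ho
  -- fibrewise criterion
  have crit : (∀ s : S, IsOpenImmersion ((Over.pullback (fκ s)).map j).left) → IsOpenImmersion j.left := by
    intro h
    haveI : Flat (j.left ≫ N.hom) := by rw [Over.w]; infer_instance
    haveI : LocallyOfFinitePresentation (j.left ≫ N.hom) := by rw [Over.w]; infer_instance
    haveI : Flat j.left := by
      refine FlatLib.flat_of_fibres_flat_lfp j.left N.hom fun s => ?_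
      haveI := h s
      haveI : Flat ((Over.pullback (fκ s)).map j).left := inferInstance
      rw [← (FlatLib.isPullback_fiberMap j.left N.hom s).isoIsPullback_hom_snd _ _ (hbc s)]
      infer_instance
    exact IsOpenImmersion.of_flat_of_mono j.left
  have hrange : IsOpenImmersion j.left → Set.range j.left = SGA3x.neutralSet N := by
    intro ho
    ext y
    have hk := key (N.hom y) (hfib ho _)
    constructor
    · rintro ⟨x, rfl⟩
      refine (hk.le ⟨x, ?_, rfl⟩).1
      show H.hom x = N.hom (j.left x)
      rw [← Scheme.Hom.comp_apply, Over.w]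
    · intro hy
      obtain ⟨x, -, hx⟩ := hk.ge ⟨hy, rfl⟩
      exact ⟨x, hx⟩
  refine ⟨⟨fun ho T g => ⟨?_, fun hg => ?_⟩, fun h => crit fun s => ?_⟩,
    ⟨fun ho s => ⟨hfib ho s, key s (hfib ho s)⟩, fun h => crit fun s => (h s).1⟩⟩
  · rintro ⟨h, rfl⟩
    rw [← hrange ho, Over.comp_left]
    rintro _ ⟨t, rfl⟩
    exact ⟨h.left t, (Scheme.Hom.comp_apply _ _ _).symm⟩
  · haveI := ho
    rw [← hrange ho] at hg
    refine ⟨Over.homMk (IsOpenImmersion.lift j.left g.left hg) ?_, Over.OverMorphism.ext (IsOpenImmersion.lift_fac _ _ _)⟩
    rw [← Over.w j, IsOpenImmersion.lift_fac_assoc, Over.w]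
  · haveI := hA s
    haveI : LocallyOfFiniteType (Red.bc (fκ s) N).hom := MorphismProperty.pullback_snd _ _ inferInstance
    haveI : IsLocallyNoetherian (Red.bc (fκ s) N).left := LocallyOfFiniteType.isLocallyNoetherian (Red.bc (fκ s) N).hom
    haveI := GrpPatchLib.isMonHom_bc_map (fκ s) j
    haveI : LocallyConnectedSpace (Red.bc (fκ s) N).left := ProperConnLib.locallyConnectedSpace _
    let U : (Red.bc (fκ s) N).left.Opens := ⟨Z0 (Red.bc (fκ s) N), by
      rw [← GrpField.connectedComponent_unit]; exact isOpen_connectedComponent⟩
    let js : (Red.bc (fκ s) H) ⟶ (Red.bc (fκ s) N) := (Over.pullback (fκ s)).map j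
    let UO : Over (Spec (S.residueField s)) := Over.mk (U.ι ≫ (Red.bc (fκ s) N).hom)
    let g : (Over.map (fκ s)).obj UO ⟶ N := Over.homMk (U.ι ≫ pullback.fst N.hom (fκ s)) (by
      show (U.ι ≫ pullback.fst N.hom (fκ s)) ≫ N.hom = (U.ι ≫ pullback.snd N.hom (fκ s)) ≫ fκ s
      simp only [Category.assoc]
      exact congrArg (U.ι ≫ ·) pullback.condition)
    obtain ⟨l, hl⟩ := (h _ g).2 (by
      rintro _ ⟨t, rfl⟩
      show (U.ι ≫ pullback.fst N.hom (fκ s)) t ∈ _
      rw [Scheme.Hom.comp_apply]
      show U.ι t ∈ (pullback.fst N.hom (fκ s)).base ⁻¹' SGA3x.neutralSet N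
      rw [← NeutralSch.neutralSet_bc (G := N) (fκ s), NeutralSch.neutralSet_field]
      exact t.2)
    let l' : UO.left ⟶ pullback H.hom (fκ s) := pullback.lift l.left UO.hom (by
      exact Over.w l)
    have hl' : l' ≫ js.left = U.ι := pullback.hom_ext
      (by
        rw [Category.assoc, show js.left ≫ pullback.fst N.hom (fκ s) = pullback.fst H.hom (fκ s) ≫ j.left from
          pullback.lift_fst _ _ _, pullback.lift_fst_assoc]
        exact congrArg Over.Hom.left hl)
      (by
        rw [Category.assoc, show js.left ≫ pullback.snd N.hom (fκ s) = pullback.snd H.hom (fκ s) from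
          pullback.lift_snd _ _ _, pullback.lift_snd]
        rfl)
    haveI : Mono js := GrpPatchLib.mono_bc (fκ s) j
    haveI : Mono js.left := inferInstanceAs (Mono ((Over.forget _).map js))
    have hr : Set.range js.left ⊆ Set.range U.ι := by
      rw [Scheme.Opens.range_ι]
      show _ ⊆ Z0 (Red.bc (fκ s) N)
      rw [← GrpField.connectedComponent_unit]
      exact (isConnected_range js.left.continuous).isPreconnected.subset_connectedComponent ⟨unitPt (Red.bc (fκ s) H), by
        rw [GrpField.unitPt, GrpField.unitPt, ← Scheme.Hom.comp_apply, ← Over.comp_left, IsMonHom.one_hom]⟩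
    let m := IsOpenImmersion.lift U.ι js.left hr
    have hm : m ≫ U.ι = js.left := IsOpenImmersion.lift_fac _ _ _
    haveI : IsIso m := ⟨l', by rw [← cancel_mono js.left, Category.assoc, hl', hm, Category.id_comp],
      by rw [← cancel_mono U.ι, Category.assoc, hm, hl', Category.id_comp]⟩
    show IsOpenImmersion js.left
    rw [← hm]
    infer_instance

end Groth.Agent.S5393
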