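import Groth.Statements.S5395

set_option autoImplicit false
universe u
open CategoryTheory CategoryTheory.Limits MonoidalCategory CartesianMonoidalCategory MonObj GrpObj AlgebraicGeometry
open SGA3

namespace Groth.Agent.S5395

theorem exists_locallyClosed {X : Type u} [TopologicalSpace X] {E : Set X} (hE : ProCons.IsIndConstructible E) {x : X}
    (hx : x ∈ E) : ∃ L : Set X, IsLocallyClosed L ∧ x ∈ L ∧ L ⊆ E := by
  have key : ∀ {Y : Type u} [TopologicalSpace Y] (T : Set Y), Topology.IsConstructible T →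
      (∀ y ∈ T, ∃ L : Set Y, IsLocallyClosed L ∧ y ∈ L ∧ L ⊆ T) ∧
        ∀ y ∈ Tᶜ, ∃ L : Set Y, IsLocallyClosed L ∧ y ∈ L ∧ L ⊆ Tᶜ := by
    intro Y _ T hT
    induction hT using Topology.IsConstructible.empty_union_induction with
    | open_retrocompact U hU _ =>
      exact ⟨fun y hy => ⟨U, hU.isLocallyClosed, hy, subset_rfl⟩,
        fun y hy => ⟨Uᶜ, hU.isClosed_compl.isLocallyClosed, hy, subset_rfl⟩⟩
    | union s _ t _ hs ht =>
      refine ⟨?_, fun y hy => ?_⟩
      · rintro y (hy | hy)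
        · obtain ⟨L, h1, h2, h3⟩ := hs.1 y hy
          exact ⟨L, h1, h2, h3.trans Set.subset_union_left⟩
        · obtain ⟨L, h1, h2, h3⟩ := ht.1 y hy
          exact ⟨L, h1, h2, h3.trans Set.subset_union_right⟩
      · rw [Set.compl_union] at hy ⊢
        obtain ⟨L, h1, h2, h3⟩ := hs.2 y hy.1
        obtain ⟨M, k1, k2, k3⟩ := ht.2 y hy.2
        exact ⟨L ∩ M, h1.inter k1, ⟨h2, k2⟩, Set.inter_subset_inter h3 k3⟩
    | compl s _ hs => exact ⟨hs.2, by rw [compl_compl]; exact hs.1⟩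
  obtain ⟨U, hU, hxU, S, hS, hEq⟩ := hE x
  obtain ⟨T, hTS, hxT⟩ : ∃ T ∈ S, (⟨x, hxU⟩ : U) ∈ T := Set.mem_sUnion.1 (hEq ▸ hx)
  obtain ⟨V, hV, hVo, hc⟩ := hS T hTS ⟨x, hxU⟩
  obtain ⟨L, hL, hxL, hLT⟩ := (key _ hc).1 ⟨⟨x, hxU⟩, mem_of_mem_nhds hV⟩ hxT
  refine ⟨Subtype.val '' (Subtype.val '' L), ?_, ?_, ?_⟩
  · exact (hL.image Topology.IsInducing.subtypeVal (by simpa using hVo.isLocallyClosed)).image
      Topology.IsInducing.subtypeVal (by simpa using hU.isLocallyClosed)
  · exact ⟨⟨x, hxU⟩, ⟨⟨⟨x, hxU⟩, mem_of_mem_nhds hV⟩, hxL, rfl⟩, rfl⟩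
  · rintro _ ⟨_, ⟨z, hz, rfl⟩, rfl⟩
    have : z.1 ∈ ⋃₀ S := ⟨T, hTS, hLT hz⟩
    rw [← hEq] at this
    exact this


/-- Let k be an algebraically closed field, G a group scheme locally of finite type over k, and A, B two
ind-constructible subsets of G. Let A·B be the image under the multiplication of the set of points
of G ×_k G whose two projections lie in A and B. Then every closed point z of G lying in A·B is the
product of a closed point of G ×_k G whose two projections lie in A and B (and are then closed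
points): the rational points of A·B are the products of rational points of A and of B. -/
theorem result (k : Type u) [Field k] [IsAlgClosed k] (G : Over (Spec (CommRingCat.of k))) [GrpObj G]
    [LocallyOfFiniteType G.hom] (A B : Set G.left) (hA : ProCons.IsIndConstructible A) (hB : ProCons.IsIndConstructible B)
    (z : G.left) (hz : IsClosed ({z} : Set G.left))
    (hzAB : z ∈ μ[G].left.base '' {w : ↥(G ⊗ G).left | (fst G G).left.base w ∈ A ∧ (snd G G).left.base w ∈ B}) :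
    ∃ w : ↥(G ⊗ G).left, IsClosed ({w} : Set ↥(G ⊗ G).left) ∧ (fst G G).left.base w ∈ A ∧ (snd G G).left.base w ∈ B ∧
      μ[G].left.base w = z := by
  obtain ⟨w, ⟨hwA, hwB⟩, hwz⟩ := hzAB
  obtain ⟨LA, hLA, hwLA, hA'⟩ := exists_locallyClosed hA hwA
  obtain ⟨LB, hLB, hwLB, hB'⟩ := exists_locallyClosed hB hwB
  haveI : LocallyOfFiniteType (G ⊗ G).hom := by
    show LocallyOfFiniteType (pullback.fst G.hom G.hom ≫ G.hom)
    infer_instance
  haveI : JacobsonSpace (G ⊗ G).left := LocallyOfFiniteType.jacobsonSpace (G ⊗ G).hom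
  have hZ : IsLocallyClosed ((fst G G).left.base ⁻¹' LA ∩ (snd G G).left.base ⁻¹' LB ∩ μ[G].left.base ⁻¹' {z}) :=
    ((hLA.preimage (fst G G).left.continuous).inter (hLB.preimage (snd G G).left.continuous)).inter
      (hz.preimage μ[G].left.continuous).isLocallyClosed
  obtain ⟨v, ⟨⟨hv1, hv2⟩, hv3⟩, hv⟩ := nonempty_inter_closedPoints (X := ↥(G ⊗ G).left)
    (Z := (fst G G).left.base ⁻¹' LA ∩ (snd G G).left.base ⁻¹' LB ∩ μ[G].left.base ⁻¹' {z}) ⟨w, ⟨hwLA, hwLB⟩, hwz⟩ hZ
  exact ⟨v, hv, hA' hv1, hB' hv2, hv3⟩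

end Groth.Agent.S5395
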