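import Groth.Statements.S5398
import Groth.Agent.CartierRelLib.Main
import Groth.Agent.S1937
import Groth.Agent.FinCovLib.Cover
import Groth.Agent.FinCovLib.Sec
import Groth.Agent.SmDefLib.Van
import Groth.Agent.CohCmpLib.HomLift
-- import your own Groth.Agent.* helpers here

set_option autoImplicit false
set_option maxHeartbeats 2000000
set_option backward.isDefEq.respectTransparency false
universe u
open CategoryTheory CategoryTheory.Limits MonoidalCategory CartesianMonoidalCategory MonObj GrpObj AlgebraicGeometry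
open SGA3

namespace Groth.Agent.S5398


open CategoryTheory MonoidalCategory MonObj AlgebraicGeometry

namespace Groth.Agent.S5398Aux

theorem fwd {S X : Scheme.{u}} (f : X ⟶ S) [QuasiSeparated f] {Z : Scheme.{u}} (e : Z ⟶ X) (W : X.Opens)
    (he : ∀ z, e.base z ∈ W) [Smooth (W.ι ≫ f)] :
    FlatMod.IsFinLocFree ((Scheme.Modules.pullback e).obj (Omega.sheaf f)) := by
  have hd : OmegaSh.IsUniversal (OmegaSh.dOmega f) := OmegaAffLib.isUniversal_dOmega
  haveI := OmegaAffLib.isQCoh_of_isUniversal hd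
  refine CohCmpLib.isFinLocFree_of_frames fun z => ?_
  obtain ⟨V, hV, U, hU, hx, h1, hss⟩ := Smooth.exists_isStandardSmooth (W.ι ≫ f) ⟨e.base z, he z⟩
  have h2 : W.ι ''ᵁ U ≤ f ⁻¹ᵁ V := by
    rintro _ ⟨w, hw, rfl⟩
    exact h1 hw
  have hU' : IsAffineOpen (W.ι ''ᵁ U) := hU.image_of_isOpenImmersion W.ι
  have hss' : (f.appLE V (W.ι ''ᵁ U) h2).hom.IsStandardSmooth := by
    have h3 : (W.ι ≫ f).appLE V U h1 = f.appLE V (W.ι ''ᵁ U) h2 ≫ (W.ι.appIso U).hom := by
      rw [Scheme.Hom.appIso_hom', Scheme.Hom.appLE_comp_appLE]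
    rw [h3] at hss
    exact (RingHom.isStandardSmooth_respectsIso.cancel_right_isIso _ _).1 hss
  algebraize [(f.appLE V (W.ι ''ᵁ U) h2).hom]
  haveI : Algebra.IsStandardSmooth Γ(S, V) Γ(X, W.ι ''ᵁ U) := hss'
  haveI : Algebra.FiniteType Γ(S, V) Γ(X, W.ι ''ᵁ U) := inferInstance
  obtain ⟨φ, -⟩ := OmegaAffLib.exists_equiv hd hV hU' h2
  let b := (Module.Free.chooseBasis Γ(X, W.ι ''ᵁ U) (KaehlerDifferential Γ(S, V) Γ(X, W.ι ''ᵁ U))).map φ
  haveI : Fintype (Module.Free.ChooseBasisIndex Γ(X, W.ι ''ᵁ U) (KaehlerDifferential Γ(S, V) Γ(X, W.ι ''ᵁ U))) :=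
    Fintype.ofFinite _
  refine ⟨e ⁻¹ᵁ (W.ι ''ᵁ U), _, _, ?_,
    CohCmpLib.isFrame_puSec e (FinCovLib.isFrame_of_affine_basis hU' (b.reindex (Fintype.equivFin _)))⟩
  exact ⟨⟨e.base z, he z⟩, hx, rfl⟩

theorem isFinLocFree_of_iso {X : Scheme.{u}} {M M' : X.Modules} (φ : M ≅ M') (h : FlatMod.IsFinLocFree M) :
    FlatMod.IsFinLocFree M' := CohCmpLib.isFinLocFree_of_frames fun x => by
  obtain ⟨U, n, e, hx, he⟩ := ProjFormLib.exists_frame h x
  exact ⟨U, n, _, hx, he.map φ⟩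

theorem isUnit_natCast {S : Scheme.{u}} (hS : ∀ x : S, CharZero (S.residueField x)) (V : S.Opens) (n : ℕ)
    (hn : n ≠ 0) : IsUnit ((n : Γ(S, V))) := by
  refine S.toLocallyRingedSpace.toRingedSpace.isUnit_of_isUnit_germ V _ fun x hx => ?_
  have h : (S.presheaf.germ V x hx) (n : Γ(S, V)) = (n : S.presheaf.stalk x) := map_natCast _ n
  change IsUnit ((S.presheaf.germ V x hx) (n : Γ(S, V)))
  rw [h]
  by_contra hu
  have h0 : IsLocalRing.residue (S.presheaf.stalk x) (n : S.presheaf.stalk x) = 0 :=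
    (IsLocalRing.residue_eq_zero_iff _).2 hu
  rw [map_natCast] at h0
  haveI : CharZero (IsLocalRing.ResidueField (S.presheaf.stalk x)) := hS x
  exact hn (Nat.cast_eq_zero.1 h0)

set_option maxHeartbeats 1000000 in
theorem mem_smoothLocus {S X : Scheme.{u}} (hS : ∀ x : S, CharZero (S.residueField x)) (f : X ⟶ S)
    [QuasiSeparated f] (η' : S ⟶ X) (hη : η' ≫ f = 𝟙 S) (W : X.Opens) [LocallyOfFinitePresentation (W.ι ≫ f)]
    (hW : ∀ z, η'.base z ∈ W) (hΩ : FlatMod.IsFinLocFree (Omega.sheaf f)) (z : S) :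
    (⟨η'.base z, hW z⟩ : (W : Scheme.{u})) ∈ (W.ι ≫ f).smoothLocus := by
  have hd : OmegaSh.IsUniversal (OmegaSh.dOmega f) := OmegaAffLib.isUniversal_dOmega
  haveI := OmegaAffLib.isQCoh_of_isUniversal hd
  obtain ⟨U1, n, e, hx1, he⟩ := ProjFormLib.exists_frame hΩ (η'.base z)
  obtain ⟨V0, hV0, hz0, -⟩ := exists_isAffineOpen_mem_and_subset (x := z) (U := ⊤) (Set.mem_univ _)
  have hfz : f.base (η'.base z) = z := congr($(hη).base z)
  obtain ⟨U, hU, hxU, hUle⟩ := exists_isAffineOpen_mem_and_subset (x := η'.base z) (U := U1 ⊓ f ⁻¹ᵁ V0 ⊓ W)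
    ⟨⟨hx1, (show f.base (η'.base z) ∈ V0 by rw [hfz]; exact hz0)⟩, hW z⟩
  have hUV0 : U ≤ f ⁻¹ᵁ V0 := fun y hy => (hUle hy).1.2
  obtain ⟨a, haU, hza⟩ := hV0.exists_basicOpen_le (V := η' ⁻¹ᵁ U) ⟨z, hxU⟩ hz0
  let V := S.basicOpen a
  let U' := X.basicOpen (f.appLE V0 U hUV0 a)
  have hV : IsAffineOpen V := hV0.basicOpen a
  have hU' : IsAffineOpen U' := hU.basicOpen _
  have hU'e : U' = U ⊓ f ⁻¹ᵁ V := Scheme.basicOpen_appLE _ _ _ _ _
  have hU'V : U' ≤ f ⁻¹ᵁ V := hU'e ▸ inf_le_right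
  have hU'U : U' ≤ U := X.basicOpen_le _
  have hVU' : V ≤ η' ⁻¹ᵁ U' := fun y hy => by
    change η'.base y ∈ U'
    rw [hU'e]
    exact ⟨haU hy, show f.base (η'.base y) ∈ V by rw [show f.base (η'.base y) = y from congr($(hη).base y)]; exact hy⟩
  have hxU' : η'.base z ∈ U' := hVU' hza
  -- the algebra
  let ψ := f.appLE V U' hU'V
  let σ := η'.appLE U' V hVU'
  have hσψ : ψ ≫ σ = 𝟙 Γ(S, V) := by
    have key : ∀ (g : S ⟶ S), g = 𝟙 S → ∀ h, g.appLE V V h = 𝟙 Γ(S, V) := by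
      rintro g rfl h
      simp [Scheme.Hom.appLE]
      exact S.presheaf.map_id _
    rw [Scheme.Hom.appLE_comp_appLE]
    exact key _ hη _
  let := ψ.hom.toAlgebra
  let σ' : Γ(X, U') →ₐ[Γ(S, V)] Γ(S, V) :=
    { σ.hom with commutes' := fun r => congr($(hσψ).hom r) }
  have hU'W : U' ≤ W.ι.opensRange := by
    rw [Scheme.Opens.opensRange_ι]
    exact fun y hy => (hUle (hU'U hy)).2
  let U'' := W.ι ⁻¹ᵁ U'
  have hU'' : IsAffineOpen U'' := hU'.preimage_of_isOpenImmersion W.ι hU'W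
  have hV'' : U'' ≤ (W.ι ≫ f) ⁻¹ᵁ V := fun y hy => hU'V hy
  haveI : IsIso (W.ι.appLE U' U'' le_rfl) := by
    rw [Scheme.Hom.appLE, show ((homOfLE (le_refl U'')).op : Opposite.op U'' ⟶ Opposite.op U'') = 𝟙 _ from Subsingleton.elim _ _,
      CategoryTheory.Functor.map_id, Category.comp_id]
    exact W.ι.isIso_app U' hU'W
  haveI : Algebra.FinitePresentation Γ(S, V) Γ(X, U') := by
    have h1 := (W.ι ≫ f).finitePresentation_appLE hV hU'' hV''
    rw [← Scheme.Hom.appLE_comp_appLE W.ι f V U' U'' hU'V le_rfl] at h1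
    exact (RingHom.finitePresentation_respectsIso.cancel_right_isIso _ _).1 h1
  obtain ⟨φ, -⟩ := OmegaAffLib.exists_equiv hd hV hU' hU'V
  have hle : U' ≤ U1 := fun y hy => (hUle (hU'U hy)).1.1
  let L : (Fin n → Γ(X, U')) →ₗ[Γ(X, U')] Γ(Omega.sheaf f, U') :=
    Fintype.linearCombination Γ(X, U') fun i => ProjFormLib.res (Omega.sheaf f) hle (e i)
  have hL : Function.Bijective L := FinCovLib.frame_bijective' he hU' hle
  haveI : Module.Projective Γ(X, U') (KaehlerDifferential Γ(S, V) Γ(X, U')) :=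
    Module.Projective.of_equiv ((LinearEquiv.ofBijective L hL).trans φ.symm)
  let q := (hU'.primeIdealOf ⟨η'.base z, hxU'⟩).asIdeal
  have hker : RingHom.ker σ' ≤ q := by
    intro b hb
    by_contra hbq
    have hxb : η'.base z ∈ X.basicOpen b := by
      have hfs : hU'.fromSpec (hU'.primeIdealOf ⟨η'.base z, hxU'⟩) = η'.base z := hU'.fromSpec_primeIdealOf _
      rw [← hfs]
      change hU'.primeIdealOf ⟨η'.base z, hxU'⟩ ∈ hU'.fromSpec ⁻¹ᵁ X.basicOpen b
      rw [hU'.fromSpec_preimage_basicOpen]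
      exact hbq
    have hz' : z ∈ S.basicOpen (σ b) := by
      rw [Scheme.basicOpen_appLE]
      exact ⟨hza, hxb⟩
    rw [show σ b = 0 from hb, Scheme.basicOpen_zero] at hz'
    exact hz'
  have hsm : Algebra.IsSmoothAt Γ(S, V) q :=
    CartierRelLib.isSmoothAt_of_section σ' (isUnit_natCast hS V) q hker
  have hst : (f.stalkMap (η'.base z)).hom.FormallySmooth :=
    (formallySmooth_stalkMap_iff (f := f) V hV U' hU' hU'V hxU').2 hsm
  rw [Scheme.Hom.mem_smoothLocus, Scheme.Hom.stalkMap_comp]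
  exact RingHom.FormallySmooth.respectsIso.1 _
    (asIso (W.ι.stalkMap ⟨η'.base z, hW z⟩)).commRingCatIsoToRingEquiv hst

theorem bwd {S X : Scheme.{u}} (hS : ∀ x : S, CharZero (S.residueField x)) (f : X ⟶ S)
    [QuasiSeparated f] (η' : S ⟶ X) (hη : η' ≫ f = 𝟙 S) (W : X.Opens) [LocallyOfFinitePresentation (W.ι ≫ f)]
    (hW : ∀ z, η'.base z ∈ W) (hΩ : FlatMod.IsFinLocFree (Omega.sheaf f)) :
    ∃ W' : X.Opens, (∀ z, η'.base z ∈ W') ∧ Smooth (W'.ι ≫ f) := by
  let L := (W.ι ≫ f).smoothLocus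
  refine ⟨W.ι ''ᵁ L, fun z => ⟨⟨η'.base z, hW z⟩, mem_smoothLocus hS f η' hη W hW hΩ z, rfl⟩, ?_⟩
  have h1 : Smooth (L.ι ≫ W.ι ≫ f) := by
    rw [← Scheme.Hom.smoothLocus_eq_top_iff, ← Scheme.Hom.preimage_smoothLocus_eq]
    exact L.ι_preimage_self
  let θ := IsOpenImmersion.isoOfRangeEq (W.ι ''ᵁ L).ι (L.ι ≫ W.ι) (by
    rw [Scheme.Opens.range_ι, Scheme.Hom.comp_base]
    simp [Set.range_comp])
  have h2 : (W.ι ''ᵁ L).ι ≫ f = θ.hom ≫ L.ι ≫ W.ι ≫ f := by
    rw [← IsOpenImmersion.isoOfRangeEq_hom_fac (W.ι ''ᵁ L).ι (L.ι ≫ W.ι), Category.assoc, Category.assoc]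
  rw [h2]
  infer_instance

end Groth.Agent.S5398Aux


/-- Let S be a scheme all of whose residue fields have characteristic zero and G an S-group scheme which
is locally of finite presentation over S on some open containing the unit section ε. Then G is
smooth over S on some open containing the unit section if and only if the O_S-module ω_{G/S} =
ε^*(Ω¹_{G/S}) is finite locally free. (The published statement asks residue characteristic zero only
at the closed points of S; on a scheme with no closed point that condition is empty and the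
equivalence fails for the group of p-th roots of unity in characteristic p, while the Jacobian
criterion used in the proof needs every residue field of characteristic zero, so this row asks it at
every point. This row also assumes G quasi-separated over S, so that the diagonal used to define Ω¹
is quasi-compact.) -/
theorem result (S : Scheme.{u})
    (hS : ∀ x : S, CharZero (S.residueField x))
    (G : Over S) [GrpObj G] [QuasiSeparated G.hom]
    (hfp : ∃ W : G.left.Opens, (∀ p : ↥(𝟙_ (Over S)).left, η[G].left.base p ∈ W) ∧ LocallyOfFinitePresentation (W.ι ≫ G.hom)) :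
    (∃ W : G.left.Opens, (∀ p : ↥(𝟙_ (Over S)).left, η[G].left.base p ∈ W) ∧ Smooth (W.ι ≫ G.hom)) ↔
      FlatMod.IsFinLocFree ((Scheme.Modules.pullback η[G].left).obj (Omega.sheaf G.hom)) := by
  obtain ⟨W, hW, hlfp⟩ := hfp
  have hη : η[G].left ≫ G.hom = 𝟙 S := Over.w η[G]
  constructor
  · rintro ⟨W', hW', hsm⟩
    haveI := hsm
    exact Groth.Agent.S5398Aux.fwd G.hom η[G].left W' hW'
  · intro hω
    obtain ⟨φ⟩ := (Groth.Agent.S1937.result S G).1
    let η' : S ⟶ G.left := η[G].left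
    let C : S.Modules := Omega.conormal η'
    let θ : (Scheme.Modules.pullback η').obj (Omega.sheaf G.hom) ≅ C :=
      (Scheme.Modules.pullback η').mapIso φ ≪≫ (Scheme.Modules.pullbackComp η' G.hom).app C ≪≫
        (Scheme.Modules.pullbackCongr hη).app C ≪≫ (Scheme.Modules.pullbackId S).app C
    have hC : FlatMod.IsFinLocFree C := Groth.Agent.S5398Aux.isFinLocFree_of_iso θ hω
    have hΩ : FlatMod.IsFinLocFree (Omega.sheaf G.hom) :=
      Groth.Agent.S5398Aux.isFinLocFree_of_iso φ.symm (CohCmpLib.isFinLocFree_pb G.hom hC)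
    haveI := hlfp
    exact Groth.Agent.S5398Aux.bwd hS G.hom η' hη W hW hΩ

end Groth.Agent.S5398
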