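import Groth.Statements.S5400
import Groth.Agent.NeutLimLib.Basic
import Groth.Agent.S5322
import Groth.Agent.S5325
import Groth.Agent.S5326

set_option autoImplicit false
universe u
open CategoryTheory CategoryTheory.Limits MonoidalCategory CartesianMonoidalCategory MonObj GrpObj AlgebraicGeometry
open SGA3

namespace Groth.Agent.S5400

theorem representable_iff_isOpen {S : Scheme.{u}} (G : Over S) [GrpObj G] [LocallyOfFinitePresentation G.hom] :
    (∃ (G0 : Over S) (i0 : G0 ⟶ G), Mono i0 ∧
      ∀ (T : Over S) (g : T ⟶ G), (∃ z : T ⟶ G0, z ≫ i0 = g) ↔ Set.range g.left.base ⊆ SGA3x.neutralSet G) ↔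
    IsOpen (SGA3x.neutralSet G) := by
  constructor
  · rintro ⟨G0, i0, hi, h⟩
    haveI := hi
    haveI := (Groth.Agent.S5326.result S G G0 i0 h).1
    suffices e : SGA3x.neutralSet G = Set.range i0.left.base by rw [e]; exact i0.left.isOpenEmbedding.isOpen_range
    refine Set.Subset.antisymm (fun x hx => ?_) ((h G0 i0).mp ⟨CategoryStruct.id G0, Category.id_comp _⟩)
    let g : Over.mk (G.left.fromSpecResidueField x ≫ G.hom) ⟶ G := Over.homMk (G.left.fromSpecResidueField x) rfl
    obtain ⟨z, hz⟩ := (h _ g).mpr (by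
      show Set.range (G.left.fromSpecResidueField x).base ⊆ _
      rw [Scheme.range_fromSpecResidueField]; exact Set.singleton_subset_iff.mpr hx)
    obtain ⟨y, hy⟩ := (Scheme.range_fromSpecResidueField x).ge (Set.mem_singleton x)
    exact ⟨z.left y, (congrArg (fun k => k.left.base y) hz).trans hy⟩
  · intro ho
    let U : G.left.Opens := ⟨_, ho⟩
    let i0 : Over.mk (U.ι ≫ G.hom) ⟶ G := Over.homMk U.ι rfl
    haveI : Mono i0.left := inferInstanceAs (Mono U.ι)
    refine ⟨_, i0, Over.mono_of_mono_left i0, fun T g => ⟨?_, fun hg => ?_⟩⟩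
    · rintro ⟨z, rfl⟩ _ ⟨y, rfl⟩
      exact (z.left y).2
    · have hg' : Set.range g.left.base ⊆ Set.range U.ι.base := by simpa [U] using hg
      exact ⟨Over.homMk (IsOpenImmersion.lift U.ι g.left hg') (by
        show IsOpenImmersion.lift U.ι g.left hg' ≫ U.ι ≫ G.hom = _
        rw [IsOpenImmersion.lift_fac_assoc]; exact Over.w g), Over.OverMorphism.ext (IsOpenImmersion.lift_fac _ _ _)⟩


/-- Let S be the limit of a cofiltered system (S_i) of quasi-compact quasi-separated schemes with affine
transition morphisms, j an index and G_j an S_j-group scheme of finite presentation; put G = G_j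
×_{S_j} S. Then the neutral component subfunctor of G is representable (there is a monomorphism G⁰ →
G through which a point factors exactly when its image lies in the union of the neutral components
of the fibres) if and only if there is an index i over j such that the neutral component of G_j
×_{S_j} S_i is representable. -/
theorem result {I : Type u} [SmallCategory I] [IsCofiltered I]
    (D : I ⥤ Scheme.{u}) (c : Limits.Cone D) (hc : Limits.IsLimit c)
    [∀ (i i' : I) (f : i ⟶ i'), IsAffineHom (D.map f)] [∀ i, CompactSpace (D.obj i)] [∀ i, QuasiSeparatedSpace (D.obj i)]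
    (j : I) (Gj : Over (D.obj j)) [GrpObj Gj]
    [LocallyOfFinitePresentation Gj.hom] [QuasiCompact Gj.hom] [QuasiSeparated Gj.hom] :
    (∃ (G0 : Over c.pt) (i0 : G0 ⟶ Red.bc (c.π.app j) Gj), Mono i0 ∧
      ∀ (T : Over c.pt) (g : T ⟶ Red.bc (c.π.app j) Gj), (∃ z : T ⟶ G0, z ≫ i0 = g) ↔
        Set.range g.left.base ⊆ SGA3x.neutralSet (Red.bc (c.π.app j) Gj)) ↔
    ∃ (i : I) (f : i ⟶ j) (G0 : Over (D.obj i)) (i0 : G0 ⟶ Red.bc (D.map f) Gj), Mono i0 ∧
      ∀ (T : Over (D.obj i)) (g : T ⟶ Red.bc (D.map f) Gj), (∃ z : T ⟶ G0, z ≫ i0 = g) ↔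
        Set.range g.left.base ⊆ SGA3x.neutralSet (Red.bc (D.map f) Gj) := by
  haveI : ∀ {T : Scheme.{u}} (g : T ⟶ D.obj j), LocallyOfFinitePresentation (Red.bc g Gj).hom :=
    fun g => MorphismProperty.pullback_snd _ _ ‹_›
  have key : ∀ {T : Scheme.{u}} (g : T ⟶ D.obj j),
      (∃ (G0 : Over T) (i0 : G0 ⟶ Red.bc g Gj), Mono i0 ∧
        ∀ (T' : Over T) (h : T' ⟶ Red.bc g Gj), (∃ z : T' ⟶ G0, z ≫ i0 = h) ↔
          Set.range h.left.base ⊆ SGA3x.neutralSet (Red.bc g Gj)) ↔
      IsOpen ((Limits.pullback.fst Gj.hom g).base ⁻¹' SGA3x.neutralSet Gj) := fun g => by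
    rw [representable_iff_isOpen, Groth.Agent.S5322.result]
  refine (key _).trans (Iff.trans ?_ (exists_congr fun i => exists_congr fun f => (key (D.map f)).symm))
  haveI : CompactSpace Gj.left := QuasiCompact.compactSpace_of_compactSpace Gj.hom
  haveI : QuasiSeparatedSpace Gj.left := quasiSeparatedSpace_of_quasiSeparated Gj.hom
  let A := RichLib.LimBC.pb (RichLib.LimBC.ofStage D c hc j) Gj.hom
  constructor
  · intro h
    obtain ⟨φ, hφ⟩ := NeutLimLib.exists_isOpen_preimage A
      ((Groth.Agent.S5325.result _ Gj).2.1 inferInstance inferInstance inferInstance) h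
    exact ⟨φ.left, φ.hom, hφ⟩
  · rintro ⟨i, f, h⟩
    have e : (RichLib.LimBC.pbπ (RichLib.LimBC.ofStage D c hc j) Gj.hom (Over.mk f)) ≫
        Limits.pullback.fst Gj.hom (D.map f) = Limits.pullback.fst Gj.hom (c.π.app j) :=
      RichLib.LimBC.pbπ_fst (RichLib.LimBC.ofStage D c hc j) Gj.hom (Over.mk f)
    have h' := h.preimage (RichLib.LimBC.pbπ (RichLib.LimBC.ofStage D c hc j) Gj.hom (Over.mk f)).continuous
    rw [← e]
    exact h'

end Groth.Agent.S5400
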