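import Groth.Statements.S5403
import Groth.Agent.GrpFieldLib.Preimage
open Groth.Agent.GrpField Groth.Agent.HomogDense
-- import your own Groth.Agent.* helpers here

set_option autoImplicit false
universe u
open CategoryTheory CategoryTheory.Limits MonoidalCategory CartesianMonoidalCategory MonObj GrpObj AlgebraicGeometry
open SGA3

namespace Groth.Agent.S5403

/-- Let G be a group scheme over a field k (not assumed of finite type) acting on a quasi-separated
k-scheme X so that G ×_k X → X ×_k X, (g, x) ↦ (gx, x), is surjective, and let x be a k-rational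
point of X and C the connected component of X containing x. Then the orbit morphism g ↦ g·x maps the
irreducible component of G containing the unit point (the underlying set of the neutral component
G⁰) onto C, and for every field extension K of k the inverse image of C in X ⊗_k K is irreducible. -/
theorem result (k : Type u) [Field k] (G X : Over (Spec (CommRingCat.of k)))
    [GrpObj G] [QuasiSeparatedSpace X.left] (a : AlgGrp.Action G X) (hΦ : Surjective (lift a.act (snd G X)).left)
    (x : 𝟙_ (Over (Spec (CommRingCat.of k))) ⟶ X) (pt : ↥(𝟙_ (Over (Spec (CommRingCat.of k)))).left)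
    (C0 : Set G.left) (hC0 : C0 ∈ irreducibleComponents ↥G.left) (he : η[G].left.base pt ∈ C0) :
    (a.orbitMap x).left.base '' C0 = connectedComponent (x.left.base pt) ∧
    ∀ (K : Type u) [Field K] [Algebra k K],
      IsIrreducible ((pullback.fst X.hom (Spec.map (CommRingCat.ofHom (algebraMap k K)))).base ⁻¹' connectedComponent (x.left.base pt)) := by
  haveI := quasiSeparatedSpace_grp (G := G)
  haveI := (fieldPt_one (k := k)).subsingleton
  have hCZ : C0 = Z0 G := by
    have hpt : η[G].left.base pt = unitPt G := congrArg _ (Subsingleton.elim _ _)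
    obtain ⟨z, hz, hze, hZ⟩ := exists_Z0_gen G
    exact (uniqueMax_iff.1 (uniqAt_grp (unitPt G))).unique ⟨hC0, hpt ▸ he⟩ ⟨Z0_mem_components G, unitPt_mem_Z0 G⟩
  have hopt : (a.orbitMap x).left.base (η[G].left.base pt) = x.left.base pt := by
    rw [← Scheme.Hom.comp_apply, ← Over.comp_left]
    have e1 : η[G] ≫ a.orbitMap x = x := by
      have h1 : (1 : 𝟙_ (Over (Spec (CommRingCat.of k))) ⟶ G) = η[G] := by
        rw [Hom.one_def, toUnit_unit, Category.id_comp]
      have : η[G] ≫ a.orbitMap x = lift η[G] x ≫ a.act := by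
        rw [AlgGrp.Action.orbitMap, comp_lift_assoc, Category.comp_id, ← Category.assoc, toUnit_unique (η[G] ≫ toUnit G) (𝟙 _), Category.id_comp]
      rw [this, ← h1, GrpShear.lift_one_act]
    rw [e1]
  obtain ⟨ξ, hξ, hξx⟩ := exists_isMax_specializes (x.left.base pt)
  have hcc := connectedComponent_eq_closure a hΦ hξ hξx
  have hirr : ∀ (K : Type u) [Field K] [Algebra k K],
      IsIrreducible ((Limits.pullback.fst X.hom (Spec.map (CommRingCat.ofHom (algebraMap k K)))).base ⁻¹' connectedComponent (x.left.base pt)) := by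
    intro K _ _
    rw [hcc]
    exact isIrreducible_preimage_component a hΦ (fieldPt_mk (Spec.map (CommRingCat.ofHom (algebraMap k K)))) x pt
      (closure_mem_irreducibleComponents hξ) hξx.mem_closure
  refine ⟨Set.Subset.antisymm ?_ fun y hy => ?_, hirr⟩
  · exact ((hC0.1.image _ (a.orbitMap x).left.continuous.continuousOn).isConnected.isPreconnected).subset_connectedComponent
      ⟨_, he, hopt⟩
  rw [hcc] at hy
  obtain ⟨T, p, hT, hp⟩ := exists_geomPointAt y
  obtain ⟨θ, hθ, hθ'⟩ := GrpField.exists_top (G := G) hT.fieldPt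
  obtain ⟨q⟩ := hT.fieldPt.nonempty
  have hθe : θ ⤳ (lift (1 : T ⟶ G) (𝟙 T)).left q := (hθ' _).1 (fst_unit_sec (G := G) q ▸ unitPt_mem_Z0 G)
  obtain ⟨hζ, hζs⟩ := isMax_orb a hΦ hT (toUnit T ≫ x) q hθ hθe
  obtain ⟨hζ', hζ's⟩ := isMax_orb a hΦ hT p q hθ hθe
  let O₁ := orb a (toUnit T ≫ x)
  let O₂ := orb a p
  have heq : O₁.left θ = O₂.left θ := by
    haveI := flat_fst (X := X) T
    have hF := preimage_closure_eq a hΦ hT x pt hξ hξx
    refine eq_of_isMax_mem hF hζ hζ' ?_ ?_
    · have h := hζs.map (fst X T).left.continuous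
      rw [show (fst X T).left ((lift (toUnit T ≫ x) (𝟙 T)).left q) = x.left pt by
        rw [← Scheme.Hom.comp_apply, ← Over.comp_left, lift_fst, Over.comp_left, Scheme.Hom.comp_apply,
          Subsingleton.elim ((toUnit T).left q) pt]] at h
      show (fst X T).left (O₁.left θ) ∈ closure {ξ}
      rw [uniqAt a hΦ _ _ _ (isMax_map _ hζ) hξ h hξx]
      exact subset_closure rfl
    · have h := hζ's.map (fst X T).left.continuous
      rw [← Scheme.Hom.comp_apply (lift p (𝟙 T)).left, ← Over.comp_left, lift_fst, hp] at h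
      show (fst X T).left (O₂.left θ) ∈ closure {ξ}
      rw [uniqAt a hΦ _ _ _ (isMax_map _ hζ') hξ h (specializes_iff_mem_closure.2 hy)]
      exact subset_closure rfl
  obtain ⟨v, hv1, hv2⟩ := Scheme.Pullback.exists_preimage_pullback (f := O₁.left) (g := O₂.left) θ θ heq
  let P : Over (Spec (CommRingCat.of k)) := Over.mk (Limits.pullback.fst O₁.left O₂.left ≫ (G ⊗ T).hom)
  let P₁ : P ⟶ G ⊗ T := Over.homMk (Limits.pullback.fst O₁.left O₂.left) rfl
  let P₂ : P ⟶ G ⊗ T := Over.homMk (Limits.pullback.snd O₁.left O₂.left) (by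
    show _ ≫ (G ⊗ T).hom = _ ≫ (G ⊗ T).hom
    exact (congrArg (Limits.pullback.snd O₁.left O₂.left ≫ ·) (Over.w O₂).symm).trans
      ((Limits.pullback.condition_assoc _).symm.trans (congrArg (Limits.pullback.fst O₁.left O₂.left ≫ ·) (Over.w O₁))))
  have hP : P₁ ≫ O₁ = P₂ ≫ O₂ := Over.OverMorphism.ext Limits.pullback.condition
  obtain ⟨T', r, hT', hr⟩ := exists_geomPointAt (X := P) v
  obtain ⟨q'⟩ := hT'.fieldPt.nonempty
  let g₁ : T' ⟶ G := r ≫ P₁ ≫ fst G T
  let g₂ : T' ⟶ G := r ≫ P₂ ≫ fst G T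
  let y' : T' ⟶ X := r ≫ P₂ ≫ snd G T ≫ p
  have hact : lift g₁ (toUnit T' ≫ x) ≫ a.act = lift g₂ y' ≫ a.act := by
    have h := congrArg (fun m => r ≫ m ≫ fst X T) hP
    simpa [O₁, O₂, GrpField.orb, g₁, g₂, y', comp_lift_assoc] using h
  have hmem : (g₂⁻¹ * g₁).left q' ∈ Z0 G := by
    refine mul_mem_Z0 _ _ _ (inv_mem_Z0 _ _ ?_) ?_
    · rw [Over.comp_left, Scheme.Hom.comp_apply, hr, Over.comp_left, Scheme.Hom.comp_apply]
      show (fst G T).left (Limits.pullback.snd O₁.left O₂.left v) ∈ Z0 G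
      rw [hv2]
      exact (hθ' θ).2 specializes_rfl
    · rw [Over.comp_left, Scheme.Hom.comp_apply, hr, Over.comp_left, Scheme.Hom.comp_apply]
      show (fst G T).left (Limits.pullback.fst O₁.left O₂.left v) ∈ Z0 G
      rw [hv1]
      exact (hθ' θ).2 specializes_rfl
  refine ⟨_, hCZ ▸ hmem, ?_⟩
  haveI := hT.fieldPt.subsingleton
  rw [← Scheme.Hom.comp_apply, ← Over.comp_left]
  have e : (g₂⁻¹ * g₁) ≫ a.orbitMap x = y' := by
    have : (g₂⁻¹ * g₁) ≫ a.orbitMap x = lift g₂⁻¹ (lift g₁ (toUnit T' ≫ x) ≫ a.act) ≫ a.act := by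
      rw [← GrpShear.lift_mul_act]; simp [AlgGrp.Action.orbitMap, comp_lift_assoc]
    rw [this, hact, ← GrpShear.lift_mul_act, inv_mul_cancel, GrpShear.lift_one_act]
  rw [e]
  simp only [y', Over.comp_left, Scheme.Hom.comp_apply]
  rw [Subsingleton.elim ((snd G T).left _) q]
  exact hp q
end Groth.Agent.S5403
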