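import Groth.Statements.S5410
import Groth.Agent.RedKerLib.Normal

set_option autoImplicit false
set_option backward.isDefEq.respectTransparency false
set_option backward.isDefEq.respectTransparency.types false
set_option maxHeartbeats 1000000
set_option synthInstance.maxHeartbeats 400000
universe u
open CategoryTheory MonoidalCategory CartesianMonoidalCategory MonObj GrpObj AlgebraicGeometry CategoryTheory.Limits
open SGA3x

attribute [-instance] CategoryTheory.Hom.commGroup
namespace Groth.Agent.S5410

/-- Let G be an S-group scheme, smooth and of finite presentation over S, with affine connected fibres,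
whose centre j : Z → G is of multiplicative type (e.g. G of unipotent rank zero). Let k : K → G be a
closed normal subgroup scheme of G which is of finite presentation and quasi-finite over S. Then K
is finite over S. -/
theorem result (S : Scheme.{u}) (G : Over S) [GrpObj G] [Smooth G.hom] [QuasiCompact G.hom] [QuasiSeparated G.hom]
    (haff : ∀ s : S, IsAffine (pullback G.hom (S.fromSpecResidueField s)))
    (hconn : ∀ s : S, _root_.IsConnected (G.hom.base ⁻¹' {s}))
    (Z : Over S) [GrpObj Z] (j : Z ⟶ G) (hZ : Red.IsCentre j) (hZm : SGA3x.IsMultTypeFT Z)
    (K : Over S) [GrpObj K] (k : K ⟶ G) [IsMonHom k] [IsClosedImmersion k.left] (hKn : AlgGrp.IsNormalHom k)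
    [LocallyOfFinitePresentation K.hom] [QuasiCompact K.hom] [QuasiSeparated K.hom] [LocallyQuasiFinite K.hom] :
    IsFinite K.hom := by
  exact RedKer.isFinite_of_quasiFinite_normal hconn hZ hZm k hKn

end Groth.Agent.S5410
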