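import Groth.Statements.S5411
import Groth.Agent.RedKerLib.Trivial
import Groth.Agent.BorelLib.BaseChange
import Groth.Agent.BorelLib.RedBridge

set_option autoImplicit false
set_option backward.isDefEq.respectTransparency false
set_option backward.isDefEq.respectTransparency.types false
set_option maxHeartbeats 1000000
set_option synthInstance.maxHeartbeats 400000
universe u
open CategoryTheory MonoidalCategory CartesianMonoidalCategory MonObj GrpObj AlgebraicGeometry CategoryTheory.Limits
open SGA3x

attribute [-instance] CategoryTheory.Hom.commGroup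
namespace Groth.Agent.S5411

theorem hconn_bc {S : Scheme.{u}} {G : Over S} (hconn : ∀ s : S, _root_.IsConnected (G.hom.base ⁻¹' {s}))
    (U : S.Opens) (v : (U : Scheme.{u})) : _root_.IsConnected ((Red.bc U.ι G).hom.base ⁻¹' {v}) := by
  let π : (Red.bc U.ι G).left ⟶ G.left := pullback.fst G.hom U.ι
  haveI : IsOpenImmersion π := inferInstanceAs (IsOpenImmersion (pullback.fst G.hom U.ι))
  have himg : π.base '' ((Red.bc U.ι G).hom.base ⁻¹' {v}) = G.hom.base ⁻¹' {v.1} := by
    ext g
    constructor
    · rintro ⟨w, hw, rfl⟩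
      show G.hom (π w) = v.1
      refine (congrArg (fun f : (Red.bc U.ι G).left ⟶ S => f w) pullback.condition).trans ?_
      exact congrArg Subtype.val (hw : (Red.bc U.ι G).hom w = v)
    · intro hg
      obtain ⟨w, hw, hw'⟩ := Scheme.Pullback.exists_preimage_pullback (f := G.hom) (g := U.ι) g v hg
      exact ⟨w, hw', hw⟩
  refine ⟨?_, π.isOpenEmbedding.isInducing.isPreconnected_image.1 (himg ▸ (hconn v.1).2)⟩
  have hne := (hconn v.1).1
  rw [← himg] at hne
  exact hne.of_image

theorem finite_nhd {S : Scheme.{u}} {G Z K : Over S} [GrpObj G] [GrpObj Z] [GrpObj K] [Smooth G.hom]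
    (hconn : ∀ s : S, _root_.IsConnected (G.hom.base ⁻¹' {s})) {j : Z ⟶ G} (hZ : Red.IsCentre j)
    (hZm : SGA3x.IsMultTypeFT Z) (k : K ⟶ G) [IsMonHom k] [IsClosedImmersion k.left]
    (hKn : AlgGrp.IsNormalHom k) [LocallyOfFiniteType K.hom] [QuasiCompact K.hom] :
    ∃ U : S.Opens, IsFinite (Red.bc U.ι K).hom ∧
      ∀ s : S, IsFinite (Red.bc (S.fromSpecResidueField s) K).hom → s ∈ U := by
  obtain ⟨U, hqf, hU⟩ := RedKer.exists_quasiFinite_open (K := K)
  refine ⟨U, ?_, hU⟩
  haveI := hqf
  haveI : Smooth (Red.bc U.ι G).hom := MorphismProperty.pullback_snd (P := @Smooth) _ _ inferInstance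
  haveI : QuasiCompact (Red.bc U.ι K).hom := MorphismProperty.pullback_snd (P := @QuasiCompact) _ _ inferInstance
  haveI : IsMonHom (M := Red.bc U.ι K) (N := Red.bc U.ι G) ((Over.pullback U.ι).map k) :=
    DiagRep.isMonHom_bc_map U.ι k
  haveI : IsClosedImmersion ((Over.pullback U.ι).map k).left := BorelLib.isClosedImmersion_bc _ k
  have hc := BorelLib.isCentralizerOf_bc U.ι (hZ : Red.IsCentralizerOf (𝟙 G) j)
  rw [CategoryTheory.Functor.map_id] at hc
  exact RedKer.isFinite_of_quasiFinite_normal (G := Red.bc U.ι G) (Z := Red.bc U.ι Z) (hconn_bc hconn U) hc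
    (DescHom.isMultTypeFT_bc hZm U.ι) ((Over.pullback U.ι).map k) (BorelLib.isNormalHom_bc U.ι k hKn)


/-- Let G be an S-group scheme, smooth and of finite presentation over S, with affine connected fibres,
whose centre j : Z → G is of multiplicative type; let k : K → G be a closed normal subgroup scheme
of G, of finite presentation over S, and s a point of S. If K_s is finite over κ(s), there is an
open neighbourhood U of s over which K is finite; if K_s is the trivial group, there is an open
neighbourhood U of s over which K is the trivial group. -/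
theorem result (S : Scheme.{u}) (G : Over S) [GrpObj G] [Smooth G.hom] [QuasiCompact G.hom] [QuasiSeparated G.hom]
    (haff : ∀ s : S, IsAffine (pullback G.hom (S.fromSpecResidueField s)))
    (hconn : ∀ s : S, _root_.IsConnected (G.hom.base ⁻¹' {s}))
    (Z : Over S) [GrpObj Z] (j : Z ⟶ G) (hZ : Red.IsCentre j) (hZm : SGA3x.IsMultTypeFT Z)
    (K : Over S) [GrpObj K] (k : K ⟶ G) [IsMonHom k] [IsClosedImmersion k.left] (hKn : AlgGrp.IsNormalHom k)
    [LocallyOfFinitePresentation K.hom] [QuasiCompact K.hom] [QuasiSeparated K.hom] (s : S) :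
    (IsFinite (Red.bc (S.fromSpecResidueField s) K).hom →
      ∃ U : S.Opens, s ∈ U ∧ IsFinite (Red.bc U.ι K).hom) ∧
    (Red.IsTrivialGrp (Red.bc (S.fromSpecResidueField s) K) →
      ∃ U : S.Opens, s ∈ U ∧ Red.IsTrivialGrp (Red.bc U.ι K)) := by
  obtain ⟨U, hU, hmem⟩ := finite_nhd hconn hZ hZm k hKn
  refine ⟨fun h => ⟨U, hmem s h, hU⟩, fun h => ?_⟩
  haveI : IsIso (Red.bc (S.fromSpecResidueField s) K).hom := h
  exact RedKer.exists_trivial_nhd hU s (hmem s inferInstance) h

end Groth.Agent.S5411
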