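import Groth.Statements.S5414
import Groth.Agent.S0385

set_option autoImplicit false
set_option maxHeartbeats 400000
set_option backward.isDefEq.respectTransparency false
set_option backward.isDefEq.respectTransparency.types false
universe u
open CategoryTheory MonoidalCategory CartesianMonoidalCategory MonObj GrpObj AlgebraicGeometry CategoryTheory.Limits
open SGA3x

namespace Groth.Agent.S5414

/-- Topological core: an open subset of `Spec B` over a Noetherian ring of dimension at most one which is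
closed in every fibre is locally of the form "closed in a basic open". -/
theorem exists_basicOpen_closed_inter {A B : Type u} [CommRing A] [CommRing B] [IsNoetherianRing A]
    [IsNoetherianRing B] [Ring.KrullDimLE 1 A] (φ : A →+* B) (O : TopologicalSpace.Opens (PrimeSpectrum B))
    (hfib : ∀ z, z ∈ closure {w | w ∈ O ∧ PrimeSpectrum.comap φ w = PrimeSpectrum.comap φ z} → z ∈ O)
    (z : PrimeSpectrum B) :
    ∃ b c : B, z ∈ PrimeSpectrum.basicOpen b ∧ O ⊓ PrimeSpectrum.basicOpen b ≤ PrimeSpectrum.basicOpen c ∧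
      closure (O : Set (PrimeSpectrum B)) ∩ ↑(PrimeSpectrum.basicOpen b ⊓ PrimeSpectrum.basicOpen c) ⊆ O := by
  classical
  by_cases hzO : z ∈ O
  · obtain ⟨_, ⟨b, rfl⟩, hzb, hbO⟩ :=
      PrimeSpectrum.isTopologicalBasis_basic_opens.exists_subset_of_mem_open (show z ∈ (O : Set (PrimeSpectrum B)) from hzO) O.isOpen
    refine ⟨b, 1, hzb, ?_, fun w hw => hbO hw.2.1⟩
    intro w hw
    simp
  by_cases hzc : z ∈ closure (O : Set (PrimeSpectrum B))
  swap
  · obtain ⟨_, ⟨b, rfl⟩, hzb, hbO⟩ :=
      PrimeSpectrum.isTopologicalBasis_basic_opens.exists_subset_of_mem_open hzc isClosed_closure.isOpen_compl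
    refine ⟨b, 1, hzb, ?_, fun w hw => absurd hw.1 (hbO hw.2.1)⟩
    intro w hw
    exact absurd (subset_closure hw.1) (hbO hw.2)
  let π : PrimeSpectrum B → PrimeSpectrum A := PrimeSpectrum.comap φ
  have hπc : Continuous π := PrimeSpectrum.continuous_comap φ
  -- points of the boundary lie over maximal ideals
  have hbd : ∀ w ∈ closure (O : Set (PrimeSpectrum B)), w ∉ O → (π w).asIdeal.IsMaximal := by
    intro w hw hwO
    rcases Ring.krullDimLE_one_iff.1 inferInstance (π w).asIdeal inferInstance with hmin | hmax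
    swap
    · exact hmax
    exfalso
    have hfin := minimalPrimes.finite_of_isNoetherianRing B
    let C : Set (PrimeSpectrum B) :=
      ⋃ q ∈ {q ∈ minimalPrimes B | ¬ q ≤ w.asIdeal}, PrimeSpectrum.zeroLocus (q : Set B)
    have hC : IsClosed C := (hfin.subset fun q hq => hq.1).isClosed_biUnion fun q _ => PrimeSpectrum.isClosed_zeroLocus _
    have hwC : w ∈ Cᶜ := by
      intro h
      simp only [C, Set.mem_iUnion] at h
      obtain ⟨q, hq, hqw⟩ := h
      exact hq.2 hqw
    obtain ⟨x, hxC, hxO⟩ := mem_closure_iff.1 hw _ hC.isOpen_compl hwC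
    obtain ⟨q, hq, hqx⟩ := Ideal.exists_minimalPrimes_le (bot_le (a := x.asIdeal))
    have hqw : q ≤ w.asIdeal := by
      by_contra hn
      exact hxC (Set.mem_biUnion (show q ∈ {q ∈ minimalPrimes B | ¬ q ≤ w.asIdeal} from ⟨hq, hn⟩) hqx)
    haveI : q.IsPrime := hq.1.1
    let ξ : PrimeSpectrum B := ⟨q, inferInstance⟩
    have hξx : ξ ⤳ x := (PrimeSpectrum.le_iff_specializes ξ x).1 hqx
    have hξw : ξ ⤳ w := (PrimeSpectrum.le_iff_specializes ξ w).1 hqw
    have hξO : ξ ∈ O := hξx.mem_open O.isOpen hxO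
    have hle : (π ξ).asIdeal ≤ (π w).asIdeal := fun a ha => hqw ha
    have heq : π ξ = π w := PrimeSpectrum.ext (le_antisymm hle (hmin.2 ⟨(π ξ).isPrime, bot_le⟩ hle))
    refine hwO (hfib w (hξw.mem_closed isClosed_closure (subset_closure ?_)))
    exact ⟨hξO, heq⟩
  have hzmax : (π z).asIdeal.IsMaximal := hbd z hzc hzO
  -- the image of the boundary is finite
  let T : Set (PrimeSpectrum B) := closure (O : Set (PrimeSpectrum B)) ∩ (↑O)ᶜ
  have hT : IsClosed T := isClosed_closure.inter O.isOpen.isClosed_compl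
  have hTfin : (π '' T).Finite := by
    obtain ⟨I, hI⟩ := (PrimeSpectrum.isClosed_iff_zeroLocus_ideal T).1 hT
    refine ((I.finite_minimalPrimes_of_isNoetherianRing B).image (fun q => Ideal.comap φ q)).preimage
      ((fun a b _ _ h => PrimeSpectrum.ext h) : Set.InjOn (fun p : PrimeSpectrum A => p.asIdeal) _) |>.subset ?_
    rintro _ ⟨w, hw, rfl⟩
    obtain ⟨q, hq, hqw⟩ := Ideal.exists_minimalPrimes_le (show I ≤ w.asIdeal from by
      have := hI ▸ hw
      simpa using this)
    haveI : q.IsPrime := hq.1.1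
    have hqT : (⟨q, inferInstance⟩ : PrimeSpectrum B) ∈ T := by
      rw [hI]; simpa using hq.1.2
    refine ⟨q, hq, ?_⟩
    exact (hbd _ hqT.1 hqT.2).eq_of_le (π w).isPrime.ne_top (fun a ha => hqw ha)
  -- an element of `π z` outside all minimal primes
  by_cases hzmin : (π z).asIdeal ∈ minimalPrimes A
  · -- then all generalisations of `z` lie over `π z`
    exfalso
    have hfin := minimalPrimes.finite_of_isNoetherianRing B
    let C : Set (PrimeSpectrum B) :=
      ⋃ q ∈ {q ∈ minimalPrimes B | ¬ q ≤ z.asIdeal}, PrimeSpectrum.zeroLocus (q : Set B)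
    have hC : IsClosed C := (hfin.subset fun q hq => hq.1).isClosed_biUnion fun q _ => PrimeSpectrum.isClosed_zeroLocus _
    have hwC : z ∈ Cᶜ := by
      intro h
      simp only [C, Set.mem_iUnion] at h
      obtain ⟨q, hq, hqw⟩ := h
      exact hq.2 hqw
    obtain ⟨x, hxC, hxO⟩ := mem_closure_iff.1 hzc _ hC.isOpen_compl hwC
    obtain ⟨q, hq, hqx⟩ := Ideal.exists_minimalPrimes_le (bot_le (a := x.asIdeal))
    have hqw : q ≤ z.asIdeal := by
      by_contra hn
      exact hxC (Set.mem_biUnion (show q ∈ {q ∈ minimalPrimes B | ¬ q ≤ z.asIdeal} from ⟨hq, hn⟩) hqx)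
    haveI : q.IsPrime := hq.1.1
    let ξ : PrimeSpectrum B := ⟨q, inferInstance⟩
    have hξO : ξ ∈ O := ((PrimeSpectrum.le_iff_specializes ξ x).1 hqx).mem_open O.isOpen hxO
    have hle : (π ξ).asIdeal ≤ (π z).asIdeal := fun a ha => hqw ha
    have heq : π ξ = π z := PrimeSpectrum.ext (le_antisymm hle (hzmin.2 ⟨(π ξ).isPrime, bot_le⟩ hle))
    exact hzO (hfib z (((PrimeSpectrum.le_iff_specializes ξ z).1 hqw).mem_closed isClosed_closure
      (subset_closure ⟨hξO, heq⟩)))
  have hfinA := minimalPrimes.finite_of_isNoetherianRing A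
  obtain ⟨g, hgz, hg⟩ : ∃ g ∈ (π z).asIdeal, ∀ q ∈ minimalPrimes A, g ∉ q := by
    by_contra hcon
    push_neg at hcon
    have hsub : ((π z).asIdeal : Set A) ⊆ ⋃ q ∈ minimalPrimes A, (q : Set A) := by
      intro a ha
      obtain ⟨q, hq, haq⟩ := hcon a ha
      exact Set.mem_biUnion hq haq
    obtain ⟨q, hq', hle⟩ := (Ideal.subset_union_prime_finite hfinA (f := fun q : Ideal A => q) ⊥ ⊥
      (fun i hi _ _ => hi.1.1)).1 hsub
    exact hzmin (by
      haveI := hq'.1.1
      rwa [hzmax.eq_of_le (Ideal.IsPrime.ne_top ‹_›) hle])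
  let V : Set (PrimeSpectrum A) := PrimeSpectrum.zeroLocus {g}
  have hVmax : ∀ p ∈ V, p.asIdeal.IsMaximal := by
    intro p hp
    rcases Ring.krullDimLE_one_iff.1 inferInstance p.asIdeal inferInstance with h | h
    · exact absurd (show g ∈ p.asIdeal by simpa [V] using hp) (hg _ h)
    · exact h
  have hVfin : V.Finite := by
    refine (((Ideal.span {g}).finite_minimalPrimes_of_isNoetherianRing A).preimage
      ((fun a b _ _ h => PrimeSpectrum.ext h) : Set.InjOn (fun p : PrimeSpectrum A => p.asIdeal) _)).subset ?_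
    intro p hp
    obtain ⟨q, hq, hqp⟩ := Ideal.exists_minimalPrimes_le (show Ideal.span {g} ≤ p.asIdeal from by
      simpa [V, Ideal.span_le] using hp)
    haveI := hq.1.1
    have hqV : (⟨q, inferInstance⟩ : PrimeSpectrum A) ∈ V := by
      simpa [V, Ideal.span_le] using hq.1.2
    have : q = p.asIdeal := (hVmax _ hqV).eq_of_le p.isPrime.ne_top hqp
    exact Set.mem_preimage.2 (this ▸ hq)
  let F : Set (PrimeSpectrum A) := (V ∪ π '' T) \ {π z}
  have hF : IsClosed F := by
    rw [← Set.biUnion_of_singleton F]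
    refine ((hVfin.union hTfin).subset Set.sdiff_subset).isClosed_biUnion fun p hp => ?_
    refine (PrimeSpectrum.isClosed_singleton_iff_isMaximal p).2 ?_
    rcases hp.1 with hp | ⟨w, hw, rfl⟩
    · exact hVmax p hp
    · exact hbd w hw.1 hw.2
  have hbad : IsClosed (π ⁻¹' F ∪ closure {w | w ∈ O ∧ π w = π z}) :=
    (hF.preimage hπc).union isClosed_closure
  obtain ⟨_, ⟨b, rfl⟩, hzb, hb⟩ :=
    PrimeSpectrum.isTopologicalBasis_basic_opens.exists_subset_of_mem_open
      (show z ∈ (π ⁻¹' F ∪ closure {w | w ∈ O ∧ π w = π z})ᶜ from by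
        rintro (h | h)
        · exact h.2 rfl
        · exact hzO (hfib z h)) hbad.isOpen_compl
  refine ⟨b, φ g, hzb, ?_, ?_⟩
  · intro x hx
    show φ g ∉ x.asIdeal
    intro hgx
    have hxV : π x ∈ V := by simpa [V, π] using hgx
    refine hb hx.2 ?_
    by_cases h : π x = π z
    · exact Or.inr (subset_closure ⟨hx.1, h⟩)
    · exact Or.inl ⟨Or.inl hxV, h⟩
  · intro w hw
    by_contra hwO
    have hπw : π w = π z := by
      by_contra h
      exact hb hw.2.1 (Or.inl ⟨Or.inr ⟨w, ⟨hw.1, hwO⟩, rfl⟩, h⟩)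
    have h1 : g ∈ (π w).asIdeal := hπw.symm ▸ hgz
    exact hw.2.2 (by simpa [π] using h1)

/-- An open subset closed inside a basic open of an affine scheme has affine preimage. -/
theorem isAffineOpen_of_closed_in {T : Scheme.{u}} {W V : T.Opens} (hV : IsAffineOpen V) (hWV : W ≤ V)
    (hcl : closure (W : Set T) ∩ V ⊆ W) : IsAffineOpen W := by
  haveI : IsAffine V := hV
  haveI : IsClosedImmersion (T.homOfLE hWV) := by
    refine IsClosedImmersion.of_isPreimmersion _ ?_
    have hr : Set.range (T.homOfLE hWV) = V.ι ⁻¹' (W : Set T) := by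
      rw [← Scheme.Hom.coe_opensRange, Scheme.opensRange_homOfLE]
      rfl
    rw [hr]
    have : (V.ι ⁻¹' (W : Set T)) = V.ι ⁻¹' closure (W : Set T) := by
      ext v
      exact ⟨fun h => subset_closure h, fun h => hcl ⟨h, v.2⟩⟩
    rw [this]
    exact isClosed_closure.preimage V.ι.continuous
  exact isAffine_of_isAffineHom (T.homOfLE hWV)

/-- The fibres of `u`, pulled back to anything over a point of the base, are finite. -/
theorem isFinite_snd {S : Scheme.{u}} {X Y : Over S} (u : X ⟶ Y) (s : S)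
    (hfin : IsFinite ((Over.pullback (S.fromSpecResidueField s)).map u).left)
    {W : Scheme.{u}} (h : W ⟶ Y.left) (a : W ⟶ Spec (S.residueField s))
    (ha : a ≫ S.fromSpecResidueField s = h ≫ Y.hom) : IsFinite (pullback.snd u.left h) := by
  set q := S.fromSpecResidueField s
  let m : pullback X.hom q ⟶ pullback Y.hom q := ((Over.pullback q).map u).left
  have hm1 : m ≫ pullback.fst Y.hom q = pullback.fst X.hom q ≫ u.left := by simp [m]
  have hm2 : m ≫ pullback.snd Y.hom q = pullback.snd X.hom q := by simp [m]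
  have hb : IsPullback (pullback.fst X.hom q) m u.left (pullback.fst Y.hom q) := by
    refine IsPullback.of_bot ?_ hm1.symm (IsPullback.of_hasPullback Y.hom q)
    simpa [hm2, Over.w u] using IsPullback.of_hasPullback X.hom q
  haveI : IsFinite m := hfin
  haveI : IsFinite (pullback.snd u.left (pullback.fst Y.hom q)) :=
    (MorphismProperty.cancel_left_of_respectsIso @IsFinite hb.isoPullback.hom _).1 (by
      rw [hb.isoPullback_hom_snd]; infer_instance)
  let l : W ⟶ pullback Y.hom q := pullback.lift h a ha.symm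
  have hl : h = l ≫ pullback.fst Y.hom q := (pullback.lift_fst _ _ _).symm
  rw [hl]
  rw [← pullbackLeftPullbackSndIso_inv_snd_snd]
  infer_instance

end Groth.Agent.S5414

namespace Groth.Agent.S5414

/-- Let S be a locally Noetherian scheme of dimension at most 1, X and Y two S-schemes locally of finite
type over S and u : X → Y an S-morphism which is quasi-finite (quasi-compact, locally quasi-finite)
and separated. Suppose that for every point s of S the morphism u_s : X_s → Y_s induced on the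
fibres over s is finite. Then u is affine. (The published statement takes S of dimension 1; this row
allows dimension at most 1, which its proof covers.) -/
theorem result (S : Scheme.{u}) [IsLocallyNoetherian S] (hdim : topologicalKrullDim ↥S ≤ 1)
    (X Y : Over S) [LocallyOfFiniteType X.hom] [LocallyOfFiniteType Y.hom] (u : X ⟶ Y)
    [QuasiCompact u.left] [LocallyQuasiFinite u.left] [IsSeparated u.left]
    (hfin : ∀ s : S, IsFinite ((Over.pullback (S.fromSpecResidueField s)).map u).left) :
    IsAffineHom u.left := by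
  refine IsZariskiLocalAtTarget.of_forall_exists_morphismRestrict (P := @IsAffineHom) fun y => ?_
  obtain ⟨U, hU, hyU, -⟩ := exists_isAffineOpen_mem_and_subset (X := S) (x := Y.hom y) (U := ⊤) trivial
  obtain ⟨V, hV, hyV, hVU⟩ := exists_isAffineOpen_mem_and_subset (X := Y.left) (x := y) (U := Y.hom ⁻¹ᵁ U) hyU
  refine ⟨V, hyV, ?_⟩
  haveI : IsAffine V := hV
  haveI : IsAffine U := hU
  haveI : LocallyQuasiFinite (u.left ∣_ V) := MorphismProperty.of_isPullback (isPullback_morphismRestrict u.left V).flip inferInstance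
  haveI : LocallyOfFiniteType (u.left ∣_ V) :=
    haveI : LocallyOfFiniteType (u.left ≫ Y.hom) := by rw [Over.w u]; infer_instance
    haveI : LocallyOfFiniteType u.left := locallyOfFiniteType_of_comp u.left Y.hom
    inferInstance
  obtain ⟨T, j, π, _, _, _, hjπ⟩ := Groth.Agent.S0385.result (u.left ∣_ V)
  haveI : IsAffine T := isAffine_of_isAffineHom π
  suffices IsAffineHom j by rw [← hjπ]; infer_instance
  let φ : Γ(U.toScheme, ⊤) ⟶ Γ(T, ⊤) := (π ≫ Y.hom.resLE U V hVU).appTop
  haveI : IsNoetherianRing Γ(U.toScheme, ⊤) := IsLocallyNoetherian.component_noetherian ⟨⊤, isAffineOpen_top U.toScheme⟩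
  haveI : LocallyOfFiniteType (π ≫ Y.hom.resLE U V hVU) := inferInstance
  haveI : IsLocallyNoetherian T := LocallyOfFiniteType.isLocallyNoetherian (π ≫ Y.hom.resLE U V hVU)
  haveI : IsNoetherianRing Γ(T, ⊤) := IsLocallyNoetherian.component_noetherian ⟨⊤, isAffineOpen_top T⟩
  let eU := U.toScheme.isoSpec
  haveI : Ring.KrullDimLE 1 Γ(U.toScheme, ⊤) := by
    have h1 : topologicalKrullDim (PrimeSpectrum Γ(U.toScheme, ⊤)) ≤ 1 :=
      ((eU.inv ≫ U.ι).isOpenEmbedding.isInducing.topologicalKrullDim_le).trans hdim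
    rw [PrimeSpectrum.topologicalKrullDim_eq_ringKrullDim] at h1
    exact (Order.krullDimLE_iff _ _).2 h1
  let e := T.isoSpec
  let O : TopologicalSpace.Opens (PrimeSpectrum Γ(T, ⊤)) := (j ≫ e.hom).opensRange
  have hcomm : ∀ w : T, PrimeSpectrum.comap φ.hom (e.hom w) = eU.hom ((π ≫ Y.hom.resLE U V hVU) w) := by
    intro w
    have h := congrArg (fun (k : T ⟶ Spec Γ(U.toScheme, ⊤)) => k w) (Scheme.isoSpec_hom_naturality (π ≫ Y.hom.resLE U V hVU))
    simpa [φ, Spec.map_apply, e, eU] using h
  have hfib : ∀ z, z ∈ closure {w | w ∈ O ∧ PrimeSpectrum.comap φ.hom w = PrimeSpectrum.comap φ.hom z} → z ∈ O := by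
    intro z hz
    obtain ⟨z, rfl⟩ : ∃ w, e.hom w = z := e.hom.surjective z
    let g : T ⟶ S := π ≫ V.ι ≫ Y.hom
    have hg : ∀ w, g w = (U.ι) ((π ≫ Y.hom.resLE U V hVU) w) := by
      intro w
      rw [← Scheme.Hom.comp_apply, Category.assoc, Scheme.Hom.resLE_comp_ι]
    let a : g.fiber (g z) ⟶ T := g.fiberι (g z)
    haveI : IsFinite (pullback.snd u.left ((a ≫ π) ≫ V.ι)) :=
      isFinite_snd u (g z) (hfin (g z)) _ (g.fiberToSpecResidueField (g z)) (by
        simpa [a, g, Scheme.Hom.fiberι, Scheme.Hom.fiberToSpecResidueField, Scheme.Hom.fiber] using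
          (pullback.condition (f := g) (g := S.fromSpecResidueField (g z))).symm)
    have hb := IsPullback.paste_horiz (IsPullback.of_hasPullback (u.left ∣_ V) (a ≫ π))
      (isPullback_morphismRestrict u.left V).flip
    haveI : IsFinite (pullback.snd (u.left ∣_ V) (a ≫ π)) := by
      have h2 : IsPullback (pullback.fst (u.left ∣_ V) (a ≫ π) ≫ (u.left ⁻¹ᵁ V).ι) (pullback.snd (u.left ∣_ V) (a ≫ π))
          u.left ((a ≫ π) ≫ V.ι) := hb
      rw [← h2.isoPullback_hom_snd]; infer_instance
    have hm : ∀ m, m = u.left ∣_ V → IsFinite (pullback.snd m (a ≫ π)) := fun m hm => by subst hm; infer_instance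
    haveI : IsFinite (pullback.snd (j ≫ π) (a ≫ π)) := hm _ hjπ
    haveI : IsFinite (pullback.snd j a) := by
      have : pullback.snd j a = pullback.mapDesc j a π ≫ pullback.snd (j ≫ π) (a ≫ π) := by
        simp [pullback.mapDesc]
      rw [this]; infer_instance
    have hcl : IsClosed (a ⁻¹' Set.range j) := by
      rw [← Scheme.Pullback.range_snd]
      exact (pullback.snd j a).isClosedMap.isClosed_range
    obtain ⟨K, hK, hKeq⟩ := (a.isEmbedding.isInducing.isClosed_iff).1 hcl
    obtain ⟨w, hw⟩ : z ∈ Set.range a := by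
      rw [Scheme.Hom.range_fiberι]; rfl
    have hzK : e.hom z ∈ e.hom '' K := by
      refine closure_minimal ?_ (e.hom.homeomorph.isClosedMap _ hK) hz
      rintro w' ⟨hw'O, hw'⟩
      obtain ⟨t, rfl⟩ := e.hom.surjective w'
      obtain ⟨v, hv⟩ : t ∈ Set.range a := by
        rw [Scheme.Hom.range_fiberι]
        show g t = g z
        rw [hg, hg]
        rw [hcomm, hcomm] at hw'
        rw [eU.hom.homeomorph.injective hw']
      refine ⟨t, ?_, rfl⟩
      have hv' : v ∈ a ⁻¹' Set.range j := by
        obtain ⟨x, hx⟩ := hw'O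
        refine ⟨x, ?_⟩
        rw [hv]
        exact e.hom.homeomorph.injective (by simpa using hx)
      rw [← hv]
      exact (hKeq ▸ hv' : v ∈ a ⁻¹' K)
    obtain ⟨z', hz', hzz⟩ := hzK
    have hz'' : z' = z := e.hom.homeomorph.injective hzz
    have hwj : w ∈ a ⁻¹' Set.range j := by
      rw [← hKeq]
      show a w ∈ K
      rwa [hw, ← hz'']
    obtain ⟨x, hx⟩ := hwj
    exact ⟨x, by rw [Scheme.Hom.comp_apply, hx, hw]⟩
  haveI : IsAffineHom (j ≫ e.hom) := by
    refine isAffineHom_of_forall_exists_isAffineOpen _ fun z => ?_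
    obtain ⟨b, c, hzb, h1, h2⟩ := exists_basicOpen_closed_inter φ.hom O hfib z
    let Db : (Spec Γ(T, ⊤)).Opens := PrimeSpectrum.basicOpen b
    refine ⟨Db, hzb, IsAffineOpen.Spec_basicOpen b, ?_⟩
    rw [← Scheme.Hom.isAffineOpen_iff_of_isOpenImmersion (j ≫ e.hom), Scheme.Hom.image_preimage_eq_opensRange_inf]
    refine isAffineOpen_of_closed_in (V := PrimeSpectrum.basicOpen (b * c)) (IsAffineOpen.Spec_basicOpen _) ?_ ?_
    · rw [PrimeSpectrum.basicOpen_mul]
      exact le_inf inf_le_right h1
    · rintro w ⟨hw1, hw2⟩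
      rw [PrimeSpectrum.basicOpen_mul] at hw2
      exact ⟨h2 ⟨closure_mono (fun x hx => hx.1) hw1, hw2⟩, hw2.1⟩
  have : j = (j ≫ e.hom) ≫ e.inv := by simp
  rw [this]; infer_instance

end Groth.Agent.S5414
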