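import Groth.Statements.S5415
import Groth.Agent.S0086
import Groth.Agent.WhiskerPbLib.Basic
-- import your own Groth.Agent.* helpers here

set_option autoImplicit false
set_option backward.isDefEq.respectTransparency false
universe u
open CategoryTheory MonoidalCategory CartesianMonoidalCategory MonObj GrpObj AlgebraicGeometry CategoryTheory.Limits
open SGA3x
open CategoryTheory.Limits

namespace Groth.Agent.S5415

attribute [-instance] CategoryTheory.Hom.commGroup

/-- Let G be an S-group scheme of finite presentation over S, p : G → G'' a homomorphism which is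
surjective, flat and locally of finite presentation onto an S-group scheme G'' proper and of finite
presentation over S, and i : G' → G its kernel, with G' flat and of finite presentation over S. Let
H be an S-group scheme which is of finite presentation over S, or locally of finite presentation
over a locally Noetherian S, and u : G → H a homomorphism. If the restriction u ∘ i of u to G' is
proper, then u is proper. -/
theorem result (S : Scheme.{u}) (G G' G'' : Over S) [GrpObj G] [GrpObj G'] [GrpObj G'']
    [QuasiCompact G.hom] [QuasiSeparated G.hom] [LocallyOfFinitePresentation G.hom]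
    [IsProper G''.hom] [LocallyOfFinitePresentation G''.hom]
    [Flat G'.hom] [QuasiCompact G'.hom] [QuasiSeparated G'.hom] [LocallyOfFinitePresentation G'.hom]
    (p : G ⟶ G'') [IsMonHom p] [Surjective p.left] [Flat p.left] [LocallyOfFinitePresentation p.left]
    (i : G' ⟶ G) [IsMonHom i] (hker : AlgGrp.IsKernel i p)
    (H : Over S) [GrpObj H] [LocallyOfFinitePresentation H.hom]
    (hH : (QuasiCompact H.hom ∧ QuasiSeparated H.hom) ∨ IsLocallyNoetherian S)
    (u : G ⟶ H) [IsMonHom u] (hu : IsProper (i ≫ u).left) : IsProper u.left := by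
  let ν := i ≫ u
  haveI : IsProper ν.left := hu
  let w : G ⟶ G'' ⊗ H := lift p u
  let c : G ⊗ H ⟶ G'' ⊗ H := p ▷ H
  let A : H ⊗ G ⟶ G ⊗ H := lift (snd H G) (fst H G * (snd H G ≫ u))
  let A' : G ⊗ H ⟶ H ⊗ G := lift (snd G H * (fst G H ≫ u)⁻¹) (fst G H)
  haveI : IsIso A := ⟨A', by
      apply CartesianMonoidalCategory.hom_ext
      · simp [A, A', MonObj.comp_mul, GrpObj.comp_inv]
      · simp [A, A'], by
      apply CartesianMonoidalCategory.hom_ext
      · simp [A, A']
      · simp [A, A', MonObj.comp_mul, GrpObj.comp_inv]⟩
  let m : G' ⊗ G ⟶ G := (fst G' G ≫ i) * snd G' G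
  let T : G' ⊗ G ⟶ G ⊗ H := (ν ▷ G) ≫ A
  have hip : i ≫ p = 1 := hker.w.trans Hom.one_def.symm
  have hpb : IsPullback T m c w := by
    have comm : T ≫ c = m ≫ w := by
      apply CartesianMonoidalCategory.hom_ext
      · simp [T, c, w, A, m, MonObj.mul_comp, hip]
      · simp [T, c, w, A, m, ν, MonObj.mul_comp, MonObj.comp_mul]
    have hd : ∀ s : PullbackCone c w, (s.snd * (s.fst ≫ fst G H)⁻¹) ≫ p = toUnit _ ≫ η[G''] := by
      intro s
      have := congrArg (· ≫ fst G'' H) s.condition
      simp [c, w] at this
      rw [MonObj.mul_comp, GrpObj.inv_comp, Category.assoc, this, mul_inv_cancel, Hom.one_def]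
    refine ⟨⟨comm⟩, ⟨PullbackCone.IsLimit.mk _
      (fun s => lift (hker.lift _ _ (hd s)) (s.fst ≫ fst G H)) (fun s => ?_) (fun s => ?_)
      (fun s k h₁ h₂ => ?_)⟩⟩
    · apply CartesianMonoidalCategory.hom_ext
      · simp [T, A]
      · have := congrArg (· ≫ snd G'' H) s.condition
        simp [c, w] at this
        simp [T, A, ν, MonObj.comp_mul, hker.lift_fst_assoc, MonObj.mul_comp, GrpObj.inv_comp, this]
    · simp [m, MonObj.comp_mul]
    · have e1 : k ≫ snd G' G = s.fst ≫ fst G H := by
        rw [← h₁]
        simp [T, A]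
      apply CartesianMonoidalCategory.hom_ext
      · rw [lift_fst]
        apply hker.hom_ext
        · rw [hker.lift_fst, ← h₂, eq_mul_inv_iff_mul_eq, ← e1]
          simp [m, MonObj.comp_mul]
        · exact toUnit_unique _ _
      · rw [e1, lift_snd]
  haveI : IsProper (ν ▷ G).left :=
    MorphismProperty.of_isPullback (WhiskerPb.isPullback_whiskerRight_left ν G) ‹IsProper ν.left›
  haveI : IsProper T.left := inferInstanceAs (IsProper ((ν ▷ G).left ≫ A.left))
  haveI : QuasiCompact p.left := by
    haveI : QuasiCompact (p.left ≫ G''.hom) := by rw [Over.w p]; infer_instance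
    exact QuasiCompact.of_comp _ G''.hom
  have hc : (@Surjective ⊓ @Flat ⊓ @QuasiCompact : MorphismProperty Scheme.{u}) c.left :=
    have h := WhiskerPb.isPullback_whiskerRight_left p H
    ⟨⟨MorphismProperty.of_isPullback h ‹Surjective p.left›, MorphismProperty.of_isPullback h ‹Flat p.left›⟩,
      MorphismProperty.of_isPullback h ‹QuasiCompact p.left›⟩
  haveI : MorphismProperty.DescendsAlong @IsProper (@Surjective ⊓ @Flat ⊓ @QuasiCompact : MorphismProperty Scheme.{u}) :=
    Groth.Agent.S0086.result
  haveI : IsProper w.left :=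
    MorphismProperty.of_isPullback_of_descendsAlong (WhiskerPb.isPullback_left hpb) hc ‹IsProper T.left›
  haveI : IsProper (snd G'' H).left := inferInstanceAs (IsProper (pullback.snd G''.hom H.hom))
  have hu' : u.left = w.left ≫ (snd G'' H).left := by
    rw [← Over.comp_left]
    simp [w]
  rw [hu']
  infer_instance

end Groth.Agent.S5415
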