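import Groth.Statements.S5421
import Mathlib
import Groth.Agent.KummerExactLib.Basic
import Groth.Agent.MultSubLib.Chars
import Groth.Agent.AbSchLib.Flat
import Groth.Agent.AlbLib.Torus
import Groth.Agent.RedRankLib.CommRel
import Groth.Agent.RedRankLib.Open
import Groth.Agent.TorusFieldLib.Scheme
import Groth.Agent.TorusLiftLib.Smooth
import Groth.Agent.MonoFibLib.MultTypeLft
-- import your own Groth.Agent.* helpers here

set_option autoImplicit false
set_option backward.isDefEq.respectTransparency false
universe u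
open CategoryTheory MonoidalCategory CartesianMonoidalCategory MonObj GrpObj AlgebraicGeometry CategoryTheory.Limits
open Red

attribute [-instance] CategoryTheory.Hom.commGroup

set_option maxHeartbeats 2000000

namespace Groth.Agent.S5421

/-- The unit morphism is preserved by base change, and a base change is trivial exactly if it is
trivial after composing with the projection. -/
theorem map_eq_one_iff {S' S : Scheme.{u}} (g : S' ⟶ S) {T G : Over S} [GrpObj G] (α : T ⟶ G) :
    (Over.pullback g).map α = 1 ↔ pullback.fst T.hom g ≫ α.left = pullback.fst T.hom g ≫ (1 : T ⟶ G).left := by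
  let e := (Over.mapPullbackAdj g).homEquiv ((Over.pullback g).obj T) G
  have h1 : e 1 = 1 := by
    rw [Adjunction.homEquiv_unit, show (Over.pullback g).map (1 : (Over.map g).obj ((Over.pullback g).obj T) ⟶ G) = 1 from
      map_one (Over.pullback g).homMonoidHom, MonObj.comp_one]
  have h2 : e ((Over.mapPullbackAdj g).counit.app T ≫ α) = (Over.pullback g).map α := by
    rw [Adjunction.homEquiv_unit, Functor.map_comp, Adjunction.right_triangle_components_assoc]
  rw [← h2, ← h1, e.apply_eq_iff_eq,
    show (1 : (Over.map g).obj ((Over.pullback g).obj T) ⟶ G) = (Over.mapPullbackAdj g).counit.app T ≫ (1 : T ⟶ G) from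
      (MonObj.comp_one _).symm]
  have hc : ((Over.mapPullbackAdj g).counit.app T).left = pullback.fst T.hom g := by simp
  constructor
  · intro h
    have := congrArg Over.Hom.left h
    rwa [Over.comp_left, Over.comp_left, hc] at this
  · intro h
    refine Over.OverMorphism.ext ?_
    rw [Over.comp_left, Over.comp_left, hc, h]

/-- Nontriviality at a point does not depend on the field. -/
theorem map_eq_one_comp_iff {A B S : Scheme.{u}} (c : A ⟶ B) [Flat c] [Surjective c] (g : B ⟶ S) {T G : Over S}
    [GrpObj G] (α : T ⟶ G) :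
    (Over.pullback (c ≫ g)).map α = 1 ↔ (Over.pullback g).map α = 1 := by
  rw [map_eq_one_iff, map_eq_one_iff]
  let j : pullback T.hom (c ≫ g) ⟶ pullback T.hom g :=
    pullback.lift (pullback.fst T.hom (c ≫ g)) (pullback.snd T.hom (c ≫ g) ≫ c)
      (by rw [Category.assoc]; exact pullback.condition)
  have sq : IsPullback (pullback.snd T.hom (c ≫ g)) j c (pullback.snd T.hom g) := by
    refine IsPullback.of_bot ?_ (pullback.lift_snd _ _ _).symm (IsPullback.of_hasPullback T.hom g).flip.flip.flip
    rw [pullback.lift_fst]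
    exact (IsPullback.of_hasPullback T.hom (c ≫ g)).flip
  haveI : Flat j := MorphismProperty.of_isPullback sq ‹Flat c›
  haveI : Surjective j := MorphismProperty.of_isPullback sq ‹Surjective c›
  haveI : Epi j := Flat.epi_of_flat_of_surjective j
  have hj : pullback.fst T.hom (c ≫ g) = j ≫ pullback.fst T.hom g := (pullback.lift_fst _ _ _).symm
  simp only [hj, Category.assoc, cancel_epi]

/-- The square of a base change of a morphism over the base. -/
theorem isPullback_map_fst {S' S : Scheme.{u}} (g : S' ⟶ S) {X Y : Over S} (f : X ⟶ Y) :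
    IsPullback (pullback.fst X.hom g) ((Over.pullback g).map f).left f.left (pullback.fst Y.hom g) := by
  have h1 : ((Over.pullback g).map f).left ≫ pullback.fst Y.hom g = pullback.fst X.hom g ≫ f.left :=
    pullback.lift_fst _ _ _
  have h2 : ((Over.pullback g).map f).left ≫ pullback.snd Y.hom g = pullback.snd X.hom g :=
    pullback.lift_snd _ _ _
  refine IsPullback.of_bot ?_ h1.symm (IsPullback.of_hasPullback Y.hom g)
  rw [Over.w f, h2]
  exact IsPullback.of_hasPullback X.hom g

/-- A non-trivial character of a split torus is faithfully flat. -/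
theorem props_DSmap (S : Scheme.{u}) {M N : Type} [AddCommGroup M] [AddCommGroup N] (φ : M →+ N)
    (hφ : Function.Injective φ) : Flat (Red.DSmap S φ).left ∧ Surjective (Red.DSmap S φ).left := by
  have hφ' : Function.Injective φ.toMultiplicative := fun a b h =>
    Multiplicative.toAdd.injective (hφ (congrArg Multiplicative.toAdd h))
  let θ := (MonoidAlgebra.mapDomainAlgHom (ULift.{u} ℤ) (ULift.{u} ℤ) φ.toMultiplicative).toRingHom
  have hff : θ.FaithfullyFlat := Groth.Agent.MultHom.faithfullyFlat_mapDomain _ hφ'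
  obtain ⟨h1, h2⟩ := RingHom.FaithfullyFlat.iff_flat_and_comap_surjective.1 hff
  have gflat : Flat (Red.diagMap (ULift.{u} ℤ) φ).left := by
    show Flat (Spec.map (CommRingCat.ofHom θ))
    exact (HasRingHomProperty.Spec_iff (P := @Flat)).2 h1
  have gsurj : Surjective (Red.diagMap (ULift.{u} ℤ) φ).left := by
    show Surjective (Spec.map (CommRingCat.ofHom θ))
    exact ⟨h2⟩
  have sq := KummerExactLib.isPullback_DSmap (S := S) φ
  exact ⟨MorphismProperty.of_isPullback sq gflat, MorphismProperty.of_isPullback sq gsurj⟩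

/-- Over an algebraically closed field a non-trivial character of a torus is faithfully flat. -/
theorem props_field {K : Type u} [Field K] [IsAlgClosed K] {X Y : Over (Spec (CommRingCat.of K))} [GrpObj X] [GrpObj Y]
    (hX : Red.IsTorus X) (w : Red.Gm (Spec (CommRingCat.of K)) ≅ Y) [IsMonHom w.hom]
    (φ : X ⟶ Y) [IsMonHom φ] (hne : φ ≠ 1) : Flat φ.left ∧ Surjective φ.left := by
  let P := Spec (CommRingCat.of K)
  obtain ⟨r, v, hv, hv', -⟩ := Groth.Agent.RedRank.exists_torus_rank hX
  obtain ⟨z, hz, hz'⟩ := Groth.Agent.TorusField.exists_DS_iso K (Fin r → ℤ)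
  haveI := hv; haveI := hv'; haveI := hz; haveI := hz'
  let a : Red.DS P (Fin r → ℤ) ⟶ Red.DS P ℤ := (z.inv ≫ v.hom) ≫ φ ≫ w.inv
  haveI : IsMonHom a := inferInstance
  have hfam : AutFam.IsHomFamily (Red.DS P (Fin r → ℤ)) (Red.DS P ℤ) (fst (Red.DS P (Fin r → ℤ)) (𝟙_ (Over P)) ≫ a) := by
    intro W g₁ g₂ t
    simp only [lift_fst_assoc, MonObj.mul_comp]
  obtain ⟨U, j, hj, hjz, ψ, hψ⟩ := MultSubLib.exists_open_dd (M := Fin r → ℤ) (N := ℤ)
    (fst (Red.DS P (Fin r → ℤ)) (𝟙_ (Over P)) ≫ a) hfam (IsLocalRing.closedPoint K)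
  haveI := hj
  haveI : Subsingleton ↥(𝟙_ (Over P)).left := inferInstanceAs (Subsingleton (PrimeSpectrum K))
  haveI : Surjective j.left := ⟨fun x => by
    obtain ⟨y, hy⟩ := hjz
    exact ⟨y, hy.trans (Subsingleton.elim _ _)⟩⟩
  haveI : Epi j.left.base := (TopCat.epi_iff_surjective _).2 j.left.surjective
  haveI : IsIso j.left := IsOpenImmersion.isIso j.left
  haveI : IsIso ((Over.forget P).map j) := inferInstanceAs (IsIso j.left)
  haveI : IsIso j := isIso_of_reflects_iso j (Over.forget P)
  have ha : a = MultSubLib.dd P ψ := by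
    have := congrArg (fun f => lift (𝟙 (Red.DS P (Fin r → ℤ))) (toUnit _ ≫ inv j) ≫ f) hψ
    simpa using this
  by_cases h1 : ψ (Multiplicative.ofAdd 1) = 1
  · exfalso
    apply hne
    have hψ1 : ψ = 1 := MonoidHom.ext_mint h1
    have ha1 : a = 1 := by
      refine MultSubLib.chars_injective ?_
      rw [ha, MultSubLib.chars_one, hψ1, MultSubLib.dd, MultSubLib.chars_dsPt, MonoidHom.comp_one]
    have : φ = (v.inv ≫ z.hom) ≫ a ≫ w.hom := by simp [a]
    rw [this, ha1, MonObj.one_comp, MonObj.comp_one]
  · let φ' : ℤ →+ (Fin r → ℤ) := AddMonoidHom.toMultiplicative.symm ψ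
    have hinj : Function.Injective φ' := by
      have : φ' = zmultiplesHom _ (φ' 1) := AddMonoidHom.ext_int (by simp)
      rw [this]
      intro m n h
      have h1' : φ' 1 ≠ 0 := fun e => h1 (by simpa [φ'] using congrArg Multiplicative.ofAdd e)
      simp only [zmultiplesHom_apply] at h
      exact smul_left_injective ℤ h1' h
    have hdd : MultSubLib.dd P ψ = Red.DSmap P φ' := by
      conv_rhs => rw [← Category.id_comp (Red.DSmap P φ'), ← MultSubLib.dsPt_chars (𝟙 (Red.DS P (Fin r → ℤ))),
        KummerExactLib.dsPt_DSmap]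
      rfl
    obtain ⟨f1, f2⟩ := props_DSmap P φ' hinj
    have hφ : φ.left = (v.inv ≫ z.hom).left ≫ (Red.DSmap P φ').left ≫ w.hom.left := by
      rw [← hdd, ← ha, ← Over.comp_left, ← Over.comp_left]
      simp [a]
    haveI := f1; haveI := f2
    haveI : IsIso (v.inv ≫ z.hom).left := ((Over.forget P).mapIso (v.symm ≪≫ z)).isIso_hom
    haveI : IsIso w.hom.left := ((Over.forget P).mapIso w).isIso_hom
    rw [hφ]
    exact ⟨inferInstance, inferInstance⟩

/-- Let T be an S-torus and α : T → G_{m,S} a character. The following are equivalent: (i) for every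
point s of S the character induced on the geometric fibre at s is not the trivial character; (ii)
for every morphism S' → S with S' non-empty the base change of α is not the trivial character; (iii)
α is faithfully flat (flat and surjective). -/
theorem result (S : Scheme.{u}) (T : Over S) [GrpObj T] (hT : Red.IsTorus T) (α : T ⟶ Red.Gm S) [IsMonHom α] :
    ((∀ s : S, (Over.pullback (Red.geomPt s)).map α ≠ 1) ↔
      (∀ (S' : Scheme.{u}) (g : S' ⟶ S), Nonempty ↥S' → (Over.pullback g).map α ≠ 1)) ∧
    ((∀ s : S, (Over.pullback (Red.geomPt s)).map α ≠ 1) ↔ (Flat α.left ∧ Surjective α.left)) := by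
  haveI : Smooth T.hom := TorusLift.smooth_of_isTorus hT
  haveI : LocallyOfFiniteType (Red.Gm S).hom := MonoFib.lft_DS ℤ
  have h23 : Flat α.left ∧ Surjective α.left →
      ∀ (S' : Scheme.{u}) (g : S' ⟶ S), Nonempty ↥S' → (Over.pullback g).map α ≠ 1 := by
    rintro ⟨hfl, hsj⟩ S' g ⟨x⟩ h
    let α' := (Over.pullback g).map α
    have sq := isPullback_map_fst g α
    haveI : Flat α'.left := MorphismProperty.of_isPullback sq hfl
    haveI : Surjective α'.left := MorphismProperty.of_isPullback sq hsj
    haveI : Epi α'.left := Flat.epi_of_flat_of_surjective α'.left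
    haveI : Epi α' := (Over.forget S').epi_of_epi_map (inferInstanceAs (Epi α'.left))
    have hid : 𝟙 ((Over.pullback g).obj (Red.Gm S)) = 1 := by
      rw [← cancel_epi α', Category.comp_id, MonObj.comp_one]
      exact h
    let K := AlgebraicClosure (S'.residueField x)
    let Y : Over S' := Over.mk (Red.geomPt x)
    haveI : Subsingleton (Y ⟶ (Over.pullback g).obj (Red.Gm S)) := ⟨fun a b => by
      rw [← Category.comp_id a, ← Category.comp_id b, hid, MonObj.comp_one, MonObj.comp_one]⟩
    haveI : Subsingleton ((Over.map g).obj Y ⟶ Red.Gm S) :=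
      ((Over.mapPullbackAdj g).homEquiv Y (Red.Gm S)).subsingleton
    haveI : Subsingleton (Γ(((Over.map g).obj Y).left, ⊤))ˣ :=
      (DSPtsLib.gmPt_bijective ((Over.map g).obj Y)).1.subsingleton
    let e : Γ(Spec (CommRingCat.of K), ⊤) ≃+* K := (Scheme.ΓSpecIso (CommRingCat.of K)).commRingCatIsoToRingEquiv
    haveI : Subsingleton (Γ(Spec (CommRingCat.of K), ⊤))ˣ := inferInstanceAs (Subsingleton (Γ(((Over.map g).obj Y).left, ⊤))ˣ)
    haveI : Subsingleton Kˣ := (Units.mapEquiv e.toMulEquiv).symm.toEquiv.subsingleton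
    classical
    obtain ⟨y, hy⟩ := Infinite.exists_notMem_finset (α := K) {0, 1}
    simp only [Finset.mem_insert, Finset.mem_singleton, not_or] at hy
    exact hy.2 (congrArg Units.val (Subsingleton.elim (Units.mk0 y hy.1) 1))
  have h13 : (∀ s : S, (Over.pullback (Red.geomPt s)).map α ≠ 1) → Flat α.left ∧ Surjective α.left := by
    intro hi
    have key : ∀ (K : Type u) [Field K] [IsAlgClosed K] (ξ : Spec (CommRingCat.of K) ⟶ S),
        Flat ((Over.pullback ξ).map α).left ∧ Surjective ((Over.pullback ξ).map α).left := by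
      intro K _ _ ξ
      obtain ⟨s, φ, rfl⟩ : ∃ (s : S) (φ : S.residueField s ⟶ CommRingCat.of K),
          Spec.map φ ≫ S.fromSpecResidueField s = ξ :=
        ⟨_, _, Scheme.descResidueField_stalkClosedPointTo_fromSpecResidueField K S ξ⟩
      letI : Algebra (S.residueField s) K := φ.hom.toAlgebra
      let ψ : AlgebraicClosure (S.residueField s) →ₐ[S.residueField s] K := IsAlgClosed.lift
      let c := Spec.map (CommRingCat.ofHom ψ.toRingHom)
      have hc : c ≫ Red.geomPt s = Spec.map φ ≫ S.fromSpecResidueField s := by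
        rw [Red.geomPt, ← Category.assoc, ← Spec.map_comp]
        congr 2
        ext a
        exact ψ.commutes a
      haveI : Surjective c := ⟨fun p => ⟨IsLocalRing.closedPoint K, @Subsingleton.elim (PrimeSpectrum (AlgebraicClosure (S.residueField s))) inferInstance _ _⟩⟩
      haveI : Flat c := by
        rw [HasRingHomProperty.Spec_iff (P := @Flat)]
        letI := ψ.toRingHom.toAlgebra
        exact (inferInstance : Module.Flat (AlgebraicClosure (S.residueField s)) K)
      have hne : (Over.pullback (Spec.map φ ≫ S.fromSpecResidueField s)).map α ≠ 1 := by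
        rw [← hc, Ne, map_eq_one_comp_iff]
        exact hi s
      generalize Spec.map φ ≫ S.fromSpecResidueField s = ξ at hne ⊢
      obtain ⟨e, he⟩ := AlbLib.exists_DS_bc ξ (S' := S) ℤ
      haveI := he
      haveI hm : IsMonHom (M := Red.bc ξ T) (N := Red.bc ξ (Red.Gm S)) ((Over.pullback ξ).map α) :=
        AbSchLib.isMonHom_pullback_map ξ α
      exact props_field (X := Red.bc ξ T) (Y := Red.bc ξ (Red.Gm S)) (Groth.Agent.RedRank.isTorus_bc hT ξ) e
        ((Over.pullback ξ).map α) hne
    refine ⟨AbSchLib.flat_of_geometric_fibres α fun K _ _ ξ => (key K ξ).1, ⟨fun y => ?_⟩⟩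
    let s := (Red.Gm S).hom y
    obtain ⟨p, hp⟩ : ∃ p : Spec (CommRingCat.of (AlgebraicClosure (S.residueField s))), Red.geomPt s p = s :=
      ⟨IsLocalRing.closedPoint _, by rw [Red.geomPt, Scheme.Hom.comp_apply]; exact Scheme.fromSpecResidueField_apply _ _⟩
    obtain ⟨y', hy', -⟩ := Scheme.Pullback.exists_preimage_pullback (f := (Red.Gm S).hom) (g := Red.geomPt s) y p
      hp.symm
    obtain ⟨x', hx'⟩ := (key _ (Red.geomPt s)).2.surj y'
    refine ⟨pullback.fst T.hom (Red.geomPt s) x', ?_⟩
    have h := congrArg (fun f : _ ⟶ (Red.Gm S).left => f x') (isPullback_map_fst (Red.geomPt s) α).w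
    simp only [Scheme.Hom.comp_apply] at h
    rw [← hy', ← hx']
    exact h
  have h21 : (∀ (S' : Scheme.{u}) (g : S' ⟶ S), Nonempty ↥S' → (Over.pullback g).map α ≠ 1) →
      ∀ s : S, (Over.pullback (Red.geomPt s)).map α ≠ 1 :=
    fun h s => h _ _ ⟨IsLocalRing.closedPoint _⟩
  exact ⟨⟨fun h => h23 (h13 h), h21⟩, ⟨h13, fun h => h21 (h23 h)⟩⟩


end Groth.Agent.S5421
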