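import Groth.Statements.S5424
import Groth.Agent.MaxTorFieldLib.UnipHopf
import Groth.Agent.S7951
import Groth.Agent.S2966
import Groth.Agent.S18071
import Groth.Agent.MuSubLib.Quot
import Groth.Agent.DiagHopfLib.FieldQuot
import Groth.Agent.TorusFieldLib.Galois

set_option autoImplicit false
set_option backward.isDefEq.respectTransparency false
set_option backward.isDefEq.respectTransparency.types false
set_option maxHeartbeats 1000000
set_option synthInstance.maxHeartbeats 400000
universe u
open TensorProduct
open SGA3t2b AlgebraicGeometry CategoryTheory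

namespace Groth.Agent.S5424

/-- (i) ⟺ (iv) ⟺ (v): let k be a field with algebraic closure k̄ and A a finitely generated commutative
Hopf algebra over k which is formally smooth and has no idempotents other than 0 and 1 (a smooth
connected affine algebraic group G). Then the following are equivalent: (i) G is unipotent
(fixed-vector form); (iv) there is an integer n > 1 such that G_{k̄} contains no closed subgroup
isomorphic to μ_n (no surjective bialgebra map from k̄ ⊗ A onto the group algebra k̄[ℤ/n]); (v)
every subtorus of G is trivial (every Hopf quotient of A which is the algebra of a torus is k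
itself). (The published condition (v) concerns maximal tori; since every torus lies in a maximal
one, this row's condition on all subtori is equivalent.) -/
theorem result (k : Type u) [Field k] (A : Type u) [CommRing A] [HopfAlgebra k A] [Algebra.FiniteType k A]
    [Algebra.FormallySmooth k A] (hconn : ∀ e : A, IsIdempotentElem e → e = 0 ∨ e = 1) :
    (HopfRep.IsUnipotent k A ↔
      ∃ n : ℕ, 1 < n ∧ ¬ ∃ φ : (AlgebraicClosure k ⊗[k] A) →ₐc[AlgebraicClosure k]
        MonoidAlgebra (AlgebraicClosure k) (Multiplicative (ZMod n)), Function.Surjective φ) ∧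
    (HopfRep.IsUnipotent k A ↔
      ∀ (B : Type u) [CommRing B] [HopfAlgebra k B] (φ : A →ₐc[k] B), Function.Surjective φ →
        SGA3b.IsTorus k B → Function.Bijective (algebraMap k B)) := by
  let K : Type u := AlgebraicClosure k
  haveI : Algebra.FormallySmooth K (K ⊗[k] A) := inferInstance
  haveI : ConnectedSpace ↥(CoactBr.sp K (K ⊗[k] A)).left := MaxTorField.connectedSpace_sp_baseChange hconn K
  have h12 : HopfRep.IsUnipotent k A → MuSub.NoMu K (K ⊗[k] A) := fun h =>
    MuSub.noMu_of_isUnipotent ((Groth.Agent.S7951.result k K A).1 h)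
  refine ⟨⟨fun h => ⟨2, one_lt_two, h12 h 2 Nat.prime_two⟩, fun h => ?_⟩, ⟨fun h B _ _ φ hφ hB => ?_, fun h => ?_⟩⟩
  · obtain ⟨m, hm, hno⟩ := h
    refine (Groth.Agent.S7951.result k K A).2 (MaxTorField.isUnipotent_of_hasNoSubtorus
      (MaxTorField.hasNoSubtorus_of_hopf K fun B _ _ φ hφ n E => ?_))
    haveI : Nontrivial B := RingHom.domain_nontrivial (Bialgebra.counitAlgHom K B).toRingHom
    rcases n with - | n
    · refine ⟨(algebraMap K B).injective, fun b => ⟨E.e.repr ((1 : K) ⊗ₜ[K] b) 0, ?_⟩⟩
      have := E.e.sum_repr ((1 : K) ⊗ₜ[K] b)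
      rw [Fintype.sum_eq_single 0 fun x hx => absurd (Subsingleton.elim x 0) hx, E.e_zero] at this
      have := congrArg (Algebra.TensorProduct.lid K B) this
      simpa [Algebra.smul_def] using this
    · obtain ⟨E', -⟩ := HomLift.exists_split_congr (AddEquiv.additiveMultiplicative (Fin (n + 1) → ℤ)).symm E
      obtain ⟨e⟩ := DiagHopf.exists_bialgEquiv E'
      let θ : Multiplicative (Fin (n + 1) → ℤ) →* Multiplicative (ZMod m) :=
        AddMonoidHom.toMultiplicative ((Int.castAddHom (ZMod m)).comp (Pi.evalAddMonoidHom _ 0))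
      refine absurd ⟨((MonoidAlgebra.mapDomainBialgHom K θ).comp (e : _ →ₐc[K] _)).comp
        ((Bialgebra.TensorProduct.lid K B).symm.toBialgHom.comp φ), ?_⟩ hno
      have hθ : Function.Surjective (MonoidAlgebra.mapDomainBialgHom K θ) := by
        intro y
        induction y using MonoidAlgebra.induction_linear with
        | zero => exact ⟨0, map_zero _⟩
        | add a b ha hb =>
          obtain ⟨a', rfl⟩ := ha
          obtain ⟨b', rfl⟩ := hb
          exact ⟨a' + b', map_add _ _ _⟩
        | single z r =>
          obtain ⟨j, hj⟩ := ZMod.intCast_surjective z.toAdd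
          exact ⟨MonoidAlgebra.single (Multiplicative.ofAdd fun _ => j) r, by simp [θ, hj]⟩
      intro y
      obtain ⟨y₁, rfl⟩ := hθ y
      obtain ⟨y₂, rfl⟩ := (BialgEquiv.toAlgEquiv e).surjective y₁
      obtain ⟨a, ha⟩ := hφ (Algebra.TensorProduct.lid K B y₂)
      refine ⟨a, ?_⟩
      have h2 : (Bialgebra.TensorProduct.lid K B).symm (φ a) = y₂ := by
        rw [Bialgebra.TensorProduct.lid_symm_apply, ha]
        exact (Algebra.TensorProduct.lid K B).symm_apply_apply y₂
      show MonoidAlgebra.mapDomainBialgHom K θ (e ((Bialgebra.TensorProduct.lid K B).symm (φ a))) = _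
      rw [h2]
      rfl
  · haveI : Algebra.FiniteType k B := Algebra.FiniteType.of_surjective (φ : A →ₐ[k] B) hφ
    obtain ⟨L, _, _, n, -, ⟨E⟩⟩ := HomLift.exists_field_split_of_isTorus hB (⊥ : Ideal k)
    obtain ⟨EK⟩ := TorusField.exists_split_algClosure E K
    obtain ⟨htr, -⟩ := Groth.Agent.S2966.result (DiagHopf.isDiagonalizable_of_split EK) h
    haveI : Nontrivial B := RingHom.domain_nontrivial (Bialgebra.counitAlgHom k B).toRingHom
    refine ⟨(algebraMap k B).injective, fun b => ?_⟩
    obtain ⟨a, rfl⟩ := hφ b
    exact ⟨_, (htr φ a).symm⟩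
  · refine (Groth.Agent.S7951.result k K A).2 (MaxTorField.isUnipotent_of_hasNoSubtorus ?_)
    haveI : Nontrivial A := RingHom.domain_nontrivial (Bialgebra.counitAlgHom k A).toRingHom
    haveI := MaxTorField.smooth_sp (k := k) (A := A)
    haveI : ConnectedSpace ↥(CoactBr.sp k A).left := ConnBC.connectedSpace_spec (A := A) hconn
    haveI : IsAffine (CoactBr.sp k A).left := inferInstanceAs (IsAffine (Spec (CommRingCat.of A)))
    haveI : QuasiCompact (CoactBr.sp k A).hom := by
      haveI : IsAffineHom (CoactBr.sp k A).hom := isAffineHom_of_isAffine _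
      infer_instance
    have h1 := (Groth.Agent.S18071.result k (CoactBr.sp k A)).1
      (MaxTorField.hasNoSubtorus_of_hopf K fun B _ _ φ hφ n E => h B φ hφ (HomLift.isTorus_of_split E))
    intro T _ j _ _ hT
    haveI : IsMonHom (asIso (DiagRep.bcHom k K A)).hom := DiagRep.isMonHom_bcHom k K A
    haveI : IsMonHom (M := CoactBr.sp K (K ⊗[k] A)) (N := Red.bc (DiagRep.baseHom k K) (CoactBr.sp k A))
        (asIso (DiagRep.bcHom k K A)).inv := inferInstance
    exact h1 T (j ≫ (asIso (DiagRep.bcHom k K A)).inv) hT

end Groth.Agent.S5424
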