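import Groth.Statements.S5425
import Groth.Agent.MuSubLib.Connected
import Groth.Agent.S2968
-- import your own Groth.Agent.* helpers here

set_option autoImplicit false
universe u
open TensorProduct
open SGA3t2b

open scoped ComodLib TensorProduct

namespace Groth.Agent.S5425

/-- (i) ⟺ (iv) ⟺ (v): let k be a field of characteristic p > 0 with algebraic closure k̄, and A a
finitely generated commutative Hopf algebra over k with no idempotents other than 0 and 1 (a
connected affine algebraic group G). Then the following are equivalent: (i) G is unipotent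
(fixed-vector form); (iv) G_{k̄} contains no closed subgroup isomorphic to μ_p; (v) the Lie algebra
of G is a unipotent p-Lie algebra: for every ε-derivation D : A → k some p^n-fold convolution power
of D (n > 0) vanishes. -/
theorem result (k : Type u) [Field k] (p : ℕ) [Fact p.Prime] [CharP k p] (A : Type u) [CommRing A] [HopfAlgebra k A]
    [Algebra.FiniteType k A] (hconn : ∀ e : A, IsIdempotentElem e → e = 0 ∨ e = 1) :
    (HopfRep.IsUnipotent k A ↔
      ¬ ∃ φ : (AlgebraicClosure k ⊗[k] A) →ₐc[AlgebraicClosure k]
        MonoidAlgebra (AlgebraicClosure k) (Multiplicative (ZMod p)), Function.Surjective φ) ∧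
    (HopfRep.IsUnipotent k A ↔
      ∀ D : LieHopf.Lie k A, ∃ n : ℕ, 0 < n ∧
        LieHopf.convPow (D.toLinearMap.restrictScalars k ∘ₗ LinearMap.id) (p ^ n) = 0) := by
  classical
  haveI : CharP (AlgebraicClosure k) p := charP_of_injective_algebraMap (algebraMap k _).injective p
  have hmu : HopfRep.IsUnipotent k A →
      ¬ ∃ φ : (AlgebraicClosure k ⊗[k] A) →ₐc[AlgebraicClosure k]
        MonoidAlgebra (AlgebraicClosure k) (Multiplicative (ZMod p)), Function.Surjective φ := fun hU =>
    MuSub.noMu_of_isUnipotent ((Groth.Agent.S7951.result k (AlgebraicClosure k) A).1 hU) p Fact.out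
  refine ⟨⟨hmu, fun hno => MuSub.isUnipotent_of_locNil_algClosure p hconn (MuSub.locNil_of_no_mu p hno)⟩,
    ⟨fun hU D => Groth.Agent.S2968.result p hU D, fun hD => ?_⟩⟩
  refine MuSub.isUnipotent_of_locNil_algClosure p hconn (MuSub.locNil_baseChange fun f hf a => ?_)
  let D : LieHopf.Lie k A := Derivation.mk'
    { toFun := fun x => f.ofConv x
      map_add' := fun x y => map_add f.ofConv x y
      map_smul' := fun c x => map_smul f.ofConv c x }
    (fun x y => by
      show f.ofConv (x * y) = (Bialgebra.counitAlgHom k A x) * f.ofConv y + (Bialgebra.counitAlgHom k A y) * f.ofConv x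
      rw [show f.ofConv (x * y) = _ from hf x y, Bialgebra.counitAlgHom_apply, Bialgebra.counitAlgHom_apply, mul_comm _ (CoalgebraStruct.counit (R := k) y)])
  obtain ⟨n, -, hn⟩ := hD D
  have hfD : (D.toLinearMap.restrictScalars k ∘ₗ LinearMap.id) = f.ofConv := LinearMap.ext fun x => rfl
  have hpow : ∀ m, LieHopf.convPow f.ofConv m = (f ^ m).ofConv := by
    intro m
    induction m with
    | zero => refine LinearMap.ext fun x => ?_; simp [LieHopf.convPow, pow_zero]
    | succ m ih =>
      rw [LieHopf.convPow, ih, pow_succ]
      rfl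
  replace hn : LieHopf.convPow f.ofConv (p ^ n) = 0 := by rw [← hfD]; exact hn
  rw [hpow] at hn
  refine ⟨p ^ n, fun i hi => ?_⟩
  have h0 : f ^ (p ^ n) = 0 := WithConv.ext hn
  rw [show f ^ i = 0 from pow_eq_zero_of_le hi h0]
  rfl

end Groth.Agent.S5425
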