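import Groth.Statements.S5427
import Mathlib
import Groth.Agent.KummerExactLib.Basic
-- import your own Groth.Agent.* helpers here

set_option autoImplicit false
set_option backward.isDefEq.respectTransparency false
universe u
open CategoryTheory MonoidalCategory CartesianMonoidalCategory MonObj GrpObj AlgebraicGeometry CategoryTheory.Limits
open Red

namespace Groth.Agent.S5427

/-- Let S be a scheme and G = D_S(M) a diagonalizable S-group of finite type, M a non-trivial finitely
generated commutative group. Then there are a prime number r and a closed subgroup of G isomorphic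
to (μ_r)_S: a homomorphism of S-groups D_S(ℤ/r) → D_S(M) which is a closed immersion. -/
theorem result (S : Scheme.{u}) (M : Type) [AddCommGroup M] [AddGroup.FG M] [Nontrivial M] :
    ∃ (r : ℕ) (_ : r.Prime) (j : Red.DS S (ZMod r) ⟶ Red.DS S M), IsMonHom j ∧ IsClosedImmersion j.left := by
  obtain ⟨m, hm, -⟩ := (eq_top_or_exists_le_coatom (⊥ : Submodule ℤ M)).resolve_left bot_ne_top
  haveI : IsSimpleModule ℤ (M ⧸ m) := isSimpleModule_iff_isCoatom.2 hm
  obtain ⟨I, hI, ⟨e⟩⟩ := (isSimpleModule_iff_quot_maximal (R := ℤ) (M := M ⧸ m)).1 inferInstance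
  obtain ⟨a, ha⟩ := (IsPrincipalIdealRing.principal I).principal
  have ha' : I = Ideal.span {a} := ha
  have ha0 : a ≠ 0 := by
    rintro rfl
    exact Ring.ne_bot_of_isMaximal_of_not_isField hI Int.not_isField (by rw [ha', Ideal.span_singleton_eq_bot])
  have hp : a.natAbs.Prime := Int.prime_iff_natAbs_prime.1
    ((Ideal.span_singleton_prime ha0).1 (ha' ▸ hI.isPrime))
  let φ : M →+ ZMod a.natAbs :=
    ((((Ideal.quotEquivOfEq ha').trans (Int.quotientSpanEquivZMod a)).toAddEquiv.toAddMonoidHom).comp
      e.toAddEquiv.toAddMonoidHom).comp m.mkQ.toAddMonoidHom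
  have hφ : Function.Surjective φ :=
    (((Ideal.quotEquivOfEq ha').trans (Int.quotientSpanEquivZMod a)).surjective.comp e.surjective).comp
      m.mkQ_surjective
  haveI : IsClosedImmersion (Red.diagMap (ULift.{u} ℤ) φ).left :=
    IsClosedImmersion.spec_of_surjective _ (fun y => by
      obtain ⟨x, hx⟩ := Finsupp.mapDomain_surjective (f := AddMonoidHom.toMultiplicative φ) hφ y.coeff
      exact ⟨.ofCoeff x, by rw [← MonoidAlgebra.ofCoeff_coeff y, ← hx]; rfl⟩)
  exact ⟨a.natAbs, hp, Red.DSmap S φ, KummerExactLib.isMonHom_DSmap φ,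
    MorphismProperty.baseChange_map _ _ inferInstance⟩

end Groth.Agent.S5427
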