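import Groth.Statements.S5431
import Groth.Agent.MultExtLib.Quot

set_option backward.isDefEq.respectTransparency false

set_option autoImplicit false
universe u
open CategoryTheory MonoidalCategory CartesianMonoidalCategory MonObj GrpObj AlgebraicGeometry CategoryTheory.Limits
open SGA3x

namespace Groth.Agent.S5431

/-- Let S be a scheme, H and K two S-groups of multiplicative type and of finite type, and E an S-group
scheme which is an extension of K by H: p : E → K is a surjective, flat, quasi-compact homomorphism
(K is the fpqc quotient E/H) with kernel i : H → E. Then E is of multiplicative type (and of finite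
type) in each of the two cases: a) E is commutative; b) the fibres of K are connected. -/
theorem result (S : Scheme.{u}) (E H K : Over S) [GrpObj E] [GrpObj H] [GrpObj K]
    (p : E ⟶ K) [IsMonHom p] [Surjective p.left] [Flat p.left] [QuasiCompact p.left]
    (i : H ⟶ E) [IsMonHom i] (hker : AlgGrp.IsKernel i p)
    (hH : SGA3x.IsMultTypeFT H) (hK : SGA3x.IsMultTypeFT K)
    (h : IsCommMonObj E ∨ ∀ s : S, _root_.IsConnected (K.hom.base ⁻¹' {s})) :
    SGA3x.IsMultTypeFT E := by
  rcases h with h | h
  · exact Groth.Agent.MultExt.isMultTypeFT_of_ext_comm E p i hker hH hK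
  · haveI : Mono i := ⟨fun {Z} a b e => hker.hom_ext e (toUnit_unique _ _)⟩
    have hcov : Groth.Agent.MonoQuot.IsCov p.left := Groth.Agent.MultExt.isCov p.left
    haveI : IsCommMonObj E := Groth.Agent.MultExt.isCommMonObj_of_central p hcov i hker hH hK
      (Groth.Agent.MultExt.central_of_kernel p hcov i hker hH h) h
    exact Groth.Agent.MultExt.isMultTypeFT_of_ext_comm E p i hker hH hK

end Groth.Agent.S5431
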