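import Groth.Statements.S5432
import Groth.Agent.MuSubLib.Units
import Groth.Agent.S7951
-- import your own Groth.Agent.* helpers here

set_option autoImplicit false
universe u
open TensorProduct
open SGA3t2b

open scoped ComodLib TensorProduct

namespace Groth.Agent.S5432

/-- Let k be a field, C a finitely generated commutative Hopf algebra which is formally smooth with no
idempotents other than 0 and 1 and unipotent in the fixed-vector sense (a smooth connected unipotent
algebraic group U), and B a commutative Hopf algebra of multiplicative type (isomorphic to a group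
algebra after a faithfully flat extension of k; the group H, not assumed of finite type). Then every
morphism of k-schemes U → H is constant: every k-algebra map f : B → C satisfies f(b) = ε_C(f(b)) ·
1. -/
theorem result (k : Type u) [Field k] (C B : Type u) [CommRing C] [HopfAlgebra k C] [Algebra.FiniteType k C]
    [Algebra.FormallySmooth k C] (hconn : ∀ e : C, IsIdempotentElem e → e = 0 ∨ e = 1)
    (hU : HopfRep.IsUnipotent k C) [CommRing B] [HopfAlgebra k B]
    (hB : SGA3b.IsMultTypeConst k B) (f : B →ₐ[k] C) :
    ∀ b : B, f b = algebraMap k C (Bialgebra.counitAlgHom k C (f b)) := by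
  classical
  intro b
  obtain ⟨T, _, _, hT, M, _, ⟨e⟩⟩ := hB
  haveI := hT
  haveI : Nontrivial T := (TensorProduct.rid k T).symm.toEquiv.nontrivial
  obtain ⟨m, hm⟩ := Ideal.exists_maximal T
  haveI := hm
  letI := Ideal.Quotient.field m
  let K := AlgebraicClosure (T ⧸ m)
  let π : T →ₐ[k] K := (IsScalarTower.toAlgHom k (T ⧸ m) K).comp (Ideal.Quotient.mkₐ k m)
  haveI := MuSub.isDomain_baseChange (K := K) (k := k) (A := C) hconn
  have hU' : HopfRep.IsUnipotent K (K ⊗[k] C) := (Groth.Agent.S7951.result k K C).1 hU
  let F : T ⊗[k] B →ₐ[k] K ⊗[k] C := Algebra.TensorProduct.map π f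
  have hall : ∀ z : MonoidAlgebra T M, ∃ c : K, F (e.symm z) = algebraMap K (K ⊗[k] C) c := by
    intro z
    induction z using MonoidAlgebra.induction_on with
    | of g =>
      have hu : IsUnit (F (e.symm (MonoidAlgebra.of T M g))) :=
        (((Group.isUnit g).map (MonoidAlgebra.of T M)).map e.symm).map F
      exact ⟨_, MuSub.unit_eq_const hU' hu⟩
    | add x y hx hy =>
      obtain ⟨c, hc⟩ := hx
      obtain ⟨c', hc'⟩ := hy
      exact ⟨c + c', by rw [map_add, map_add, hc, hc', map_add]⟩
    | smul r x hx =>
      obtain ⟨c, hc⟩ := hx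
      refine ⟨π r * c, ?_⟩
      rw [map_smul, Algebra.smul_def, map_mul, hc, map_mul]
      congr 1
      show Algebra.TensorProduct.map π f (r ⊗ₜ[k] 1) = _
      rw [Algebra.TensorProduct.map_tmul, map_one]
      rfl
  obtain ⟨c, hc⟩ := hall (e ((1 : T) ⊗ₜ[k] b))
  rw [show e.symm (e ((1 : T) ⊗ₜ[k] b)) = (1 : T) ⊗ₜ[k] b from e.toAlgEquiv.symm_apply_apply _,
    show F ((1 : T) ⊗ₜ[k] b) = (1 : K) ⊗ₜ[k] f b by rw [Algebra.TensorProduct.map_tmul, map_one]] at hc
  have hε := congrArg (CoalgebraStruct.counit (R := K)) hc
  rw [Bialgebra.counit_algebraMap, TensorProduct.counit_tmul, CommSemiring.counit_apply,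
    Algebra.smul_def, mul_one] at hε
  refine Groth.Agent.DiagHopfLib.one_tmul_injective (k := k) (A := C) K ?_
  show (1 : K) ⊗ₜ[k] f b = (1 : K) ⊗ₜ[k] _
  rw [hc, ← hε, Bialgebra.counitAlgHom_apply, Algebra.algebraMap_eq_smul_one (R := k) (A := C), TensorProduct.tmul_smul,
    Algebra.TensorProduct.algebraMap_apply, Algebra.algebraMap_self, RingHom.id_apply, TensorProduct.smul_tmul', Algebra.smul_def, mul_one]

end Groth.Agent.S5432
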