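import Groth.Statements.S5433
import Groth.Agent.MultProdLib.Product
import Groth.Agent.S4130
import Groth.Agent.DiagHopfLib.FieldDesc

set_option autoImplicit false
set_option backward.isDefEq.respectTransparency false
set_option backward.isDefEq.respectTransparency.types false
set_option maxRecDepth 8000
set_option maxHeartbeats 1000000
universe u
open TensorProduct
open SGA3

namespace Groth.Agent.S5433

/-- Let k be a perfect field and A a finitely generated commutative and cocommutative Hopf algebra over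
k (a commutative affine algebraic group G). Let J be the Hopf ideal of the largest subgroup of
multiplicative type M (A/J is of multiplicative type and J lies in every Hopf ideal whose quotient
is of multiplicative type). Then there is exactly one Hopf ideal I of A (a unipotent subgroup U)
such that A/I is unipotent in the fixed-vector sense and the map A → (A/J) ⊗ (A/I), a ↦ Σ ā₁ ⊗ ā₂
(the comorphism of the multiplication M × U → G), is bijective. -/
theorem result (k : Type u) [Field k] [PerfectField k] (A : Type u) [CommRing A] [HopfAlgebra k A] [Algebra.FiniteType k A]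
    [Coalgebra.IsCocomm k A] (J : Ideal A) [J.IsHopfIdeal k] (hJ : SGA3b.IsMultTypeConst k (A ⧸ J))
    (hJmax : ∀ (I : Ideal A) [I.IsHopfIdeal k], SGA3b.IsMultTypeConst k (A ⧸ I) → J ≤ I) :
    ∃! I : Ideal A, ∃ (_ : I.IsHopfIdeal k), HopfRep.IsUnipotent k (A ⧸ I) ∧
      Function.Bijective ((Algebra.TensorProduct.map (Ideal.Quotient.mkₐ k J) (Ideal.Quotient.mkₐ k I)).comp
        (Bialgebra.comulAlgHom k A)) := by
  classical
  obtain ⟨J', hJ'H, hJ'm, hJ'max, B, _, _, φ, hφ, hJ'eq, hBU⟩ := Groth.Agent.S4130.result k A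
  have hJJ : J = J' := le_antisymm (hJmax J' hJ'm) (hJ'max J hJ)
  let q : A →ₐc[k] A ⧸ J := Bialgebra.Quotient.mkBialgHom (R := k) J
  have hq : Function.Surjective q := Ideal.Quotient.mk_surjective
  have hle : RingHom.ker (q : A →+* A ⧸ J) ≤
      Ideal.map (φ : B →+* A) (RingHom.ker (Bialgebra.counitAlgHom k B)) := by
    intro a ha
    rw [← hJ'eq, ← hJJ]
    exact Ideal.Quotient.eq_zero_iff_mem.1 ha
  have hK := Groth.Agent.UnipHopf.exhaustive_of_isUnipotent hBU
  haveI : Algebra.FiniteType k (A ⧸ J) :=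
    Algebra.FiniteType.of_surjective (Ideal.Quotient.mkₐ k J) Ideal.Quotient.mk_surjective
  obtain ⟨R', _, _, hff, N₁, _, ⟨e'⟩⟩ : ∃ (R' : Type u) (_ : CommRing R') (_ : Algebra k R'), Module.FaithfullyFlat k R' ∧
      SGA3b.IsDiag R' (R' ⊗[k] (A ⧸ J)) := hJ
  haveI := hff
  obtain ⟨E₁⟩ := Groth.Agent.DiagHopf.exists_split_of_bialgEquiv e'
  obtain ⟨L, _, _, N, _, ⟨E₀⟩⟩ := Groth.Agent.DiagHopf.exists_field_split (Groth.Agent.DiagHopf.isMultType_of_split E₁)
  obtain ⟨E⟩ := Groth.Agent.DiagHopf.exists_split_algClosure' E₀ (AlgebraicClosure k)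
  obtain ⟨r, hr, huniq⟩ := MultProdLib.existsUnique_section q hq φ hφ hle hK E
  haveI hIH : (MultProdLib.compl r).IsHopfIdeal k := Groth.Agent.UnipSplit.isHopfIdeal_map r
  refine ⟨MultProdLib.compl r, ⟨hIH, ?_, MultProdLib.phi_bijective q r hr⟩, ?_⟩
  · -- the complement is a quotient of the unipotent part
    refine Groth.Agent.UnipHopf.isUnipotent_of_exhaustive fun b => ?_
    obtain ⟨a, rfl⟩ := Ideal.Quotient.mk_surjective b
    obtain ⟨c, hc⟩ := MultProdLib.exists_coinv q hq φ hle _ (MultProdLib.lamR_sig q r hr a)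
    let π := Bialgebra.Quotient.mkBialgHom (R := k) (MultProdLib.compl r)
    have h1 : (π : A →ₐ[k] A ⧸ MultProdLib.compl r).comp (MultProdLib.sig q r) = (π : A →ₐ[k] A ⧸ MultProdLib.compl r) := by
      refine (AlgHom.comp_convMul_distrib (π : A →ₐ[k] A ⧸ MultProdLib.compl r) (WithConv.toConv (AlgHom.id k A))
        (WithConv.toConv ((r : A ⧸ J →ₐ[k] A).comp (q : A →ₐ[k] A ⧸ J)))⁻¹).trans ?_
      have h2 : (π : A →ₐ[k] A ⧸ MultProdLib.compl r).comp
          (((r : A ⧸ J →ₐ[k] A).comp (q : A →ₐ[k] A ⧸ J)).comp (HopfAlgebra.antipodeAlgHom k A)) =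
          (Algebra.ofId k _).comp (Bialgebra.counitAlgHom k A) := AlgHom.ext fun y => by
        show Ideal.Quotient.mkₐ k (MultProdLib.compl r) (r (q (HopfAlgebraStruct.antipode (R := k) y))) =
          algebraMap k _ (CoalgebraStruct.counit (R := k) y)
        rw [MultProdLib.mk_section, CoalgHomClass.counit_comp_apply, HopfAlgebra.counit_antipode]
      show (WithConv.toConv ((π : A →ₐ[k] A ⧸ MultProdLib.compl r).comp (AlgHom.id k A)) *
        WithConv.toConv ((π : A →ₐ[k] A ⧸ MultProdLib.compl r).comp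
          (((r : A ⧸ J →ₐ[k] A).comp (q : A →ₐ[k] A ⧸ J)).comp (HopfAlgebra.antipodeAlgHom k A)))).ofConv = _
      rw [h2, AlgHom.comp_id]
      exact congrArg WithConv.ofConv (mul_one (WithConv.toConv (π : A →ₐ[k] A ⧸ MultProdLib.compl r)))
    obtain ⟨n, hn⟩ := hK c
    refine ⟨n, ?_⟩
    have h3 := Groth.Agent.UnipHopf.map_mem_K π (Groth.Agent.UnipHopf.map_mem_K φ hn)
    rw [hc] at h3
    rw [show Ideal.Quotient.mk (MultProdLib.compl r) a = π (MultProdLib.sig q r a) from (AlgHom.congr_fun h1 a).symm]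
    exact h3
  · rintro I ⟨hI, -, hb⟩
    haveI := hI
    obtain ⟨r', hr', rfl⟩ := MultProdLib.exists_section_of_bijective q I hb
    rw [huniq r' hr']

end Groth.Agent.S5433
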