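import Groth.Statements.S5434
import Groth.Agent.SchDenseLib.Ext

set_option backward.isDefEq.respectTransparency false

set_option autoImplicit false
universe u
open CategoryTheory MonoidalCategory CartesianMonoidalCategory MonObj GrpObj AlgebraicGeometry CategoryTheory.Limits
open SGA3x

namespace Groth.Agent.S5434

open TopologicalSpace

theorem dense_of_schDense {X : Scheme.{u}} (U : X.Opens) (hU : CInt.IsSchematicallyDense U) : Dense (U : Set X) := by
  rw [dense_iff_inter_open]
  intro W hW ⟨x, hx⟩
  by_contra hne
  rw [Set.not_nonempty_iff_eq_empty] at hne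
  let V : X.Opens := ⟨W, hW⟩
  have hbot : V ⊓ U = ⊥ := SetLike.coe_injective (by simpa [V] using hne)
  haveI : Subsingleton Γ(X, V ⊓ U) := by rw [hbot]; infer_instance
  haveI : Subsingleton Γ(X, V) := (hU V).subsingleton
  have h : (1 : X.presheaf.stalk x) = 0 := by
    rw [← map_one (X.presheaf.germ V x hx).hom, Subsingleton.elim (1 : Γ(X, V)) 0, map_zero]
  exact one_ne_zero h

/-- The agreement scheme of morphisms with separated targets has all points of a dense agreement set. -/
theorem surjective_agree {X Y S : Scheme.{u}} (p : X ⟶ S) (q : Y ⟶ S) [IsSeparated q] (f g : X ⟶ Y) (hf : f ≫ q = p)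
    (hg : g ≫ q = p) (U : X.Opens) (hU : Dense (U : Set X)) (h : U.ι ≫ f = U.ι ≫ g) :
    Surjective (pullback.fst (pullback.lift f g (hf.trans hg.symm)) (pullback.diagonal q)) := by
  haveI : IsClosedImmersion (pullback.diagonal q) := IsSeparated.isClosedImmersion_diagonal
  let k := pullback.fst (pullback.lift f g (hf.trans hg.symm)) (pullback.diagonal q)
  let l : (U : Scheme.{u}) ⟶ pullback (pullback.lift f g (hf.trans hg.symm)) (pullback.diagonal q) :=
    pullback.lift U.ι (U.ι ≫ f) (pullback.hom_ext (by simp) (by simp [h]))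
  have hle : (U : Set X) ⊆ Set.range k.base := fun x hx => ⟨l.base ⟨x, hx⟩, by
    rw [← Scheme.Hom.comp_apply, show l ≫ k = U.ι from pullback.lift_fst _ _ _]
    rfl⟩
  refine ⟨fun x => ?_⟩
  have h1 : closure (U : Set X) ⊆ Set.range k.base := closure_minimal hle k.isClosedEmbedding.isClosed_range
  exact h1 (hU x)

theorem schDense_of_iso {X X' : Scheme.{u}} (i : X' ⟶ X) [IsIso i] (U : X.Opens)
    (hU : CInt.IsSchematicallyDense (i ⁻¹ᵁ U)) : CInt.IsSchematicallyDense U := by
  intro V a b hab
  refine (ConcreteCategory.bijective_of_isIso (i.app V)).1 ?_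
  refine hU (i ⁻¹ᵁ V) ?_
  have nat := i.naturality (homOfLE (inf_le_left : V ⊓ U ≤ V)).op
  have e := congrArg (fun z => (i.app (V ⊓ U)).hom z) hab
  simp only [← CommRingCat.comp_apply, nat] at e
  exact e


/-- Let X be an S-scheme and U an open subscheme of X which is schematically dense in X relative to S:
for every S′ → S the preimage of U in X ×_S S′ is schematically dense (restriction of functions to
it is injective on every open). Let Y be an S-scheme whose fibres Y_s are separated (over κ(s)). If
two S-morphisms f, g : X → Y agree on U, then f = g. -/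
theorem result (S : Scheme.{u}) (X Y : Over S) (U : X.left.Opens) (hU : (∀ (S' : Scheme.{u}) (g : S' ⟶ S), CInt.IsSchematicallyDense ((pullback.fst X.hom g) ⁻¹ᵁ U)))
    (hY : ∀ s : S, IsSeparated (pullback.snd Y.hom (S.fromSpecResidueField s)))
    (f g : X ⟶ Y) (h : U.ι ≫ f.left = U.ι ≫ g.left) : f = g := by
  let hfg : f.left ≫ Y.hom = g.left ≫ Y.hom := (Over.w f).trans (Over.w g).symm
  let d := pullback.lift f.left g.left hfg
  let e : pullback d (pullback.diagonal Y.hom) ⟶ X.left := pullback.fst _ _
  haveI : IsImmersion e := MorphismProperty.pullback_fst _ _ inferInstance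
  haveI : Surjective e := ⟨fun x => by
    let s := X.hom.base x
    let c₀ := S.fromSpecResidueField s
    obtain ⟨z, hz⟩ : x ∈ Set.range (pullback.fst X.hom c₀).base := by
      rw [Scheme.Pullback.range_fst, Scheme.range_fromSpecResidueField]
      rfl
    let fs : pullback X.hom c₀ ⟶ pullback Y.hom c₀ :=
      pullback.lift (pullback.fst _ _ ≫ f.left) (pullback.snd _ _) (by rw [Category.assoc, Over.w f, pullback.condition])
    let gs : pullback X.hom c₀ ⟶ pullback Y.hom c₀ :=
      pullback.lift (pullback.fst _ _ ≫ g.left) (pullback.snd _ _) (by rw [Category.assoc, Over.w g, pullback.condition])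
    let π := pullback.fst X.hom c₀
    haveI := hY s
    haveI := surjective_agree (pullback.snd X.hom c₀) (pullback.snd Y.hom c₀) fs gs (pullback.lift_snd _ _ _)
      (pullback.lift_snd _ _ _) (π ⁻¹ᵁ U) (dense_of_schDense _ (hU _ c₀)) (by
        refine pullback.hom_ext ?_ (by simp [fs, gs])
        simp only [fs, gs, Category.assoc, pullback.lift_fst]
        rw [← Category.assoc, ← Category.assoc,
          show (π ⁻¹ᵁ U).ι ≫ pullback.fst X.hom c₀ = (π ∣_ U) ≫ U.ι from (morphismRestrict_ι _ _).symm,
          Category.assoc, Category.assoc, h])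
    obtain ⟨w, hw⟩ := (pullback.fst (pullback.lift fs gs ((pullback.lift_snd _ _ _).trans (pullback.lift_snd _ _ _).symm))
      (pullback.diagonal (pullback.snd Y.hom c₀))).surjective z
    let K := pullback (pullback.lift fs gs ((pullback.lift_snd _ _ _).trans (pullback.lift_snd _ _ _).symm))
      (pullback.diagonal (pullback.snd Y.hom c₀))
    have hK : pullback.fst _ _ ≫ fs = (pullback.fst _ _ ≫ gs : K ⟶ _) := by
      have c := pullback.condition (f := pullback.lift fs gs ((pullback.lift_snd _ _ _).trans (pullback.lift_snd _ _ _).symm))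
        (g := pullback.diagonal (pullback.snd Y.hom c₀))
      have c1 := congrArg (· ≫ pullback.fst _ _) c
      have c2 := congrArg (· ≫ pullback.snd _ _) c
      simp only [Category.assoc, pullback.lift_fst, pullback.lift_snd, pullback.diagonal_fst,
        pullback.diagonal_snd] at c1 c2
      exact c1.trans c2.symm
    have hK' := congrArg (· ≫ pullback.fst Y.hom c₀) hK
    simp only [fs, gs, Category.assoc, pullback.lift_fst] at hK'
    let w' : K ⟶ pullback d (pullback.diagonal Y.hom) := pullback.lift (pullback.fst _ _ ≫ π) (pullback.fst _ _ ≫ π ≫ f.left)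
      (pullback.hom_ext (by simp [d]) (by simpa [d, π] using hK'.symm))
    refine ⟨w'.base w, ?_⟩
    have he : w' ≫ e = pullback.fst _ _ ≫ π := pullback.lift_fst _ _ _
    have he' := congrArg (fun m => m.base w) he
    simp only [Scheme.Hom.comp_apply] at he'
    exact he'.trans ((congrArg π.base hw).trans hz)⟩
  haveI : IsClosedImmersion e := .of_isPreimmersion _ (by rw [e.surjective.range_eq]; exact isClosed_univ)
  have hU₀ : CInt.IsSchematicallyDense U := by
    have h1 := hU S (𝟙 S)
    exact schDense_of_iso (pullback.fst X.hom (𝟙 S)) U h1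
  haveI := SchDenseLib.isIso_of_factor U hU₀ e (pullback.lift U.ι (U.ι ≫ f.left) (pullback.hom_ext (by simp [d]) (by simp [d, h])))
    (pullback.lift_fst _ _ _)
  refine Over.OverMorphism.ext ?_
  rw [← cancel_epi e]
  have c := pullback.condition (f := d) (g := pullback.diagonal Y.hom)
  have c1 := congrArg (· ≫ pullback.fst _ _) c
  have c2 := congrArg (· ≫ pullback.snd _ _) c
  simp only [d, Category.assoc, pullback.lift_fst, pullback.lift_snd, pullback.diagonal_fst, pullback.diagonal_snd] at c1 c2
  exact c1.trans c2.symm

end Groth.Agent.S5434
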