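import Groth.Statements.S5436
import Groth.Agent.S5435
import Groth.Agent.MultSubFTLib.LevelQuot
import Groth.Agent.RepDescLib.Hom
-- import your own Groth.Agent.* helpers here

set_option autoImplicit false
set_option backward.isDefEq.respectTransparency false
set_option maxHeartbeats 1600000
universe u
open CategoryTheory MonoidalCategory CartesianMonoidalCategory MonObj GrpObj AlgebraicGeometry CategoryTheory.Limits
open SGA3x

namespace Groth.Agent.S5436
open CategoryTheory.Limits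
attribute [-instance] CategoryTheory.Hom.commGroup

theorem schDense_comap {X' X : Scheme.{u}} (j : X' ⟶ X) [IsOpenImmersion j] {U : X.Opens}
    (hU : CInt.IsSchematicallyDense U) : CInt.IsSchematicallyDense (j ⁻¹ᵁ U) := by
  intro V' a b hab
  have e : j ''ᵁ (V' ⊓ j ⁻¹ᵁ U) = j ''ᵁ V' ⊓ U := by
    refine SetLike.coe_injective ?_
    simp [Set.image_inter_preimage]
  refine (ConcreteCategory.bijective_of_isIso (j.appIso V').inv).1 ?_
  refine hU (j ''ᵁ V') ?_
  have n := Scheme.Hom.appIso_inv_naturality (f := j) (homOfLE (inf_le_left : V' ⊓ j ⁻¹ᵁ U ≤ V')).op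
  have h2 := congrArg (fun z => (X.presheaf.map (eqToHom e.symm).op).hom ((j.appIso (V' ⊓ j ⁻¹ᵁ U)).inv.hom z)) hab
  simp only [← CommRingCat.comp_apply, ← Category.assoc, n] at h2
  simp only [Category.assoc, ← X.presheaf.map_comp] at h2
  simp only [← CommRingCat.comp_apply]
  exact h2

variable {S : Scheme.{u}}

/-- An open which is schematically dense after every base change. -/
def RelDense (X : Over S) (D : X.left.Opens) : Prop :=
  ∀ (S' : Scheme.{u}) (g : S' ⟶ S), CInt.IsSchematicallyDense ((pullback.fst X.hom g) ⁻¹ᵁ D)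

theorem RelDense.comap {X Y : Over S} {D : X.left.Opens} (hD : RelDense X D) (i : Y ⟶ X) [IsOpenImmersion i.left] :
    RelDense Y (i.left ⁻¹ᵁ D) := fun S' g => by
  let r : pullback Y.hom g ⟶ pullback X.hom g :=
    pullback.lift (pullback.fst _ _ ≫ i.left) (pullback.snd _ _) (by rw [Category.assoc, Over.w i, pullback.condition])
  have hr : r ≫ pullback.fst X.hom g = pullback.fst Y.hom g ≫ i.left := pullback.lift_fst _ _ _
  have sq : IsPullback r (pullback.fst Y.hom g) (pullback.fst X.hom g) i.left := by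
    refine IsPullback.of_right ?_ hr (IsPullback.of_hasPullback X.hom g).flip
    rw [Over.w i, show r ≫ pullback.snd X.hom g = pullback.snd Y.hom g from pullback.lift_snd _ _ _]
    exact (IsPullback.of_hasPullback Y.hom g).flip
  haveI : IsOpenImmersion r := MorphismProperty.of_isPullback (P := @IsOpenImmersion) sq.flip inferInstance
  have h := schDense_comap r (hD S' g)
  rw [← Scheme.Hom.comp_preimage, hr, Scheme.Hom.comp_preimage] at h
  exact h

theorem RelDense.prod {G : Over S} {U : G.left.Opens} (hU : RelDense G U) (T : Over S) :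
    RelDense (G ⊗ T) ((fst G T).left ⁻¹ᵁ U) := fun S' g => by
  let p := pullback.fst (G ⊗ T).hom g
  let p₂ : pullback (G ⊗ T).hom g ⟶ pullback T.hom g :=
    pullback.lift (p ≫ (snd G T).left) (pullback.snd _ _) (by rw [Category.assoc, Over.w, pullback.condition])
  let r : pullback (G ⊗ T).hom g ⟶ pullback G.hom (pullback.snd T.hom g ≫ g) :=
    pullback.lift (p ≫ (fst G T).left) p₂
      (by rw [Category.assoc, Over.w, pullback.condition, ← Category.assoc, pullback.lift_snd])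
  let s₀ : pullback G.hom (pullback.snd T.hom g ≫ g) ⟶ (G ⊗ T).left :=
    pullback.lift (pullback.fst _ _) (pullback.snd _ _ ≫ pullback.fst _ _)
      (by rw [Category.assoc, pullback.condition, pullback.condition])
  have hs₀ : s₀ ≫ (G ⊗ T).hom = (pullback.snd _ _ ≫ pullback.snd _ _) ≫ g := by
    rw [← Over.w (fst G T), ← Category.assoc,
      show s₀ ≫ (fst G T).left = pullback.fst _ _ from pullback.lift_fst _ _ _, pullback.condition, Category.assoc]
  let s : pullback G.hom (pullback.snd T.hom g ≫ g) ⟶ pullback (G ⊗ T).hom g :=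
    pullback.lift s₀ (pullback.snd _ _ ≫ pullback.snd _ _) hs₀
  haveI : IsIso r := ⟨s, pullback.hom_ext (by
      rw [Category.assoc, pullback.lift_fst, Category.id_comp]
      exact pullback.hom_ext (by simp [r, s₀, p]) (by simp [r, s₀, p, p₂]))
      (by simp [r, s, p₂]),
    pullback.hom_ext (by simp [r, s, s₀, p]) (pullback.hom_ext (by simp [r, s, s₀, p₂, p]) (by simp [r, s, p₂]))⟩
  have hr : r ≫ pullback.fst G.hom _ = p ≫ (fst G T).left := pullback.lift_fst _ _ _
  have h := schDense_comap r (hU _ (pullback.snd T.hom g ≫ g))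
  rw [← Scheme.Hom.comp_preimage, hr, Scheme.Hom.comp_preimage] at h
  exact h

theorem RelDense.eq {X H : Over S} [GrpObj H] {D : X.left.Opens} (hD : RelDense X D) (u v : X ⟶ H)
    (h : D.ι ≫ u.left = D.ι ≫ v.left) : u = v :=
  Groth.Agent.S5434.result S X H D hD (fun s =>
    GrpField.isSeparated_grp (k := (S.residueField s : Type u)) (G := Red.bc (S.fromSpecResidueField s) H)) u v h

theorem RelDense.dense {X : Over S} {D : X.left.Opens} (hD : RelDense X D) : Dense (D : Set X.left) :=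
  Groth.Agent.S5434.dense_of_schDense _ (Groth.Agent.S5434.schDense_of_iso (pullback.fst X.hom (𝟙 S)) D (hD S (𝟙 S)))

theorem exists_factor {X G : Over S} {U : G.left.Opens} (jU : Over.mk (U.ι ≫ G.hom) ⟶ G) (hjU : jU.left = U.ι)
    (x : X ⟶ G) (hx : Set.range x.left.base ⊆ U) : ∃ a : X ⟶ Over.mk (U.ι ≫ G.hom), a ≫ jU = x := by
  have h : Set.range x.left.base ⊆ Set.range U.ι.base := by rwa [Scheme.Opens.range_ι]
  refine ⟨Over.homMk (IsOpenImmersion.lift U.ι x.left h) ?_, Over.OverMorphism.ext ?_⟩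
  · show _ ≫ U.ι ≫ G.hom = X.hom
    rw [← Category.assoc, IsOpenImmersion.lift_fac, Over.w]
  · rw [Over.comp_left, hjU]
    exact IsOpenImmersion.lift_fac _ _ _

theorem open_tensor {A A' B B' : Over S} (f : A ⟶ A') (g : B ⟶ B') [IsOpenImmersion f.left] [IsOpenImmersion g.left] :
    IsOpenImmersion (f ⊗ₘ g).left := by
  rw [Over.tensorHom_left]
  exact MorphismProperty.pullbackMap (P := @IsOpenImmersion) inferInstance inferInstance (Over.w f).symm (Over.w g).symm


/-- Let G be an S-group scheme, flat and locally of finite presentation over S, U an open subscheme of G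
schematically dense in G relative to S, H an S-group scheme and f̄ : U → H an S-morphism. Let V be
an open of G ×_S G contained in (U ×_S U) ∩ m⁻¹(U) and schematically dense in G ×_S G relative to S,
such that for every S-scheme X and all X-points a, b of U with (a, b) in V, the product ab (a point
of U) satisfies f̄(ab) = f̄(a) f̄(b). Then there is a unique homomorphism of S-groups f : G → H
whose restriction to U is f̄. (The published statement also covers certain sheaves of groups H for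
the fppf topology that are not schemes; this row takes H a group scheme.) -/
theorem result (S : Scheme.{u}) (G H : Over S) [GrpObj G] [GrpObj H] [Flat G.hom] [LocallyOfFinitePresentation G.hom]
    (U : G.left.Opens) (hU : (∀ (S' : Scheme.{u}) (g : S' ⟶ S), CInt.IsSchematicallyDense ((pullback.fst G.hom g) ⁻¹ᵁ U)))
    (jU : Over.mk (U.ι ≫ G.hom) ⟶ G) (hjU : jU.left = U.ι) (fbar : Over.mk (U.ι ≫ G.hom) ⟶ H)
    (V : (G ⊗ G).left.Opens) (hV : (∀ (S' : Scheme.{u}) (g : S' ⟶ S), CInt.IsSchematicallyDense ((pullback.fst (G ⊗ G).hom g) ⁻¹ᵁ V)))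
    (hV1 : V ≤ (fst G G).left ⁻¹ᵁ U) (hV2 : V ≤ (snd G G).left ⁻¹ᵁ U) (hVm : V ≤ μ[G].left ⁻¹ᵁ U)
    (hmul : ∀ (X : Over S) (a b : X ⟶ Over.mk (U.ι ≫ G.hom)),
      Set.range (lift (a ≫ jU) (b ≫ jU)).left.base ⊆ (V : Set ↥(G ⊗ G).left) →
      ∃ c : X ⟶ Over.mk (U.ι ≫ G.hom), c ≫ jU = (a ≫ jU) * (b ≫ jU) ∧ c ≫ fbar = (a ≫ fbar) * (b ≫ fbar)) :
    ∃! f : G ⟶ H, IsMonHom f ∧ jU ≫ f = fbar := by
  haveI : IsOpenImmersion jU.left := by rw [hjU]; infer_instance
  haveI : Mono jU := Over.mono_of_mono_left jU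
  have rU : RelDense G U := hU
  have rV : RelDense (G ⊗ G) V := hV
  haveI := open_tensor jU jU
  -- multiplicativity on U × U ∩ m⁻¹ U
  let m : (Over.mk (U.ι ≫ G.hom)) ⊗ (Over.mk (U.ι ≫ G.hom)) ⟶ G := (fst (Over.mk (U.ι ≫ G.hom)) (Over.mk (U.ι ≫ G.hom)) ≫ jU) * (snd (Over.mk (U.ι ≫ G.hom)) (Over.mk (U.ι ≫ G.hom)) ≫ jU)
  let F : (Over.mk (U.ι ≫ G.hom)) ⊗ (Over.mk (U.ι ≫ G.hom)) ⟶ H := (fst (Over.mk (U.ι ≫ G.hom)) (Over.mk (U.ι ≫ G.hom)) ≫ fbar) * (snd (Over.mk (U.ι ≫ G.hom)) (Over.mk (U.ι ≫ G.hom)) ≫ fbar)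
  have hext : ∀ {T : Over S} (a b c : T ⟶ (Over.mk (U.ι ≫ G.hom))), c ≫ jU = (a ≫ jU) * (b ≫ jU) → c ≫ fbar = (a ≫ fbar) * (b ≫ fbar) := by
    intro T a b c hc
    have key : pullback.snd m jU ≫ fbar = pullback.fst m jU ≫ F := by
      haveI : IsOpenImmersion (pullback.fst m jU).left :=
        MorphismProperty.of_isPullback (P := @IsOpenImmersion) ((IsPullback.of_hasPullback m jU).map (Over.forget _)).flip
          ‹IsOpenImmersion jU.left›
      let i : pullback m jU ⟶ G ⊗ G := pullback.fst m jU ≫ (jU ⊗ₘ jU)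
      haveI : IsOpenImmersion i.left := by rw [Over.comp_left]; infer_instance
      let D := i.left ⁻¹ᵁ V
      refine (rV.comap i).eq _ _ ?_
      let iD : Over.mk (D.ι ≫ (pullback m jU).hom) ⟶ pullback m jU := Over.homMk D.ι rfl
      suffices h : iD ≫ pullback.snd m jU ≫ fbar = iD ≫ pullback.fst m jU ≫ F from congrArg Over.Hom.left h
      obtain ⟨c', hc', hc''⟩ := hmul _ (iD ≫ pullback.fst m jU ≫ fst (Over.mk (U.ι ≫ G.hom)) (Over.mk (U.ι ≫ G.hom))) (iD ≫ pullback.fst m jU ≫ snd (Over.mk (U.ι ≫ G.hom)) (Over.mk (U.ι ≫ G.hom))) (by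
        have e : lift ((iD ≫ pullback.fst m jU ≫ fst (Over.mk (U.ι ≫ G.hom)) (Over.mk (U.ι ≫ G.hom))) ≫ jU) ((iD ≫ pullback.fst m jU ≫ snd (Over.mk (U.ι ≫ G.hom)) (Over.mk (U.ι ≫ G.hom))) ≫ jU) = iD ≫ i :=
          CartesianMonoidalCategory.hom_ext _ _ (by simp [i]) (by simp [i])
        rw [e]
        rintro _ ⟨z, rfl⟩
        exact z.2)
      have ec : c' = iD ≫ pullback.snd m jU := by
        rw [← cancel_mono jU, hc']
        simp only [← pullback.condition, m, MonObj.comp_mul, Category.assoc]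
      rw [← Category.assoc, ← ec, hc'']
      simp only [F, MonObj.comp_mul, Category.assoc]
    have e := (pullback.lift (lift a b) c (by simp only [m, MonObj.comp_mul, lift_fst_assoc, lift_snd_assoc, hc])) ≫= key
    simpa only [pullback.lift_fst_assoc, pullback.lift_snd_assoc, F, MonObj.comp_mul, lift_fst_assoc, lift_snd_assoc] using e
  -- independence of the decomposition
  have hind : ∀ {T : Over S} (a b c d : T ⟶ (Over.mk (U.ι ≫ G.hom))), (a ≫ jU) * (b ≫ jU) = (c ≫ jU) * (d ≫ jU) →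
      (a ≫ fbar) * (b ≫ fbar) = (c ≫ fbar) * (d ≫ fbar) := by
    intro T a b c d he
    let g₀ : G ⊗ (G ⊗ G) ⟶ G := fst G (G ⊗ G)
    let b₀ : G ⊗ (G ⊗ G) ⟶ G := snd G (G ⊗ G) ≫ fst G G
    let c₀ : G ⊗ (G ⊗ G) ⟶ G := snd G (G ⊗ G) ≫ snd G G
    let κ : G ⊗ (G ⊗ G) ⟶ (G ⊗ G) ⊗ (G ⊗ G) := lift (lift (g₀ * b₀⁻¹) b₀) (lift c₀ (c₀⁻¹ * g₀))
    let j₄ := (jU ⊗ₘ jU) ⊗ₘ (jU ⊗ₘ jU)
    haveI : IsOpenImmersion j₄.left := open_tensor _ _
    let i := pullback.fst κ j₄
    let P₁ := pullback.snd κ j₄ ≫ fst ((Over.mk (U.ι ≫ G.hom)) ⊗ (Over.mk (U.ι ≫ G.hom))) ((Over.mk (U.ι ≫ G.hom)) ⊗ (Over.mk (U.ι ≫ G.hom)))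
    let P₂ := pullback.snd κ j₄ ≫ snd ((Over.mk (U.ι ≫ G.hom)) ⊗ (Over.mk (U.ι ≫ G.hom))) ((Over.mk (U.ι ≫ G.hom)) ⊗ (Over.mk (U.ι ≫ G.hom)))
    have cond : i ≫ κ = pullback.snd κ j₄ ≫ j₄ := pullback.condition
    have c1 : P₁ ≫ fst (Over.mk (U.ι ≫ G.hom)) (Over.mk (U.ι ≫ G.hom)) ≫ jU = i ≫ (g₀ * b₀⁻¹) := by
      have := cond =≫ (fst _ _ ≫ fst _ _)
      simpa [κ, j₄, P₁] using this.symm
    have c2 : P₁ ≫ snd (Over.mk (U.ι ≫ G.hom)) (Over.mk (U.ι ≫ G.hom)) ≫ jU = i ≫ b₀ := by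
      have := cond =≫ (fst _ _ ≫ snd _ _)
      simpa [κ, j₄, P₁] using this.symm
    have c3 : P₂ ≫ fst (Over.mk (U.ι ≫ G.hom)) (Over.mk (U.ι ≫ G.hom)) ≫ jU = i ≫ c₀ := by
      have := cond =≫ (snd _ _ ≫ fst _ _)
      simpa [κ, j₄, P₂] using this.symm
    have c4 : P₂ ≫ snd (Over.mk (U.ι ≫ G.hom)) (Over.mk (U.ι ≫ G.hom)) ≫ jU = i ≫ (c₀⁻¹ * g₀) := by
      have := cond =≫ (snd _ _ ≫ snd _ _)
      simpa [κ, j₄, P₂] using this.symm
    have key : P₁ ≫ F = P₂ ≫ F := by
      haveI : IsOpenImmersion i.left :=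
        MorphismProperty.of_isPullback (P := @IsOpenImmersion) ((IsPullback.of_hasPullback κ j₄).map (Over.forget _)).flip
          ‹IsOpenImmersion j₄.left›
      let D := i.left ⁻¹ᵁ ((fst G (G ⊗ G)).left ⁻¹ᵁ U)
      refine ((rU.prod (G ⊗ G)).comap i).eq _ _ ?_
      let iD : Over.mk (D.ι ≫ (pullback κ j₄).hom) ⟶ pullback κ j₄ := Over.homMk D.ι rfl
      suffices h : iD ≫ P₁ ≫ F = iD ≫ P₂ ≫ F from congrArg Over.Hom.left h
      obtain ⟨e, hge⟩ := exists_factor jU hjU (iD ≫ i ≫ g₀) (by rintro _ ⟨z, rfl⟩; exact z.2)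
      have h1 := hext (iD ≫ P₁ ≫ fst (Over.mk (U.ι ≫ G.hom)) (Over.mk (U.ι ≫ G.hom))) (iD ≫ P₁ ≫ snd (Over.mk (U.ι ≫ G.hom)) (Over.mk (U.ι ≫ G.hom))) e (by
        rw [hge]
        simp only [Category.assoc, c1, c2, MonObj.comp_mul, GrpObj.comp_inv]
        group)
      have h2 := hext (iD ≫ P₂ ≫ fst (Over.mk (U.ι ≫ G.hom)) (Over.mk (U.ι ≫ G.hom))) (iD ≫ P₂ ≫ snd (Over.mk (U.ι ≫ G.hom)) (Over.mk (U.ι ≫ G.hom))) e (by
        rw [hge]
        simp only [Category.assoc, c3, c4, MonObj.comp_mul, GrpObj.comp_inv]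
        group)
      simp only [F, MonObj.comp_mul, Category.assoc] at h1 h2 ⊢
      rw [← h1, ← h2]
    have hl : lift ((a ≫ jU) * (b ≫ jU)) (lift (b ≫ jU) (c ≫ jU)) ≫ κ = lift (lift a b) (lift c d) ≫ j₄ := by
      refine CartesianMonoidalCategory.hom_ext _ _ (CartesianMonoidalCategory.hom_ext _ _ ?_ ?_)
        (CartesianMonoidalCategory.hom_ext _ _ ?_ ?_)
      all_goals simp [κ, j₄, g₀, b₀, c₀, MonObj.comp_mul, GrpObj.comp_inv, he]
      all_goals (try rw [← he])
      all_goals (try group)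
    have e := pullback.lift _ _ hl ≫= key
    simpa only [P₁, P₂, Category.assoc, pullback.lift_snd_assoc, lift_fst_assoc, lift_snd_assoc, F, MonObj.comp_mul] using e
  -- U × U → G is an fppf covering
  let sh : G ⊗ G ≅ G ⊗ G :=
    { hom := lift (fst G G * snd G G) (snd G G)
      inv := lift (fst G G * (snd G G)⁻¹) (snd G G)
      hom_inv_id := CartesianMonoidalCategory.hom_ext _ _
        (by simp [MonObj.comp_mul, GrpObj.comp_inv]) (by simp)
      inv_hom_id := CartesianMonoidalCategory.hom_ext _ _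
        (by simp [MonObj.comp_mul, GrpObj.comp_inv]) (by simp) }
  have hm : m = (jU ⊗ₘ jU) ≫ sh.hom ≫ fst G G := by simp [m, sh, MonObj.comp_mul]
  haveI : IsIso sh.hom.left := ((Over.forget _).mapIso sh).isIso_hom
  haveI : Flat (fst G G).left := (inferInstance : Flat (pullback.fst G.hom G.hom))
  haveI : LocallyOfFinitePresentation (fst G G).left :=
    (inferInstance : LocallyOfFinitePresentation (pullback.fst G.hom G.hom))
  haveI : Flat m.left := by rw [hm, Over.comp_left, Over.comp_left]; infer_instance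
  haveI : LocallyOfFinitePresentation m.left := by rw [hm, Over.comp_left, Over.comp_left]; infer_instance
  haveI : Surjective m.left := ⟨fun x => by
    let T : Over S := Over.mk (G.left.fromSpecResidueField x ≫ G.hom)
    let xT : T ⟶ G := Over.homMk (G.left.fromSpecResidueField x) rfl
    let y : G ⊗ T ⟶ G := fst G T
    let xx : G ⊗ T ⟶ G := snd G T ≫ xT
    let θ : G ⊗ T ≅ G ⊗ T :=
      { hom := lift (y⁻¹ * xx) (snd G T)
        inv := lift (xx * y⁻¹) (snd G T)
        hom_inv_id := CartesianMonoidalCategory.hom_ext _ _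
          (by simp [y, xx, MonObj.comp_mul, GrpObj.comp_inv]) (by simp)
        inv_hom_id := CartesianMonoidalCategory.hom_ext _ _
          (by simp [y, xx, MonObj.comp_mul, GrpObj.comp_inv]) (by simp) }
    haveI : IsIso θ.hom.left := ((Over.forget _).mapIso θ).isIso_hom
    have rA := rU.prod T
    have rB := rA.comap θ.hom
    have ne : Nonempty ↥(G ⊗ T).left :=
      ⟨(lift (1 : T ⟶ G) (𝟙 T)).left.base (Classical.arbitrary ↥(Spec (G.left.residueField x)))⟩
    obtain ⟨z, hzB, hzA⟩ : (((θ.hom.left ⁻¹ᵁ ((fst G T).left ⁻¹ᵁ U)) : Set ↥(G ⊗ T).left) ∩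
        ((fst G T).left ⁻¹ᵁ U : Set ↥(G ⊗ T).left)).Nonempty :=
      rA.dense.inter_open_nonempty _ (TopologicalSpace.Opens.isOpen _) rB.dense.nonempty
    let D := (θ.hom.left ⁻¹ᵁ ((fst G T).left ⁻¹ᵁ U)) ⊓ ((fst G T).left ⁻¹ᵁ U)
    let iD : Over.mk (D.ι ≫ (G ⊗ T).hom) ⟶ G ⊗ T := Over.homMk D.ι rfl
    obtain ⟨a, ha⟩ := exists_factor jU hjU (iD ≫ y) (by rintro _ ⟨w, rfl⟩; exact w.2.2)
    obtain ⟨b, hb⟩ := exists_factor jU hjU (iD ≫ θ.hom ≫ fst G T) (by rintro _ ⟨w, rfl⟩; exact w.2.1)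
    have e : lift a b ≫ m = iD ≫ snd G T ≫ xT := by
      simp only [m, MonObj.comp_mul, lift_fst_assoc, lift_snd_assoc, ha, hb, θ, lift_fst, GrpObj.comp_inv, xx]
      group
    refine ⟨(lift a b).left.base ⟨z, hzB, hzA⟩, ?_⟩
    rw [← Scheme.Hom.comp_apply, ← Over.comp_left, e]
    have hr : ∀ w, xT.left.base w = x := fun w => by
      have := Scheme.range_fromSpecResidueField x
      exact (this.le ⟨w, rfl⟩)
    exact hr _⟩
  haveI := MultSubFTLib.fpqc_of_open m.left m.left.isOpenMap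
  obtain ⟨f, hf, -⟩ := RepDescLib.hom_descend m F (fun T p q e => by
    simp only [F, MonObj.comp_mul, ← Category.assoc]
    refine hind _ _ _ _ ?_
    simpa only [m, MonObj.comp_mul, Category.assoc] using e)
  have hres : jU ≫ f = fbar := by
    have sq := (IsPullback.of_hasPullback jU m).map (Over.forget _)
    let π := pullback.fst jU m
    haveI : Flat π.left := MorphismProperty.of_isPullback (P := @Flat) sq.flip ‹Flat m.left›
    haveI : Surjective π.left := MorphismProperty.of_isPullback (P := @Surjective) sq.flip ‹Surjective m.left›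
    haveI : LocallyOfFinitePresentation π.left :=
      MorphismProperty.of_isPullback (P := @LocallyOfFinitePresentation) sq.flip ‹LocallyOfFinitePresentation m.left›
    haveI := MultSubFTLib.fpqc_of_open π.left π.left.isOpenMap
    obtain ⟨u, -, hu⟩ := RepDescLib.hom_descend π (π ≫ fbar) (fun T p q e => by rw [← Category.assoc, e, Category.assoc])
    refine (hu _ ?_).trans (hu fbar rfl).symm
    simp only [π]
    rw [pullback.condition_assoc, hf]
    have := hext (pullback.snd jU m ≫ fst (Over.mk (U.ι ≫ G.hom)) (Over.mk (U.ι ≫ G.hom))) (pullback.snd jU m ≫ snd (Over.mk (U.ι ≫ G.hom)) (Over.mk (U.ι ≫ G.hom))) (pullback.fst jU m) (by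
      rw [pullback.condition]
      simp only [m, MonObj.comp_mul, Category.assoc])
    rw [this]
    simp only [F, MonObj.comp_mul, Category.assoc]
  have hmu : μ[G] ≫ f = (fst G G ≫ f) * (snd G G ≫ f) := by
    refine rV.eq _ _ ?_
    let iV : Over.mk (V.ι ≫ (G ⊗ G).hom) ⟶ G ⊗ G := Over.homMk V.ι rfl
    suffices h : iV ≫ μ[G] ≫ f = iV ≫ ((fst G G ≫ f) * (snd G G ≫ f)) from congrArg Over.Hom.left h
    obtain ⟨a, ha⟩ := exists_factor jU hjU (iV ≫ fst G G) (by rintro _ ⟨w, rfl⟩; exact hV1 w.2)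
    obtain ⟨b, hb⟩ := exists_factor jU hjU (iV ≫ snd G G) (by rintro _ ⟨w, rfl⟩; exact hV2 w.2)
    obtain ⟨c, hc, hc'⟩ := hmul _ a b (by
      rw [ha, hb, ← comp_lift, lift_fst_snd, Category.comp_id]
      rintro _ ⟨w, rfl⟩
      exact w.2)
    rw [ha, hb, ← MonObj.comp_mul] at hc
    rw [← hres, ← Category.assoc, hc, ← Category.assoc a, ha, ← Category.assoc b, hb] at hc'
    simpa only [MonObj.comp_mul, ← MonObj.mul_eq_mul, Category.assoc] using hc'
  haveI : IsMonHom f :=
    { one_hom := by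
        have h := (lift (η[G]) (η[G])) ≫= hmu
        rw [← Category.assoc, ← Hom.mul_def, MonObj.comp_mul, lift_fst_assoc, lift_snd_assoc] at h
        have e : η[G] * η[G] = η[G] := by
          rw [show (η[G] : 𝟙_ (Over S) ⟶ G) = 1 by simp [Hom.one_def], _root_.mul_one]
        rw [e] at h
        rw [show (η[H] : 𝟙_ (Over S) ⟶ H) = 1 by simp [Hom.one_def]]
        exact left_eq_mul.mp h
      mul_hom := by
        rw [hmu, Hom.mul_def]
        congr 1 }
  refine ⟨f, ⟨inferInstance, hres⟩, fun g hg => ?_⟩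
  haveI := hg.1
  refine Groth.Agent.S5435.result S G H U hU g f ?_
  rw [← hjU, ← Over.comp_left, ← Over.comp_left, hg.2, hres]

end Groth.Agent.S5436
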