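import Groth.Statements.S5441
import Groth.Agent.HopfFFLib.Nilradical
import Mathlib

set_option autoImplicit false
set_option linter.all false
set_option backward.isDefEq.respectTransparency false
set_option maxHeartbeats 1600000
universe u
open TensorProduct
open SGA3
open WithConv

noncomputable section

namespace Groth.Agent.S5441

theorem isNilpotent_of_forall_point {k : Type u} [Field k] {D : Type u} [CommRing D] [Algebra k D]
    [Algebra.FiniteType k D] {d : D} (h : ∀ χ : D →ₐ[k] AlgebraicClosure k, χ d = 0) : IsNilpotent d := by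
  haveI : IsJacobsonRing D := isJacobsonRing_of_finiteType (A := k)
  rw [← mem_nilradical, nilradical, Ideal.zero_eq_bot, Ideal.radical_eq_jacobson, Ideal.jacobson, Submodule.mem_sInf]
  rintro m ⟨-, hm⟩
  haveI := hm
  letI : Field (D ⧸ m) := Ideal.Quotient.field m
  haveI : Module.Finite k (D ⧸ m) := finite_of_finite_type_of_isJacobsonRing k (D ⧸ m)
  have := h ((IsAlgClosed.lift (R := k) (S := D ⧸ m) (M := AlgebraicClosure k)).comp (Ideal.Quotient.mkₐ k m))
  exact Ideal.Quotient.eq_zero_iff_mem.1
    ((map_eq_zero (IsAlgClosed.lift (R := k) (S := D ⧸ m) (M := AlgebraicClosure k))).1 this)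

variable {k : Type u} [Field k] {A C : Type u} [CommRing A] [HopfAlgebra k A]
    [CommRing C] [HopfAlgebra k C] (ψ : C →ₐc[k] A) (J : Ideal A)
    (hJ : J = Ideal.map (ψ : C →+* A) (RingHom.ker (Bialgebra.counitAlgHom k C))) [IsLocalRing (A ⧸ J)]

include hJ in
/-- Points are determined by their restriction to C. -/
theorem point_ext {K : Type u} [Field K] [Algebra k K] [Algebra.IsIntegral k K] (x y : A →ₐ[k] K)
    (h : x.comp (ψ : C →ₐ[k] A) = y.comp (ψ : C →ₐ[k] A)) : x = y := by
  let S : WithConv (A →ₐ[k] K) := toConv (x.comp (HopfAlgebra.antipodeAlgHom k A))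
  have hone : x.comp (1 : WithConv (A →ₐ[k] A)).ofConv = (1 : WithConv (A →ₐ[k] K)).ofConv := by
    ext a; simp
  have hS : S * toConv x = 1 := by
    have e := AlgHom.comp_convMul_distrib x (toConv (HopfAlgebra.antipodeAlgHom k A)) (toConv (AlgHom.id k A))
    rw [AlgHom.antipode_id_cancel (A := A)] at e
    exact WithConv.ext ((Eq.trans hone.symm e).symm)
  have hS' : toConv x * S = 1 := by
    have e := AlgHom.comp_convMul_distrib x (toConv (AlgHom.id k A)) (toConv (HopfAlgebra.antipodeAlgHom k A))
    rw [show toConv (AlgHom.id k A) * toConv (HopfAlgebra.antipodeAlgHom k A) = 1 from mul_eq_one_comm.1 AlgHom.antipode_id_cancel] at e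
    exact WithConv.ext ((Eq.trans hone.symm e).symm)
  let z : WithConv (A →ₐ[k] K) := S * toConv y
  have hz : z.ofConv.comp (ψ : C →ₐ[k] A) = (1 : WithConv (C →ₐ[k] K)).ofConv := by
    have e1 := AlgHom.convMul_comp_bialgHom_distrib S (toConv y) ψ
    have e2 := AlgHom.convMul_comp_bialgHom_distrib S (toConv x) ψ
    rw [hS] at e2
    have e3 : (toConv y).ofConv.comp (ψ : C →ₐ[k] A) = (toConv x).ofConv.comp (ψ : C →ₐ[k] A) := h.symm
    show (S * toConv y).ofConv.comp (ψ : C →ₐ[k] A) = _
    rw [e1, e3, ← e2]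
    ext c
    simp
  have hJz : J ≤ RingHom.ker z.ofConv := by
    rw [hJ, Ideal.map_le_iff_le_comap]
    intro c hc
    have := AlgHom.congr_fun hz c
    show z.ofConv (ψ c) = 0
    refine this.trans ?_
    simp [show CoalgebraStruct.counit (R := k) c = 0 from hc]
  let ε := Bialgebra.counitAlgHom k A
  have hJe : J ≤ RingHom.ker ε := by
    rw [hJ, Ideal.map_le_iff_le_comap]
    intro c hc
    show CoalgebraStruct.counit (R := k) (ψ c) = 0
    rw [CoalgHomClass.counit_comp_apply]
    exact hc
  haveI h1 : (RingHom.ker ε).IsMaximal :=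
    RingHom.ker_isMaximal_of_surjective ε.toRingHom fun r => ⟨algebraMap k A r, by simp⟩
  haveI h2 : (RingHom.ker z.ofConv).IsMaximal := by
    haveI : (RingHom.ker z.ofConv).IsPrime := RingHom.ker_isPrime _
    exact Ideal.Quotient.maximal_of_isField _ (by
      haveI : Algebra.IsIntegral k (A ⧸ RingHom.ker z.ofConv) :=
        ⟨fun a => isIntegral_algHom_iff (Ideal.kerLiftAlg z.ofConv) (Ideal.kerLiftAlg_injective _) |>.1
          (Algebra.IsIntegral.isIntegral _)⟩
      exact isField_of_isIntegral_of_isField' (Field.toIsField k))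
  have hmax : ∀ m : Ideal A, m.IsMaximal → J ≤ m → m = RingHom.ker ε := by
    intro m hm hJm
    have e : ∀ n : Ideal A, n.IsMaximal → J ≤ n → n.map (Ideal.Quotient.mk J) = IsLocalRing.maximalIdeal (A ⧸ J) := by
      intro n hn hJn
      refine IsLocalRing.eq_maximalIdeal ?_
      haveI := hn
      refine (Ideal.map_eq_top_or_isMaximal_of_surjective _ Ideal.Quotient.mk_surjective hn).resolve_left fun ht => ?_
      have := congrArg (Ideal.comap (Ideal.Quotient.mk J)) ht
      rw [Ideal.comap_map_of_surjective _ Ideal.Quotient.mk_surjective, Ideal.comap_top, ← RingHom.ker_eq_comap_bot,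
        Ideal.mk_ker, sup_eq_left.2 hJn] at this
      exact hn.ne_top this
    have := congrArg (Ideal.comap (Ideal.Quotient.mk J)) ((e m hm hJm).trans (e _ h1 hJe).symm)
    rwa [Ideal.comap_map_of_surjective _ Ideal.Quotient.mk_surjective, Ideal.comap_map_of_surjective _
      Ideal.Quotient.mk_surjective, ← RingHom.ker_eq_comap_bot, Ideal.mk_ker, sup_eq_left.2 hJm,
      sup_eq_left.2 hJe] at this
  have hker := hmax _ h2 hJz
  have hz1 : z = 1 := by
    apply WithConv.ext
    ext a
    have hm : a - algebraMap k A (CoalgebraStruct.counit (R := k) a) ∈ RingHom.ker z.ofConv := by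
      rw [hker]; simp [ε, RingHom.mem_ker]
    have := RingHom.mem_ker.1 hm
    rw [map_sub, AlgHom.commutes, sub_eq_zero] at this
    rw [this]; simp
  have : toConv x = toConv y := by
    calc toConv x = toConv x * z := by rw [hz1, _root_.mul_one]
      _ = toConv y := by rw [← mul_assoc, hS', _root_.one_mul]
  exact toConv_injective this

include hJ in
theorem module_finite [Algebra.FiniteType k A] [Module.Finite k C] : Module.Finite k A := by
  haveI : Finite (C →ₐ[k] AlgebraicClosure k) := inferInstance
  haveI : Finite (A →ₐ[k] AlgebraicClosure k) := Finite.of_injective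
    (fun x => x.comp (ψ : C →ₐ[k] A)) fun x y h => point_ext ψ J hJ x y h
  have hsurj : ∀ m : Ideal A, m.IsMaximal → ∃ x : A →ₐ[k] AlgebraicClosure k, m = RingHom.ker x := by
    intro m hm
    haveI := hm
    letI : Field (A ⧸ m) := Ideal.Quotient.field m
    haveI : Module.Finite k (A ⧸ m) := finite_of_finite_type_of_isJacobsonRing k (A ⧸ m)
    refine ⟨(IsAlgClosed.lift (R := k) (S := A ⧸ m) (M := AlgebraicClosure k)).comp (Ideal.Quotient.mkₐ k m), ?_⟩
    ext a
    rw [RingHom.mem_ker, AlgHom.comp_apply, map_eq_zero]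
    exact Ideal.Quotient.eq_zero_iff_mem.symm
  have hfin : {m : Ideal A | m.IsMaximal}.Finite :=
    (Set.finite_range (fun x : A →ₐ[k] AlgebraicClosure k => RingHom.ker x)).subset fun m hm =>
      let ⟨x, hx⟩ := hsurj m hm; ⟨x, hx.symm⟩
  haveI : IsJacobsonRing A := isJacobsonRing_of_finiteType (A := k)
  haveI : Ring.KrullDimLE 0 A := Ring.KrullDimLE.mk₀ fun p hp => by
    haveI := hp
    have hj : p.jacobson = p := isJacobsonRing_iff.1 inferInstance p hp.isRadical
    classical
    have hle : (hfin.toFinset.filter (fun m => p ≤ m)).inf id ≤ p := by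
      intro a ha
      rw [← hj, Ideal.jacobson, Submodule.mem_sInf]
      rintro m ⟨hpm, hm⟩
      exact (Finset.inf_le (f := id) (Finset.mem_filter.2 ⟨hfin.mem_toFinset.2 hm, hpm⟩) :
        _ ≤ id m) ha
    obtain ⟨m, hm, hmp⟩ := (Ideal.IsPrime.inf_le' hp).1 hle
    obtain ⟨hm1, hm2⟩ := Finset.mem_filter.1 hm
    have hm' : m.IsMaximal := hfin.mem_toFinset.1 hm1
    rwa [le_antisymm hm2 hmp]
  haveI : IsNoetherianRing A := Algebra.FiniteType.isNoetherianRing k A
  rw [Module.finite_iff_isArtinianRing]
  exact IsNoetherianRing.isArtinianRing_of_krullDimLE_zero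

variable [PerfectField k]

include hJ in
theorem exists_decomp [Algebra.FiniteType k A] [Algebra.Etale k C] (hψ : Function.Injective ψ) (a : A) :
    ∃ c : C, IsNilpotent (a - ψ c) := by
  haveI : Module.Finite k C := Algebra.FormallyUnramified.finite_of_free k C
  haveI := module_finite ψ J hJ
  haveI : IsReduced C := Algebra.FormallyUnramified.isReduced_of_field k C
  let B := A ⧸ nilradical A
  haveI : IsReduced B := (Ideal.isRadical_iff_quotient_reduced _).1 (Ideal.radical_isRadical _)
  let π : A →ₐ[k] B := Ideal.Quotient.mkₐ k _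
  letI : Algebra C B := (π.comp (ψ : C →ₐ[k] A)).toRingHom.toAlgebra
  haveI : IsScalarTower k C B := IsScalarTower.of_algebraMap_eq' (π.comp (ψ : C →ₐ[k] A)).comp_algebraMap.symm
  haveI : Module.Finite C B := Module.Finite.of_restrictScalars_finite k C B
  haveI := Groth.Agent.HopfFF.isReduced_tensor_of_perfectField k B B
  haveI : IsArtinianRing (B ⊗[k] B) := IsArtinianRing.of_finite k _
  let g : B ⊗[k] B →ₐ[k] B ⊗[C] B := Algebra.TensorProduct.lift
    ((Algebra.TensorProduct.includeLeft : B →ₐ[C] B ⊗[C] B).restrictScalars k)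
    ((Algebra.TensorProduct.includeRight : B →ₐ[C] B ⊗[C] B).restrictScalars k) (fun _ _ => Commute.all _ _)
  have hg : Function.Surjective g := by
    intro z
    induction z using TensorProduct.induction_on with
    | zero => exact ⟨0, map_zero _⟩
    | tmul x y => exact ⟨x ⊗ₜ y, by simp [g]⟩
    | add x y hx hy =>
      obtain ⟨x', rfl⟩ := hx; obtain ⟨y', rfl⟩ := hy
      exact ⟨x' + y', map_add _ _ _⟩
  haveI : IsSemisimpleRing (B ⊗[k] B) := IsArtinianRing.isSemisimpleRing_of_isReduced _
  haveI : IsSemisimpleRing (B ⊗[C] B) := g.toRingHom.isSemisimpleRing_of_surjective hg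
  haveI : Algebra.FiniteType k (B ⊗[C] B) := Algebra.FiniteType.of_surjective g hg
  have hepi : Algebra.IsEpi C B := by
    rw [Algebra.isEpi_iff_forall_one_tmul_eq]
    intro b
    obtain ⟨b, rfl⟩ := Ideal.Quotient.mkₐ_surjective k (nilradical A) b
    refine sub_eq_zero.1 (IsNilpotent.eq_zero (isNilpotent_of_forall_point (k := k) fun χ => ?_))
    have e : (χ.comp ((Algebra.TensorProduct.includeRight : B →ₐ[C] B ⊗[C] B).restrictScalars k)).comp π =
        (χ.comp ((Algebra.TensorProduct.includeLeft : B →ₐ[C] B ⊗[C] B).restrictScalars k)).comp π := by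
      refine point_ext ψ J hJ _ _ (AlgHom.ext fun c => ?_)
      show χ (1 ⊗ₜ algebraMap C B c) = χ (algebraMap C B c ⊗ₜ 1)
      rw [Algebra.TensorProduct.tmul_one_eq_one_tmul]
    rw [map_sub, sub_eq_zero]
    exact AlgHom.congr_fun e b
  obtain ⟨c, hc⟩ := (Algebra.isEpi_iff_surjective_algebraMap_of_finite).1 hepi (π a)
  exact ⟨c, mem_nilradical.1 (Ideal.Quotient.eq.1 hc.symm)⟩

/-- Let k be a perfect field, A a finitely generated commutative Hopf algebra (an algebraic group H), ψ
: C → A an injective bialgebra map with C an étale k-algebra (the étale quotient H″), J the Hopf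
ideal of A generated by the image of the augmentation ideal of C (the kernel H′ = Spec (A/J)), with
A/J a local ring (H′ radiciel). Then H″ lifts uniquely into H and the lifting is the reduced
subgroup: there is exactly one bialgebra map r : A → C with r ∘ ψ = id, and every such r has kernel
the nilradical of A. -/
theorem result (k : Type u) [Field k] [PerfectField k] (A C : Type u) [CommRing A] [HopfAlgebra k A] [Algebra.FiniteType k A]
    [CommRing C] [HopfAlgebra k C] [Algebra.Etale k C] (ψ : C →ₐc[k] A) (hψ : Function.Injective ψ)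
    (J : Ideal A) [J.IsHopfIdeal k] (hJ : J = Ideal.map (ψ : C →+* A) (RingHom.ker (Bialgebra.counitAlgHom k C)))
    [IsLocalRing (A ⧸ J)] :
    (∃! r : A →ₐc[k] C, r.comp ψ = BialgHom.id k C) ∧
    ∀ r : A →ₐc[k] C, r.comp ψ = BialgHom.id k C → RingHom.ker (r : A →+* C) = nilradical A := by
  haveI : IsReduced C := Algebra.FormallyUnramified.isReduced_of_field k C
  choose s hs using exists_decomp ψ J hJ hψ
  have hext : ∀ {R : Type u} [CommRing R] [Algebra k R] [IsReduced R] (f g : A →ₐ[k] R),
      (∀ c, f (ψ c) = g (ψ c)) → f = g := fun {R} _ _ _ f g h => AlgHom.ext fun a => by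
    have h1 := ((hs a).map f).eq_zero
    have h2 := ((hs a).map g).eq_zero
    rw [map_sub, sub_eq_zero] at h1 h2
    rw [h1, h2, h]
  have huniq : ∀ a c, IsNilpotent (a - ψ c) → s a = c := fun a c h => by
    refine sub_eq_zero.1 (IsNilpotent.eq_zero ?_)
    have h3 : IsNilpotent (ψ (s a - c)) := by
      rw [map_sub, show ψ (s a) - ψ c = (a - ψ c) - (a - ψ (s a)) by ring]
      exact Commute.isNilpotent_sub (Commute.all _ _) h (hs a)
    exact (IsNilpotent.map_iff (f := (ψ : C →+* A)) hψ).1 h3
  have hadd : ∀ a b, IsNilpotent (a + b - ψ (s a + s b)) := fun a b => by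
    rw [map_add, show a + b - (ψ (s a) + ψ (s b)) = (a - ψ (s a)) + (b - ψ (s b)) by ring]
    exact Commute.isNilpotent_add (Commute.all _ _) (hs a) (hs b)
  have hmul : ∀ a b, IsNilpotent (a * b - ψ (s a * s b)) := fun a b => by
    rw [map_mul, show a * b - ψ (s a) * ψ (s b) = a * (b - ψ (s b)) + (a - ψ (s a)) * ψ (s b) by ring]
    exact Commute.isNilpotent_add (Commute.all _ _) (Commute.isNilpotent_mul_left (Commute.all _ _) (hs b))
      (Commute.isNilpotent_mul_right (Commute.all _ _) (hs a))
  have hψs : ∀ c, s (ψ c) = c := fun c => huniq _ _ (by simp)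
  let r₀ : A →ₐ[k] C :=
    { toFun := s
      map_one' := by simpa using hψs 1
      map_zero' := by simpa using hψs 0
      map_add' := fun a b => huniq _ _ (hadd a b)
      map_mul' := fun a b => huniq _ _ (hmul a b)
      commutes' := fun x => by
        have e : ψ (algebraMap k C x) = algebraMap k A x := (ψ : C →ₐ[k] A).commutes x
        rw [← e]; exact hψs _ }
  haveI := Groth.Agent.HopfFF.isReduced_tensor_of_perfectField k C C
  let r : A →ₐc[k] C := BialgHom.ofAlgHom r₀
    (hext _ _ fun c => by
      show CoalgebraStruct.counit (R := k) (s (ψ c)) = CoalgebraStruct.counit (R := k) (ψ c)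
      rw [hψs, CoalgHomClass.counit_comp_apply])
    (hext _ _ fun c => by
      show Algebra.TensorProduct.map r₀ r₀ (CoalgebraStruct.comul (R := k) (ψ c)) =
        CoalgebraStruct.comul (R := k) (s (ψ c))
      rw [hψs, ← CoalgHomClass.map_comp_comul_apply]
      generalize CoalgebraStruct.comul (R := k) c = z
      induction z using TensorProduct.induction_on with
      | zero => simp
      | add x y hx hy => simp only [map_add, hx, hy]
      | tmul x y => simp [r₀, hψs])
  have key : ∀ r' : A →ₐc[k] C, r'.comp ψ = BialgHom.id k C → ∀ a, r' a = s a := fun r' hr' a =>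
    (AlgHom.congr_fun (hext (r' : A →ₐ[k] C) r₀ fun c => by
      show r' (ψ c) = s (ψ c)
      rw [hψs]; exact DFunLike.congr_fun hr' c) a)
  refine ⟨⟨r, DFunLike.ext _ _ fun c => hψs c, fun r' hr' => DFunLike.ext _ _ fun a => key r' hr' a⟩,
    fun r' hr' => ?_⟩
  ext a
  rw [RingHom.mem_ker, mem_nilradical]
  change r' a = 0 ↔ _
  rw [key r' hr']
  refine ⟨fun h => ?_, fun h => huniq a 0 (by simpa using h)⟩
  simpa [h] using hs a

end Groth.Agent.S5441
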