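import Groth.Statements.S5444
import Groth.Agent.S4972
-- import your own Groth.Agent.* helpers here

set_option autoImplicit false
set_option linter.all false
universe u
open CategoryTheory AlgebraicGeometry Topology
open SGA3x

namespace Groth.Agent.S5444

/-- Let f : Y → S be a morphism of finite presentation, (a_i)_{i ∈ I} a family of sections of f, and s₀,
s₁ two points of S with s₀ a specialization of s₁. For j = 0, 1 let C_j be the closure in the fibre
Y_{s_j} (with its subspace topology) of the set of points a_i(s_j). Then dim C₁ ≥ dim C₀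
(topological Krull dimensions). -/
theorem result (S Y : Scheme.{u}) (f : Y ⟶ S) [QuasiCompact f] [QuasiSeparated f] [LocallyOfFinitePresentation f]
    (ι : Type u) (a : ι → (S ⟶ Y)) (ha : ∀ i, a i ≫ f = 𝟙 S) (s₀ s₁ : S) (h : s₁ ⤳ s₀) :
    topologicalKrullDim ↥(f.base ⁻¹' {s₀} ∩ closure (Set.range fun i => (a i).base s₀)) ≤
      topologicalKrullDim ↥(f.base ⁻¹' {s₁} ∩ closure (Set.range fun i => (a i).base s₁)) := by
  have key := Groth.Agent.S4972.result f (fun _ : ι => S) (fun _ => 𝟙 S) a ha s₀ s₁ h
  have e : ∀ t : S, f.base ⁻¹' {t} ∩ closure ((⋃ i, Set.range (a i).base) ∩ f.base ⁻¹' {t}) =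
      f.base ⁻¹' {t} ∩ closure (Set.range fun i => (a i).base t) := by
    intro t
    congr 2
    ext y
    simp only [Set.mem_inter_iff, Set.mem_iUnion, Set.mem_range, Set.mem_preimage, Set.mem_singleton_iff]
    constructor
    · rintro ⟨⟨i, s, rfl⟩, hs⟩
      have : s = t := by
        rw [← Scheme.Hom.comp_apply, ha i] at hs
        exact hs
      exact ⟨i, by rw [this]⟩
    · rintro ⟨i, rfl⟩
      refine ⟨⟨i, t, rfl⟩, ?_⟩
      rw [← Scheme.Hom.comp_apply, ha i]
      rfl
  simp only at key
  rw [e s₀, e s₁] at key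
  exact key


end Groth.Agent.S5444
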