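import Groth.Statements.S5447
import Groth.Agent.RootSys.Facts
-- import your own Groth.Agent.* helpers here

set_option autoImplicit false
open RootD

namespace Groth.Agent.S5447

open RootSysLib RootBasicLib RootPairing

/-- If every root can be written in exactly one way as an integer combination of the roots indexed by Δ
with coefficients all of the same sign, then these roots are linearly independent (so Δ is a system
of simple roots) and indivisible. -/
theorem result {ι M N : Type*} [AddCommGroup M] [AddCommGroup N]
    (P : RootPairing ι ℤ M N) [Finite ι] (Δ : Set ι)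
    (h : ∀ k : ι, ∃! c : ι →₀ ℤ, (↑c.support ⊆ Δ ∧ ((∀ j, 0 ≤ c j) ∨ (∀ j, c j ≤ 0)) ∧
      Finsupp.linearCombination ℤ P.root c = P.root k)) :
    RootD.IsSimpleSys P Δ ∧ ∀ i ∈ Δ, RootD.IsIndiv P i := by
  classical
  have hrep : ∀ a ∈ Δ, ∀ c : ι →₀ ℤ, ↑c.support ⊆ Δ → (∀ j, 0 ≤ c j) →
      Finsupp.linearCombination ℤ P.root c = P.root a → c = Finsupp.single a 1 := fun a ha c hc hc0 he =>
    (h a).unique ⟨hc, Or.inl hc0, he⟩
      ⟨by simpa [Finsupp.support_single] using ha, Or.inl fun j => by
        rw [Finsupp.single_apply]; split <;> simp, by simp⟩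
  have hS : RootD.IsPosSys P (RootD.posOf P Δ) := by
    refine isPosSys_of_closed (fun k hk hk' => ?_) (fun k => ?_) fun i j k hi hj he => ?_
    · obtain ⟨c, hc, hc0, he⟩ := exists_finsupp_of_mem_natSpan hk
      obtain ⟨d, hd, hd0, hde⟩ := exists_finsupp_of_mem_natSpan hk'
      obtain ⟨a, ha⟩ : c.support.Nonempty := by
        rw [Finset.nonempty_iff_ne_empty, ne_eq, Finsupp.support_eq_empty]
        intro hcz
        rw [hcz, map_zero] at he
        exact P.ne_zero k he.symm
      have h1 := hrep a (hc ha) (Finsupp.single a 1 + (c + d)) ?_ ?_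
        (by rw [map_add, map_add, he, hde, root_neg, add_neg_cancel, add_zero]; simp)
      · have h2 := DFunLike.congr_fun h1 a
        simp only [Finsupp.add_apply] at h2
        have := hd0 a
        have := hc0 a
        have := Finsupp.mem_support_iff.1 ha
        omega
      · intro x hx
        rcases Finset.mem_union.1 (Finsupp.support_add hx) with hx | hx
        · rw [Finset.mem_singleton.1 (Finsupp.support_single_subset hx)]; exact hc ha
        · exact (Finset.mem_union.1 (Finsupp.support_add hx)).elim (fun h => hc h) fun h => hd h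
      · intro j
        simp only [Finsupp.add_apply, Finsupp.single_apply]
        have := hd0 j
        have := hc0 j
        split <;> omega
    · obtain ⟨c, ⟨hc, hs, he⟩, -⟩ := h k
      rcases hs with hs | hs
      · left
        show P.root k ∈ RootD.natSpan P Δ
        rw [← he]
        exact finsupp_mem_natSpan hs fun a ha => hc (Finsupp.mem_support_iff.2 ha)
      · right
        show P.root _ ∈ RootD.natSpan P Δ
        rw [root_neg, ← he, ← map_neg]
        exact finsupp_mem_natSpan (fun a => neg_nonneg.2 (hs a)) fun a ha =>
          hc (Finsupp.mem_support_iff.2 (by simpa using ha))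
    · show P.root k ∈ RootD.natSpan P Δ
      rw [he]
      exact add_mem hi hj
  have hle : Δ ⊆ indec P (RootD.posOf P Δ) := by
    refine fun a ha => ⟨self_subset_posOf Δ ha, ?_⟩
    rintro ⟨i, j, hi, hj, he⟩
    obtain ⟨c, hc, hc0, hce⟩ := exists_finsupp_of_mem_natSpan hi
    obtain ⟨d, hd, hd0, hde⟩ := exists_finsupp_of_mem_natSpan hj
    have h1 := hrep a ha (c + d)
      (fun x hx => (Finset.mem_union.1 (Finsupp.support_add hx)).elim (fun h => hc h) fun h => hd h)
      (fun x => add_nonneg (hc0 x) (hd0 x)) (by rw [map_add, hce, hde, he])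
    have hoff : ∀ b, b ≠ a → c b = 0 ∧ d b = 0 := fun b hb => by
      have h2 := DFunLike.congr_fun h1 b
      rw [Finsupp.single_eq_of_ne hb, Finsupp.add_apply] at h2
      have := hc0 b
      have := hd0 b
      omega
    have h2 := DFunLike.congr_fun h1 a
    rw [Finsupp.single_eq_same, Finsupp.add_apply] at h2
    by_cases hca : c a = 0
    · refine P.ne_zero i ?_
      rw [← hce, show c = 0 from Finsupp.ext fun b => ?_, map_zero]
      by_cases hb : b = a
      · subst hb; simpa using hca
      · simpa using (hoff b hb).1
    · refine P.ne_zero j ?_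
      rw [← hde, show d = 0 from Finsupp.ext fun b => ?_, map_zero]
      by_cases hb : b = a
      · subst hb
        have := hc0 b
        have := hd0 b
        simp only [Finsupp.coe_zero, Pi.zero_apply]
        omega
      · simpa using (hoff b hb).2
  have hΔ : RootD.IsSimpleSys P Δ := ⟨(linIndep_indec hS).mono hle, fun i => by
    rcases hS.cover i with h | h
    · exact Or.inl h
    · refine Or.inr ?_
      rw [← root_neg (P := P)]
      exact h⟩
  exact ⟨hΔ, fun i hi => isIndiv_of_mem hΔ hi⟩


end Groth.Agent.S5447
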