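import Groth.Statements.S5451
import Groth.Agent.RootSys.Facts
-- import your own Groth.Agent.* helpers here

set_option autoImplicit false
open RootD

namespace Groth.Agent.S5451

open RootSysLib RootBasicLib RootPairing

/-- If a root is a positive integer combination of roots α_i, then it can be reached from 0 by
successively adding roots taken among the α_i in such a way that every partial sum is a root. -/
theorem result {ι M N : Type*} [AddCommGroup M] [AddCommGroup N]
    (P : RootPairing ι ℤ M N) [Finite ι] {n : ℕ} (a : Fin n → ι) (m : Fin n → ℕ)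
    (hm : ∀ i, 0 < m i) (k : ι) (hk : P.root k = ∑ i, m i • P.root (a i)) :
    ∃ (l : ℕ) (b : Fin l → Fin n), 0 < l ∧
      (∀ p : Fin l, ∃ j : ι, P.root j = ∑ q ∈ Finset.univ.filter (fun q : Fin l => q.val ≤ p.val), P.root (a (b q))) ∧
      P.root k = ∑ q, P.root (a (b q)) := by
  classical
  let Q : ι → Prop := fun k => ∃ (l : ℕ) (b : Fin l → Fin n), 0 < l ∧
    (∀ p : Fin l, ∃ j : ι, P.root j =
      ∑ q ∈ Finset.univ.filter (fun q : Fin l => q.val ≤ p.val), P.root (a (b q))) ∧
    P.root k = ∑ q, P.root (a (b q))
  have hone : ∀ x, Q (a x) := fun x => ⟨1, fun _ => x, one_pos,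
    fun p => ⟨a x, by simp [Subsingleton.elim p 0]⟩, by simp⟩
  have hsnoc : ∀ k k' x, Q k' → P.root k = P.root k' + P.root (a x) → Q k := by
    rintro k k' x ⟨l, b, hl, hp, he⟩ hk
    refine ⟨l + 1, Fin.snoc b x, l.succ_pos, fun p => ?_, ?_⟩
    · induction p using Fin.lastCases with
      | last =>
        refine ⟨k, ?_⟩
        rw [Finset.filter_true_of_mem fun q _ => (Nat.lt_succ_iff.1 q.isLt : q.val ≤ l),
          Fin.sum_univ_castSucc]
        simp [hk, he]
      | cast p =>
        obtain ⟨j, hj⟩ := hp p
        refine ⟨j, ?_⟩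
        rw [hj, Finset.sum_filter, Finset.sum_filter, Fin.sum_univ_castSucc]
        have hnot : ¬ (l ≤ p.val) := not_le.2 p.isLt
        simp [hnot]
    · rw [Fin.sum_univ_castSucc]
      simp [hk, he]
  suffices key : ∀ L : List (Fin n), ∀ k, ((L.map a).map P.root).sum = P.root k → Q k from
    key ((List.ofFn fun i : Fin n => List.replicate (m i) i).flatten) k (by
      rw [List.map_flatten, List.map_flatten, List.sum_flatten, hk]
      simp [List.map_ofFn, List.sum_ofFn, Function.comp_def])
  intro L
  induction hL : L.length using Nat.strong_induction_on generalizing L with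
  | _ N ih =>
    intro k hk
    obtain ⟨r, hr, hp⟩ := exists_pairing_pos_of_sum_eq P hk
    obtain ⟨x, hx, rfl⟩ := List.mem_map.1 hr
    by_cases hkx : k = a x
    · exact hkx ▸ hone x
    obtain ⟨k', hk'⟩ := exists_root_eq_sub P hp hkx
    refine hsnoc k k' x (ih (L.erase x).length ?_ (L.erase x) rfl k' ?_) (by rw [hk']; abel)
    · rw [← hL, List.length_erase_of_mem hx]
      have := List.length_pos_of_mem hx
      omega
    · have hs := (((List.perm_cons_erase hx).map a).map P.root).sum_eq
      rw [hk, List.map_cons, List.map_cons, List.sum_cons] at hs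
      rw [hk', hs]
      abel


end Groth.Agent.S5451
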