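import Groth.Statements.S5452
import Groth.Agent.RootSys.Facts
-- import your own Groth.Agent.* helpers here

set_option autoImplicit false
open RootPairing
open scoped Pointwise
open RootD

namespace Groth.Agent.S5452

open RootSysLib RootBasicLib RootPairing

/-- The Weyl group of a root datum acts faithfully on the set of roots. -/
theorem result {ι M N : Type*} [AddCommGroup M] [AddCommGroup N]
    (P : RootPairing ι ℤ M N) [Finite ι] :
    Function.Injective P.weylGroupToPerm := by
  obtain ⟨Δ, hΔ⟩ := exists_isSimpleSys P
  rw [injective_iff_map_eq_one]
  intro g hg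
  apply Subtype.ext
  refine eq_one_of_preserves hΔ g.2 fun a ha => ?_
  have h : (g : P.Aut) • a = a := Equiv.ext_iff.1 hg a
  rw [h]
  exact self_subset_posOf Δ ha


end Groth.Agent.S5452
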