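import Groth.Statements.S5455
import Groth.Agent.RootSys.Facts
-- import your own Groth.Agent.* helpers here

set_option autoImplicit false
open RootPairing
open scoped Pointwise
open RootD

namespace Groth.Agent.S5455

open RootSysLib RootBasicLib RootPairing

/-- The Weyl group acts transitively on the set of systems of simple roots (root-only sense). -/
theorem result {ι M N : Type*} [AddCommGroup M] [AddCommGroup N]
    (P : RootPairing ι ℤ M N) [Finite ι] (Δ Δ' : Set ι) (hΔ : RootD.IsSimpleSys P Δ)
    (hΔ' : RootD.IsSimpleSys P Δ') :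
    ∃ g : P.Aut, g ∈ P.weylGroup ∧ (fun i : ι => g • i) '' Δ = Δ' := by
  obtain ⟨g, hg, h⟩ := exists_image_eq (isPosSys_posOf hΔ) (isPosSys_posOf hΔ')
  exact ⟨g, hg, image_eq_of_posOf hΔ hΔ' g h⟩


end Groth.Agent.S5455
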