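import Groth.Statements.S5463
import Groth.Agent.RootSys.Facts
-- import your own Groth.Agent.* helpers here

set_option autoImplicit false
open RootPairing
open scoped Pointwise
open RootD

namespace Groth.Agent.S5463

open RootSysLib RootBasicLib RootPairing

/-- An element w of the Weyl group belongs to the subgroup generated by the reflections in Δ' ⊆ Δ (Δ a
system of simple roots) if and only if w(α) - α lies in the rational span of Δ' for every root α. -/
theorem result {ι M N : Type*} [AddCommGroup M] [AddCommGroup N]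
    (P : RootPairing ι ℤ M N) [Finite ι] (Δ Δ' : Set ι) (hΔ : RootD.IsSimpleSys P Δ)
    (hsub : Δ' ⊆ Δ) (g : P.Aut) (hg : g ∈ P.weylGroup) :
    g ∈ Subgroup.closure ((fun i : ι => Equiv.reflection P i) '' Δ') ↔
      ∀ k : ι, ∃ n : ℕ, 0 < n ∧ n • (P.root (g • k) - P.root k) ∈ Submodule.span ℤ (P.root '' Δ') := by
  classical
  constructor
  · intro hg' k
    refine ⟨1, one_pos, ?_⟩
    rw [one_smul, ← lc_coef hΔ (g • k), ← lc_coef hΔ k, ← map_sub]
    refine (Finsupp.mem_span_image_iff_linearCombination ℤ).2
      ⟨_, (Finsupp.mem_supported ℤ _).2 fun a ha => ?_, rfl⟩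
    by_contra hne
    exact Finsupp.mem_support_iff.1 ha (by rw [Finsupp.sub_apply, coef_smul_eq hΔ hsub hg' k a hne, sub_self])
  · intro h
    refine mem_closure_of_coef hΔ hsub hg fun k a ha => ?_
    obtain ⟨n, hn, hmem⟩ := h k
    obtain ⟨c, hc, he⟩ := (Finsupp.mem_span_image_iff_linearCombination ℤ).1 hmem
    rw [Finsupp.mem_supported] at hc
    have h1 : n • (coef hΔ (g • k) - coef hΔ k) = c := coeff_eq_of_linInd hΔ.linInd
      (fun x hx => (Finset.mem_union.1 (Finsupp.support_sub (Finsupp.support_smul hx))).elim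
        (fun h => support_coef hΔ _ h) fun h => support_coef hΔ _ h)
      (fun x hx => hsub (hc hx)) (by rw [map_nsmul, map_sub, lc_coef, lc_coef, he])
    have h2 := DFunLike.congr_fun h1 a
    rw [Finsupp.notMem_support_iff.1 fun h => ha (hc h), Finsupp.smul_apply, Finsupp.sub_apply,
      smul_eq_zero] at h2
    rcases h2 with h2 | h2
    · omega
    · exact sub_eq_zero.1 h2


end Groth.Agent.S5463
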