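import Groth.Statements.S5464
import Groth.Agent.RootSys.Facts
-- import your own Groth.Agent.* helpers here

set_option autoImplicit false
open RootD

namespace Groth.Agent.S5464

open RootSysLib RootBasicLib RootPairing

/-- Given an indivisible root α and a root γ not proportional to it, there is a system of simple roots
containing α and a simple root β of it with γ = aα + bβ, a, b ∈ ℕ. -/
theorem result {ι M N : Type*} [AddCommGroup M] [AddCommGroup N]
    (P : RootPairing ι ℤ M N) [Finite ι] (i k : ι) (hα : RootD.IsIndiv P i)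
    (hli : LinearIndependent ℤ ![P.root i, P.root k]) :
    ∃ Δ : Set ι, RootD.IsSimpleSys P Δ ∧ i ∈ Δ ∧
      ∃ j ∈ Δ, ∃ a b : ℕ, P.root k = a • P.root i + b • P.root j := by
  classical
  obtain ⟨Δ0, hΔ0⟩ := exists_isSimpleSys P
  obtain ⟨g, -, a, ha, hga⟩ := exists_conj hΔ0 hα
  have hΔ1 := isSimpleSys_image hΔ0 g
  have hi1 : i ∈ (g • ·) '' Δ0 := ⟨a, ha, hga⟩
  have hsub1 : ({i} : Set ι) ⊆ (g • ·) '' Δ0 := Set.singleton_subset_iff.2 hi1
  have hik : ∀ p q : ℤ, p • P.root i + q • P.root k = 0 → p = 0 ∧ q = 0 :=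
    fun p q h => (LinearIndependent.pair_iff.1 hli) p q h
  obtain ⟨φ1', hφ1'⟩ := exists_functional (P := P) (R' := RootD.inSpan P {i})
    fun x ⟨n, hn, h⟩ => inSpan_saturated hΔ1 hsub1 hn h
  obtain ⟨φ1, hφ1, hk1⟩ : ∃ φ1 : Submodule.span ℤ (Set.range P.root) →+ ℤ,
      (∀ x, φ1 (rootL P x) = 0 ↔ x ∈ RootD.inSpan P {i}) ∧ 0 < φ1 (rootL P k) := by
    rcases lt_trichotomy (φ1' (rootL P k)) 0 with h | h | h
    · exact ⟨-φ1', fun x => by simp [hφ1' x], by simpa using h⟩
    · have hmem : P.root k ∈ Submodule.span ℤ (P.root '' {i}) := (hφ1' k).1 h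
      rw [Set.image_singleton, Submodule.mem_span_singleton] at hmem
      obtain ⟨c, hc⟩ := hmem
      have := (hik c (-1) (by rw [hc, neg_smul, one_smul, add_neg_cancel])).2
      omega
    · exact ⟨φ1', hφ1', h⟩
  have hT1z : ∀ x ∈ RootD.posOf P {i}, φ1 (rootL P x) = 0 := fun x hx =>
    (hφ1 x).2 (natSpan_le_span _ hx)
  have hS1 := isPosSys_glue φ1 (RootD.posOf P {i}) hT1z
    (fun x hx hx' => neg_notMem_posOf hΔ1 (natSpan_mono hsub1 hx) (natSpan_mono hsub1 hx'))
    (fun x hx => by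
      have hin := (mem_inSpan_iff hΔ1 hsub1).1 ((hφ1 x).1 hx)
      rcases pos_or_neg hΔ1 x with h | h
      · left
        show P.root x ∈ RootD.natSpan P {i}
        rw [← lc_coef hΔ1 x]
        exact finsupp_mem_natSpan h fun b hb => by_contra fun hbi => hb (hin b hbi)
      · right
        show P.root _ ∈ RootD.natSpan P {i}
        rw [root_neg, ← lc_coef hΔ1 x, ← map_neg]
        exact finsupp_mem_natSpan (fun b => neg_nonneg.2 (h b)) fun b hb =>
          by_contra fun hbi => hb (by rw [Finsupp.neg_apply, hin b hbi, neg_zero]))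
    (fun x y z hx hy he => show P.root z ∈ RootD.natSpan P {i} from he ▸ add_mem hx hy)
  set S1 := {x | 0 < φ1 (rootL P x)} ∪ RootD.posOf P {i} with hS1def
  obtain ⟨φ, hφ⟩ := exists_functional (P := P)
    (R' := {x | ∃ n : ℕ, 0 < n ∧ n • P.root x ∈ Submodule.span ℤ {P.root i, P.root k}}) (by
    rintro x ⟨n, hn, hx⟩
    obtain ⟨c, hc, he⟩ := (Finsupp.mem_span_image_iff_linearCombination ℤ).1 hx
    rw [Finsupp.mem_supported] at hc
    choose! m hm hm' using fun y (hy : y ∈ c.support) => hc hy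
    refine ⟨(∏ y ∈ c.support, m y) * n, Nat.mul_pos (Finset.prod_pos hm) hn, ?_⟩
    rw [mul_nsmul', ← he, Finsupp.linearCombination_apply, Finsupp.sum, Finset.smul_sum]
    refine sum_mem fun y hy => ?_
    obtain ⟨d, hd⟩ := Finset.dvd_prod_of_mem m hy
    rw [smul_comm, hd, Nat.mul_comm, mul_nsmul']
    exact Submodule.smul_mem _ _ (Submodule.smul_of_tower_mem _ d (hm' y hy)))
  have hφik : φ (rootL P i) = 0 ∧ φ (rootL P k) = 0 :=
    ⟨(hφ i).2 ⟨1, one_pos, by rw [one_smul]; exact Submodule.subset_span (Or.inl rfl)⟩,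
     (hφ k).2 ⟨1, one_pos, by rw [one_smul]; exact Submodule.subset_span (Or.inr rfl)⟩⟩
  have hS := isPosSys_glue φ {x | x ∈ S1 ∧ φ (rootL P x) = 0} (fun x hx => hx.2)
    (fun x hx hx' => hS1.disjoint hx.1 hx'.1)
    (fun x hx => (hS1.cover x).imp (fun h => ⟨h, hx⟩)
      fun h => ⟨h, by rw [rootL_neg, map_neg, hx, neg_zero]⟩)
    (fun x y z hx hy he => ⟨closed_of_isPosSys hS1 hx.1 hy.1 he,
      by rw [rootL_eq_add he, map_add, hx.2, hy.2, add_zero]⟩)
  set S := {x | 0 < φ (rootL P x)} ∪ {x | x ∈ S1 ∧ φ (rootL P x) = 0} with hSdef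
  have hΔ := isSimpleSys_indec hS
  have hnn : ∀ x ∈ S, 0 ≤ φ (rootL P x) := by
    rintro x (h | h)
    · exact h.le
    · exact h.2.ge
  have hzero : ∀ x ∈ S, φ (rootL P x) = 0 → x ∈ S1 := by
    rintro x (h | h) h0
    · exact absurd h0 h.ne'
    · exact h.1
  have hiS : i ∈ S := Or.inr ⟨Or.inr (root_mem_natSpan rfl), hφik.1⟩
  have hiΔ : i ∈ indec P S := by
    refine ⟨hiS, ?_⟩
    rintro ⟨x, y, hx, hy, he⟩
    have h0 : φ (rootL P x) + φ (rootL P y) = 0 := by rw [← map_add, ← rootL_eq_add he, hφik.1]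
    have := hnn x hx
    have := hnn y hy
    have h1 : φ1 (rootL P x) + φ1 (rootL P y) = 0 := by
      rw [← map_add, ← rootL_eq_add he]; exact hT1z i (root_mem_natSpan rfl)
    have key : ∀ z ∈ S, φ (rootL P z) = 0 →
        0 < φ1 (rootL P z) ∨ (φ1 (rootL P z) = 0 ∧ z ∈ RootD.posOf P {i}) := fun z hz hz0 =>
      (hzero z hz hz0).imp id fun h => ⟨hT1z z h, h⟩
    rcases key x hx (by omega) with hx1 | ⟨hx1, hxT⟩ <;> rcases key y hy (by omega) with hy1 | ⟨hy1, hyT⟩ <;>
      try omega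
    have e := height_add hΔ1 he
    have := height_pos hΔ1 (natSpan_mono hsub1 hxT)
    have := height_pos hΔ1 (natSpan_mono hsub1 hyT)
    have := height_self hΔ1 hi1
    omega
  have hkS : k ∈ S := Or.inr ⟨Or.inl hk1, hφik.2⟩
  obtain ⟨c, hc, hc0, he⟩ := exists_finsupp_of_mem_natSpan (mem_natSpan_indec hS hkS)
  have hsupp : ∀ b ∈ c.support, φ (rootL P b) = 0 := fun b hb =>
    eq_zero_of_nonneg_combination φ (fun x hx => hnn x hx.1) hc hc0 he hφik.2 (Finsupp.mem_support_iff.1 hb)
  obtain ⟨j, hj, hji⟩ : ∃ j ∈ c.support, j ≠ i := by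
    by_contra! hall
    have hcs : c = Finsupp.single i (c i) :=
      Finsupp.support_subset_singleton.1 fun x hx => Finset.mem_singleton.2 (hall x hx)
    rw [hcs, Finsupp.linearCombination_single] at he
    have := (hik (c i) (-1) (by rw [he, neg_smul, one_smul, add_neg_cancel])).2
    omega
  have honly : ∀ b ∈ c.support, b ≠ i → b = j := by
    intro b hb hbi
    by_contra hbj
    obtain ⟨n, hn, hmn⟩ := (hφ j).1 (hsupp j hj)
    obtain ⟨m, hm, hmm⟩ := (hφ b).1 (hsupp b hb)
    obtain ⟨p1, q1, e1⟩ := Submodule.mem_span_pair.1 hmn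
    obtain ⟨p2, q2, e2⟩ := Submodule.mem_span_pair.1 hmm
    rw [← natCast_zsmul] at e1 e2
    have h0 := coeff_eq_of_linInd hΔ.linInd
      (c := Finsupp.single j (q2 * n) + (Finsupp.single b (-(q1 * m)) + Finsupp.single i (q1 * p2 - q2 * p1)))
      (d := 0) (fun x hx => by
        rcases Finset.mem_union.1 (Finsupp.support_add hx) with hx | hx
        · rw [Finset.mem_singleton.1 (Finsupp.support_single_subset hx)]; exact hc hj
        rcases Finset.mem_union.1 (Finsupp.support_add hx) with hx | hx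
        · rw [Finset.mem_singleton.1 (Finsupp.support_single_subset hx)]; exact hc hb
        · rw [Finset.mem_singleton.1 (Finsupp.support_single_subset hx)]; exact hiΔ) (by simp) (by
        simp only [map_add, map_zero, Finsupp.linearCombination_single]
        rw [mul_smul, ← e1, neg_smul, mul_smul, ← e2]
        module)
    have hj0 := DFunLike.congr_fun h0 j
    have hb0 := DFunLike.congr_fun h0 b
    simp [hji.symm, hbi.symm, hbj, Ne.symm hbj, hn.ne', hm.ne'] at hj0 hb0
    subst hj0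
    rw [zero_smul, add_zero] at e2
    have h3 := coeff_eq_of_linInd hΔ.linInd (c := Finsupp.single b (m : ℤ)) (d := Finsupp.single i p2)
      (fun x hx => by rw [Finset.mem_singleton.1 (Finsupp.support_single_subset hx)]; exact hc hb)
      (fun x hx => by rw [Finset.mem_singleton.1 (Finsupp.support_single_subset hx)]; exact hiΔ)
      (by simp [e2])
    have h4 := DFunLike.congr_fun h3 b
    simp [hbi.symm, hm.ne'] at h4
  refine ⟨_, hΔ, hiΔ, j, hc hj, (c i).toNat, (c j).toNat, ?_⟩
  rw [← natCast_zsmul, ← natCast_zsmul, Int.toNat_of_nonneg (hc0 i), Int.toNat_of_nonneg (hc0 j)]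
  have hcs : c = Finsupp.single i (c i) + Finsupp.single j (c j) := Finsupp.ext fun x => by
    by_cases hxi : x = i
    · subst hxi; simp [hji, Ne.symm hji]
    by_cases hxj : x = j
    · subst hxj; simp [hji, Ne.symm hji]
    · have : c x = 0 := Finsupp.notMem_support_iff.1 fun h => hxj (honly x h hxi)
      simp [hxi, hxj, this, Ne.symm hxi, Ne.symm hxj]
  conv_lhs => rw [← he, hcs]
  rw [map_add, Finsupp.linearCombination_single, Finsupp.linearCombination_single]


end Groth.Agent.S5464
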