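import Groth.Statements.S5465
import Groth.Agent.RootSys.Facts
-- import your own Groth.Agent.* helpers here

set_option autoImplicit false
open RootD

namespace Groth.Agent.S5465

open RootSysLib RootBasicLib RootPairing

/-- A map from the roots to an abelian group that is odd and additive on pairs of roots whose sum is a
root extends uniquely to a homomorphism on the lattice generated by the roots. -/
theorem result {ι M N : Type*} [AddCommGroup M] [AddCommGroup N]
    (P : RootPairing ι ℤ M N) [Finite ι] {G : Type*} [AddCommGroup G] (f : ι → G)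
    (hneg : ∀ i : ι, f (P.reflectionPerm i i) = -f i)
    (hadd : ∀ i j k : ι, P.root k = P.root i + P.root j → f k = f i + f j) :
    ∃! φ : Submodule.span ℤ (Set.range P.root) →+ G,
      ∀ i : ι, φ ⟨P.root i, Submodule.subset_span (Set.mem_range_self i)⟩ = f i := by
  classical
  obtain ⟨Δ, hΔ⟩ := exists_isSimpleSys P
  choose r hrs hre using fun x : Submodule.span ℤ (Set.range P.root) => exists_repr hΔ x.2
  let F := Finsupp.linearCombination ℤ f
  have hr : ∀ (x : Submodule.span ℤ (Set.range P.root)) (c : ι →₀ ℤ), ↑c.support ⊆ Δ →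
      Finsupp.linearCombination ℤ P.root c = x.1 → r x = c :=
    fun x c hc he => coeff_eq_of_linInd hΔ.linInd (hrs x) hc (by rw [hre, he])
  let φ : Submodule.span ℤ (Set.range P.root) →+ G := AddMonoidHom.mk' (fun x => F (r x)) fun x y => by
    rw [← map_add]
    congr 1
    exact hr _ _ (fun z hz => (Finset.mem_union.1 (Finsupp.support_add hz)).elim
      (fun h => hrs x h) fun h => hrs y h) (by rw [map_add, hre, hre]; rfl)
  have hpos : ∀ k ∈ RootD.posOf P Δ, F (coef hΔ k) = f k := fun k hk =>
    posOf_induction hΔ (p := fun k => F (coef hΔ k) = f k)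
      (fun a ha => by simp [F, coef_self hΔ ha])
      (fun k _ a ha j _ _ he h => by
        rw [coef_add hΔ he, map_add, h, coef_self hΔ ha, hadd a j k he]; simp [F]) hk
  have hφ : ∀ i, φ (rootL P i) = f i := by
    intro i
    show F (r (rootL P i)) = f i
    rw [hr _ (coef hΔ i) (support_coef hΔ i) (lc_coef hΔ i)]
    rcases (isPosSys_posOf hΔ).cover i with h | h
    · exact hpos i h
    · have := hpos _ h
      rw [coef_neg, map_neg, hneg] at this
      exact neg_inj.1 this
  refine ⟨φ, hφ, fun ψ hψ => ?_⟩
  ext ⟨x, hx⟩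
  induction hx using Submodule.span_induction with
  | mem x hx =>
    obtain ⟨i, rfl⟩ := hx
    exact (hψ i).trans (hφ i).symm
  | zero => exact (map_zero ψ).trans (map_zero φ).symm
  | add x y hx hy h1 h2 =>
    exact (map_add ψ ⟨x, hx⟩ ⟨y, hy⟩).trans ((congrArg₂ (· + ·) h1 h2).trans (map_add φ ⟨x, hx⟩ ⟨y, hy⟩).symm)
  | smul n x hx h =>
    exact (map_zsmul ψ n ⟨x, hx⟩).trans ((congrArg (n • ·) h).trans (map_zsmul φ n ⟨x, hx⟩).symm)


end Groth.Agent.S5465
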