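import Groth.Statements.S5467
import Groth.Agent.RootSys.Facts
-- import your own Groth.Agent.* helpers here

set_option autoImplicit false
open RootD

namespace Groth.Agent.S5467

open RootSysLib RootBasicLib RootPairing

/-- For an indivisible positive non-simple root α there is a simple root β with (β^v, α) > 0 such that
s_β(α) is positive; its order relative to Δ is then smaller than that of α by (β^v, α). -/
theorem result {ι M N : Type*} [AddCommGroup M] [AddCommGroup N]
    (P : RootPairing ι ℤ M N) [Finite ι] (Δ : Set ι) (hΔ : RootD.IsSimpleSys P Δ)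
    (k : ι) (hk : k ∈ RootD.posOf P Δ) (hkΔ : k ∉ Δ) (hind : RootD.IsIndiv P k) :
    ∃ i ∈ Δ, 0 < P.pairing k i ∧ P.reflectionPerm i k ∈ RootD.posOf P Δ := by
  obtain ⟨a, ha, -, hp⟩ := exists_pairing_pos hΔ hk
  refine ⟨a, ha, hp, ?_⟩
  rcases reflect_mem_posOf_or hΔ ha hk with h | ⟨c, hc, he⟩
  · exact h
  · exact absurd (eq_of_isIndiv hind hc he ▸ ha) hkΔ


end Groth.Agent.S5467
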