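import Groth.Statements.S5468
import Groth.Agent.RootSys.Facts
-- import your own Groth.Agent.* helpers here

set_option autoImplicit false
open RootD

namespace Groth.Agent.S5468

open RootSysLib RootBasicLib RootPairing

/-- Two roots whose reflections are distinct and commute are orthogonal. -/
theorem result {ι M N : Type*} [AddCommGroup M] [AddCommGroup N]
    (P : RootPairing ι ℤ M N) [Finite ι] (i j : ι)
    (hne : P.reflection i ≠ P.reflection j) (hc : Commute (P.reflection i) (P.reflection j)) :
    P.IsOrthogonal i j := by
  haveI := torsionFree P
  have h := LinearEquiv.congr_fun hc.eq (P.root j)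
  simp only [LinearEquiv.mul_apply, P.reflection_apply_self, P.reflection_apply_root, map_neg, map_sub,
    map_zsmul] at h
  by_cases hp : P.pairing j i = 0
  · exact ⟨(P.pairing_eq_zero_iff).1 hp, hp⟩
  exfalso
  apply hne
  have h2 : (2 : ℤ) • P.root i = P.pairing i j • P.root j := by
    refine smul_right_cancel P hp ?_
    have h' := sub_eq_zero.2 h
    rw [← sub_eq_zero]
    rw [← h']
    module
  have hq : P.pairing i j ≠ 0 := fun h0 => by
    rw [h0, zero_smul] at h2
    exact P.ne_zero i (smul_eq_zero_imp P two_ne_zero h2)
  have e := reflection_eq_of_smul two_ne_zero hq h2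
  apply LinearEquiv.ext
  intro x
  rw [← Equiv.reflection_smul, ← Equiv.reflection_smul, e]


end Groth.Agent.S5468
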