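import Groth.Statements.S5469
import Groth.Agent.RootSys.Facts
-- import your own Groth.Agent.* helpers here

set_option autoImplicit false
open RootPairing
open scoped Pointwise
open RootD

namespace Groth.Agent.S5469

open RootSysLib RootBasicLib RootPairing

/-- Two non-orthogonal roots of equal length (for the canonical form ℓ(x) = Σ_{u ∈ R^v} (u, x)²) are
conjugate under the Weyl group. -/
theorem result {ι M N : Type*} [AddCommGroup M] [AddCommGroup N]
    (P : RootPairing ι ℤ M N) [Finite ι] [Fintype ι] (i j : ι) (hno : ¬ P.IsOrthogonal i j)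
    (hl : P.RootForm (P.root i) (P.root i) = P.RootForm (P.root j) (P.root j)) :
    ∃ g : P.Aut, g ∈ P.weylGroup ∧ g • i = j := by
  have hB : ∀ x y : M, P.RootForm x y = bform P x y := fun x y => by
    unfold bform
    convert rfl
  rw [hB, hB] at hl
  have hp := bform_root_pos P i
  have e1 := two_bform_apply_root P (P.root i) j
  have e2 := two_bform_apply_root P (P.root j) i
  rw [P.root_coroot'_eq_pairing, bform_symm P (P.root j) (P.root i)] at e2
  rw [P.root_coroot'_eq_pairing, ← hl] at e1
  have hsym : P.pairing j i = P.pairing i j :=
    mul_left_cancel₀ hp.ne' (e2.symm.trans e1)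
  have hne : P.pairing i j ≠ 0 := fun h => hno ⟨h, hsym.trans h⟩
  have s1 := bform_self_nonneg P (P.root i - P.root j)
  have s2 := bform_self_nonneg P (P.root i + P.root j)
  simp only [map_add, map_sub, LinearMap.add_apply, LinearMap.sub_apply, bform_symm P (P.root j) (P.root i),
    ← hl] at s1 s2
  have hmem : ∀ k, P.root k ∈ Submodule.span ℤ (Set.range P.root) := fun k =>
    Submodule.subset_span (Set.mem_range_self k)
  have hb1 : P.pairing i j ≤ 2 := by nlinarith
  have hb2 : -2 ≤ P.pairing i j := by nlinarith
  have hw1 : P.pairing i j = 1 → ∃ g : P.Aut, g ∈ P.weylGroup ∧ g • i = j := by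
    intro h
    refine ⟨Equiv.reflection P j * Equiv.reflection P i * Equiv.reflection P j,
      mul_mem (mul_mem (reflection_mem j) (reflection_mem i)) (reflection_mem j), ?_⟩
    rw [mul_smul, mul_smul, reflection_smul_idx, reflection_smul_idx, reflection_smul_idx]
    apply P.root.injective
    simp only [P.root_reflectionPerm, P.reflection_apply_root, map_sub, map_zsmul, P.pairing_same, h,
      hsym]
    module
  have hw2 : P.pairing i j = -1 → ∃ g : P.Aut, g ∈ P.weylGroup ∧ g • i = j := by
    intro h
    refine ⟨Equiv.reflection P i * Equiv.reflection P j,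
      mul_mem (reflection_mem i) (reflection_mem j), ?_⟩
    rw [mul_smul, reflection_smul_idx, reflection_smul_idx]
    apply P.root.injective
    simp only [P.root_reflectionPerm, P.reflection_apply_root, map_sub, map_zsmul, P.pairing_same, h,
      hsym]
    module
  rcases (show P.pairing i j = 2 ∨ P.pairing i j = -2 ∨ P.pairing i j = 1 ∨ P.pairing i j = -1 by omega)
    with h | h | h | h
  · refine ⟨1, one_mem _, ?_⟩
    rw [one_smul]
    apply P.root.injective
    refine sub_eq_zero.1 (bform_self_eq_zero (sub_mem (hmem i) (hmem j)) ?_)
    simp only [map_sub, LinearMap.sub_apply, bform_symm P (P.root j) (P.root i), ← hl]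
    rw [h] at e1
    linarith
  · refine ⟨Equiv.reflection P i, reflection_mem i, ?_⟩
    rw [reflection_smul_idx]
    apply P.root.injective
    rw [root_neg]
    have := bform_self_eq_zero (add_mem (hmem i) (hmem j)) (by
      simp only [map_add, LinearMap.add_apply, bform_symm P (P.root j) (P.root i), ← hl]
      rw [h] at e1
      linarith)
    exact neg_eq_of_add_eq_zero_right this
  · exact hw1 h
  · exact hw2 h


end Groth.Agent.S5469
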