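import Groth.Statements.S5470
import Groth.Agent.RootSys.Orth
-- import your own Groth.Agent.* helpers here

set_option autoImplicit false
open RootPairing
open scoped Pointwise
open RootD

namespace Groth.Agent.S5470

open RootSysLib RootBasicLib RootPairing

/-- In an irreducible root datum the Weyl group acts transitively on the roots of any given length. -/
theorem result {ι M N : Type*} [AddCommGroup M] [AddCommGroup N]
    (P : RootPairing ι ℤ M N) [Finite ι] [Fintype ι] [Nonempty ι]
    (hirr : ∀ R' : Set ι, RootD.IsClosedSub P R' → RootD.IsSymmSub P R' → RootD.IsClosedSub P R'ᶜ →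
      RootD.IsSymmSub P R'ᶜ → R' = ∅ ∨ R' = Set.univ)
    (i j : ι) (hl : P.RootForm (P.root i) (P.root i) = P.RootForm (P.root j) (P.root j)) :
    ∃ g : P.Aut, g ∈ P.weylGroup ∧ g • i = j := by
  obtain ⟨g, hg, hgj⟩ := exists_conj_not_orth (linked_of_irreducible hirr i j)
  have hB : ∀ x y : M, P.RootForm x y = bform P x y := fun x y => by
    unfold bform
    convert rfl
  rw [hB, hB] at hl
  obtain ⟨g', hg', he⟩ := exists_conj_of_eq_length hgj (by rw [root_smul, bform_smul, hl])
  exact ⟨g⁻¹ * g', mul_mem (inv_mem hg) hg', by rw [mul_smul, he, inv_smul_smul]⟩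


end Groth.Agent.S5470
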