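import Groth.Statements.S5471
import Groth.Agent.RootSys.Lengths
-- import your own Groth.Agent.* helpers here

set_option autoImplicit false
open RootPairing
open scoped Pointwise
open RootD

namespace Groth.Agent.S5471

open RootSysLib RootBasicLib RootPairing

/-- In a reduced irreducible root datum the ratios of squared root lengths to the minimal one form one
of the sets {1}, {1, 2}, {1, 3}. -/
theorem result {ι M N : Type*} [AddCommGroup M] [AddCommGroup N]
    (P : RootPairing ι ℤ M N) [Finite ι] [Fintype ι] [Nonempty ι] [P.IsReduced]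
    (hirr : ∀ R' : Set ι, RootD.IsClosedSub P R' → RootD.IsSymmSub P R' → RootD.IsClosedSub P R'ᶜ →
      RootD.IsSymmSub P R'ᶜ → R' = ∅ ∨ R' = Set.univ)
    (i₀ : ι) (hmin : ∀ i : ι, P.RootForm (P.root i₀) (P.root i₀) ≤ P.RootForm (P.root i) (P.root i)) :
    (∀ i : ι, P.RootForm (P.root i) (P.root i) = P.RootForm (P.root i₀) (P.root i₀) ∨
        P.RootForm (P.root i) (P.root i) = 2 * P.RootForm (P.root i₀) (P.root i₀) ∨
        P.RootForm (P.root i) (P.root i) = 3 * P.RootForm (P.root i₀) (P.root i₀)) ∧
      ¬ ((∃ i : ι, P.RootForm (P.root i) (P.root i) = 2 * P.RootForm (P.root i₀) (P.root i₀)) ∧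
          ∃ j : ι, P.RootForm (P.root j) (P.root j) = 3 * P.RootForm (P.root i₀) (P.root i₀)) := by
  simp only [rootForm_eq_bform] at hmin ⊢
  have key : ∀ i, bform P (P.root i) (P.root i) = bform P (P.root i₀) (P.root i₀) ∨
      bform P (P.root i) (P.root i) = 2 * bform P (P.root i₀) (P.root i₀) ∨
      bform P (P.root i) (P.root i) = 3 * bform P (P.root i₀) (P.root i₀) := by
    intro i
    obtain ⟨g, -, hgi⟩ := exists_conj_not_orth (linked_of_irreducible hirr i₀ i)
    have hlen : bform P (P.root (g • i)) (P.root (g • i)) = bform P (P.root i) (P.root i) := by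
      rw [root_smul, bform_smul]
    obtain ⟨q, hq1, hq4, hq, hcox⟩ := length_ratio hgi (hmin _)
    rw [hlen] at hq
    obtain rfl | rfl | rfl | rfl : q = 1 ∨ q = 2 ∨ q = 3 ∨ q = 4 := by omega
    · exact Or.inl (hq.trans (one_mul _))
    · exact Or.inr (Or.inl hq)
    · exact Or.inr (Or.inr hq)
    · exfalso
      have h4 := hcox rfl
      have e1 := two_bform_root (P := P) i₀ (g • i)
      have e2 := two_bform_root (P := P) (g • i) i₀
      rw [bform_symm P (P.root (g • i)) (P.root i₀)] at e2
      have hdep := dependent_of_cauchy_eq (P := P) (i := i₀) (j := g • i) (by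
        refine mul_left_cancel₀ (four_ne_zero' ℤ) ?_
        linear_combination (2 * bform P (P.root i₀) (P.root (g • i))) * e2 +
          (bform P (P.root i₀) (P.root i₀) * P.pairing (g • i) i₀) * e1 +
          (bform P (P.root i₀) (P.root i₀) * bform P (P.root (g • i)) (P.root (g • i))) * h4)
      have hp := bform_root_pos P i₀
      rcases RootPairing.IsReduced.eq_or_eq_neg (P := P) i₀ (g • i) hdep with e | e
      · have := congrArg (fun x => bform P x x) e
        simp only [hlen] at this
        omega
      · have := congrArg (fun x => bform P x x) e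
        simp only [map_neg, LinearMap.neg_apply, neg_neg, hlen] at this
        omega
  refine ⟨key, ?_⟩
  rintro ⟨⟨i, hi⟩, j, hj⟩
  obtain ⟨g, -, hgj⟩ := exists_conj_not_orth (linked_of_irreducible hirr i j)
  have hlen : bform P (P.root (g • j)) (P.root (g • j)) = bform P (P.root j) (P.root j) := by
    rw [root_smul, bform_smul]
  have hp := bform_root_pos P i₀
  obtain ⟨q, hq1, -, hq, -⟩ := length_ratio hgj (by rw [hlen, hi, hj]; omega)
  rw [hlen, hi, hj, ← mul_assoc] at hq
  have := mul_right_cancel₀ hp.ne' hq
  omega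


end Groth.Agent.S5471
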