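import Groth.Statements.S5472
import Groth.Agent.RootSys.Morph
-- import your own Groth.Agent.* helpers here

set_option autoImplicit false
open RootPairing
open scoped Pointwise
open RootD

namespace Groth.Agent.S5472

open RootSysLib RootBasicLib RootPairing

/-- Let Δ be a system of simple roots (root-only sense), γ a positive root and α, β simple roots with
(γ, α^v) > 0 and (γ, β^v) ≥ 0 (equivalently: the order of s_α(γ) along Δ is smaller than that of γ,
and the order of s_β(γ) is at most that of γ). Then for every w in the group generated by s_α and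
s_β the order of w(γ) along Δ is at most that of γ, and strictly smaller unless w ∈ {1, s_β}. The
order is the sum of the coefficients along Δ; the conclusion is stated for the coefficient vector c
of γ - w(γ) along Δ: its coefficient sum is ≥ 0, and > 0 unless w = 1 or w = s_β. -/
theorem result {ι M N : Type*} [AddCommGroup M] [AddCommGroup N]
    (P : RootPairing ι ℤ M N) [Finite ι] (Δ : Set ι) (hΔ : RootD.IsSimpleSys P Δ)
    (k i j : ι) (hk : k ∈ RootD.posOf P Δ) (hi : i ∈ Δ) (hj : j ∈ Δ)
    (hα : 0 < P.pairing k i) (hβ : 0 ≤ P.pairing k j)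
    (g : P.Aut) (hg : g ∈ Subgroup.closure {Equiv.reflection P i, Equiv.reflection P j})
    (c : ι →₀ ℤ) (hc : ↑c.support ⊆ Δ)
    (hck : Finsupp.linearCombination ℤ P.root c = P.root k - P.root (g • k)) :
    0 ≤ c.sum (fun _ a => a) ∧ (g ≠ 1 → g ≠ Equiv.reflection P j → 0 < c.sum (fun _ a => a)) := by
  classical
  have hsub : ({i, j} : Set ι) ⊆ Δ := Set.insert_subset hi (Set.singleton_subset_iff.2 hj)
  have hg' : g ∈ Subgroup.closure ((fun i : ι => Equiv.reflection P i) '' {i, j}) := by
    rwa [Set.image_pair]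
  let H : M → Prop := fun x => ∃ d : ι →₀ ℤ, ↑d.support ⊆ Δ ∧ Finsupp.linearCombination ℤ P.root d = x
  have hd : ∀ {x : M} {d d' : ι →₀ ℤ}, ↑d.support ⊆ Δ → ↑d'.support ⊆ Δ →
      Finsupp.linearCombination ℤ P.root d = x → Finsupp.linearCombination ℤ P.root d' = x → d = d' :=
    fun h1 h2 e1 e2 => coeff_eq_of_linInd hΔ.linInd h1 h2 (e1.trans e2.symm)
  have key : ∃ d : ι →₀ ℤ, ↑d.support ⊆ Δ ∧ Finsupp.linearCombination ℤ P.root d = P.root k - g • P.root k ∧
      0 ≤ d.sum (fun _ a => a) ∧ ((g = 1 ∨ g = Equiv.reflection P j) ∨ 0 < d.sum fun _ a => a) := by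
    refine closure_induction_reduced hΔ hsub (p := fun g => ∃ d : ι →₀ ℤ, ↑d.support ⊆ Δ ∧
      Finsupp.linearCombination ℤ P.root d = P.root k - g • P.root k ∧ 0 ≤ d.sum (fun _ a => a) ∧
      ((g = 1 ∨ g = Equiv.reflection P j) ∨ 0 < d.sum fun _ a => a))
      ⟨0, by simp, by simp, by simp, Or.inl (Or.inl rfl)⟩ ?_ hg'
    rintro g _ a ha hga ⟨d, hd', hde, hd0, hcase⟩
    refine ⟨d + P.pairing k a • coef hΔ (g • a), ?_, ?_, ?_⟩
    · intro x hx
      rcases Finset.mem_union.1 (Finsupp.support_add hx) with h | h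
      · exact hd' h
      · exact support_coef hΔ _ (Finsupp.support_smul h)
    · rw [map_add, hde, map_zsmul, lc_coef, mul_smul, Equiv.reflection_smul,
        P.reflection_apply_root, smul_sub, map_smul_zsmul, root_smul]
      abel
    have hsum : (d + P.pairing k a • coef hΔ (g • a)).sum (fun _ x => x) =
        d.sum (fun _ x => x) + P.pairing k a * height hΔ (g • a) := by
      rw [Finsupp.sum_add_index' (fun _ => rfl) (fun _ _ _ => rfl), Finsupp.sum_smul_index (fun _ => rfl),
        height, Finsupp.mul_sum]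
    have hh := height_pos hΔ hga
    rw [hsum]
    rcases ha with rfl | ha
    · have := mul_pos hα hh
      exact ⟨by omega, Or.inr (by omega)⟩
    · rw [Set.mem_singleton_iff] at ha
      subst ha
      have := mul_nonneg hβ hh.le
      refine ⟨by omega, ?_⟩
      rcases hcase with (rfl | rfl) | h
      · exact Or.inl (Or.inr (one_mul _))
      · exact Or.inl (Or.inl (by rw [mul_eq_one_iff_eq_inv, RootSysLib.reflection_inv]))
      · exact Or.inr (by omega)
  obtain ⟨d, hd1, hd2, hd3, hd4⟩ := key
  rw [root_smul] at hck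
  obtain rfl := hd hc hd1 hck hd2
  exact ⟨hd3, fun h1 h2 => hd4.resolve_left (by rintro (h | h) <;> contradiction)⟩


end Groth.Agent.S5472
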