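import Groth.Statements.S5473
import Groth.Agent.RootSys.Morph
-- import your own Groth.Agent.* helpers here

set_option autoImplicit false
open RootD

namespace Groth.Agent.S5473

open RootSysLib RootBasicLib RootPairing

/-- If a linear map f and its transpose g induce bijections from the roots of R' onto the roots of R and
from the coroots of R onto the coroots of R' respectively (a morphism of root data in the
two-bijection sense), then the two bijections correspond: the coroot of α' is g applied to the
coroot of f(α'). -/
theorem result {ι M N ι' M' N' : Type*} [AddCommGroup M] [AddCommGroup N] [AddCommGroup M'] [AddCommGroup N']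
    (P : RootPairing ι ℤ M N) (P' : RootPairing ι' ℤ M' N') [Finite ι] [Finite ι']
    (f : M' →ₗ[ℤ] M) (g : N →ₗ[ℤ] N') (hfg : ∀ (m' : M') (n : N), P.toLinearMap (f m') n = P'.toLinearMap m' (g n))
    (e : ι' ≃ ι) (he : ∀ i' : ι', f (P'.root i') = P.root (e i'))
    (e' : ι ≃ ι') (he' : ∀ i : ι, g (P.coroot i) = P'.coroot (e' i)) :
    ∀ i' : ι', g (P.coroot (e i')) = P'.coroot i' := by
  let _ := Fintype.ofFinite ι'
  let σ : Equiv.Perm ι' := e.trans e'
  have hp : ∀ y, P'.pairing y (σ y) = 2 := by
    intro y
    have h := hfg (P'.root y) (P.coroot (e y))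
    rw [he, he', P.root_coroot_eq_pairing, P.pairing_same, P'.root_coroot_eq_pairing] at h
    exact h.symm
  have hb : ∀ y, bform P' (P'.root y) (P'.root (σ y)) = bform P' (P'.root (σ y)) (P'.root (σ y)) := fun y => by
    have h := two_bform_root (P := P') y (σ y)
    rw [hp] at h
    omega
  have hle : ∀ y, bform P' (P'.root (σ y)) (P'.root (σ y)) ≤ bform P' (P'.root y) (P'.root y) := fun y => by
    have h := cauchy (P := P') y (σ y)
    rw [hb] at h
    exact le_of_mul_le_mul_right h (bform_root_pos P' _)
  have heq := (Finset.sum_eq_sum_iff_of_le (s := Finset.univ) fun y _ => hle y).1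
    (Equiv.sum_comp σ fun y => bform P' (P'.root y) (P'.root y))
  intro y
  have hz : bform P' (P'.root y - P'.root (σ y)) (P'.root y - P'.root (σ y)) = 0 := by
    simp only [map_sub, LinearMap.sub_apply, bform_symm P' (P'.root (σ y)) (P'.root y), hb]
    have := heq y (Finset.mem_univ y)
    omega
  have := bform_self_eq_zero (sub_mem (Submodule.subset_span (Set.mem_range_self y))
    (Submodule.subset_span (Set.mem_range_self (σ y)))) hz
  rw [he', show e' (e y) = σ y from rfl, ← P'.root.injective (sub_eq_zero.1 this)]


end Groth.Agent.S5473
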