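import Groth.Statements.S5474
import Groth.Agent.RootSys.Morph
-- import your own Groth.Agent.* helpers here

set_option autoImplicit false
open RootD

namespace Groth.Agent.S5474

open RootSysLib RootBasicLib RootPairing

/-- Every morphism between semisimple root data is an isogeny (injective on weight lattices with finite
cokernel). -/
theorem result {ι M N ι' M' N' : Type*} [AddCommGroup M] [AddCommGroup N] [AddCommGroup M'] [AddCommGroup N']
    (P : RootPairing ι ℤ M N) (P' : RootPairing ι' ℤ M' N') [Finite ι] [Finite ι']
    [Module.Finite ℤ M] [Module.Finite ℤ N] [Module.Finite ℤ M'] [Module.Finite ℤ N']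
    (hss : Module.finrank ℤ (Submodule.span ℤ (Set.range P.root)) = Module.finrank ℤ M)
    (hss' : Module.finrank ℤ (Submodule.span ℤ (Set.range P'.root)) = Module.finrank ℤ M')
    (f : RootPairing.Hom P' P) :
    Function.Injective f.weightMap ∧ Finite (M ⧸ LinearMap.range f.weightMap) := by
  obtain ⟨hfin, -⟩ := exists_nsmul_mem_of_rank hss
  obtain ⟨-, htor⟩ := exists_nsmul_mem_of_rank hss'
  constructor
  · rw [← LinearMap.ker_eq_bot, Submodule.eq_bot_iff]
    intro x hx
    obtain ⟨n, hn, hmem⟩ := htor x
    refine nsmul_right_cancel P' hn (y := 0) ?_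
    rw [smul_zero]
    refine eq_zero_of_coroot'_eq_zero hmem fun i' => ?_
    have h := LinearMap.congr_fun (RootPairing.Hom.weight_coweight_transpose_apply P' P
      (P.coroot (f.indexEquiv i')) f) (n • x)
    have h2 := RootPairing.Hom.coroot_coweightMap_apply P' P (f.indexEquiv i') f
    rw [h2, Equiv.symm_apply_apply] at h
    simp only [LinearMap.dualMap_apply, map_nsmul, LinearMap.mem_ker.1 hx, smul_zero, map_zero] at h ⊢
    simpa using h.symm
  · have hle : Submodule.span ℤ (Set.range P.root) ≤ LinearMap.range f.weightMap := by
      rw [Submodule.span_le]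
      rintro _ ⟨i, rfl⟩
      refine ⟨P'.root (f.indexEquiv.symm i), ?_⟩
      rw [RootPairing.Hom.root_weightMap_apply, Equiv.apply_symm_apply]
    exact Finite.of_surjective _ (Submodule.factor_surjective hle)


end Groth.Agent.S5474
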