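import Groth.Statements.S5475
import Groth.Agent.RootSys.Orth
-- import your own Groth.Agent.* helpers here

set_option autoImplicit false
open RootD

namespace Groth.Agent.S5475

open RootSysLib RootBasicLib RootPairing

/-- In an adjoint root datum every indivisible root is an indivisible element of the weight lattice. -/
theorem result {ι M N : Type*} [AddCommGroup M] [AddCommGroup N]
    (P : RootPairing ι ℤ M N) [Finite ι] (had : Submodule.span ℤ (Set.range P.root) = ⊤)
    (i : ι) (hind : RootD.IsIndiv P i) (m : M) (n : ℤ) (h : n • m = P.root i) : n = 1 ∨ n = -1 := by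
  classical
  obtain ⟨Δ0, hΔ0⟩ := exists_isSimpleSys P
  obtain ⟨g, -, a, ha, hga⟩ := exists_conj hΔ0 hind
  have hΔ := isSimpleSys_image hΔ0 g
  obtain ⟨c, hc, he⟩ := exists_repr hΔ (x := m) (by rw [had]; exact Submodule.mem_top)
  have h1 : n • c = Finsupp.single i 1 := coeff_eq_of_linInd hΔ.linInd
    (fun x hx => hc (Finsupp.support_smul hx))
    (fun x hx => by rw [Finset.mem_singleton.1 (Finsupp.support_single_subset hx)]; exact ⟨a, ha, hga⟩)
    (by rw [map_zsmul, he, h]; simp)
  have h2 : n * c i = 1 := by simpa using DFunLike.congr_fun h1 i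
  exact Int.eq_one_or_neg_one_of_mul_eq_one h2


end Groth.Agent.S5475
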