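import Groth.Statements.S5476
import Mathlib.LinearAlgebra.RootSystem.Finite.Nondegenerate
import Mathlib.LinearAlgebra.FreeModule.PID

set_option autoImplicit false
open RootD

namespace Groth.Agent.S5476

lemma key {ι M N : Type*} [AddCommGroup M] [AddCommGroup N]
    (P : RootPairing ι ℤ M N) [Fintype ι] [Module.Finite ℤ M] [Module.Finite ℤ N]
    [Module.Free ℤ M] :
    Module.finrank ℤ (⨅ i : ι, LinearMap.ker (P.coroot' i) : Submodule ℤ M) +
      Module.finrank ℤ (P.rootSpan ℤ) = Module.finrank ℤ M := by
  have hK : (⨅ i : ι, LinearMap.ker (P.coroot' i) : Submodule ℤ M) = LinearMap.ker P.Polarization := by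
    ext x
    simp only [Submodule.mem_iInf, LinearMap.mem_ker]
    refine ⟨fun h => by simp [RootPairing.Polarization_apply, h], fun h i => ?_⟩
    have h0 : P.RootForm x x = 0 := by
      rw [← P.toLinearMap_apply_apply_Polarization, h, map_zero]
    simp only [RootPairing.rootForm_apply_apply] at h0
    exact mul_self_eq_zero.1
      ((Finset.sum_eq_zero_iff_of_nonneg fun j _ => mul_self_nonneg _).1 h0 i (Finset.mem_univ i))
  refine le_antisymm ?_ ?_
  · rw [hK, P.ker_polarization_eq_ker_rootForm, ← Module.finrank_prod]
    refine LinearMap.finrank_le_finrank_of_injective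
      (f := (LinearMap.ker P.RootForm).subtype.coprod (P.rootSpan ℤ).subtype) ?_
    rw [← LinearMap.ker_eq_bot, LinearMap.ker_coprod_of_disjoint_range]
    · simp
    · simpa using P.disjoint_rootSpan_ker_rootForm.symm
  · rw [hK, ← (LinearMap.ker P.Polarization).finrank_quotient_add_finrank, add_comm,
      (P.Polarization.quotKerEquivRange).finrank_eq, ← P.finrank_corootSpan_eq']
    refine Nat.add_le_add_left (Submodule.finrank_mono ?_) _
    rintro _ ⟨x, rfl⟩
    rw [RootPairing.Polarization_apply]
    exact Submodule.sum_mem _ fun i _ => Submodule.smul_mem _ _ (Submodule.subset_span ⟨i, rfl⟩)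

/-- The lattice of the coradical (weights killed by every coroot) and the lattice of the radical
(coweights killed by every root) both have rank rgred - rgss, the rank of the weight lattice minus
the rank of the lattice generated by the roots; and the datum is semisimple (the roots span a
sublattice of full rank) if and only if the coradical lattice vanishes, if and only if the radical
lattice vanishes. -/
theorem result {ι M N : Type*} [AddCommGroup M] [AddCommGroup N]
    (P : RootPairing ι ℤ M N) [Finite ι] [Module.Finite ℤ M] [Module.Finite ℤ N] :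
    (Module.finrank ℤ (⨅ i : ι, LinearMap.ker (P.coroot' i) : Submodule ℤ M) +
        Module.finrank ℤ (Submodule.span ℤ (Set.range P.root)) = Module.finrank ℤ M) ∧
      (Module.finrank ℤ (⨅ i : ι, LinearMap.ker (P.root' i) : Submodule ℤ N) +
        Module.finrank ℤ (Submodule.span ℤ (Set.range P.root)) = Module.finrank ℤ M) ∧
      (Module.finrank ℤ (Submodule.span ℤ (Set.range P.root)) = Module.finrank ℤ M ↔
        (⨅ i : ι, LinearMap.ker (P.coroot' i) : Submodule ℤ M) = ⊥) ∧
      (Module.finrank ℤ (Submodule.span ℤ (Set.range P.root)) = Module.finrank ℤ M ↔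
        (⨅ i : ι, LinearMap.ker (P.root' i) : Submodule ℤ N) = ⊥) := by
  have := Fintype.ofFinite ι
  have : Module.Free ℤ M := Module.Free.of_equiv P.toPerfPair.symm
  have : Module.Free ℤ N := Module.Free.of_equiv P.flip.toPerfPair.symm
  have h1 := key P
  have h2 := key P.flip
  have hMN : Module.finrank ℤ N = Module.finrank ℤ M := by
    classical
    rw [P.flip.toPerfPair.finrank_eq]
    exact (Module.Free.chooseBasis ℤ M).toDualEquiv.finrank_eq.symm
  have hr : Module.finrank ℤ (P.flip.rootSpan ℤ) = Module.finrank ℤ (P.rootSpan ℤ) :=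
    P.finrank_corootSpan_eq'
  have h2' : Module.finrank ℤ (⨅ i : ι, LinearMap.ker (P.root' i) : Submodule ℤ N) +
      Module.finrank ℤ (P.rootSpan ℤ) = Module.finrank ℤ M := by
    rw [← hr, ← hMN]; exact h2
  refine ⟨h1, h2', ⟨fun h => ?_, fun h => ?_⟩, ⟨fun h => ?_, fun h => ?_⟩⟩
  · apply Submodule.finrank_eq_zero.1
    have h' : Module.finrank ℤ (P.rootSpan ℤ) = Module.finrank ℤ M := h
    omega
  · rw [h, finrank_bot, zero_add] at h1
    exact h1
  · apply Submodule.finrank_eq_zero.1
    have h' : Module.finrank ℤ (P.rootSpan ℤ) = Module.finrank ℤ M := h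
    omega
  · rw [h, finrank_bot, zero_add] at h2'
    exact h2'

end Groth.Agent.S5476
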