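import Groth.Statements.S5478
import Groth.Agent.RootSys.Orth
-- import your own Groth.Agent.* helpers here

set_option autoImplicit false
open RootPairing
open scoped Pointwise
open RootD

namespace Groth.Agent.S5478

open RootSysLib RootBasicLib RootPairing

theorem eq_one {ι M N : Type*} [AddCommGroup M] [AddCommGroup N]
    (P : RootPairing ι ℤ M N) [Finite ι] (u : P.Aut)
    (hs : ∀ m : M, ∃ n : ℕ, 0 < n ∧ n • (u • m - m) ∈ Submodule.span ℤ (Set.range P.root))
    (hfix : ∀ i : ι, u • i = i) : u = 1 := by
  refine aut_ext fun m => ?_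
  rw [one_smul]
  obtain ⟨n, hn, hmem⟩ := hs m
  have h0 : n • (u • m - m) = 0 := eq_zero_of_coroot'_eq_zero hmem fun i => by
    have h := coroot'_smul_smul u i m
    rw [hfix i] at h
    rw [map_nsmul, map_sub, h, sub_self, smul_zero]
  exact sub_eq_zero.1 (nsmul_right_cancel P hn (by rw [h0, smul_zero]))

/-- The group of automorphisms of a root datum that act trivially on the radical is finite. -/
theorem result {ι M N : Type*} [AddCommGroup M] [AddCommGroup N]
    (P : RootPairing ι ℤ M N) [Finite ι] :
    Set.Finite {u : P.Aut | ∀ m : M, ∃ n : ℕ, 0 < n ∧ n • (u • m - m) ∈ Submodule.span ℤ (Set.range P.root)} := by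
  refine Set.Finite.of_injOn (f := fun (u : P.Aut) (i : ι) => u • i) (t := Set.univ)
    (fun _ _ => trivial) ?_ Set.finite_univ
  intro u hu v hv h
  rw [eq_comm, ← inv_mul_eq_one]
  refine eq_one P _ (fun m => ?_) fun i => ?_
  · obtain ⟨a, ha, hma⟩ := hu m
    obtain ⟨b, hb, hmb⟩ := hv m
    refine ⟨a * b, Nat.mul_pos ha hb, ?_⟩
    have hd : (a * b) • (u • m - v • m) ∈ Submodule.span ℤ (Set.range P.root) := by
      rw [show u • m - v • m = (u • m - m) - (v • m - m) by abel, nsmul_sub]
      refine sub_mem ?_ ?_
      · rw [Nat.mul_comm, mul_nsmul']; exact nsmul_mem hma b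
      · rw [mul_nsmul']; exact nsmul_mem hmb a
    have hinv : ∀ x ∈ Submodule.span ℤ (Set.range P.root),
        v⁻¹ • x ∈ Submodule.span ℤ (Set.range P.root) := by
      intro x hx
      induction hx using Submodule.span_induction with
      | mem x hx =>
        obtain ⟨i, rfl⟩ := hx
        rw [← root_smul]
        exact Submodule.subset_span (Set.mem_range_self _)
      | zero => rw [smul_zero]; exact zero_mem _
      | add x y _ _ hx hy => rw [smul_add]; exact add_mem hx hy
      | smul k x _ hx => rw [map_smul_zsmul]; exact Submodule.smul_mem _ k hx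
    have h2 := hinv _ hd
    rw [← natCast_zsmul, map_smul_zsmul, natCast_zsmul, smul_sub, inv_smul_smul] at h2
    rwa [show (v⁻¹ * u) • m = v⁻¹ • u • m from mul_smul _ _ _]
  · rw [mul_smul, show u • i = v • i from congrFun h i, inv_smul_smul]


end Groth.Agent.S5478
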