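import Groth.Statements.S5479
import Groth.Agent.RootSys.Orth
-- import your own Groth.Agent.* helpers here

set_option autoImplicit false
open RootPairing
open scoped Pointwise
open RootD

namespace Groth.Agent.S5479

open RootSysLib RootBasicLib RootPairing

/-- Aut(R) is the semidirect product of the Weyl group by the stabiliser E_Δ of a system of simple
roots: every automorphism is uniquely w · e with w ∈ W and e(Δ) = Δ. -/
theorem result {ι M N : Type*} [AddCommGroup M] [AddCommGroup N]
    (P : RootPairing ι ℤ M N) [Finite ι] (Δ : Set ι) (hΔ : RootD.IsSimpleSys P Δ) (u : P.Aut) :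
    ∃! w : P.weylGroup, (fun i : ι => ((w : P.Aut)⁻¹ * u) • i) '' Δ = Δ := by
  obtain ⟨g, hg, hgS⟩ := exists_image_eq (isPosSys_posOf hΔ) (isPosSys_posOf (isSimpleSys_image hΔ u))
  have hgΔ : (g • ·) '' Δ = (u • ·) '' Δ := image_eq_of_posOf hΔ (isSimpleSys_image hΔ u) g hgS
  have conv : ∀ w : P.Aut, (fun i : ι => (w⁻¹ * u) • i) '' Δ = Δ ↔ (w • ·) '' Δ = (u • ·) '' Δ := by
    intro w
    rw [show (fun i : ι => (w⁻¹ * u) • i) = (w⁻¹ • ·) ∘ (u • ·) from funext fun i => mul_smul _ _ i,
      Set.image_comp]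
    constructor
    · intro h
      conv_lhs => rw [← h]
      rw [← Set.image_comp]
      simp [Function.comp_def]
    · intro h
      rw [← h, ← Set.image_comp]
      simp [Function.comp_def]
  refine ⟨⟨g, hg⟩, (conv g).2 hgΔ, fun w hw => Subtype.ext ?_⟩
  have hw' := (conv w).1 hw
  rw [eq_comm, ← inv_mul_eq_one]
  refine eq_one_of_image_eq hΔ (mul_mem (inv_mem hg) w.2) ?_
  rw [show ((g⁻¹ * (w : P.Aut)) • · : ι → ι) = (g⁻¹ • ·) ∘ ((w : P.Aut) • ·) from
    funext fun i => mul_smul _ _ i, Set.image_comp, hw', ← hgΔ, ← Set.image_comp]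
  simp [Function.comp_def]


end Groth.Agent.S5479
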