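import Groth.Statements.S5482
import Groth.Agent.RootSys.Orth
-- import your own Groth.Agent.* helpers here

set_option autoImplicit false
open RootD

namespace Groth.Agent.S5482

open RootSysLib RootBasicLib RootPairing

/-- If the roots are partitioned into two closed symmetric subsets R', R'', then with Δ' = Δ ∩ R', Δ'' =
Δ ∩ R'' for a system of simple roots Δ one has R' = R_{Δ'}, R'' = R_{Δ''}, and Δ' is orthogonal to
Δ''. -/
theorem result {ι M N : Type*} [AddCommGroup M] [AddCommGroup N]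
    (P : RootPairing ι ℤ M N) [Finite ι] (Δ : Set ι) (hΔ : RootD.IsSimpleSys P Δ) (R' : Set ι)
    (hc : RootD.IsClosedSub P R') (hs : RootD.IsSymmSub P R') (hc' : RootD.IsClosedSub P R'ᶜ)
    (hs' : RootD.IsSymmSub P R'ᶜ) :
    R' = RootD.inSpan P (Δ ∩ R') ∧ R'ᶜ = RootD.inSpan P (Δ \ R') ∧
      ∀ i ∈ Δ ∩ R', ∀ j ∈ Δ \ R', P.IsOrthogonal i j := by
  have horth : ∀ i ∈ Δ ∩ R', ∀ j ∈ Δ \ R', P.IsOrthogonal i j := fun i hi j hj =>
    by_contra fun h => hj.2 (mem_of_not_orth hc hs hc' hs' hi.2 h)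
  have horth' : ∀ i ∈ Δ ∩ R', ∀ j ∈ Δ \ (Δ ∩ R'), P.IsOrthogonal i j := by
    rwa [Set.sdiff_self_inter]
  have hsat : ∀ (R : Set ι), RootD.IsClosedSub P R → RootD.IsSymmSub P R → RootD.IsClosedSub P Rᶜ →
      RootD.IsSymmSub P Rᶜ → RootD.inSpan P (Δ ∩ R) ⊆ R := by
    intro R h1 h2 h3 h4 k hk
    have key : ∀ x, x ∈ RootD.posOf P Δ → x ∈ RootD.inSpan P (Δ ∩ R) → x ∈ R := by
      intro x hx hxs
      obtain ⟨a, ha, hca, hp⟩ := exists_pairing_pos hΔ hx
      have haR : a ∈ Δ ∩ R := by_contra fun hn =>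
        hca.ne' ((mem_inSpan_iff hΔ Set.inter_subset_left).1 hxs a hn)
      exact mem_of_not_orth h1 h2 h3 h4 haR.2 (isOrthogonal_symm' (not_isOrthogonal_of_pairing hp.ne'))
    rcases (isPosSys_posOf hΔ).cover k with h | h
    · exact key k h hk
    · have := h2 (key _ h (by
        show P.root _ ∈ Submodule.span ℤ (P.root '' (Δ ∩ R))
        rw [root_neg]
        exact neg_mem hk))
      rwa [neg_neg_idx] at this
  have hor := inSpan_or hΔ Set.inter_subset_left horth'
  have h2 : RootD.inSpan P (Δ \ R') ⊆ R'ᶜ := by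
    rw [Set.sdiff_eq]
    exact hsat R'ᶜ hc' hs' (by rwa [compl_compl]) (by rwa [compl_compl])
  have h1 := hsat R' hc hs hc' hs'
  refine ⟨Set.Subset.antisymm (fun k hk => ?_) h1, Set.Subset.antisymm (fun k hk => ?_) h2, horth⟩
  · rcases hor k with h | h
    · exact h
    · rw [Set.sdiff_self_inter] at h
      exact absurd hk (h2 h)
  · rcases hor k with h | h
    · exact absurd (h1 h) hk
    · rwa [Set.sdiff_self_inter] at h


end Groth.Agent.S5482
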