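import Groth.Statements.S5483
import Groth.Agent.RootSys.Orth
-- import your own Groth.Agent.* helpers here

set_option autoImplicit false
open RootD

namespace Groth.Agent.S5483

open RootSysLib RootBasicLib RootPairing

/-- If a system of simple roots Δ is the disjoint union of two mutually orthogonal subsets Δ', Δ'', then
R_{Δ'} and R_{Δ''} partition the set of roots. -/
theorem result {ι M N : Type*} [AddCommGroup M] [AddCommGroup N]
    (P : RootPairing ι ℤ M N) [Finite ι] (Δ Δ' : Set ι) (hΔ : RootD.IsSimpleSys P Δ)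
    (hsub : Δ' ⊆ Δ) (horth : ∀ i ∈ Δ', ∀ j ∈ Δ \ Δ', P.IsOrthogonal i j) (k : ι) :
    (k ∈ RootD.inSpan P Δ' ∨ k ∈ RootD.inSpan P (Δ \ Δ')) ∧
      ¬ (k ∈ RootD.inSpan P Δ' ∧ k ∈ RootD.inSpan P (Δ \ Δ')) := by
  refine ⟨inSpan_or hΔ hsub horth k, fun h => ?_⟩
  obtain ⟨a, ha⟩ := exists_coef_ne hΔ k
  by_cases h' : a ∈ Δ'
  · exact ha ((mem_inSpan_iff hΔ Set.sdiff_subset).1 h.2 a fun hc => hc.2 h')
  · exact ha ((mem_inSpan_iff hΔ hsub).1 h.1 a h')


end Groth.Agent.S5483
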