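import Groth.Statements.S5484
import Groth.Agent.RootSys.Lengths
import Mathlib.Analysis.Matrix.PosDef
import Mathlib.Data.Real.StarOrdered
-- import your own Groth.Agent.* helpers here

set_option autoImplicit false
open RootD

namespace Groth.Agent.S5484

open RootSysLib RootBasicLib RootPairing

open Classical in
/-- Every principal minor of the Cartan matrix (a_{α,β} = (α^v, β), α, β simple) is strictly positive. -/
theorem result {ι M N : Type*} [AddCommGroup M] [AddCommGroup N]
    (P : RootPairing ι ℤ M N) [Finite ι] (Δ : Finset ι) (hΔ : RootD.IsSimpleSys P (↑Δ : Set ι))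
    (Δ' : Finset ι) (hsub : Δ' ⊆ Δ) :
    0 < Matrix.det (Matrix.of fun (a b : ↥Δ') => P.pairing (b : ι) (a : ι)) := by
  classical
  let A : Matrix ι ↥Δ' ℤ := fun k a => P.coroot' k (P.root (a : ι))
  let _ := Fintype.ofFinite ι
  have hG : (Matrix.diagonal fun a : ↥Δ' => bform P (P.root a) (P.root a)) *
      Matrix.of (fun a b : ↥Δ' => P.pairing (b : ι) (a : ι)) = (2 : ℤ) • (A.transpose * A) := by
    ext a b
    rw [Matrix.diagonal_mul, Matrix.of_apply, Matrix.smul_apply, Matrix.mul_apply, ← two_bform_root,
      bform_symm, ← rootForm_eq_bform, P.rootForm_apply_apply, smul_eq_mul]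
    rfl
  have hli : LinearIndependent ℤ fun a : ↥Δ' => P.root (a : ι) := hΔ.linInd.mono (Finset.coe_subset.2 hsub)
  have hne : (A.transpose * A).det ≠ 0 := by
    intro h0
    obtain ⟨x, hx, hx0⟩ := Matrix.exists_mulVec_eq_zero_iff.2 h0
    have hAx : A.mulVec x = 0 := by
      refine dotProduct_self_eq_zero.1 ?_
      rw [Matrix.dotProduct_mulVec, ← Matrix.mulVec_transpose, Matrix.mulVec_mulVec, hx0, zero_dotProduct]
    refine hx (funext fun a => Fintype.linearIndependent_iff.1 hli x ?_ a)
    refine eq_zero_of_coroot'_eq_zero (sum_mem fun a _ => Submodule.smul_mem _ _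
      (Submodule.subset_span (Set.mem_range_self (a : ι)))) fun k => ?_
    have h1 := congrFun hAx k
    simp only [A, Matrix.mulVec, dotProduct, Pi.zero_apply] at h1
    rw [map_sum, ← h1]
    exact Finset.sum_congr rfl fun a _ => by rw [map_zsmul, smul_eq_mul, mul_comm]
  have hnn : 0 ≤ (A.transpose * A).det := by
    have h1 := (Matrix.posSemidef_conjTranspose_mul_self (A.map (Int.castRingHom ℝ))).det_nonneg
    rw [Matrix.conjTranspose_eq_transpose_of_trivial, ← Matrix.transpose_map, ← Matrix.map_mul,
      ← RingHom.mapMatrix_apply, ← RingHom.map_det] at h1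
    rw [eq_intCast] at h1
    exact_mod_cast h1
  have hdet := congrArg Matrix.det hG
  rw [Matrix.det_mul, Matrix.det_diagonal, Matrix.det_smul] at hdet
  have hprod : 0 ≤ ∏ a : ↥Δ', bform P (P.root (a : ι)) (P.root (a : ι)) :=
    Finset.prod_nonneg fun a _ => (bform_root_pos P (a : ι)).le
  refine pos_of_mul_pos_right ?_ hprod
  rw [hdet]
  exact mul_pos (pow_pos two_pos _) (lt_of_le_of_ne hnn (Ne.symm hne))


end Groth.Agent.S5484
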