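import Groth.Statements.S5488
import Groth.Agent.RootBasic.Int

set_option autoImplicit false
open RootPairing
open scoped Pointwise
open RootD

namespace Groth.Agent.S5488

/-- The reduced datum of indivisible roots has the same Weyl group: the reflections in indivisible roots
generate W. -/
theorem result {ι M N : Type*} [AddCommGroup M] [AddCommGroup N]
    (P : RootPairing ι ℤ M N) [Finite ι] :
    Subgroup.closure ((fun i : ι => Equiv.reflection P i) '' {i : ι | RootD.IsIndiv P i}) = P.weylGroup := by
  apply le_antisymm
  · rw [Subgroup.closure_le]
    rintro _ ⟨i, _, rfl⟩
    exact Subgroup.subset_closure ⟨i, rfl⟩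
  · show Subgroup.closure _ ≤ _
    rw [Subgroup.closure_le]
    rintro _ ⟨i, rfl⟩
    by_cases hi : RootD.IsIndiv P i
    · exact Subgroup.subset_closure ⟨i, hi, rfl⟩
    · simp only [RootD.IsIndiv, not_forall, not_not] at hi
      obtain ⟨j, hj⟩ := hi
      have hjind : RootD.IsIndiv P j := by
        intro k hk
        have e1 := congrArg (P.coroot' k) hj
        have e2 := congrArg (P.coroot' i) hk
        have e3 := congrArg (P.coroot' k) hk
        have e4 := congrArg (P.coroot' i) hj
        simp only [map_zsmul, RootPairing.root_coroot'_eq_pairing, RootPairing.pairing_same,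
          smul_eq_mul] at e1 e2 e3 e4
        omega
      refine Subgroup.subset_closure ⟨j, hjind, ?_⟩
      apply RootPairing.Equiv.weightHom_injective P
      ext x
      show RootPairing.Equiv.reflection P j • x = RootPairing.Equiv.reflection P i • x
      rw [RootPairing.Equiv.reflection_smul, RootPairing.Equiv.reflection_smul,
        RootPairing.reflection_apply, RootPairing.reflection_apply, ← hj, smul_smul]
      congr 2
      have h1 := RootBasicLib.two_bform_apply_root P x i
      have h2 := RootBasicLib.two_bform_apply_root P x j
      rw [← hj] at h1
      simp only [map_zsmul, LinearMap.smul_apply, smul_eq_mul] at h1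
      have hp := RootBasicLib.bform_root_pos P j
      have : RootBasicLib.bform P (P.root j) (P.root j) *
          (P.coroot' j x - P.coroot' i x * 2) = 0 := by linarith
      rcases mul_eq_zero.1 this with h | h
      · exact absurd h hp.ne'
      · exact sub_eq_zero.1 h

end Groth.Agent.S5488
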