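import Groth.Statements.S5489
import Groth.Agent.RootSys.Orth
-- import your own Groth.Agent.* helpers here

set_option autoImplicit false
open RootD

namespace Groth.Agent.S5489

open RootSysLib RootBasicLib RootPairing

/-- If a root α, distinct from roots α_1, ..., α_n, is a non-negative rational combination of them, then
some α_l with non-zero coefficient has (α^v, α_l) > 0 and α - α_l a root. -/
theorem result {ι M N : Type*} [AddCommGroup M] [AddCommGroup N]
    (P : RootPairing ι ℤ M N) [Finite ι] {n : ℕ} (a : Fin n → ι) (m : Fin n → ℕ)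
    (k : ι) (hne : ∀ l, a l ≠ k) (c : ℕ) (hc : 0 < c) (hk : c • P.root k = ∑ l, m l • P.root (a l)) :
    ∃ l : Fin n, m l ≠ 0 ∧ 0 < P.pairing (a l) k ∧ P.root k - P.root (a l) ∈ Set.range P.root := by
  have h : 0 < bform P (P.root k) (∑ l, m l • P.root (a l)) := by
    rw [← hk, map_nsmul, nsmul_eq_mul]
    exact mul_pos (Nat.cast_pos.2 hc) (bform_root_pos P k)
  rw [map_sum] at h
  obtain ⟨l, -, hl⟩ := Finset.exists_lt_of_sum_lt (f := fun _ => (0 : ℤ)) (by simpa using h)
  have hml : m l ≠ 0 := fun h0 => by simp [h0] at hl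
  have hp := pos_of_mul_pos_right hl (Nat.cast_nonneg _)
  obtain ⟨j, hj⟩ := exists_root_eq_sub P ((bform_root_pos_iff P _ _).1 hp) (hne l).symm
  refine ⟨l, hml, (bform_root_pos_iff P _ _).1 (by rwa [bform_symm]), j, hj⟩


end Groth.Agent.S5489
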