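import Groth.Statements.S5493
import Groth.Agent.RootSys.Morph
-- import your own Groth.Agent.* helpers here

set_option autoImplicit false
open RootD

namespace Groth.Agent.S5493

open RootSysLib RootBasicLib RootPairing

theorem coroot'_neg {ι₀ M₀ N₀ : Type*} [AddCommGroup M₀] [AddCommGroup N₀]
    (Q : RootPairing ι₀ ℤ M₀ N₀) (i : ι₀) (x : M₀) :
    Q.coroot' (Q.reflectionPerm i i) x = -Q.coroot' i x := by
  have h := coroot'_smul_smul (P := Q) (RootPairing.Equiv.reflection Q i) i (Q.reflection i x)
  rw [RootPairing.Equiv.reflection_smul, Q.reflection_same, reflection_smul_idx] at h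
  rw [h, Q.reflection_apply, map_sub, map_zsmul, Q.root_coroot'_eq_pairing, Q.pairing_same, smul_eq_mul]
  ring

variable {ι M N ι' M' N' : Type*} [AddCommGroup M] [AddCommGroup N] [AddCommGroup M'] [AddCommGroup N']
  {P : RootPairing ι ℤ M N} {P' : RootPairing ι' ℤ M' N'} [Finite ι] [Finite ι'] [P.IsReduced]

theorem exists_index (b : P.Base) (f : M ≃ₗ[ℤ] M') (v : ι → ι')
    (hf : ∀ a ∈ b.support, f (P.root a) = P'.root (v a))
    (hc : ∀ a ∈ b.support, ∀ x, P'.coroot' (v a) (f x) = P.coroot' a x) (k : ι) :
    ∃ k', f (P.root k) = P'.root k' ∧ ∀ x, P'.coroot' k' (f x) = P.coroot' k x := by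
  refine b.induction_reflect k (p := fun k => ∃ k', f (P.root k) = P'.root k' ∧
    ∀ x, P'.coroot' k' (f x) = P.coroot' k x) ?_ (fun a ha => ⟨v a, hf a ha, hc a ha⟩) ?_
  · rintro k ⟨k', h1, h2⟩
    exact ⟨P'.reflectionPerm k' k', by rw [root_neg, root_neg, map_neg, h1],
      fun x => by rw [coroot'_neg, coroot'_neg, h2]⟩
  · rintro k a ⟨k', h1, h2⟩ ha
    refine ⟨P'.reflectionPerm (v a) k', ?_, fun x => ?_⟩
    · rw [root_reflectionPerm', root_reflectionPerm', map_sub, map_zsmul, hf a ha, h1,
        ← P.root_coroot'_eq_pairing, ← hc a ha, h1, P'.root_coroot'_eq_pairing]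
    · obtain ⟨y, rfl⟩ := (P.reflection a).surjective x
      have e : f (P.reflection a y) = P'.reflection (v a) (f y) := by
        rw [P.reflection_apply, P'.reflection_apply, map_sub, map_zsmul, hf a ha, hc a ha]
      rw [e, ← RootPairing.Equiv.reflection_smul, ← reflection_smul_idx, coroot'_smul_smul,
        ← RootPairing.Equiv.reflection_smul, ← reflection_smul_idx, coroot'_smul_smul, h2]

/-- Adjoint case; the simply connected case is dual: two reduced adjoint root data with systems of
simple roots Δ, Δ' and a bijection u : Δ → Δ' respecting the Cartan matrices are isomorphic through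
a unique isomorphism inducing u on Δ. -/
theorem result {ι M N ι' M' N' : Type*} [AddCommGroup M] [AddCommGroup N] [AddCommGroup M'] [AddCommGroup N']
    (P : RootPairing ι ℤ M N) (P' : RootPairing ι' ℤ M' N') [Finite ι] [Finite ι'] [P.IsReduced] [P'.IsReduced]
    (had : Submodule.span ℤ (Set.range P.root) = ⊤) (had' : Submodule.span ℤ (Set.range P'.root) = ⊤)
    (b : P.Base) (b' : P'.Base) (u : ↥b.support ≃ ↥b'.support)
    (hu : ∀ i j : ↥b.support, P.pairing (i : ι) (j : ι) = P'.pairing (u i : ι') (u j : ι')) :
    ∃! e : RootPairing.Equiv P P', ∀ i : ↥b.support, e.indexEquiv (i : ι) = (u i : ι') := by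
  classical
  let B : Module.Basis b.support ℤ M := Module.Basis.mk (v := fun a : b.support => P.root a)
    b.linearIndepOn_root (by
      rw [← had, ← b.span_int_root_support]
      exact Submodule.span_mono (by rintro _ ⟨a, ha, rfl⟩; exact ⟨⟨a, ha⟩, rfl⟩))
  let B' : Module.Basis b'.support ℤ M' := Module.Basis.mk (v := fun a : b'.support => P'.root a)
    b'.linearIndepOn_root (by
      rw [← had', ← b'.span_int_root_support]
      exact Submodule.span_mono (by rintro _ ⟨a, ha, rfl⟩; exact ⟨⟨a, ha⟩, rfl⟩))
  let f := B.equiv B' u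
  have hB : ∀ a, B a = P.root (a : ι) := fun a => Module.Basis.mk_apply _ _ a
  have hB' : ∀ a, B' a = P'.root (a : ι') := fun a => Module.Basis.mk_apply _ _ a
  have hf : ∀ a : b.support, f (P.root (a : ι)) = P'.root (u a : ι') := fun a => by
    rw [← hB, Module.Basis.equiv_apply, hB']
  have hf' : ∀ a : b'.support, f.symm (P'.root (a : ι')) = P.root (u.symm a : ι) := fun a => by
    rw [f.symm_apply_eq, hf, u.apply_symm_apply]
  rcases isEmpty_or_nonempty ι' with hι' | hι'
  · have : IsEmpty ι := ⟨fun i => by
      obtain ⟨s, hs⟩ : b.support.Nonempty := by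
        have : Nonempty ι := ⟨i⟩
        exact b.support_nonempty
      exact hι'.false (u ⟨s, hs⟩ : ι')⟩
    have htop : ∀ m : M, m = 0 := fun m => by
      have : m ∈ Submodule.span ℤ (Set.range P.root) := by rw [had]; exact Submodule.mem_top
      rwa [Set.range_eq_empty, Submodule.span_empty, Submodule.mem_bot] at this
    let e : RootPairing.Equiv P P' :=
      { weightMap := f.toLinearMap
        coweightMap := P.flip.toPerfPair.symm.toLinearMap ∘ₗ f.toLinearMap.dualMap ∘ₗ P'.flip.toPerfPair.toLinearMap
        indexEquiv := Equiv.equivOfIsEmpty ι ι'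
        weight_coweight_transpose := by ext; simp
        root_weightMap := funext fun i => isEmptyElim i
        coroot_coweightMap := funext fun i => isEmptyElim i
        bijective_weightMap := f.bijective
        bijective_coweightMap := P.flip.toPerfPair.symm.bijective.comp
          ((LinearEquiv.dualMap f).bijective.comp P'.flip.toPerfPair.bijective) }
    refine ⟨e, fun i => isEmptyElim (i : ι), fun e' _ => ?_⟩
    have hw : e'.weightMap = e.weightMap := LinearMap.ext fun m => by rw [htop m, map_zero, map_zero]
    have hco : e'.coweightMap = e.coweightMap := LinearMap.ext fun n => by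
      apply P.flip.toPerfPair.injective
      rw [← RootPairing.Hom.weight_coweight_transpose_apply P P' n e'.toHom,
        ← RootPairing.Hom.weight_coweight_transpose_apply P P' n e.toHom, hw]
    have hi : e'.indexEquiv = e.indexEquiv := Equiv.ext fun i => isEmptyElim i
    exact RootPairing.Equiv.ext hw hco hi
  have i0 : ι' := Classical.arbitrary ι'
  have hι : Nonempty ι := by
    obtain ⟨s, hs⟩ : b'.support.Nonempty := b'.support_nonempty
    exact ⟨(u.symm ⟨s, hs⟩ : ι)⟩
  have j0 : ι := Classical.arbitrary ι
  let v : ι → ι' := fun a => if h : a ∈ b.support then u ⟨a, h⟩ else i0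
  let v' : ι' → ι := fun a => if h : a ∈ b'.support then u.symm ⟨a, h⟩ else j0
  have hv : ∀ (a : ι) (ha : a ∈ b.support), v a = u ⟨a, ha⟩ := fun a ha => dif_pos ha
  have hv' : ∀ (a : ι') (ha : a ∈ b'.support), v' a = u.symm ⟨a, ha⟩ := fun a ha => dif_pos ha
  have hcb : ∀ a : b.support, (P'.coroot' (u a : ι')).comp f.toLinearMap = P.coroot' (a : ι) := fun a =>
    B.ext fun c => by
      rw [LinearMap.comp_apply, LinearEquiv.coe_coe, Module.Basis.equiv_apply, hB, hB',
        P.root_coroot'_eq_pairing, P'.root_coroot'_eq_pairing, hu]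
  choose ix hix hix' using exists_index (P' := P') b f v
    (fun a ha => by rw [hv a ha]; exact hf ⟨a, ha⟩)
    (fun a ha x => by rw [hv a ha]; exact LinearMap.congr_fun (hcb ⟨a, ha⟩) x)
  choose jx hjx _ using exists_index (P' := P) b' f.symm v'
    (fun a ha => by rw [hv' a ha]; exact hf' ⟨a, ha⟩)
    (fun a ha x => by
      rw [hv' a ha]
      have h := LinearMap.congr_fun (hcb (u.symm ⟨a, ha⟩)) (f.symm x)
      rw [LinearMap.comp_apply, LinearEquiv.coe_coe, f.apply_symm_apply, u.apply_symm_apply] at h
      exact h.symm)
  let idx : ι ≃ ι' :=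
    { toFun := ix
      invFun := jx
      left_inv := fun i => P.root.injective (by rw [← hjx, ← hix, f.symm_apply_apply])
      right_inv := fun i => P'.root.injective (by rw [← hix, ← hjx, f.apply_symm_apply]) }
  let e : RootPairing.Equiv P P' :=
    { weightMap := f.toLinearMap
      coweightMap := P.flip.toPerfPair.symm.toLinearMap ∘ₗ f.toLinearMap.dualMap ∘ₗ P'.flip.toPerfPair.toLinearMap
      indexEquiv := idx
      weight_coweight_transpose := by ext; simp
      root_weightMap := funext fun i => hix i
      coroot_coweightMap := funext fun i' => by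
        apply P.flip.toPerfPair.injective
        simp only [Function.comp_apply, LinearMap.comp_apply, LinearEquiv.coe_coe, LinearEquiv.apply_symm_apply]
        refine LinearMap.ext fun x => ?_
        have h := hix' (idx.symm i') x
        rw [show ix (idx.symm i') = i' from idx.apply_symm_apply i'] at h
        exact h
      bijective_weightMap := f.bijective
      bijective_coweightMap := P.flip.toPerfPair.symm.bijective.comp
        ((LinearEquiv.dualMap f).bijective.comp P'.flip.toPerfPair.bijective) }
  refine ⟨e, fun a => P'.root.injective ((hix a).symm.trans (hf a)), fun e' he' => ?_⟩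
  have hw : e'.weightMap = e.weightMap := B.ext fun a => by
    rw [hB]
    show e'.weightMap (P.root (a : ι)) = f (P.root (a : ι))
    rw [hf, RootPairing.Hom.root_weightMap_apply, he']
  have hco : e'.coweightMap = e.coweightMap := LinearMap.ext fun n => by
    apply P.flip.toPerfPair.injective
    rw [← RootPairing.Hom.weight_coweight_transpose_apply P P' n e'.toHom,
      ← RootPairing.Hom.weight_coweight_transpose_apply P P' n e.toHom, hw]
  have hi : e'.indexEquiv = e.indexEquiv := Equiv.ext fun i => P'.root.injective (by
    rw [← RootPairing.Hom.root_weightMap_apply, ← RootPairing.Hom.root_weightMap_apply, hw])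
  exact RootPairing.Equiv.ext hw hco hi


end Groth.Agent.S5493
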