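import Groth.Statements.S5494
import Groth.Agent.RootSys.Orth
-- import your own Groth.Agent.* helpers here

set_option autoImplicit false
open RootD

namespace Groth.Agent.S5494

open RootSysLib RootBasicLib RootPairing

/-- If a system of simple roots has no partition into two non-empty orthogonal subsets, then any two
roots are linked by a chain of roots with consecutive members non-orthogonal. -/
theorem result {ι M N : Type*} [AddCommGroup M] [AddCommGroup N]
    (P : RootPairing ι ℤ M N) [Finite ι] (Δ : Set ι) (hΔ : RootD.IsSimpleSys P Δ)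
    (hconn : ∀ Δ' : Set ι, Δ' ⊆ Δ → (∀ i ∈ Δ', ∀ j ∈ Δ \ Δ', P.IsOrthogonal i j) → Δ' = ∅ ∨ Δ' = Δ)
    (i j : ι) : Relation.ReflTransGen (fun a b : ι => ¬ P.IsOrthogonal a b) i j := by
  rcases Set.eq_empty_or_nonempty Δ with rfl | ⟨a0, ha0⟩
  · obtain ⟨b, hb⟩ := exists_coef_ne hΔ i
    exact absurd (mem_of_coef_ne hΔ hb) (Set.notMem_empty b)
  have hall : ∀ a ∈ Δ, Linked P a0 a := by
    rcases hconn (Δ ∩ {a | Linked P a0 a}) Set.inter_subset_left (fun x hx y hy => by_contra fun h =>
      hy.2 ⟨hy.1, Relation.ReflTransGen.tail hx.2 h⟩) with h | h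
    · exact absurd (h.subset ⟨ha0, .refl⟩) (Set.notMem_empty a0)
    · exact fun a ha => (h.symm.subset ha).2
  have hk : ∀ k, Linked P a0 k := by
    intro k
    rcases (isPosSys_posOf hΔ).cover k with h | h
    · obtain ⟨a, ha, -, hp⟩ := exists_pairing_pos hΔ h
      exact (hall a ha).tail (isOrthogonal_symm' (not_isOrthogonal_of_pairing hp.ne'))
    · obtain ⟨a, ha, -, hp⟩ := exists_pairing_pos hΔ h
      exact ((hall a ha).tail (isOrthogonal_symm' (not_isOrthogonal_of_pairing hp.ne'))).trans
        (linked_symm (linked_neg k))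
  exact (linked_symm (hk i)).trans (hk j)


end Groth.Agent.S5494
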