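import Groth.Statements.S5495
import Groth.Agent.RootBasic.Int

set_option autoImplicit false
open RootD

namespace Groth.Agent.S5495

/-- If α is an indivisible root and kα is a root for a rational k, then k is an integer. -/
theorem result {ι M N : Type*} [AddCommGroup M] [AddCommGroup N]
    (P : RootPairing ι ℤ M N) [Finite ι] (i j : ι) (hind : RootD.IsIndiv P i) (a b : ℤ) (hb : b ≠ 0)
    (h : b • P.root j = a • P.root i) : b ∣ a := by
  have e1 := congrArg (P.coroot' i) h
  have e2 := congrArg (P.coroot' j) h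
  simp only [map_zsmul, RootPairing.root_coroot'_eq_pairing, RootPairing.pairing_same, smul_eq_mul] at e1 e2
  have ha : a ≠ 0 := by
    rintro rfl
    simp at e2
    omega
  have hpq : P.pairing j i * P.pairing i j = 4 := by
    have hab : b * a ≠ 0 := mul_ne_zero hb ha
    apply mul_left_cancel₀ hab
    linear_combination (a * P.pairing i j) * e1 - (2 * a) * e2
  rcases Int.even_or_odd (P.pairing j i) with ⟨t, ht⟩ | ho
  · exact ⟨t, by rw [ht] at e1; linarith⟩
  exfalso
  have hd : P.pairing j i ∣ 4 := Dvd.intro _ hpq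
  have h4 : |P.pairing j i| ≤ 4 := Int.le_of_dvd (by norm_num) ((abs_dvd _ _).2 hd)
  rw [abs_le] at h4
  have hp : P.pairing j i = 1 ∨ P.pairing j i = -1 := by
    obtain ⟨t, ht⟩ := ho
    obtain ⟨l, hl⟩ := h4
    have : t = -2 ∨ t = -1 ∨ t = 0 ∨ t = 1 := by omega
    rcases this with rfl | rfl | rfl | rfl <;> simp at ht <;> simp [ht] at hpq ⊢ <;> omega
  rcases hp with hp | hp
  · refine hind j ?_
    have hb2 : b = 2 * a := by rw [hp] at e1; linarith
    have : a • ((2 : ℤ) • P.root j - P.root i) = 0 := by
      rw [smul_sub, smul_smul, mul_comm a 2, ← hb2, h, sub_self]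
    exact sub_eq_zero.1 (RootBasicLib.smul_eq_zero_imp P ha this)
  · refine hind (P.reflectionPerm j j) ?_
    have hb2 : b = - (2 * a) := by rw [hp] at e1; linarith
    have : a • ((2 : ℤ) • P.root j + P.root i) = 0 := by
      rw [smul_add, smul_smul, mul_comm a 2, ← h, hb2, neg_smul, add_neg_cancel]
    have h2 := RootBasicLib.smul_eq_zero_imp P ha this
    rw [RootBasicLib.root_reflectionPerm_self, smul_neg, neg_eq_iff_add_eq_zero, h2]

end Groth.Agent.S5495
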