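import Groth.Statements.S5496
import Groth.Agent.RootSys.Morph
-- import your own Groth.Agent.* helpers here

set_option autoImplicit false
open RootPairing
open scoped Pointwise
open RootD

namespace Groth.Agent.S5496

open RootSysLib RootBasicLib RootPairing

/-- For non-proportional roots α, β let n be the least integer n > 0 with (s_α s_β)^n(α) = α and (s_α
s_β)^n(β) = β. Then the subgroup W_{α,β} generated by s_α and s_β is presented by s_α² = s_β² = (s_α
s_β)^n = 1; equivalently it has exactly 2n elements. -/
theorem result {ι M N : Type*} [AddCommGroup M] [AddCommGroup N]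
    (P : RootPairing ι ℤ M N) [Finite ι] (i j : ι) (hli : LinearIndependent ℤ ![P.root i, P.root j])
    (n : ℕ) (hn : IsLeast {m : ℕ | 0 < m ∧ ((Equiv.reflection P i * Equiv.reflection P j) ^ m) • i = i ∧
      ((Equiv.reflection P i * Equiv.reflection P j) ^ m) • j = j} n) :
    Nat.card (Subgroup.closure ({Equiv.reflection P i, Equiv.reflection P j} : Set P.Aut)) = 2 * n := by
  classical
  set s := Equiv.reflection P i
  set t := Equiv.reflection P j
  set x := s * t
  have hss : s * s = 1 := by rw [mul_eq_one_iff_eq_inv, RootSysLib.reflection_inv]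
  have htt : t * t = 1 := by rw [mul_eq_one_iff_eq_inv, RootSysLib.reflection_inv]
  have hself : ∀ a, Equiv.reflection P a ≠ 1 := by
    intro a h
    have := congrArg (fun u : P.Aut => u • P.root a) h
    simp only [one_smul, Equiv.reflection_smul, P.reflection_apply_self] at this
    refine P.ne_zero a (smul_eq_zero_imp P two_ne_zero ?_)
    rw [two_smul]
    exact neg_eq_iff_add_eq_zero.1 this
  have hmove : ∀ u ∈ Subgroup.closure ({s, t} : Set P.Aut), ∀ m : M,
      u • m - m ∈ Submodule.span ℤ {P.root i, P.root j} := by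
    have hbase : ∀ a, a = i ∨ a = j → ∀ m : M,
        Equiv.reflection P a • m - m ∈ Submodule.span ℤ {P.root i, P.root j} := fun a ha m => by
      rw [Equiv.reflection_smul, P.reflection_apply, sub_sub_cancel_left]
      refine neg_mem (Submodule.smul_mem _ _ (Submodule.subset_span ?_))
      rcases ha with rfl | rfl <;> simp
    intro u hu
    induction hu using Subgroup.closure_induction with
    | mem u hu =>
      rcases hu with rfl | rfl
      · exact hbase i (Or.inl rfl)
      · exact hbase j (Or.inr rfl)
    | one => simp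
    | mul a b _ _ ha hb =>
      intro m
      rw [mul_smul, show a • b • m - m = (a • b • m - b • m) + (b • m - m) by abel]
      exact add_mem (ha _) (hb m)
    | inv a _ ha =>
      intro m
      have := neg_mem (ha (a⁻¹ • m))
      rwa [smul_inv_smul, neg_sub] at this
  obtain ⟨⟨hn0, hfi, hfj⟩, hleast⟩ := hn
  have hsm : s ∈ Subgroup.closure ({s, t} : Set P.Aut) := Subgroup.subset_closure (Set.mem_insert s _)
  have htm : t ∈ Subgroup.closure ({s, t} : Set P.Aut) :=
    Subgroup.subset_closure (Set.mem_insert_of_mem s rfl)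
  have hxmem : ∀ m : ℕ, x ^ m ∈ Subgroup.closure ({s, t} : Set P.Aut) := fun m =>
    pow_mem (mul_mem hsm htm) m
  have hxn : x ^ n = 1 := eq_one_of_fix_pair hfi hfj (hmove _ (hxmem n))
  have hord : orderOf x = n := by
    refine le_antisymm (orderOf_le_of_pow_eq_one hn0 hxn) ?_
    have h0 := IsOfFinOrder.orderOf_pos (isOfFinOrder_iff_pow_eq_one.2 ⟨n, hn0, hxn⟩)
    exact hleast ⟨h0, by rw [pow_orderOf_eq_one, one_smul], by rw [pow_orderOf_eq_one, one_smul]⟩
  have hnot : s ∉ Subgroup.zpowers x := by
    intro h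
    obtain ⟨k, hk⟩ := h
    have hc : s * x = x * s := by rw [← hk]; exact ((Commute.refl x).zpow_left k).eq
    have hst : s * t = t * s := by
      simp only [x, ← mul_assoc, hss, one_mul] at hc
      calc s * t = s * (s * t * s) := by rw [← hc]
        _ = t * s := by rw [← mul_assoc, ← mul_assoc, hss, one_mul]
    have hx2 : x ^ (2 : ℤ) = 1 := by
      rw [zpow_two]
      show s * t * (s * t) = 1
      conv_lhs => arg 1; rw [hst]
      rw [mul_assoc, ← mul_assoc s s, hss, one_mul, htt]
    obtain ⟨m, rfl | rfl⟩ := Int.even_or_odd' k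
    · simp only [zpow_mul, hx2, one_zpow] at hk
      exact hself i hk.symm
    · simp only [zpow_add, zpow_mul, hx2, one_zpow, one_mul, zpow_one] at hk
      exact hself j (mul_left_cancel (hk.trans (mul_one s).symm))
  have hset : (Subgroup.closure ({s, t} : Set P.Aut) : Set P.Aut) =
      (Subgroup.zpowers x : Set P.Aut) ∪ (s * ·) '' (Subgroup.zpowers x : Set P.Aut) := by
    have hsxs : ∀ k : ℤ, s * x ^ k = x ^ (-k) * s := by
      intro k
      have h1 : SemiconjBy s x x⁻¹ := by
        show s * (s * t) = (s * t)⁻¹ * s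
        rw [mul_inv_rev, RootSysLib.reflection_inv, RootSysLib.reflection_inv, ← mul_assoc, hss, one_mul,
          mul_assoc, hss, mul_one]
      simpa [inv_zpow] using (h1.zpow_right k).eq
    refine Set.Subset.antisymm (fun u hu => ?_) ?_
    · induction hu using Subgroup.closure_induction with
      | mem u hu =>
        rcases hu with rfl | rfl
        · exact Or.inr ⟨1, one_mem _, mul_one _⟩
        · refine Or.inr ⟨x, Subgroup.mem_zpowers x, ?_⟩
          show s * (s * t) = t
          rw [← mul_assoc, hss, one_mul]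
      | one => exact Or.inl (one_mem _)
      | mul a b _ _ ha hb =>
        rcases ha with ha | ⟨a, ha, rfl⟩ <;> rcases hb with hb | ⟨b, hb, rfl⟩
        · exact Or.inl (mul_mem ha hb)
        · obtain ⟨p, rfl⟩ := ha
          obtain ⟨q, rfl⟩ := hb
          refine Or.inr ⟨x ^ (-p + q), ⟨_, rfl⟩, ?_⟩
          show s * x ^ (-p + q) = x ^ p * (s * x ^ q)
          rw [zpow_add, ← mul_assoc, hsxs, neg_neg, mul_assoc]
        · exact Or.inr ⟨a * b, mul_mem ha hb, (mul_assoc _ _ _).symm⟩
        · obtain ⟨p, rfl⟩ := ha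
          obtain ⟨q, rfl⟩ := hb
          refine Or.inl ⟨-p + q, ?_⟩
          show x ^ (-p + q) = s * x ^ p * (s * x ^ q)
          rw [hsxs, mul_assoc, ← mul_assoc s s, hss, one_mul, zpow_add]
      | inv a _ ha =>
        rcases ha with ha | ⟨a, ⟨p, rfl⟩, rfl⟩
        · exact Or.inl (inv_mem ha)
        · refine Or.inr ⟨x ^ p, ⟨p, rfl⟩, ?_⟩
          show s * x ^ p = (s * x ^ p)⁻¹
          rw [mul_inv_rev, RootSysLib.reflection_inv, ← zpow_neg, hsxs]
    · rintro u (⟨p, rfl⟩ | ⟨_, ⟨p, rfl⟩, rfl⟩)
      · exact zpow_mem (mul_mem hsm htm) p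
      · exact mul_mem hsm
          (zpow_mem (mul_mem hsm htm) p)
  have hfinC : (Subgroup.zpowers x : Set P.Aut).Finite := by
    have : Finite (Subgroup.zpowers x) := (isOfFinOrder_iff_pow_eq_one.2 ⟨n, hn0, hxn⟩).finite_zpowers
    exact Set.toFinite _
  have hcC : (Subgroup.zpowers x : Set P.Aut).ncard = n := by
    rw [← hord, ← Nat.card_zpowers, ← Nat.card_coe_set_eq]
    rfl
  show Nat.card ((Subgroup.closure ({s, t} : Set P.Aut) : Set P.Aut) : Type _) = 2 * n
  rw [hset, Nat.card_coe_set_eq, Set.ncard_union_eq ?_ hfinC (hfinC.image _),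
    Set.ncard_image_of_injective _ (mul_right_injective s), hcC, two_mul]
  rw [Set.disjoint_left]
  rintro u hu ⟨v, hv, rfl⟩
  refine hnot ?_
  have := mul_mem hu (inv_mem hv)
  rwa [show s * v * v⁻¹ = s from mul_inv_cancel_right s v] at this


end Groth.Agent.S5496
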