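import Groth.Statements.S5498
import Groth.Agent.RootSys.Lengths
-- import your own Groth.Agent.* helpers here

set_option autoImplicit false
open RootD

namespace Groth.Agent.S5498

open RootSysLib RootBasicLib RootPairing

/-- If R is irreducible then so is the dual datum R^v, and long(α)·long(α^v) (equivalently ℓ(α) ℓ(α^v))
is constant on the roots. -/
theorem result {ι M N : Type*} [AddCommGroup M] [AddCommGroup N]
    (P : RootPairing ι ℤ M N) [Finite ι] [Fintype ι] [Nonempty ι]
    (hirr : ∀ R' : Set ι, RootD.IsClosedSub P R' → RootD.IsSymmSub P R' → RootD.IsClosedSub P R'ᶜ →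
      RootD.IsSymmSub P R'ᶜ → R' = ∅ ∨ R' = Set.univ) :
    (∀ R' : Set ι, RootD.IsClosedSub P.flip R' → RootD.IsSymmSub P.flip R' → RootD.IsClosedSub P.flip R'ᶜ →
      RootD.IsSymmSub P.flip R'ᶜ → R' = ∅ ∨ R' = Set.univ) ∧
    ∀ i j : ι, P.RootForm (P.root i) (P.root i) * P.CorootForm (P.coroot i) (P.coroot i) =
      P.RootForm (P.root j) (P.root j) * P.CorootForm (P.coroot j) (P.coroot j) := by
  constructor
  · intro R' hc hs hc' hs'
    rcases Set.eq_empty_or_nonempty R' with h | ⟨i, hi⟩
    · exact Or.inl h
    · refine Or.inr (Set.eq_univ_of_forall fun j => ?_)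
      have hlink := linked_of_irreducible hirr i j
      induction hlink with
      | refl => exact hi
      | tail _ hab ih =>
        exact mem_of_not_orth hc hs hc' hs' ih fun h => hab (isOrthogonal_flip.1 h)
  · intro i j
    simp only [RootPairing.CorootForm, rootForm_eq_bform]
    exact lam_eq_of_linked (linked_of_irreducible hirr i j)


end Groth.Agent.S5498
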