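import Groth.Statements.S5499
import Groth.Agent.RootSys.Lengths
-- import your own Groth.Agent.* helpers here

set_option autoImplicit false
open RootD

namespace Groth.Agent.S5499

open RootSysLib RootBasicLib RootPairing

/-- For an irreducible datum, where long(α) = ℓ(α)/ℓ(α₀) with ℓ(α₀) minimal: there is a unique
homomorphism u : Γ_0(R) → M^v with u(α) = long(α) α^v for every root α. -/
theorem result {ι M N : Type*} [AddCommGroup M] [AddCommGroup N]
    (P : RootPairing ι ℤ M N) [Finite ι] [Fintype ι]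
    (hirr : ∀ R' : Set ι, RootD.IsClosedSub P R' → RootD.IsSymmSub P R' → RootD.IsClosedSub P R'ᶜ →
      RootD.IsSymmSub P R'ᶜ → R' = ∅ ∨ R' = Set.univ)
    (i₀ : ι) (hmin : ∀ i : ι, P.RootForm (P.root i₀) (P.root i₀) ≤ P.RootForm (P.root i) (P.root i)) :
    ∃! u : Submodule.span ℤ (Set.range P.root) →+ N, ∀ i : ι,
      u ⟨P.root i, Submodule.subset_span (Set.mem_range_self i)⟩ =
        (P.RootForm (P.root i) (P.root i) / P.RootForm (P.root i₀) (P.root i₀)) • P.coroot i := by
  classical
  haveI := torsionFree P.flip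
  simp only [rootForm_eq_bform] at hmin ⊢
  have hp := bform_root_pos P i₀
  have hdvd : ∀ i, bform P (P.root i₀) (P.root i₀) ∣ bform P (P.root i) (P.root i) := by
    intro i
    obtain ⟨g, -, hgi⟩ := exists_conj_not_orth (linked_of_irreducible hirr i₀ i)
    obtain ⟨q, -, -, hq, -⟩ := length_ratio hgi (hmin _)
    rw [root_smul, bform_smul, mul_comm] at hq
    exact ⟨q, hq⟩
  set q : ι → ℤ := fun i => bform P (P.root i) (P.root i) / bform P (P.root i₀) (P.root i₀)
  have hq : ∀ i, bform P (P.root i₀) (P.root i₀) * q i = bform P (P.root i) (P.root i) := fun i =>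
    Int.mul_ediv_cancel' (hdvd i)
  obtain ⟨Δ, hΔ⟩ := exists_isSimpleSys P
  choose r hrs hre using fun x : Submodule.span ℤ (Set.range P.root) => exists_repr hΔ x.2
  let F := Finsupp.linearCombination ℤ fun a => q a • P.coroot a
  have hF : ∀ c, bform P (P.root i₀) (P.root i₀) • F c = pol P (Finsupp.linearCombination ℤ P.root c) := by
    intro c
    rw [pol_lc, Finsupp.linearCombination_apply, Finsupp.linearCombination_apply, Finsupp.smul_sum]
    refine Finsupp.sum_congr fun a _ => ?_
    rw [smul_comm, smul_smul (bform P (P.root i₀) (P.root i₀)) (q a), hq]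
  have hcancel : ∀ {x y : N}, bform P (P.root i₀) (P.root i₀) • x = bform P (P.root i₀) (P.root i₀) • y → x = y :=
    fun {x y} h => smul_right_cancel P.flip hp.ne' h
  let φ : Submodule.span ℤ (Set.range P.root) →+ N := AddMonoidHom.mk' (fun x => F (r x)) fun x y => hcancel (by
    rw [smul_add, hF, hF, hF, ← map_add, hre, hre, hre]
    rfl)
  refine ⟨φ, fun i => hcancel ?_, fun ψ hψ => ?_⟩
  · show _ • F (r _) = _ • (q i • P.coroot i)
    rw [hF, hre, smul_smul, hq]
    exact pol_root i
  · ext ⟨x, hx⟩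
    induction hx using Submodule.span_induction with
    | mem x hx =>
      obtain ⟨i, rfl⟩ := hx
      refine (hψ i).trans (hcancel ?_)
      show _ • (q i • P.coroot i) = _ • F (r _)
      rw [hF, hre, smul_smul, hq]
      exact (pol_root i).symm
    | zero => exact (map_zero ψ).trans (map_zero φ).symm
    | add x y hx hy h1 h2 =>
      exact (map_add ψ ⟨x, hx⟩ ⟨y, hy⟩).trans ((congrArg₂ (· + ·) h1 h2).trans (map_add φ ⟨x, hx⟩ ⟨y, hy⟩).symm)
    | smul n x hx h =>
      exact (map_zsmul ψ n ⟨x, hx⟩).trans ((congrArg (n • ·) h).trans (map_zsmul φ n ⟨x, hx⟩).symm)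


end Groth.Agent.S5499
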