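import Groth.Statements.S5500
import Groth.Agent.RootSys.Lengths
-- import your own Groth.Agent.* helpers here

set_option autoImplicit false
open RootD

namespace Groth.Agent.S5500

open RootSysLib RootBasicLib RootPairing

/-- For a p-morphism between irreducible reduced root data there is a rational constant k with k ·
long(u(α)) = q(α)² · long(α) for every root α; stated as the proportionality q(α)² ℓ(α) ℓ'(u β) =
q(β)² ℓ(β) ℓ'(u α) of the canonical quadratic forms. -/
theorem result {ι M N ι' M' N' : Type*} [AddCommGroup M] [AddCommGroup N] [AddCommGroup M'] [AddCommGroup N']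
    (P : RootPairing ι ℤ M N) (P' : RootPairing ι' ℤ M' N') [Finite ι] [Finite ι'] [Fintype ι] [Fintype ι'] [P.IsReduced] [P'.IsReduced]
    (hirr : ∀ R₁ : Set ι, RootD.IsClosedSub P R₁ → RootD.IsSymmSub P R₁ → RootD.IsClosedSub P R₁ᶜ →
      RootD.IsSymmSub P R₁ᶜ → R₁ = ∅ ∨ R₁ = Set.univ)
    (hirr' : ∀ R₁ : Set ι', RootD.IsClosedSub P' R₁ → RootD.IsSymmSub P' R₁ → RootD.IsClosedSub P' R₁ᶜ →
      RootD.IsSymmSub P' R₁ᶜ → R₁ = ∅ ∨ R₁ = Set.univ)
    (p : ℕ) (hp : 0 < p) (f : M' →ₗ[ℤ] M) (g : N →ₗ[ℤ] N')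
    (hfg : ∀ (m' : M') (n : N), P.toLinearMap (f m') n = P'.toLinearMap m' (g n))
    (u : ι ≃ ι') (q : ι → ℕ) (hq : ∀ i, ∃ e : ℕ, q i = p ^ e)
    (hroot : ∀ i : ι, f (P'.root (u i)) = (q i : ℤ) • P.root i)
    (hcoroot : ∀ i : ι, g (P.coroot i) = (q i : ℤ) • P'.coroot (u i)) (i j : ι) :
    ((q i : ℤ) ^ 2 * P.RootForm (P.root i) (P.root i)) * P'.RootForm (P'.root (u j)) (P'.root (u j)) =
      ((q j : ℤ) ^ 2 * P.RootForm (P.root j) (P.root j)) * P'.RootForm (P'.root (u i)) (P'.root (u i)) := by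
  simp only [rootForm_eq_bform]
  have hq0 : ∀ a, (q a : ℤ) ≠ 0 := fun a => by
    obtain ⟨e, he⟩ := hq a
    rw [he]
    exact_mod_cast (pow_pos hp e).ne'
  have hpair : ∀ a b, (q a : ℤ) * P.pairing a b = (q b : ℤ) * P'.pairing (u a) (u b) := by
    intro a b
    have h := hfg (P'.root (u a)) (P.coroot b)
    rw [hroot, hcoroot, map_zsmul, map_zsmul, LinearMap.smul_apply, smul_eq_mul, smul_eq_mul,
      P.root_coroot_eq_pairing, P'.root_coroot_eq_pairing] at h
    exact h
  induction linked_of_irreducible hirr i j with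
  | refl => rfl
  | @tail a b _ hab ih =>
    have hpa : bform P' (P'.root (u a)) (P'.root (u a)) ≠ 0 := (bform_root_pos P' _).ne'
    have hab' : P.pairing a b ≠ 0 := fun h0 => hab ⟨h0, (P.pairing_eq_zero_iff' (i := a) (j := b)).1 h0⟩
    have key : ((q a : ℤ) ^ 2 * bform P (P.root a) (P.root a)) * bform P' (P'.root (u b)) (P'.root (u b)) =
        ((q b : ℤ) ^ 2 * bform P (P.root b) (P.root b)) * bform P' (P'.root (u a)) (P'.root (u a)) := by
      have e1 := pairing_mul_length (P := P) a b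
      have e2 := pairing_mul_length (P := P') (u a) (u b)
      have h1 := hpair a b
      have h2 := hpair b a
      have hba' : P.pairing b a ≠ 0 := fun h0 => hab ⟨(P.pairing_eq_zero_iff' (i := b) (j := a)).1 h0, h0⟩
      refine mul_right_cancel₀ hba' ?_
      linear_combination (bform P' (P'.root (u a)) (P'.root (u a))) * ((q a : ℤ) * bform P (P.root b) (P.root b)) * 0 -
        ((q a : ℤ) ^ 2 * bform P' (P'.root (u b)) (P'.root (u b))) * e1 +
        ((q a : ℤ) * bform P' (P'.root (u b)) (P'.root (u b)) * bform P (P.root b) (P.root b)) * h1 +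
        ((q a : ℤ) * (q b : ℤ) * bform P (P.root b) (P.root b)) * e2 -
        ((q b : ℤ) * bform P (P.root b) (P.root b) * bform P' (P'.root (u a)) (P'.root (u a))) * h2
    refine mul_right_cancel₀ hpa ?_
    linear_combination (bform P' (P'.root (u b)) (P'.root (u b))) * ih + (bform P' (P'.root (u i)) (P'.root (u i))) * key


end Groth.Agent.S5500
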