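import Groth.Statements.S5501
import Groth.Agent.RootSys.Morph
-- import your own Groth.Agent.* helpers here

set_option autoImplicit false
universe u v w
open RootD

namespace Groth.Agent.S5501

open RootSysLib RootBasicLib RootPairing

/-- Adjoint case; the simply connected case is dual: a semisimple root datum R is adjoint if and only if
every isogeny R' → R is an isomorphism. -/
theorem result {ι : Type u} {M : Type v} {N : Type w} [AddCommGroup M] [AddCommGroup N]
    (P : RootPairing ι ℤ M N) [Finite ι] [Module.Finite ℤ M] [Module.Finite ℤ N]
    (hss : Module.finrank ℤ (Submodule.span ℤ (Set.range P.root)) = Module.finrank ℤ M) :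
    Submodule.span ℤ (Set.range P.root) = ⊤ ↔
      ∀ (ι' : Type u) (M' N' : Type v) [AddCommGroup M'] [AddCommGroup N'] [Finite ι']
        [Module.Finite ℤ M'] [Module.Finite ℤ N'] (P' : RootPairing ι' ℤ M' N') (f : RootPairing.Hom P' P),
        Function.Injective f.weightMap → Finite (M ⧸ LinearMap.range f.weightMap) →
          Function.Bijective f.weightMap := by
  constructor
  · intro had ι' M' N' _ _ _ _ _ P' f hinj _
    refine ⟨hinj, fun x => ?_⟩
    have hle : Submodule.span ℤ (Set.range P.root) ≤ LinearMap.range f.weightMap := by
      rw [Submodule.span_le]
      rintro _ ⟨i, rfl⟩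
      refine ⟨P'.root (f.indexEquiv.symm i), ?_⟩
      rw [RootPairing.Hom.root_weightMap_apply, Equiv.apply_symm_apply]
    exact hle (by rw [had]; exact Submodule.mem_top)
  · intro h
    obtain ⟨hfin, htor⟩ := exists_nsmul_mem_of_rank hss
    haveI := torsionFree P
    set L := Submodule.span ℤ (Set.range P.root)
    have : Module.IsTorsionFree ℤ L := inferInstance
    have : Module.Finite ℤ L := Module.Finite.span_of_finite ℤ (Set.finite_range _)
    have : Module.Free ℤ L := Module.free_of_finite_type_torsion_free'
    let rt : ι ↪ L := ⟨fun i => ⟨P.root i, Submodule.subset_span (Set.mem_range_self i)⟩,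
      fun i j e => P.root.injective (congrArg Subtype.val e)⟩
    let co : ι ↪ Module.Dual ℤ L := ⟨fun i => (P.coroot' i).comp L.subtype, fun i j e => by
      apply P.coroot.injective
      apply P.flip.toPerfPair.injective
      refine LinearMap.ext fun m => ?_
      obtain ⟨n, hn, hm⟩ := htor m
      have h1 : P.coroot' i (n • m) = P.coroot' j (n • m) := LinearMap.congr_fun e ⟨n • m, hm⟩
      rw [map_nsmul, map_nsmul] at h1
      exact smul_right_injective ℤ hn.ne' h1⟩
    let P' : RootPairing ι ℤ L (Module.Dual ℤ L) :=
      { toLinearMap := Module.Dual.eval ℤ L
        root := rt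
        coroot := co
        root_coroot_two := fun i => P.root_coroot_two i
        reflectionPerm := P.reflectionPerm
        reflectionPerm_root := fun i j => Subtype.ext (P.reflectionPerm_root i j)
        reflectionPerm_coroot := fun i j => LinearMap.ext fun x => by
          have h1 := congrArg (fun n => P.toLinearMap (x : M) n) (P.reflectionPerm_coroot i j)
          simp only [map_sub, map_smul] at h1
          exact h1 }
    let f : RootPairing.Hom P' P :=
      { weightMap := L.subtype
        coweightMap := L.subtype.dualMap ∘ₗ P.toLinearMap.flip
        indexEquiv := Equiv.refl ι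
        weight_coweight_transpose := by
          apply LinearMap.ext
          intro n
          apply LinearMap.ext
          intro x
          rfl
        root_weightMap := rfl
        coroot_coweightMap := rfl }
    have hrange : LinearMap.range f.weightMap = L := Submodule.range_subtype L
    have hb := h ι L (Module.Dual ℤ L) P' f L.injective_subtype (by rw [hrange]; exact hfin)
    rw [← hrange]
    exact LinearMap.range_eq_top.2 hb.2


end Groth.Agent.S5501
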