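import Groth.Statements.S5507
import Groth.Agent.RootSys.Lengths
-- import your own Groth.Agent.* helpers here

set_option autoImplicit false
open RootD

namespace Groth.Agent.S5507

open RootSysLib RootBasicLib RootPairing

/-- For a system of simple roots Δ there are positive integers m_α (the lengths) such that the matrix
(m_α a_{α,β}) with a_{α,β} = (α^v, β) is symmetric and positive definite. -/
theorem result {ι M N : Type*} [AddCommGroup M] [AddCommGroup N]
    (P : RootPairing ι ℤ M N) [Finite ι] (Δ : Finset ι) (hΔ : RootD.IsSimpleSys P (↑Δ : Set ι)) :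
    ∃ m : ↥Δ → ℤ, (∀ a, 0 < m a) ∧
      (Matrix.of fun (a b : ↥Δ) => m a * P.pairing (b : ι) (a : ι)).IsSymm ∧
      (Matrix.of fun (a b : ↥Δ) => m a * P.pairing (b : ι) (a : ι)).PosDef := by
  classical
  refine ⟨fun a => bform P (P.root a) (P.root a), fun a => bform_root_pos P a, ?_, ?_⟩
  · ext a b
    simp only [Matrix.transpose_apply, Matrix.of_apply]
    exact pairing_mul_length _ _
  · have hent : ∀ a b : ↥Δ, bform P (P.root a) (P.root a) * P.pairing (b : ι) (a : ι) =
        2 * bform P (P.root a) (P.root b) := fun a b => by
      rw [← two_bform_root, bform_symm]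
    refine Matrix.PosDef.of_dotProduct_mulVec_pos ?_ ?_
    · ext a b
      simp only [Matrix.conjTranspose_apply, Matrix.of_apply, star_trivial]
      exact pairing_mul_length _ _
    · intro x hx
      simp only [star_trivial, dotProduct, Matrix.mulVec, Matrix.of_apply, hent]
      have hli : LinearIndependent ℤ fun a : ↥Δ => P.root (a : ι) := hΔ.linInd
      have hv : ∑ a, x a • P.root (a : ι) ≠ 0 := fun h0 =>
        hx (funext fun a => Fintype.linearIndependent_iff.1 hli x h0 a)
      have hpos := bform_self_pos (P := P) (x := ∑ a, x a • P.root (a : ι)) (sum_mem fun a _ => Submodule.smul_mem _ _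
        (Submodule.subset_span (Set.mem_range_self (a : ι)))) hv
      simp only [map_sum, map_zsmul, LinearMap.sum_apply, LinearMap.smul_apply, smul_eq_mul,
        Finset.mul_sum] at hpos ⊢
      refine lt_of_lt_of_le (mul_pos two_pos hpos) (le_of_eq ?_)
      simp only [Finset.mul_sum]
      exact Finset.sum_congr rfl fun a _ => Finset.sum_congr rfl fun b _ => by rw [bform_symm]; ring


end Groth.Agent.S5507
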