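import Groth.Statements.S5511
import Groth.Agent.BorelLib.RedTorus
import Groth.Agent.TorsTupleLib.CentreTori
-- import your own Groth.Agent.* helpers here

set_option autoImplicit false
set_option maxHeartbeats 4000000
set_option synthInstance.maxHeartbeats 400000
set_option backward.isDefEq.respectTransparency false
open CategoryTheory MonoidalCategory CartesianMonoidalCategory MonObj GrpObj AlgebraicGeometry
universe u
open RedSub

attribute [-instance] CategoryTheory.Hom.commGroup

namespace Groth.Agent.S5511

open Groth.Agent.BorelLib
attribute [local instance] BorelLib.pTop BorelLib.pTopTensor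

/-- The centre of a reductive group is the intersection of its maximal tori, in the functorial sense.
Let G be a reductive S-group and j : Z ⟶ G its centre. For a point g of G with values in X, g
factors through Z if and only if, for every scheme Y over X and every maximal torus T ⟶ G_Y of the
base change of G to Y, the Y-valued point of G_Y defined by g factors through T. -/
theorem result {S : Scheme.{u}} {G Z : Over S} [GrpObj G] [GrpObj Z]
    (hG : Red.IsReductive G) (j : Z ⟶ G) (hZ : Red.IsCentre j) (X : Over S) (g : X ⟶ G) :
    (∃ z : X ⟶ Z, z ≫ j = g) ↔
      ∀ (Y : Scheme.{u}) (y : Y ⟶ X.left) (T : Over Y) [GrpObj T] (i : T ⟶ Red.bc (y ≫ X.hom) G),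
        Red.IsMaximalTorus i →
          ∃ p : Y ⟶ T.left, p ≫ T.hom = 𝟙 Y ∧
            p ≫ i.left ≫ Limits.pullback.fst G.hom (y ≫ X.hom) = y ≫ g.left := by
  constructor
  · intro hz
    refine TorsTuple.inAllTori_of_centre hG g fun X' x h => ?_
    simpa only [Category.comp_id] using (hZ.2.2 X g).1 hz X' x h
  · intro hg
    exact TorsTuple.le_centre_of_inAllTori hG hg hZ

end Groth.Agent.S5511
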