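import Groth.Statements.S5512
import Groth.Agent.BorelLib.RedTorus
import Groth.Agent.TorsTupleLib.SubMax
-- import your own Groth.Agent.* helpers here

set_option autoImplicit false
set_option maxHeartbeats 4000000
set_option synthInstance.maxHeartbeats 400000
set_option backward.isDefEq.respectTransparency false
open CategoryTheory MonoidalCategory CartesianMonoidalCategory MonObj GrpObj AlgebraicGeometry
universe u
open RedSub

attribute [-instance] CategoryTheory.Hom.commGroup

namespace Groth.Agent.S5512

open Groth.Agent.BorelLib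
attribute [local instance] BorelLib.pTop BorelLib.pTopTensor

/-- For a reductive S-group G. Let i : H ⟶ G be a subgroup of type (R) and k : K ⟶ H a homomorphism.
Then k is a subgroup of type (R) of H if and only if k ≫ i is a subgroup of type (R) of G. (For H of
type (R) in a reductive G, the Cartan subgroups of the geometric fibres of H are their maximal tori,
which are maximal tori of the geometric fibres of G, so the prelude's notion of type (R) relative to
H is the source's.) -/
theorem result {S : Scheme.{u}} {G H K : Over S} [GrpObj G] [GrpObj H] [GrpObj K]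
    (hG : Red.IsReductive G) (i : H ⟶ G) (hH : RedSub.IsTypeR i) (k : K ⟶ H) [IsMonHom k] :
    RedSub.IsTypeR k ↔ RedSub.IsTypeR (k ≫ i) := by
  obtain ⟨⟨him, himm⟩, hHs, hHq, -, hHT⟩ := hH
  haveI := him; haveI := himm; haveI := hHs; haveI := hHq
  haveI := hG.1; haveI := hG.2.1
  haveI : QuasiCompact G.hom := inferInstance
  haveI : Mono i.left := inferInstance
  haveI : Mono i := Over.mono_of_mono_left i
  constructor
  · rintro ⟨⟨hkm, hki⟩, hKs, hKq, hKc, hKT⟩
    haveI := hki
    refine ⟨⟨inferInstance, by rw [Over.comp_left]; infer_instance⟩, hKs, hKq, hKc, fun s => ?_⟩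
    obtain ⟨T, _, t, htm, htmax⟩ := hKT s
    obtain ⟨T₀, _, t₀, ht₀m, ht₀max⟩ := hHT s
    haveI := htm; haveI := ht₀m
    haveI : Smooth (Red.geomFibre s G).hom := MorphismProperty.pullback_snd (P := @Smooth) _ _ inferInstance
    haveI : QuasiCompact (Red.geomFibre s G).hom :=
      MorphismProperty.pullback_snd (P := @QuasiCompact) _ _ inferInstance
    haveI : Smooth (Red.geomFibre s H).hom := MorphismProperty.pullback_snd (P := @Smooth) _ _ inferInstance
    haveI : QuasiCompact (Red.geomFibre s H).hom :=
      MorphismProperty.pullback_snd (P := @QuasiCompact) _ _ inferInstance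
    haveI := DiagRep.isMonHom_bc_map (Red.geomPt s) i
    haveI := mono_bc (Red.geomPt s) i
    refine ⟨T, inferInstance, t, htm, ?_⟩
    have h := TorsTuple.isMaximalTorus_of_sub ((Over.pullback (Red.geomPt s)).map i) ht₀max htmax
    rwa [Category.assoc, ← Functor.map_comp] at h
  · rintro ⟨⟨hkim, hkii⟩, hKs, hKq, hKc, hKT⟩
    haveI : IsImmersion (k.left ≫ i.left) := by rw [← Over.comp_left]; exact hkii
    refine ⟨⟨inferInstance, IsImmersion.of_comp k.left i.left⟩, hKs, hKq, hKc, fun s => ?_⟩
    obtain ⟨T, _, t, htm, htmax⟩ := hKT s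
    haveI := htm
    refine ⟨T, inferInstance, t, htm, ?_⟩
    haveI := DiagRep.isMonHom_bc_map (Red.geomPt s) i
    haveI := DiagRep.isMonHom_bc_map (Red.geomPt s) k
    haveI := mono_bc (Red.geomPt s) i
    have h : Red.IsMaximalTorus ((t ≫ (Over.pullback (Red.geomPt s)).map k) ≫ (Over.pullback (Red.geomPt s)).map i) := by
      rw [Category.assoc, ← Functor.map_comp]; exact htmax
    haveI := h.2.1
    haveI : Mono (t ≫ (Over.pullback (Red.geomPt s)).map k) := mono_of_mono (t ≫ (Over.pullback (Red.geomPt s)).map k) ((Over.pullback (Red.geomPt s)).map i)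
    exact TorsTuple.isMaximalTorus_of_comp _ _ h

end Groth.Agent.S5512
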