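import Groth.Statements.S5519
import Groth.Agent.BruhatLib.Apply

set_option autoImplicit false
set_option backward.isDefEq.respectTransparency false
open CategoryTheory MonoidalCategory CartesianMonoidalCategory MonObj GrpObj AlgebraicGeometry
universe u
open RedSub

namespace Groth.Agent.S5519

/-- Let G be a split reductive S-group of semisimple rank 1 (every root is a or -a, with a positive for
the system of simple roots b), Ω ⟶ G its big cell map, and x an S-point of G_a whose coordinate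
function is a unit (so u_a(x) is a section of U_a generating it). Then G = Ω ∪ u_a(x) Ω: every point
of the underlying space of G is in the image of the big cell map or of its left translate by u_a(x). -/
theorem result {S : Scheme.{u}} {G : Over S} [GrpObj G] (D : Red.SplitRed G)
    (b : D.P.Base) {n m : ℕ} (eneg : Fin n → D.idx) (epos : Fin m → D.idx)
    (hneg : RedSub.Enumerates (RedSub.negRoots D.P b) eneg) (hpos : RedSub.Enumerates (RedSub.posRoots D.P b) epos)
    (a : D.idx) (ha : a ∈ RedSub.posRoots D.P b) (hR : ∀ c : D.idx, c = a ∨ c = D.P.reflectionPerm a a)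
    (x : 𝟙_ (Over S) ⟶ Red.Ga S) (hx : IsUnit (Red.gaFn x)) (p : ↥G.left) :
    p ∈ Set.range (RedSub.cellMap D eneg epos).left.base ∨
      p ∈ Set.range ((toUnit _ ≫ x ≫ D.u a) * RedSub.cellMap D eneg epos).left.base := by
  haveI : Nonempty S := ⟨G.hom p⟩
  haveI := SplitFib.isReduced_root D
  haveI := SplitCell.isMonHom_u D a
  obtain ⟨K, _, _, ξ, g, hg⟩ := Bruhat.exists_geom p
  obtain ⟨nr, hnr⟩ := Bruhat.exists_nr D
  let σ := SplitCell.sidesOfBase D.P b
  have hsup : ∀ c ∈ b.support, c = a := fun c hc => (hR c).resolve_right fun e => by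
    have h1 : c ∈ σ.pos := (Bruhat.isWall_of_mem_support b hc).1
    rw [e] at h1
    exact σ.notMem_neg h1 (Bruhat.neg_mem_neg σ ha)
  let U : Subgroup (SplitCell.aP ξ K ⟶ G) :=
    { carrier := {g | ∃ r : K, g = SplitCell.el ξ (D.u a) r}
      one_mem' := ⟨0, (SplitCell.el_zero ξ _).symm⟩
      mul_mem' := by rintro _ _ ⟨z, rfl⟩ ⟨z', rfl⟩; exact ⟨z + z', (SplitCell.el_add ξ _ z z').symm⟩
      inv_mem' := by rintro _ ⟨z, rfl⟩; exact ⟨-z, (SplitCell.el_neg ξ _ z).symm⟩ }
  obtain ⟨w, ⟨z, rfl⟩, h⟩ := Bruhat.exists_mem_translate ξ b U.toSubmonoid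
    (fun c hc => ⟨1, one_ne_zero, 1, by rw [hsup c hc]⟩) g
  obtain ⟨r, hr, hr0⟩ := Bruhat.exists_el_of_section D ξ a x
  have hw : Bruhat.IsWall D σ a := ⟨ha, fun k hk hne => absurd
    (((hR k).resolve_left hne) ▸ hk) fun h' => σ.notMem_neg h' (Bruhat.neg_mem_neg σ ha)⟩
  have hlift : ∀ {v}, v ∈ Bruhat.Omega1 D ξ a → v ∈ Bruhat.Omega D σ (SplitCell.aP ξ K) := fun {v} hv => by
    obtain ⟨p', q, τ, rfl⟩ := hv
    exact ⟨_, Bruhat.el_mem ξ (Bruhat.neg_mem_neg σ ha) p', τ, _, Bruhat.el_mem ξ ha q, rfl⟩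
  obtain ⟨y, hy, t, c, hc, e⟩ := h
  obtain ⟨y', rfl⟩ := Bruhat.exists_el_single ξ (k := D.P.reflectionPerm a a) (fun j hj => (hR j).resolve_left
    fun e' => σ.notMem_neg ha (e' ▸ hj)) hy
  have hge : g = SplitCell.el ξ (D.u a) z * SplitCell.el ξ (D.u (D.P.reflectionPerm a a)) y' * ((t ≫ D.i) * c) := by
    rw [_root_.mul_assoc, ← e, mul_inv_cancel_left]
  haveI := SplitCell.isMonHom_u D (D.P.reflectionPerm a a)
  have hsplit := Bruhat.three_mem ξ (hnr a) 0 z y' (hr0 hx)
  rw [SplitCell.el_zero, _root_.one_mul] at hsplit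
  have key : ∀ {v}, v ∈ Bruhat.Omega1 D ξ a → v * ((t ≫ D.i) * c) ∈ Bruhat.Omega D σ (SplitCell.aP ξ K) :=
    fun {v} hv => by
      rw [← _root_.mul_assoc]
      exact Bruhat.omega_mul_pos (Bruhat.omega_mul_torus (hlift hv) t) hc
  rcases hsplit with h' | h'
  · exact Or.inl (Bruhat.mem_range_cell ξ σ hneg hpos hg (hge ▸ key h'))
  · refine Or.inr (Bruhat.mem_range_translate ξ σ hneg hpos hg (x ≫ D.u a) ?_)
    rw [hr, hge, ← _root_.mul_assoc (SplitCell.el ξ (D.u a) r)⁻¹]
    exact key h'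

end Groth.Agent.S5519
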