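import Groth.Statements.S5524
import Groth.Agent.RootSubgrpLib.Trivial

set_option autoImplicit false
set_option backward.isDefEq.respectTransparency false
open CategoryTheory MonoidalCategory CartesianMonoidalCategory MonObj GrpObj AlgebraicGeometry
universe u
open RedSub

namespace Groth.Agent.S5524

/-- Let S be connected, G a split reductive S-group (splitting D), H a subgroup of type (R) containing
the torus T, with root set R'. For a root a, the intersection H ∩ U_a is trivial (a point x of G_a
with u_a(x) ∈ H is the zero point) if and only if a ∉ R'. -/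
theorem result {S : Scheme.{u}} [ConnectedSpace S] {G H : Over S} [GrpObj G] [GrpObj H]
    (D : Red.SplitRed G) (h : H ⟶ G) (hH : RedSub.IsTypeR h) (t : D.T ⟶ H) (ht : t ≫ h = D.i) (R' : Set D.idx)
    (hR' : ∀ a : D.idx, (∃ v : Red.Ga S ⟶ H, v ≫ h = D.u a) ↔ a ∈ R') (a : D.idx) :
    (∀ (X : Over S) (x : X ⟶ Red.Ga S) (y : X ⟶ H), x ≫ D.u a = y ≫ h → x = 1) ↔ a ∉ R' := by
  obtain ⟨hm, hmono, hsm, hconn⟩ := RootSubgrp.typeR_data h hH
  haveI := hm; haveI := hmono; haveI := hsm
  obtain ⟨R₀, hR₀, hiff⟩ := RootSubgrp.exists_roots D h t ht hconn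
  obtain rfl : R' = R₀ := Set.ext fun a => ((hiff a).trans (hR' a)).symm
  refine ⟨fun hall ha => ?_, fun ha X x y he =>
    RootSubgrp.eq_one_of_notMem D h t ht hconn hR₀ (fun k hk => (hiff k).1 hk) ha x y he⟩
  obtain ⟨w, hw⟩ := (hiff a).1 ha
  exact RootSubgrp.not_trivial_of_factor D h t ht w hw hall

end Groth.Agent.S5524
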