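import Groth.Statements.S5525
import Groth.Agent.RootSubgrpLib.Apps

set_option autoImplicit false
set_option backward.isDefEq.respectTransparency false
open CategoryTheory MonoidalCategory CartesianMonoidalCategory MonObj GrpObj AlgebraicGeometry
universe u
open RedSub

namespace Groth.Agent.S5525

/-- (i) ⟺ (iii): Let S be connected, G a split reductive S-group (splitting D), H a subgroup of type (R)
of G containing the torus T, with root set R'. Then the geometric fibres of H are solvable if and
only if R' ∩ -R' = ∅. -/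
theorem result {S : Scheme.{u}} [ConnectedSpace S] {G H : Over S} [GrpObj G] [GrpObj H]
    (D : Red.SplitRed G) (h : H ⟶ G) (hH : RedSub.IsTypeR h) (t : D.T ⟶ H) (ht : t ≫ h = D.i) (R' : Set D.idx)
    (hR' : ∀ a : D.idx, (∃ v : Red.Ga S ⟶ H, v ≫ h = D.u a) ↔ a ∈ R') :
    (∀ s : S, Red.IsSolvableGrp (Red.geomFibre s H)) ↔ ∀ a ∈ R', D.P.reflectionPerm a a ∉ R' := by
  obtain ⟨hm, hmono, hsm, hconn⟩ := RootSubgrp.typeR_data h hH
  haveI := hm; haveI := hmono; haveI := hsm
  obtain ⟨R₀, hR₀, hiff⟩ := RootSubgrp.exists_roots D h t ht hconn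
  obtain rfl : R' = R₀ := Set.ext fun a => ((hiff a).trans (hR' a)).symm
  refine ⟨fun hs => ?_, fun hR s => RootSubgrp.isSolvable_of_asym D h t ht hconn hR₀ hR s⟩
  obtain ⟨s⟩ := (inferInstance : Nonempty S)
  obtain ⟨b, hb⟩ := RootSubgrp.exists_sides_of_solvable D h t ht hconn hR₀ s (hs s)
  exact RootSubgrp.asym_of_pos D b hb

end Groth.Agent.S5525
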