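import Groth.Statements.S5526
import Groth.Agent.RootSubgrpLib.Apps

set_option autoImplicit false
set_option backward.isDefEq.respectTransparency false
open CategoryTheory MonoidalCategory CartesianMonoidalCategory MonObj GrpObj AlgebraicGeometry
universe u
open RedSub

namespace Groth.Agent.S5526

/-- (iii) ⟺ (ii): Let S be connected, G a split reductive S-group (splitting D), H a subgroup of type
(R) containing the torus T, with root set R'. Then R' ∩ -R' = ∅ if and only if R' is contained in a
system of positive roots (so that H is contained in the corresponding Borel subgroup). Note R' need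
not be closed. -/
theorem result {S : Scheme.{u}} [ConnectedSpace S] {G H : Over S} [GrpObj G] [GrpObj H]
    (D : Red.SplitRed G) (h : H ⟶ G) (hH : RedSub.IsTypeR h) (t : D.T ⟶ H) (ht : t ≫ h = D.i) (R' : Set D.idx)
    (hR' : ∀ a : D.idx, (∃ v : Red.Ga S ⟶ H, v ≫ h = D.u a) ↔ a ∈ R') :
    (∀ a ∈ R', D.P.reflectionPerm a a ∉ R') ↔ ∃ b : D.P.Base, R' ⊆ RedSub.posRoots D.P b := by
  obtain ⟨hm, hmono, hsm, hconn⟩ := RootSubgrp.typeR_data h hH
  haveI := hm; haveI := hmono; haveI := hsm
  obtain ⟨R₀, hR₀, hiff⟩ := RootSubgrp.exists_roots D h t ht hconn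
  obtain rfl : R' = R₀ := Set.ext fun a => ((hiff a).trans (hR' a)).symm
  refine ⟨fun hR => ?_, fun ⟨b, hb⟩ => RootSubgrp.asym_of_pos D (SplitCell.sidesOfBase D.P b) hb⟩
  obtain ⟨b, hb⟩ := RootSubgrp.exists_sides_of_asym D h t ht hconn hR₀ hR
  obtain ⟨B, hB⟩ := RootSubgrp.exists_base_of_sides D b
  exact ⟨B, hb.trans hB⟩

end Groth.Agent.S5526
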