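import Groth.Statements.S5528
import Groth.Agent.RootSubgrpLib.NormTorus

set_option autoImplicit false
set_option backward.isDefEq.respectTransparency false
open CategoryTheory MonoidalCategory CartesianMonoidalCategory MonObj GrpObj AlgebraicGeometry
universe u
open RedSub

namespace Groth.Agent.S5528

/-- (i) ⟺ (v): Let S be connected, G a split reductive S-group (splitting D), H a subgroup of type (R)
containing the torus T (with root set R'). Then the geometric fibres of H are solvable if and only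
if H ∩ Norm_G(T) = T: every point of H normalising T lies in T. -/
theorem result {S : Scheme.{u}} [ConnectedSpace S] {G H : Over S} [GrpObj G] [GrpObj H]
    (D : Red.SplitRed G) (h : H ⟶ G) (hH : RedSub.IsTypeR h) (t : D.T ⟶ H) (ht : t ≫ h = D.i) (R' : Set D.idx)
    (hR' : ∀ a : D.idx, (∃ v : Red.Ga S ⟶ H, v ≫ h = D.u a) ↔ a ∈ R') :
    (∀ s : S, Red.IsSolvableGrp (Red.geomFibre s H)) ↔
      ∀ (X : Over S) (x : X ⟶ H),
        (∀ (X' : Over S) (y : X' ⟶ X) (s : X' ⟶ D.T),
          (∃ s' : X' ⟶ D.T, (y ≫ x ≫ h) * (s ≫ D.i) * (y ≫ x ≫ h)⁻¹ = s' ≫ D.i) ∧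
          (∃ s' : X' ⟶ D.T, (y ≫ x ≫ h)⁻¹ * (s ≫ D.i) * (y ≫ x ≫ h) = s' ≫ D.i)) →
        ∃ s : X ⟶ D.T, s ≫ t = x := by
  obtain ⟨hm, hmono, hsm, hconn⟩ := RootSubgrp.typeR_data h hH
  haveI := hm; haveI := hmono; haveI := hsm
  obtain ⟨R₀, hR₀, hiff⟩ := RootSubgrp.exists_roots D h t ht hconn
  have hfac : ∀ k ∈ R₀, ∃ w : Red.Ga S ⟶ H, w ≫ h = D.u k := fun k hk => (hiff k).1 hk
  constructor
  · intro hs
    obtain ⟨s⟩ := (inferInstance : Nonempty S)
    obtain ⟨b, hb⟩ := RootSubgrp.exists_sides_of_solvable D h t ht hconn hR₀ s (hs s)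
    exact RootSubgrp.normalizer_of_sides D h hH.1 t ht hconn hR₀ hfac b hb
  · intro hall s
    exact RootSubgrp.isSolvable_of_asym D h t ht hconn hR₀
      (RootSubgrp.asym_of_normalizer D h hH.1 t ht hconn hR₀ hfac hall) s

end Groth.Agent.S5528
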