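import Groth.Statements.S5529
import Groth.Agent.RedSymLib.Closed

set_option autoImplicit false
set_option backward.isDefEq.respectTransparency false
open CategoryTheory MonoidalCategory CartesianMonoidalCategory MonObj GrpObj AlgebraicGeometry
universe u
open RedSub

namespace Groth.Agent.S5529

/-- (i) ⟺ (ii): Let S be connected, G a split reductive S-group (splitting D), H a subgroup of type (R)
containing the torus T, with root set R'. Then the geometric fibres of H are reductive if and only
if R' is symmetric (R' = -R'); and when R' is symmetric H is a reductive S-group. -/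
theorem result {S : Scheme.{u}} [ConnectedSpace S] {G H : Over S} [GrpObj G] [GrpObj H]
    (D : Red.SplitRed G) (h : H ⟶ G) (hH : RedSub.IsTypeR h) (t : D.T ⟶ H) (ht : t ≫ h = D.i) (R' : Set D.idx)
    (hR' : ∀ a : D.idx, (∃ v : Red.Ga S ⟶ H, v ≫ h = D.u a) ↔ a ∈ R') :
    ((∀ s : S, Red.IsReductiveOver (AlgebraicClosure (S.residueField s)) (Red.geomFibre s H)) ↔
        ∀ a ∈ R', D.P.reflectionPerm a a ∈ R') ∧
      ((∀ a ∈ R', D.P.reflectionPerm a a ∈ R') → Red.IsReductive H) := by
  obtain ⟨hm, hmono, hsm, hconn⟩ := RootSubgrp.typeR_data h hH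
  haveI := hm; haveI := hmono; haveI := hsm
  haveI : QuasiCompact H.hom := hH.2.2.1
  obtain ⟨R₀, hR₀, hiff⟩ := RootSubgrp.exists_roots D h t ht hconn
  obtain rfl : R' = R₀ := Set.ext fun a => ((hiff a).trans (hR' a)).symm
  have hfib := fun hs => RedSym.isReductiveOver_fibre D h t ht hconn hR₀ hs
  refine ⟨⟨fun hr => ?_, hfib⟩, fun hsymm => ⟨?_, hsm, hfib hsymm⟩⟩
  · obtain ⟨s⟩ := (inferInstance : Nonempty S)
    exact RedSym.symm_of_isReductiveOver D h t ht hconn hR₀ s (hr s)
  · haveI := RedSym.isClosedImmersion_of_symm D h t ht hconn hR₀ (fun k hk => (hiff k).1 hk) hsymm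
    haveI : IsAffineHom G.hom := D.reductive.1
    rw [← Over.w h]
    infer_instance

end Groth.Agent.S5529
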