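import Groth.Statements.S5542
import Groth.Agent.BruhatLib.Weyl
import Groth.Agent.BruhatLib.Local

set_option autoImplicit false
set_option backward.isDefEq.respectTransparency false
set_option maxHeartbeats 1000000
set_option synthInstance.maxHeartbeats 400000
open CategoryTheory MonoidalCategory CartesianMonoidalCategory MonObj GrpObj AlgebraicGeometry
universe u
open RedSub

namespace Groth.Agent.S5542

/-- The identification W_S ⥲ Norm_G(T)/T for a split group, in the following pointwise form. Let G be a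
split reductive S-group (splitting D, torus T ≅ D_S(M)) and N ⟶ G the normaliser of T. Then for
every X over S whose underlying space is connected and every X-point n of N, int(n) acts on T_X
through an element of the Weyl group: there is a word a_1 … a_k in the roots such that n t n⁻¹ is,
for every point t of T (after base change), the image of t under the automorphism of T corresponding
to the product of the reflections s_{a_1} ⋯ s_{a_k} of M. -/
theorem result {S : Scheme.{u}} {G N : Over S} [GrpObj G] [GrpObj N]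
    (D : Red.SplitRed G) (j : N ⟶ G) (hN : Red.IsNormalizerOf D.i j) (X : Over S) [ConnectedSpace ↥X.left]
    (n : X ⟶ N) :
    ∃ l : List D.idx, ∀ (X' : Over S) (y : X' ⟶ X) (t : X' ⟶ D.T),
      (y ≫ n ≫ j) * (t ≫ D.i) * (y ≫ n ≫ j)⁻¹ =
        t ≫ D.split.hom.hom.hom ≫
          Red.DSmap S ((l.map fun a => D.P.reflection a).prod : D.M ≃ₗ[ℤ] D.M).toLinearMap.toAddMonoidHom ≫
            D.split.inv.hom.hom ≫ D.i := by
  obtain ⟨x₀⟩ : Nonempty X.left := inferInstance
  haveI : Nonempty S := ⟨X.hom x₀⟩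
  obtain ⟨nr, hnr⟩ := Bruhat.exists_nr D
  obtain ⟨σ₀⟩ := SplitCell.exists_sides D.P
  obtain ⟨b, -⟩ := RootSubgrp.exists_base_of_sides D σ₀
  haveI := SplitCell.isMonHom_i D
  have hn : Bruhat.Normalises D (n ≫ j) := fun X' y t => by
    obtain ⟨⟨t', ht'⟩, -⟩ := (hN.2.2 X (n ≫ j)).1 ⟨n, rfl⟩ X' y t
    exact ⟨t', ht'⟩
  choose L U τ hxU hτ using fun x => Bruhat.exists_word_on_open hnr b hn x
  -- two words at one point have the same permutation
  have hloc : ∀ x x' : X.left, x ∈ U x' → wordPerm D.P (L x) = wordPerm D.P (L x') := fun x x' h => by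
    obtain ⟨K, _, _, a, p, hp⟩ := Groth.Agent.BigCell.exists_geomPt X x
    let ξ : Spec (CommRingCat.of K) ⟶ S := a
    have hw : p.left ≫ X.hom = Spec.map (CommRingCat.ofHom (algebraMap K K)) ≫ ξ := by
      rw [Over.w p, show CommRingCat.ofHom (algebraMap K K) = 𝟙 _ from rfl, Spec.map_id, Category.id_comp]
      rfl
    have key : ∀ x' : X.left, x ∈ U x' → ∃ t : SplitCell.aP ξ K ⟶ D.T,
        (Over.homMk p.left hw : SplitCell.aP ξ K ⟶ X) ≫ n ≫ j =
          Bruhat.nX nr (SplitCell.aP ξ K) (L x') * (t ≫ D.i) := fun x' h' => by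
      have hr : Set.range p.left ⊆ Set.range (U x').ι := by
        rintro _ ⟨z, rfl⟩
        rw [Scheme.Opens.range_ι, hp z]
        exact h'
      let q : SplitCell.aP ξ K ⟶ Over.mk ((U x').ι ≫ X.hom) :=
        Over.homMk (IsOpenImmersion.lift (U x').ι p.left hr) (by
          show IsOpenImmersion.lift (U x').ι p.left hr ≫ (U x').ι ≫ X.hom = _
          rw [IsOpenImmersion.lift_fac_assoc]
          exact hw)
      refine ⟨q ≫ τ x', ?_⟩
      rw [show (Over.homMk p.left hw : SplitCell.aP ξ K ⟶ X) = q ≫ Over.homMk (U x').ι from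
        Over.OverMorphism.ext (IsOpenImmersion.lift_fac _ _ _).symm, Category.assoc, hτ x', MonObj.comp_mul,
        Bruhat.comp_nX, Category.assoc]
    obtain ⟨t, ht⟩ := key x (hxU x)
    obtain ⟨t', ht'⟩ := key x' h
    refine Bruhat.wordPerm_eq hnr ξ (SplitCell.sidesOfBase D.P b) (Subgroup.one_mem _) (Subgroup.one_mem _)
      (Subgroup.one_mem _) (Subgroup.one_mem _) t t' ?_
    simp only [_root_.one_mul, _root_.mul_one]
    exact ht.symm.trans ht'
  have hcl : IsClopen {x : X.left | wordPerm D.P (L x) = wordPerm D.P (L x₀)} := by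
    refine ⟨⟨isOpen_iff_forall_mem_open.2 fun x hx => ⟨U x, fun z hz => ?_, (U x).2, hxU x⟩⟩,
      isOpen_iff_forall_mem_open.2 fun x hx => ⟨U x, fun z hz => ?_, (U x).2, hxU x⟩⟩
    · show ¬ (wordPerm D.P (L z) = _)
      rw [hloc z x hz]
      exact hx
    · show wordPerm D.P (L z) = _
      rw [hloc z x hz]
      exact hx
  have huniv := hcl.eq_univ ⟨x₀, rfl⟩
  have hall : ∀ x, wordPerm D.P (L x) = wordPerm D.P (L x₀) := fun x => (Set.eq_univ_iff_forall.1 huniv) x
  refine ⟨(L x₀).reverse, fun X' y t => Bruhat.eq_of_opens _ _ fun z => ?_⟩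
  let x := y.left z
  refine ⟨y.left ⁻¹ᵁ U x, hxU x, ?_⟩
  let Z : Over S := Over.mk ((y.left ⁻¹ᵁ U x).ι ≫ X'.hom)
  let e : Z ⟶ X' := Over.homMk (y.left ⁻¹ᵁ U x).ι
  let f : Z ⟶ Over.mk ((U x).ι ≫ X.hom) := Over.homMk (y.left ∣_ U x) (by
    show (y.left ∣_ U x) ≫ (U x).ι ≫ X.hom = (y.left ⁻¹ᵁ U x).ι ≫ X'.hom
    rw [morphismRestrict_ι_assoc, Over.w y])
  have hf : e ≫ y = f ≫ Over.homMk (U x).ι := Over.OverMorphism.ext (morphismRestrict_ι y.left (U x)).symm
  suffices h : e ≫ ((y ≫ n ≫ j) * (t ≫ D.i) * (y ≫ n ≫ j)⁻¹) = Bruhat.tWord (L x₀) (e ≫ t) ≫ D.i by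
    have h' := congrArg CommaMorphism.left h
    simp only [Over.comp_left, Bruhat.tWord, Bruhat.wordLin, Category.assoc] at h' ⊢
    exact h'
  rw [MonObj.comp_mul, MonObj.comp_mul, GrpObj.comp_inv, ← Category.assoc e y, hf, Category.assoc, hτ x,
    MonObj.comp_mul, Bruhat.comp_nX, ← Category.assoc, ← Category.assoc e t]
  have htw : Bruhat.tWord (L x₀) (e ≫ t) = Bruhat.tWord (L x) (e ≫ t) := by
    rw [Bruhat.tWord, Bruhat.tWord, Bruhat.wordLin_congr D (hall x)]
  rw [htw, ← Bruhat.conj_torus_word_eq hnr (L x) (e ≫ t),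
    show Bruhat.nX nr Z (L x) * ((f ≫ τ x) ≫ D.i) * ((e ≫ t) ≫ D.i) * (Bruhat.nX nr Z (L x) * ((f ≫ τ x) ≫ D.i))⁻¹ =
      Bruhat.nX nr Z (L x) * ((((f ≫ τ x) ≫ D.i) * ((e ≫ t) ≫ D.i)) * ((f ≫ τ x) ≫ D.i)⁻¹) *
        (Bruhat.nX nr Z (L x))⁻¹ by group]
  rw [← MonObj.mul_comp, ← GrpObj.inv_comp, ← MonObj.mul_comp, SplitCell.torus_comm D (f ≫ τ x) (e ≫ t),
    mul_inv_cancel_right]

end Groth.Agent.S5542
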