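import Groth.Statements.S5549
import Groth.Agent.RadLib.Basic
import Groth.Agent.S3908
import Groth.Agent.S0351
import Groth.Agent.SubDescLib.Main

set_option autoImplicit false
set_option backward.isDefEq.respectTransparency false
set_option backward.isDefEq.respectTransparency.types false
set_option maxHeartbeats 1000000
set_option synthInstance.maxHeartbeats 400000
open CategoryTheory MonoidalCategory CartesianMonoidalCategory MonObj GrpObj AlgebraicGeometry
universe u
open RedSub

attribute [-instance] CategoryTheory.Hom.commGroup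
namespace Groth.Agent.S5549

theorem mono_of_isPullback {C : Type*} [Category C] {P X Y Z : C} {a : P ⟶ X} {b : P ⟶ Y} {f : X ⟶ Z} {g : Y ⟶ Z}
    (h : IsPullback a b f g) [Mono g] : Mono a :=
  ⟨fun u v huv => h.hom_ext huv ((cancel_mono g).1 (by
    simp only [Category.assoc, ← h.w]; rw [← Category.assoc, huv, Category.assoc]))⟩



/-- For a reductive S-group G. Let T be a maximal torus of G, Q a subtorus of T, z : Z ⟶ G the
centraliser of Q in G and H a subgroup of type (R) of G containing T. Then H ∩ Z (a fibre product P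
with homomorphisms P ⟶ H, P ⟶ Z) is a subgroup of type (R) of Z. -/
theorem result {S : Scheme.{u}} {G T Q Z H : Over S} [GrpObj G] [GrpObj T] [GrpObj Q]
    [GrpObj Z] [GrpObj H] (hG : Red.IsReductive G) (i : T ⟶ G) (hT : Red.IsMaximalTorus i) (q : Q ⟶ T) [IsMonHom q]
    [Mono q] (hQ : Red.IsTorus Q) (z : Z ⟶ G) (hZ : Red.IsCentralizerOf (q ≫ i) z) (h : H ⟶ G)
    (hH : RedSub.IsTypeR h) (t : T ⟶ H) (ht : t ≫ h = i)
    (P : Over S) [GrpObj P] (a : P ⟶ H) (b : P ⟶ Z) [IsMonHom a] [IsMonHom b] (hP : IsPullback a b h z) :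
    RedSub.IsTypeR b := by
  haveI := hG.1; haveI := hG.2.1
  haveI := hT.1; haveI := hT.2.1; haveI := hZ.1; haveI := hZ.2.1
  obtain ⟨⟨hhm, hhi⟩, hHs, hHq, hHc, -⟩ := hH
  haveI := hhm; haveI := hhi; haveI := hHs; haveI := hHq
  haveI : Mono h := Over.mono_of_mono_left h
  haveI : IsMonHom (t ≫ h) := by rw [ht]; infer_instance
  haveI : IsMonHom t := DiagRep.isMonHom_of_comp_mono t h
  haveI : Mono (t ≫ h) := by rw [ht]; infer_instance
  haveI : Mono t := mono_of_mono t h
  have hpr : ((q ≫ t) ≫ h) = q ≫ i := by rw [Category.assoc, ht]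
  haveI : Mono a := mono_of_isPullback hP
  have hc : Red.IsCentralizerOf (q ≫ t) a := by
    refine ⟨inferInstance, inferInstance, fun X g => ⟨?_, fun hg => ?_⟩⟩
    · rintro ⟨w, rfl⟩ X' x s
      refine (cancel_mono h).1 ?_
      have h2 := (hZ.2.2 X (w ≫ b ≫ z)).1 ⟨w ≫ b, Category.assoc _ _ _⟩ X' x s
      rw [MonObj.mul_comp, MonObj.mul_comp]
      simp only [Category.assoc, hP.w, ht] at h2 ⊢
      exact h2
    · obtain ⟨w, hw⟩ := (hZ.2.2 X (g ≫ h)).2 fun X' x s => by
        rw [← hpr, ← Category.assoc s, ← Category.assoc x g h, ← MonObj.mul_comp, ← MonObj.mul_comp]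
        exact congrArg (· ≫ h) (hg X' x s)
      exact ⟨hP.lift g w hw.symm, hP.lift_fst _ _ _⟩
  -- smoothness
  haveI : IsSeparated H.hom := by rw [← Over.w h]; infer_instance
  haveI : LocallyOfFinitePresentation H.hom := inferInstance
  haveI : IsClosedImmersion (q ≫ t).left := by
    haveI : IsClosedImmersion (q ≫ i).left :=
      Transporter.isClosedImmersion_of_mono (RedRank.locally_of_isTorus hQ) ‹IsAffineHom G.hom› (q ≫ i)
    haveI : IsSeparated h.left := inferInstance
    haveI : IsClosedImmersion ((q ≫ t).left ≫ h.left) := by rw [← Over.comp_left, hpr]; infer_instance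
    exact IsClosedImmersion.of_comp (q ≫ t).left h.left
  obtain ⟨⟨P', _, a', ha', hac, has⟩, -⟩ := Groth.Agent.S3006.result S H Q (q ≫ t) inferInstance hQ
  haveI := hac; haveI := has
  obtain ⟨e, he, -⟩ := RadLib.exists_iso_centralizer hc ha'
  haveI : IsIso e.hom.left := (Over.forget _).map_isIso e.hom
  haveI : Smooth P.hom := by rw [← Over.w e.hom]; infer_instance
  haveI : IsClosedImmersion a.left := by rw [← he, Over.comp_left]; infer_instance
  haveI : QuasiCompact P.hom := by rw [← Over.w a]; infer_instance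
  haveI : IsImmersion b.left :=
    MorphismProperty.of_isPullback (P := @IsImmersion) (hP.map (Over.forget S)) hhi
  obtain ⟨u, hu⟩ := (hc.2.2 T t).2 fun X' x s => by
    rw [← Category.assoc s, ← MonObj.mul_comp, ← MonObj.mul_comp, TorsTuple.commute_torus hT.2.2.1]
  haveI : IsMonHom (u ≫ a) := by rw [hu]; infer_instance
  haveI : IsMonHom u := DiagRep.isMonHom_of_comp_mono u a
  haveI : Mono (u ≫ a) := by rw [hu]; infer_instance
  haveI : Mono u := mono_of_mono u a
  haveI : Mono b := Over.mono_of_mono_left b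
  refine ⟨⟨inferInstance, inferInstance⟩, inferInstance, inferInstance, fun s => ?_, fun s => ?_⟩
  · let ξ := Red.geomPt s
    haveI : IsAffine (Red.geomFibre s G).left := (hG.2.2 s).1
    haveI : IsImmersion ((Over.pullback ξ).map h).left := SubDesc.isImmersion_map_left ξ h
    haveI : IsMonHom (M := Red.bc ξ H) (N := Red.bc ξ G) ((Over.pullback ξ).map h) := DiagRep.isMonHom_bc_map ξ h
    haveI : IsClosedImmersion ((Over.pullback ξ).map h).left := Groth.Agent.S0351.result _ _ _ ((Over.pullback ξ).map h)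
    haveI : IsAffine (Red.bc ξ H).left := isAffine_of_isAffineHom ((Over.pullback ξ).map h).left
    haveI : Smooth (Red.bc ξ H).hom := MorphismProperty.pullback_snd (P := @Smooth) _ _ inferInstance
    haveI : ConnectedSpace (Red.bc ξ H).left :=
      TorsTuple.connected_geom hHc ξ
    haveI : IsMonHom (M := Red.bc ξ Q) (N := Red.bc ξ H) ((Over.pullback ξ).map (q ≫ t)) := DiagRep.isMonHom_bc_map ξ _
    haveI := BorelLib.mono_bc ξ (q ≫ t)
    haveI : ConnectedSpace ↥(Red.geomFibre s P).left := Groth.Agent.S3908.result _ (Red.bc ξ H) (Red.bc ξ Q)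
      ((Over.pullback ξ).map (q ≫ t)) (RedRank.isTorus_bc hQ ξ) _ _ (BorelLib.isCentralizerOf_bc ξ hc)
    exact BorelLib.CentPre.isConnected_fibre_of_geom P s
  · let ξ := Red.geomPt s
    haveI : IsMonHom (M := Red.bc ξ T) (N := Red.bc ξ P) ((Over.pullback ξ).map u) := DiagRep.isMonHom_bc_map ξ u
    refine ⟨Red.bc ξ T, inferInstance, (Over.pullback ξ).map u, inferInstance, ?_⟩
    haveI : Mono (u ≫ b) := mono_comp u b
    have e : (u ≫ b) ≫ z = i := by rw [Category.assoc, ← hP.w, ← Category.assoc, hu, ht]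
    have hZred := RadLib.isReductive_centralizer hG (q ≫ i) hQ hZ
    haveI := hZred.2.1; haveI := hZred.1
    have hTZ : Red.IsMaximalTorus (u ≫ b) := TorsTuple.isMaximalTorus_of_comp (u ≫ b) z (e ▸ hT)
    have := MaxTorConj.isMaximalTorus_bc hTZ ξ
    rwa [Functor.map_comp] at this

end Groth.Agent.S5549
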