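import Groth.Statements.S5552
import Groth.Agent.BruhatLib.Map

set_option autoImplicit false
set_option backward.isDefEq.respectTransparency false
open CategoryTheory MonoidalCategory CartesianMonoidalCategory MonObj GrpObj AlgebraicGeometry
universe u
open RedSub

namespace Groth.Agent.S5552

/-- Let G be a split reductive S-group (splitting D, system of simple roots b, enumerations of the
negative and positive roots, S-points n_a realising the reflections), l a word in the roots with
Weyl element w and n_l = n_{a_1} ⋯ n_{a_k}, and e an enumeration of R_- ∩ w(R_-). Then the Bruhat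
cell map G_a^{R_- ∩ w(R_-)} x_S T x_S G_a^{R_+} ⟶ G, (y, t, x) ↦ ∏ u(y) · n_l · t · ∏ u(x), is an
immersion, and its image is contained and closed in the open translate n_l Ω of the big cell (it is
the subscheme B' N_w B of the source). -/
theorem result {S : Scheme.{u}} {G : Over S} [GrpObj G] (D : Red.SplitRed G)
    (b : D.P.Base) {n m : ℕ} (eneg : Fin n → D.idx) (epos : Fin m → D.idx)
    (hneg : RedSub.Enumerates (RedSub.negRoots D.P b) eneg) (hpos : RedSub.Enumerates (RedSub.posRoots D.P b) epos)
    (nr : D.idx → (𝟙_ (Over S) ⟶ G)) (hnr : RedSub.RealisesReflections D nr) (l : List D.idx) {k : ℕ}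
    (e : Fin k → D.idx) (he : RedSub.Enumerates (RedSub.negMeetNeg D.P b (RedSub.wordPerm D.P l)) e) :
    IsImmersion (RedSub.bruhatMap D nr l e epos).left ∧
      ∃ C : Set ↥G.left, IsClosed C ∧
        Set.range (RedSub.bruhatMap D nr l e epos).left.base =
          Set.range ((toUnit _ ≫ (l.map nr).prod) * RedSub.cellMap D eneg epos).left.base ∩ C := by
  rcases isEmpty_or_nonempty S with hS | hS
  · haveI hG : IsEmpty G.left := ⟨fun x => hS.false (G.hom x)⟩
    haveI : IsEmpty (RedSub.pow (Red.Ga S) k ⊗ (D.T ⊗ RedSub.pow (Red.Ga S) m) : Over S).left :=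
      ⟨fun x => hS.false ((RedSub.pow (Red.Ga S) k ⊗ (D.T ⊗ RedSub.pow (Red.Ga S) m) : Over S).hom x)⟩
    exact ⟨inferInstance, Set.univ, isClosed_univ, Set.ext fun x => hG.elim x⟩
  obtain ⟨j, hj, hjo⟩ := Bruhat.exists_bruhat_fac hnr b (eneg := eneg) (epos := epos) hneg l he
  haveI := SplitCell.isOpenImmersion_cellMap D (SplitCell.sidesOfBase D.P b) hneg hpos
  let o := (toUnit _ ≫ (l.map nr).prod) * RedSub.cellMap D eneg epos
  haveI ho : IsOpenImmersion o.left := Bruhat.isOpenImmersion_translate _ _
  rw [hjo, Over.comp_left]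
  refine ⟨inferInstance, closure (Set.range (j.left ≫ o.left).base), isClosed_closure, Set.ext fun x => ⟨?_, ?_⟩⟩
  · rintro ⟨z, rfl⟩
    exact ⟨⟨j.left z, (Scheme.Hom.comp_apply _ _ _).symm⟩, subset_closure ⟨z, rfl⟩⟩
  · rintro ⟨⟨w, rfl⟩, hw⟩
    have hopen := o.left.isOpenEmbedding
    have h2 : w ∈ closure (o.left.base ⁻¹' Set.range (j.left ≫ o.left).base) := by
      rw [← hopen.isOpenMap.preimage_closure_eq_closure_preimage hopen.continuous]
      exact hw
    have h3 : o.left.base ⁻¹' Set.range (j.left ≫ o.left).base = Set.range j.left.base := Set.ext fun v =>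
      ⟨fun ⟨z, hz⟩ => ⟨z, hopen.injective ((Scheme.Hom.comp_apply _ _ _).symm.trans hz)⟩,
        fun ⟨z, hz⟩ => ⟨z, (Scheme.Hom.comp_apply _ _ _).trans (congrArg o.left.base hz)⟩⟩
    rw [h3, (j.left.isClosedEmbedding.isClosed_range).closure_eq] at h2
    obtain ⟨z, hz⟩ := h2
    exact ⟨z, (Scheme.Hom.comp_apply _ _ _).trans (congrArg o.left.base hz)⟩

end Groth.Agent.S5552
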