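import Groth.Statements.S5553
import Groth.Agent.RedSymLib.Levi
import Groth.Agent.RedSymLib.Roots
import Groth.Agent.SplitFibLib.Levels
import Groth.Agent.S5522

set_option autoImplicit false
set_option linter.style.haveILetI false
set_option backward.isDefEq.respectTransparency false
set_option maxHeartbeats 1000000
set_option synthInstance.maxHeartbeats 400000
open CategoryTheory MonoidalCategory CartesianMonoidalCategory MonObj GrpObj AlgebraicGeometry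
universe u
open RedSub

attribute [-instance] CategoryTheory.Hom.commGroup

namespace Groth.Agent.S5553

/-- Let S be connected, G a split reductive S-group (splitting D), R' a closed set of roots, R_1 its
symmetric part and R_2 = R' ∖ R_1, H' = H_{R'} and H_1 = H_{R_1} the subgroups of type (R)
containing T with these root sets, H_1 ⊆ H'. Then there is a normal subgroup U_2 of H', its
unipotent radical, which for every ordering of R_2 is the image of G_a^{R_2} under the ordered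
product of the root homomorphisms, such that H' is the semidirect product H_1 ⋉ U_2 (multiplication
H_1 x_S U_2 ⟶ H' is an isomorphism); and U_2 ∩ Norm_G(H_1) = e. -/
theorem result {S : Scheme.{u}} [ConnectedSpace S] {G H' H₁ : Over S} [GrpObj G]
    [GrpObj H'] [GrpObj H₁] (D : Red.SplitRed G) (R' : Set D.idx)
    (hcl : ∀ a b c : D.idx, a ∈ R' → b ∈ R' → D.P.root a + D.P.root b = D.P.root c → c ∈ R')
    (h' : H' ⟶ G) (hH' : RedSub.IsTypeR h') (t' : D.T ⟶ H') (ht' : t' ≫ h' = D.i)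
    (hR' : ∀ a : D.idx, (∃ v : Red.Ga S ⟶ H', v ≫ h' = D.u a) ↔ a ∈ R')
    (h₁ : H₁ ⟶ G) (hH₁ : RedSub.IsTypeR h₁) (t₁ : D.T ⟶ H₁) (ht₁ : t₁ ≫ h₁ = D.i)
    (hR₁ : ∀ a : D.idx, (∃ v : Red.Ga S ⟶ H₁, v ≫ h₁ = D.u a) ↔ (a ∈ R' ∧ D.P.reflectionPerm a a ∈ R'))
    (f₁ : H₁ ⟶ H') (hf₁ : f₁ ≫ h' = h₁) :
    ∃ (U₂ : Over S) (_ : GrpObj U₂) (u₂ : U₂ ⟶ H'), IsMonHom u₂ ∧ Par.IsUnipotentRadical u₂ ∧
      IsIso ((f₁ ⊗ₘ u₂) ≫ μ[H']) ∧
      (∀ {m : ℕ} (e : Fin m → D.idx), RedSub.Enumerates {a | a ∈ R' ∧ D.P.reflectionPerm a a ∉ R'} e →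
        ∃ ψ : RedSub.pow (Red.Ga S) m ≅ U₂, ψ.hom ≫ u₂ ≫ h' = RedSub.prodMap (Red.Ga S) m (fun k => D.u (e k))) ∧
      ∀ (X : Over S) (x : X ⟶ U₂),
        (∀ (X' : Over S) (y : X' ⟶ X) (z : X' ⟶ H₁),
          (∃ z' : X' ⟶ H₁, (y ≫ x ≫ u₂ ≫ h') * (z ≫ h₁) * (y ≫ x ≫ u₂ ≫ h')⁻¹ = z' ≫ h₁) ∧
          (∃ z' : X' ⟶ H₁, (y ≫ x ≫ u₂ ≫ h')⁻¹ * (z ≫ h₁) * (y ≫ x ≫ u₂ ≫ h') = z' ≫ h₁)) → x = 1 := by
  classical
  haveI := SplitFib.isReduced_root D
  haveI := SplitCell.isMonHom_i D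
  haveI : ∀ k, IsMonHom (D.u k) := SplitCell.isMonHom_u D
  haveI := D.reductive.1
  haveI := D.reductive.2.1
  obtain ⟨hm, hmono, hsm, hconn⟩ := RootSubgrp.typeR_data h' hH'
  haveI := hm; haveI := hmono; haveI := hsm
  haveI : IsImmersion h'.left := hH'.1.2
  haveI : QuasiCompact H'.hom := hH'.2.2.1
  haveI : Mono h'.left := inferInstance
  haveI : QuasiSeparated H'.hom := by
    haveI : IsSeparated (h'.left ≫ G.hom) := MorphismProperty.comp_mem (W := @IsSeparated) _ _ inferInstance inferInstance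
    rw [← Over.w h']; infer_instance
  obtain ⟨hm₁, hmono₁, hsm₁, hconn₁⟩ := RootSubgrp.typeR_data h₁ hH₁
  haveI := hm₁; haveI := hmono₁; haveI := hsm₁
  haveI : Mono f₁ := mono_of_mono_fac hf₁
  haveI : IsMonHom (f₁ ≫ h') := by rw [hf₁]; infer_instance
  haveI : IsMonHom f₁ := Groth.Agent.DiagRep.isMonHom_of_comp_mono f₁ h'
  obtain ⟨R₀, hR₀, hiff⟩ := RootSubgrp.exists_roots D h' t' ht' hconn
  obtain rfl : R' = R₀ := Set.ext fun a => ((hiff a).trans (hR' a)).symm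
  have hfac : ∀ k ∈ R', ∃ w : Red.Ga S ⟶ H', w ≫ h' = D.u k := fun k hk => (hR' k).2 hk
  obtain ⟨R₁, hR₁', hiff₁⟩ := RootSubgrp.exists_roots D h₁ t₁ ht₁ hconn₁
  have hR₁mem : ∀ a, a ∈ R₁ ↔ (a ∈ R' ∧ D.P.reflectionPerm a a ∈ R') := fun a => (hiff₁ a).trans (hR₁ a)
  let R₂ : Set D.idx := {a | a ∈ R' ∧ D.P.reflectionPerm a a ∉ R'}
  have hmix : ∀ β ∈ R', ∀ a c : D.idx, a ∈ R₂ → D.P.root a + D.P.root β = D.P.root c → c ∈ R₂ := by
    intro β hβ a c ha e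
    refine ⟨hcl a β c ha.1 hβ e, fun hc => ha.2 (hcl _ β _ hc hβ ?_)⟩
    rw [RootSubgrp.root_neg, RootSubgrp.root_neg, ← e]
    abel
  have hcl₂ : ∀ a b c : D.idx, a ∈ R₂ → b ∈ R₂ → D.P.root a + D.P.root b = D.P.root c → c ∈ R₂ :=
    fun a b c ha hb e => hmix b hb.1 a c ha e
  have hcl₂' : RootD.IsClosedSub D.P R₂ := fun a b c ha hb e => hcl₂ a b c ha hb e.symm
  obtain ⟨B, hB⟩ := Groth.Agent.S5522.result D R₂ hcl₂ fun a ha h => ha.2 h.1
  let b : SplitCell.Sides D.P := SplitCell.sidesOfBase D.P B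
  have hb : R₂ ⊆ b.pos := hB
  obtain ⟨φr, hφp, -⟩ := b.regular
  have hsat : ∀ {m : ℕ} {e : Fin m → D.idx}, RedSub.Enumerates R₂ e → SplitCell.IsSatur D e := fun {m e} he =>
    SplitFib.isSatur_of_closed b hcl₂' (f := φr) (fun i hi => hφp i (hb hi)) 1
      ⟨he.1, he.2.trans (Set.ext fun i => ⟨fun hi => ⟨hi, Int.lt_iff_add_one_le.1 (hφp i (hb hi))⟩, fun hi => hi.1⟩)⟩
  obtain ⟨m, e, he⟩ := SplitFib.exists_enumerates R₂
  have he' : ∀ k, e k ∈ R₂ := fun k => he.2.subset (Set.mem_range_self k)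
  have hp : ∀ k, e k ∈ b.pos := fun k => hb (he' k)
  obtain ⟨grp, hhom⟩ := SplitCell.exists_grpObj b (hsat he) he.1 hp
  letI := grp; haveI := hhom
  haveI hcli : IsClosedImmersion (SplitCell.rprod D e).left := SplitCell.isClosedImmersion_rprod b he.1 hp
  haveI hrm : Mono (SplitCell.rprod D e) := SplitCell.mono_rprod D b he.1 hp
  obtain ⟨u₂, hu₂⟩ := RootSubgrp.exists_prodMap_lift h' (fun k => D.u (e k)) fun k => hfac _ (he' k).1
  replace hu₂ : u₂ ≫ h' = SplitCell.rprod D e := hu₂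
  haveI : IsMonHom (u₂ ≫ h') := by rw [hu₂]; exact hhom
  haveI : IsMonHom u₂ := Groth.Agent.DiagRep.isMonHom_of_comp_mono u₂ h'
  haveI : Mono u₂ := mono_of_mono_fac hu₂
  haveI hu₂c : IsClosedImmersion u₂.left := by
    haveI : IsClosedImmersion (u₂.left ≫ h'.left) := by rw [← Over.comp_left, hu₂]; exact hcli
    exact IsClosedImmersion.of_comp u₂.left h'.left
  haveI : IsAffineHom (RedSub.pow (Red.Ga S) m).hom := SplitCell.isAffineHom_pow m
  haveI hU₂s : Smooth (RedSub.pow (Red.Ga S) m).hom := by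
    haveI := SplitCell.smoothRel_pow (S := S) m
    exact SmoothOfRelativeDimension.smooth m _
  have hfib : ∀ s : S, ConnectedSpace ↥(Red.geomFibre s (RedSub.pow (Red.Ga S) m)).left ∧
      Red.HasNoSubtorus (AlgebraicClosure (S.residueField s)) (Red.geomFibre s (RedSub.pow (Red.Ga S) m)) := fun s =>
    ⟨SplitCell.connectedSpace_pow (Red.geomPt s) m,
      SplitCell.hasNoSubtorus_rprod b (hsat he) he.1 hp (Red.geomPt s)⟩
  have hopp : ∀ β ∈ R', ∀ α ∈ R₂, β ≠ D.P.reflectionPerm α α := fun β hβ α hα h => hα.2 (h ▸ hβ)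
  have hnormal : AlgGrp.IsNormalHom u₂ := by
    intro X y x
    obtain ⟨x', hx'⟩ := RedSym.stab_of_roots D hcl₂ he h' t' ht' hconn hR₀ hfac hmix hopp y x
    refine ⟨x', ?_⟩
    rw [← cancel_mono h', MonObj.mul_comp, MonObj.mul_comp, GrpObj.inv_comp, Category.assoc, Category.assoc, hu₂]
    exact hx'
  -- trivial intersection
  have hinter : ∀ (X : Over S) (z : X ⟶ H₁) (x : X ⟶ RedSub.pow (Red.Ga S) m), z ≫ f₁ = x ≫ u₂ → x = 1 := by
    intro X z x hzx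
    rw [← cancel_mono (SplitCell.rprod D e), MonObj.one_comp]
    refine RedSym.eq_one_of_inter D h₁ t₁ ht₁ hconn₁ hR₁' (fun k hk => (hiff₁ k).1 hk) b he.1 hp
      (fun k hk => (he' k).2 ((hR₁mem _).1 hk).2) z x ?_
    rw [← hf₁, ← Category.assoc, hzx, Category.assoc, hu₂]
  -- the radical
  have hrad : Par.IsUnipotentRadical u₂ := by
    refine ⟨inferInstance, hu₂c, hnormal, hU₂s, inferInstance, hfib, fun U' _ u' _ hu'c hu'n hu's hu'q hu'f => ?_⟩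
    haveI := hu'c; haveI := hu's
    have hj : RedSub.IsSubgrp (u' ≫ h') := ⟨inferInstance, by rw [Over.comp_left]; infer_instance⟩
    have hnorm : ∀ (X : Over S) (x : X ⟶ D.T) (y : X ⟶ U'),
        ∃ y' : X ⟶ U', (x ≫ D.i) * (y ≫ u' ≫ h') * (x ≫ D.i)⁻¹ = y' ≫ u' ≫ h' := by
      intro X x y
      obtain ⟨y', hy'⟩ := hu'n X (x ≫ t') y
      refine ⟨y', ?_⟩
      rw [← Category.assoc y', ← hy', MonObj.mul_comp, MonObj.mul_comp, GrpObj.inv_comp, Category.assoc,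
        Category.assoc, ht']
    obtain ⟨⟨b', hb'⟩, hpar⟩ := RootSubgrp.unip_structure D (u' ≫ h') hj hu'f hnorm
    obtain ⟨m', e₁, he₁⟩ := SplitFib.exists_enumerates {a : D.idx | ∃ v : Red.Ga S ⟶ U', v ≫ u' ≫ h' = D.u a}
    obtain ⟨ψ, hψ⟩ := hpar e₁ he₁
    have hsub : ∀ k, e₁ k ∈ R₂ := by
      intro k
      obtain ⟨v, hv⟩ := he₁.2.subset (Set.mem_range_self k)
      have hk : e₁ k ∈ R' := (hR' _).1 ⟨v ≫ u', by rw [Category.assoc, hv]⟩
      refine ⟨hk, fun hk' => ?_⟩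
      obtain ⟨n, hn⟩ : ∃ n : 𝟙_ (Over S) ⟶ H', Bruhat.IsRefl D (e₁ k) (n ≫ h') := by
        obtain ⟨_, ⟨x, y, hr⟩, -⟩ := Bruhat.exists_rule' (D := D) (e₁ k)
        obtain ⟨w, hw⟩ := hfac _ hk
        obtain ⟨w', hw'⟩ := hfac _ hk'
        refine ⟨(x ≫ w) * (y ≫ w') * (x ≫ w), ?_⟩
        simp only [MonObj.mul_comp, Category.assoc, hw, hw']
        exact hr
      exact RootSubgrp.asym_of_pos D b' hb' _ ⟨v, hv⟩ (RedSym.exists_u_neg D h' u' hu'n n hn v hv)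
    obtain ⟨f, hf⟩ := RootSubgrp.exists_prodMap_lift (SplitCell.rprod D e) (fun k => D.u (e₁ k)) fun k => by
      obtain ⟨i, hi⟩ := he.2.symm.subset (hsub k)
      rw [← hi]
      exact RootSubgrp.exists_u_rprod D i
    refine ⟨ψ.inv ≫ f, ?_⟩
    rw [← cancel_mono h', Category.assoc, Category.assoc, hu₂, hf, ← hψ, Iso.inv_hom_id_assoc]
  -- the product
  have hnf : ∀ (X : Over S) (x : X ⟶ H₁) (y : X ⟶ RedSub.pow (Red.Ga S) m),
      ∃ y' : X ⟶ RedSub.pow (Red.Ga S) m, (x ≫ f₁) * (y ≫ u₂) * (x ≫ f₁)⁻¹ = y' ≫ u₂ :=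
    fun X x y => hnormal X (x ≫ f₁) y
  have hiso : IsIso ((f₁ ⊗ₘ u₂) ≫ μ[H']) := by
    obtain ⟨P, hP⟩ := UnipTorus.exists_semiProd f₁ u₂ hnf
    letI := P; haveI := hP
    let φ : UnipTorus.semi (RedSub.pow (Red.Ga S) m) H₁ ⟶ H' := UnipTorus.emb f₁ u₂ ≫ fst H' H₁
    have hφ : ∀ {X : Over S} (x : X ⟶ RedSub.pow (Red.Ga S) m) (y : X ⟶ H₁),
        UnipTorus.pair x y ≫ φ = (x ≫ u₂) * (y ≫ f₁) := fun x y => by
      simp only [φ, ← Category.assoc, UnipTorus.lift_emb, lift_fst]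
    haveI : IsMonHom φ := Groth.Agent.BigCell.isMonHom_of_mul' _ fun X x y => by
      simp only [φ, ← Category.assoc, MonObj.mul_comp x y (UnipTorus.emb f₁ u₂)]
      rw [← lift_comp_fst_snd (x ≫ UnipTorus.emb f₁ u₂), ← lift_comp_fst_snd (y ≫ UnipTorus.emb f₁ u₂),
        UnipTorus.lift_mul, lift_fst, lift_fst, lift_fst]
    haveI : Mono φ := ⟨fun {X} p q hpq => by
      rw [← UnipTorus.eq_pair p, ← UnipTorus.eq_pair q, hφ, hφ] at hpq
      rw [← UnipTorus.eq_pair p, ← UnipTorus.eq_pair q]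
      generalize p ≫ fst _ _ = x at hpq ⊢
      generalize q ≫ fst _ _ = x' at hpq ⊢
      generalize p ≫ snd _ _ = y at hpq ⊢
      generalize q ≫ snd _ _ = y' at hpq ⊢
      have h0 : (y' * y⁻¹) ≫ f₁ = (x'⁻¹ * x) ≫ u₂ := by
        rw [MonObj.mul_comp, MonObj.mul_comp, GrpObj.inv_comp, GrpObj.inv_comp, mul_inv_eq_iff_eq_mul,
          _root_.mul_assoc, hpq, inv_mul_cancel_left]
      have hx := hinter X _ _ h0
      rw [inv_mul_eq_one] at hx
      subst hx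
      rw [mul_left_cancel_iff, cancel_mono] at hpq
      rw [hpq]⟩
    have hle : ∀ k ∈ R', ∃ w, w ≫ φ ≫ h' = D.u k := by
      intro k hk
      by_cases hk' : D.P.reflectionPerm k k ∈ R'
      · obtain ⟨w, hw⟩ := (hR₁ k).2 ⟨hk, hk'⟩
        refine ⟨UnipTorus.pair 1 w, ?_⟩
        rw [← Category.assoc, hφ, MonObj.one_comp, _root_.one_mul, Category.assoc, hf₁, hw]
      · obtain ⟨i, rfl⟩ := he.2.symm.subset (show k ∈ R₂ from ⟨hk, hk'⟩)
        obtain ⟨w, hw⟩ := RootSubgrp.exists_u_rprod D (e := e) i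
        refine ⟨UnipTorus.pair w 1, ?_⟩
        rw [← Category.assoc, hφ, MonObj.one_comp, _root_.mul_one, Category.assoc, hu₂, hw]
    obtain ⟨g, hg⟩ := RootSubgrp.exists_le D h' t' ht' hconn hR₀ hfac (φ ≫ h') (UnipTorus.pair 1 t₁)
      (by rw [← Category.assoc, hφ, MonObj.one_comp, _root_.one_mul, Category.assoc, hf₁, ht₁]) hle
    have hg' : g ≫ φ = 𝟙 H' := by rw [← cancel_mono h', Category.assoc, hg, Category.id_comp]
    rw [← UnipTorus.eq_pair g, hφ] at hg'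
    generalize g ≫ fst _ _ = x at hg'
    generalize g ≫ snd _ _ = y at hg'
    obtain ⟨x', hx'⟩ := hnf H' y⁻¹ x
    rw [GrpObj.inv_comp, _root_.inv_inv] at hx'
    have hsec : lift y x' ≫ (f₁ ⊗ₘ u₂) ≫ μ[H'] = 𝟙 H' := by
      rw [lift_map_assoc, ← Hom.mul_def, ← hx', ← hg']
      group
    haveI : Mono ((f₁ ⊗ₘ u₂) ≫ μ[H']) := ⟨fun {X} p q hpq => by
      rw [← lift_comp_fst_snd p, ← lift_comp_fst_snd q, lift_map_assoc, lift_map_assoc, ← Hom.mul_def,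
        ← Hom.mul_def] at hpq
      rw [← lift_comp_fst_snd p, ← lift_comp_fst_snd q]
      generalize p ≫ fst _ _ = a at hpq ⊢
      generalize q ≫ fst _ _ = a' at hpq ⊢
      generalize p ≫ snd _ _ = c at hpq ⊢
      generalize q ≫ snd _ _ = c' at hpq ⊢
      have h0 : (a'⁻¹ * a) ≫ f₁ = (c' * c⁻¹) ≫ u₂ := by
        rw [MonObj.mul_comp, MonObj.mul_comp, GrpObj.inv_comp, GrpObj.inv_comp, eq_mul_inv_iff_mul_eq,
          _root_.mul_assoc, hpq, inv_mul_cancel_left]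
      have hx := hinter X _ _ h0
      rw [mul_inv_eq_one] at hx
      subst hx
      rw [mul_right_cancel_iff, cancel_mono] at hpq
      rw [hpq]⟩
    haveI : IsSplitEpi ((f₁ ⊗ₘ u₂) ≫ μ[H']) := ⟨⟨⟨lift y x', hsec⟩⟩⟩
    exact isIso_of_mono_of_isSplitEpi _
  refine ⟨RedSub.pow (Red.Ga S) m, grp, u₂, inferInstance, hrad, hiso, fun {m₁} e₁ he₁ => ?_, fun X x hall => ?_⟩
  · obtain ⟨ψ, hψ⟩ := SplitCell.exists_iso b (hsat he) he.1 hp he₁.1 (he₁.2.trans he.2.symm)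
    exact ⟨ψ, by rw [hu₂]; exact hψ⟩
  · have htor : ∀ (Y : Over S) (s : Y ⟶ D.T) (w : Y ⟶ RedSub.pow (Red.Ga S) m),
        ∃ w' : Y ⟶ RedSub.pow (Red.Ga S) m,
          (s ≫ D.i) * (w ≫ SplitCell.rprod D e) * (s ≫ D.i)⁻¹ = w' ≫ SplitCell.rprod D e :=
      fun Y s w => RedSym.stab_torus D he s w
    refine UnipTorus.eq_one_of_commute D.reductive D.i D.maximalTorus (SplitCell.rprod D e)
      ⟨inferInstance, inferInstance⟩ hfib htor x fun X' f s => ?_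
    obtain ⟨z', hz'⟩ := (hall X' f (s ≫ t₁)).1
    rw [hu₂, Category.assoc s t₁, ht₁] at hz'
    obtain ⟨w', hw'⟩ := htor X' s (f ≫ x)⁻¹
    rw [GrpObj.inv_comp, Category.assoc] at hw'
    have hc : (z' * (s ≫ t₁)⁻¹) ≫ f₁ = ((f ≫ x) * w') ≫ u₂ := by
      rw [← cancel_mono h', MonObj.mul_comp, MonObj.mul_comp, MonObj.mul_comp, MonObj.mul_comp, GrpObj.inv_comp,
        GrpObj.inv_comp]
      simp only [Category.assoc, hu₂, hf₁, ht₁]
      rw [← hz', ← hw']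
      group
    have h1 := hinter X' _ _ hc
    rw [eq_inv_of_mul_eq_one_right h1, GrpObj.inv_comp, Category.assoc] at hw'
    exact (Commute.inv_right_iff.1 (mul_inv_eq_iff_eq_mul.1 hw' : Commute _ _)).eq.symm

end Groth.Agent.S5553
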