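import Groth.Statements.S5561
import Groth.Agent.RedSymLib.Inter
import Groth.Agent.RootSubgrpLib.UnipRad
import Groth.Agent.RootSubgrpLib.Incl

set_option autoImplicit false
set_option linter.style.haveILetI false
set_option backward.isDefEq.respectTransparency false
set_option maxHeartbeats 1000000
set_option synthInstance.maxHeartbeats 400000
open CategoryTheory MonoidalCategory CartesianMonoidalCategory MonObj GrpObj AlgebraicGeometry
universe u
open RedSub

attribute [-instance] CategoryTheory.Hom.commGroup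

namespace Groth.Agent.S5561

/-- Let S be connected, G a split reductive S-group (splitting D), H a subgroup of type (R) containing T
whose root set R' is contained in some system of positive roots, H'' a subgroup of type (R)
containing T with root set R'', and K ⊆ H the subgroup of type (R) containing T with root set R' ∩
R''. Then H ∩ Norm_G(H'') = K: a point of H normalises H'' if and only if it factors through K. -/
theorem result {S : Scheme.{u}} [ConnectedSpace S] {G H : Over S} [GrpObj G] [GrpObj H]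
    (D : Red.SplitRed G) (h : H ⟶ G) (hH : RedSub.IsTypeR h) (t : D.T ⟶ H) (ht : t ≫ h = D.i) (R' : Set D.idx)
    (hR' : ∀ a : D.idx, (∃ v : Red.Ga S ⟶ H, v ≫ h = D.u a) ↔ a ∈ R')
    (hpos : ∃ b : D.P.Base, R' ⊆ RedSub.posRoots D.P b)
    {H'' K : Over S} [GrpObj H''] [GrpObj K] (h'' : H'' ⟶ G) (hH'' : RedSub.IsTypeR h'') (t'' : D.T ⟶ H'')
    (ht'' : t'' ≫ h'' = D.i) (R'' : Set D.idx) (hR'' : ∀ a : D.idx, (∃ v : Red.Ga S ⟶ H'', v ≫ h'' = D.u a) ↔ a ∈ R'')
    (kG : K ⟶ G) (hK : RedSub.IsTypeR kG) (tK : D.T ⟶ K) (htK : tK ≫ kG = D.i)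
    (hRK : ∀ a : D.idx, (∃ v : Red.Ga S ⟶ K, v ≫ kG = D.u a) ↔ a ∈ R' ∩ R'') (fK : K ⟶ H) (hfK : fK ≫ h = kG)
    (X : Over S) (x : X ⟶ H) :
    (∀ (X' : Over S) (y : X' ⟶ X) (z : X' ⟶ H''),
        (∃ z' : X' ⟶ H'', (y ≫ x ≫ h) * (z ≫ h'') * (y ≫ x ≫ h)⁻¹ = z' ≫ h'') ∧
        (∃ z' : X' ⟶ H'', (y ≫ x ≫ h)⁻¹ * (z ≫ h'') * (y ≫ x ≫ h) = z' ≫ h'')) ↔
      ∃ w : X ⟶ K, w ≫ fK = x := by
  classical
  haveI := SplitFib.isReduced_root D
  haveI := SplitCell.isMonHom_i D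
  haveI : ∀ k, IsMonHom (D.u k) := SplitCell.isMonHom_u D
  haveI := D.reductive.1
  haveI := D.reductive.2.1
  obtain ⟨hm, hmono, hsm, hconn⟩ := RootSubgrp.typeR_data h hH
  haveI := hm; haveI := hmono; haveI := hsm
  obtain ⟨hm'', hmono'', hsm'', hconn''⟩ := RootSubgrp.typeR_data h'' hH''
  haveI := hm''; haveI := hmono''; haveI := hsm''
  obtain ⟨hmK, hmonoK, hsmK, hconnK⟩ := RootSubgrp.typeR_data kG hK
  haveI := hmK; haveI := hmonoK; haveI := hsmK
  haveI : IsImmersion kG.left := hK.1.2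
  haveI : QuasiSeparated K.hom := by
    haveI : IsSeparated (kG.left ≫ G.hom) := MorphismProperty.comp_mem (W := @IsSeparated) _ _ inferInstance inferInstance
    rw [← Over.w kG]; infer_instance
  obtain ⟨R₀, hR₀, hiff⟩ := RootSubgrp.exists_roots D h t ht hconn
  obtain rfl : R' = R₀ := Set.ext fun a => ((hiff a).trans (hR' a)).symm
  obtain ⟨R₀'', hR₀'', hiff''⟩ := RootSubgrp.exists_roots D h'' t'' ht'' hconn''
  obtain rfl : R'' = R₀'' := Set.ext fun a => ((hiff'' a).trans (hR'' a)).symm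
  obtain ⟨RK, hRK₀, hiffK⟩ := RootSubgrp.exists_roots D kG tK htK hconnK
  have hRKeq : RK = R' ∩ R'' := Set.ext fun a => (hiffK a).trans (hRK a)
  have hfac'' : ∀ k ∈ R'', ∃ w : Red.Ga S ⟶ H'', w ≫ h'' = D.u k := fun k hk => (hR'' k).2 hk
  constructor
  · intro hall
    obtain ⟨B, hB⟩ := hpos
    let b : SplitCell.Sides D.P := SplitCell.sidesOfBase D.P B
    obtain ⟨U, _, u, hu, -, hUs, hrad, hiso, hpar⟩ :=
      RootSubgrp.exists_unipRadical D h hH.1 t ht hconn hR₀ (fun k hk => (hR' k).2 hk) b hB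
    haveI := hu; haveI := hUs; haveI := hiso; haveI := hrad.2.1
    haveI : IsImmersion h.left := hH.1.2
    haveI : Mono u := (Over.forget S).mono_of_mono_map (inferInstanceAs (Mono u.left))
    obtain ⟨lC, eC, hC⟩ := SplitFib.exists_enumerates (R' \ R'')
    obtain ⟨lA, eA, hA⟩ := SplitFib.exists_enumerates (R' ∩ R'')
    have hCm : ∀ k, eC k ∈ R' \ R'' := fun k => hC.2.subset (Set.mem_range_self k)
    have hAm : ∀ k, eA k ∈ R' ∩ R'' := fun k => hA.2.subset (Set.mem_range_self k)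
    have hCA : RedSub.Enumerates R' (Fin.append eC eA) := by
      have h0 := RootSubgrp.enumerates_append hC hA (Set.disjoint_left.2 fun k hk hk' => hk.2 hk'.2)
      rwa [Set.sdiff_union_inter] at h0
    haveI : Mono (SplitCell.rprod D (Fin.append eC eA)) :=
      SplitCell.mono_rprod D b hCA.1 fun k => hB (hCA.2.subset (Set.mem_range_self k))
    obtain ⟨ψ, hψ⟩ := hpar _ hCA
    let j : U ⟶ G := u ≫ h
    -- a point of the radical with given coordinates
    let pt : ∀ {Y : Over S}, (Y ⟶ RedSub.pow (Red.Ga S) lC) → (Y ⟶ RedSub.pow (Red.Ga S) lA) → (Y ⟶ U) :=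
      fun c a => lift c a ≫ (SplitFib.powSplit lC lA).inv ≫ ψ.hom
    have hpt : ∀ {Y : Over S} (c : Y ⟶ RedSub.pow (Red.Ga S) lC) (a : Y ⟶ RedSub.pow (Red.Ga S) lA),
        pt c a ≫ j = (c ≫ SplitCell.rprod D eC) * (a ≫ SplitCell.rprod D eA) := fun c a => by
      simp only [pt, j, Category.assoc]
      rw [hψ, SplitFib.powSplit_rprod, MonObj.comp_mul, lift_fst_assoc, lift_snd_assoc]
    have hptI : ∀ {Y : Over S} (p : Y ⟶ U), ∃ c a, p = pt c a := fun p =>
      ⟨p ≫ ψ.inv ≫ (SplitFib.powSplit lC lA).hom ≫ fst _ _, p ≫ ψ.inv ≫ (SplitFib.powSplit lC lA).hom ≫ snd _ _, by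
        simp only [pt]
        simp only [← Category.assoc]
        rw [lift_comp_fst_snd]
        simp⟩
    obtain ⟨vA, hvA⟩ := RootSubgrp.exists_prodMap_lift h'' (fun k => D.u (eA k)) fun k => hfac'' _ (hAm k).2
    obtain ⟨vK, hvK⟩ := RootSubgrp.exists_prodMap_lift kG (fun k => D.u (eA k)) fun k => (hRK _).2 (hAm k)
    -- split off the torus
    let p := x ≫ inv ((t ⊗ₘ u) ≫ μ[H])
    obtain ⟨c, a, hca⟩ := hptI (p ≫ snd _ _)
    let τ : X ⟶ D.T := p ≫ fst _ _
    have hx : x ≫ h = (τ ≫ D.i) * ((c ≫ SplitCell.rprod D eC) * (a ≫ SplitCell.rprod D eA)) := by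
      rw [← hpt, ← hca]
      have h0 : x = (τ ≫ t) * ((p ≫ snd _ _) ≫ u) := by
        rw [Hom.mul_def, ← lift_map_assoc, lift_comp_fst_snd]
        simp [p]
      conv_lhs => rw [h0]
      simp only [MonObj.mul_comp, Category.assoc, ht, j]
    let W : X ⟶ U := pt c (SplitCell.tup fun _ => (1 : X ⟶ Red.Ga S))
    have hW : W ≫ j = c ≫ SplitCell.rprod D eC := by
      rw [hpt, show (SplitCell.tup fun _ => (1 : X ⟶ Red.Ga S)) ≫ SplitCell.rprod D eA = 1 from
        RedSym.tup_one_rprod D eA, _root_.mul_one]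
    have hnormU : ∀ (Y : Over S) (s : Y ⟶ D.T) (w : Y ⟶ U),
        ∃ w' : Y ⟶ U, (s ≫ D.i) * (w ≫ j) * (s ≫ D.i)⁻¹ = w' ≫ j := by
      intro Y s w
      obtain ⟨w', hw'⟩ := hrad.2.2.1 Y (s ≫ t) w
      refine ⟨w', ?_⟩
      show _ = w' ≫ u ≫ h
      rw [← Category.assoc w', ← hw', MonObj.mul_comp, MonObj.mul_comp, GrpObj.inv_comp, Category.assoc,
        Category.assoc, ht]
    have hW1 : W = 1 := by
      refine UnipTorus.eq_one_of_commute D.reductive D.i D.maximalTorus j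
        ⟨inferInstance, by show IsImmersion (u ≫ h).left; rw [Over.comp_left]; infer_instance⟩ hrad.2.2.2.2.2.1
        hnormU W fun X' f s => ?_
      -- the conjugate of a torus point lies in the other subgroup
      obtain ⟨z', hz'⟩ := (hall X' f (s ≫ t'')).2
      have hX : f ≫ x ≫ h = ((f ≫ τ) ≫ D.i) *
          (((f ≫ c) ≫ SplitCell.rprod D eC) * ((f ≫ a) ≫ SplitCell.rprod D eA)) := by
        rw [hx]; simp only [MonObj.comp_mul, Category.assoc]
      rw [hX, Category.assoc s, ht''] at hz'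
      obtain ⟨c', hc'⟩ := RedSym.exists_conj_rprod D eC s (f ≫ c)
      obtain ⟨a', ha'⟩ := RedSym.exists_conj_rprod D eA s (f ≫ a)
      have hcomm : ((f ≫ τ) ≫ D.i) * (s ≫ D.i) = (s ≫ D.i) * ((f ≫ τ) ≫ D.i) := by
        rw [← MonObj.mul_comp, ← MonObj.mul_comp, Groth.Agent.RCentre.commute_torus D.maximalTorus.2.2.1]
      -- the defect of commutation
      let C : X' ⟶ U := pt (f ≫ c) (SplitCell.tup fun _ => (1 : X' ⟶ Red.Ga S))
      let C' : X' ⟶ U := pt c' (SplitCell.tup fun _ => (1 : X' ⟶ Red.Ga S))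
      have hC1 : C ≫ j = (f ≫ c) ≫ SplitCell.rprod D eC := by
        rw [hpt, show (SplitCell.tup fun _ => (1 : X' ⟶ Red.Ga S)) ≫ SplitCell.rprod D eA = 1 from
          RedSym.tup_one_rprod D eA, _root_.mul_one]
      have hC2 : C' ≫ j = c' ≫ SplitCell.rprod D eC := by
        rw [hpt, show (SplitCell.tup fun _ => (1 : X' ⟶ Red.Ga S)) ≫ SplitCell.rprod D eA = 1 from
          RedSym.tup_one_rprod D eA, _root_.mul_one]
      obtain ⟨c₁, a₁, h₁⟩ := hptI (C⁻¹ * C')
      have hq : ∃ z : X' ⟶ H'', z ≫ h'' = (c₁ ≫ SplitCell.rprod D eC) * (a₁ ≫ SplitCell.rprod D eA) := by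
        refine ⟨((f ≫ a) ≫ vA) * z' * (s ≫ t'')⁻¹ * (a' ≫ vA)⁻¹, ?_⟩
        rw [← hpt, ← h₁, MonObj.mul_comp C⁻¹ C', GrpObj.inv_comp C, hC1, hC2, ← hc']
        have eA₁ : ((f ≫ a) ≫ vA) ≫ h'' = (f ≫ a) ≫ SplitCell.rprod D eA := by rw [Category.assoc, hvA]
        have eA₂ : (a' ≫ vA) ≫ h'' = a' ≫ SplitCell.rprod D eA := by rw [Category.assoc, hvA]
        have eT : (s ≫ t'') ≫ h'' = s ≫ D.i := by rw [Category.assoc, ht'']
        rw [MonObj.mul_comp, MonObj.mul_comp, MonObj.mul_comp, GrpObj.inv_comp, GrpObj.inv_comp, eA₁, eA₂, eT, ← hz',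
          ← ha']
        generalize (f ≫ τ) ≫ D.i = T at hcomm ⊢
        generalize (f ≫ c) ≫ SplitCell.rprod D eC = Cc
        generalize (f ≫ a) ≫ SplitCell.rprod D eA = Aa
        generalize s ≫ D.i = σ at hcomm ⊢
        have hT : T⁻¹ * σ * T = σ := by rw [_root_.mul_assoc, ← hcomm, inv_mul_cancel_left]
        rw [show (T * (Cc * Aa))⁻¹ * σ * (T * (Cc * Aa)) = (Cc * Aa)⁻¹ * (T⁻¹ * σ * T) * (Cc * Aa) by group, hT]
        group
      obtain ⟨z, hz⟩ := hq
      have hc₁ := RedSym.tup_eq_one_of_mem D h'' t'' ht'' hconn'' hR₀'' hfac'' b hC.1 hA.1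
        (fun k => hB (hCm k).1) (fun k => hB (hAm k).1) (fun k => (hCm k).2) (fun k => (hAm k).2) z c₁ a₁ hz
      subst hc₁
      -- compare coordinates
      have h2 : pt c' (SplitCell.tup fun _ => (1 : X' ⟶ Red.Ga S)) = pt (f ≫ c) a₁ := by
        show C' = _
        rw [← cancel_mono j, ← mul_inv_cancel_left C C', h₁, MonObj.mul_comp C, hC1, hpt, hpt,
          show (SplitCell.tup fun _ => (1 : X' ⟶ Red.Ga S)) ≫ SplitCell.rprod D eC = 1 from
            RedSym.tup_one_rprod D eC, _root_.one_mul]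
      have h3 : c' = f ≫ c := by
        simp only [pt] at h2
        rw [← Category.assoc, ← Category.assoc, cancel_mono, cancel_mono] at h2
        simpa using congrArg (fun w => w ≫ fst _ _) h2
      rw [h3] at hc'
      rw [show f ≫ W ≫ j = (f ≫ c) ≫ SplitCell.rprod D eC by rw [hW, Category.assoc]]
      exact (mul_inv_eq_iff_eq_mul.1 hc').symm
    refine ⟨(τ ≫ tK) * (a ≫ vK), ?_⟩
    rw [← cancel_mono h, Category.assoc, hfK, hx, ← hW, hW1, MonObj.one_comp, _root_.one_mul, MonObj.mul_comp,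
      Category.assoc τ, htK, Category.assoc a, hvK]
  · rintro ⟨w, rfl⟩ X' y z
    obtain ⟨g, hg⟩ := RootSubgrp.exists_le D kG tK htK hconnK hRK₀ (fun k hk => (hiffK k).1 hk) h'' t'' ht''
      fun k hk => hfac'' k (hRKeq ▸ hk).2
    have e : y ≫ (w ≫ fK) ≫ h = (y ≫ w ≫ g) ≫ h'' := by simp [hfK, hg]
    rw [e]
    exact ⟨⟨_, by rw [← GrpObj.inv_comp, ← MonObj.mul_comp, ← MonObj.mul_comp]⟩,
      ⟨_, by rw [← GrpObj.inv_comp, ← MonObj.mul_comp, ← MonObj.mul_comp]⟩⟩

end Groth.Agent.S5561
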