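import Groth.Statements.S5562
import Groth.Agent.RootSubgrpLib.UnipNorm

set_option autoImplicit false
set_option backward.isDefEq.respectTransparency false
open CategoryTheory MonoidalCategory CartesianMonoidalCategory MonObj GrpObj AlgebraicGeometry
universe u
open RedSub

namespace Groth.Agent.S5562

/-- Let S be connected, G a split reductive S-group (splitting D), H a subgroup of type (R) containing T
whose root set R' is closed with R' ∩ -R' = ∅, U = U_{R'} its unipotent radical, and H'' a subgroup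
of type (R) containing T with root set R'' such that no root of R'' is the opposite of a root of R'.
If α ∈ R', β ∈ R'' and α + β a root imply α + β ∈ R', then H'' normalises U. (The published
statement does not require R'' ∩ -R' = ∅; that condition is necessary: for G = SL₂, H = B the Borel
subgroup with R' = {α} and H'' = G with R'' = {α, -α}, the remaining hypotheses hold vacuously, 2α
and 0 not being roots, while a representative of the reflection s_α conjugates U_α onto U_{-α}; the
published proof applies the commutator formula to α ∈ R' and β ∈ R'', which requires β ≠ -α, and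
with that condition it proves the statement given here.) -/
theorem result {S : Scheme.{u}} [ConnectedSpace S] {G H : Over S} [GrpObj G] [GrpObj H]
    (D : Red.SplitRed G) (h : H ⟶ G) (hH : RedSub.IsTypeR h) (t : D.T ⟶ H) (ht : t ≫ h = D.i) (R' : Set D.idx)
    (hR' : ∀ a : D.idx, (∃ v : Red.Ga S ⟶ H, v ≫ h = D.u a) ↔ a ∈ R')
    (hcl : ∀ a b c : D.idx, a ∈ R' → b ∈ R' → D.P.root a + D.P.root b = D.P.root c → c ∈ R')
    (hasym : ∀ a ∈ R', D.P.reflectionPerm a a ∉ R') {U : Over S} [GrpObj U] (u : U ⟶ H) (hU : Par.IsUnipotentRadical u)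
    {H'' : Over S} [GrpObj H''] (h'' : H'' ⟶ G) (hH'' : RedSub.IsTypeR h'') (t'' : D.T ⟶ H'') (ht'' : t'' ≫ h'' = D.i)
    (R'' : Set D.idx) (hR'' : ∀ a : D.idx, (∃ v : Red.Ga S ⟶ H'', v ≫ h'' = D.u a) ↔ a ∈ R'')
    (hmix : ∀ a b c : D.idx, a ∈ R' → b ∈ R'' → D.P.root a + D.P.root b = D.P.root c → c ∈ R')
    (hopp : ∀ a ∈ R', D.P.reflectionPerm a a ∉ R'') :
    ∀ (X : Over S) (y : X ⟶ H'') (x : X ⟶ U), ∃ x' : X ⟶ U,
      (y ≫ h'') * (x ≫ u ≫ h) * (y ≫ h'')⁻¹ = x' ≫ u ≫ h := by
  intro X y x
  obtain ⟨hm, hmono, hsm, hconn⟩ := RootSubgrp.typeR_data h hH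
  obtain ⟨hm'', hmono'', hsm'', hconn''⟩ := RootSubgrp.typeR_data h'' hH''
  haveI := hm; haveI := hmono; haveI := hsm; haveI := hm''; haveI := hmono''; haveI := hsm''
  haveI := hH''.1.2
  haveI : QuasiSeparated H''.hom := by
    haveI := D.reductive.1
    rw [← Over.w h'']
    infer_instance
  obtain ⟨R₀, hR₀, hiff⟩ := RootSubgrp.exists_roots D h t ht hconn
  obtain rfl : R' = R₀ := Set.ext fun a => ((hiff a).trans (hR' a)).symm
  obtain ⟨R₁, hR₁, hiff''⟩ := RootSubgrp.exists_roots D h'' t'' ht'' hconn''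
  obtain rfl : R'' = R₁ := Set.ext fun a => ((hiff'' a).trans (hR'' a)).symm
  obtain ⟨b, hb⟩ := RootSubgrp.exists_sides_of_asym D h t ht hconn hR₀ hasym
  exact RootSubgrp.stab_of_roots D h hH.1 t ht hconn hR₀ (fun k hk => (hiff k).1 hk) b hb u hU hcl h'' t'' ht'' hconn''
    hR₁ (fun k hk => (hiff'' k).1 hk) (fun β hβ a c ha e => hmix a β c ha hβ e)
    (fun β hβ α hα e => hopp α hα (e ▸ hβ)) y x

end Groth.Agent.S5562
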