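import Groth.Statements.S5564
import Groth.Agent.BruhatLib.DerSplit2

set_option autoImplicit false
set_option backward.isDefEq.respectTransparency false
set_option maxHeartbeats 1000000
set_option synthInstance.maxHeartbeats 400000
open CategoryTheory MonoidalCategory CartesianMonoidalCategory MonObj GrpObj AlgebraicGeometry
universe u
open RedSub

namespace Groth.Agent.S5564

/-- Let G be a split reductive S-group (splitting D, torus T ≅ D_S(M)), D' = dér(G) ⟶ G its derived
group and N = {m ∈ M | (α*, m) = 0 for every coroot α*}. Then (dér(G), T', M/N, R) is a splitting: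
D' admits a splitting whose character group is identified with M/N carrying root to root (through a
bijection of index sets), whose torus maps to T over the inclusion D' ⟶ G compatibly with D_S(M/N) ⟶
D_S(M), and whose root homomorphisms composed with D' ⟶ G are the u_a. -/
theorem result {S : Scheme.{u}} {G D' : Over S} [GrpObj G] [GrpObj D'] (D : Red.SplitRed G)
    (d : D' ⟶ G) [IsMonHom d]
    (hker : ∃ (C : Over S) (_ : GrpObj C) (f₀ : G ⟶ C), IsMonHom f₀ ∧ (∀ (X : Over S) (a b : X ⟶ C), a * b = b * a) ∧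
      AlgGrp.IsKernel d f₀)
    (hkill : RedSub.KilledByCommutative d)
    (N : AddSubgroup D.M) (hN : ∀ m : D.M, m ∈ N ↔ ∀ a : D.idx, D.P.coroot a m = 0) :
    ∃ (Dd : Red.SplitRed D') (τ : Dd.T ⟶ D.T) (eidx : Dd.idx ≃ D.idx) (em : Dd.M ≃+ D.M ⧸ N),
      τ ≫ D.i = Dd.i ≫ d ∧
      τ ≫ D.split.hom.hom.hom =
        Dd.split.hom.hom.hom ≫ Red.DSmap S (em.symm.toAddMonoidHom.comp (QuotientAddGroup.mk' N)) ∧
      (∀ a' : Dd.idx, em (Dd.P.root a') = QuotientAddGroup.mk' N (D.P.root (eidx a'))) ∧
      (∀ a' : Dd.idx, Dd.u a' ≫ d = D.u (eidx a')) := by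
  have hN' : ∀ x : D.M, x ∈ N ↔ ∀ a, Bruhat.coF D a x = 0 := hN
  by_cases hS : Nonempty S
  swap
  · haveI : IsEmpty ↥S := not_nonempty_iff.1 hS
    haveI := Bruhat.free_quot D N hN'
    haveI := Bruhat.finite_quot D N
    have e : ∀ X Y : Over S, Nonempty (X ⟶ Y) := fun X Y => by
      haveI : IsEmpty ↥X.left := ⟨fun x => isEmptyElim (X.hom x)⟩
      exact ⟨Over.homMk (isInitialOfIsEmpty.to _) (isInitialOfIsEmpty.hom_ext _ _)⟩
    haveI hee : IsEmpty ↥D'.left := ⟨fun x => isEmptyElim (D'.hom x)⟩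
    let iT : Red.DS S (D.M ⧸ N) ⟶ D' := (e _ _).some
    have hiT : IsMonHom iT := Groth.Agent.BigCell.isMonHom_of_mul' _ fun _ _ _ => Bruhat.over_hom_eq hS _ _
    let Dd : Red.SplitRed D' :=
      { T := Red.DS S (D.M ⧸ N)
        i := iT
        M := D.M ⧸ N
        idx := D.idx
        P := Bruhat.qPair D N hN'
        pairing_eq := rfl
        u := fun _ => (e _ _).some
        reductive := by
          refine ⟨?_, ?_, fun s => isEmptyElim s⟩
          · haveI : IsAffine D'.left := isAffine_of_isEmpty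
            haveI : IsAffine S := isAffine_of_isEmpty
            exact isAffineHom_of_isAffine D'.hom
          · infer_instance
        maximalTorus := ⟨hiT, ⟨fun _ _ _ => Bruhat.over_hom_eq hS _ _⟩, Bruhat.isTorus_DS_free S _, fun s => isEmptyElim s⟩
        split := Iso.refl _
        rootHom := fun a => by
          refine ⟨Groth.Agent.BigCell.isMonHom_of_mul' _ fun _ _ _ => Bruhat.over_hom_eq hS _ _, ?_, fun X t x => ?_⟩
          · haveI : IsEmpty ↥(Red.Ga S).left := ⟨fun x => isEmptyElim ((Red.Ga S).hom x)⟩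
            haveI : IsIso (e (Red.Ga S) D').some.left := ⟨(e D' (Red.Ga S)).some.left,
              isInitialOfIsEmpty.hom_ext _ _, isInitialOfIsEmpty.hom_ext _ _⟩
            infer_instance
          · refine ⟨x, Bruhat.over_hom_eq hS _ _, ?_⟩
            haveI : IsEmpty ↥X.left := ⟨fun y => isEmptyElim (X.hom y)⟩
            exact Subsingleton.elim _ _
        refl := fun a => ⟨1, fun _ _ => Bruhat.over_hom_eq hS _ _⟩
        dim_fibre := fun s => isEmptyElim s }
    exact ⟨Dd, Bruhat.iotN D N, Equiv.refl _, AddEquiv.refl _, Bruhat.over_hom_eq hS _ _, Bruhat.over_hom_eq hS _ _,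
      fun _ => rfl, fun _ => Bruhat.over_hom_eq hS _ _⟩
  obtain ⟨b⟩ := Bruhat.exists_base D
  obtain ⟨n, m, eneg, epos, hneg, hpos⟩ := SplitCell.exists_enum (D := D) (SplitCell.sidesOfBase D.P b)
  obtain ⟨f, hf, hcf, hif⟩ := Bruhat.exists_quotHom D b N (fun x hx c => (hN' x).1 hx c) hneg hpos
  haveI := hf
  obtain ⟨C, _, f₀, hf₀, hC, hk₀⟩ := hker
  haveI := hf₀
  exact Bruhat.exists_derSplit D N hN' f hif d
    (Bruhat.isKernel_quot D N hN' b hneg hpos f hcf hif d f₀ hC hk₀ hkill) b hneg hpos hcf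

end Groth.Agent.S5564
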