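import Groth.Statements.S5566
import Groth.Agent.BruhatLib.Apply

set_option autoImplicit false
set_option backward.isDefEq.respectTransparency false
open CategoryTheory MonoidalCategory CartesianMonoidalCategory MonObj GrpObj AlgebraicGeometry
universe u
open RedSub

namespace Groth.Agent.S5566

/-- Let G be a split reductive S-group (splitting D, system of simple roots b, big cell Ω ⟶ G), a a
simple root, u_a(x) a section of U_a with x of unit coordinate, and v = u_{-a}(y) any section of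
U_{-a}. Then Ω · v ⊆ Ω ∪ u_a(x) · Ω. -/
theorem result {S : Scheme.{u}} {G : Over S} [GrpObj G] (D : Red.SplitRed G)
    (b : D.P.Base) {n m : ℕ} (eneg : Fin n → D.idx) (epos : Fin m → D.idx)
    (hneg : RedSub.Enumerates (RedSub.negRoots D.P b) eneg) (hpos : RedSub.Enumerates (RedSub.posRoots D.P b) epos)
    (a : D.idx) (ha : a ∈ b.support) (x : 𝟙_ (Over S) ⟶ Red.Ga S) (hx : IsUnit (Red.gaFn x))
    (y : 𝟙_ (Over S) ⟶ Red.Ga S) :
    Set.range (RedSub.cellMap D eneg epos * (toUnit _ ≫ y ≫ D.u (D.P.reflectionPerm a a))).left.base ⊆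
      Set.range (RedSub.cellMap D eneg epos).left.base ∪
        Set.range ((toUnit _ ≫ x ≫ D.u a) * RedSub.cellMap D eneg epos).left.base := by
  intro p hp
  haveI : Nonempty S := ⟨G.hom p⟩
  obtain ⟨K, _, _, ξ, q, hq⟩ := Bruhat.exists_of_mem_range _ hp
  obtain ⟨nr, hnr⟩ := Bruhat.exists_nr D
  obtain ⟨r, hr, -⟩ := Bruhat.exists_el_of_section D ξ (D.P.reflectionPerm a a) y
  obtain ⟨r', hr', hr'0⟩ := Bruhat.exists_el_of_section D ξ a x
  have hg : (q ≫ (RedSub.cellMap D eneg epos * (toUnit _ ≫ y ≫ D.u (D.P.reflectionPerm a a)))) =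
      (q ≫ RedSub.cellMap D eneg epos) * SplitCell.el ξ (D.u (D.P.reflectionPerm a a)) r := by
    rw [MonObj.comp_mul, ← hr, ← Category.assoc q (toUnit _), Subsingleton.elim (q ≫ toUnit _) (toUnit _)]
  rcases Bruhat.omega_mul_neg ξ (SplitCell.sidesOfBase D.P b) (hnr a) (Bruhat.isWall_of_mem_support b ha) (hr'0 hx) r
    (Bruhat.cell_mem_omega (σ := SplitCell.sidesOfBase D.P b) hneg hpos q) with h | h
  · exact Or.inl (Bruhat.mem_range_cell ξ (SplitCell.sidesOfBase D.P b) hneg hpos hq (hg ▸ h))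
  · refine Or.inr (Bruhat.mem_range_translate ξ (SplitCell.sidesOfBase D.P b) hneg hpos hq (x ≫ D.u a) ?_)
    rw [hr', hg]
    exact h

end Groth.Agent.S5566
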