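import Groth.Statements.S5567
import Groth.Agent.RootSubgrpLib.UnipCase

set_option autoImplicit false
set_option backward.isDefEq.respectTransparency false
open CategoryTheory MonoidalCategory CartesianMonoidalCategory MonObj GrpObj AlgebraicGeometry
universe u
open RedSub

namespace Groth.Agent.S5567

/-- First case: over a connected base. Let S be connected, G a split reductive S-group (splitting D) and
U ⟶ G a sub-group-scheme, smooth over S, whose geometric fibres are connected and contain no
non-trivial subtorus, normalised by T. Let R' be the set of roots whose root homomorphism factors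
through U. Then R' is contained in a system of positive roots and U = U_{R'}: for every enumeration
of R' the ordered product of the root homomorphisms is an isomorphism of G_a^{R'} onto U. -/
theorem result {S : Scheme.{u}} [ConnectedSpace S] {G U : Over S}
    [GrpObj G] [GrpObj U] (D : Red.SplitRed G) (j : U ⟶ G) (hU : RedSub.IsSubgrp j) [Smooth U.hom]
    (hfib : ∀ s : S, ConnectedSpace ↥(Red.geomFibre s U).left ∧
      Red.HasNoSubtorus (AlgebraicClosure (S.residueField s)) (Red.geomFibre s U))
    (hnorm : ∀ (X : Over S) (x : X ⟶ D.T) (y : X ⟶ U), ∃ y' : X ⟶ U, (x ≫ D.i) * (y ≫ j) * (x ≫ D.i)⁻¹ = y' ≫ j) :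
    (∃ b : D.P.Base, {a : D.idx | ∃ v : Red.Ga S ⟶ U, v ≫ j = D.u a} ⊆ RedSub.posRoots D.P b) ∧
      ∀ {m : ℕ} (e : Fin m → D.idx), RedSub.Enumerates {a : D.idx | ∃ v : Red.Ga S ⟶ U, v ≫ j = D.u a} e →
        ∃ ψ : RedSub.pow (Red.Ga S) m ≅ U, ψ.hom ≫ j = RedSub.prodMap (Red.Ga S) m (fun k => D.u (e k)) := by
  obtain ⟨⟨b, hb⟩, h2⟩ := RootSubgrp.unip_structure D j hU hfib hnorm
  obtain ⟨B, hB⟩ := RootSubgrp.exists_base_of_sides D b
  exact ⟨⟨B, hb.trans hB⟩, h2⟩

end Groth.Agent.S5567
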