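import Groth.Statements.S5570
import Groth.Agent.RadLib.Radical

set_option autoImplicit false
set_option backward.isDefEq.respectTransparency false
set_option backward.isDefEq.respectTransparency.types false
set_option maxHeartbeats 1000000
set_option synthInstance.maxHeartbeats 400000
open CategoryTheory MonoidalCategory CartesianMonoidalCategory MonObj GrpObj AlgebraicGeometry
universe u
open RedSub

attribute [-instance] CategoryTheory.Hom.commGroup
namespace Groth.Agent.S5570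

/-- Let G be a reductive S-group, q : Q ⟶ G a subtorus, z : Z ⟶ G its centraliser, ZZ ⟶ Z the centre of
Z and R = rad(Z) ⟶ ZZ its maximal torus. Then Q ⊆ rad(Z), and Z is the centraliser in G of rad(Z).
(So Centr_G(Q) is critical.) -/
theorem result {S : Scheme.{u}} {G Q Z ZZ R : Over S} [GrpObj G] [GrpObj Q] [GrpObj Z]
    [GrpObj ZZ] [GrpObj R] (hG : Red.IsReductive G) (q : Q ⟶ G) [IsMonHom q] [Mono q] (hQ : Red.IsTorus Q) (z : Z ⟶ G)
    (hZ : Red.IsCentralizerOf q z) (jz : ZZ ⟶ Z) (hZZ : Red.IsCentre jz) (r : R ⟶ ZZ) (hR : Red.IsMaximalTorus r) :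
    (∃ q' : Q ⟶ R, q' ≫ r ≫ jz ≫ z = q) ∧ Red.IsCentralizerOf (r ≫ jz ≫ z) z := by
  haveI := hZ.1; haveI := hZ.2.1
  haveI := hZZ.1; haveI := hZZ.2.1
  haveI := hR.1; haveI := hR.2.1
  have hZred := RadLib.isReductive_centralizer hG q hQ hZ
  obtain ⟨qZ, hqZ⟩ := (hZ.2.2 Q q).2 fun X' x h => by
    rw [← MonObj.mul_comp, ← MonObj.mul_comp, TorsTuple.commute_torus hQ x h]
  haveI : IsMonHom (qZ ≫ z) := by rw [hqZ]; infer_instance
  haveI : IsMonHom qZ := DiagRep.isMonHom_of_comp_mono qZ z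
  haveI : Mono (qZ ≫ z) := by rw [hqZ]; infer_instance
  haveI : Mono qZ := mono_of_mono qZ z
  obtain ⟨q', hq'⟩ := RadLib.factor_radical hZred hZZ hR hQ qZ fun X x g => (cancel_mono z).1 (by
    rw [MonObj.mul_comp, MonObj.mul_comp, Category.assoc, hqZ]
    have h := (hZ.2.2 X (g ≫ z)).1 ⟨g, rfl⟩ X (𝟙 _) x
    rw [Category.id_comp] at h
    exact h.symm)
  have hq'' : q' ≫ r ≫ jz ≫ z = q := by rw [reassoc_of% hq', hqZ]
  refine ⟨⟨q', hq''⟩, hZ.1, hZ.2.1, fun X g => ⟨?_, fun hg => ?_⟩⟩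
  · rintro ⟨w, rfl⟩ X' x h
    simp only [← Category.assoc]
    rw [← MonObj.mul_comp, ← MonObj.mul_comp, RadLib.centre_comm hZZ (h ≫ r) (x ≫ w)]
  · refine (hZ.2.2 X g).2 fun X' x h => ?_
    rw [← hq'', ← Category.assoc h q']
    exact hg X' x (h ≫ q')

end Groth.Agent.S5570
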