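import Groth.Statements.S5572
import Groth.Agent.BruhatLib.TorusQuotKer

set_option autoImplicit false
set_option backward.isDefEq.respectTransparency false
set_option maxHeartbeats 1000000
open CategoryTheory MonoidalCategory CartesianMonoidalCategory MonObj GrpObj AlgebraicGeometry
universe u
open RedSub

namespace Groth.Agent.S5572

/-- Let G be a split reductive S-group (splitting D, T ≅ D_S(M)) and N = {m | (α*, m) = 0 for all
coroots}, so that T/T' = D_S(N). Then there is a homomorphism f : G ⟶ D_S(N) inducing on T the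
canonical projection; any kernel of f is smooth over S with connected fibres and is killed by every
homomorphism from G to a commutative S-group scheme. -/
theorem result {S : Scheme.{u}} {G : Over S} [GrpObj G] (D : Red.SplitRed G)
    (N : AddSubgroup D.M) (hN : ∀ m : D.M, m ∈ N ↔ ∀ a : D.idx, D.P.coroot a m = 0) :
    ∃ f : G ⟶ Red.DS S ↥N, IsMonHom f ∧ D.i ≫ f = D.split.hom.hom.hom ≫ Red.DSmap S N.subtype ∧
      ∀ (K : Over S) [GrpObj K] (k : K ⟶ G) [IsMonHom k], AlgGrp.IsKernel k f →
        Smooth K.hom ∧ RedSub.HasConnectedFibres K ∧ RedSub.KilledByCommutative k := by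
  by_cases hS : Nonempty S
  swap
  · haveI : IsEmpty ↥S := not_nonempty_iff.1 hS
    refine ⟨1, Groth.Agent.BigCell.isMonHom_of_mul' _ fun X a b => Bruhat.over_hom_eq hS _ _, Bruhat.over_hom_eq hS _ _,
      fun K _ k _ _ => ⟨?_, fun s => isEmptyElim s, fun A _ f _ _ => Bruhat.over_hom_eq hS _ _⟩⟩
    haveI : IsEmpty ↥K.left := ⟨fun x => isEmptyElim (K.hom x)⟩
    infer_instance
  obtain ⟨b⟩ := Bruhat.exists_base D
  obtain ⟨n, m, eneg, epos, hneg, hpos⟩ := SplitCell.exists_enum (D := D) (SplitCell.sidesOfBase D.P b)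
  have hN' : ∀ x : D.M, x ∈ N ↔ ∀ a, Bruhat.coF D a x = 0 := hN
  obtain ⟨f, hf, hcf, hif⟩ := Bruhat.exists_quotHom D b N (fun x hx c => (hN' x).1 hx c) hneg hpos
  haveI := hf
  exact ⟨f, hf, hif, fun K _ k _ hk => Bruhat.kernel_props D b N hN' hneg hpos f hcf hif K k hk⟩

end Groth.Agent.S5572
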