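import Groth.Statements.S5577
import Groth.Agent.BruhatLib.TorusQuotCell

set_option autoImplicit false
set_option backward.isDefEq.respectTransparency false
set_option maxHeartbeats 1000000
open CategoryTheory MonoidalCategory CartesianMonoidalCategory MonObj GrpObj AlgebraicGeometry
universe u
open RedSub

namespace Groth.Agent.S5577

/-- Let G be a split reductive S-group (splitting D, T ≅ D_S(M), system of simple roots b, big cell map
c : Ω ⟶ G), N = {m | (α*, m) = 0 for all coroots} and f : Ω ⟶ D_S(N) = T/T' the T-component followed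
by D_S(M) ⟶ D_S(N). Then f is generically multiplicative: there is an open V ⊆ Ω x_S Ω containing
the unit point such that for all points x, y of Ω with (x, y) in V there is a point z of Ω with c(z)
= c(x) c(y) and f(z) = f(x) f(y). -/
theorem result {S : Scheme.{u}} {G : Over S} [GrpObj G]
    (D : Red.SplitRed G) (b : D.P.Base) {n m : ℕ} (eneg : Fin n → D.idx) (epos : Fin m → D.idx)
    (hneg : RedSub.Enumerates (RedSub.negRoots D.P b) eneg) (hpos : RedSub.Enumerates (RedSub.posRoots D.P b) epos)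
    (N : AddSubgroup D.M) (hN : ∀ x : D.M, x ∈ N ↔ ∀ c : D.idx, D.P.coroot c x = 0) :
    ∃ V : Set ↥((RedSub.pow (Red.Ga S) n ⊗ (D.T ⊗ RedSub.pow (Red.Ga S) m)) ⊗ (RedSub.pow (Red.Ga S) n ⊗ (D.T ⊗ RedSub.pow (Red.Ga S) m))).left, IsOpen V ∧
      (∀ u₀ : 𝟙_ (Over S) ⟶ RedSub.pow (Red.Ga S) n ⊗ (D.T ⊗ RedSub.pow (Red.Ga S) m), u₀ ≫ RedSub.cellMap D eneg epos = 1 →
        Set.range (lift u₀ u₀).left.base ⊆ V) ∧
      ∀ (X : Over S) (x y : X ⟶ RedSub.pow (Red.Ga S) n ⊗ (D.T ⊗ RedSub.pow (Red.Ga S) m)), Set.range (lift x y).left.base ⊆ V →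
        ∃ z : X ⟶ RedSub.pow (Red.Ga S) n ⊗ (D.T ⊗ RedSub.pow (Red.Ga S) m),
          z ≫ RedSub.cellMap D eneg epos = (x ≫ RedSub.cellMap D eneg epos) * (y ≫ RedSub.cellMap D eneg epos) ∧
          z ≫ snd _ _ ≫ fst _ _ ≫ D.split.hom.hom.hom ≫ Red.DSmap S N.subtype =
            (x ≫ snd _ _ ≫ fst _ _ ≫ D.split.hom.hom.hom ≫ Red.DSmap S N.subtype) *
              (y ≫ snd _ _ ≫ fst _ _ ≫ D.split.hom.hom.hom ≫ Red.DSmap S N.subtype) := by
  by_cases hS : Nonempty S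
  swap
  · refine ⟨Set.univ, isOpen_univ, fun _ _ => Set.subset_univ _, fun X x y _ => ⟨x, Bruhat.over_hom_eq hS _ _, Bruhat.over_hom_eq hS _ _⟩⟩
  have hc := SplitCell.isGerm_cell D (SplitCell.sidesOfBase D.P b) hneg hpos
  haveI := hc.open_imm
  let c := RedSub.cellMap D eneg epos
  let P := (fst _ _ ≫ c) * (snd (RedSub.pow (Red.Ga S) n ⊗ (D.T ⊗ RedSub.pow (Red.Ga S) m)) _ ≫ c)
  have hP : ∀ (X : Over S) (x y : X ⟶ RedSub.pow (Red.Ga S) n ⊗ (D.T ⊗ RedSub.pow (Red.Ga S) m)),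
      lift x y ≫ P = (x ≫ c) * (y ≫ c) := fun X x y => by
    rw [MonObj.comp_mul, lift_fst_assoc, lift_snd_assoc]
  have hr : ∀ (X : Over S) (x y : X ⟶ RedSub.pow (Red.Ga S) n ⊗ (D.T ⊗ RedSub.pow (Red.Ga S) m)),
      Set.range (lift x y).left.base ⊆ P.left.base ⁻¹' Set.range c.left.base ↔ SplitCell.InGerm c ((x ≫ c) * (y ≫ c)) := by
    intro X x y
    rw [SplitCell.inGerm_iff hc, ← hP]
    constructor
    · rintro h _ ⟨t, rfl⟩
      exact h ⟨t, rfl⟩
    · rintro h _ ⟨t, rfl⟩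
      exact h ⟨t, rfl⟩
  refine ⟨P.left.base ⁻¹' Set.range c.left.base, c.left.isOpenEmbedding.isOpen_range.preimage P.left.continuous,
    fun u₀ h₀ => (hr _ u₀ u₀).2 ?_, fun X x y hxy => ?_⟩
  · rw [show u₀ ≫ c = 1 from h₀, _root_.one_mul]
    exact SplitCell.inGerm_one hc
  · obtain ⟨z, hz⟩ := (hr X x y).1 hxy
    exact ⟨z, hz, Bruhat.fQuot_mul D b N (fun x hx c => (hN x).1 hx c) eneg epos x y z hz.symm⟩

end Groth.Agent.S5577
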