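import Groth.Statements.S5580
import Groth.Agent.ToposFinLib.Basic
-- import your own Groth.Agent.* helpers here

set_option autoImplicit false
set_option linter.style.haveILetI false
open CategoryTheory CategoryTheory.Limits Opposite
universe u
open ToposFin

namespace Groth.Agent.S5580

/-- Quasi-compact and coherent cases: for the topos of sheaves of sets on a small site: let (X_i) be a
finite family of objects with coproduct X (given as a colimit cofan) and f : X -> Y a morphism with
components f_i : X_i -> Y. Then f is quasi-compact (resp. coherent) if and only if every f_i is. -/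
theorem result {C : Type u} [SmallCategory C] {J : GrothendieckTopology C}
    {Y : ToposFin.Sh J} {n : ℕ} (X : Fin n → ToposFin.Sh J) (c : Cofan X) (hc : IsColimit c)
    (f : c.pt ⟶ Y) :
    (ToposFin.IsQCHom f ↔ ∀ i, ToposFin.IsQCHom (c.inj i ≫ f)) ∧
    (ToposFin.IsCohHom f ↔ ∀ i, ToposFin.IsCohHom (c.inj i ≫ f)) := by
  let c' : Cofan (fun k : ULift.{u} (Fin n) => X k.down) := Cofan.mk c.pt fun k => c.inj k.down
  have hc' : IsColimit c' := mkCofanColimit _ (fun s => Cofan.IsColimit.desc hc fun k => s.inj ⟨k⟩)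
    (fun s k => Cofan.IsColimit.fac hc _ k.down)
    (fun s m hm => Cofan.IsColimit.hom_ext hc _ _ fun k => (hm ⟨k⟩).trans (Cofan.IsColimit.fac hc (fun k => s.inj ⟨k⟩) k).symm)
  have hinj : ∀ i, ToposFin.IsQCHom (c.inj i) := fun i => ToposFinLib.isQCHom_inj hc' ⟨i⟩
  have hmono : ∀ i, Mono (c.inj i) := fun i => (ToposFinLib.coprod_props hc').2.1 ⟨i⟩
  obtain ⟨he, hm, hd⟩ := ToposFinLib.coprod_props hc'
  have hq : (∀ i, ToposFin.IsQCHom (c.inj i ≫ f)) → ToposFin.IsQCHom f := fun h T b hT =>
    ToposFinLib.isQC_of_finite _ (he.base' (pullback.fst f b)) fun k => ToposFinLib.isQC_of_isPullback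
      ((IsPullback.of_hasPullback (pullback.fst f b) (c'.inj k)).flip.paste_vert (IsPullback.of_hasPullback f b))
      (h k.down T b hT)
  refine ⟨⟨fun h i => ToposFinLib.IsQCHom.comp (hinj i) h, hq⟩,
    ⟨fun h i => ⟨ToposFinLib.IsQCHom.comp (hinj i) h.1, ToposFinLib.IsQSHom.comp (haveI := hmono i; ToposFinLib.IsQSHom.of_mono _) h.2⟩,
      fun h => ⟨hq fun i => (h i).1, ?_⟩⟩⟩
  exact ToposFinLib.isQSHom_of_components hc' f fun k => (h k.down).2

end Groth.Agent.S5580
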