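import Groth.Statements.S5582
import Groth.Agent.ToposFinLib.FPPres
-- import your own Groth.Agent.* helpers here

set_option autoImplicit false
set_option linter.style.haveILetI false
open CategoryTheory CategoryTheory.Limits Opposite
universe u
open ToposFin

namespace Groth.Agent.S5582

/-- Equivalence of (i), (ii bis) and (iii), for the topos of sheaves of sets on a small site admitting a
generating family of coherent objects: the coequalizer of every pair of arrows between coherent
objects is coherent if and only if every object X for which Hom(X, -) commutes with small filtered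
colimits is coherent; and every object is a small filtered colimit of coherent objects if and only
if that same condition holds. -/
theorem result {C : Type u} [SmallCategory C]
    {J : GrothendieckTopology C} (hE : ToposFin.HasCoherentGenerators J) :
    ((∀ (X₀ X₁ : ToposFin.Sh J) (a b : X₁ ⟶ X₀), ToposFin.IsCoherent X₀ → ToposFin.IsCoherent X₁ →
        ToposFin.IsCoherent (coequalizer a b)) ↔
      (∀ X : ToposFin.Sh J, ToposFin.IsFP X → ToposFin.IsCoherent X)) ∧
    ((∀ X : ToposFin.Sh J, ∃ (I : Type u) (_ : SmallCategory I) (_ : IsFiltered I) (D : I ⥤ ToposFin.Sh J),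
        (∀ i, ToposFin.IsCoherent (D.obj i)) ∧ Nonempty (X ≅ colimit D)) ↔
      (∀ X : ToposFin.Sh J, ToposFin.IsFP X → ToposFin.IsCoherent X)) := by
  have hq := ToposFinLib.qcGen_of_coherentGen hE
  refine ⟨⟨fun h X => ToposFinLib.isCoherent_of_isFP hE h,
    fun h X₀ X₁ a b h₀ h₁ => h _ (ToposFinLib.isFP_coequalizer hq a b h₀ h₁.1)⟩, ⟨fun h X hX => ?_, fun h X => ?_⟩⟩
  · obtain ⟨I, _, _, D, hD, ⟨e⟩⟩ := h X
    obtain ⟨j, s, hs⟩ := ToposFinLib.exists_rep_of_fp hX D e.hom
    exact ToposFinLib.isCoherent_of_retract s (colimit.ι D j ≫ e.inv) (by simp [reassoc_of% hs]) (hD j)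
  · obtain ⟨I, iI, hI, D, hD, he⟩ := ToposFinLib.exists_pres hE X
    refine ⟨I, iI, hI, D, fun i => h _ ?_, he⟩
    obtain ⟨X₀, X₁, a, b, h₀, h₁, hi⟩ := hD i
    rw [hi]
    exact ToposFinLib.isFP_coequalizer hq a b h₀ h₁.1

end Groth.Agent.S5582
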