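import Groth.Statements.S5583
import Groth.Agent.ToposFinLib.EpsGen
-- import your own Groth.Agent.* helpers here

set_option autoImplicit false
set_option linter.style.haveILetI false
open CategoryTheory CategoryTheory.Limits Opposite
universe u
open ToposFin

namespace Groth.Agent.S5583

/-- Let (C, J) be a small site with fibre products all of whose objects are quasi-compact. In the topos
of sheaves of sets, if G -> F <- H are morphisms between coherent objects and F lies over the sheaf
associated to some object of C, then G x_F H is coherent (so the coherent objects lying over such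
sheaves form a generating family stable under fibre products). -/
theorem result {C : Type u} [SmallCategory C] [HasPullbacks C]
    (J : GrothendieckTopology C) (hC : ∀ X : C, ToposFin.IsQCSite J X)
    {G H F : ToposFin.Sh J} (a : G ⟶ F) (b : H ⟶ F) (hG : ToposFin.IsCoherent G) (hH : ToposFin.IsCoherent H)
    (hF : ToposFin.IsCoherent F) (X : C) (w : F ⟶ ToposFin.eps J X) :
    ToposFin.IsCoherent (pullback a b) := by
  have hb : ToposFin.IsQSHom b :=
    ToposFinLib.IsQSHom.of_comp b w (ToposFinLib.isQSHom_to_eps hC _ hH.2)
  exact ⟨hF.2 _ _ a b hG.1 hH.1, ToposFinLib.IsQS.of_hom (pullback.fst a b)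
    (ToposFinLib.IsQSHom.of_isPullback (IsPullback.of_hasPullback a b).flip hb) hG.2⟩

end Groth.Agent.S5583
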