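import Groth.Statements.S5585
import Groth.Agent.ToposFinLib.Criteria
-- import your own Groth.Agent.* helpers here

set_option autoImplicit false
set_option linter.style.haveILetI false
open CategoryTheory CategoryTheory.Limits Opposite
universe u
open ToposFin

namespace Groth.Agent.S5585

/-- For an algebraic topos of sheaves of sets on a small site and a morphism f : X -> Y: if Y is
quasi-separated (resp. coherent), then X is quasi-separated (resp. coherent) if and only if f is a
quasi-separated (resp. coherent) morphism. -/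
theorem result {C : Type u} [SmallCategory C] {J : GrothendieckTopology C}
    (hE : ToposFin.IsAlgebraic J) {X Y : ToposFin.Sh J} (f : X ⟶ Y) :
    (ToposFin.IsQS Y → (ToposFin.IsQS X ↔ ToposFin.IsQSHom f)) ∧
    (ToposFin.IsCoherent Y → (ToposFin.IsCoherent X ↔ ToposFin.IsCohHom f)) := by
  refine ⟨fun hY => ⟨ToposFinLib.isQSHom_of_isQS_of_algebraic hE f,
    fun hf => ToposFinLib.IsQS.of_hom f hf hY⟩, fun hY => ⟨fun hX => ⟨ToposFinLib.isQCHom_of_isQS f hX.1 hY.2,
    ToposFinLib.isQSHom_of_isQS_of_algebraic hE f hX.2⟩, fun hf => ⟨?_, ToposFinLib.IsQS.of_hom f hf.2 hY.2⟩⟩⟩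
  exact ToposFinLib.isQC_of_iso (asIso (pullback.fst f (𝟙 Y))) (hf.1 _ (𝟙 Y) hY.1)

end Groth.Agent.S5585
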