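import Groth.Statements.S5586
import Groth.Agent.ToposFinLib.Criteria
-- import your own Groth.Agent.* helpers here

set_option autoImplicit false
set_option linter.style.haveILetI false
open CategoryTheory CategoryTheory.Limits Opposite
universe u
open ToposFin

namespace Groth.Agent.S5586

/-- Quasi-separated and coherent cases: for an algebraic topos of sheaves of sets on a small site: let f
: X -> Y be a morphism and (Y_i -> Y) a jointly epimorphic family. If the Y_i are quasi-separated
(resp. coherent), then f is quasi-separated (resp. coherent) if and only if every X x_Y Y_i is a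
quasi-separated (resp. coherent) object. -/
theorem result {C : Type u} [SmallCategory C]
    {J : GrothendieckTopology C} (hE : ToposFin.IsAlgebraic J) {X Y : ToposFin.Sh J} (f : X ⟶ Y)
    {ι : Type u} (Yi : ι → ToposFin.Sh J) (g : ∀ i, Yi i ⟶ Y)
    (hg : ∀ (Z : ToposFin.Sh J) (a b : Y ⟶ Z), (∀ i, g i ≫ a = g i ≫ b) → a = b) :
    ((∀ i, ToposFin.IsQS (Yi i)) → (ToposFin.IsQSHom f ↔ ∀ i, ToposFin.IsQS (pullback f (g i)))) ∧
    ((∀ i, ToposFin.IsCoherent (Yi i)) →
      (ToposFin.IsCohHom f ↔ ∀ i, ToposFin.IsCoherent (pullback f (g i)))) := by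
  obtain ⟨S, hqc, hgen, -, -⟩ := id hE
  have hG := ToposFinLib.qcGen_of_generating hqc hgen
  have key : (∀ i, ToposFin.IsQS (Yi i)) → (ToposFin.IsQSHom f ↔ ∀ i, ToposFin.IsQS (pullback f (g i))) := fun hY =>
    ⟨fun hf i => ToposFinLib.IsQS.of_hom (pullback.snd f (g i))
      (ToposFinLib.IsQSHom.of_isPullback (IsPullback.of_hasPullback f (g i)) hf) (hY i),
      fun h => ToposFinLib.IsQSHom.of_local hG f hg fun i =>
        ToposFinLib.isQSHom_of_isQS_of_algebraic hE _ (h i)⟩
  refine ⟨key, fun hY => ⟨fun hf i => ⟨hf.1 _ (g i) (hY i).1, (key fun i => (hY i).2).1 hf.2 i⟩,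
    fun h => ⟨?_, (key fun i => (hY i).2).2 fun i => (h i).2⟩⟩⟩
  exact ToposFinLib.IsQCHom.of_local hG f hg _ _ (fun i => IsPullback.of_hasPullback f (g i))
    fun i => ToposFinLib.isQCHom_of_isQS _ (h i).1 (hY i).2

end Groth.Agent.S5586
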