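import Groth.Statements.S5587
import Groth.Agent.ToposFinLib.Criteria
-- import your own Groth.Agent.* helpers here

set_option autoImplicit false
set_option linter.style.haveILetI false
open CategoryTheory CategoryTheory.Limits Opposite
universe u
open ToposFin

namespace Groth.Agent.S5587

/-- For a locally coherent topos of sheaves of sets on a small site (given by a generating set of
quasi-compact objects stable under fibre products): a morphism f : X -> Y is quasi-separated if and
only if for every quasi-separated object Y' over Y the fibre product X x_Y Y' is quasi-separated. -/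
theorem result {C : Type u} [SmallCategory C]
    {J : GrothendieckTopology C} (S : Set (ToposFin.Sh J)) (hqc : ∀ K ∈ S, ToposFin.IsQC K)
    (hgen : ToposFin.IsGenerating S) (hpb : ToposFin.ClosedUnderPullbacks S) {X Y : ToposFin.Sh J} (f : X ⟶ Y) :
    ToposFin.IsQSHom f ↔
      ∀ (Y' : ToposFin.Sh J) (g : Y' ⟶ Y), ToposFin.IsQS Y' → ToposFin.IsQS (pullback f g) := by
  have hG := ToposFinLib.qcGen_of_generating hqc hgen
  refine ⟨fun hf Y' g hY' => ToposFinLib.IsQS.of_hom (pullback.snd f g)
    (ToposFinLib.IsQSHom.of_isPullback (IsPullback.of_hasPullback f g) hf) hY', fun h => ?_⟩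
  obtain ⟨ι, K, π, hK, hπ⟩ := hgen Y
  refine ToposFinLib.IsQSHom.of_local hG f hπ fun i => ?_
  obtain ⟨κ, L, σ, hL, hσ⟩ := hgen (pullback f (π i))
  refine ToposFinLib.isQSHom_of_qs_products hG _ hσ (fun j => hqc _ (hL j)) (fun j l => ?_)
    (h _ _ (ToposFinLib.isQS_of_closedPullbacks hqc hgen hpb (hK i)))
  obtain ⟨P, p, q, hP, hsq⟩ := hpb (σ j ≫ pullback.snd f (π i)) (σ l ≫ pullback.snd f (π i)) (hL j) (hL l) (hK i)
  exact ToposFinLib.isQS_of_iso hsq.isoPullback (ToposFinLib.isQS_of_closedPullbacks hqc hgen hpb hP)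

end Groth.Agent.S5587
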