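import Groth.Statements.S5596
import Groth.Agent.EtShLib.Stalk
-- import your own Groth.Agent.* helpers here

set_option autoImplicit false
open CategoryTheory CategoryTheory.Limits AlgebraicGeometry Opposite
universe u
open EtDesc

namespace Groth.Agent.S5596

/-- A morphism v : F -> G of etale sheaves of sets on a scheme X is a monomorphism (resp. an
epimorphism) if and only if for every geometric point ξ of X (a morphism from the spectrum of a
separably closed field) the map of stalks F_ξ -> G_ξ is injective (resp. surjective). -/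
theorem result {X : Scheme.{u}} {F G : EtDesc.Sh X} (v : F ⟶ G) :
    (Mono v ↔ ∀ (Ω : Type u) [Field Ω] [IsSepClosed Ω] (ξ : Spec (CommRingCat.of Ω) ⟶ X),
      Function.Injective (((Scheme.pointSmallEtale ξ).sheafFiber (A := Type (u + 1))).map v)) ∧
    (Epi v ↔ ∀ (Ω : Type u) [Field Ω] [IsSepClosed Ω] (ξ : Spec (CommRingCat.of Ω) ⟶ X),
      Function.Surjective (((Scheme.pointSmallEtale ξ).sheafFiber (A := Type (u + 1))).map v)) := by
  haveI : AB5OfSize.{u + 1, u + 1} (Type (u + 1)) := ⟨fun _ _ _ => ⟨inferInstance⟩⟩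
  haveI : AB5OfSize.{u, u} (Type (u + 1)) := AB5OfSize_of_univLE.{u, u, u + 1, u + 1} (Type (u + 1))
  refine ⟨⟨fun _ Ω _ _ ξ => (CategoryTheory.mono_iff_injective _).1 inferInstance, fun h => ?_⟩,
    ⟨fun _ Ω _ _ ξ => (CategoryTheory.epi_iff_surjective _).1 inferInstance, fun h => ?_⟩⟩
  · haveI : IsIso (pullback.fst v v) :=
      Groth.Agent.EtShLib.isIso_of_stalks (A := Type (u + 1)) _ fun Ω _ _ ξ => by
        haveI : Mono ((Groth.Agent.EtShLib.stk (A := Type (u + 1)) ξ).map v) :=
          (CategoryTheory.mono_iff_injective _).2 (h Ω ξ)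
        exact (mono_iff_isIso_fst ((isLimitMapConePullbackConeEquiv (Groth.Agent.EtShLib.stk (A := Type (u + 1)) ξ)
          pullback.condition).1 (isLimitOfPreserves (Groth.Agent.EtShLib.stk (A := Type (u + 1)) ξ)
            (pullbackIsPullback v v)))).1 inferInstance
    exact (mono_iff_isIso_fst (pullbackIsPullback v v)).2 ‹_›
  · haveI : IsIso (pushout.inl v v) :=
      Groth.Agent.EtShLib.isIso_of_stalks (A := Type (u + 1)) _ fun Ω _ _ ξ => by
        haveI : Epi ((Groth.Agent.EtShLib.stk (A := Type (u + 1)) ξ).map v) :=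
          (CategoryTheory.epi_iff_surjective _).2 (h Ω ξ)
        exact (epi_iff_isIso_inl ((isColimitMapCoconePushoutCoconeEquiv (Groth.Agent.EtShLib.stk (A := Type (u + 1)) ξ)
          pushout.condition).1 (isColimitOfPreserves (Groth.Agent.EtShLib.stk (A := Type (u + 1)) ξ)
            (pushoutIsPushout v v)))).1 inferInstance
    exact (epi_iff_isIso_inl (pushoutIsPushout v v)).2 ‹_›

end Groth.Agent.S5596
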