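import Groth.Statements.S5602
import Mathlib.CategoryTheory.Abelian.Refinements
import Mathlib.Algebra.Homology.Augment

set_option autoImplicit false
universe w v u
open CategoryTheory CategoryTheory.Limits
open PCoh

namespace Groth.Agent.S5602

/-- Let C be an abelian category and C₀ a class of objects, closed under isomorphisms and quasi-stable
under kernels of epimorphisms. If E is strictly n-pseudo-coherent (bounded above, terms in C₀ from
degree n on) and H^i(E) = 0 for i > n, then H^n(E) is of C₀-finite type. -/
theorem result {C : Type u} [Category.{v} C] [Abelian C]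
    (P : ObjectProperty C) [P.IsClosedUnderIsomorphisms] (hqs : PCoh.IsQuasiStableUnderKernels P)
    (n : ℤ) (E : CochainComplex C ℤ) (hE : PCoh.IsStrictPC P n E)
    (hac : ∀ i : ℤ, n < i → IsZero (E.homology i)) :
    PCoh.IsOfFiniteType P (E.homology n) := by
  obtain ⟨⟨b, hb⟩, hP⟩ := hE
  let T : CochainComplex C ℕ :=
    { X := fun i => E.X (n + (i : ℤ))
      d := fun i j => E.d (n + (i : ℤ)) (n + (j : ℤ))
      shape := fun i j hij => E.shape _ _ (by
        simp only [ComplexShape.up_Rel] at hij ⊢
        omega)
      d_comp_d' := fun i j k _ _ => E.d_comp_d _ _ _ }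
  let m : ℤ := n + ((0 : ℕ) : ℤ)
  let K : CochainComplex C ℕ :=
    CochainComplex.augment T (X := E.cycles m) (E.iCycles m) (E.iCycles_d _ _)
  have hK : ∀ i : ℕ, K.ExactAt i := by
    intro i
    match i with
    | 0 =>
      rw [K.exactAt_iff' 0 0 1 (by simp) (by simp)]
      rw [ShortComplex.exact_iff_mono _ (show K.d 0 0 = 0 from K.shape 0 0 (by simp))]
      exact inferInstanceAs (Mono (E.iCycles m))
    | 1 =>
      rw [K.exactAt_iff' 0 1 2 (by simp) (by simp)]
      exact ShortComplex.exact_of_f_is_kernel _
        (E.cyclesIsKernel m (n + ((1 : ℕ) : ℤ)) (by simp [m]))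
    | i + 2 =>
      rw [K.exactAt_iff' (i + 1) (i + 2) (i + 3) (by simp) (by simp)]
      have h := hac (n + ((i + 1 : ℕ) : ℤ)) (by omega)
      rw [← HomologicalComplex.exactAt_iff_isZero_homology,
        E.exactAt_iff' (n + (i : ℤ)) (n + ((i + 1 : ℕ) : ℤ)) (n + ((i + 2 : ℕ) : ℤ))
          (by simp only [CochainComplex.prev]; omega) (by simp only [CochainComplex.next]; omega)] at h
      exact h
  obtain ⟨G, π, hG, hπ⟩ := hqs K hK ⟨(b - n).toNat + 1, fun i hi => by
      match i with
      | 0 => omega
      | j + 1 => exact hb _ (by omega)⟩ (fun i hi => by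
      match i with
      | 0 => omega
      | j + 1 => exact hP _ (by omega))
  have key : PCoh.IsOfFiniteType P (E.homology m) := by
    let π' : G ⟶ E.cycles m := π
    haveI : Epi π' := hπ
    exact ⟨G, π' ≫ E.homologyπ m, hG, inferInstance⟩
  simpa [m] using key

end Groth.Agent.S5602
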