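import Groth.Statements.S5612
import Groth.Agent.DRingLib.TorBalance
import Groth.Agent.DRingLib.Devissage

set_option autoImplicit false
universe u
open CategoryTheory CategoryTheory.Limits
attribute [local instance] HasDerivedCategory.standard
open DRing

namespace Groth.Agent.S5612

/-- Let A be a commutative ring all of whose modules have finite tor dimension (for instance A of finite
global dimension) and K ∈ D(A). (i) K has finite tor dimension if and only if K has bounded
cohomology. (ii) K is perfect if and only if K has bounded cohomology and is pseudo-coherent. -/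
theorem result {A : Type u} [CommRing A]
    (hA : ∀ (M : Type u) [AddCommGroup M] [Module A M], DRing.HasFiniteTorDim A M) (K : Dual.D A) :
    (DRing.HasFiniteTorDimCx A K ↔ ∃ a b : ℤ, ∀ i : ℤ, i < a ∨ b < i → Subsingleton (Dual.HD A K i)) ∧
      (DRing.IsPerfect A K ↔
        (∃ a b : ℤ, ∀ i : ℤ, i < a ∨ b < i → Subsingleton (Dual.HD A K i)) ∧ DRing.IsPseudoCoherent' A K) := by
  have key : DRing.HasFiniteTorDimCx A K ↔
      ∃ a b : ℤ, ∀ i : ℤ, i < a ∨ b < i → Subsingleton (Dual.HD A K i) := by
    refine ⟨fun ⟨a, b, h⟩ => ⟨a, b, fun i hi => ModuleCat.subsingleton_of_isZero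
      (DRingLib.isZero_Hn_of_hasTorAmplitudeIn h i hi)⟩, fun ⟨a, b, h⟩ => ?_⟩
    choose d hd using fun i : ℤ => hA (Dual.HD A K i)
    obtain ⟨a', ha'⟩ := ((Set.finite_Icc a b).image fun i => i - (d i : ℤ)).bddBelow
    refine ⟨a', b, (DRingLib.devissable_amplitude a' b).of_homology a (b + 1 - a).toNat K
      (fun i hi => ?_) fun i => ?_⟩
    · have : Subsingleton (Dual.HD A K i) := h i (by omega)
      exact ModuleCat.isZero_of_subsingleton _
    · by_cases hi : i < a ∨ b < i
      · have : Subsingleton (Dual.HD A K i) := h i hi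
        exact DRingLib.hasTorAmplitudeIn_of_isZero
          ((DerivedCategory.singleFunctor _ i).map_isZero (ModuleCat.isZero_of_subsingleton _)) _ _
      · have h1 : a' ≤ i - (d i : ℤ) := ha' ⟨i, Set.mem_Icc.2 ⟨by omega, by omega⟩, rfl⟩
        exact DRingLib.hasTorAmplitudeIn_singleFunctor (DRingLib.hasTorAmplitudeIn_mono (by omega)
          (by omega) ((DRingLib.hasTorDimLE_iff_amplitude _ _).mp (hd i)))
  refine ⟨key, ?_⟩
  rw [DRingLib.isPerfect_iff, DRingLib.isPseudoCoherent'_iff_forall, ← key]
  exact and_comm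

end Groth.Agent.S5612
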