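import Groth.Statements.S5613
import Mathlib.CategoryTheory.Triangulated.Pretriangulated
-- import your own Groth.Agent.* helpers here

set_option autoImplicit false
set_option linter.style.haveILetI false
universe v u
open CategoryTheory CategoryTheory.Limits CategoryTheory.Pretriangulated
open KZero

namespace Groth.Agent.S5613

/-- Let C be a pretriangulated category, L an object of C and n an integer such that the coproduct ∐_{i
≥ 0} L⟦2ni⟧ exists in C. Then cl(L) = 0 in K₀(C). -/
theorem result {C : Type u} [Category.{v} C] [Preadditive C] [HasZeroObject C]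
    [HasShift C ℤ] [∀ n : ℤ, (shiftFunctor C n).Additive] [Pretriangulated C]
    (L : C) (n : ℤ) [HasCoproduct (fun i : ℕ => (shiftFunctor C (2 * n * (i : ℤ))).obj L)] :
    KZero.clTri L = 0 := by
  open ZeroObject in
  have htri : ∀ T : Triangle C, T ∈ distinguishedTriangles →
      KZero.clTri T.obj₂ = KZero.clTri T.obj₁ + KZero.clTri T.obj₃ := fun T hT => by
    have h0 : (QuotientAddGroup.mk (FreeAbelianGroup.of ⟨T.obj₂, trivial⟩ - FreeAbelianGroup.of ⟨T.obj₁, trivial⟩ -
        FreeAbelianGroup.of ⟨T.obj₃, trivial⟩) : KZero.K0tri C) = 0 :=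
      (QuotientAddGroup.eq_zero_iff _).2 (AddSubgroup.subset_closure ⟨T, trivial, trivial, trivial, hT, rfl⟩)
    have h1 : KZero.clTri T.obj₂ - KZero.clTri T.obj₁ - KZero.clTri T.obj₃ = 0 := h0
    rw [sub_sub, sub_eq_zero] at h1
    exact h1
  have hzero : KZero.clTri (0 : C) = 0 := by
    simpa using htri _ (contractible_distinguished (0 : C))
  have hiso : ∀ {X Y : C}, (X ≅ Y) → KZero.clTri Y = KZero.clTri X := fun {X Y} e => by
    have h : Triangle.mk e.hom (0 : Y ⟶ 0) 0 ∈ distinguishedTriangles :=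
      isomorphic_distinguished _ (contractible_distinguished X) _
        (Triangle.isoMk _ _ (Iso.refl _) e.symm (Iso.refl _) (e.hom_inv_id.trans (Category.id_comp _).symm) (zero_comp.trans comp_zero.symm) (zero_comp.trans comp_zero.symm))
    simpa [hzero] using htri _ h
  have hshift : ∀ X : C, KZero.clTri (X⟦(1 : ℤ)⟧) = - KZero.clTri X := fun X => by
    have h := htri _ (rot_of_distTriang _ (contractible_distinguished X))
    simp only [contractibleTriangle_obj₁, contractibleTriangle_obj₂, contractibleTriangle_obj₃,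
      Triangle.rotate_obj₁, Triangle.rotate_obj₂, Triangle.rotate_obj₃] at h
    rw [hzero] at h
    exact eq_neg_of_add_eq_zero_right h.symm
  have hpow : ∀ (m : ℤ) (X : C), KZero.clTri (X⟦m⟧) = m.negOnePow • KZero.clTri X := by
    intro m
    induction m using Int.induction_on with
    | zero => intro X; simpa using (hiso ((shiftFunctorZero C ℤ).app X)).symm
    | succ i hi =>
      intro X
      rw [hiso ((shiftFunctorAdd' C (i : ℤ) 1 _ rfl).app X).symm]
      simp only [Functor.comp_obj]
      rw [hshift, hi, Int.negOnePow_succ, Units.neg_smul]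
    | pred i hi =>
      intro X
      have h := hshift (X⟦(-(i : ℤ) - 1)⟧)
      have h2 := hiso ((shiftFunctorAdd' C (-(i : ℤ) - 1) 1 (-(i : ℤ)) (by omega)).app X)
      simp only [Functor.comp_obj] at h2
      rw [h2, hi] at h
      rw [Int.negOnePow_sub, Int.negOnePow_one, mul_neg, mul_one, Units.neg_smul, h, neg_neg]
  let f : ℕ → C := fun i => L⟦2 * n * (i : ℤ)⟧
  let P := ∐ f
  let e₀ : f 0 ≅ L := eqToIso (congrArg (fun m => L⟦m⟧) (by simp)) ≪≫ (shiftFunctorZero C ℤ).app L
  let e : ∀ j : ℕ, (f j)⟦2 * n⟧ ≅ f (j + 1) := fun j =>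
    ((shiftFunctorAdd' C (2 * n * (j : ℤ)) (2 * n) (2 * n * ((j + 1 : ℕ) : ℤ)) (by push_cast; rw [mul_add, mul_one])).app L).symm
  let hc : IsColimit (Cofan.mk (P⟦2 * n⟧) fun j => (Sigma.ι f j)⟦2 * n⟧') :=
    isColimitCofanMkObjOfIsColimit (shiftFunctor C (2 * n)) f _ (coproductIsCoproduct f)
  haveI : HasBinaryBiproduct L (P⟦2 * n⟧) := inferInstance
  let F : L ⊞ P⟦2 * n⟧ ⟶ P :=
    biprod.desc (e₀.inv ≫ Sigma.ι f 0) (Cofan.IsColimit.desc hc fun j => (e j).hom ≫ Sigma.ι f (j + 1))
  let G : P ⟶ L ⊞ P⟦2 * n⟧ := Sigma.desc fun i => match i with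
    | 0 => e₀.hom ≫ biprod.inl
    | j + 1 => (e j).inv ≫ (Sigma.ι f j)⟦2 * n⟧' ≫ biprod.inr
  have hd : ∀ j, (Sigma.ι f j)⟦2 * n⟧' ≫ (Cofan.IsColimit.desc hc fun j => (e j).hom ≫ Sigma.ι f (j + 1)) =
      (e j).hom ≫ Sigma.ι f (j + 1) := fun j => Cofan.IsColimit.fac hc _ j
  let I : L ⊞ P⟦2 * n⟧ ≅ P :=
    { hom := F
      inv := G
      hom_inv_id := by
        refine biprod.hom_ext' _ _ ?_ (Cofan.IsColimit.hom_ext hc _ _ fun j => ?_)
        · simp [F, G, Sigma.ι_desc]
        · simp only [F, G, Category.comp_id, biprod.inr_desc_assoc, Cofan.inj, Cofan.mk_ι_app]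
          rw [← Category.assoc ((Sigma.ι f j)⟦2 * n⟧'), hd, Category.assoc, Sigma.ι_desc]
          simp
          rfl
      inv_hom_id := by
        refine Sigma.hom_ext _ _ fun i => ?_
        cases i with
        | zero => simp [F, G, Sigma.ι_desc_assoc]; exact (Category.comp_id _).symm
        | succ j =>
          simp only [F, G, Sigma.ι_desc_assoc, Category.assoc, biprod.inr_desc, Category.comp_id, hd,
            Iso.inv_hom_id_assoc]
          exact (Category.comp_id _).symm }
  have h := (hiso I).trans (htri _ (binaryBiproductTriangle_distinguished L (P⟦2 * n⟧)))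
  simp only [binaryBiproductTriangle_obj₁, binaryBiproductTriangle_obj₃] at h
  rw [hpow, Int.negOnePow_two_mul, one_smul] at h
  simpa [P, f] using h

end Groth.Agent.S5613
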