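import Groth.Statements.S5614
-- import your own Groth.Agent.* helpers here

set_option autoImplicit false
universe v u
open CategoryTheory CategoryTheory.Limits CategoryTheory.Pretriangulated
open KZero

namespace Groth.Agent.S5614

/-- Let C be a pretriangulated category and S a dense set of objects, meaning that every set of objects
which contains S and which contains the third vertex of a distinguished triangle as soon as it
contains the other two is all of C. Then K₀(C) is generated by the classes of the objects of S. -/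
theorem result {C : Type u} [Category.{v} C] [Preadditive C] [HasZeroObject C]
    [HasShift C ℤ] [∀ n : ℤ, (shiftFunctor C n).Additive] [Pretriangulated C]
    (S : Set C)
    (hdense : ∀ T : Set C, S ⊆ T →
      (∀ tr : Triangle C, tr ∈ distinguishedTriangles →
        (tr.obj₁ ∈ T → tr.obj₂ ∈ T → tr.obj₃ ∈ T) ∧ (tr.obj₁ ∈ T → tr.obj₃ ∈ T → tr.obj₂ ∈ T) ∧
          (tr.obj₂ ∈ T → tr.obj₃ ∈ T → tr.obj₁ ∈ T)) → T = Set.univ) :
    AddSubgroup.closure (KZero.clTri '' S) = (⊤ : AddSubgroup (KZero.K0tri C)) := by
  set H := AddSubgroup.closure (KZero.clTri '' S) with hH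
  have h := hdense {x | KZero.clTri x ∈ H}
    (fun x hx => by rw [hH]; exact AddSubgroup.subset_closure ⟨x, hx, rfl⟩) (fun X hX => ?_)
  · rw [eq_top_iff]
    rintro z -
    obtain ⟨w, rfl⟩ := QuotientAddGroup.mk_surjective z
    induction w using FreeAbelianGroup.induction_on with
    | zero => exact H.zero_mem
    | of x =>
      obtain ⟨x, -⟩ := x
      have : x ∈ {x | KZero.clTri x ∈ AddSubgroup.closure (KZero.clTri '' S)} := by rw [h]; trivial
      exact this
    | neg x hx => exact H.neg_mem hx
    | add a b ha hb => exact H.add_mem ha hb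
  · have e : KZero.clTri X.obj₂ = KZero.clTri X.obj₁ + KZero.clTri X.obj₃ := by
      have h0 : (QuotientAddGroup.mk (FreeAbelianGroup.of ⟨X.obj₂, trivial⟩ - FreeAbelianGroup.of ⟨X.obj₁, trivial⟩ -
          FreeAbelianGroup.of ⟨X.obj₃, trivial⟩) : KZero.K0tri C) = 0 :=
        (QuotientAddGroup.eq_zero_iff _).2 (AddSubgroup.subset_closure ⟨X, trivial, trivial, trivial, hX, rfl⟩)
      have h1 : KZero.clTri X.obj₂ - KZero.clTri X.obj₁ - KZero.clTri X.obj₃ = 0 := h0
      rw [sub_sub, sub_eq_zero] at h1
      exact h1
    refine ⟨fun a b => ?_, fun a b => ?_, fun a b => ?_⟩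
    · show KZero.clTri X.obj₃ ∈ H
      have := H.sub_mem (show KZero.clTri X.obj₂ ∈ H from b) a
      rwa [e, add_sub_cancel_left] at this
    · show KZero.clTri X.obj₂ ∈ H
      rw [e]; exact H.add_mem a b
    · show KZero.clTri X.obj₁ ∈ H
      have := H.sub_mem (show KZero.clTri X.obj₂ ∈ H from a) b
      rwa [e, add_sub_cancel_right] at this

end Groth.Agent.S5614
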