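import Groth.Statements.S5615
-- import your own Groth.Agent.* helpers here

set_option autoImplicit false
universe v u
open CategoryTheory CategoryTheory.Limits
open KZero

namespace Groth.Agent.S5615

/-- Let A be an abelian category and S a dense set of objects, meaning that every set of objects which
contains S and which contains the third term of a short exact sequence as soon as it contains the
other two is all of A. Then K₀(A) is generated by the classes of the objects of S. -/
theorem result {A : Type u} [Category.{v} A] [Abelian A] (S : Set A)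
    (hdense : ∀ T : Set A, S ⊆ T →
      (∀ X : ShortComplex A, X.ShortExact →
        (X.X₁ ∈ T → X.X₂ ∈ T → X.X₃ ∈ T) ∧ (X.X₁ ∈ T → X.X₃ ∈ T → X.X₂ ∈ T) ∧
          (X.X₂ ∈ T → X.X₃ ∈ T → X.X₁ ∈ T)) → T = Set.univ) :
    AddSubgroup.closure (KZero.cl '' S) = (⊤ : AddSubgroup (KZero.K0 A)) := by
  set H := AddSubgroup.closure (KZero.cl '' S) with hH
  have h := hdense {x | KZero.cl x ∈ H}
    (fun x hx => by rw [hH]; exact AddSubgroup.subset_closure ⟨x, hx, rfl⟩) (fun X hX => ?_)
  · rw [eq_top_iff]
    rintro z -
    obtain ⟨w, rfl⟩ := QuotientAddGroup.mk_surjective z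
    induction w using FreeAbelianGroup.induction_on with
    | zero => exact H.zero_mem
    | of x =>
      have : x ∈ {x | KZero.cl x ∈ AddSubgroup.closure (KZero.cl '' S)} := by rw [h]; trivial
      exact this
    | neg x hx => exact H.neg_mem hx
    | add a b ha hb => exact H.add_mem ha hb
  · have e : KZero.cl X.X₂ = KZero.cl X.X₁ + KZero.cl X.X₃ := by
      have h0 : (QuotientAddGroup.mk (FreeAbelianGroup.of X.X₂ - FreeAbelianGroup.of X.X₁ -
          FreeAbelianGroup.of X.X₃) : KZero.K0 A) = 0 :=
        (QuotientAddGroup.eq_zero_iff _).2 (AddSubgroup.subset_closure ⟨X, hX, rfl⟩)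
      have h1 : KZero.cl X.X₂ - KZero.cl X.X₁ - KZero.cl X.X₃ = 0 := h0
      rw [sub_sub, sub_eq_zero] at h1
      exact h1
    refine ⟨fun a b => ?_, fun a b => ?_, fun a b => ?_⟩
    · show KZero.cl X.X₃ ∈ H
      have := H.sub_mem (show KZero.cl X.X₂ ∈ H from b) a
      rwa [e, add_sub_cancel_left] at this
    · show KZero.cl X.X₂ ∈ H
      rw [e]; exact H.add_mem a b
    · show KZero.cl X.X₁ ∈ H
      have := H.sub_mem (show KZero.cl X.X₂ ∈ H from a) b
      rwa [e, add_sub_cancel_right] at this

end Groth.Agent.S5615
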