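import Groth.Statements.S5616
import Groth.Agent.DerLib.ExtEffaceable

set_option autoImplicit false
universe w w' v v' u u'
open CategoryTheory CategoryTheory.Limits
open CohDer

namespace Groth.Agent.S5616

/-- Let φ : A ⥤ B be an exact functor of abelian categories and M an object of A. The following are
equivalent: (i) for every L in A and every n, the map Ext^n_A(L, M) → Ext^n_B(φ L, φ M) induced by φ
is bijective; (ii) for every L the map Hom_A(L, M) → Hom_B(φ L, φ M) is bijective, and for every L,
every n ≥ 1 and every x ∈ Ext^n_B(φ L, φ M) there is an epimorphism L' ⟶ L of A such that x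
precomposed with its image under φ vanishes. -/
theorem result
    {A : Type u} [Category.{v} A] [Abelian A] [HasExt.{w} A]
    {B : Type u'} [Category.{v'} B] [Abelian B] [HasExt.{w'} B]
    (φ : A ⥤ B) [φ.Additive] [PreservesFiniteLimits φ] [PreservesFiniteColimits φ] (M : A) :
    (∀ (L : A) (n : ℕ), Function.Bijective (fun f : Abelian.Ext.{w} L M n => Abelian.Ext.mapExactFunctor φ f)) ↔
      ((∀ L : A, Function.Bijective (fun f : L ⟶ M => φ.map f)) ∧
        ∀ (L : A) (n : ℕ), 1 ≤ n → ∀ x : Abelian.Ext.{w'} (φ.obj L) (φ.obj M) n,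
          ∃ (L' : A) (p : L' ⟶ L), Epi p ∧ (Abelian.Ext.mk₀ (φ.map p)).comp x (zero_add n) = 0) := by
  constructor
  · intro h
    refine ⟨fun L => ?_, fun L n hn x => ?_⟩
    · have hbij := h L 0
      constructor
      · intro f g hfg
        apply (Abelian.Ext.mk₀_bijective L M).1
        apply hbij.1
        simpa [Abelian.Ext.mapExactFunctor_mk₀] using congrArg Abelian.Ext.mk₀ hfg
      · intro g
        obtain ⟨y, hy⟩ := hbij.2 (Abelian.Ext.mk₀ g)
        obtain ⟨f, rfl⟩ := (Abelian.Ext.mk₀_bijective L M).2 y
        exact ⟨f, (Abelian.Ext.mk₀_bijective _ _).1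
          (by simpa [Abelian.Ext.mapExactFunctor_mk₀] using hy)⟩
    · obtain ⟨m, rfl⟩ := Nat.exists_eq_add_of_le' hn
      obtain ⟨y, rfl⟩ := (h L (m + 1)).2 x
      obtain ⟨L', p, hp, hy⟩ := Groth.Agent.DerLib.ExtEffaceable.exists_epi_comp_eq_zero y
      refine ⟨L', p, hp, ?_⟩
      have := congrArg (Abelian.Ext.mapExactFunctor φ) hy
      simpa [Abelian.Ext.mapExactFunctor_comp, Abelian.Ext.mapExactFunctor_mk₀] using this
  · rintro ⟨h0, hx⟩ L n
    induction n generalizing L with
    | zero =>
      constructor
      · intro a b hab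
        obtain ⟨f, rfl⟩ := (Abelian.Ext.mk₀_bijective L M).2 a
        obtain ⟨g, rfl⟩ := (Abelian.Ext.mk₀_bijective L M).2 b
        simp only [Abelian.Ext.mapExactFunctor_mk₀] at hab
        rw [(h0 L).1 ((Abelian.Ext.mk₀_bijective _ _).1 hab)]
      · intro x
        obtain ⟨g, rfl⟩ := (Abelian.Ext.mk₀_bijective _ _).2 x
        obtain ⟨f, rfl⟩ := (h0 L).2 g
        exact ⟨Abelian.Ext.mk₀ f, Abelian.Ext.mapExactFunctor_mk₀ φ f⟩
    | succ n ih =>
      constructor
      · suffices ∀ y : Abelian.Ext.{w} L M (n + 1), Abelian.Ext.mapExactFunctor φ y = 0 → y = 0 by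
          intro a b hab
          apply sub_eq_zero.1
          apply this
          have : φ.mapExtAddHom L M (n + 1) (a - b) = 0 := by
            rw [map_sub]; exact sub_eq_zero.2 hab
          exact this
        intro y hy
        obtain ⟨L', p, hp, hpy⟩ := Groth.Agent.DerLib.ExtEffaceable.exists_epi_comp_eq_zero y
        have hS : (ShortComplex.mk (kernel.ι p) p (kernel.condition p)).ShortExact :=
          { exact := ShortComplex.exact_kernel p, mono_f := inferInstance, epi_g := hp }
        obtain ⟨z, rfl⟩ := Abelian.Ext.contravariant_sequence_exact₃ hS M y hpy (add_comm 1 n)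
        rw [Abelian.Ext.mapExactFunctor_comp, Abelian.Ext.mapExactFunctor_extClass] at hy
        obtain ⟨w, hw⟩ := Abelian.Ext.contravariant_sequence_exact₁ (hS.map_of_exact φ) _
          (Abelian.Ext.mapExactFunctor φ z) (add_comm 1 n) hy
        obtain ⟨w₀, rfl⟩ := (ih L').2 w
        have hzw : z = (Abelian.Ext.mk₀ (kernel.ι p)).comp w₀ (zero_add n) := by
          apply (ih _).1
          simp only [Abelian.Ext.mapExactFunctor_comp, Abelian.Ext.mapExactFunctor_mk₀]
          exact hw.symm
        rw [hzw]
        exact hS.extClass_comp_assoc w₀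
      · intro x
        obtain ⟨L', p, hp, hpx⟩ := hx L (n + 1) (by omega) x
        have hS : (ShortComplex.mk (kernel.ι p) p (kernel.condition p)).ShortExact :=
          { exact := ShortComplex.exact_kernel p, mono_f := inferInstance, epi_g := hp }
        obtain ⟨z, hz⟩ := Abelian.Ext.contravariant_sequence_exact₃ (hS.map_of_exact φ) _ x hpx
          (add_comm 1 n)
        obtain ⟨z₀, rfl⟩ := (ih _).2 z
        refine ⟨hS.extClass.comp z₀ (add_comm 1 n), ?_⟩
        simp only [Abelian.Ext.mapExactFunctor_comp, Abelian.Ext.mapExactFunctor_extClass]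
        exact hz

end Groth.Agent.S5616
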