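import Groth.Statements.S5622
import Groth.Agent.PStrictLib.Retract

set_option autoImplicit false
universe w v u
open CategoryTheory CategoryTheory.Limits
open PCoh

namespace Groth.Agent.S5622

/-- Let C be an abelian category and C₀ a strictly full additive subcategory, liftable and stable under
kernels of epimorphisms, and a ≤ b. For F', F'' in D(C): (i) ⇒ (ii), where (i) says F' and F'' have
perfect amplitude in [a, b] (each isomorphic to a strictly perfect complex vanishing outside [a, b])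
and (ii) says F' ⊞ F'' does; and (ii) ⇒ (i) when C₀ is stable under direct factors. -/
theorem result {C : Type u} [Category.{v} C] [Abelian C] [HasDerivedCategory.{w} C]
    (P : ObjectProperty C) [P.IsClosedUnderIsomorphisms] [P.ContainsZero] (hsum : ∀ X Y : C, P X → P Y → P (X ⨯ Y))
    (hlift : ∀ (E F : C) (u : E ⟶ F), Epi u → P F → IsSplitEpi u)
    (hst : ∀ (E F : C) (u : E ⟶ F), Epi u → P E → P F → P (kernel u))
    (a b : ℤ) (hab : a ≤ b) (F' F'' : DerivedCategory C) [HasBinaryBiproduct F' F''] :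
    (((∃ E : CochainComplex C ℤ, (∀ i : ℤ, P (E.X i)) ∧ (∀ i : ℤ, i < a ∨ b < i → IsZero (E.X i)) ∧ Nonempty (DerivedCategory.Q.obj E ≅ F')) ∧ (∃ E : CochainComplex C ℤ, (∀ i : ℤ, P (E.X i)) ∧ (∀ i : ℤ, i < a ∨ b < i → IsZero (E.X i)) ∧ Nonempty (DerivedCategory.Q.obj E ≅ F''))) →
        (∃ E : CochainComplex C ℤ, (∀ i : ℤ, P (E.X i)) ∧ (∀ i : ℤ, i < a ∨ b < i → IsZero (E.X i)) ∧ Nonempty (DerivedCategory.Q.obj E ≅ (F' ⊞ F'')))) ∧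
      ((∀ (E' E'' : C) [HasBinaryBiproduct E' E''], P (E' ⊞ E'') → P E' ∧ P E'') →
        (∃ E : CochainComplex C ℤ, (∀ i : ℤ, P (E.X i)) ∧ (∀ i : ℤ, i < a ∨ b < i → IsZero (E.X i)) ∧ Nonempty (DerivedCategory.Q.obj E ≅ (F' ⊞ F''))) →
          (∃ E : CochainComplex C ℤ, (∀ i : ℤ, P (E.X i)) ∧ (∀ i : ℤ, i < a ∨ b < i → IsZero (E.X i)) ∧ Nonempty (DerivedCategory.Q.obj E ≅ F')) ∧ (∃ E : CochainComplex C ℤ, (∀ i : ℤ, P (E.X i)) ∧ (∀ i : ℤ, i < a ∨ b < i → IsZero (E.X i)) ∧ Nonempty (DerivedCategory.Q.obj E ≅ F''))) := by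
  have h : PStrictLib.Hyp P := ⟨hsum, hlift, hst⟩
  refine ⟨fun ⟨⟨E, hE, hEz, hEe⟩, ⟨F, hF, hFz, hFe⟩⟩ => ?_, fun hdir ⟨E, hE, hEz, hEe⟩ => ?_⟩
  · obtain ⟨G, ⟨hG, hGz⟩, hGe⟩ :=
      PStrictLib.Amp.biprod h (show PStrictLib.Amp P a b F' from ⟨E, ⟨hE, hEz⟩, hEe⟩)
        (show PStrictLib.Amp P a b F'' from ⟨F, ⟨hF, hFz⟩, hFe⟩)
    exact ⟨G, hG, hGz, hGe⟩
  · have hn : a + ((b - a).toNat : ℤ) = b := by omega
    have hs : PStrictLib.Amp P a b (F' ⊞ F'') := ⟨E, ⟨hE, hEz⟩, hEe⟩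
    obtain ⟨G₁, ⟨h₁, h₁z⟩, h₁e⟩ := PStrictLib.Amp.of_retract h hdir _ a b hn F' (F' ⊞ F'')
      biprod.inl biprod.fst biprod.inl_fst hs
    obtain ⟨G₂, ⟨h₂, h₂z⟩, h₂e⟩ := PStrictLib.Amp.of_retract h hdir _ a b hn F'' (F' ⊞ F'')
      biprod.inr biprod.snd biprod.inr_snd hs
    exact ⟨⟨G₁, h₁, h₁z, h₁e⟩, ⟨G₂, h₂, h₂z, h₂e⟩⟩

end Groth.Agent.S5622
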