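import Groth.Statements.S5623
import Mathlib.CategoryTheory.Abelian.Refinements

set_option autoImplicit false
universe v u
open CategoryTheory CategoryTheory.Limits
open PCoh

namespace Groth.Agent.S5623

/-- Punctual site: let C be an abelian category and C₀ a strictly full additive subcategory,
quasi-liftable in C. For an exact sequence 0 → F → G → H with G of C₀-finite type and H precoherent
relative to C₀ (every morphism from a C₀-object into H has kernel of C₀-finite type), F is of
C₀-finite type. -/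
theorem result {C : Type u} [Category.{v} C] [Abelian C]
    (P : ObjectProperty C) [P.IsClosedUnderIsomorphisms] [P.ContainsZero] (hsum : ∀ X Y : C, P X → P Y → P (X ⨯ Y))
    (hql : PCoh.IsQuasiLiftable P)
    (S : ShortComplex C) (hS : S.Exact) (hf : Mono S.f)
    (hG : PCoh.IsOfFiniteType P S.X₂) (hH : (∀ (E : C) (u : E ⟶ S.X₃), P E → PCoh.IsOfFiniteType P (kernel u))) :
    PCoh.IsOfFiniteType P S.X₁ := by
  haveI := hf
  obtain ⟨E, π, hE, hπ⟩ := hG
  obtain ⟨K, ρ, hK, hρ⟩ := hH E (π ≫ S.g) hE
  let φ : kernel (π ≫ S.g) ⟶ S.X₁ := hS.lift (kernel.ι (π ≫ S.g) ≫ π) (by simp)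
  have hφ : φ ≫ S.f = kernel.ι (π ≫ S.g) ≫ π := hS.lift_f _ _
  haveI : Epi φ := by
    rw [epi_iff_surjective_up_to_refinements]
    intro A x
    obtain ⟨A', p, hp, y, hy⟩ := surjective_up_to_refinements_of_epi π (x ≫ S.f)
    refine ⟨A', p, hp, kernel.lift _ y ?_, ?_⟩
    · rw [← Category.assoc, ← hy]; simp
    · rw [← cancel_mono S.f, Category.assoc, Category.assoc, hφ, kernel.lift_ι_assoc, hy]
  exact ⟨K, ρ ≫ φ, hK, inferInstance⟩

end Groth.Agent.S5623
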