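import Groth.Statements.S5625
import Groth.Agent.KFlatLib.QCohPull
import Groth.Agent.QCohLib.Push
import Mathlib.CategoryTheory.Adjunction.FullyFaithful
import Mathlib.CategoryTheory.Adjunction.Unique
-- import your own Groth.Agent.* helpers here

set_option autoImplicit false
set_option backward.isDefEq.respectTransparency false
set_option linter.all false
universe u
open CategoryTheory AlgebraicGeometry
open QCohCat

namespace Groth.Agent.S5625

open CategoryTheory CategoryTheory.Limits AlgebraicGeometry TopologicalSpace Opposite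

/-- Let f : X ⟶ Y be a morphism of quasi-compact quasi-separated schemes and Q_X, Q_Y coherators (right
adjoints of the inclusions QCoh ⥤ Mod) on X and Y. Then Q_Y ∘ f_* and f_* ∘ Q_X agree: the two
composite functors Mod(O_X) ⥤ Mod(O_Y) are naturally isomorphic (existence of a natural isomorphism;
the source's isomorphism is the canonical one between two right adjoints of the same functor). -/
theorem result {X Y : Scheme.{u}} [CompactSpace X] [QuasiSeparatedSpace X]
    [CompactSpace Y] [QuasiSeparatedSpace Y] (f : X ⟶ Y)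
    (QX : X.Modules ⥤ QCohCat.QCoh X) (adjX : (QCohCat.isQCoh X).ι ⊣ QX)
    (QY : Y.Modules ⥤ QCohCat.QCoh Y) (adjY : (QCohCat.isQCoh Y).ι ⊣ QY) :
    Nonempty ((QX ⋙ (QCohCat.isQCoh X).ι ⋙ Scheme.Modules.pushforward f) ≅
      (Scheme.Modules.pushforward f ⋙ QY ⋙ (QCohCat.isQCoh Y).ι)) := by
  haveI : QuasiCompact f := quasiCompact_of_compactSpace f
  haveI : QuasiSeparated f := inferInstance
  let PB : QCohCat.QCoh Y ⥤ QCohCat.QCoh X := ObjectProperty.lift _
    ((QCohCat.isQCoh Y).ι ⋙ Scheme.Modules.pullback f) (fun M => @KFlatLib.isQCoh_pullback _ _ f M.obj M.property)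
  let PF : QCohCat.QCoh X ⥤ QCohCat.QCoh Y := ObjectProperty.lift _
    ((QCohCat.isQCoh X).ι ⋙ Scheme.Modules.pushforward f)
    (fun M => @QCohLib.isQCoh_pushforward _ _ f _ _ M.obj M.property)
  let adj : PB ⊣ PF := (Scheme.Modules.pullbackPushforwardAdjunction f).restrictFullyFaithful
    (ObjectProperty.fullyFaithfulι (QCohCat.isQCoh Y)) (ObjectProperty.fullyFaithfulι (QCohCat.isQCoh X))
    (Iso.refl _) (Iso.refl _)
  let a₁ : PB ⋙ (QCohCat.isQCoh X).ι ⊣ QX ⋙ PF := adj.comp adjX
  let a₂ : (QCohCat.isQCoh Y).ι ⋙ Scheme.Modules.pullback f ⊣ Scheme.Modules.pushforward f ⋙ QY :=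
    adjY.comp (Scheme.Modules.pullbackPushforwardAdjunction f)
  exact ⟨Functor.isoWhiskerRight (a₁.rightAdjointUniq a₂) (QCohCat.isQCoh Y).ι⟩

end Groth.Agent.S5625
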