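import Groth.Statements.S5626
import Groth.Agent.KFlatLib.FPFlatFree

set_option autoImplicit false
universe u
open CategoryTheory CategoryTheory.Limits AlgebraicGeometry
open FlatMod

namespace Groth.Agent.S5626

/-- For the Zariski topos of a scheme (a special case of both hypotheses (i) and (ii) there): on a
scheme X, a direct summand of a finite free O_X-module is finite locally free. Here M is a direct
summand of O_X^n in the sense that M ⊞ N ≅ O_X^n for some module N. -/
theorem result {X : Scheme.{u}} (M N : X.Modules) [HasBinaryBiproduct M N] (n : ℕ)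
    (e : M ⊞ N ≅ FlatMod.freeMod X n) :
    FlatMod.IsFinLocFree M := by
  let π : FlatMod.freeMod X n ⟶ M := e.inv ≫ Limits.biprod.fst
  let ι : M ⟶ FlatMod.freeMod X n := Limits.biprod.inl ≫ e.hom
  have hιπ : ι ≫ π = 𝟙 M := by simp [ι, π]
  let g : FlatMod.freeMod X n ⟶ FlatMod.freeMod X n := 𝟙 _ - π ≫ ι
  have w : g ≫ π = 0 := by simp [g, Preadditive.sub_comp, hιπ]
  have hc : Limits.IsColimit (Limits.CokernelCofork.ofπ π w) := by
    refine Limits.CokernelCofork.IsColimit.ofπ _ w (fun t _ => ι ≫ t) (fun t ht => ?_) (fun t ht m hm => ?_)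
    · simp only [g, Preadditive.sub_comp, Category.id_comp, sub_eq_zero, Category.assoc] at ht
      exact ht.symm
    · rw [← hm, ← Category.assoc, hιπ, Category.id_comp]
  have hflat : FlatMod.IsFlat M := fun x => by
    let F := DerSch.stalkFunctor X x
    have : Module.Flat (X.presheaf.stalk x) (F.obj (FlatMod.freeMod X n)) :=
      Module.Flat.of_linearEquiv (KFlatLib.stalkFreeModIso X x n).toLinearEquiv
    have h1 : Module.Flat (X.presheaf.stalk x) (F.obj M) :=
      Module.Flat.of_retract (M := F.obj (FlatMod.freeMod X n)) (F.map ι).hom (F.map π).hom (by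
        rw [← ModuleCat.hom_comp, ← F.map_comp, hιπ, F.map_id]; rfl)
    exact h1
  exact KFlatLib.isFinLocFree_of_freeNear (KFlatLib.freeNear_of_flat hflat g π w hc)

end Groth.Agent.S5626
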