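import Groth.Statements.S5630
import Groth.Agent.ProjNatLib.AmpPush
import Groth.Agent.RelFlatLib.Absolute
import Groth.Agent.KFlatLib.TorAmp

set_option autoImplicit false
set_option backward.isDefEq.respectTransparency false
set_option backward.isDefEq.respectTransparency.types false
set_option maxHeartbeats 1000000
universe u
open CategoryTheory CategoryTheory.Limits AlgebraicGeometry
attribute [local instance] HasDerivedCategory.standard
open KSix

namespace Groth.Agent.S5630

/-- Over the base S = Y and for f flat: let f : X ⟶ Y be flat, quasi-compact and quasi-separated with Y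
quasi-compact, and let N be an integer such that R^i f_* F = 0 for all i > N and all quasi-coherent
O_X-modules F. If E ∈ D^b(O_X) has quasi-coherent cohomology and flat amplitude in [a, b] relative
to Y (represented by a complex of Y-flat modules placed in [a, b]), then Rf_* E has tor amplitude in
[a, b + N] on Y. (The source allows any S-morphism f and tor amplitude relative to S; the relative
notion used here is the flat-representative one, adequate for flat f.) -/
theorem result {X Y : Scheme.{u}} (f : X ⟶ Y) [Flat f] [QuasiCompact f] [QuasiSeparated f]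
    [CompactSpace Y] [DCoh.HasRpush f] (N : ℕ)
    (hN : ∀ (F : X.Modules), QCohCat.isQCoh X F →
      ∀ i : ℤ, (N : ℤ) < i → IsZero (DCoh.HD ((DCoh.Rpush f).obj (DCoh.inD X F)) i))
    (E : DCoh.D X) (hqc : DCoh.IsQCohD E) (c d : ℤ) [E.IsGE c] [E.IsLE d]
    (a b : ℤ) (hE : DCoh.HasRelFlatAmplitudeIn f a b E) :
    DCoh.HasTorAmplitudeIn a (b + N) ((DCoh.Rpush f).obj E) := by
  obtain ⟨F, hF, hfl, ⟨eF⟩⟩ := hE
  have hamp : DerSch.HasTorAmplitude (f ≫ 𝟙 Y) a b F := by
    rw [Category.comp_id]
    exact RelFlatLib.amp_of_relFlatAmp f ⟨F, hF, hfl, ⟨Iso.refl _⟩⟩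
  refine KFlatLib.torAmplitude_of_flatAmplitude ((RelFlatLib.flatAmp_iff_ampD _ _ _).2 fun y =>
    RelFlatLib.ampD_of_iso (𝟙 Y) ((DCoh.Rpush f).mapIso eF) ?_)
  exact ProjNatLib.amp_rpush f (𝟙 Y) N (fun M hM i hi => hN M hM i hi) F
    (KFlatLib.isQCohD_iso eF.symm hqc) hamp y

end Groth.Agent.S5630
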