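import Groth.Statements.S5631
import Groth.Agent.RelAmpBCLib.Main
import Groth.Agent.RelFlatLib.Basic

set_option autoImplicit false
set_option backward.isDefEq.respectTransparency false
set_option backward.isDefEq.respectTransparency.types false
set_option maxHeartbeats 1000000
universe u
open CategoryTheory CategoryTheory.Limits AlgebraicGeometry
attribute [local instance] HasDerivedCategory.standard
open KSix

namespace Groth.Agent.S5631

/-- For f flat (so that X and Y' are tor-independent over Y): let f : X ⟶ Y be flat, h : Y' ⟶ Y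
arbitrary, X' = X ×_Y Y' with projections g : X' ⟶ X and f' : X' ⟶ Y', and E ∈ D⁻(O_X). If E has
flat amplitude in [a, b] relative to f (represented by a complex of Y-flat modules placed in [a, b])
then Lg^* E has flat amplitude in [a, b] relative to f'. (The source assumes only tor-independence
of X and Y' over Y; the relative notion used here is the flat-representative one, adequate for flat
f and f'.) -/
theorem result {X Y Y' : Scheme.{u}} (f : X ⟶ Y) [Flat f] (h : Y' ⟶ Y)
    [DCoh.HasLpull (pullback.fst f h)] (E : DCoh.D X) (d : ℤ) [E.IsLE d] (a b : ℤ)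
    (hE : DCoh.HasRelFlatAmplitudeIn f a b E) :
    DCoh.HasRelFlatAmplitudeIn (pullback.snd f h) a b ((DCoh.Lpull (pullback.fst f h)).obj E) := by
  obtain ⟨F, hF, hfl, ⟨eF⟩⟩ := hE
  have hamp : DerSch.HasTorAmplitude f a b F :=
    RelFlatLib.amp_of_relFlatAmp f ⟨F, hF, hfl, ⟨Iso.refl _⟩⟩
  let K := (DCoh.Lpull (pullback.fst f h)).obj E
  let G := DerivedCategory.Q.objPreimage K
  let eG : DCoh.toD _ G ≅ K := DerivedCategory.Q.objObjPreimageIso K
  have h1 : DerSch.HasTorAmplitude (pullback.snd f h) a b G :=
    RelAmpBCLib.hasTorAmplitudeD_lpull (IsPullback.of_hasPullback f h) F a b hamp G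
      ⟨eG ≪≫ (DCoh.Lpull (pullback.fst f h)).mapIso eF.symm⟩
  haveI : Flat (pullback.snd f h) := MorphismProperty.pullback_snd _ _ inferInstance
  obtain ⟨C, hC, hCf, ⟨eC⟩⟩ := (RelFlatLib.relFlatAmp_iff (pullback.snd f h)).2 h1
  exact ⟨C, hC, hCf, ⟨eC ≪≫ eG⟩⟩

end Groth.Agent.S5631
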