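import Groth.Statements.S5632
import Groth.Agent.BddNumLib.Family
import Groth.Agent.BertiniIrrLib.Index

set_option autoImplicit false
universe u
open CategoryTheory CategoryTheory.Limits AlgebraicGeometry
open Pic13

namespace Groth.Agent.S5632

/-- Let k be an algebraically closed field, X ⊆ P^n_k an integral closed subscheme of dimension r = s +
1 ≥ 1, with O_X(1) and O_X(-1) the restrictions of O(1) and O(-1). Let L be an invertible O_X-module
with inverse L' (L ⊗ L' ≅ O_X) whose degree (c₁(L)·c₁(O_X(1))^{r-1}) is ≤ 0 and with H^0(X, L) ≠ 0.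
Then L ≅ O_X (so that its degree is 0 and h^0(L) = 1). Intersection numbers are those of FGA.intNum,
which takes the inverse modules L', O_X(-1) as arguments. -/
theorem result (k : Type u) [Field k] [IsAlgClosed k] (n : ℕ) (X : Scheme.{u}) [X.Over (Spec (CommRingCat.of k))]
    (i : X ⟶ CohB1.ProjSpace n k) [IsClosedImmersion i] (hi : i ≫ CohB1.ProjSpace.toSpec n k = X ↘ Spec (CommRingCat.of k))
    [IsIntegral X] (s : ℕ) (hdim : topologicalKrullDim X = (s + 1 : ℕ))
    (L L' : X.Modules) (hL : PicF.IsInvertible L) (hLL' : Nonempty (CohB1.tensorMod L L' ≅ Coh.structureModule X))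
    (hdeg : FGA.intNum k X (s + 1)
      (Matrix.vecCons L' (fun _ : Fin s => (Scheme.Modules.pullback i).obj (Twist.twistProjSpace n k (-1))))
      (Coh.structureModule X) ≤ 0)
    (hsec : Nontrivial (Coh.HH X L 0)) :
    Nonempty (L ≅ Coh.structureModule X) := by
  haveI := MumfordLib.isProper_projSpace (n := n) k
  haveI : IsProper (X ↘ Spec (CommRingCat.of k)) := hi ▸ (inferInstance : IsProper (i ≫ CohB1.ProjSpace n k ↘ Spec (CommRingCat.of k)))
  haveI := CurvLib.isNoetherian k (X := X)
  let H := BddNumLib.twI i 1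
  let H' := BddNumLib.twI i (-1)
  have hH : CohB1.IsAmple H := NumTrivLib.isAmple_H i
  have hH' : PicF.IsInvertible H' := BddNumLib.twI_inv i (-1)
  obtain ⟨eH⟩ : Nonempty (CohB1.tensorMod H H' ≅ Coh.structureModule X) := by
    obtain ⟨a⟩ := BddNumLib.twI_add i 1 (-1)
    obtain ⟨b⟩ := BddNumLib.twI_zero i
    exact ⟨a ≪≫ eqToIso (by rw [add_neg_cancel]) ≪≫ b⟩
  obtain ⟨eL⟩ := hLL'
  have hL' : PicF.IsInvertible L' := IntMultLib.isInvertible_of_inverse hL eL
  have hO := DevissLib.isCoh_structureModule X
  have hdO : topologicalKrullDim (CohB1.support (Coh.structureModule X)) ≤ ((s + 1 : ℕ) : WithBot ℕ∞) :=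
    (topologicalKrullDim_subspace_le _ _).trans hdim.le
  have hinv : ∀ A ∈ List.replicate s H, PicF.IsInvertible A := fun A hA => by
    rw [List.eq_of_mem_replicate hA]; exact hH.1
  have n1 : IntFunLib.N k (L' :: List.replicate s H') (Coh.structureModule X) =
      (-1) ^ (s + 1) * IntFunLib.N k (L :: List.replicate s H) (Coh.structureModule X) := by
    rw [IntFunLib.N_perm (show (L' :: List.replicate s H').Perm (List.replicate s H' ++ [L']) from
        (List.perm_append_singleton _ _).symm),
      BertiniIrrLib.N_inv_replicate hH.1 hH' eH hO s [L'] (by simpa using hL')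
        (hdO.trans (le_of_eq (congrArg (fun n : ℕ => (n : WithBot ℕ∞)) (by simp <;> omega)))),
      IntFunLib.N_perm (List.perm_append_singleton L' (List.replicate s H)),
      HodgeIdxLib.N_inv_head hL hL' eL hinv hO
        (hdO.trans (le_of_eq (congrArg (fun n : ℕ => (n : WithBot ℕ∞)) (by simp <;> omega))))]
    ring
  have f1 := IntFunLib.N_ofFn (k := k) hdim.le (Matrix.vecCons L' (fun _ : Fin s => H')) (Coh.structureModule X)
  have l1 : List.ofFn (Matrix.vecCons L' (fun _ : Fin s => H')) = L' :: List.replicate s H' := by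
    rw [List.ofFn_succ, Matrix.cons_val_zero]; simp only [Matrix.cons_val_succ, List.ofFn_const]
  rw [l1, n1] at f1
  have hdeg' : IntFunLib.N k (L :: List.replicate s H) (Coh.structureModule X) ≤ 0 :=
    le_of_eq_of_le (mul_left_cancel₀ (pow_ne_zero _ (by norm_num : (-1 : ℤ) ≠ 0)) f1) hdeg
  obtain ⟨φ, hφ⟩ := CurvLib.exists_hom_ne_zero (L := L) hsec
  let σ := φ.app ⊤ (1 : Γ(X, ⊤))
  have hφσ : φ = QCohLib.unitHom L σ := AmpleThLib.unitHom_eq φ
  by_cases hall : ∀ x, x ∈ TwistLib.genSet hL σ
  · haveI : IsIso φ := by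
      rw [hφσ]
      exact AmpleLib.isIso_unitHom σ (TwistLib.genOn_of_genAt fun x _ => hall x)
    exact ⟨(asIso φ).symm⟩
  exfalso
  push Not at hall
  obtain ⟨x, hx⟩ := hall
  obtain ⟨hC, hCd⟩ := HodgeIdxLib.dim_cokernel_le k hdim hL hφ
  have hsup : ∀ y, y ∉ TwistLib.genSet hL σ → y ∈ CohB1.support (cokernel φ) := fun y hy => by
    by_contra h
    refine hy (IntMultLib.genAt_of_unitHom_surjective hL σ ?_)
    have hS : (ShortComplex.mk φ (cokernel.π φ) (cokernel.condition φ)).Exact := ShortComplex.exact_cokernel φ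
    have hx := hS.map_of_epi_of_preservesCokernel (DevissLib.St y)
      (show Epi (cokernel.π φ) from inferInstance) inferInstance
    haveI : Epi ((DevissLib.St y).map φ) :=
      hx.epi_f (((DevissLib.notMem_support_iff (cokernel φ) y).mp h).eq_of_tgt _ _)
    rw [← hφσ]
    exact (ModuleCat.epi_iff_surjective _).mp inferInstance
  have hgen : genericPoint X ∈ TwistLib.genSet hL σ := by
    by_contra h
    exact CurvLib.generic_notMem_support_cokernel CurvLib.isInvertible_structureModule hL hφ (hsup _ h)
  obtain ⟨y, hy, -, hyd⟩ := BertiniIrrLib.exists_dim_point k hdim hL σ hx hgen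
  have hpos := IntFunLib.N_pos (k := k) hinv hC (by rw [List.length_replicate]; exact hCd) (hsup y hy)
    (by rw [List.length_replicate]; exact hyd) fun ξ _ hξ => by
      rw [List.length_replicate] at hξ
      exact IntFunLib.N_ample_pos hH hξ
  have h2 := IntFunLib.N_add (k := k) hinv (HodgeIdxLib.cokSeq_shortExact hL hφ) hO
    (CurvLib.isCoh_of_isInvertible hL) hC
  change IntFunLib.N k (List.replicate s H) L = IntFunLib.N k (List.replicate s H) (Coh.structureModule X) +
    IntFunLib.N k (List.replicate s H) (cokernel φ) at h2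
  rw [HodgeIdxLib.N_unit] at hdeg'
  omega

end Groth.Agent.S5632
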