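import Groth.Statements.S5634
import Groth.Agent.RadBoundLib.Radical
-- import your own Groth.Agent.* helpers here

set_option autoImplicit false
universe u
open CAlg

namespace Groth.Agent.S5634

/-- For every N there is a function R_N such that, for every field k₀, every m and every ideal I of
k₀[T_1, …, T_N] generated by polynomials of total degree ≤ m, the radical of I is generated by
polynomials of total degree ≤ R_N(m). (The published statement gives R_N as a polynomial in m; this
row asserts only a bound depending on N and m, uniform in the field and the ideal.) -/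
theorem result (N : ℕ) :
    ∃ R : ℕ → ℕ, ∀ (k₀ : Type u) [Field k₀] (m : ℕ) (S : Set (MvPolynomial (Fin N) k₀)),
      (∀ p ∈ S, p.totalDegree ≤ m) →
        ∃ S' : Set (MvPolynomial (Fin N) k₀), (∀ q ∈ S', q.totalDegree ≤ R m) ∧ Ideal.span S' = (Ideal.span S).radical := by
  classical
  choose R hR using fun M m => RadBoundLib.radical_bound.{u} N M m
  refine ⟨fun m => (Finset.range (Fintype.card (RadBoundLib.Exp N m) + 1)).sup fun M => R M m,
    fun k _ m S hS => ?_⟩
  obtain ⟨M, hM, F, hF, hspan⟩ := RadBoundLib.exists_bounded_generators N m k S hS
  refine ⟨{g | g ∈ (Ideal.span S).radical ∧ g.totalDegree ≤ R M m}, fun q hq => hq.2.trans ?_,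
    le_antisymm (Ideal.span_le.mpr fun g hg => hg.1) ?_⟩
  · exact Finset.le_sup (f := fun M => R M m) (Finset.mem_range.mpr (Nat.lt_succ_of_le hM))
  · have := hR M m k F hF
    rwa [hspan] at this

end Groth.Agent.S5634
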