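import Groth.Statements.S5635
import Groth.Agent.RootAlgzLib.Main

set_option autoImplicit false
universe u
open CategoryTheory CategoryTheory.Limits AlgebraicGeometry
open Pic13

namespace Groth.Agent.S5635

/-- Let k be an algebraically closed field, X a proper k-scheme and n > 0 an integer invertible in k.
Then the group of isomorphism classes of invertible O_X-modules algebraically equivalent to zero is
divisible by n: for every invertible L algebraically equivalent to zero there is an invertible M
algebraically equivalent to zero with M^{⊗ n} ≅ L. -/
theorem result (k : Type u) [Field k] [IsAlgClosed k] (X : Scheme.{u}) [X.Over (Spec (CommRingCat.of k))]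
    [IsProper (X ↘ Spec (CommRingCat.of k))] (n : ℕ) (hn : 0 < n) (hnk : (n : k) ≠ 0)
    (L : X.Modules) (hL : PicF.IsInvertible L) (halg : Pic13.IsAlgEquivZero k X L) :
    ∃ M : X.Modules, PicF.IsInvertible M ∧ Pic13.IsAlgEquivZero k X M ∧ Nonempty (CohB1.tensorPow M n ≅ L) := by
  exact RootAlgzLib.exists_root_algEquiv hnk halg

end Groth.Agent.S5635
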