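import Groth.Statements.S5642
import Groth.Agent.CohGenLib.DimLevel
-- import your own Groth.Agent.* helpers here

set_option autoImplicit false
universe u
open CategoryTheory CategoryTheory.Limits AlgebraicGeometry
open Classical
open SGA6

namespace Groth.Agent.S5642

/-- Let X be a Noetherian scheme, K the Grothendieck group of coherent O_X-modules and Filt_m ⊆ K the
subgroup generated by the classes of coherent modules whose support has dimension ≤ m. Let F be
coherent with dim Supp(F) ≤ n. Then for the points x of X whose closure Z(x) has dimension n the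
stalk F_x has finite length, nonzero for only finitely many such x, and [F] ≡ Σ_x length(F_x)
[O_{Z(x)}] modulo Filt_{n-1}, where O_{Z(x)} is the structure sheaf of the reduced closed subscheme
Z(x) viewed as an O_X-module. -/
theorem result (X : Scheme.{u}) [IsNoetherian X] (n : ℕ) (F : X.Modules) (hF : Coh.IsCoh F)
    (hsupp : topologicalKrullDim ↥(CohB1.support F) ≤ n) :
    KZero.clSub (fun M : X.Modules => Coh.IsCoh M) F -
        (finsum fun x : ↥X => if topologicalKrullDim ↥(closure ({x} : Set ↥X)) = n then
          (Module.length (X.presheaf.stalk x) (F.presheaf.stalk x)).toNat • KZero.clSub (fun M : X.Modules => Coh.IsCoh M) (Cyc.closureStructureSheaf x) else 0) ∈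
      AddSubgroup.closure {c : KZero.K0sub (fun M : X.Modules => Coh.IsCoh M) |
        ∃ G : X.Modules, Coh.IsCoh G ∧ topologicalKrullDim ↥(CohB1.support G) < n ∧ c = KZero.clSub (fun M : X.Modules => Coh.IsCoh M) G} := by
  have hP : CycK0Lib.P (CohGenLib.levelLe X n) F := (CohGenLib.P_le_iff hF n).2 hsupp
  have hfin := CohGenLib.finite_top (CohGenLib.levels (X := X) n) hP
  have hts : ∀ x : ↥X, x ∈ hfin.toFinset ↔ x ∈ CohB1.support F ∧ topologicalKrullDim ↥(closure ({x} : Set ↥X)) = n := fun x => by
    rw [Set.Finite.mem_toFinset]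
    show x ∈ CohB1.support F ∧ ¬ CohGenLib.cdim x < n ↔ _
    exact and_congr_right fun hx => ⟨fun h => le_antisymm (hP.supp hx) (not_lt.1 h), fun h => by simp [CohGenLib.cdim, h]⟩
  have key := CohGenLib.sub_sum_mem (CohGenLib.levels (X := X) n) (CohGenLib.levelLe_spec n) hP hfin.toFinset
    (fun x hx => by
      rw [Set.Finite.mem_toFinset] at hx
      exact ⟨hx.2, hP.supp hx.1⟩)
    (fun x hx hx' => hfin.mem_toFinset.2 ⟨hx, hx'⟩)
  rw [CohGenLib.lower_lt] at key
  rw [finsum_eq_sum_of_support_subset _ (s := hfin.toFinset) fun x hx => ?_]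
  · rw [Finset.sum_congr rfl fun x hx => if_pos ((hts x).1 hx).2]
    exact key
  · rw [Function.mem_support] at hx
    split_ifs at hx with h
    · refine Finset.mem_coe.2 ((hts x).2 ⟨?_, h⟩)
      intro hsub
      haveI : Subsingleton (F.presheaf.stalk x) := hsub
      exact hx (by rw [Module.length_eq_zero]; simp)
    · exact absurd rfl hx

end Groth.Agent.S5642
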