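import Groth.Statements.S5643
import Groth.Agent.CohGenLib.DimLevel
-- import your own Groth.Agent.* helpers here

set_option autoImplicit false
universe u
open CategoryTheory CategoryTheory.Limits AlgebraicGeometry
open Classical
open SGA6

namespace Groth.Agent.S5643

/-- Let X be a Noetherian scheme and K the Grothendieck group of coherent O_X-modules. For every n, the
subgroup of K generated by the classes of coherent modules whose support has dimension ≤ n coincides
with the subgroup generated by the classes [O_Z] of the structure sheaves (as O_X-modules) of the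
integral closed subschemes Z ⊆ X of dimension ≤ n, Z running over the reduced closures of points of
X. -/
theorem result (X : Scheme.{u}) [IsNoetherian X] (n : ℕ) :
    AddSubgroup.closure {c : KZero.K0sub (fun M : X.Modules => Coh.IsCoh M) |
        ∃ G : X.Modules, Coh.IsCoh G ∧ topologicalKrullDim ↥(CohB1.support G) ≤ n ∧ c = KZero.clSub (fun M : X.Modules => Coh.IsCoh M) G} =
      AddSubgroup.closure {c : KZero.K0sub (fun M : X.Modules => Coh.IsCoh M) |
        ∃ x : ↥X, topologicalKrullDim ↥(closure ({x} : Set ↥X)) ≤ n ∧ c = KZero.clSub (fun M : X.Modules => Coh.IsCoh M) (Cyc.closureStructureSheaf x)} := by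
  refine le_antisymm ?_ ((AddSubgroup.closure_le _).2 ?_)
  · refine (AddSubgroup.closure_le _).2 ?_
    rintro _ ⟨G, hG, hd, rfl⟩
    suffices key : ∀ m : ℕ, m ≤ n → CohGenLib.lower (CohGenLib.levelLe X m) ≤
        AddSubgroup.closure {c : KZero.K0sub (fun M : X.Modules => Coh.IsCoh M) |
          ∃ x : ↥X, topologicalKrullDim ↥(closure ({x} : Set ↥X)) ≤ n ∧
            c = KZero.clSub (fun M : X.Modules => Coh.IsCoh M) (Cyc.closureStructureSheaf x)} from
      key n le_rfl (CohGenLib.cl_mem_lower ((CohGenLib.P_le_iff hG n).2 hd))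
    intro m hm
    induction m using Nat.strong_induction_on with
    | _ m ih =>
    refine (AddSubgroup.closure_le _).2 ?_
    rintro _ ⟨F, hF, rfl⟩
    have hfin := CohGenLib.finite_top (CohGenLib.levels (X := X) m) hF
    have h1 := CohGenLib.sub_sum_mem (CohGenLib.levels (X := X) m) (CohGenLib.levelLe_spec m) hF hfin.toFinset
      (fun x hx => by
        rw [Set.Finite.mem_toFinset] at hx
        exact ⟨hx.2, hF.supp hx.1⟩)
      (fun x hx hx' => hfin.mem_toFinset.2 ⟨hx, hx'⟩)
    have hlow : CohGenLib.lower (CohGenLib.levelLt X m) ≤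
        AddSubgroup.closure {c : KZero.K0sub (fun M : X.Modules => Coh.IsCoh M) |
          ∃ x : ↥X, topologicalKrullDim ↥(closure ({x} : Set ↥X)) ≤ n ∧
            c = KZero.clSub (fun M : X.Modules => Coh.IsCoh M) (Cyc.closureStructureSheaf x)} := by
      refine (AddSubgroup.closure_le _).2 ?_
      rintro _ ⟨H, hH, rfl⟩
      rcases Nat.eq_zero_or_pos m with rfl | hpos
      · have hz : CohB1.support H = ∅ := Set.eq_empty_iff_forall_notMem.2 fun x hx =>
          absurd ((CohGenLib.zero_le_cdim x).trans_lt (hH.supp hx)) (by simp)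
        have h0 : CycK0Lib.AddOn (fun _ : X => True) (CohGenLib.cl (X := X)) := CohGenLib.addOn_cl _
        rw [SetLike.mem_coe, show CohGenLib.cl H = 0 from h0.zero (DevissLib.isZero_of_support_empty hz)]
        exact zero_mem _
      · obtain ⟨k, rfl⟩ := Nat.exists_eq_add_of_le' hpos
        refine ih k (Nat.lt_succ_self k) ((Nat.le_succ k).trans hm) (CohGenLib.cl_mem_lower (hH.mono' fun x hx => ?_))
        show CohGenLib.cdim x ≤ (k : WithBot ℕ∞)
        have hx' : CohGenLib.cdim x < ((k + 1 : ℕ) : WithBot ℕ∞) := hx
        generalize CohGenLib.cdim x = d at hx' ⊢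
        induction d with
        | bot => exact bot_le
        | coe d =>
          induction d with
          | top => simp at hx'
          | coe d => norm_cast at hx' ⊢; exact_mod_cast Nat.le_of_lt_succ hx'
    have h3 : ∑ x ∈ hfin.toFinset, (Module.length (X.presheaf.stalk x) (F.presheaf.stalk x)).toNat •
        CohGenLib.cl (Cyc.closureStructureSheaf x) ∈
        AddSubgroup.closure {c : KZero.K0sub (fun M : X.Modules => Coh.IsCoh M) |
          ∃ x : ↥X, topologicalKrullDim ↥(closure ({x} : Set ↥X)) ≤ n ∧
            c = KZero.clSub (fun M : X.Modules => Coh.IsCoh M) (Cyc.closureStructureSheaf x)} := by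
      refine sum_mem fun x hx => nsmul_mem ?_ _
      exact AddSubgroup.subset_closure
        ⟨x, (hF.supp ((hfin.mem_toFinset).1 hx).1).trans (by exact_mod_cast hm), rfl⟩
    have h4 := add_mem (hlow h1) h3
    rwa [sub_add_cancel] at h4
  · rintro _ ⟨x, hx, rfl⟩
    have hP := CohGenLib.closure_mem (D := CohGenLib.levelLe X n) (CohGenLib.levelLe_spec n) (ζ := x) hx
    exact AddSubgroup.subset_closure ⟨_, hP.coh, (CohGenLib.P_le_iff hP.coh n).1 hP, rfl⟩

end Groth.Agent.S5643
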