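import Groth.Statements.S5644
import Groth.Agent.S11753
import Groth.Agent.HilbPolyLib.IntNum
import Groth.Agent.PnHNLib.Main
import Groth.Agent.AmpleDevLib.Pull
import Groth.Agent.IntMultLib.Positive
import Groth.Agent.CohAmpLib.Tools
import Groth.Agent.MumfordLib.Induct
import Groth.Agent.CurvLib.Line
-- import your own Groth.Agent.* helpers here

set_option autoImplicit false
set_option backward.isDefEq.respectTransparency false
set_option backward.isDefEq.respectTransparency.types false
set_option maxHeartbeats 1000000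
universe u
open CategoryTheory CategoryTheory.Limits AlgebraicGeometry
open Pic13

namespace Groth.Agent.S5644
open CategoryTheory.Limits
open HilbPolyLib in
theorem basis_unique : ∀ (r N : ℕ) (c : ℕ → ℤ),
    (∀ m, N ≤ m → ∑ i ∈ Finset.range r, c i * (((m + i - 1).choose i : ℕ) : ℤ) = 0) → ∀ i < r, c i = 0
  | 0, _, _, _, i, hi => absurd hi (Nat.not_lt_zero i)
  | r + 1, N, c, h, i, hi => by
    have hsucc : ∀ i < r, c (i + 1) = 0 := basis_unique r (N + 1) (fun i => c (i + 1)) fun m hm => by
      obtain ⟨m, rfl⟩ : ∃ m', m = m' + 1 := ⟨m - 1, by omega⟩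
      have h1 := h (m + 1) (by omega)
      have h0 := h m (by omega)
      rw [Finset.sum_range_succ'] at h1 h0
      have h2 : ∀ x : ℕ, (((m + 1 + (x + 1) - 1).choose (x + 1) : ℕ) : ℤ) =
          ((m + 1 + x - 1).choose x : ℕ) + ((m + (x + 1) - 1).choose (x + 1) : ℕ) := fun x => by
        rw [show m + 1 + (x + 1) - 1 = (m + x) + 1 by omega, show m + 1 + x - 1 = m + x by omega,
          show m + (x + 1) - 1 = m + x by omega, Nat.choose_succ_succ]
        push_cast
        ring
      simp only [h2, mul_add, Finset.sum_add_distrib, Nat.choose_zero_right] at h1 h0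
      linarith
    rcases i with _ | i
    · have h0 := h N le_rfl
      rw [Finset.sum_range_succ', Finset.sum_eq_zero (fun x hx => by
        rw [hsucc x (Finset.mem_range.1 hx), zero_mul])] at h0
      simpa using h0
    · exact hsucc i (by omega)

theorem hockey (m : ℕ) : ∀ j : ℕ, ((m + j).choose j : ℤ) = ∑ i ∈ Finset.range (j + 1), ((m + i - 1).choose i : ℤ)
  | 0 => by simp
  | j + 1 => by
    rw [Finset.sum_range_succ _ (j + 1), ← hockey m j, show m + (j + 1) - 1 = m + j by omega,
      show m + (j + 1) = (m + j) + 1 by omega, Nat.choose_succ_succ]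
    push_cast
    ring

theorem top_two (s : ℕ) (a : Fin (s + 2) → ℤ) (J : ℕ → ℤ)
    (h : ∀ m : ℕ, ∑ i ∈ Finset.range (s + 2), ((m + i - 1).choose i : ℤ) * J i =
      ∑ j : Fin (s + 2), a j * ((m + j).choose j : ℤ)) :
    a (Fin.last (s + 1)) = J (s + 1) ∧ J s = a (Fin.castSucc (Fin.last s)) + a (Fin.last (s + 1)) := by
  let A : ℕ → ℤ := fun j => if hj : j < s + 2 then a ⟨j, hj⟩ else 0
  let b : ℕ → ℤ := fun i => ∑ j ∈ Finset.range (s + 2), if i ≤ j then A j else 0
  have hb : ∀ i < s + 2, J i - b i = 0 := by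
    refine basis_unique (s + 2) 0 (fun i => J i - b i) fun m _ => ?_
    simp only [sub_mul, Finset.sum_sub_distrib]
    have h1 : ∑ j : Fin (s + 2), a j * ((m + j).choose j : ℤ) =
        ∑ j ∈ Finset.range (s + 2), A j * ((m + j).choose j : ℤ) := by
      rw [← Fin.sum_univ_eq_sum_range (fun j => A j * ((m + j).choose j : ℤ))]
      exact Finset.sum_congr rfl fun j _ => by simp [A, j.isLt]
    have h2 : ∑ i ∈ Finset.range (s + 2), b i * ((m + i - 1).choose i : ℤ) =
        ∑ j ∈ Finset.range (s + 2), A j * ((m + j).choose j : ℤ) := by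
      simp only [b, Finset.sum_mul]
      rw [Finset.sum_comm]
      refine Finset.sum_congr rfl fun j hj => ?_
      rw [hockey, Finset.mul_sum]
      simp only [ite_mul, zero_mul]
      rw [← Finset.sum_filter]
      refine Finset.sum_congr (Finset.ext fun i => ?_) fun _ _ => rfl
      simp only [Finset.mem_filter, Finset.mem_range] at hj ⊢
      omega
    rw [sub_eq_zero, h2, ← h1, ← h m]
    exact Finset.sum_congr rfl fun i _ => mul_comm _ _
  have h1 := hb (s + 1) (by omega)
  have h0 := hb s (by omega)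
  have e1 : b (s + 1) = A (s + 1) := by
    simp only [b]
    rw [Finset.sum_eq_single (s + 1) (fun j hj hne => if_neg (by simp at hj; omega)) (fun h => absurd (Finset.self_mem_range_succ _) h),
      if_pos le_rfl]
  have e0 : b s = A s + A (s + 1) := by
    simp only [b]
    rw [Finset.sum_range_succ, Finset.sum_range_succ, if_pos le_rfl, if_pos (Nat.le_succ s),
      Finset.sum_eq_zero (fun j hj => if_neg (by simp at hj; omega)), zero_add]
  have hA1 : A (s + 1) = a (Fin.last (s + 1)) := dif_pos (by omega)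
  have hA0 : A s = a (Fin.castSucc (Fin.last s)) := dif_pos (by omega)
  exact ⟨by linarith, by linarith⟩


/-- Let k be an algebraically closed field, X ⊆ P^n_k an integral closed subscheme of dimension r = s +
1, O_X(1) and O_X(-1) the restrictions of O(1) and O(-1), and L an invertible O_X-module with
inverse L'. Write the Hilbert polynomials in the binomial basis, χ(L(m)) = Σ_{j ≤ r} a_j C(m+j, j)
and χ(O_X(m)) = Σ_{j ≤ r} e_j C(m+j, j) for m ≥ 0 (Euler characteristics in degrees ≤ r). Then (i)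
a_r = e_r = (c₁(O_X(1))^r), the degree of X, and (ii) a_{r-1} - e_{r-1} = (c₁(L)·c₁(O_X(1))^{r-1}),
the degree of L. Intersection numbers are those of FGA.intNum, which takes the inverse modules L',
O_X(-1) as arguments. -/
theorem result (k : Type u) [Field k] [IsAlgClosed k] (n : ℕ) (X : Scheme.{u}) [X.Over (Spec (CommRingCat.of k))]
    (i : X ⟶ CohB1.ProjSpace n k) [IsClosedImmersion i] (hi : i ≫ CohB1.ProjSpace.toSpec n k = X ↘ Spec (CommRingCat.of k))
    [IsIntegral X] (s : ℕ) (hdim : topologicalKrullDim X = (s + 1 : ℕ))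
    (L L' : X.Modules) (hL : PicF.IsInvertible L) (hLL' : Nonempty (CohB1.tensorMod L L' ≅ Coh.structureModule X))
    (a e : Fin (s + 2) → ℤ)
    (ha : ∀ m : ℕ, FGA.eulerCharLE k X (Pic13.twistOn k i L m) (s + 1) = ∑ j : Fin (s + 2), a j * ((m + j).choose j : ℤ))
    (he : ∀ m : ℕ, FGA.eulerCharLE k X (Pic13.twistOn k i (Coh.structureModule X) m) (s + 1) =
      ∑ j : Fin (s + 2), e j * ((m + j).choose j : ℤ)) :
    a (Fin.last (s + 1)) = e (Fin.last (s + 1)) ∧
      a (Fin.last (s + 1)) = FGA.intNum k X (s + 1)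
        (fun _ : Fin (s + 1) => (Scheme.Modules.pullback i).obj (Twist.twistProjSpace n k (-1))) (Coh.structureModule X) ∧
      a (Fin.castSucc (Fin.last s)) - e (Fin.castSucc (Fin.last s)) = FGA.intNum k X (s + 1)
        (Matrix.vecCons L' (fun _ : Fin s => (Scheme.Modules.pullback i).obj (Twist.twistProjSpace n k (-1))))
        (Coh.structureModule X) := by
  classical
  haveI := MumfordLib.isProper_projSpace (n := n) k
  haveI : IsProper (CohB1.ProjSpace.toSpec n k) := MumfordLib.isProper_projSpace (n := n) k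
  haveI : IsProper (X ↘ Spec (CommRingCat.of k)) := by rw [← hi]; infer_instance
  let O := Coh.structureModule X
  let P : ℤ → X.Modules := fun d => (Scheme.Modules.pullback i).obj (Twist.twistProjSpace n k d)
  have hP : ∀ d, PicF.IsInvertible (P d) := fun d => AmpleDevLib.isInvertible_pb i (PnHNLib.isInvertible_twist n k d)
  have hcov : ∀ x : Proj (CohB1.polyGrading n k), ∃ g ∈ CohB1.polyGrading n k 1, g ∉ x.asHomogeneousIdeal :=
    fun x => by
      obtain ⟨j, hj⟩ := ProjSecLib.cover (R := k) (n := n) x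
      exact ⟨MvPolynomial.X j, ProjSecLib.X_mem j, hj⟩
  obtain ⟨e0⟩ := PicPnLib.twist_zero n k
  obtain ⟨et⟩ := GrTildeLib.twist_tensor_twist hcov (1 : ℤ) (-1)
  have hPM : Nonempty (CohB1.tensorMod (P 1) (P (-1)) ≅ O) :=
    ⟨(asIso (KFlatLib.pullθ i (Twist.twistProjSpace n k 1) (Twist.twistProjSpace n k (-1)))).symm ≪≫
      (Scheme.Modules.pullback i).mapIso (et ≪≫ eqToIso (by norm_num; rfl) ≪≫ e0) ≪≫ KFlatLib.pullUnitIso i⟩
  have hO : PicF.IsInvertible O :=
    HilbPolyLib.isInvertible_of_iso hPM.some (HilbPolyLib.isInvertible_tensor (hP 1) (hP (-1)))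
  obtain ⟨eLL⟩ := hLL'
  have hL' : PicF.IsInvertible L' := IntMultLib.isInvertible_of_inverse hL eLL
  have hd : topologicalKrullDim X ≤ ((s + 1 : ℕ) : ℕ) := hdim.le
  have hsupp : ∀ F : X.Modules, topologicalKrullDim (CohB1.support F) ≤ ((s + 1 : ℕ) : ℕ) := fun F =>
    (Topology.IsInducing.subtypeVal.topologicalKrullDim_le).trans hd
  let M : X.Modules := P (-1)
  let J : X.Modules → ℕ → ℤ := fun F j => FGA.intNum k X (s + 1) (fun _ : Fin j => M) F
  have key : ∀ (F : X.Modules), PicF.IsInvertible F → ∀ (c : Fin (s + 2) → ℤ),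
      (∀ m : ℕ, FGA.eulerCharLE k X (Pic13.twistOn k i F m) (s + 1) = ∑ j : Fin (s + 2), c j * ((m + j).choose j : ℤ)) →
      c (Fin.last (s + 1)) = J F (s + 1) ∧ J F s = c (Fin.castSucc (Fin.last s)) + c (Fin.last (s + 1)) := by
    intro F hF c hc
    refine top_two s c (J F) fun m => ?_
    rw [← hc m, ← Groth.Agent.S11753.result k X (s + 1) hd (P 1) M (hP 1) hPM F (CurvLib.isCoh_of_isInvertible hF) (s + 1) (hsupp F) m]
    obtain ⟨ep⟩ := PnHNLib.pow_iso n k m
    obtain ⟨eq⟩ := CohAmpLib.nonempty_pullback_tensorPow i (Twist.twistProjSpace n k 1) m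
    rw [HilbPolyLib.eulerCharLE_eq hd, HilbPolyLib.eulerCharLE_eq hd]
    exact CurvLib.euler_congr (HilbPolyLib.swapIso _ _ ≪≫ HilbPolyLib.congrRight F (eq.symm ≪≫ (Scheme.Modules.pullback i).mapIso ep))
  obtain ⟨hL1, hL0⟩ := key L hL a ha
  obtain ⟨hO1, hO0⟩ := key O hO e he
  have hM : ∀ (j : ℕ), ∀ _ : Fin j, PicF.IsInvertible M := fun _ _ => hP (-1)
  have hO' : Coh.IsCoh O := CurvLib.isCoh_of_isInvertible hO
  have hLc : Coh.IsCoh L := CurvLib.isCoh_of_isInvertible hL
  have hz : ∀ (F : X.Modules), Coh.IsCoh F → ∀ (j : ℕ) (N : Fin j → X.Modules), (∀ l, PicF.IsInvertible (N l)) →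
      s + 1 < j → FGA.intNum k X (s + 1) N F = 0 := fun F hF j N hN hj =>
    HilbPolyLib.intNum_eq_zero hd N hN F hF ((hsupp F).trans_lt (by exact_mod_cast hj))
  have hcons : ∀ (j : ℕ) (A : X.Modules) (N : Fin j → X.Modules), PicF.IsInvertible A → (∀ l, PicF.IsInvertible (N l)) →
      ∀ l, PicF.IsInvertible ((Fin.cons A N : Fin (j + 1) → X.Modules) l) := fun j A N hA hN l => by
    induction l using Fin.cases with
    | zero => exact hA
    | succ l => exact hN l
  have eL'L : CohB1.tensorMod L' L ≅ O := HilbPolyLib.swapIso _ _ ≪≫ eLL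
  have inv_top : ∀ (N : Fin (s + 1) → X.Modules), (∀ l, PicF.IsInvertible (N l)) →
      FGA.intNum k X (s + 1) N L = FGA.intNum k X (s + 1) N O := fun N hN => by
    have h := hz L hLc (s + 2) (Fin.cons L' N) (hcons _ L' N hL' hN) (by omega)
    rw [HilbPolyLib.intNum_cons hd, HilbPolyLib.intNum_congr hd N eL'L] at h
    linarith
  have htop : J L (s + 1) = J O (s + 1) := inv_top _ (hM _)
  refine ⟨?_, ?_, ?_⟩
  · rw [hL1, hO1, htop]
  · rw [hL1, htop]
  · have h := inv_top (Fin.cons L' (fun _ : Fin s => M)) (hcons _ _ _ hL' (hM _))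
    rw [HilbPolyLib.intNum_cons hd, HilbPolyLib.intNum_congr hd _ eL'L] at h
    show _ = FGA.intNum k X (s + 1) (Fin.cons L' (fun _ : Fin s => M)) O
    rw [← h]
    simp only [J] at hL0 hO0 hL1 hO1 htop
    linarith


end Groth.Agent.S5644
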