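import Groth.Statements.S5645
import Groth.Agent.PicRepLib.Lft
import Groth.Agent.PicLocDescLib.Pre
import Groth.Agent.BddFamLib.Classes
import Groth.Agent.BddFamLib.Roots
-- import your own Groth.Agent.* helpers here

set_option autoImplicit false
set_option backward.isDefEq.respectTransparency false
set_option backward.isDefEq.respectTransparency.types false
set_option maxHeartbeats 1000000
universe u
open CategoryTheory CategoryTheory.Limits AlgebraicGeometry
open Pic13

namespace Groth.Agent.S5645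
open CategoryTheory.Limits
open PicRelBCLib KFlatLib

theorem exists_pt {k : Type u} [Field k] [IsAlgClosed k] {Z : Scheme.{u}} (g : Z ⟶ Spec (CommRingCat.of k))
    [LocallyOfFiniteType g] [Nonempty Z] : ∃ s : Spec (CommRingCat.of k) ⟶ Z, s ≫ g = 𝟙 _ := by
  haveI : JacobsonSpace Z := LocallyOfFiniteType.jacobsonSpace g
  obtain ⟨z, -, hz⟩ := nonempty_inter_closedPoints (Set.univ_nonempty (α := Z)) isClosed_univ.isLocallyClosed
  exact ⟨((pointEquivClosedPoint g).symm ⟨z, hz⟩).1, ((pointEquivClosedPoint g).symm ⟨z, hz⟩).2⟩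

variable {k : Type u} [Field k] {X : Scheme.{u}} [X.Over (Spec (CommRingCat.of k))]
  {P : Over (Spec (CommRingCat.of k))}
  {φ : ∀ T : Over (Spec (CommRingCat.of k)), PicF.Cl (PicF.XT (X ↘ (Spec (CommRingCat.of k))) T) → (T ⟶ P)}

/-- the point of a class on `X` -/
noncomputable abbrev pL (φ : ∀ T : Over (Spec (CommRingCat.of k)), PicF.Cl (PicF.XT (X ↘ (Spec (CommRingCat.of k))) T) → (T ⟶ P))
    (c : PicF.Cl X) : Over.mk (𝟙 (Spec (CommRingCat.of k))) ⟶ P :=
  φ (Over.mk (𝟙 (Spec (CommRingCat.of k))))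
    (PicF.pullCl (pullback.fst (X ↘ (Spec (CommRingCat.of k))) (𝟙 (Spec (CommRingCat.of k)))) c)

theorem pL_fibre (hP : PicRel.IsRelPic (X ↘ (Spec (CommRingCat.of k))) P φ) {T : Scheme.{u}}
    (q : T ⟶ Spec (CommRingCat.of k)) {M : (Pic13.prodK k X q).Modules} (hM : PicF.IsInvertible M)
    (t : Spec (CommRingCat.of k) ⟶ T) (ht : t ≫ q = 𝟙 _) :
    (pL φ (PicF.cl (Pic13.fibreMod k X q t ht M))).left = t ≫ (φ (Over.mk q) (PicF.cl M)).left := by
  let g : Over.mk (𝟙 (Spec (CommRingCat.of k))) ⟶ Over.mk q := Over.homMk t ht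
  have h := congrArg (fun z => z.left) (hP.natural _ _ g (PicF.cl M) ⟨M, rfl, hM⟩)
  refine Eq.trans ?_ h
  have e : PicF.XTmap (X ↘ (Spec (CommRingCat.of k))) g =
      pullback.fst (X ↘ (Spec (CommRingCat.of k))) (𝟙 (Spec (CommRingCat.of k))) ≫ Pic13.sliceAt k X q t ht := by
    apply pullback.hom_ext
    · rw [XTmap_fst, Category.assoc, Pic13.sliceAt]
      exact ((congrArg (pullback.fst _ _ ≫ ·) (pullback.lift_fst _ _ _)).trans (Category.comp_id _)).symm
    · rw [XTmap_snd, Category.assoc, Pic13.sliceAt]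
      refine Eq.trans ?_ (congrArg (pullback.fst _ _ ≫ ·) (pullback.lift_snd _ _ _)).symm
      refine Eq.trans ?_ (Category.assoc _ _ _)
      exact congrArg (· ≫ t) ((pullback.condition (f := X ↘ Spec (CommRingCat.of k))).trans (Category.comp_id _)).symm
  rw [e, ← pullCl_pullCl]
  rfl

theorem pL_inj [IsAlgClosed k] (hP : PicRel.IsRelPic (X ↘ (Spec (CommRingCat.of k))) P φ) {L L' : X.Modules}
    (hL : PicF.IsInvertible L) (hL' : PicF.IsInvertible L') (h : pL φ (PicF.cl L) = pL φ (PicF.cl L')) :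
    Nonempty (L ≅ L') := by
  let T : Over (Spec (CommRingCat.of k)) := Over.mk (𝟙 (Spec (CommRingCat.of k)))
  let f := X ↘ (Spec (CommRingCat.of k))
  obtain ⟨ι, U, hU, he⟩ := hP.locallyInjective T (PicF.pullCl (pullback.fst f T.hom) (PicF.cl L))
    (PicF.pullCl (pullback.fst f T.hom) (PicF.cl L'))
    (isInvertibleCl_pullCl _ ⟨L, rfl, hL⟩) (isInvertibleCl_pullCl _ ⟨L', rfl, hL'⟩) h
  obtain ⟨i, y, hy⟩ := hU (default : Spec (CommRingCat.of k))
  haveI : Etale (U i).hom := (U i).prop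
  haveI : Etale (X := (U i).left) (Y := Spec (CommRingCat.of k)) (U i).hom := (U i).prop
  obtain ⟨s, hs⟩ : ∃ s : Spec (CommRingCat.of k) ⟶ (U i).left, s ≫ (U i).hom = 𝟙 _ :=
    @exists_pt k _ _ (U i).left (U i).hom inferInstance ⟨y⟩
  let σ : X ⟶ PicF.XT f (PicRel.ovr T (U i)) := pullback.lift (𝟙 X) (f ≫ s) (by
    show 𝟙 X ≫ f = (f ≫ s) ≫ (U i).hom ≫ 𝟙 _
    rw [Category.comp_id, Category.id_comp, Category.assoc, hs, Category.comp_id])
  have hσ : σ ≫ PicF.XTmap f (PicRel.ovrHom T (U i)) ≫ pullback.fst f T.hom = 𝟙 X := by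
    rw [XTmap_fst]
    exact pullback.lift_fst _ _ _
  have h1 := congrArg (PicF.pullCl σ) (he i)
  simp only [pullCl_pullCl, Category.assoc] at h1
  rw [hσ, pullCl_id, pullCl_id] at h1
  exact (PicLocDescLib.cl_eq_iff).1 h1

/-- a set of classes lands in a compact set -/
def Land (φ : ∀ T : Over (Spec (CommRingCat.of k)), PicF.Cl (PicF.XT (X ↘ (Spec (CommRingCat.of k))) T) → (T ⟶ P))
    (Q : X.Modules → Prop) : Prop :=
  ∃ C : Set ↥P.left, IsCompact C ∧ ∀ L, Q L → PicF.IsInvertible L → Set.range (pL φ (PicF.cl L)).left.base ⊆ C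

theorem land_family (hP : PicRel.IsRelPic (X ↘ (Spec (CommRingCat.of k))) P φ) [IsAlgClosed k]
    [IsProper (X ↘ (Spec (CommRingCat.of k)))] {T : Scheme.{u}} (q : T ⟶ Spec (CommRingCat.of k))
    [LocallyOfFiniteType q] [QuasiCompact q] (F : (Pic13.prodK k X q).Modules) (hF : Coh.IsCoh F) :
    Land φ (fun L => ∃ t, t ≫ q = 𝟙 _ ∧ ∃ ht : t ≫ q = 𝟙 _, Nonempty (Pic13.fibreMod k X q t ht F ≅ L)) := by
  refine BddFamLib.good_of_generic k X (Land φ) ⟨∅, isCompact_empty, fun _ h => h.elim⟩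
    (fun P₁ P₂ ⟨C₁, h₁, g₁⟩ ⟨C₂, h₂, g₂⟩ => ⟨C₁ ∪ C₂, h₁.union h₂, fun L hL hi => ?_⟩)
    (fun P₁ P₂ ⟨C, hC, g⟩ h => ⟨C, hC, fun L hL => g L (h L hL)⟩) q _ fun S e hS _ hel heq => ?_
  · rcases hL with hL | hL
    · exact (g₁ L hL hi).trans Set.subset_union_left
    · exact (g₂ L hL hi).trans Set.subset_union_right
  haveI := hS
  haveI := hel
  haveI := heq
  haveI : IsLocallyNoetherian S := LocallyOfFiniteType.isLocallyNoetherian (e ≫ q)
  haveI : CompactSpace S := QuasiCompact.compactSpace_of_compactSpace (e ≫ q)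
  haveI : AlgebraicGeometry.IsNoetherian S := {}
  obtain ⟨U, hU, F₁, hF₁, hfl, hfib⟩ := BddFamLib.exists_flat_family k q e F hF
  refine ⟨U, hU, ?_⟩
  let qU := U.ι ≫ e ≫ q
  haveI : LocallyOfFiniteType qU := inferInstance
  haveI := BddFamLib.isLocallyNoetherian_prodK k X qU
  haveI := hF₁.1
  have hfp : CohB1.IsFP F₁ := QCohLib.isFP_of_isCoh _ hF₁
  let S₀ := NumTrivLib.freeBase k X qU F₁
  haveI : CompactSpace U.toScheme := isCompact_iff_compactSpace.1 (TopologicalSpace.NoetherianSpace.isCompact (U : Set S))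
  haveI : AlgebraicGeometry.IsNoetherian U.toScheme := ⟨⟩
  haveI : CompactSpace S₀.toScheme := isCompact_iff_compactSpace.1 (TopologicalSpace.NoetherianSpace.isCompact (S₀ : Set U.toScheme))
  let M := pb (NumTrivLib.prodMap k X S₀.ι qU) F₁
  have hM : PicF.IsInvertible M := NumTrivLib.isInvertible_freeBase k X qU F₁
  let v : S₀.toScheme ⟶ P.left := (φ (Over.mk (S₀.ι ≫ qU)) (PicF.cl M)).left
  refine ⟨Set.range v.base, isCompact_range v.continuous, ?_⟩
  rintro L ⟨s, hs, hsU, ht, ⟨i⟩⟩ hL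
  obtain ⟨w, hw, ⟨a⟩⟩ := hfib s hs ht hsU
  have hr : Set.range w ⊆ Set.range S₀.ι := by
    rintro _ ⟨p, rfl⟩
    rw [Scheme.Opens.range_ι]
    exact NumTrivLib.mem_freeBase k X qU F₁ hfp hfl w hw hL (a ≪≫ i) p
  let w₀ := IsOpenImmersion.lift S₀.ι w hr
  have hw₀ : w₀ ≫ S₀.ι = w := IsOpenImmersion.lift_fac _ _ _
  have hw₀q : w₀ ≫ S₀.ι ≫ qU = 𝟙 _ := by rw [← Category.assoc, hw₀, hw]
  obtain ⟨b⟩ := NumTrivLib.nonempty_fibreMod_prodMap k X S₀.ι qU w₀ hw₀q w hw hw₀ F₁
  rw [show PicF.cl L = PicF.cl (Pic13.fibreMod k X (S₀.ι ≫ qU) w₀ hw₀q M) from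
    Quot.sound ⟨(b ≪≫ a ≪≫ i).symm⟩, pL_fibre hP _ hM]
  rintro _ ⟨p, rfl⟩
  exact ⟨w₀ p, (Scheme.Hom.comp_apply _ _ _).symm⟩

theorem exists_compact_open (C : Set ↥P.left) (hC : IsCompact C) :
    ∃ U : P.left.Opens, IsCompact (U : Set ↥P.left) ∧ C ⊆ U := by
  choose V hV hxV using fun x : P.left => QCohLib.exists_affine_nhd x
  obtain ⟨t, ht⟩ := hC.elim_finite_subcover (fun x => (V x : Set ↥P.left)) (fun x => (V x).2)
    (fun x _ => Set.mem_iUnion.2 ⟨x, hxV x⟩)
  refine ⟨⟨⋃ x ∈ t, (V x : Set ↥P.left), isOpen_biUnion fun x _ => (V x).2⟩, ?_, ht⟩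
  exact t.isCompact_biUnion fun x _ => (hV x).isCompact


/-- Over an algebraically closed field k: let X be a proper k-scheme and let the k-scheme P, with the
maps φ_T from isomorphism classes of modules on X ×_k T to k-morphisms T ⟶ P, represent the
étale-sheafified relative Picard functor of X over k. For an invertible O_X-module L let p(L) ∈ P be
the k-point φ_{Spec k}([L]). Then a family of invertible O_X-modules is bounded (all members occur
among the fibres at k-points of one coherent module on some X ×_k T, T of finite type) if and only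
if the points p(L) of its members lie in a common quasi-compact open subset of P. (The published
statement is over a Noetherian base, for subsets of the Picard scheme and families of classes on the
fibres; this row is the case of an algebraically closed base field.) -/
theorem result (k : Type u) [Field k] [IsAlgClosed k] (X : Scheme.{u}) [X.Over (Spec (CommRingCat.of k))]
    [IsProper (X ↘ (Spec (CommRingCat.of k)))] (P : Over (Spec (CommRingCat.of k)))
    (φ : ∀ T : Over (Spec (CommRingCat.of k)), PicF.Cl (PicF.XT (X ↘ (Spec (CommRingCat.of k))) T) → (T ⟶ P))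
    (hP : PicRel.IsRelPic (X ↘ (Spec (CommRingCat.of k))) P φ)
    (Q : X.Modules → Prop) (hQ : ∀ L, Q L → PicF.IsInvertible L) :
    Pic13.IsBounded k X Q ↔ ∃ U : P.left.Opens, IsCompact (U : Set ↥P.left) ∧
      ∀ L, Q L → Set.range (φ (Over.mk (𝟙 (Spec (CommRingCat.of k))))
        (PicF.pullCl (pullback.fst (X ↘ (Spec (CommRingCat.of k))) (𝟙 (Spec (CommRingCat.of k)))) (PicF.cl L))).left.base ⊆ (U : Set ↥P.left) := by
  classical
  constructor
  · rintro ⟨T, q, hl, hq, F, hF, hm⟩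
    haveI := hl
    haveI := hq
    obtain ⟨C, hC, hCs⟩ := land_family hP q F hF
    obtain ⟨U, hU, hCU⟩ := exists_compact_open C hC
    refine ⟨U, hU, fun L hL => ?_⟩
    obtain ⟨t, ht, i⟩ := hm L hL
    exact (hCs L ⟨t, ht, ht, i⟩ (hQ L hL)).trans hCU
  · rintro ⟨U, hU, hQU⟩
    haveI : LocallyOfFiniteType P.hom := PicRepLib.locallyOfFiniteType hP
    obtain ⟨ι, V, hV, hc⟩ := hP.locallySurjective P (𝟙 P)
    choose c hcinv hcφ using hc
    choose i y hy using hV
    choose W hW hyW using fun x => QCohLib.exists_affine_nhd (y x)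
    haveI : ∀ i, Etale (V i).hom := fun i => (V i).prop
    obtain ⟨t, ht⟩ := hU.elim_finite_subcover (fun x => (V (i x)).hom.base '' (W x : Set (V (i x)).left))
      (fun x => (V (i x)).hom.isOpenMap _ (W x).2) (fun x _ => Set.mem_iUnion.2 ⟨x, y x, hyW x, hy x⟩)
    refine NumTrivLib.isBounded_mono (BddFamLib.isBounded_fintype k X (ι := (t : Set ↥P.left))
      (fun x L => Q L ∧ ∃ w : Spec (CommRingCat.of k) ⟶ (W x.1).toScheme,
        w ≫ (W x.1).ι ≫ (V (i x.1)).hom = (pL φ (PicF.cl L)).left) fun x => ?_) fun L hL => ?_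
    · haveI : IsAffine (W x.1).toScheme := hW x.1
      let e : Over.mk ((W x.1).ι ≫ (V (i x.1)).hom ≫ P.hom) ⟶ PicRel.ovr P (V (i x.1)) := Over.homMk (W x.1).ι rfl
      obtain ⟨M, hMc, hM⟩ := isInvertibleCl_pullCl (PicF.XTmap (X ↘ (Spec (CommRingCat.of k))) e) (hcinv (i x.1))
      refine ⟨(W x.1).toScheme, (W x.1).ι ≫ (V (i x.1)).hom ≫ P.hom, inferInstance,
        (quasiCompact_iff_compactSpace _).2 inferInstance, M, CurvLib.isCoh_of_isInvertible hM, ?_⟩
      rintro L ⟨hL, w, hw⟩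
      have hwq : w ≫ (W x.1).ι ≫ (V (i x.1)).hom ≫ P.hom = 𝟙 _ := by
        rw [← Category.assoc (W x.1).ι, ← Category.assoc w, hw]
        exact Over.w (pL φ (PicF.cl L))
      refine ⟨w, hwq, pL_inj hP (AmpleDevLib.isInvertible_pb _ hM) (hQ L hL) (Over.OverMorphism.ext ?_)⟩
      refine (pL_fibre hP ((W x.1).ι ≫ (V (i x.1)).hom ≫ P.hom) hM w hwq).trans ?_
      refine (congrArg (fun z => w ≫ Over.Hom.left z) ((congrArg (φ _) hMc).trans ((hP.natural _ _ e _ (hcinv (i x.1))).trans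
        (congrArg (e ≫ ·) ((hcφ (i x.1)).trans (Category.comp_id _)))))).trans ?_
      rw [← hw]
      rfl
    · let p : Spec (CommRingCat.of k) ⟶ P.left := (pL φ (PicF.cl L)).left
      obtain ⟨x, hxt, z, hz, hzx⟩ : ∃ x ∈ t, ∃ z ∈ W x, (V (i x)).hom.base z = p default := by
        have := ht (hQU L hL ⟨(default : Spec (CommRingCat.of k)), rfl⟩)
        simp only [Set.mem_iUnion] at this
        obtain ⟨x, hxt, z, hz, e⟩ := this
        exact ⟨x, hxt, z, hz, e⟩
      let π := (W x).ι ≫ (V (i x)).hom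
      obtain ⟨a, -, -⟩ := Scheme.Pullback.exists_preimage_pullback (f := π) (g := p) ⟨z, hz⟩ default hzx
      haveI : Nonempty ↥(pullback π p) := ⟨a⟩
      obtain ⟨s, hs⟩ := exists_pt (k := k) (pullback.snd π p)
      refine ⟨⟨x, hxt⟩, hL, s ≫ pullback.fst π p, ?_⟩
      show (s ≫ pullback.fst π p) ≫ π = p
      rw [Category.assoc, pullback.condition, ← Category.assoc, hs, Category.id_comp]


end Groth.Agent.S5645
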