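import Groth.Statements.S5650
import Groth.Agent.S4887
import Groth.Agent.S4357
import Groth.Agent.QuotSchLib.PullFlat
import Groth.Agent.DepthLib.ModFib
import Groth.Agent.SeesawLib.Stratum
import Groth.Agent.DCohRestrLib.Support
import Groth.Agent.RichLib.InjStage
import Groth.Agent.RichLib.ModFlatGlobal
import Groth.Agent.HilbLCLib.Basic
import Groth.Agent.RefHullLib.EvalStalk
import Groth.Agent.QCohLib.AffineFinite

set_option autoImplicit false
set_option backward.isDefEq.respectTransparency false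
set_option backward.isDefEq.respectTransparency.types false
set_option maxHeartbeats 1000000
universe u
open CategoryTheory CategoryTheory.Limits AlgebraicGeometry
open FlatMor

namespace Groth.Agent.S5650

open Topology
section Helpers

variable {X S : Scheme.{u}}

/-- Pullback along `m` kills a quasi-coherent module of finite type iff the image of `m` misses its support. -/
theorem isZero_pullback_iff {Y : Scheme.{u}} (m : Y ⟶ X) (M : X.Modules) [Coh.IsQCoh M] (hM : CohB1.IsFT M) :
    IsZero ((Scheme.Modules.pullback m).obj M) ↔ ∀ y : Y, m.base y ∉ CohB1.support M := by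
  rw [DCohRestrLib.isZero_iff_support_empty, Groth.Agent.S4357.result m M hM, Set.eq_empty_iff_forall_notMem]
  rfl

/-- A pullback of a map is an epimorphism iff the pullback of its cokernel vanishes. -/
theorem epi_pullback_iff {Y : Scheme.{u}} (m : Y ⟶ X) {F G : X.Modules} (u : F ⟶ G) :
    Epi ((Scheme.Modules.pullback m).map u) ↔ IsZero ((Scheme.Modules.pullback m).obj (cokernel u)) := by
  let e := PreservesCokernel.iso (Scheme.Modules.pullback m) u
  rw [e.isZero_iff]
  exact ⟨fun h => isZero_cokernel_of_epi _, fun h => Preadditive.epi_of_isZero_cokernel _ h⟩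

/-- The pullback of a surjection with kernel `K`, the pullback of `K` staying inside, is an
isomorphism iff the pullback of `K` vanishes. -/
theorem isIso_pullback_iff {Y : Scheme.{u}} (m : Y ⟶ X) {F G : X.Modules} (u : F ⟶ G) [Epi u]
    [Mono ((Scheme.Modules.pullback m).map (kernel.ι u))] :
    IsIso ((Scheme.Modules.pullback m).map u) ↔ IsZero ((Scheme.Modules.pullback m).obj (kernel u)) := by
  let P := Scheme.Modules.pullback m
  have hz : P.map (kernel.ι u) ≫ P.map u = 0 := by rw [← P.map_comp, kernel.condition, P.map_zero]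
  refine ⟨fun h => ?_, fun h => ?_⟩
  · have h0 : P.map (kernel.ι u) = 0 := (cancel_mono (P.map u)).1 (by rw [hz, zero_comp])
    exact IsZero.of_mono_eq_zero _ h0
  · have hS : (ShortComplex.mk (kernel.ι u) u (kernel.condition u)).Exact :=
      ShortComplex.exact_of_f_is_kernel _ (kernelIsKernel u)
    have hc : IsColimit (CokernelCofork.ofπ (f := kernel.ι u) u (kernel.condition u)) := hS.gIsCokernel
    have hc' := CokernelCofork.mapIsColimit _ hc P
    have h0 : P.map (kernel.ι u) = 0 := h.eq_of_src _ _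
    exact CokernelCofork.IsColimit.isIso_π _ hc' h0

/-- Restricting the target of a base change square to an open set which contains the image. -/
theorem isPullback_lift {X' T : Scheme.{u}} (j : X' ⟶ X) [IsOpenImmersion j] (f : X ⟶ S) (t : T ⟶ S)
    (h : Set.range (pullback.fst f t).base ⊆ Set.range j.base) :
    IsPullback (IsOpenImmersion.lift j (pullback.fst f t) h) (pullback.snd f t) (j ≫ f) t := by
  have hl := IsOpenImmersion.lift_fac j (pullback.fst f t) h
  have w : IsOpenImmersion.lift j (pullback.fst f t) h ≫ j ≫ f = pullback.snd f t ≫ t := by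
    rw [reassoc_of% hl, pullback.condition]
  refine ⟨⟨w⟩, ⟨PullbackCone.IsLimit.mk w
    (fun s => pullback.lift (s.fst ≫ j) s.snd (by rw [Category.assoc]; exact s.condition))
    (fun s => ?_) (fun s => ?_) (fun s m h1 h2 => ?_)⟩⟩
  · rw [← cancel_mono j, Category.assoc, hl, pullback.lift_fst]
  · exact pullback.lift_snd ..
  · apply pullback.hom_ext
    · rw [pullback.lift_fst, ← h1, Category.assoc, hl]
    · rw [pullback.lift_snd, h2]

theorem forall_notMem_image_iff {T : Scheme.{u}} (f : X ⟶ S) (t : T ⟶ S) (A : Set X) :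
    (∀ z : ↥(pullback f t), (pullback.fst f t).base z ∉ A) ↔ ∀ τ : T, t.base τ ∉ f.base '' A := by
  refine ⟨fun h τ ⟨x, hx, e⟩ => ?_, fun h z hz => ?_⟩
  · obtain ⟨z, h1, h2⟩ := Scheme.Pullback.exists_preimage_pullback x τ e
    exact h z (by rw [h1]; exact hx)
  · refine h ((pullback.snd f t).base z) ⟨_, hz, ?_⟩
    rw [← Scheme.Hom.comp_apply, ← Scheme.Hom.comp_apply, pullback.condition]

theorem quasiCompact_ι_sdiff (W : S.Opens) (A : Set W) (hW : IsLocallyConstructible (W : Set S))
    (hA : IsClosed A) (hAc : IsLocallyConstructible A) :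
    QuasiCompact ((W.ι ''ᵁ ⟨Aᶜ, hA.isOpen_compl⟩ : S.Opens)).ι := by
  haveI : QuasiCompact W.ι := SeesawLib.quasiCompact_ι W hW
  haveI : QuasiCompact (Scheme.Opens.ι (X := W.toScheme) ⟨Aᶜ, hA.isOpen_compl⟩) :=
    SeesawLib.quasiCompact_ι (Y := W.toScheme) ⟨Aᶜ, hA.isOpen_compl⟩ (SeesawLib.isLocallyConstructible_compl hAc)
  have h : QuasiCompact ((Scheme.Opens.ι (X := W.toScheme) ⟨Aᶜ, hA.isOpen_compl⟩) ≫ W.ι) := inferInstance
  rw [← Scheme.Hom.isoImage_hom_ι W.ι ⟨Aᶜ, hA.isOpen_compl⟩] at h
  exact (MorphismProperty.cancel_left_of_respectsIso @QuasiCompact _ _).1 h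

end Helpers


/-- Let X ⟶ S be proper and of finite presentation, u : F ⟶ G a morphism of finitely presented
O_X-modules with G flat over S. Then the subfunctor of S 'making u an isomorphism' is represented by
an open subscheme of S of finite presentation over S: there is a quasi-compact open U ⊆ S such that,
for every scheme T and t : T ⟶ S, the pullback of u to X ×_S T is an isomorphism if and only if the
image of t lies in U. -/
theorem result {X S : Scheme.{u}} (f : X ⟶ S) [IsProper f] [LocallyOfFinitePresentation f]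
    (F G : X.Modules) (hF : CohB1.IsFP F) (hG : CohB1.IsFP G) (hGfl : FlatMod.IsFlatOver f G) (u : F ⟶ G) :
    ∃ U : S.Opens, QuasiCompact U.ι ∧
      ∀ (T : Scheme.{u}) (t : T ⟶ S),
        IsIso ((Scheme.Modules.pullback (pullback.fst f t)).map u) ↔ Set.range t.base ⊆ (U : Set S) := by
  classical
  haveI : Coh.IsQCoh F := HilbLCLib.isQCoh_of_isFP hF
  haveI : Coh.IsQCoh G := HilbLCLib.isQCoh_of_isFP hG
  let C := cokernel u
  haveI : Coh.IsQCoh C := QCohLib.isQCoh_cokernel u
  have hC : CohB1.IsFP C := RichLib.InjStage.isFP_cokernel hF hG u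
  have hCT : CohB1.IsFT C := RefHullLib.isFT_of_isFP hC
  have hZc : IsClosed (f.base '' CohB1.support C) :=
    f.isClosedMap _ (QCohLib.isClosed_support C hCT)
  have hZl : IsLocallyConstructible (f.base '' CohB1.support C) :=
    f.isLocallyConstructible_image (DepthLib.isLocallyConstructible_support f C hC hCT)
  let U1 : S.Opens := ⟨(f.base '' CohB1.support C)ᶜ, hZc.isOpen_compl⟩
  let X1 : X.Opens := f ⁻¹ᵁ U1
  let j : X1.toScheme ⟶ X := X1.ι
  let Pj := Scheme.Modules.pullback j
  haveI : Coh.IsQCoh (Pj.obj F) := KFlatLib.isQCoh_pullback j F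
  haveI : Coh.IsQCoh (Pj.obj G) := KFlatLib.isQCoh_pullback j G
  have hF1 : CohB1.IsFP (Pj.obj F) := RichLib.ModFlat.isFP_pullback j hF
  have hG1 : CohB1.IsFP (Pj.obj G) := RichLib.ModFlat.isFP_pullback j hG
  have hfl1 : FlatMod.IsFlatOver (j ≫ f) (Pj.obj G) := fun x =>
    (RichLib.ModFlat.isFlatOverAt_comp_source j f G x).2 (hGfl _)
  haveI : Epi (Pj.map u) := (epi_pullback_iff j u).2 ((isZero_pullback_iff j C hCT).2
    fun x hx => x.2 ⟨_, hx, rfl⟩)
  let K := kernel (Pj.map u)
  haveI : Coh.IsQCoh K := QCohLib.isQCoh_kernel _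
  have hK : CohB1.IsFP K := Groth.Agent.S4887.result (j ≫ f) _ _ hF1 hG1 hfl1 (Pj.map u)
  have hKT : CohB1.IsFT K := RefHullLib.isFT_of_isFP hK
  let g : X1.toScheme ⟶ U1.toScheme := f ∣_ U1
  have hgι : g ≫ U1.ι = j ≫ f := morphismRestrict_ι f U1
  haveI : IsProper g := MorphismProperty.of_isPullback (isPullback_morphismRestrict f U1).flip ‹IsProper f›
  haveI : LocallyOfFinitePresentation g :=
    MorphismProperty.of_isPullback (isPullback_morphismRestrict f U1).flip ‹LocallyOfFinitePresentation f›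
  have hAc : IsClosed (g.base '' CohB1.support K) := g.isClosedMap _ (QCohLib.isClosed_support K hKT)
  have hAl : IsLocallyConstructible (g.base '' CohB1.support K) :=
    g.isLocallyConstructible_image (DepthLib.isLocallyConstructible_support g K hK hKT)
  refine ⟨U1.ι ''ᵁ ⟨(g.base '' CohB1.support K)ᶜ, hAc.isOpen_compl⟩,
    quasiCompact_ι_sdiff U1 _ (SeesawLib.isLocallyConstructible_compl hZl) hAc hAl, fun T t => ?_⟩
  let p := pullback.fst f t
  have hmem : ∀ s : S, s ∈ (U1.ι ''ᵁ ⟨(g.base '' CohB1.support K)ᶜ, hAc.isOpen_compl⟩ : S.Opens) ↔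
      s ∈ U1 ∧ s ∉ (j ≫ f).base '' CohB1.support K := by
    intro s
    constructor
    · rintro ⟨w, hw, rfl⟩
      refine ⟨w.2, fun ⟨x, hx, e⟩ => hw ⟨x, hx, Subtype.ext ?_⟩⟩
      rw [← hgι] at e
      exact e
    · rintro ⟨h1, h2⟩
      refine ⟨⟨s, h1⟩, fun ⟨x, hx, e⟩ => h2 ⟨x, hx, ?_⟩, rfl⟩
      rw [← hgι]
      exact congrArg Subtype.val e
  have hzero : Epi ((Scheme.Modules.pullback p).map u) ↔ ∀ τ : T, t.base τ ∈ U1 := by
    rw [epi_pullback_iff, isZero_pullback_iff p C hCT, forall_notMem_image_iff f t]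
    rfl
  have hfac : (∀ τ : T, t.base τ ∈ U1) → (IsIso ((Scheme.Modules.pullback p).map u) ↔
      ∀ τ : T, t.base τ ∉ (j ≫ f).base '' CohB1.support K) := by
    intro h
    have hr : Set.range p.base ⊆ Set.range j.base := by
      rintro _ ⟨z, rfl⟩
      rw [show Set.range j.base = (X1 : Set X) from Scheme.Opens.range_ι X1]
      show f.base (p.base z) ∈ U1
      rw [← Scheme.Hom.comp_apply, pullback.condition, Scheme.Hom.comp_apply]
      exact h _
    let p1 := IsOpenImmersion.lift j p hr
    have sq : IsPullback p1 (pullback.snd f t) (j ≫ f) t := isPullback_lift j f t hr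
    haveI := QuotSchLib.mono_pullback_kernel sq (Pj.map u) hfl1
    have e1 : IsIso ((Scheme.Modules.pullback p).map u) ↔ IsIso ((Scheme.Modules.pullback p1).map (Pj.map u)) :=
      (NatIso.isIso_map_iff ((Scheme.Modules.pullbackCongr (IsOpenImmersion.lift_fac j p hr)).symm ≪≫
        (Scheme.Modules.pullbackComp p1 j).symm) u)
    rw [e1, isIso_pullback_iff p1 (Pj.map u), isZero_pullback_iff p1 K hKT]
    refine ⟨fun hz τ ⟨x, hx, e⟩ => ?_, fun hz z hzK => ?_⟩
    · obtain ⟨z, h1, h2⟩ := Scheme.Pullback.exists_preimage_pullback (f := f) (g := t) (j.base x) τ e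
      have h3 : p1.base z = x := j.isOpenEmbedding.injective (by
        rw [← Scheme.Hom.comp_apply, IsOpenImmersion.lift_fac, h1])
      exact hz z (h3 ▸ hx)
    · refine hz ((pullback.snd f t).base z) ⟨_, hzK, ?_⟩
      rw [← Scheme.Hom.comp_apply, ← Scheme.Hom.comp_apply, sq.w]
  constructor
  · intro hiso
    have h1 := hzero.1 inferInstance
    rintro _ ⟨τ, rfl⟩
    exact (hmem _).2 ⟨h1 τ, (hfac h1).1 hiso τ⟩
  · intro h
    have h' := fun τ => (hmem (t.base τ)).1 (h ⟨τ, rfl⟩)
    exact (hfac fun τ => (h' τ).1).2 fun τ => (h' τ).2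

end Groth.Agent.S5650
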