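import Groth.Statements.S5654
import Groth.Agent.S3020
import Groth.Agent.GrpHomLib.FlatImage
import Groth.Agent.GrpFieldLib.Comps
-- import your own Groth.Agent.* helpers here

set_option autoImplicit false
set_option backward.isDefEq.respectTransparency false
set_option linter.style.haveILetI false
universe u
open CategoryTheory MonoidalCategory CartesianMonoidalCategory MonObj GrpObj AlgebraicGeometry
open GrpSch

namespace Groth.Agent.S5654

/-- Let k be a field, P and Q group schemes locally of finite type over k and f : P ⟶ Q a homomorphism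
of k-group schemes whose underlying morphism of schemes is quasi-affine. Then f is affine. -/
theorem result (k : Type u) [Field k] (P Q : Over (Spec (CommRingCat.of k))) [GrpObj P] [GrpObj Q]
    [LocallyOfFiniteType P.hom] [LocallyOfFiniteType Q.hom] (f : P ⟶ Q) [IsMonHom f] (hf : Mor2.IsQuasiAffine f.left) :
    IsAffineHom f.left := by
  haveI : QuasiCompact f.left := hf.1
  haveI : Flat P.hom := Groth.Agent.GrpField.flat_field _
  haveI : IsSeparated Q.hom := Groth.Agent.GrpField.isSeparated_grp (G := Q)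
  haveI hη : IsClosedImmersion (η[Q] : 𝟙_ (Over (Spec (CommRingCat.of k))) ⟶ Q).left := inferInstance
  let N : Over (Spec (CommRingCat.of k)) := Limits.pullback f (η[Q] : 𝟙_ (Over (Spec (CommRingCat.of k))) ⟶ Q)
  let j : N ⟶ P := Limits.pullback.fst _ _
  have hN := (IsPullback.of_hasPullback f (η[Q] : 𝟙_ (Over (Spec (CommRingCat.of k))) ⟶ Q)).map (Over.forget _)
  haveI hjc : IsClosedImmersion j.left := MorphismProperty.of_isPullback (P := @IsClosedImmersion) hN.flip hη
  haveI : Mono j := Over.mono_of_mono_left j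
  have hj : j ≫ f = 1 := by
    rw [Limits.pullback.condition, Hom.one_def, toUnit_unique (Limits.pullback.snd f η[Q]) (toUnit N)]
  have hl : ∀ {T : Over (Spec (CommRingCat.of k))} (g : T ⟶ P), g ≫ f = 1 → ∃ l : T ⟶ N, l ≫ j = g :=
    fun g hg => ⟨Limits.pullback.lift g (toUnit _) (by rw [hg, Hom.one_def]), Limits.pullback.lift_fst _ _ _⟩
  obtain ⟨_, _⟩ := Groth.Agent.SubDesc.exists_grpObj_of_mono j
    (hl _ (by rw [MonObj.mul_comp, Category.assoc, Category.assoc, hj, MonObj.comp_one, MonObj.comp_one, _root_.one_mul]))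
    (hl 1 (by rw [MonObj.one_comp]))
    (hl _ (by rw [GrpObj.inv_comp, hj, inv_one]))
  haveI : QuasiCompact (Limits.pullback.snd f (η[Q] : 𝟙_ (Over (Spec (CommRingCat.of k))) ⟶ Q)).left :=
    MorphismProperty.of_isPullback (P := @QuasiCompact) hN ‹QuasiCompact f.left›
  haveI : QuasiCompact N.hom := by
    rw [← Over.w (Limits.pullback.snd f (η[Q] : 𝟙_ (Over (Spec (CommRingCat.of k))) ⟶ Q))]
    exact MorphismProperty.comp_mem @QuasiCompact _ _ ‹_› (inferInstanceAs (QuasiCompact (𝟙 _)))
  haveI : LocallyOfFiniteType N.hom := by rw [← Over.w j]; infer_instance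
  haveI : CompactSpace N.left := QuasiCompact.compactSpace_of_compactSpace N.hom
  obtain ⟨V, hV, heV, -⟩ := exists_isAffineOpen_mem_and_subset (X := Q.left)
    (x := (η[Q] : 𝟙_ (Over (Spec (CommRingCat.of k))) ⟶ Q).left (IsLocalRing.closedPoint k)) (U := ⊤) trivial
  haveI := hf.2 V hV
  have hrange : Set.range j.left ⊆ Set.range (f.left ⁻¹ᵁ V).ι := by
    rintro _ ⟨z, rfl⟩
    rw [Scheme.Opens.range_ι]
    show (j ≫ f).left z ∈ V
    rw [hj, Hom.one_def]
    have e : (toUnit N).left z = IsLocalRing.closedPoint k := Subsingleton.elim (α := PrimeSpectrum k) _ _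
    show η[Q].left ((toUnit N).left z) ∈ V
    exact (congrArg η[Q].left e) ▸ heV
  let l := IsOpenImmersion.lift (f.left ⁻¹ᵁ V).ι j.left hrange
  haveI : IsImmersion (l ≫ (f.left ⁻¹ᵁ V).ι) := by rw [IsOpenImmersion.lift_fac]; infer_instance
  haveI : IsImmersion l := IsImmersion.of_comp l (f.left ⁻¹ᵁ V).ι
  haveI : N.left.IsQuasiAffine := Scheme.IsQuasiAffine.of_isImmersion l
  haveI : IsAffine N.left := Groth.Agent.S3020.result k N
  haveI hNa : IsAffineHom N.hom := isAffineHom_of_isAffine _
  obtain ⟨C, _, p, i, _, _, hpi, hpf, hps, hpl, hi⟩ := Groth.Agent.GrpHom.exists_fppf_image f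
    (Groth.Agent.GrpField.flat_field _)
  haveI := hi; haveI := hpf; haveI := hps
  haveI : Mono i := Over.mono_of_mono_left i
  have sq : IsPullback ((fst N P ≫ j) * snd N P) (snd N P) f f := by
    refine IsPullback.of_isLimit' ⟨by rw [MonObj.mul_comp, Category.assoc, hj, MonObj.comp_one, _root_.one_mul]⟩
      (Limits.PullbackCone.IsLimit.mk _ (fun c =>
      lift (Limits.pullback.lift (c.fst * c.snd⁻¹) (toUnit _) (by
        rw [MonObj.mul_comp, GrpObj.inv_comp, c.condition, mul_inv_cancel, Hom.one_def])) c.snd)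
      (fun c => ?_) (fun c => ?_) (fun c m hm₁ hm₂ => ?_))
    · simp [j, MonObj.comp_mul]
    · simp
    · refine CartesianMonoidalCategory.hom_ext _ _ ?_ (by simpa using hm₂)
      rw [lift_fst]
      refine Limits.pullback.hom_ext ?_ (toUnit_unique _ _)
      rw [Limits.pullback.lift_fst, ← hm₁, ← hm₂]
      simp [j, MonObj.comp_mul]
  have hS := sq.map (Over.forget _)
  haveI hsnd : IsAffineHom (snd N P).left := MorphismProperty.pullback_snd (P := @IsAffineHom) N.hom P.hom hNa
  have hk : IsKernelPair (p.left ≫ i.left) ((Over.forget _).map ((fst N P ≫ j) * snd N P)) (snd N P).left := by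
    show IsPullback _ _ (p.left ≫ i.left) (p.left ≫ i.left)
    rw [← Over.comp_left, hpi]
    exact hS
  have hk' : IsPullback _ _ p.left p.left := hk.cancel_right_of_mono
  haveI : QuasiCompact p.left := by
    haveI : QuasiCompact (p.left ≫ i.left) := by rw [← Over.comp_left, hpi]; infer_instance
    exact QuasiCompact.of_comp p.left i.left
  haveI : IsAffineHom p.left := by
    refine MorphismProperty.of_isPullback_of_descendsAlong (P := @IsAffineHom)
      (Q := @Surjective ⊓ @Flat ⊓ @QuasiCompact) hk'.flip ⟨⟨inferInstance, inferInstance⟩, inferInstance⟩ hsnd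
  rw [← hpi, Over.comp_left]
  infer_instance
end Groth.Agent.S5654
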