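import Groth.Statements.S5656
import Mathlib.RingTheory.Polynomial.Pochhammer
import Mathlib.Algebra.Polynomial.Roots
import Mathlib.Algebra.Order.Archimedean.Basic
import Mathlib.Tactic.FieldSimp
import Mathlib.Tactic.Linarith
-- import your own Groth.Agent.* helpers here

set_option autoImplicit false
universe u
open W4sga6xxiii

namespace Groth.Agent.S5656

open Polynomial in
private lemma exists_poly {G : Type u} [AddCommGroup G] (f : G → ℚ) (hf : W4sga6xxiii.IsPolyMap f) (x : G) :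
    ∃ P : ℚ[X], ∀ n : ℤ, f (n • x) = P.eval (n : ℚ) := by
  obtain ⟨m, y, -, h⟩ := hf 1 (fun _ => x)
  refine ⟨∑ k : Fin 1 → Fin (m + 1), C (y k / ((k 0 : ℕ).factorial : ℚ)) * descPochhammer ℚ (k 0 : ℕ), fun n => ?_⟩
  have := h (fun _ => n)
  simp only [Fin.sum_univ_one, Fin.prod_univ_one] at this
  rw [this, eval_finsetSum]
  refine Finset.sum_congr rfl fun k _ => ?_
  rw [eval_mul, eval_C, zsmul_eq_mul]
  have e := Ring.descPochhammer_eq_factorial_smul_choose n (k 0 : ℕ)
  rw [nsmul_eq_mul, eq_comm, ← eval_eq_smeval] at e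
  have e' : ((k 0 : ℕ).factorial : ℚ) * ((Ring.choose n (k 0 : ℕ) : ℤ) : ℚ) = (descPochhammer ℚ (k 0 : ℕ)).eval (n : ℚ) := by
    rw [← descPochhammer_map (Int.castRingHom ℚ), eval_intCast_map, eq_intCast, Int.cast_id, ← e]
    push_cast
    rfl
  rw [← e']
  have := Nat.factorial_ne_zero (k 0 : ℕ)
  field_simp

open Polynomial in
private lemma const_of_fractions (p : ℕ) (hp : 2 ≤ p) (P : ℚ[X])
    (h : ∀ k : ℕ, ∃ z : ℤ, P.eval (1 / (p : ℚ) ^ k) = z) : P = C (P.eval 0) := by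
  have hp0 : (1 : ℚ) < p := by exact_mod_cast hp
  obtain ⟨R, hR⟩ : X ∣ P - C (P.eval 0) := by
    rw [X_dvd_iff, coeff_sub, coeff_C_zero, coeff_zero_eq_eval_zero, sub_self]
  obtain ⟨z0, hz0⟩ : ∃ z : ℤ, P.eval 0 = z := by
    by_contra hne
    set B := ∑ i ∈ R.support, |R.coeff i|
    have hb : ∀ k : ℕ, |P.eval (1 / (p : ℚ) ^ k) - P.eval 0| ≤ B / (p : ℚ) ^ k := by
      intro k
      have e := congrArg (eval (1 / (p : ℚ) ^ k)) hR
      rw [eval_sub, eval_C, eval_mul, eval_X] at e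
      have ht1 : (1 : ℚ) / (p : ℚ) ^ k ≤ 1 := (div_le_one (by positivity)).2 (one_le_pow₀ hp0.le)
      rw [e, abs_mul, abs_of_pos (by positivity), one_div_mul_eq_div, eval_eq_sum, Polynomial.sum]
      gcongr
      refine (Finset.abs_sum_le_sum_abs _ _).trans (Finset.sum_le_sum fun i _ => ?_)
      rw [abs_mul]
      exact mul_le_of_le_one_right (abs_nonneg _) (by
        rw [abs_of_pos (by positivity)]; exact pow_le_one₀ (by positivity) ht1)
    set c := P.eval 0
    have hfl : 0 < min (c - ⌊c⌋) (⌊c⌋ + 1 - c) := lt_min (sub_pos.2 (lt_of_le_of_ne (Int.floor_le c)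
      (fun e => hne ⟨⌊c⌋, e.symm⟩))) (sub_pos.2 (Int.lt_floor_add_one c))
    obtain ⟨k, hk⟩ := pow_unbounded_of_one_lt (B / min (c - ⌊c⌋) (⌊c⌋ + 1 - c)) hp0
    obtain ⟨z, hz⟩ := h k
    have h1 : B / (p : ℚ) ^ k < min (c - ⌊c⌋) (⌊c⌋ + 1 - c) := by
      rw [div_lt_iff₀ (by positivity)]
      rw [div_lt_iff₀ hfl] at hk
      linarith
    have h2 := hb k
    rw [hz, abs_le] at h2
    have h3 := lt_of_lt_of_le h1 (min_le_left _ _)
    have h4 := lt_of_lt_of_le h1 (min_le_right _ _)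
    rcases le_or_gt z ⌊c⌋ with hle | hgt
    · have : (z : ℚ) ≤ ⌊c⌋ := by exact_mod_cast hle
      linarith
    · have : (⌊c⌋ : ℚ) + 1 ≤ z := by exact_mod_cast hgt
      linarith
  set B := ∑ i ∈ R.support, |R.coeff i|
  obtain ⟨k₀, hk₀⟩ := pow_unbounded_of_one_lt B hp0
  refine eq_of_infinite_eval_eq _ _ (Set.Infinite.mono ?_ (Set.infinite_range_of_injective
    (f := fun k : ℕ => 1 / (p : ℚ) ^ (k₀ + k)) ?_))
  · rintro _ ⟨k, rfl⟩
    show P.eval (1 / (p : ℚ) ^ (k₀ + k)) = (C (P.eval 0)).eval (1 / (p : ℚ) ^ (k₀ + k))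
    obtain ⟨z, hz⟩ := h (k₀ + k)
    have e := congrArg (eval (1 / (p : ℚ) ^ (k₀ + k))) hR
    rw [eval_sub, eval_C, eval_mul, eval_X, hz, hz0] at e
    have ht1 : (1 : ℚ) / (p : ℚ) ^ (k₀ + k) ≤ 1 := (div_le_one (by positivity)).2 (one_le_pow₀ hp0.le)
    have hlt : |((z - z0 : ℤ) : ℚ)| < 1 := by
      push_cast
      rw [e, abs_mul, abs_of_pos (by positivity), one_div_mul_eq_div, div_lt_one (by positivity)]
      have hle : B < (p : ℚ) ^ (k₀ + k) := lt_of_lt_of_le hk₀ (pow_le_pow_right₀ hp0.le (by omega))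
      refine lt_of_le_of_lt ?_ hle
      rw [eval_eq_sum, Polynomial.sum]
      refine (Finset.abs_sum_le_sum_abs _ _).trans (Finset.sum_le_sum fun i _ => ?_)
      rw [abs_mul]
      exact mul_le_of_le_one_right (abs_nonneg _) (by
        rw [abs_of_pos (by positivity)]; exact pow_le_one₀ (by positivity) ht1)
    have : z - z0 = 0 := by
      have : |z - z0| < 1 := by exact_mod_cast hlt
      exact Int.abs_lt_one_iff.1 this
    rw [eval_C, hz, hz0, sub_eq_zero.1 this]
  · intro a b hab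
    simp only [one_div, inv_inj] at hab
    have := pow_right_injective₀ (by positivity) hp0.ne' hab
    omega

open Polynomial in
private lemma const_on_G' {G : Type u} [AddCommGroup G] (G' : AddSubgroup G) (p : ℕ) (hp : p.Prime)
    (hdiv : ∀ x ∈ G', ∃ y ∈ G', p • y = x) (f : G → ℚ) (hf : W4sga6xxiii.IsPolyMap f)
    (hint : ∀ x, ∃ z : ℤ, f x = z) (g : G) (hg : g ∈ G') : f g = f 0 := by
  have hroot : ∀ k : ℕ, ∃ y ∈ G', p ^ k • y = g := by
    intro k
    induction k with
    | zero => exact ⟨g, hg, by simp⟩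
    | succ k ih =>
      obtain ⟨y, hy, e⟩ := ih
      obtain ⟨y', hy', e'⟩ := hdiv y hy
      exact ⟨y', hy', by rw [pow_succ, mul_smul, e', e]⟩
  obtain ⟨P, hP⟩ := exists_poly f hf g
  have hC : P = C (P.eval 0) := by
    refine const_of_fractions p hp.two_le P fun k => ?_
    obtain ⟨y, -, e⟩ := hroot k
    obtain ⟨Pk, hPk⟩ := exists_poly f hf y
    have hcomp : Pk = P.comp (C (1 / (p : ℚ) ^ k) * X) := by
      refine eq_of_infinite_eval_eq _ _ (Set.Infinite.mono ?_ (Set.infinite_range_of_injective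
        (f := fun n : ℕ => ((p ^ k * n : ℕ) : ℚ)) ?_))
      · rintro _ ⟨n, rfl⟩
        show Pk.eval ((p ^ k * n : ℕ) : ℚ) = (P.comp _).eval ((p ^ k * n : ℕ) : ℚ)
        have h1 := hPk ((p ^ k * n : ℕ) : ℤ)
        rw [natCast_zsmul, mul_comm, mul_smul, e, ← natCast_zsmul, hP n] at h1
        simp only [Int.cast_natCast] at h1
        rw [mul_comm (p ^ k) n, ← h1]
        have : (p : ℚ) ^ k ≠ 0 := pow_ne_zero _ (by exact_mod_cast hp.ne_zero)
        simp [eval_comp]
        field_simp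
      · intro a b hab
        simpa [hp.ne_zero] using hab
    obtain ⟨z, hz⟩ := hint y
    refine ⟨z, ?_⟩
    rw [← hz, ← one_smul ℤ y, hPk 1, hcomp]
    simp
  have h1 := hP 1
  have h0 := hP 0
  rw [hC] at h1 h0
  simp at h1 h0
  rw [h1, h0]

/-- Let G be an abelian group and G' ⊆ G a subgroup which is divisible by some prime number p (every
element of G' is p times an element of G') and such that G/G' is a torsion group. Then every
polynomial map f : G → ℚ (admitting binomial expansions f(Σ n_i x_i) = Σ_k Π_i C(n_i, k_i) y_k along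
every finite sequence x) which takes only integer values is constant. -/
theorem result {G : Type u} [AddCommGroup G] (G' : AddSubgroup G)
    (p : ℕ) (hp : p.Prime) (hdiv : ∀ x ∈ G', ∃ y ∈ G', p • y = x) (htor : ∀ x : G, ∃ n : ℤ, n ≠ 0 ∧ n • x ∈ G')
    (f : G → ℚ) (hf : W4sga6xxiii.IsPolyMap f) (hint : ∀ x, ∃ z : ℤ, f x = z) (x : G) : f x = f 0 := by
  obtain ⟨N, hN, hx⟩ := htor x
  obtain ⟨P, hP⟩ := exists_poly f hf x
  have hC : P = Polynomial.C (f 0) := by
    refine Polynomial.eq_of_infinite_eval_eq _ _ (Set.Infinite.mono ?_ (Set.infinite_range_of_injective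
      (f := fun n : ℤ => ((n * N : ℤ) : ℚ)) ?_))
    · rintro _ ⟨n, rfl⟩
      show P.eval ((n * N : ℤ) : ℚ) = (Polynomial.C (f 0)).eval _
      rw [← hP, mul_smul, Polynomial.eval_C]
      exact const_on_G' G' p hp hdiv f hf hint _ (G'.zsmul_mem hx n)
    · intro a b hab
      simpa [hN] using hab
  rw [← one_smul ℤ x, hP, hC, Polynomial.eval_C]

end Groth.Agent.S5656
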