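import Groth.Statements.S5657
import Mathlib
import Mathlib
-- import your own Groth.Agent.* helpers here

set_option autoImplicit false
universe u
open TensorProduct
open W4sga6xxiii

namespace Groth.Agent.S5657

/-- Let A be a commutative ring, I an ideal of A with I^{m+1} = 0, and P ⊆ Aˣ the subgroup of units of
the form 1 + y with y ∈ I. Then the map P → A ⊗_ℤ ℚ, x ↦ x ⊗ 1, is a polynomial map of degree ≤ m on
the abelian group P (written additively): along every finite sequence x_1, …, x_r in P one has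
x_1^{n_1}⋯x_r^{n_r} ⊗ 1 = Σ_k Π_i C(n_i, k_i) y_k with y_k = 0 whenever k_1 + ⋯ + k_r > m. -/
theorem result (A : Type u) [CommRing A] (I : Ideal A) (m : ℕ) (hI : I ^ (m + 1) = ⊥)
    (P : Subgroup Aˣ) (hP : ∀ u : Aˣ, u ∈ P ↔ (u : A) - 1 ∈ I) :
    W4sga6xxiii.IsPolyMapLE (fun u : Additive P => (((Additive.toMul u : P) : Aˣ) : A) ⊗ₜ[ℤ] (1 : ℚ)) m := by
  classical
  have hpow : ∀ u : Aˣ, (u : A) - 1 ∈ I → ∀ z : ℤ,
      ((u ^ z : Aˣ) : A) = ∑ k : Fin (m + 1), ((Ring.choose z (k : ℕ) : ℤ) : A) * ((u : A) - 1) ^ (k : ℕ) := by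
    intro u hu
    set y := (u : A) - 1 with hy
    have hy0 : y ^ (m + 1) = 0 := by
      have : y ^ (m + 1) ∈ I ^ (m + 1) := Ideal.pow_mem_pow hu _
      rwa [hI] at this
    have hs : ∀ z : ℤ, (∑ k : Fin (m + 1), ((Ring.choose (z + 1) (k : ℕ) : ℤ) : A) * y ^ (k : ℕ)) =
        (u : A) * ∑ k : Fin (m + 1), ((Ring.choose z (k : ℕ) : ℤ) : A) * y ^ (k : ℕ) := by
      intro z
      rw [show (u : A) = 1 + y by rw [hy]; ring, add_mul, one_mul]
      simp only [Fin.sum_univ_eq_sum_range (fun k => ((Ring.choose (z + 1) k : ℤ) : A) * y ^ k),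
        Fin.sum_univ_eq_sum_range (fun k => ((Ring.choose z k : ℤ) : A) * y ^ k)]
      rw [Finset.mul_sum, Finset.sum_range_succ' _ m, Finset.sum_range_succ' (fun k => ((Ring.choose z k : ℤ) : A) * y ^ k) m,
        Finset.sum_range_succ (fun k => y * (((Ring.choose z k : ℤ) : A) * y ^ k)) m]
      have htop : y * (((Ring.choose z m : ℤ) : A) * y ^ m) = 0 := by
        rw [mul_left_comm, ← pow_succ', hy0, mul_zero]
      rw [htop, add_zero, Ring.choose_zero_right, Ring.choose_zero_right]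
      simp only [Ring.choose_succ_succ, Int.cast_add, add_mul, Finset.sum_add_distrib, pow_succ]
      simp only [add_comm _ (1 : ℕ), mul_comm, mul_left_comm]
      ring
    intro z
    induction z using Int.induction_on with
    | zero =>
      rw [zpow_zero, Units.val_one, Finset.sum_eq_single 0]
      · simp
      · intro k _ hk
        rw [Ring.choose_zero_pos _ (Nat.pos_of_ne_zero fun h => hk (Fin.ext h)), Int.cast_zero, zero_mul]
      · intro h; exact absurd (Finset.mem_univ _) h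
    | succ i ih => rw [hs, ← ih, zpow_add_one, Units.val_mul, mul_comm]
    | pred i ih =>
      refine u.isUnit.mul_left_cancel ?_
      rw [← hs, sub_add_cancel, ← ih, ← Units.val_mul, ← zpow_one_add]
      congr 2
      ring
  intro r x
  let v : Fin r → A := fun i => (((Additive.toMul (x i) : P) : Aˣ) : A) - 1
  refine ⟨fun k => (∏ i, v i ^ (k i : ℕ)) ⊗ₜ[ℤ] (1 : ℚ), fun k hk => ?_, fun n => ?_⟩
  · have hm : ∏ i, v i ^ (k i : ℕ) ∈ I ^ (∑ i, (k i : ℕ)) := by
      rw [← Finset.prod_pow_eq_pow_sum]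
      exact Ideal.prod_mem_prod fun i _ => Ideal.pow_mem_pow ((hP _).1 (Additive.toMul (x i)).2) _
    have h0 : ∏ i, v i ^ (k i : ℕ) = 0 := by
      have := Ideal.pow_le_pow_right (show m + 1 ≤ ∑ i, (k i : ℕ) by omega) hm
      rwa [hI] at this
    show _ ⊗ₜ[ℤ] (1 : ℚ) = 0
    rw [h0, TensorProduct.zero_tmul]
  · have e : (((Additive.toMul (∑ i, n i • x i) : P) : Aˣ) : A) = ∏ i, ((((Additive.toMul (x i) : P) : Aˣ) ^ n i : Aˣ) : A) := by
      rw [toMul_sum, Subgroup.val_finsetProd, Units.coe_prod]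
      rfl
    show (((Additive.toMul (∑ i, n i • x i) : P) : Aˣ) : A) ⊗ₜ[ℤ] (1 : ℚ) = _
    rw [e, Finset.prod_congr rfl fun i _ => hpow _ ((hP _).1 (Additive.toMul (x i)).2) (n i), Fintype.prod_sum,
      TensorProduct.sum_tmul]
    refine Finset.sum_congr rfl fun k _ => ?_
    rw [Finset.prod_mul_distrib, ← Int.cast_prod, TensorProduct.smul_tmul', zsmul_eq_mul]

end Groth.Agent.S5657
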