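import Groth.Statements.S5658
import Groth.Agent.SLCommLib.Spread
import Groth.Agent.SLCommLib.Local


-- import your own Groth.Agent.* helpers here

set_option autoImplicit false
universe u
open CAlg

namespace Groth.Agent.S5658

/-- On the big étale site of a scheme the sheaf of commutator subgroups of Gl(n) is Sl(n) = Ker(det).
Concretely: let A be a commutative ring, n ≥ 0, s ∈ SL_n(A) and p a prime ideal of A. Then there are
an étale A-algebra A' with a prime ideal lying over p such that the image of s in GL_n(A') lies in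
the commutator subgroup of GL_n(A'). (The inclusion of commutators in SL_n being clear, this is the
content of the statement.) -/
theorem result (A : Type u) [CommRing A] (n : ℕ)
    (s : Matrix.SpecialLinearGroup (Fin n) A) (p : PrimeSpectrum A) :
    ∃ (A' : Type u) (_ : CommRing A') (_ : Algebra A A'), Algebra.Etale A A' ∧
      (∃ q : PrimeSpectrum A', q.asIdeal.comap (algebraMap A A') = p.asIdeal) ∧
      (Matrix.GeneralLinearGroup.map (algebraMap A A')) (Matrix.SpecialLinearGroup.toGL s) ∈
        commutator (Matrix.GeneralLinearGroup (Fin n) A') := by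
  classical
  obtain ⟨P, hPu, hmap⟩ : ∃ P : StandardEtalePair A,
      (∃ u : P.Ringˣ, IsUnit ((u : P.Ring) - 1)) ∧
        ∀ (Ω : Type u) [Field Ω] [IsAlgClosed Ω] [Algebra A Ω],
          RingHom.ker (algebraMap A Ω) = p.asIdeal → ∃ x : Ω, P.HasMap x := by
    by_cases h3 : (3 : A) ∈ p.asIdeal
    · refine ⟨⟨Polynomial.X ^ 2 - Polynomial.X - 1, by monicity!, Polynomial.C 5,
        ⟨2 * Polynomial.X - 1, -4, 1, ?_⟩⟩, ?_, ?_⟩
      · simp [map_ofNat]; ring
      · let P : StandardEtalePair A := ⟨Polynomial.X ^ 2 - Polynomial.X - 1, by monicity!, Polynomial.C 5,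
          ⟨2 * Polynomial.X - 1, -4, 1, by simp [map_ofNat]; ring⟩⟩
        obtain ⟨h0, -⟩ := P.hasMap_X
        have h1 : P.X * (P.X - 1) = 1 := by
          simp [P] at h0
          linear_combination h0
        refine ⟨Units.mkOfMulEqOne _ _ h1, ?_⟩
        exact IsUnit.of_mul_eq_one P.X (by show (P.X - 1) * P.X = 1; linear_combination h1)
      · intro Ω _ _ _ hker
        obtain ⟨x, hx⟩ := IsAlgClosed.exists_root ((Polynomial.X ^ 2 - Polynomial.X - 1 : Polynomial Ω)) (by
          rw [show (Polynomial.X ^ 2 - Polynomial.X - 1 : Polynomial Ω) = Polynomial.C 1 * Polynomial.X ^ 2 +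
            Polynomial.C (-1) * Polynomial.X + Polynomial.C (-1) by simp; ring, Polynomial.degree_quadratic one_ne_zero]
          decide)
        refine ⟨x, ?_, ?_⟩
        · simp [Polynomial.IsRoot] at hx ⊢
          linear_combination hx
        · refine isUnit_iff_ne_zero.mpr ?_
          rw [Polynomial.aeval_C]
          intro h5
          have h5' : (5 : A) ∈ p.asIdeal := hker ▸ (RingHom.mem_ker.mpr h5)
          apply p.2.ne_top
          rw [Ideal.eq_top_iff_one, show (1 : A) = 2 * 3 - 5 by norm_num]
          exact p.asIdeal.sub_mem (p.asIdeal.mul_mem_left _ h3) h5'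
    · refine ⟨⟨Polynomial.X ^ 2 + Polynomial.X + 1, by monicity!, Polynomial.C 3,
        ⟨-(2 * Polynomial.X + 1), 4, 1, ?_⟩⟩, ?_, ?_⟩
      · simp [map_ofNat]; ring
      · let P : StandardEtalePair A := ⟨Polynomial.X ^ 2 + Polynomial.X + 1, by monicity!, Polynomial.C 3,
          ⟨-(2 * Polynomial.X + 1), 4, 1, by simp [map_ofNat]; ring⟩⟩
        obtain ⟨h0, h3u⟩ := P.hasMap_X
        have h1 : P.X * (-(P.X + 1)) = 1 := by
          simp [P] at h0
          linear_combination -h0
        refine ⟨Units.mkOfMulEqOne _ _ h1, ?_⟩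
        have h3' : IsUnit (3 : P.Ring) := by simpa [P, map_ofNat] using h3u
        obtain ⟨v, hv⟩ := h3'
        refine IsUnit.of_mul_eq_one (-(P.X + 2) * ((v⁻¹ : P.Ringˣ) : P.Ring)) ?_
        calc (P.X - 1) * (-(P.X + 2) * ((v⁻¹ : P.Ringˣ) : P.Ring))
            = (3 : P.Ring) * ((v⁻¹ : P.Ringˣ) : P.Ring) := by linear_combination ((v⁻¹ : P.Ringˣ) : P.Ring) * h1
          _ = 1 := by rw [← hv, Units.mul_inv]
      · intro Ω _ _ _ hker
        obtain ⟨x, hx⟩ := IsAlgClosed.exists_root ((Polynomial.X ^ 2 + Polynomial.X + 1 : Polynomial Ω)) (by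
          rw [show (Polynomial.X ^ 2 + Polynomial.X + 1 : Polynomial Ω) = Polynomial.C 1 * Polynomial.X ^ 2 +
            Polynomial.C 1 * Polynomial.X + Polynomial.C 1 by simp, Polynomial.degree_quadratic one_ne_zero]
          decide)
        refine ⟨x, ?_, ?_⟩
        · simp [Polynomial.IsRoot] at hx ⊢
          linear_combination hx
        · refine isUnit_iff_ne_zero.mpr ?_
          rw [Polynomial.aeval_C]
          exact fun h => h3 (hker ▸ (RingHom.mem_ker.mpr h))
  obtain ⟨u, hu⟩ := hPu
  let Ω := AlgebraicClosure p.asIdeal.ResidueField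
  have hker : RingHom.ker (algebraMap A Ω) = p.asIdeal := by
    rw [IsScalarTower.algebraMap_eq A p.asIdeal.ResidueField Ω, RingHom.ker_comp_of_injective _
      (algebraMap p.asIdeal.ResidueField Ω).injective, Ideal.ker_algebraMap_residueField]
  obtain ⟨x, hx⟩ := hmap Ω hker
  let φ : P.Ring →ₐ[A] Ω := P.lift x hx
  let q : Ideal P.Ring := RingHom.ker φ.toRingHom
  have : q.IsPrime := RingHom.ker_isPrime φ.toRingHom
  have hq : q.comap (algebraMap A P.Ring) = p.asIdeal := by
    rw [← hker]
    ext a
    simp [q, RingHom.mem_ker]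
  let sR : GL (Fin n) P.Ring := Matrix.GeneralLinearGroup.map (algebraMap A P.Ring) (Matrix.SpecialLinearGroup.toGL s)
  let uq : (Localization.AtPrime q)ˣ := u.map (algebraMap P.Ring (Localization.AtPrime q)).toMonoidHom
  have huq : IsUnit ((uq : Localization.AtPrime q) - 1) := by
    have := hu.map (algebraMap P.Ring (Localization.AtPrime q))
    rwa [map_sub, map_one] at this
  have hdet : ((sR : GL (Fin n) P.Ring) : Matrix (Fin n) (Fin n) P.Ring).det = 1 := by
    show ((algebraMap A P.Ring).mapMatrix s.1).det = 1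
    rw [← RingHom.map_det, s.2, map_one]
  obtain ⟨g, hg, hmem⟩ := SLCommLib.exists_mem_commutator q sR (SLCommLib.mem_commutator uq huq _ (by
    show ((algebraMap P.Ring (Localization.AtPrime q)).mapMatrix sR.1).det = 1
    rw [← RingHom.map_det, hdet, map_one]))
  have : Algebra.Etale P.Ring (Localization.Away g) := Algebra.Etale.of_isLocalizationAway g
  have hd : Disjoint (Submonoid.powers g : Set P.Ring) q := by
    rw [Set.disjoint_left]
    rintro _ ⟨k, rfl⟩ hk
    exact hg (Ideal.IsPrime.mem_of_pow_mem ‹_› k hk)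
  refine ⟨Localization.Away g, inferInstance, inferInstance, Algebra.Etale.comp A P.Ring (Localization.Away g),
    ⟨⟨q.map (algebraMap P.Ring (Localization.Away g)),
      IsLocalization.isPrime_of_isPrime_disjoint (Submonoid.powers g) _ q ‹_› hd⟩, ?_⟩, ?_⟩
  · show (q.map (algebraMap P.Ring (Localization.Away g))).comap (algebraMap A (Localization.Away g)) = p.asIdeal
    rw [IsScalarTower.algebraMap_eq A P.Ring (Localization.Away g), ← Ideal.comap_comap]
    rw [← Ideal.under_def P.Ring]
    erw [IsLocalization.under_map_of_isPrime_disjoint (Submonoid.powers g) (Localization.Away g) inferInstance hd]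
    exact hq
  · convert hmem using 1
    refine Units.ext (Matrix.ext fun i j => ?_)
    exact IsScalarTower.algebraMap_apply A P.Ring (Localization.Away g) (s.1 i j)

end Groth.Agent.S5658
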