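import Groth.Statements.S5663
import Mathlib

-- import your own Groth.Agent.* helpers here

set_option autoImplicit false
universe u
open TensorProduct
open CAlg

namespace Groth.Agent.S5663

open TensorProduct

theorem not_mem_supp {A Q : Type u} [CommRing A] [AddCommGroup Q] [Module A Q] [Module.Finite A Q]
    (s : A) (h : ∀ x y : Q, s • (x ⊗ₜ[A] y : Q ⊗[A] Q) = 0) (p : PrimeSpectrum A) (hs : s ∉ p.asIdeal) :
    p ∉ Module.support A Q := by
  intro hp
  haveI := (Module.mem_support_iff_nontrivial_residueField_tensorProduct p).1 hp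
  let k := p.asIdeal.ResidueField
  obtain ⟨z, hz⟩ := exists_ne (0 : k ⊗[A] Q)
  obtain ⟨ψ, hψ⟩ := Module.Projective.exists_dual_ne_zero k hz
  let φ : Q →ₗ[A] k := (ψ.restrictScalars A) ∘ₗ (TensorProduct.mk A k Q 1)
  have hs' : algebraMap A k s ≠ 0 := fun h0 => hs (Ideal.algebraMap_residueField_eq_zero.1 h0)
  have hφ : ∀ x, φ x = 0 := fun x => by
    have h2 := congrArg (TensorProduct.lift ((LinearMap.mul A k).compl₁₂ φ φ)) (h x x)
    simp only [map_smul, TensorProduct.lift.tmul, LinearMap.compl₁₂_apply, LinearMap.mul_apply', map_zero] at h2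
    rw [Algebra.smul_def] at h2
    simpa [hs'] using h2
  apply hψ
  have : ψ.restrictScalars A = 0 := TensorProduct.ext' fun a x => by
    show ψ (a ⊗ₜ x) = 0
    rw [show a ⊗ₜ[A] x = a • ((1 : k) ⊗ₜ[A] x) by rw [TensorProduct.smul_tmul', smul_eq_mul, mul_one], map_smul,
      show ψ (1 ⊗ₜ x) = 0 from hφ x, smul_zero]
  exact LinearMap.congr_fun this z

theorem exists_stable {A M : Type u} [CommRing A] [IsNoetherianRing A] [AddCommGroup M] [Module A M]
    [Module.Finite A M] (I : Ideal A) (hI : ∀ a ∈ I, ∀ m : M, a • m = 0) (p : Ideal A) [p.IsPrime]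
    (hp : p ∈ I.minimalPrimes) (R : ℕ → Submodule A M) (hR : Antitone R) :
    ∃ i, ∀ x ∈ R i, ∃ s ∉ p, s • x ∈ R (i + 1) := by
  let Ap := Localization.AtPrime p
  let f := LocalizedModule.mkLinearMap p.primeCompl M
  let L : ℕ →o (Submodule Ap (LocalizedModule p.primeCompl M))ᵒᵈ :=
    ⟨fun i => OrderDual.toDual ((R i).localized' Ap p.primeCompl f), fun i j hij => by
      show (R j).localized' Ap p.primeCompl f ≤ (R i).localized' Ap p.primeCompl f
      rintro x hx
      rw [Submodule.mem_localized'] at hx ⊢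
      obtain ⟨m, hm, s, rfl⟩ := hx
      exact ⟨m, hR hij hm, s, rfl⟩⟩
  let J := I.map (algebraMap A Ap)
  have hk : ∀ a ∈ J, ∀ m : LocalizedModule p.primeCompl M, a • m = 0 := by
    intro a ha m
    induction ha using Submodule.span_induction with
    | mem b hb =>
      obtain ⟨c, hc, rfl⟩ := hb
      rw [algebraMap_smul]
      induction m using LocalizedModule.induction_on with
      | h y t => rw [LocalizedModule.smul'_mk, hI c hc, LocalizedModule.zero_mk]
    | zero => exact zero_smul _ _
    | add x y _ _ hx hy => rw [add_smul, hx, hy, add_zero]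
    | smul r x _ hx => rw [smul_assoc, hx, smul_zero]
  letI : Module (Ap ⧸ J) (LocalizedModule p.primeCompl M) :=
    Module.IsTorsionBySet.module (R := Ap) (fun m a => hk a a.2 m)
  haveI : IsScalarTower Ap (Ap ⧸ J) (LocalizedModule p.primeCompl M) := Module.IsTorsionBySet.isScalarTower _
  haveI : Ring.KrullDimLE 0 (Ap ⧸ J) := by
    refine .mk₀ fun P hP => ?_
    have : P.comap (Ideal.Quotient.mk J) = IsLocalRing.maximalIdeal Ap := by
      refine le_antisymm (IsLocalRing.le_maximalIdeal (Ideal.IsPrime.ne_top inferInstance)) ?_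
      let Q := P.comap (Ideal.Quotient.mk J)
      have h1 : I ≤ Q.comap (algebraMap A Ap) := fun a ha => by
        show Ideal.Quotient.mk J (algebraMap A Ap a) ∈ P
        rw [Ideal.Quotient.eq_zero_iff_mem.2 (Ideal.mem_map_of_mem _ ha)]; exact P.zero_mem
      have h2 : Q.comap (algebraMap A Ap) ≤ p := by
        have := Ideal.comap_mono (f := algebraMap A Ap) (IsLocalRing.le_maximalIdeal (J := Q) (Ideal.IsPrime.ne_top inferInstance))
        exact this.trans (IsLocalization.AtPrime.under_maximalIdeal Ap p).le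
      have h3 : p ≤ Q.comap (algebraMap A Ap) := hp.2 ⟨inferInstance, h1⟩ h2
      rw [← Localization.AtPrime.map_eq_maximalIdeal]
      exact Ideal.map_le_iff_le_comap.2 h3
    have hP' := Ideal.map_comap_of_surjective _ (Ideal.Quotient.mk_surjective (I := J)) P
    rw [this] at hP'
    exact hP' ▸ (Ideal.map_eq_top_or_isMaximal_of_surjective _ Ideal.Quotient.mk_surjective inferInstance).resolve_left
      fun e => hP.ne_top (hP'.symm.trans e)
  haveI : IsArtinianRing (Ap ⧸ J) := IsNoetherianRing.isArtinianRing_of_krullDimLE_zero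
  haveI : Module.Finite (Ap ⧸ J) (LocalizedModule p.primeCompl M) := Module.Finite.of_restrictScalars_finite Ap _ _
  haveI : IsArtinian Ap (LocalizedModule p.primeCompl M) :=
    isArtinian_of_surjective_algebraMap (R := Ap ⧸ J) Ideal.Quotient.mk_surjective
  obtain ⟨i, hi⟩ := IsArtinian.monotone_stabilizes L
  refine ⟨i, fun x hx => ?_⟩
  have h1 : f x ∈ (R (i + 1)).localized' Ap p.primeCompl f := by
    have h := hi (i + 1) i.le_succ
    rw [show (R (i + 1)).localized' Ap p.primeCompl f = (R i).localized' Ap p.primeCompl f from h.symm]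
    exact (Submodule.mem_localized' ..).2 ⟨x, hx, 1, IsLocalizedModule.mk'_one p.primeCompl f x⟩
  obtain ⟨m, hm, s, hs⟩ := (Submodule.mem_localized' ..).1 h1
  rw [IsLocalizedModule.mk'_eq_iff] at hs
  obtain ⟨t, ht⟩ := (IsLocalizedModule.eq_iff_exists p.primeCompl f).1
    (show f m = f ((s : A) • x) by rw [map_smul]; exact hs)
  refine ⟨(t * s : p.primeCompl), (t * s).2, ?_⟩
  rw [show ((t * s : p.primeCompl) : A) • x = t • ((s : A) • x) from mul_smul _ _ _, ← ht]
  exact (R (i + 1)).smul_mem _ hm


/-- Let A be a Noetherian ring and B a finite A-algebra with A → B injective (a finite schematically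
dominant morphism Spec B → Spec A). Define subalgebras B_0 = B and B_{i+1} = the equalizer of the
two maps B_i ⇉ B_i ⊗_A B_i, b ↦ b ⊗ 1, 1 ⊗ b. Then B_m = A (the image of A) for some m; equivalently
Spec B → Spec A factors as a finite chain of finite morphisms Spec B_i → Spec B_{i+1} each of which
is an effective epimorphism (B_{i+1} is the equalizer of B_i ⇉ B_i ⊗_{B_{i+1}} B_i). The sequence is
given here as any family C of subalgebras satisfying the recursion. (The published statement is for
a finite morphism X → Y of schemes with Y Noetherian and O_Y → f_*O_X injective; this row is the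
affine case.) -/
theorem result (A B : Type u) [CommRing A] [CommRing B] [Algebra A B]
    [IsNoetherianRing A] [Module.Finite A B] (hinj : Function.Injective (algebraMap A B))
    (C : ℕ → Subalgebra A B) (h0 : C 0 = ⊤)
    (hstep : ∀ (i : ℕ) (b : B), b ∈ C (i + 1) ↔ ∃ hb : b ∈ C i,
      ((⟨b, hb⟩ : C i) ⊗ₜ[A] (1 : C i) : C i ⊗[A] C i) = (1 : C i) ⊗ₜ[A] (⟨b, hb⟩ : C i)) :
    ∃ m : ℕ, C m = ⊥ := by
  classical
  have hle : ∀ i, C (i + 1) ≤ C i := fun i b hb => ((hstep i b).1 hb).1
  let q := (Subalgebra.toSubmodule (⊥ : Subalgebra A B)).mkQ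
  let R : ℕ → Submodule A (B ⧸ Subalgebra.toSubmodule (⊥ : Subalgebra A B)) := fun i => (Subalgebra.toSubmodule (C i)).map q
  have hR : Antitone R := antitone_nat_of_succ_le fun i => Submodule.map_mono (hle i)
  obtain ⟨N, hN⟩ := WellFoundedGT.monotone_chain_condition (α := Ideal A)
    ⟨fun i => (R i).annihilator, fun i j h => Submodule.annihilator_mono (hR h)⟩
  replace hN : ∀ j, N ≤ j → (R N).annihilator = (R j).annihilator := hN
  by_cases hI : (R N).annihilator = ⊤
  · refine ⟨N, le_antisymm (fun b hb => ?_) bot_le⟩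
    have h1 : q b = 0 := (Submodule.mem_annihilator.1 ((Ideal.eq_top_iff_one _).1 hI) (q b) ⟨b, hb, rfl⟩ |> fun h => by simpa using h)
    exact (Submodule.Quotient.mk_eq_zero _).1 h1
  exfalso
  obtain ⟨p, hp⟩ := Ideal.nonempty_minimalPrimes hI
  haveI := hp.1.1
  haveI : IsNoetherian A (B ⧸ Subalgebra.toSubmodule (⊥ : Subalgebra A B)) := inferInstance
  obtain ⟨j, hj⟩ := exists_stable (M := ↥(R N)) (R N).annihilator
    (fun a ha m => Subtype.ext (Submodule.mem_annihilator.1 ha m m.2)) p hp
    (fun j => (R (N + j)).comap (R N).subtype) (fun a b h => Submodule.comap_mono (hR (by omega)))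
  let i := N + j
  have hkey : ∀ x ∈ R i, ∃ s ∉ p, s • x ∈ R (i + 1) := fun x hx => hj ⟨x, hR (Nat.le_add_right N j) hx⟩ hx
  obtain ⟨G, hG⟩ := IsNoetherian.noetherian (R i)
  choose! s hs hs' using hkey
  let S := ∏ x ∈ G, s x
  have hS : S ∉ p := fun h => by
    obtain ⟨x, hx, hxp⟩ := (Ideal.IsPrime.prod_mem_iff).1 h
    exact hs x (hG ▸ Submodule.subset_span hx) hxp
  have hSR : ∀ x ∈ R i, S • x ∈ R (i + 1) := fun x hx => by
    rw [← hG] at hx
    induction hx using Submodule.span_induction with
    | mem y hy =>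
      rw [show S = (∏ z ∈ G.erase y, s z) * s y from (Finset.prod_erase_mul _ _ hy).symm, mul_smul]
      exact Submodule.smul_mem _ _ (hs' y (hG ▸ Submodule.subset_span hy))
    | zero => simp
    | add a b _ _ ha hb => rw [smul_add]; exact add_mem ha hb
    | smul r a _ ha => rw [smul_comm]; exact Submodule.smul_mem _ _ ha
  refine not_mem_supp (Q := ↥(R i)) S ?_ ⟨p, inferInstance⟩ hS ?_
  · rintro ⟨_, c, hc, rfl⟩ ⟨_, d, hd, rfl⟩
    let π : C i →ₗ[A] R i := q.restrict (p := Subalgebra.toSubmodule (C i)) (q := R i) fun z hz => ⟨z, hz, rfl⟩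
    have hSc : S • c ∈ C (i + 1) := by
      obtain ⟨e, he, hqe⟩ := hSR _ ⟨c, hc, rfl⟩
      have h1 : e - S • c ∈ Subalgebra.toSubmodule (⊥ : Subalgebra A B) :=
        (Submodule.Quotient.eq _).1 (hqe.trans (q.map_smul S c).symm)
      obtain ⟨a, ha⟩ := Algebra.mem_bot.1 h1
      rw [show S • c = e - algebraMap A B a by rw [ha]; abel]
      exact sub_mem he ((C (i + 1)).algebraMap_mem a)
    obtain ⟨hm, he⟩ := (hstep i _).1 hSc
    let C' : C i := ⟨c, hc⟩
    let D' : C i := ⟨d, hd⟩
    have h2 : S • (C' ⊗ₜ[A] D') = (1 : C i) ⊗ₜ[A] ((S • C') * D') := by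
      have h := congrArg (· * ((1 : C i) ⊗ₜ[A] D')) he
      simp only [Algebra.TensorProduct.tmul_mul_tmul, one_mul, mul_one] at h
      rw [TensorProduct.smul_tmul']
      exact h
    have h3 := congrArg (TensorProduct.map π π) h2
    rw [map_smul, TensorProduct.map_tmul, TensorProduct.map_tmul, show π 1 = 0 from Subtype.ext
      ((Submodule.Quotient.mk_eq_zero _).2 (one_mem (⊥ : Subalgebra A B))), TensorProduct.zero_tmul] at h3
    exact h3
  · haveI : Module.Finite A ↥(R i) := inferInstance
    rw [Module.support_eq_zeroLocus, show Module.annihilator A ↥(R i) = (R i).annihilator from rfl,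
      ← hN i (Nat.le_add_right N j)]
    exact hp.1.2

end Groth.Agent.S5663
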