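import Groth.Statements.S5667
import Groth.Agent.AdjFormLib.SmoothDual
import Groth.Agent.S11316
import Groth.Agent.H0Lib.Field
import Groth.Agent.GenusZeroLib.Mult
import Groth.Agent.AlgSpLib.ReducedSmooth
import Groth.Agent.Formal2VBLib.Dual
import Groth.Agent.FLILib.Invertible

set_option autoImplicit false
universe u
open CategoryTheory CategoryTheory.Limits AlgebraicGeometry
open ProjDual

set_option backward.isDefEq.respectTransparency false

namespace Groth.Agent.S5667

/-- Global functions are constants. -/
theorem finrank_h0 (k : Type u) [Field k] [IsAlgClosed k] (X : Scheme.{u}) [X.Over (Spec (CommRingCat.of k))]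
    [IsProper (X ↘ Spec (CommRingCat.of k))] [AlgebraicGeometry.IsReduced X] [ConnectedSpace X] :
    Module.finrank k (Coh.HH X (Coh.structureModule X) 0) = 1 := by
  haveI := H0Lib.isIso_appTop_of_isAlgClosed (X ↘ (Spec (CommRingCat.of k)))
  letI := GenusZeroLib.kmod k (X := X) (Coh.structureModule X)
  rw [(GenusZeroLib.e0k k (Coh.structureModule X)).finrank_eq]
  let F := (Scheme.ΓSpecIso (CommRingCat.of k)).inv ≫ (X ↘ Spec (CommRingCat.of k)).appTop
  have hF : Function.Bijective F.hom := ConcreteCategory.bijective_of_isIso F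
  refine Eq.trans (LinearEquiv.finrank_eq ?_).symm (Module.finrank_self k)
  refine LinearEquiv.ofBijective
    { toFun := fun r => (show Γ(Coh.structureModule X, ⊤) from F.hom r)
      map_add' := fun a b => map_add F.hom a b
      map_smul' := fun a b => map_mul F.hom a b } hF

/-- Let `k` be an algebraically closed field and `X` a connected nonsingular projective variety of
dimension `n` over `k` — here: a connected `k`-scheme, smooth of relative dimension `n` over `k`,
with a closed immersion into some projective space `P^r_k` over `k` — and let `L` be an `n`-th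
exterior power of the sheaf of differentials of `X` over `k` (the sheaf of `n`-forms). Then `H^n(X,
L)` is a `k`-vector space of dimension `1`. (The source says more: the fundamental class of a point
is a basis; only the dimension is stated here.) -/
theorem result (k : Type u) [Field k] [IsAlgClosed k] (n r : ℕ) (X : Scheme.{u}) [X.Over (Spec (CommRingCat.of k))] [SmoothOfRelativeDimension n (X ↘ Spec (CommRingCat.of k))] [ConnectedSpace X] (ι : X ⟶ CohB1.ProjSpace r k) [IsClosedImmersion ι] (hι : ι ≫ CohB1.ProjSpace.toSpec r k = X ↘ Spec (CommRingCat.of k)) (L : X.Modules) (hL : ExtPow.IsExtPow n (Omega.sheaf (X ↘ Spec (CommRingCat.of k))) L) : Module.finrank k (Coh.HH X L n) = 1 := by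
  haveI : HasExt.{u} X.Modules := hasExt_of_enoughInjectives.{u} _
  haveI : IsProper (CohB1.ProjSpace.toSpec r k) := ProjDegLib.toSpec_isProper k r
  haveI : IsProper (X ↘ Spec (CommRingCat.of k)) := by rw [← hι]; infer_instance
  haveI : Smooth (X ↘ Spec (CommRingCat.of k)) := SmoothOfRelativeDimension.smooth n _
  haveI : AlgebraicGeometry.IsReduced X := AlgSpLib.isReduced_of_smooth (X ↘ Spec (CommRingCat.of k))
  haveI : IsLocallyNoetherian X := LocallyOfFiniteType.isLocallyNoetherian (X ↘ Spec (CommRingCat.of k))
  obtain ⟨D, rfl, hDs⟩ := AdjFormLib.nonempty_dualData_smooth k r n X ι hι L hL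
  have hO := CurvLib.isCoh_of_isInvertible (CurvLib.isInvertible_structureModule (X := X))
  obtain ⟨e₁⟩ := PnDualLib.nonempty_extX_dual D (Coh.structureModule X) hO n le_rfl hDs.ge
  obtain ⟨e₂⟩ := PnDualLib.nonempty_ext_homMod (Formal2VBLib.isFinLocFree_structureModule X) k n D.ω
  rw [Nat.sub_self] at e₁
  let w : CohCmpLib.homMod (Coh.structureModule X) D.ω ≅ D.ω :=
    FLI.homModIso (KFlatLib.tensUnitIso (Coh.structureModule X)) D.ω ≪≫ KFlatLib.tensUnitIso _
  haveI : Module.Finite k (Coh.HH X (Coh.structureModule X) 0) := CurvLib.finite_HH hO 0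
  rw [← ((e₁.symm ≪≫ₗ e₂ ≪≫ₗ PnDualLib.hMapIso k w n)).finrank_eq, Subspace.dual_finrank_eq]
  exact finrank_h0 k X

end Groth.Agent.S5667
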