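import Groth.Statements.S5670
import Groth.Agent.ClopenFFLib.Topo
import Groth.Agent.SteinLib.Conn

set_option autoImplicit false
universe u
open Pi1

namespace Groth.Agent.S5670

open CategoryTheory CategoryTheory.Limits AlgebraicGeometry in
/-- Let `f : X → Y` be a proper morphism of Noetherian schemes such that `O_Y → f_* O_X` is an
isomorphism (bijective on sections over every open of `Y`). Then for every connected finite étale
`Y'` over `Y`, the base change `X ×_Y Y'` is connected; equivalently, `f` induces a surjection on
étale fundamental groups. -/
theorem result {X Y Y' : Scheme.{u}} (f : X ⟶ Y) [IsProper f] [IsNoetherian X] [IsNoetherian Y] (hf : ∀ U : Y.Opens, Function.Bijective (f.app U)) (g : Y' ⟶ Y) [IsFinite g] [Etale g] [ConnectedSpace Y'] : ConnectedSpace ↥(pullback f g) := by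
  haveI := SteinLib.geometricallyConnected_of_isIso_app f fun U _ =>
    (ConcreteCategory.isIso_iff_bijective (f.app U)).2 (hf U)
  exact ClopenFFLib.connectedSpace_of_quotientMap (pullback.snd f g).base
    ((pullback.snd f g).isClosedMap.isQuotientMap (pullback.snd f g).continuous (pullback.snd f g).surjective)
    fun y => ((pullback.snd f g).isConnected_preimage_singleton y).isPreconnected

end Groth.Agent.S5670
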