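import Groth.Statements.S5672
import Mathlib
import Groth.Agent.DualExtLib.HomTop
-- import your own Groth.Agent.* helpers here

set_option autoImplicit false
universe u
open CategoryTheory
open Dual

namespace Groth.Agent.S5672

/-- Let `A` be a regular local ring of dimension `n`, `J` an ideal with `dim(A/J) ≤ n - p`, and `M` a
finite `A`-module with `JM = 0`. For `ξ ∈ Ext^p_A(M, A)` and an `A`-linear `u : A/J → M` write `u^*ξ
∈ Ext^p_A(A/J, A)` for the pullback. Then `ξ ↦ (u ↦ u^*ξ)` is injective, and every `A`-linear map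
`Hom_A(A/J, M) → Ext^p_A(A/J, A)` is of the form `u ↦ u^*ξ` for some `ξ`. Since `Hom_A(A/J, M) = M`
here, this says that the canonical map `Ext^p_A(M, A) → Hom_A(M, Ext^p_A(A/J, A))` is bijective. -/
theorem result (A : Type u) [CommRing A] [IsRegularLocalRing A] (p : ℕ) (J : Ideal A) (hJ : ringKrullDim (A ⧸ J) + p ≤ ringKrullDim A) (M : Type u) [AddCommGroup M] [Module A M] [Module.Finite A M] (hJM : J • (⊤ : Submodule A M) = ⊥) : Function.Injective (fun ξ : Abelian.Ext (ModuleCat.of A M) (ModuleCat.of A A) p => fun u : (A ⧸ J) →ₗ[A] M => (Abelian.Ext.mk₀ (ModuleCat.ofHom u)).comp ξ (zero_add p)) ∧ ∀ g : ((A ⧸ J) →ₗ[A] M) →ₗ[A] Abelian.Ext (ModuleCat.of A (A ⧸ J)) (ModuleCat.of A A) p, ∃ ξ : Abelian.Ext (ModuleCat.of A M) (ModuleCat.of A A) p, ∀ u : (A ⧸ J) →ₗ[A] M, g u = (Abelian.Ext.mk₀ (ModuleCat.ofHom u)).comp ξ (zero_add p) := by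
  have hM : ∀ a ∈ J, ∀ m : M, a • m = 0 := by
    intro a ha m
    have hmem := Submodule.smul_mem_smul ha (Submodule.mem_top (x := m))
    rw [hJM] at hmem
    exact hmem
  refine ⟨fun ξ ξ' h => ?_, fun g => DualExtLib.pullback_surjective hJ M hM g⟩
  rw [← sub_eq_zero]
  refine DualExtLib.pullback_injective hJ M hM _ fun u => ?_
  have h2 := congrFun h u
  have h3 := ((Abelian.Ext.mk₀ (ModuleCat.ofHom u)).precomp (ModuleCat.of A A) (zero_add p)).map_sub ξ ξ'
  exact h3.trans (sub_eq_zero.2 h2)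

end Groth.Agent.S5672
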