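import Groth.Statements.S5675
import Mathlib
import Groth.Agent.DualTopOmegaLib.Main
import Groth.Agent.S5665
-- import your own Groth.Agent.* helpers here

set_option autoImplicit false
set_option maxHeartbeats 2000000
set_option backward.isDefEq.respectTransparency false
universe u
open CategoryTheory
open Dual

namespace Groth.Agent.S5675

/-- Let `k` be a perfect field, `A` a regular affine `k`-algebra of dimension `n` — here: `A` finitely
generated and smooth over `k` with `Ω_{A/k}` of rank `n` at every prime — and `xs = (x_1, …, x_p)`,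
`p ≤ n`, a sequence with each `x_i` a non-zero-divisor on `A/(x_1, …, x_{i-1})`, generating an ideal
`J` such that `A/J` is again a regular (smooth) affine `k`-algebra. Write `Ω^m` for `m`-th exterior
powers of Kähler differentials. Then `Ext^p_A(Ω^(n-p)(A/J), Ω^n(A))` is isomorphic to `A/J` as an
`A`-module. (Existence of an `A`-linear isomorphism only; the published one is canonical and
compatible with localisation, its unit being the fundamental class of `J` in `A`.) -/
theorem result (k : Type u) [Field k] [PerfectField k] (A : Type u) [CommRing A] [Algebra k A] [Algebra.FiniteType k A] [Algebra.Smooth k A] (n : ℕ) (hn : ∀ q : PrimeSpectrum A, Module.rankAtStalk (Ω[A⁄k]) q = n) (xs : List A) (hreg : RingTheory.Sequence.IsWeaklyRegular A xs) (J : Ideal A) (hJ : Ideal.ofList xs = J) [Algebra.Smooth k (A ⧸ J)] (p : ℕ) (hp : xs.length = p) (hpn : p ≤ n) : Nonempty (Abelian.Ext (ModuleCat.of A ↥((⋀[A ⧸ J]^(n - p) (Ω[(A ⧸ J)⁄k])).restrictScalars A)) (ModuleCat.of A ↥(⋀[A]^n (Ω[A⁄k]))) p ≃ₗ[A] (A ⧸ J)) := by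
  classical
  subst hJ hp
  let J : Ideal A := Ideal.ofList xs
  let B := A ⧸ J
  have hs : Function.Surjective (algebraMap A B) := Ideal.Quotient.mk_surjective
  let f : Fin xs.length → A := xs.get
  have hrange : Ideal.span (Set.range f) = J := by
    show Ideal.span (Set.range xs.get) = Ideal.span {r | r ∈ xs}
    rw [Set.range_list_get]
  have hker : RingHom.ker (algebraMap A B) = Ideal.span (Set.range f) := by
    rw [hrange]
    exact Ideal.mk_ker
  have hsyz : ∀ c : Fin xs.length → A, ∑ i, c i * f i = 0 → ∀ i, c i ∈ Ideal.span (Set.range f) := by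
    refine DualTopOmegaLib.syzygy _ f fun i c hc => ?_
    have him : Ideal.ofList (xs.take i) • (⊤ : Submodule A A) = Ideal.span (f '' {j | j < i}) := by
      rw [smul_eq_mul, Ideal.mul_top]
      show Ideal.span {r | r ∈ xs.take i} = _
      congr 1
      ext r
      simp only [Set.mem_setOf_eq, List.mem_take_iff_getElem, Set.mem_image]
      constructor
      · rintro ⟨j, hj, rfl⟩
        exact ⟨⟨j, by omega⟩, show j < i.val by omega, rfl⟩
      · rintro ⟨j, hj, rfl⟩
        exact ⟨j.val, lt_min hj j.2, rfl⟩
    have h := hreg.regular_mod_prev i i.2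
    rw [him] at h
    have h0 : xs[(i : ℕ)] • (Submodule.Quotient.mk c : A ⧸ Ideal.span (f '' {j | j < i})) = xs[(i : ℕ)] • 0 := by
      rw [smul_zero, ← Submodule.Quotient.mk_smul, Submodule.Quotient.mk_eq_zero, smul_eq_mul, mul_comm]
      exact hc
    exact (Submodule.Quotient.mk_eq_zero _).1 (h h0)
  obtain ⟨hinv, ⟨e1⟩⟩ :=
    DualTopOmegaLib.nonempty_top_wedge_equiv (k := k) (B := B) hs hpn f hker hsyz hn
  haveI := hinv
  let F := ↥(⋀[A]^n (Ω[A⁄k]))
  let N := ↥(⋀[B]^(n - xs.length) (Ω[B⁄k]))
  obtain ⟨e2⟩ := Groth.Agent.S5665.result A xs hreg F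
  let e3 : N ≃ₗ[A] (F ⧸ (J • ⊤ : Submodule A F)) :=
    (e1.restrictScalars A).trans (TensorProduct.quotTensorEquivQuotSMul F J)
  let θ : B →ₗ[A] (N →ₗ[A] N) :=
    { toFun := fun b =>
        { toFun := fun x => b • x
          map_add' := smul_add b
          map_smul' := fun r x => smul_comm b r x }
      map_add' := fun a b => LinearMap.ext fun x => add_smul a b x
      map_smul' := fun r b => LinearMap.ext fun x => smul_assoc r b x }
  have hθ : Function.Bijective θ := by
    constructor
    · intro a b h
      exact (Module.Invertible.toModuleEnd_bijective (R := B) (M := N)).1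
        (LinearMap.ext fun x => LinearMap.congr_fun h x)
    · intro g
      let g' : N →ₗ[B] N :=
        { g with
          map_smul' := fun b x => by
            obtain ⟨a, rfl⟩ := hs b
            show g (algebraMap A B a • x) = algebraMap A B a • g x
            rw [algebraMap_smul, algebraMap_smul, map_smul] }
      obtain ⟨b, hb⟩ := (Module.Invertible.toModuleEnd_bijective (R := B) (M := N)).2 g'
      exact ⟨b, LinearMap.ext fun x => LinearMap.congr_fun hb x⟩
  let e4 := (LinearEquiv.ofBijective _
    (DualTopOmegaLib.phi_bijective (A := A) (B := B) (N := N) (ModuleCat.of A F) xs.length hs))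
  exact ⟨((e4.trans (LinearEquiv.congrRight (e2.trans e3.symm))).trans
    (LinearEquiv.ofBijective θ hθ).symm)⟩

end Groth.Agent.S5675
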