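import Groth.Statements.S5679
import Groth.Agent.NeutralGenLib.Basic

set_option autoImplicit false
set_option backward.isDefEq.respectTransparency false
set_option backward.isDefEq.respectTransparency.types false
set_option maxHeartbeats 1000000
set_option synthInstance.maxHeartbeats 400000
universe u
open CategoryTheory CategoryTheory.Limits MonoidalCategory CartesianMonoidalCategory MonObj GrpObj AlgebraicGeometry
open FGA

set_option backward.isDefEq.respectTransparency false
namespace Groth.Agent.S5679

/-- Let S be a nonempty locally Noetherian scheme and G a group scheme locally of finite type over S.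
Then there are a nonempty open subset U of S, a group scheme H of finite type over U with connected
fibres, and a homomorphism from H to the base change of G to U which is an open immersion and whose
image in G is the set of points lying over U in the union of the connected components of the
identity of the fibres of G. -/
theorem result (S : Scheme.{u}) [IsLocallyNoetherian S] [Nonempty ↥S]
    (G : Over S) [GrpObj G] [LocallyOfFiniteType G.hom] :
    ∃ U : S.Opens, (U : Set ↥S).Nonempty ∧
      ∃ (H : Over (U : Scheme.{u})) (_ : GrpObj H) (i : H ⟶ Red.bc U.ι G), IsMonHom i ∧ IsOpenImmersion i.left ∧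
        QuasiCompact H.hom ∧ LocallyOfFiniteType H.hom ∧
        (∀ u : ↥(U : Scheme.{u}), _root_.IsConnected (H.hom.base ⁻¹' {u})) ∧
        Set.range (i.left ≫ pullback.fst G.hom U.ι).base = SGA3x.neutralSet G ∩ G.hom.base ⁻¹' (U : Set ↥S) := by
  obtain ⟨s₀⟩ := ‹Nonempty ↥S›
  have hirr : IsIrreducible (irreducibleComponent s₀) := isIrreducible_irreducibleComponent
  obtain ⟨η₀, hη₀⟩ := QuasiSober.sober hirr isClosed_irreducibleComponent
  have hmax : ∀ z : S, z ⤳ η₀ → z = η₀ := by
    intro z hz
    have hsub : irreducibleComponent s₀ ⊆ closure {z} := by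
      rw [← hη₀]
      exact closure_minimal (Set.singleton_subset_iff.2 hz.mem_closure) isClosed_closure
    have he : irreducibleComponent s₀ = closure {z} :=
      Set.Subset.antisymm hsub ((irreducibleComponent_property s₀).2.2 _ isPreirreducible_singleton.closure hsub).subset
    exact (show IsGenericPoint z (irreducibleComponent s₀) from he.symm).eq hη₀
  obtain ⟨U, hηU, hU, hopen, hcpt⟩ := Groth.Agent.NeutralGen.exists_open_compact_neutralSet (G := G) η₀ hmax
  let GU := Red.bc U.ι G
  let p := pullback.fst G.hom U.ι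
  have hrange : Set.range p = G.hom.base ⁻¹' (U : Set ↥S) := by
    rw [IsOpenImmersion.range_pullbackFst, Scheme.Opens.opensRange_ι]
    rfl
  have hN : SGA3x.neutralSet GU = p.base ⁻¹' (SGA3x.neutralSet G ∩ G.hom.base ⁻¹' (U : Set ↥S)) := by
    rw [Set.preimage_inter, ← hrange, Set.preimage_range, Set.inter_univ]
    exact Groth.Agent.NeutralSch.neutralSet_bc U.ι
  let O : GU.left.Opens := ⟨SGA3x.neutralSet GU, hN ▸ hopen.preimage p.continuous⟩
  let i : Over.mk (O.ι ≫ GU.hom) ⟶ GU := Over.homMk O.ι rfl
  haveI : Mono i := (Over.forget _).mono_of_mono_map (inferInstanceAs (Mono O.ι))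
  have hfac : ∀ {Y : Over (U : Scheme.{u})} (g : Y ⟶ GU),
      (∃ z, z ≫ i = g) ↔ ∀ y, g.left y ∈ SGA3x.neutralSet GU := fun {Y} g => by
    refine ⟨?_, fun h => ?_⟩
    · rintro ⟨z, rfl⟩ y
      rw [Over.comp_left, Scheme.Hom.comp_apply]
      exact ((z.left y).2 :)
    · let l := IsOpenImmersion.lift O.ι g.left (by rw [Scheme.Opens.range_ι]; rintro _ ⟨y, rfl⟩; exact h y)
      refine ⟨Over.homMk l ?_, by ext1; exact IsOpenImmersion.lift_fac _ _ _⟩
      show l ≫ O.ι ≫ GU.hom = Y.hom
      rw [IsOpenImmersion.lift_fac_assoc, Over.w]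
  obtain ⟨hg, hmon⟩ := WeilRes.exists_grpObj_of_pred i (fun {Y} g => ∀ y, g.left y ∈ SGA3x.neutralSet GU) hfac
    (fun y => by rw [Groth.Agent.NeutralSch.one_left_apply]; exact Groth.Agent.NeutralSch.us_mem _)
    (fun a b ha hb y => Groth.Agent.NeutralSch.mul_mem a b y (ha y) (hb y))
    (fun a ha y => Groth.Agent.NeutralSch.inv_mem a y (ha y))
  have hOc : IsCompact (O : Set ↥GU.left) := by
    show IsCompact (SGA3x.neutralSet GU)
    rw [hN]
    refine (p.isOpenEmbedding.isEmbedding.isCompact_iff).2 ?_
    rw [Set.image_preimage_eq_of_subset (hrange ▸ Set.inter_subset_right)]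
    exact hcpt
  refine ⟨U, ⟨η₀, hηU⟩, Over.mk (O.ι ≫ GU.hom), hg, i, hmon, inferInstanceAs (IsOpenImmersion O.ι), ?_, ?_, ?_, ?_⟩
  · haveI : IsAffine U.toScheme := hU
    haveI : CompactSpace O.toScheme := isCompact_iff_compactSpace.1 hOc
    show QuasiCompact (O.ι ≫ GU.hom)
    exact (quasiCompact_iff_compactSpace _).2 inferInstance
  · haveI : LocallyOfFiniteType GU.hom := inferInstanceAs (LocallyOfFiniteType (pullback.snd G.hom U.ι))
    show LocallyOfFiniteType (O.ι ≫ GU.hom)
    infer_instance
  · intro u
    haveI : LocallyOfFiniteType GU.hom := inferInstanceAs (LocallyOfFiniteType (pullback.snd G.hom U.ι))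
    have himg : O.ι '' ((O.ι ≫ GU.hom).base ⁻¹' {u}) = SGA3x.neutralSet GU ∩ GU.hom.base ⁻¹' {u} := by
      ext z
      constructor
      · rintro ⟨w, hw, rfl⟩
        exact ⟨w.2, hw⟩
      · rintro ⟨hz, hzu⟩
        exact ⟨⟨z, hz⟩, hzu, rfl⟩
    have hc : _root_.IsConnected (SGA3x.neutralSet GU ∩ GU.hom.base ⁻¹' {u}) := by
      rw [Groth.Agent.NeutralSch.neutralSet_inter_fibre]
      exact (Groth.Agent.NeutralSch.isIrreducible_comp GU u).isConnected
    rw [← himg] at hc
    exact ⟨Set.image_nonempty.1 hc.nonempty, (O.ι.isOpenEmbedding.isInducing.isPreconnected_image).1 hc.2⟩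
  · show Set.range (O.ι ≫ p).base = _
    rw [Scheme.Hom.comp_base, TopCat.coe_comp, Set.range_comp, Scheme.Opens.range_ι]
    show p.base '' (SGA3x.neutralSet GU) = _
    rw [hN, Set.image_preimage_eq_of_subset (hrange ▸ Set.inter_subset_right)]

end Groth.Agent.S5679
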