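import Groth.Statements.S5680
import Groth.Agent.RootLiftLib.Basic
import Groth.Agent.PicAlgzLib.System

set_option autoImplicit false
universe u
open CategoryTheory CategoryTheory.Limits AlgebraicGeometry
open FGA

namespace Groth.Agent.S5680

/-- Let A be an artinian local ring with maximal ideal m and ν ≥ 1 an integer with m^(ν+1) = 0; let X be
a scheme proper and flat over Spec A, n a natural number whose image in the residue field of A is
nonzero, L an invertible module on X and L' an invertible module on the closed subscheme X ×_A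
Spec(A/m^ν) whose n-th tensor power is isomorphic to the pullback of L. Then there is an invertible
module M on X whose n-th tensor power is isomorphic to L (existence of an isomorphism). -/
theorem result (A : Type u) [CommRing A] [IsArtinianRing A] [IsLocalRing A]
    (ν : ℕ) (hν : 1 ≤ ν) (hm : IsLocalRing.maximalIdeal A ^ (ν + 1) = ⊥)
    (X : Scheme.{u}) (f : X ⟶ Spec (CommRingCat.of A)) [IsProper f] [Flat f]
    (n : ℕ) (hn : (n : IsLocalRing.ResidueField A) ≠ 0)
    (L : X.Modules) (hL : PicF.IsInvertible L)
    (L' : (pullback f (Spec.map (CommRingCat.ofHom (Ideal.Quotient.mk (IsLocalRing.maximalIdeal A ^ ν))))).Modules)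
    (hL' : PicF.IsInvertible L')
    (hroot : Nonempty (CohB1.tensorPow L' n ≅
      (Scheme.Modules.pullback (pullback.fst f (Spec.map (CommRingCat.ofHom (Ideal.Quotient.mk (IsLocalRing.maximalIdeal A ^ ν)))))).obj L)) :
    ∃ M : X.Modules, PicF.IsInvertible M ∧ Nonempty (CohB1.tensorPow M n ≅ L) := by
  let m := IsLocalRing.maximalIdeal A
  let t := pullback.fst f (Spec.map (CommRingCat.ofHom (Ideal.Quotient.mk (m ^ ν))))
  haveI : IsClosedImmersion t := MorphismProperty.pullback_fst _ _
    (IsClosedImmersion.spec_of_surjective _ Ideal.Quotient.mk_surjective)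
  obtain ⟨μ, rfl⟩ : ∃ μ, ν = μ + 1 := ⟨ν - 1, by omega⟩
  have hI : t.ker * t.ker = ⊥ := by
    refine Scheme.IdealSheafData.ext (funext fun W => ?_)
    rw [Scheme.IdealSheafData.ideal_mul, Scheme.IdealSheafData.ideal_bot, Pi.mul_apply, Pi.bot_apply, ← le_bot_iff]
    refine (Ideal.mul_mono (PicAlgzLib.ker_incl_le m f μ W) (PicAlgzLib.ker_incl_le m f μ W)).trans ?_
    rw [← Ideal.map_mul, ← pow_add, pow_eq_zero_of_le (by omega) hm, Ideal.zero_eq_bot, Ideal.map_bot]
  have hu : IsUnit (n : Γ(X, ⊤)) := by
    have h : IsUnit (n : A) := IsLocalRing.notMem_maximalIdeal.1 fun h => hn (by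
      rw [← map_natCast (IsLocalRing.residue A)]; exact Ideal.Quotient.eq_zero_iff_mem.2 h)
    have := h.map ((Scheme.ΓSpecIso (CommRingCat.of A)).inv ≫ f.appTop).hom
    rwa [map_natCast] at this
  obtain ⟨M, hM, he, -⟩ := RootLiftLib.exists_root_lift t hI hu hL hL' hroot.some
  exact ⟨M, hM, he⟩

end Groth.Agent.S5680
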