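import Groth.Statements.S5682
import Groth.Agent.SemiAbLib.RedComp

set_option autoImplicit false
set_option backward.isDefEq.respectTransparency false
set_option linter.style.haveILetI false
set_option maxHeartbeats 1000000
universe u
open CategoryTheory CategoryTheory.Limits MonoidalCategory CartesianMonoidalCategory MonObj GrpObj AlgebraicGeometry
open FGA

namespace Groth.Agent.S5682

/-- Let k be a field and G a commutative group scheme of finite type over k such that the base change of
G to an algebraic closure of k contains no closed subgroup scheme isomorphic to the additive group.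
Then there is a closed subgroup scheme H of G which is smooth over k and whose underlying set is the
connected component of the identity point of G; in other words the reduced identity component of G
is a smooth subgroup scheme. -/
theorem result (k : Type u) [Field k]
    (G : Over (Spec (CommRingCat.of k))) [GrpObj G] [IsCommMonObj G] [LocallyOfFiniteType G.hom] [QuasiCompact G.hom]
    (hGa : ∀ pt : ↥(Spec (CommRingCat.of k)), SGA7.FibreUnipotentRankZero pt G)
    (pt : ↥(Spec (CommRingCat.of k))) :
    ∃ (H : Over (Spec (CommRingCat.of k))) (_ : GrpObj H) (i : H ⟶ G), IsMonHom i ∧ IsClosedImmersion i.left ∧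
      Smooth H.hom ∧ Set.range i.left.base = connectedComponent (η[G].left.base pt) := by
  letI K := AlgebraicClosure ((Spec (CommRingCat.of k)).residueField pt)
  letI : Algebra k (AlgebraicClosure ((Spec (CommRingCat.of k)).residueField pt)) :=
    (Spec.preimage (Red.geomPt pt)).hom.toAlgebra
  have h0 : ∀ j : Red.Ga (Spec (CommRingCat.of (AlgebraicClosure ((Spec (CommRingCat.of k)).residueField pt)))) ⟶
      Red.bc (Red.geomPt pt) G, IsMonHom j → IsClosedImmersion j.left → False := fun j => hGa pt j
  obtain ⟨H, hH1, i, hi, hic, hHs, hr⟩ := SemiAbLib.exists_smooth_component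
    (AlgebraicClosure ((Spec (CommRingCat.of k)).residueField pt)) G (Red.geomPt pt) (Spec.map_preimage _).symm h0
  refine ⟨H, hH1, i, hi, hic, hHs, ?_⟩
  rw [hr, ← Groth.Agent.GrpField.connectedComponent_unit]
  exact congrArg (fun z => connectedComponent (η[G].left.base z)) (@Subsingleton.elim (PrimeSpectrum k) _ _ pt)

end Groth.Agent.S5682
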