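import Groth.Statements.S5688
import Groth.Agent.PicRepLib.NeutralPicProper
import Groth.Agent.S4107

set_option autoImplicit false
universe u
open CategoryTheory CategoryTheory.Limits AlgebraicGeometry
open FGA

namespace Groth.Agent.S5688

/-- Let k be a field and X a scheme proper over k and geometrically normal (normal after every finite
field extension of k in the same universe); suppose the relative Picard functor of X over k,
sheafified for the etale topology, is represented by a k-scheme P locally of finite type through the
family of maps φ. Then there is a closed subscheme A of P which is smooth and proper over k and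
whose underlying set is the connected component of the identity point of P (the image of the class
of the structure sheaf); being reduced with underlying set a subgroup, A is the abelian subvariety
of P with underlying set the identity component. (The published statement assumes X normal; for a
regular projective curve over an imperfect field whose base change to an algebraic closure is a
cuspidal rational curve the identity component of the Picard scheme is unipotent and not proper, and
the published proof uses properness of the identity component, which needs the base change of X to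
every finite extension of k to be normal; so X is taken geometrically normal here.) -/
theorem result (k : Type u) [Field k] (X : Scheme.{u})
    (f : X ⟶ Spec (CommRingCat.of k)) [IsProper f]
    (hnorm : ∀ (k' : Type u) [Field k'] [Algebra k k'], Module.Finite k k' →
      Pi1.IsNormalScheme (pullback f (Spec.map (CommRingCat.ofHom (algebraMap k k')))))
    (P : Over (Spec (CommRingCat.of k))) [LocallyOfFiniteType P.hom]
    (φ : ∀ T : Over (Spec (CommRingCat.of k)), PicF.Cl (PicF.XT f T) → (T ⟶ P)) (hP : PicRel.IsRelPic f P φ)
    (pt : ↥(Spec (CommRingCat.of k))) :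
    ∃ (A : Scheme.{u}) (i : A ⟶ P.left), IsClosedImmersion i ∧ Smooth (i ≫ P.hom) ∧ IsProper (i ≫ P.hom) ∧
      Set.range i.base = connectedComponent ((φ (Over.mk (𝟙 _)) (PicF.cl (Coh.structureModule _))).left.base pt) := by
  obtain ⟨N, _, i, hio, hic, hN, hconn, hir⟩ := PicRepLib.exists_proper_neutral hnorm hP pt
  haveI := hio
  haveI := hic
  haveI := hN
  haveI := hconn
  obtain ⟨-, hsm, hAc⟩ := Groth.Agent.S4107.result k N
  let u : (CategoryTheory.MonoidalCategoryStruct.tensorUnit (Over (Spec (CommRingCat.of k)))).left ⟶ N.left :=
    (MonObj.one (X := N)).left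
  let ρ := N.left.toSpecΓ
  let j := pullback.fst ρ (u ≫ ρ)
  have hu : u ≫ N.hom = 𝟙 (Spec (CommRingCat.of k)) := Over.w (MonObj.one (X := N))
  have hρ : ρ ≫ Spec.map N.hom.appTop ≫ (Spec (CommRingCat.of k)).isoSpec.inv = N.hom := by
    rw [← Category.assoc, ← Scheme.toSpecΓ_naturality N.hom, Category.assoc, ← Scheme.isoSpec_hom, Iso.hom_inv_id]
    exact Category.comp_id _
  haveI : IsClosedImmersion (u ≫ ρ) := by
    have hp : (u ≫ ρ) ≫ Spec.map N.hom.appTop ≫ (Spec (CommRingCat.of k)).isoSpec.inv = 𝟙 _ := by
      rw [Category.assoc, hρ]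
      exact hu
    haveI : IsClosedImmersion ((u ≫ ρ) ≫ Spec.map N.hom.appTop ≫ (Spec (CommRingCat.of k)).isoSpec.inv) := by
      rw [hp]; infer_instance
    exact IsClosedImmersion.of_comp _ (Spec.map N.hom.appTop ≫ (Spec (CommRingCat.of k)).isoSpec.inv)
  haveI : IsClosedImmersion j := MorphismProperty.pullback_fst _ _ ‹_›
  haveI : IrreducibleSpace N.left := (Groth.Agent.GrpField.exists_identity_component (G := N)).elim
    fun N0 ⟨_, i0, _, _, _, hr, hg, _⟩ => by
      haveI := hg
      haveI : IrreducibleSpace N0.left := GeometricallyIrreducible.irreducibleSpace_of_subsingleton N0.hom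
      have h1 : Set.range i0.left = Set.univ := hr.trans (Groth.Agent.GrpField.Z0_eq_univ (G := N))
      haveI : PreirreducibleSpace N.left := ⟨h1 ▸ (Set.image_univ ▸
        (IrreducibleSpace.isIrreducible_univ N0.left).2.image _ i0.left.continuous.continuousOn)⟩
      exact ⟨⟨u (IsLocalRing.closedPoint k : PrimeSpectrum k)⟩⟩
  haveI : Surjective j := ⟨fun x => by
    have hint : N.hom.appTop.hom.IsIntegral := isIntegral_appTop_of_universallyClosed N.hom
    have hmax : ∀ q : PrimeSpectrum Γ(N.left, ⊤), q.asIdeal.IsMaximal := fun q => by
      haveI hf : IsField Γ(Spec (CommRingCat.of k), ⊤) :=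
        MulEquiv.isField (Field.toIsField k) (Scheme.ΓSpecIso (CommRingCat.of k)).commRingCatIsoToRingEquiv.toMulEquiv
      refine Ideal.isMaximal_of_isIntegral_of_isMaximal_comap' N.hom.appTop.hom hint q.asIdeal ?_
      letI := hf.toField
      rw [(Ideal.eq_bot_or_top (q.asIdeal.comap N.hom.appTop.hom)).resolve_right
        (Ideal.comap_ne_top _ q.isPrime.ne_top)]
      exact Ideal.bot_isMaximal
    let ξ := genericPoint N.left
    have hconst : ∀ y : N.left, ρ y = ρ ξ := fun y => by
      have h1 : ρ ξ ⤳ ρ y := (genericPoint_specializes y).map ρ.continuous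
      exact ((PrimeSpectrum.ext ((hmax (ρ ξ)).eq_of_le (hmax (ρ y)).ne_top
        ((PrimeSpectrum.le_iff_specializes (ρ ξ) (ρ y)).2 h1))) : ρ ξ = ρ y).symm
    obtain ⟨a, ha, -⟩ := Scheme.Pullback.exists_preimage_pullback (f := ρ) (g := u ≫ ρ) x
      (IsLocalRing.closedPoint k : PrimeSpectrum k)
      (by rw [Scheme.Hom.comp_apply]; exact (hconst _).trans (hconst _).symm)
    exact ⟨a, ha⟩⟩
  haveI : IsClosedImmersion i.left := hic
  refine ⟨_, j ≫ i.left, inferInstance, ?_, ?_, ?_⟩
  · have hs : (j ≫ i.left) ≫ P.hom = pullback.snd ρ (u ≫ ρ) ≫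
        (CategoryTheory.MonoidalCategoryStruct.tensorUnit (Over (Spec (CommRingCat.of k)))).hom := by
      rw [Category.assoc, Over.w i]
      show pullback.fst ρ (u ≫ ρ) ≫ N.hom = pullback.snd ρ (u ≫ ρ) ≫ 𝟙 _
      conv_lhs => rw [← hρ, pullback.condition_assoc, Category.assoc, hρ]
      exact congrArg (pullback.snd ρ (u ≫ ρ) ≫ ·) hu
    rw [hs]
    exact hsm
  · haveI : IsProper (i.left ≫ P.hom) := by rw [Over.w i]; exact hN
    rw [Category.assoc]
    infer_instance
  · show Set.range (j ≫ i.left) = _
    rw [Scheme.Hom.comp_base, TopCat.coe_comp, Set.range_comp, Set.range_eq_univ.2 j.surjective, Set.image_univ]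
    exact hir

end Groth.Agent.S5688
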