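import Groth.Statements.S5693
import Groth.Agent.NeutralSchLib.Global
import Groth.Agent.ConsLib.General
import Groth.Agent.DepthLib.Rectified

set_option autoImplicit false
universe u
open CategoryTheory CategoryTheory.Limits MonoidalCategory CartesianMonoidalCategory MonObj GrpObj AlgebraicGeometry
open FGA

namespace Groth.Agent.S5693

/-- Let S be a locally Noetherian scheme, G a commutative group scheme locally of finite type over S and
n ≥ 1 an integer. The set of points x of G for which n is the least positive integer such that the
n-th power morphism sends x into the union of the connected components of the identity of the fibres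
is locally constructible in G (the order function on the torsion-component set is locally
constructible). -/
theorem result (S : Scheme.{u}) [IsLocallyNoetherian S] (G : Over S) [GrpObj G]
    [IsCommMonObj G] [LocallyOfFiniteType G.hom] (n : ℕ) (hn : 0 < n) :
    Topology.IsLocallyConstructible {x : ↥G.left | ((𝟙 G : G ⟶ G) ^ n).left.base x ∈ SGA3x.neutralSet G ∧
      ∀ d : ℕ, 0 < d → d < n → ((𝟙 G : G ⟶ G) ^ d).left.base x ∉ SGA3x.neutralSet G} := by
  haveI : IsLocallyNoetherian G.left := LocallyOfFiniteType.isLocallyNoetherian G.hom
  haveI : LocallyOfFinitePresentation G.hom :=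
    LocallyOfFinitePresentation.iff_locallyOfFiniteType.2 inferInstance
  haveI : QuasiSeparated G.hom :=
    QuasiSeparated.of_comp G.hom (terminal.from S)
  have hN : Topology.IsLocallyConstructible (SGA3x.neutralSet G) :=
    Groth.Agent.NeutralSch.isLocallyConstructible_neutralSet
  have hd : ∀ d : ℕ, Topology.IsLocallyConstructible (((𝟙 G : G ⟶ G) ^ d).left.base ⁻¹' SGA3x.neutralSet G) :=
    fun d => ConsLib.isLocallyConstructible_preimage _ hN
  convert (hd n).inter (Topology.IsLocallyConstructible.iInter (f := fun d : Fin n =>
    if 0 < (d : ℕ) then (((𝟙 G : G ⟶ G) ^ (d : ℕ)).left.base ⁻¹' SGA3x.neutralSet G)ᶜ else Set.univ) fun d => by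
      split_ifs
      · exact DepthLib.isLocallyConstructible_compl (hd _)
      · exact Topology.IsLocallyConstructible.univ) using 1
  ext x
  simp only [Set.mem_inter_iff, Set.mem_iInter, Set.mem_setOf_eq]
  refine and_congr Iff.rfl ⟨fun h d => ?_, fun h d h0 hdn => ?_⟩
  · split_ifs with h0
    · exact h d h0 d.2
    · trivial
  · simpa [h0] using h ⟨d, hdn⟩

end Groth.Agent.S5693
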