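import Groth.Statements.S5694
import Groth.Agent.S5678
import Groth.Agent.TauSetLib.Open

set_option autoImplicit false
universe u
open CategoryTheory CategoryTheory.Limits MonoidalCategory CartesianMonoidalCategory MonObj GrpObj AlgebraicGeometry
open FGA

open TopologicalSpace Topology
open Groth.Agent.NeutralSch

set_option backward.isDefEq.respectTransparency false

namespace Groth.Agent.S5694

theorem cast_of_prime {R : Type u} [Semiring R] (q : ℕ) [h : ExpChar R q] (hq : q.Prime) : (q : R) = 0 := by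
  cases h with
  | zero => exact absurd hq Nat.not_prime_one
  | prime _ => exact CharP.cast_eq_zero R q

theorem isClosed_expPow {X S : Scheme.{u}} (f : X ⟶ S) (p : ↥S → ℕ)
    (hp : ∀ s : ↥S, ringExpChar (S.residueField s) = p s) (e : ℕ) :
    IsClosed {x : ↥X | ∃ h : ℕ, e = p (f.base x) ^ h} := by
  by_cases he : e = 1
  · convert isClosed_univ using 1
    exact Set.eq_univ_of_forall fun x => ⟨0, by rw [pow_zero, he]⟩
  have hpr : ∀ s, p s = 1 ∨ (p s).Prime := fun s => by
    haveI : ExpChar (S.residueField s) (p s) := (ringExpChar.eq_iff).1 (hp s)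
    exact (expChar_is_prime_or_one (S.residueField s) (p s)).symm
  by_cases hne : ∃ s, ∃ h : ℕ, e = p s ^ h
  · obtain ⟨s, h, hsh⟩ := hne
    have hl : (p s).Prime := (hpr s).resolve_left fun h1 => he (by rw [hsh, h1, one_pow])
    have hh : h ≠ 0 := fun h0 => he (by rw [hsh, h0, pow_zero])
    have heq : {x : ↥X | ∃ a : ℕ, e = p (f.base x) ^ a} =
        (f.base ⁻¹' (S.basicOpen ((p s : ℕ) : Γ(S, ⊤)) : Set ↥S))ᶜ := by
      ext x
      have hev : ((p s : ℕ) : S.residueField (f.base x)) = 0 ↔ f.base x ∉ S.basicOpen ((p s : ℕ) : Γ(S, ⊤)) := by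
        rw [← Scheme.evaluation_eq_zero_iff_notMem_basicOpen S (U := ⊤) (f.base x) trivial, map_natCast]
      refine ⟨fun ⟨a, ha⟩ => ?_, fun hx => ⟨h, ?_⟩⟩
      · have hp1 : (p (f.base x)).Prime := (hpr _).resolve_left fun h1 => he (by rw [ha, h1, one_pow])
        have h3 : p s = p (f.base x) := (Nat.prime_dvd_prime_iff_eq hl hp1).1
          (hl.dvd_of_dvd_pow (ha ▸ hsh ▸ dvd_pow_self _ hh))
        refine hev.1 ?_
        haveI : ExpChar (S.residueField (f.base x)) (p (f.base x)) := (ringExpChar.eq_iff).1 (hp _)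
        rw [h3]
        exact cast_of_prime _ hp1
      · haveI : Fact (p s).Prime := ⟨hl⟩
        haveI : CharP (S.residueField (f.base x)) (p s) := (CharP.charP_iff_prime_eq_zero hl).2 (hev.2 hx)
        haveI : ExpChar (S.residueField (f.base x)) (p s) := ExpChar.prime hl
        rw [← hp (f.base x), ringExpChar.eq _ (p s)]
        exact hsh
    rw [heq]
    exact ((S.basicOpen _).2.preimage f.continuous).isClosed_compl
  · convert isClosed_empty using 1
    exact Set.eq_empty_of_forall_notMem fun x hx => hne ⟨f.base x, hx⟩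


/-- Let S be a locally Noetherian scheme and G a commutative group scheme locally of finite type over S
such that the union of the connected components of the identity in the fibres of G is closed. Let
p(s) denote the characteristic exponent of the residue field of S at s. Then the set of points x of
G such that some p(s)^h-th power morphism (h ≥ 0, s the image of x in S) sends x into that union, is
closed in G. -/
theorem result (S : Scheme.{u}) [IsLocallyNoetherian S] (G : Over S) [GrpObj G]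
    [IsCommMonObj G] [LocallyOfFiniteType G.hom] (h0 : IsClosed (SGA3x.neutralSet G))
    (p : ↥S → ℕ) (hp : ∀ s : ↥S, ringExpChar (S.residueField s) = p s) :
    IsClosed {x : ↥G.left | ∃ h m : ℕ, m = p (G.hom.base x) ^ h ∧
      ((𝟙 G : G ⟶ G) ^ m).left.base x ∈ SGA3x.neutralSet G} := by
  classical
  haveI : IsLocallyNoetherian G.left := LocallyOfFiniteType.isLocallyNoetherian G.hom
  let C : ℕ → Set G.left := fun n => ((𝟙 G : G ⟶ G) ^ n).left.base ⁻¹' SGA3x.neutralSet G
  have hC : ∀ n, IsClosed (C n) := fun n => h0.preimage ((𝟙 G : G ⟶ G) ^ n).left.continuous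
  have hT : IsClosed (TauSetLib.tauSet G) := Groth.Agent.S5678.result S G h0
  have hgcd : ∀ (x : G.left) (d n : ℕ), x ∈ C d → x ∈ C n → x ∈ C (Nat.gcd d n) := by
    intro x d n hd hn
    have hz : ∀ (Q : G ⟶ G), Q.left x ∈ SGA3x.neutralSet G → ∀ a : ℤ, (Q ^ a).left x ∈ SGA3x.neutralSet G := by
      intro Q hQ a
      cases a with
      | ofNat j => rw [Int.ofNat_eq_natCast, zpow_natCast]; exact TauSetLib.pow_mem Q x hQ j
      | negSucc j => rw [zpow_negSucc]; exact inv_mem _ x (TauSetLib.pow_mem Q x hQ (j + 1))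
    have h3 : (((𝟙 G : G ⟶ G) ^ d) ^ Nat.gcdA d n * ((𝟙 G : G ⟶ G) ^ n) ^ Nat.gcdB d n).left x ∈
        SGA3x.neutralSet G := mul_mem _ _ x (hz _ hd _) (hz _ hn _)
    rwa [← zpow_natCast, ← zpow_natCast, ← zpow_mul, ← zpow_mul, ← zpow_add, ← Nat.gcd_eq_gcd_ab,
      zpow_natCast] at h3
  rw [← isOpen_compl_iff, isOpen_iff_forall_mem_open]
  intro x hx
  obtain ⟨_, ⟨W, hW, rfl⟩, hxW, -⟩ :=
    G.left.isBasis_affineOpens.exists_subset_of_mem_open (Set.mem_univ x) isOpen_univ
  haveI : IsAffine (Scheme.Opens.toScheme W) := hW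
  haveI : SpectralSpace (Scheme.Opens.toScheme W) := {}
  haveI : IsNoetherian (Scheme.Opens.toScheme W) := ⟨⟩
  have hcl : ∀ Z : Set (Scheme.Opens.toScheme W), IsClosed Z →
      @IsClopen _ (constructibleTopology (Scheme.Opens.toScheme W)) Z := fun Z hZ =>
    ProConsLib.isClopen_cons_of_isConstructible (isConstructible_compl.1
      ((IsCompact.isConstructible (NoetherianSpace.isCompact _) hZ.isOpen_compl)))
  obtain ⟨t, ht⟩ := @IsCompact.elim_finite_subcover _ (constructibleTopology (Scheme.Opens.toScheme W)) _ {d : ℕ // 0 < d}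
    (ProConsLib.isCompact_cons_of_isClosed (hcl _ (hT.preimage (Scheme.Opens.ι W).continuous)).1)
    (fun d => (Scheme.Opens.ι W) ⁻¹' C d.1) (fun d => (hcl _ ((hC d.1).preimage (Scheme.Opens.ι W).continuous)).2)
    (fun z ⟨d, hd, hz⟩ => Set.mem_iUnion.2 ⟨⟨d, hd⟩, hz⟩)
  let N0 : ℕ := t.sup Subtype.val
  let F : Set G.left := ⋃ n ∈ Finset.range (N0 + 1), C n ∩ {z : ↥G.left | ∃ h : ℕ, n = p (G.hom.base z) ^ h}
  have hF : IsClosed F := isClosed_biUnion_finset fun n _ => (hC n).inter (isClosed_expPow G.hom p hp n)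
  refine ⟨(W : Set G.left) \ F, ?_, W.2.sdiff hF, hxW, ?_⟩
  · rintro z ⟨hzW, hzF⟩ ⟨h, n, hn, hz⟩
    haveI : ExpChar (S.residueField (G.hom.base z)) (p (G.hom.base z)) := (ringExpChar.eq_iff).1 (hp _)
    have hn0 : 0 < n := hn ▸ pow_pos (expChar_pos (S.residueField (G.hom.base z)) _) h
    obtain ⟨d, hdt, hdz⟩ := Set.mem_iUnion₂.1 (ht (show (⟨z, hzW⟩ : W) ∈ (Scheme.Opens.ι W) ⁻¹' TauSetLib.tauSet G from ⟨n, hn0, hz⟩))
    refine hzF (Set.mem_iUnion₂.2 ⟨Nat.gcd d.1 n, Finset.mem_range.2 (Nat.lt_succ_of_le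
      ((Nat.gcd_le_left _ d.2).trans (Finset.le_sup hdt))), hgcd z d.1 n hdz hz, ?_⟩)
    rcases expChar_is_prime_or_one (S.residueField (G.hom.base z)) (p (G.hom.base z)) with hq | hq
    · obtain ⟨a, -, ha⟩ := (Nat.dvd_prime_pow hq).1 (hn ▸ Nat.gcd_dvd_right d.1 n)
      exact ⟨a, by rw [hn]; exact ha⟩
    · exact ⟨0, by rw [hn, hq, one_pow, Nat.gcd_one_right, pow_zero]⟩
  · intro hxF
    obtain ⟨n, -, hz, h, hh⟩ := Set.mem_iUnion₂.1 hxF
    exact hx ⟨h, n, hh, hz⟩

end Groth.Agent.S5694
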