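import Groth.Statements.S5695
import Groth.Agent.S5678
import Groth.Agent.TauSetLib.Open

set_option autoImplicit false
universe u
open CategoryTheory CategoryTheory.Limits MonoidalCategory CartesianMonoidalCategory MonObj GrpObj AlgebraicGeometry
open FGA

open TopologicalSpace Topology
open Groth.Agent.NeutralSch

set_option backward.isDefEq.respectTransparency false

namespace Groth.Agent.S5695

/-- Let S be a locally Noetherian scheme all of whose residue fields have the same characteristic p (so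
the characteristic exponent is max(p, 1)), and G a commutative group scheme locally of finite type
over S such that the union of the connected components of the identity in the fibres of G is closed.
Then the set of points x of G such that for some integer n ≥ 1 prime to max(p, 1) the n-th power
morphism sends x into that union, is closed in G. -/
theorem result (S : Scheme.{u}) [IsLocallyNoetherian S]
    (p : ℕ) (hS : ∀ s : ↥S, ringChar (S.residueField s) = p)
    (G : Over S) [GrpObj G] [IsCommMonObj G] [LocallyOfFiniteType G.hom] (h0 : IsClosed (SGA3x.neutralSet G)) :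
    IsClosed {x : ↥G.left | ∃ n : ℕ, 0 < n ∧ Nat.Coprime n (max p 1) ∧
      ((𝟙 G : G ⟶ G) ^ n).left.base x ∈ SGA3x.neutralSet G} := by
  classical
  haveI : IsLocallyNoetherian G.left := LocallyOfFiniteType.isLocallyNoetherian G.hom
  let C : ℕ → Set G.left := fun n => ((𝟙 G : G ⟶ G) ^ n).left.base ⁻¹' SGA3x.neutralSet G
  have hC : ∀ n, IsClosed (C n) := fun n => h0.preimage ((𝟙 G : G ⟶ G) ^ n).left.continuous
  have hT : IsClosed (TauSetLib.tauSet G) := Groth.Agent.S5678.result S G h0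
  have hgcd : ∀ (x : G.left) (d n : ℕ), x ∈ C d → x ∈ C n → x ∈ C (Nat.gcd d n) := by
    intro x d n hd hn
    have hz : ∀ (Q : G ⟶ G), Q.left x ∈ SGA3x.neutralSet G → ∀ a : ℤ, (Q ^ a).left x ∈ SGA3x.neutralSet G := by
      intro Q hQ a
      cases a with
      | ofNat j => rw [Int.ofNat_eq_natCast, zpow_natCast]; exact TauSetLib.pow_mem Q x hQ j
      | negSucc j => rw [zpow_negSucc]; exact inv_mem _ x (TauSetLib.pow_mem Q x hQ (j + 1))
    have h3 : (((𝟙 G : G ⟶ G) ^ d) ^ Nat.gcdA d n * ((𝟙 G : G ⟶ G) ^ n) ^ Nat.gcdB d n).left x ∈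
        SGA3x.neutralSet G := mul_mem _ _ x (hz _ hd _) (hz _ hn _)
    rwa [← zpow_natCast, ← zpow_natCast, ← zpow_mul, ← zpow_mul, ← zpow_add, ← Nat.gcd_eq_gcd_ab,
      zpow_natCast] at h3
  rw [← isOpen_compl_iff, isOpen_iff_forall_mem_open]
  intro x hx
  obtain ⟨_, ⟨W, hW, rfl⟩, hxW, -⟩ :=
    G.left.isBasis_affineOpens.exists_subset_of_mem_open (Set.mem_univ x) isOpen_univ
  haveI : IsAffine (Scheme.Opens.toScheme W) := hW
  haveI : SpectralSpace (Scheme.Opens.toScheme W) := {}
  haveI : IsNoetherian (Scheme.Opens.toScheme W) := ⟨⟩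
  have hcl : ∀ Z : Set (Scheme.Opens.toScheme W), IsClosed Z →
      @IsClopen _ (constructibleTopology (Scheme.Opens.toScheme W)) Z := fun Z hZ =>
    ProConsLib.isClopen_cons_of_isConstructible (isConstructible_compl.1
      ((IsCompact.isConstructible (NoetherianSpace.isCompact _) hZ.isOpen_compl)))
  obtain ⟨t, ht⟩ := @IsCompact.elim_finite_subcover _ (constructibleTopology (Scheme.Opens.toScheme W)) _ {d : ℕ // 0 < d}
    (ProConsLib.isCompact_cons_of_isClosed (hcl _ (hT.preimage (Scheme.Opens.ι W).continuous)).1)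
    (fun d => (Scheme.Opens.ι W) ⁻¹' C d.1) (fun d => (hcl _ ((hC d.1).preimage (Scheme.Opens.ι W).continuous)).2)
    (fun z ⟨d, hd, hz⟩ => Set.mem_iUnion.2 ⟨⟨d, hd⟩, hz⟩)
  let N0 : ℕ := t.sup Subtype.val
  let F : Set G.left := ⋃ n ∈ (Finset.range (N0 + 1)).filter (fun n => 0 < n ∧ Nat.Coprime n (max p 1)), C n
  have hF : IsClosed F := isClosed_biUnion_finset fun n _ => hC n
  refine ⟨(W : Set G.left) \ F, ?_, W.2.sdiff hF, hxW, ?_⟩
  · rintro z ⟨hzW, hzF⟩ ⟨n, hn, hco, hz⟩
    obtain ⟨d, hdt, hdz⟩ := Set.mem_iUnion₂.1 (ht (show (⟨z, hzW⟩ : W) ∈ (Scheme.Opens.ι W) ⁻¹' TauSetLib.tauSet G from ⟨n, hn, hz⟩))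
    refine hzF (Set.mem_iUnion₂.2 ⟨Nat.gcd d.1 n, Finset.mem_filter.2 ⟨?_, Nat.gcd_pos_of_pos_right _ hn,
      Nat.Coprime.coprime_dvd_left (Nat.gcd_dvd_right _ _) hco⟩, hgcd z d.1 n hdz hz⟩)
    exact Finset.mem_range.2 (Nat.lt_succ_of_le ((Nat.gcd_le_left _ d.2).trans (Finset.le_sup hdt)))
  · intro hxF
    obtain ⟨n, hn, hz⟩ := Set.mem_iUnion₂.1 hxF
    exact hx ⟨n, (Finset.mem_filter.1 hn).2.1, (Finset.mem_filter.1 hn).2.2, hz⟩

end Groth.Agent.S5695
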