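import Groth.Statements.S5697
import Groth.Agent.NeutralSchLib.DimConst
import Groth.Agent.NeutralSchLib.Global

set_option autoImplicit false
set_option backward.isDefEq.respectTransparency false
set_option backward.isDefEq.respectTransparency.types false
set_option maxHeartbeats 1000000
set_option synthInstance.maxHeartbeats 400000
universe u
open CategoryTheory CategoryTheory.Limits MonoidalCategory CartesianMonoidalCategory MonObj GrpObj AlgebraicGeometry
open FGA

set_option backward.isDefEq.respectTransparency false
namespace Groth.Agent.S5697

/-- Let S be a locally Noetherian scheme and G a commutative group scheme locally of finite type over S.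
Assume that the union of the connected components of the identity of the fibres of G is closed in G,
and that G ⟶ S is universally open at the points of that union: for every base change S' ⟶ S, the
structure map of G' = G ×_S S' is open at every point of the identity-component set of G' (the image
of every open neighbourhood is a neighbourhood). Then the prime-to-p torsion component set (points x
some n-th power of which, n ≥ 1 prime to the residue characteristic exponent, lies in the
identity-component set) is universally open over S at the points of the identity-component set, in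
the same sense: for every base change S' ⟶ S, every point x' of the identity-component set of G' and
every open neighbourhood U of x', the image in S' of the intersection of U with the prime-to-p
torsion component set of G' is a neighbourhood of the image of x'. (The published statement
concludes this at every point of the prime-to-p torsion component set; it fails for the closed
subgroup scheme of the constant group ℤ/2 over a discrete valuation ring of residue characteristic
different from 2 that keeps the non-identity element only over the closed point: there the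
identity-component set is a copy of the base, all hypotheses hold, and the isolated non-identity
point over the closed point is 2-torsion with image the closed point alone. The published proof
treats neighbourhoods of points of the identity-component set, so the conclusion is stated at those
points here.) -/
theorem result (S : Scheme.{u}) [IsLocallyNoetherian S]
    (G : Over S) [GrpObj G] [IsCommMonObj G] [LocallyOfFiniteType G.hom] (h0 : IsClosed (SGA3x.neutralSet G))
    (hopen : ∀ (S' : Scheme.{u}) (g : S' ⟶ S) (x' : ↥(Red.bc g G).left), x' ∈ SGA3x.neutralSet (Red.bc g G) →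
      ∀ U : Set ↥(Red.bc g G).left, IsOpen U → x' ∈ U →
        (Red.bc g G).hom.base '' U ∈ nhds ((Red.bc g G).hom.base x'))
    (S' : Scheme.{u}) (g : S' ⟶ S) (x' : ↥(Red.bc g G).left)
    (hx' : x' ∈ SGA3x.neutralSet (Red.bc g G))
    (U : Set ↥(Red.bc g G).left) (hU : IsOpen U) (hxU : x' ∈ U) :
    (Red.bc g G).hom.base '' (U ∩ {x : ↥(Red.bc g G).left | ∃ n : ℕ, 0 < n ∧ Nat.Coprime n (ringExpChar (S'.residueField ((Red.bc g G).hom.base x))) ∧
        ((𝟙 (Red.bc g G) : (Red.bc g G) ⟶ (Red.bc g G)) ^ n).left.base x ∈ SGA3x.neutralSet (Red.bc g G)}) ∈
      nhds ((Red.bc g G).hom.base x') := by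
  haveI : IsLocallyNoetherian G.left := LocallyOfFiniteType.isLocallyNoetherian G.hom
  haveI : LocallyOfFinitePresentation G.hom :=
    LocallyOfFinitePresentation.iff_locallyOfFiniteType.2 inferInstance
  haveI : QuasiSeparated G.hom := QuasiSeparated.of_comp G.hom (terminal.from S)
  haveI : LocallyOfFinitePresentation (Red.bc g G).hom :=
    inferInstanceAs (LocallyOfFinitePresentation (pullback.snd G.hom g))
  haveI : QuasiSeparated (Red.bc g G).hom := inferInstanceAs (QuasiSeparated (pullback.snd G.hom g))
  -- universal openness along the neutral components gives local constancy of the dimension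
  have huo : ∀ x ∈ SGA3x.neutralSet G, EGA43.IsUnivOpenAt G.hom x := by
    intro x hx Y' h z hz U' hU'
    obtain ⟨O, hOU, hO, hzO⟩ := mem_nhds_iff.1 hU'
    refine Filter.mem_of_superset (hopen Y' h z ?_ O hO hzO) (Set.image_mono hOU)
    rw [Groth.Agent.NeutralSch.neutralSet_bc]
    show (pullback.fst G.hom h).base z ∈ SGA3x.neutralSet G
    rw [hz]
    exact hx
  have hlift : ∀ t : S', t ⤳ (Red.bc g G).hom.base x' →
      ∃ ξ, ξ ⤳ x' ∧ ξ ∈ SGA3x.neutralSet (Red.bc g G) ∧ (Red.bc g G).hom ξ = t := by
    intro t ht
    refine Groth.Agent.NeutralSch.exists_generization ht (le_of_eq ?_) hx' rfl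
    obtain ⟨D, hD, hc⟩ := Groth.Agent.NeutralSch.dim_const_of_univOpenAt (G := G) (g ((Red.bc g G).hom x'))
      fun x hx _ => huo x ((Groth.Agent.NeutralSch.neutralSet_inter_fibre G _).ge hx).1
    rw [Groth.Agent.NeutralSch.dim_bc, Groth.Agent.NeutralSch.dim_bc]
    exact (hc _ (interior_subset ((ht.map g.continuous).mem_open isOpen_interior
      (mem_interior_iff_mem_nhds.2 hD)))).symm
  obtain ⟨V, hV, hsV, -⟩ := exists_isAffineOpen_mem_and_subset (X := S') (x := (Red.bc g G).hom x')
    (U := ⊤) trivial
  obtain ⟨W, hW, hxW, hWU⟩ := exists_isAffineOpen_mem_and_subset (X := (Red.bc g G).left) (x := x')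
    (U := (⟨U, hU⟩ : (Red.bc g G).left.Opens) ⊓ (Red.bc g G).hom ⁻¹ᵁ V) ⟨hxU, hsV⟩
  have hWV : W ≤ (Red.bc g G).hom ⁻¹ᵁ V := fun z hz => (hWU hz).2
  haveI : IsAffine W.toScheme := hW
  haveI : IsAffine V.toScheme := hV
  let f : W.toScheme ⟶ V.toScheme := (Red.bc g G).hom.resLE V W hWV
  have hf : ∀ z : W.toScheme, V.ι (f z) = (Red.bc g G).hom (W.ι z) := fun z => by
    rw [← Scheme.Hom.comp_apply, Scheme.Hom.resLE_comp_ι, Scheme.Hom.comp_apply]
  haveI : LocallyOfFinitePresentation f := by
    show LocallyOfFinitePresentation ((Red.bc g G).hom.resLE V W hWV)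
    infer_instance
  have hE := f.isLocallyConstructible_image
    ((Groth.Agent.NeutralSch.isLocallyConstructible_neutralSet (G := Red.bc g G)).preimage_of_isOpenEmbedding
      W.ι.isOpenEmbedding)
  have hint := (Groth.Agent.ProConsLib.mem_interior_iff_forall_specializes
    (Groth.Agent.ProConsLib.isLocallyConstructible_iff_ind_and_pro.mp hE).1
    (⟨(Red.bc g G).hom x', hsV⟩ : V.toScheme)).mpr fun t ht => by
    obtain ⟨ξ, hξ, hξN, hξt⟩ := hlift (V.ι t) (ht.map V.ι.continuous)
    refine ⟨⟨ξ, hξ.mem_open W.2 hxW⟩, hξN, V.ι.isOpenEmbedding.injective ?_⟩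
    rw [hf]
    exact hξt
  refine Filter.mem_of_superset (V.ι.isOpenEmbedding.isOpenMap.image_mem_nhds
    (mem_interior_iff_mem_nhds.1 hint)) ?_
  rintro _ ⟨_, ⟨z, hz, rfl⟩, rfl⟩
  refine ⟨W.ι z, ⟨(hWU z.2).1, 1, one_pos, Nat.coprime_one_left _, ?_⟩, (hf z).symm⟩
  rw [pow_one]
  exact hz

end Groth.Agent.S5697
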