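import Groth.Statements.S9208
import Mathlib
import Groth.Agent.FPColimLib.Algebra
import Groth.Agent.FactorRangeLib.Alg
import Mathlib.AlgebraicGeometry.AffineTransitionLimit
import Mathlib.AlgebraicGeometry.Morphisms.FinitePresentation
import Mathlib.CategoryTheory.Limits.Constructions.Over.Connected
-- import your own Groth.Agent.* helpers here

set_option autoImplicit false
universe u
open CategoryTheory AlgebraicGeometry
open Lim

namespace Groth.Agent.S9208

open CategoryTheory AlgebraicGeometry Limits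

/-- Let f : X → S be a morphism of schemes. Suppose that for every inverse system (T_j) of affine
schemes over S indexed by a nonempty directed preordered set, with limit T, the canonical map
colim_j Mor_S(T_j, X) → Mor_S(T, X) is surjective: every S-morphism T → X is the composite of the
projection T → T_j with an S-morphism T_j → X for some j. Then f is locally of finite presentation
(surjectivity alone suffices; bijectivity is not required). -/
theorem result {X S : Scheme.{u}} (f : X ⟶ S)
    (h : ∀ (J : Type u) [Preorder J] [IsDirected J (· ≤ ·)] [Nonempty J] (D : Jᵒᵖ ⥤ Scheme.{u})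
      (t : D ⟶ (Functor.const Jᵒᵖ).obj S) (c : Limits.Cone D) (_ : Limits.IsLimit c),
      (∀ j, IsAffine (D.obj j)) → ∀ (j₀ : Jᵒᵖ) (g : c.pt ⟶ X), g ≫ f = c.π.app j₀ ≫ t.app j₀ →
        ∃ (j : Jᵒᵖ) (gj : D.obj j ⟶ X), gj ≫ f = t.app j ∧ c.π.app j ≫ gj = g) :
    LocallyOfFinitePresentation f := by
  rw [HasRingHomProperty.iff_appLE (P := @LocallyOfFinitePresentation)]
  rintro ⟨V, (hV : IsAffineOpen V)⟩ ⟨U, (hU : IsAffineOpen U)⟩ e
  algebraize [(f.appLE V U e).hom]
  let A := Γ(S, V)
  let B := Γ(X, U)
  let Fu : FPColimLib.Stage A B ⥤ Under (CommRingCat.of A) := FPColimLib.diagram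
  haveI : IsFiltered (FPColimLib.Stage A B) := inferInstance
  let cc : Cocone (Fu ⋙ Under.forget _) := (Under.forget _).mapCocone FPColimLib.cocone
  have hcc : IsColimit cc := isColimitOfPreserves (Under.forget _) FPColimLib.isColimit
  let D : (FPColimLib.Stage A B)ᵒᵖ ⥤ Scheme.{u} := (Fu ⋙ Under.forget _).op ⋙ Scheme.Spec
  let c : Cone D := Scheme.Spec.mapCone cc.op
  have hc : IsLimit c := isLimitOfPreserves Scheme.Spec hcc.op
  let t : D ⟶ (Functor.const _).obj S :=
    { app := fun j => Spec.map (Fu.obj j.unop).hom ≫ hV.fromSpec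
      naturality := fun i j m => by
        dsimp [D]
        rw [Category.comp_id, ← Spec.map_comp_assoc]
        congr 2
        exact Under.w (Fu.map m.unop) }
  let j₀ : (FPColimLib.Stage A B)ᵒᵖ := Opposite.op (Classical.arbitrary _)
  have hg : ∀ j, hU.fromSpec ≫ f = c.π.app j ≫ t.app j := fun j => by
    rw [← IsAffineOpen.SpecMap_appLE_fromSpec f hV hU e]
    change _ = Spec.map _ ≫ Spec.map _ ≫ hV.fromSpec
    rw [← Spec.map_comp_assoc]
    congr 2
    exact (Under.w (FPColimLib.cocone.ι.app j.unop)).symm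
  haveI : ∀ j, IsAffine (D.obj j) := fun j => isAffine_Spec _
  obtain ⟨j, gj, hgf, hgj⟩ := h _ D t c hc this j₀ hU.fromSpec (hg j₀)
  haveI : ∀ {i j} (m : i ⟶ j), IsAffineHom (D.map m) := fun m => inferInstance
  haveI : ∀ i, CompactSpace (D.obj i) := fun i => inferInstance
  obtain ⟨k, m, hk⟩ := exists_map_eq_top D c hc (gj ⁻¹ᵁ U) (by
    rw [← Scheme.Hom.comp_preimage, hgj]; exact hU.fromSpec_preimage_self)
  have hrange : Set.range (D.map m ≫ gj) ⊆ Set.range hU.fromSpec := by
    rw [IsAffineOpen.range_fromSpec]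
    rintro _ ⟨x, rfl⟩
    exact hk.ge (Set.mem_univ x)
  let l : D.obj k ⟶ Spec Γ(X, U) := IsOpenImmersion.lift hU.fromSpec (D.map m ≫ gj) hrange
  obtain ⟨φ, hφ⟩ := Spec.map_surjective l
  have hl : l ≫ hU.fromSpec = D.map m ≫ gj := IsOpenImmersion.lift_fac _ _ _
  have h1 : φ ≫ cc.ι.app k.unop = 𝟙 _ := by
    apply Spec.map_injective
    rw [Spec.map_comp, hφ]
    refine Eq.trans ?_ (Spec.map_id Γ(X, U)).symm
    rw [← cancel_mono hU.fromSpec, Category.assoc, hl]
    refine Eq.trans ?_ (Category.id_comp _).symm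
    change c.π.app k ≫ _ = _
    rw [← Category.assoc, Cone.w, hgj]
  have h2 : f.appLE V U e ≫ φ = (Fu.obj k.unop).hom := by
    apply Spec.map_injective
    rw [Spec.map_comp, hφ, ← cancel_mono hV.fromSpec, Category.assoc,
      IsAffineOpen.SpecMap_appLE_fromSpec f hV hU e, ← Category.assoc, hl, Category.assoc, hgf]
    exact (t.naturality m).trans (Category.comp_id _)
  let s : B →ₐ[A] FPColimLib.Q k.unop := { φ.hom with commutes' := fun r => congr($(h2).hom r) }
  haveI : Algebra.FinitePresentation A (FPColimLib.Q k.unop) :=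
    Algebra.FinitePresentation.quotient ⟨k.unop.t, rfl⟩
  exact FactorRange.finitePresentation_of_retract s (FPColimLib.toA k.unop)
    (AlgHom.ext fun b => congr($(h1).hom b))

end Groth.Agent.S9208
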