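import Groth.Statements.S5699
import Mathlib
import Groth.Agent.QuotSchLib.FieldBounded
-- import your own Groth.Agent.* helpers here

set_option autoImplicit false
universe u
open CategoryTheory CategoryTheory.Limits AlgebraicGeometry
open FGA

namespace Groth.Agent.S5699

/-- Let k be an algebraically closed field, P projective n-space over k, E a coherent module on P and Φ
a finite set of functions from ℤ to ℤ. Then the coherent quotient modules F of E whose Hilbert
function r ↦ χ(P, F(r)) (alternating sum of the dimensions of the cohomology groups in degrees at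
most n) lies in Φ form a bounded family: there are a k-scheme T of finite type and a coherent module
on P ×_k T such that every such F is isomorphic to its fibre at some k-point of T. Stated over an
algebraically closed field; the published statement is the relative version over a Noetherian base
for classes of sheaves on the fibres, which this special case does not cover. -/
theorem result (k : Type u) [Field k] [IsAlgClosed k] (n : ℕ)
    (E : (CohB1.ProjSpace n k).Modules) (hE : Coh.IsCoh E) (Φ : Set (ℤ → ℤ)) (hΦ : Φ.Finite) :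
    Pic13.IsBounded k (CohB1.ProjSpace n k) (fun F =>
      Coh.IsCoh F ∧ (∃ p : E ⟶ F, Epi p) ∧
        (fun r : ℤ => FGA.eulerCharLE k (CohB1.ProjSpace n k)
          (CohB1.tensorMod F (Twist.twistProjSpace n k r)) n) ∈ Φ) := by
  classical
  let g : (ℤ → ℤ) → Polynomial ℚ := fun f =>
    if h : ∃ Ψ : Polynomial ℚ, ∀ m : ℤ, (f m : ℚ) = Ψ.eval (m : ℚ) then h.choose else 0
  obtain ⟨T, q, hT, hq, F, hF, hcl⟩ := QuotSchLib.isBounded_quotients k n E hE (hΦ.toFinset.image g)
  refine ⟨T, q, hT, hq, F, hF, fun L hL => hcl L ⟨hL.1, hL.2.1, ?_⟩⟩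
  obtain ⟨Ψ, hΨ⟩ := QuotSchLib.exists_chi_field k n hL.1
  have he : ∃ Ψ : Polynomial ℚ, ∀ m : ℤ, ((fun r : ℤ => FGA.eulerCharLE k (CohB1.ProjSpace n k)
      (CohB1.tensorMod L (Twist.twistProjSpace n k r)) n) m : ℚ) = Ψ.eval (m : ℚ) := ⟨Ψ, hΨ⟩
  refine ⟨_, Finset.mem_image.2 ⟨_, hΦ.mem_toFinset.2 hL.2.2, rfl⟩, fun m => ?_⟩
  simp only [g, dif_pos he]
  exact he.choose_spec m

end Groth.Agent.S5699
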