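import Groth.Statements.S5700
import Mathlib
import Mathlib
import Groth.Agent.DescAppLib.RigApps
-- import your own Groth.Agent.* helpers here

set_option autoImplicit false
universe u
open CategoryTheory CategoryTheory.Limits AlgebraicGeometry
open FGA

namespace Groth.Agent.S5700

/-- Let f : X ⟶ S be quasi-compact and separated, with the induced maps from sections of the structure
sheaf of S to sections of the structure sheaf of X bijective over every open of S, and admitting a
section σ; let g : S' ⟶ S be flat, surjective and quasi-compact, X' = X ×_S S', S'' = S' ×_S S' and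
X'' = X ×_S S'' with its two projections to X'. If L' is an invertible module on X' whose pullbacks
along the two projections X'' ⟶ X' become isomorphic after tensoring the second with the pullback of
some invertible module on S'', then there are an invertible module L on X and an invertible module
N' on S' with L' isomorphic to the tensor product of the pullback of L and the pullback of N'.
(Exactness of Pic(X)/Pic(S) → Pic(X')/Pic(S') ⇉ Pic(X'')/Pic(S'').) (The published statement asks
for sections of f only locally on S and is phrased with relative Picard classes, the global sections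
of the Zariski sheaf on S associated with U ↦ Pic(X_U); this row assumes a global section, in which
case those classes are classes of invertible modules on X modulo those pulled back from S, and the
local-section form follows from it by restricting to the opens of S over which a section exists.) -/
theorem result {X S S' : Scheme.{u}} (f : X ⟶ S)
    [QuasiCompact f] [IsSeparated f] (hf : ∀ U : S.Opens, Function.Bijective (f.app U))
    (σ : S ⟶ X) (hσ : σ ≫ f = 𝟙 S)
    (g : S' ⟶ S) [Flat g] [Surjective g] [QuasiCompact g]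
    (L' : (pullback f g).Modules) (hL' : PicF.IsInvertible L')
    (hcomp : ∃ N'' : (pullback g g).Modules, PicF.IsInvertible N'' ∧
      Nonempty ((Scheme.Modules.pullback (pullback.map f (pullback.fst g g ≫ g) f g (𝟙 X) (pullback.fst g g) (𝟙 S)
          ((Category.comp_id f).trans (Category.id_comp f).symm) (Category.comp_id _))).obj L' ≅
        CohB1.tensorMod ((Scheme.Modules.pullback (pullback.map f (pullback.fst g g ≫ g) f g (𝟙 X) (pullback.snd g g) (𝟙 S)
          ((Category.comp_id f).trans (Category.id_comp f).symm) ((Category.comp_id _).trans pullback.condition))).obj L')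
          ((Scheme.Modules.pullback (pullback.snd f (pullback.fst g g ≫ g))).obj N''))) :
    ∃ (L : X.Modules) (N' : S'.Modules), PicF.IsInvertible L ∧ PicF.IsInvertible N' ∧
      Nonempty (L' ≅ CohB1.tensorMod ((Scheme.Modules.pullback (pullback.fst f g)).obj L)
        ((Scheme.Modules.pullback (pullback.snd f g)).obj N')) := by
  obtain ⟨N'', hN'', ⟨i⟩⟩ := hcomp
  let s' : S' ⟶ pullback f g := pullback.lift (g ≫ σ) (𝟙 S') (by rw [Category.assoc, hσ, Category.comp_id, Category.id_comp])
  have hs'p : s' ≫ pullback.snd f g = 𝟙 S' := pullback.lift_snd _ _ _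
  let B : DescAppLib.SecFam f σ PUnit.{u + 1} :=
    { Z := fun _ => S'
      F := fun _ => g
      P := fun _ => pullback f g
      mX := fun _ => pullback.fst f g
      p := fun _ => pullback.snd f g
      s := fun _ => s'
      H := fun _ => IsPullback.of_hasPullback f g
      s_p := fun _ => hs'p
      s_mX := fun _ => pullback.lift_fst _ _ _
      hσ := hσ }
  haveI : ∀ k, Flat (B.F k) := fun _ => ‹Flat g›
  haveI : ∀ k, QuasiCompact (B.F k) := fun _ => ‹QuasiCompact g›
  have hmem : Presieve.ofArrows B.Z B.F ∈ Scheme.fpqcPrecoverage S :=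
    QCohDescLib.ofArrows_mem_of_finite B.F fun x => ⟨PUnit.unit, g.surjective x⟩
  have hbij : ∀ (T : Scheme.{u}) (t : T ⟶ S), Flat t → Function.Bijective (pullback.snd f t).appTop :=
    fun T t _ => DescAppLib.bijective_snd_appTop f hf t
  let k0 : PUnit.{u + 1} := PUnit.unit
  let M0 := (Scheme.Modules.pullback s').obj L'
  have hM0 : PicF.IsInvertible M0 := AmpleDevLib.isInvertible_pb s' hL'
  let D0 := MiscFlat6.dual M0
  have hD0 : PicF.IsInvertible D0 := MiscFlat6.dual_isInvertible hM0
  have hd : CubeConsLib.cl M0 * CubeConsLib.cl D0 = 1 :=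
    CubeConsLib.cl_eq_one_iff.2 (MiscFlat6.nonempty_dualIso hM0)
  let m := pullback.snd f (pullback.fst g g ≫ g)
  let Q₁ := B.q₁ k0 k0
  let Q₂ := B.q₂ k0 k0
  let σ₂ := B.s2 k0 k0
  have hQ₁ : pullback.map f (pullback.fst g g ≫ g) f g (𝟙 X) (pullback.fst g g) (𝟙 S)
      ((Category.comp_id f).trans (Category.id_comp f).symm) (Category.comp_id _) = Q₁ :=
    pullback.hom_ext ((pullback.lift_fst _ _ _).trans ((Category.comp_id _).trans (B.q₁_mX k0 k0).symm))
      ((pullback.lift_snd _ _ _).trans (B.q₁_p k0 k0).symm)
  have hQ₂ : pullback.map f (pullback.fst g g ≫ g) f g (𝟙 X) (pullback.snd g g) (𝟙 S)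
      ((Category.comp_id f).trans (Category.id_comp f).symm) ((Category.comp_id _).trans pullback.condition) = Q₂ :=
    pullback.hom_ext ((pullback.lift_fst _ _ _).trans ((Category.comp_id _).trans (B.q₂_mX k0 k0).symm))
      ((pullback.lift_snd _ _ _).trans (B.q₂_p k0 k0).symm)
  rw [hQ₁, hQ₂] at i
  have hc : CubeConsLib.pull Q₁ (CubeConsLib.cl L') =
      CubeConsLib.pull Q₂ (CubeConsLib.cl L') * CubeConsLib.pull m (CubeConsLib.cl N'') :=
    CubeConsLib.cl_eq_iff.2 ⟨i⟩
  have hσm : σ₂ ≫ m = 𝟙 (pullback g g) := pullback.lift_snd _ _ _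
  have hsc : CubeConsLib.pull (pullback.fst g g) (CubeConsLib.cl M0) =
      CubeConsLib.pull (pullback.snd g g) (CubeConsLib.cl M0) * CubeConsLib.cl N'' := by
    have h := congrArg (CubeConsLib.pull σ₂) hc
    rw [map_mul, CubeConsLib.pull_comp, CubeConsLib.pull_comp, CubeConsLib.pull_comp, hσm, DescAppLib.pull_id,
      show σ₂ ≫ Q₁ = pullback.fst g g ≫ s' from B.s2_q₁ k0 k0,
      show σ₂ ≫ Q₂ = pullback.snd g g ≫ s' from B.s2_q₂ k0 k0] at h
    refine ((CubeConsLib.pull_comp _ _ (CubeConsLib.cl L')).trans h).trans ?_
    exact congrArg (· * CubeConsLib.cl N'') (CubeConsLib.pull_comp _ _ (CubeConsLib.cl L')).symm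
  have hkey : CubeConsLib.cl N'' * CubeConsLib.pull (pullback.fst g g) (CubeConsLib.cl D0) =
      CubeConsLib.pull (pullback.snd g g) (CubeConsLib.cl D0) := by
    have h1 := congrArg (CubeConsLib.pull (pullback.fst g g)) hd
    have h2 := congrArg (CubeConsLib.pull (pullback.snd g g)) hd
    rw [map_mul, map_one, hsc] at h1
    rw [map_mul, map_one] at h2
    calc CubeConsLib.cl N'' * CubeConsLib.pull (pullback.fst g g) (CubeConsLib.cl D0)
        = (CubeConsLib.pull (pullback.snd g g) (CubeConsLib.cl M0) * CubeConsLib.pull (pullback.snd g g) (CubeConsLib.cl D0)) *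
            (CubeConsLib.cl N'' * CubeConsLib.pull (pullback.fst g g) (CubeConsLib.cl D0)) := by rw [h2, one_mul]
      _ = CubeConsLib.pull (pullback.snd g g) (CubeConsLib.cl D0) *
            (CubeConsLib.pull (pullback.snd g g) (CubeConsLib.cl M0) * CubeConsLib.cl N'' *
              CubeConsLib.pull (pullback.fst g g) (CubeConsLib.cl D0)) := by ac_rfl
      _ = _ := by rw [h1, mul_one]
  let L'' := CohB1.tensorMod L' ((Scheme.Modules.pullback (pullback.snd f g)).obj D0)
  have hL'' : PicF.IsInvertible L'' :=
    HilbPolyLib.isInvertible_tensor hL' (AmpleDevLib.isInvertible_pb (pullback.snd f g) hD0)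
  have hc'' : CubeConsLib.cl L'' =
      CubeConsLib.cl L' * CubeConsLib.pull (pullback.snd f g) (CubeConsLib.cl D0) := rfl
  obtain ⟨N, hN, hN1, hN2⟩ := DescAppLib.exists_descend_cls f B hmem hbij (fun _ => L'') (fun _ => hL'')
    (fun _ => by
      show CubeConsLib.pull s' (CubeConsLib.cl L'') = 1
      rw [hc'', map_mul, CubeConsLib.pull_comp, hs'p, DescAppLib.pull_id]
      exact hd)
    (fun _ _ => by
      show CubeConsLib.pull Q₁ (CubeConsLib.cl L'') = CubeConsLib.pull Q₂ (CubeConsLib.cl L'')
      rw [hc'', map_mul, map_mul, CubeConsLib.pull_comp, CubeConsLib.pull_comp, hc, mul_assoc,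
        show Q₁ ≫ pullback.snd f g = m ≫ pullback.fst g g from B.q₁_p k0 k0,
        show Q₂ ≫ pullback.snd f g = m ≫ pullback.snd g g from B.q₂_p k0 k0,
        ← CubeConsLib.pull_comp, ← map_mul, hkey, CubeConsLib.pull_comp])
  refine ⟨N, M0, hN, hM0, CubeConsLib.cl_eq_iff.1 ?_⟩
  rw [CubeConsLib.cl_tensor]
  show CubeConsLib.cl L' = CubeConsLib.pull (pullback.fst f g) (CubeConsLib.cl N) *
    CubeConsLib.pull (pullback.snd f g) (CubeConsLib.cl M0)
  rw [show CubeConsLib.pull (pullback.fst f g) (CubeConsLib.cl N) = CubeConsLib.cl L'' from hN2 k0, hc'', mul_assoc,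
    ← map_mul, mul_comm (CubeConsLib.cl D0), hd, map_one, mul_one]

end Groth.Agent.S5700
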