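import Groth.Statements.S5706
import Groth.Agent.DivSeqLib.Main
-- import your own Groth.Agent.* helpers here

set_option maxHeartbeats 1000000
set_option backward.isDefEq.respectTransparency false
set_option backward.isDefEq.respectTransparency.types false

set_option autoImplicit false
universe u
open CategoryTheory AlgebraicGeometry
open Dix

namespace Groth.Agent.S5706

/-- Let X be a noetherian scheme such that for every scheme U étale over X all local rings of U are
factorial domains. Then the restriction map from H²(X_et, G_m) to the product of the groups H²(Spec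
O_{X,x}, G_m), x running over the maximal points of X (generic points of the irreducible
components), is injective. The restriction maps are the pullbacks EtLim.HGmPull along Spec O_{X,x} →
X, whose exactness hypothesis is carried as an instance binder. -/
theorem result (X : Scheme.{u}) [IsNoetherian X] (hfact : ∀ (U : X.Etale) (v : U.left), IsDomain (U.left.presheaf.stalk v) ∧ UniqueFactorizationMonoid (U.left.presheaf.stalk v)) [∀ x : X, Limits.PreservesFiniteLimits (EtCoh.pull (X.fromSpecStalk x))] (ξ : EtCoh.H X (EtCoh.Gm X) 2) (hξ : ∀ x : X, (∀ y : X, y ⤳ x → y = x) → EtLim.HGmPull (X.fromSpecStalk x) 2 ξ = 0) : ξ = 0 := by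
  have hfact' : DivSeqLib.Factorial X := hfact
  have hd := DivSeqLib.isDomain_stalk hfact'
  refine DivSeqLib.eq_zero_of_components hfact' _ _ fun z hz _ => ?_
  let O := DivSeqLib.compOpen hd z hz
  haveI := DivSeqLib.isIntegral_compOpen hd z hz
  haveI : IsLocallyNoetherian O.toScheme := isLocallyNoetherian_of_isOpenImmersion O.ι
  haveI : CompactSpace O.toScheme := isCompact_iff_compactSpace.1 (TopologicalSpace.NoetherianSpace.isCompact (O : Set X))
  haveI : AlgebraicGeometry.IsNoetherian O.toScheme := ⟨⟩
  let g := genericPoint O.toScheme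
  let x : X := O.ι.base g
  have hx : ∀ y : X, y ⤳ x → y = x := fun y hy => by
    have h1 : x ⤳ z := ((genericPoint_spec O.toScheme).specializes
      (y := (⟨z, specializes_rfl⟩ : O)) trivial).map O.ι.continuous
    have h2 : x = z := hz x h1
    rw [h2] at hy ⊢
    exact hz y hy
  haveI : Limits.PreservesFiniteLimits (EtCoh.pull (DivSeqLib.η O.toScheme)) := EtSliceLib.pullExact _
  haveI : Limits.PreservesFiniteLimits (EtCoh.pull (Spec.map (O.ι.stalkMap g))) := EtSliceLib.pullExact _
  haveI : Limits.PreservesFiniteLimits (EtCoh.pull (DivSeqLib.η O.toScheme ≫ O.ι)) := EtSliceLib.pullExact _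
  refine DivSeqLib.HGmPull_η_injective (DivSeqLib.factorial_open hfact' O) _ ?_
  rw [← DivSeqLib.HGmPull_comp (DivSeqLib.η O.toScheme) O.ι (DivSeqLib.η O.toScheme ≫ O.ι) rfl,
    DivSeqLib.HGmPull_comp (Spec.map (O.ι.stalkMap g)) (X.fromSpecStalk x) (DivSeqLib.η O.toScheme ≫ O.ι)
      (Scheme.SpecMap_stalkMap_fromSpecStalk O.ι),
    hξ x hx, map_zero]

end Groth.Agent.S5706
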