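import Groth.Statements.S5707
import Groth.Agent.H90Lib.PushGm
import Groth.Agent.H90Lib.StalkPush
import Groth.Agent.DivSeqLib.HGm
-- import your own Groth.Agent.* helpers here

set_option autoImplicit false
universe u
open CategoryTheory AlgebraicGeometry
open Dix

set_option backward.isDefEq.respectTransparency false
set_option backward.isDefEq.respectTransparency.types false
set_option maxHeartbeats 2000000

open Groth.Agent.EtShLib SkySumLib H90Lib CategoryTheory.Abelian CategoryTheory.Limits Opposite

noncomputable section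

namespace Groth.Agent.S5707

variable (X : Scheme.{u}) [IsNoetherian X]

theorem eq_of_mem_range_fromSpecStalk {x : X} (hx : DivSeqLib.IsMaxPt x) {z : X}
    (hz : z ∈ Set.range (X.fromSpecStalk x).base) : z = x := by
  rw [Scheme.range_fromSpecStalk] at hz
  exact hx z hz

theorem discrete_bc {x : X} (hx : DivSeqLib.IsMaxPt x) (W : X.Etale) :
    DiscreteTopology ((EtCoh.bc (X.fromSpecStalk x)).obj W).left := by
  let V := (EtCoh.bc (X.fromSpecStalk x)).obj W
  haveI : AlgebraicGeometry.Etale V.hom := V.prop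
  haveI : LocallyQuasiFinite V.hom := locallyQuasiFinite_of_etale V.hom
  haveI : Subsingleton ↥(Spec (X.presheaf.stalk x)) := ⟨fun a b =>
    (X.fromSpecStalk x).isEmbedding.injective ((eq_of_mem_range_fromSpecStalk X hx ⟨a, rfl⟩).trans
      (eq_of_mem_range_fromSpecStalk X hx ⟨b, rfl⟩).symm)⟩
  haveI : DiscreteTopology ↥(Spec (X.presheaf.stalk x)) := inferInstance
  have h := V.hom.isDiscrete_preimage (s := Set.univ) (isDiscrete_univ_iff.2 ‹DiscreteTopology ↥(Spec (X.presheaf.stalk x))›)
  rw [Set.preimage_univ, isDiscrete_univ_iff] at h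
  exact h

theorem isZero_stk_KLoc {y : X} (hy : DivSeqLib.IsMaxPt y) {Ω : Type u} [Field Ω] [IsSepClosed Ω]
    (ξ : Spec (CommRingCat.of Ω) ⟶ X) (hξ : ¬ y ⤳ ξ.base default) :
    IsZero ((stk (A := AddCommGrpCat.{u + 1}) ξ).obj (KLoc y)) := by
  haveI : Subsingleton ((stk (A := AddCommGrpCat.{u + 1}) ξ).obj (KLoc y)) := by
    refine subsingleton_stalk ξ (T := (closure ({y} : Set X))ᶜ) isClosed_closure.isOpen_compl
      (fun h => hξ (specializes_iff_mem_closure.2 h)) fun U hU => ?_
    haveI : IsEmpty ((EtCoh.bc (X.fromSpecStalk y)).obj U).left := ⟨fun p => by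
      have e : U.hom.base ((pullback.fst U.hom (X.fromSpecStalk y)).base p) = y := by
        refine eq_of_mem_range_fromSpecStalk X hy ⟨(pullback.snd U.hom (X.fromSpecStalk y)).base p, ?_⟩
        exact (congrArg (fun m : pullback U.hom (X.fromSpecStalk y) ⟶ X => m.base p) pullback.condition).symm
      exact hU ⟨_, rfl⟩ (by rw [e]; exact subset_closure rfl)⟩
    exact subsingleton_sect_of_isEmpty (EtCoh.Gm _) ((EtCoh.bc (X.fromSpecStalk y)).obj U)
  exact AddCommGrpCat.isZero_of_subsingleton _

/-- `G_m` into the local groups at the maximal points. -/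
abbrev uGm : EtCoh.Gm X ⟶ ⨁ fun x : MPt X => KLoc x.1 := biproduct.lift fun x : MPt X => uLoc x.1

theorem isIso_stk_uGm {Ω : Type u} [Field Ω] [IsSepClosed Ω] (ξ : Spec (CommRingCat.of Ω) ⟶ X)
    (hmax : ∀ y : X, y ⤳ ξ.base default → y = ξ.base default) :
    IsIso ((stk (A := AddCommGrpCat.{u + 1}) ξ).map (uGm X)) := by
  classical
  haveI : Fintype (MPt X) := Fintype.ofFinite _
  let x₀ : MPt X := ⟨ξ.base default, hmax⟩
  let S := stk (A := AddCommGrpCat.{u + 1}) ξ
  let π := biproduct.π (fun x : MPt X => KLoc x.1) x₀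
  let ι := biproduct.ι (fun x : MPt X => KLoc x.1) x₀
  haveI : IsIso (S.map π) := by
    refine ⟨S.map ι, ?_, ?_⟩
    · have h1 : ∀ y : MPt X, y ≠ x₀ →
          S.map (biproduct.π (fun x : MPt X => KLoc x.1) y ≫ biproduct.ι (fun x : MPt X => KLoc x.1) y) = 0 :=
        fun y hy => by
          have h0 : IsZero (S.obj (KLoc y.1)) :=
            isZero_stk_KLoc X y.2 ξ fun h => hy (Subtype.ext (hmax _ h))
          rw [Functor.map_comp, h0.eq_of_tgt (S.map _) 0, zero_comp]
      have h2 := congrArg (fun t => S.map t) (IsBilimit.total (biproduct.isBilimit fun x : MPt X => KLoc x.1))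
      simp only [Functor.map_sum, CategoryTheory.Functor.map_id] at h2
      rw [Finset.sum_eq_single x₀ (fun y _ hy => h1 y hy) (fun h => absurd (Finset.mem_univ _) h),
        Functor.map_comp] at h2
      exact h2
    · rw [← Functor.map_comp, biproduct.ι_π_self, CategoryTheory.Functor.map_id]
  haveI : IsIso (S.map (uGm X) ≫ S.map π) := by
    rw [← Functor.map_comp, biproduct.lift_π]
    exact (ConcreteCategory.isIso_iff_bijective _).2 (bijective_stk_uLoc x₀.1 ξ rfl)
  exact IsIso.of_isIso_comp_right (S.map (uGm X)) (S.map π)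

end Groth.Agent.S5707

namespace Groth.Agent.S5707

/-- Let X be a noetherian scheme of dimension at most 1 without embedded associated points, that is,
such that for every point x of X which is not a maximal point the maximal ideal of the local ring
O_{X,x} contains a non-zero-divisor (this holds for instance when X is reduced), and assume that
every closed point of X has separably closed residue field. Then the restriction map from H²(X_et,
G_m) to the product of the groups H²(Spec O_{X,x}, G_m) over the maximal points x of X is injective: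
a class whose restriction to Spec O_{X,x} vanishes for every maximal point x is zero. -/
theorem result (X : Scheme.{u}) [IsNoetherian X] (hdim : topologicalKrullDim X ≤ 1) (hemb : ∀ x : X, (∃ y : X, y ≠ x ∧ y ⤳ x) → ∃ t ∈ IsLocalRing.maximalIdeal (X.presheaf.stalk x), t ∈ nonZeroDivisors (X.presheaf.stalk x)) (hsep : ∀ x : X, IsClosed ({x} : Set X) → IsSepClosed (X.residueField x)) [∀ x : X, Limits.PreservesFiniteLimits (EtCoh.pull (X.fromSpecStalk x))] (ξ : EtCoh.H X (EtCoh.Gm X) 2) (hξ : ∀ x : X, (∀ y : X, y ⤳ x → y = x) → EtLim.HGmPull (X.fromSpecStalk x) 2 ξ = 0) : ξ = 0 := by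
  classical
  let pts : ∀ z : Pt X, IsSepClosed (X.residueField z.1) := fun z => hsep z.1 z.2
  obtain ⟨hk, hc⟩ := suppClosed_ker_coker hdim (uGm X) fun Ω _ _ π h => isIso_stk_uGm X π (h _ ⟨default, rfl⟩)
  haveI := (bijective_map_of_suppClosed (uGm X) pts hk hc).1 2 (by norm_num)
  haveI : Fintype (MPt X) := Fintype.ofFinite _
  haveI : (EtCoh.HF X 2).Additive := ⟨fun {A B f g} => by
    ext t
    show Ext.comp t (Ext.mk₀ (f + g)) (add_zero 2) = Ext.comp t (Ext.mk₀ f) (add_zero 2) + Ext.comp t (Ext.mk₀ g) (add_zero 2)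
    rw [Ext.mk₀_add, Ext.comp_add]⟩
  apply (ConcreteCategory.bijective_of_isIso ((EtCoh.HF X 2).map (uGm X))).1
  rw [map_zero]
  have h0 : ∀ x : MPt X, (EtCoh.HF X 2).map (uGm X ≫ biproduct.π (fun x : MPt X => KLoc x.1) x) ξ = 0 := fun x => by
    rw [biproduct.lift_π]
    refine H90Lib.hofPush_injective_two (X.fromSpecStalk x.1) (discrete_bc X x.2) ?_
    rw [map_zero]
    exact hξ x.1 x.2
  generalize hw : (EtCoh.HF X 2).map (uGm X) ξ = w
  have h2 := congrArg (fun t => (EtCoh.HF X 2).map t)
    (IsBilimit.total (biproduct.isBilimit fun x : MPt X => KLoc x.1))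
  simp only [Functor.map_sum, Functor.map_comp, CategoryTheory.Functor.map_id] at h2
  refine (congrArg (fun t => t.hom w) h2).symm.trans ?_
  let ev : ((EtCoh.HF X 2).obj (⨁ fun x : MPt X => KLoc x.1) ⟶ (EtCoh.HF X 2).obj (⨁ fun x : MPt X => KLoc x.1)) →+
      (EtCoh.HF X 2).obj (⨁ fun x : MPt X => KLoc x.1) := AddMonoidHom.mk' (fun f => f.hom w) fun f g => rfl
  refine (map_sum ev _ _).trans (Finset.sum_eq_zero fun x _ => ?_)
  show ((EtCoh.HF X 2).map (biproduct.π (fun x : MPt X => KLoc x.1) x) ≫
    (EtCoh.HF X 2).map (biproduct.ι (fun x : MPt X => KLoc x.1) x)).hom w = 0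
  rw [ConcreteCategory.comp_apply]
  have h3 := h0 x
  rw [Functor.map_comp, ConcreteCategory.comp_apply, hw] at h3
  erw [h3]
  exact map_zero _

end Groth.Agent.S5707
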