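import Groth.Statements.S5715
import Groth.Agent.EtHensGmLib.Main

set_option autoImplicit false
set_option backward.isDefEq.respectTransparency false
set_option backward.isDefEq.respectTransparency.types false
set_option synthInstance.maxHeartbeats 400000
set_option maxHeartbeats 1000000
universe u
open CategoryTheory AlgebraicGeometry
open Dix

namespace Groth.Agent.S5715

open EtHensGmLib in
theorem good (R : Type u) [CommRing R] [HenselianLocalRing R] (I : Ideal R) (hI : I ≠ ⊤) :
    Good (IsLocalRing.ResidueField R) ((EtCoh.pull (EtHensLib.cp R)).obj (KI I)) := by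
  have key : ∀ (B : Type u) [CommRing B] [Algebra R B] [Algebra.Etale R B] [HenselianLocalRing B]
      (L : Type u) [Field L] (π : B →+* L), Function.Surjective π →
      (∀ r, IsLocalRing.residue R r = 0 → π (algebraMap R B r) = 0) →
      ∀ c : Spec (CommRingCat.of L) ⟶ Spec (CommRingCat.of R),
        Spec.map (CommRingCat.ofHom π) ≫ aS R B = c → Base L ((EtCoh.pull c).obj (KI I)) := by
    intro B _ _ _ _ L _ π hπ hres c w
    haveI := isIso_c (Spec.map (CommRingCat.ofHom π)) (aS R B) c w (KI I)
    refine (base_of I B ?_ π hπ).of_iso (asIso ((DescSecLib.etSys.c _ (aS R B) c w).app (KI I)))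
    intro h
    have h1 : I.map (algebraMap R B) ≤ RingHom.ker π := Ideal.map_le_iff_le_comap.2 fun r hr =>
      hres r (Ideal.Quotient.eq_zero_iff_mem.2 (IsLocalRing.le_maximalIdeal hI hr))
    exact (RingHom.ker_isMaximal_of_surjective π hπ).ne_top (top_le_iff.1 (h ▸ h1))
  refine ⟨key R _ (IsLocalRing.residue R) IsLocalRing.residue_surjective (fun r hr => hr) _ ?_, fun L _ _ _ _ => ?_⟩
  · show _ ≫ Spec.map (CommRingCat.ofHom (RingHom.id R)) = _
    rw [show CommRingCat.ofHom (RingHom.id R) = 𝟙 _ from rfl, Spec.map_id, Category.comp_id]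
  · obtain ⟨C, _, _, _, _, _, ρ, hρs, hρ, -, -⟩ := exists_lift (IsLocalRing.residue R) IsLocalRing.residue_surjective L
    have w : Spec.map (CommRingCat.ofHom ρ) ≫ aS R C = cL (IsLocalRing.ResidueField R) L ≫ EtHensLib.cp R := by
      rw [← Spec.map_comp, ← Spec.map_comp, ← CommRingCat.ofHom_comp, ← CommRingCat.ofHom_comp, hρ]
    haveI := isIso_c (cL (IsLocalRing.ResidueField R) L) (EtHensLib.cp R) _ rfl (KI I)
    refine (key C L ρ hρs (fun r hr => ?_) _ w).of_iso
      (asIso ((DescSecLib.etSys.c _ (EtHensLib.cp R) _ rfl).app (KI I))).symm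
    exact (RingHom.congr_fun hρ r).trans (by rw [RingHom.comp_apply, hr, map_zero])

/-- The case of the multiplicative group and the étale topology. Let R be a henselian local ring and I a
proper ideal of R, so that Spec R/I is a nonempty closed subscheme of the henselian local scheme
Spec R. Then for every i ≥ 1 the restriction map H^i((Spec R)_et, G_m) → H^i((Spec R/I)_et, G_m) is
bijective. The restriction map is EtLim.HGmPull along Spec R/I → Spec R, with the exactness of the
inverse image carried as an instance binder. -/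
theorem result (R : Type u) [CommRing R] [HenselianLocalRing R] (I : Ideal R) (hI : I ≠ ⊤) [Limits.PreservesFiniteLimits (EtCoh.pull (Spec.map (CommRingCat.ofHom (Ideal.Quotient.mk I))))] (i : ℕ) (hi : 1 ≤ i) : Function.Bijective (EtLim.HGmPull (Spec.map (CommRingCat.ofHom (Ideal.Quotient.mk I))) i) := by
  refine EtHensGmLib.bijective_HGmPull _ (fun j hj => ?_) i hi
  haveI := EtHensGmLib.subsingleton_H j (IsLocalRing.ResidueField R) _ (good R I hI) hj
  exact (EtHensLib.bijective_Hpull (A := R) (EtHensGmLib.KI I) j).1.subsingleton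

end Groth.Agent.S5715
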