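import Groth.Statements.S5726
import Mathlib
import Mathlib
import Groth.Agent.EGA2SymLib.PushAlg
import Groth.Agent.EGA2SymLib.RLDom
import Groth.Agent.EGA2SymLib.SubGen
import Groth.Agent.EGA2SymLib.RLCrit
import Groth.Agent.EGA2SymLib.Factor
import Groth.Agent.EGA2SymLib.TwistQ
import Groth.Agent.S12688
-- import your own Groth.Agent.* helpers here

set_option autoImplicit false
universe u
open CategoryTheory CategoryTheory.Limits AlgebraicGeometry TopologicalSpace Opposite
open scoped HomogeneousIdeal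
open EGA2

namespace Groth.Agent.S5726

/-- Let Y be a scheme which is either quasi-compact and separated or Noetherian, q : X → Y a morphism of
finite type and L an invertible O_X-module which is very ample relative to q. Then there are a
quasi-coherent graded O_Y-algebra 𝒮 generated by its degree-one part, that part being of finite
type, a relative homogeneous spectrum p : P → Y of 𝒮 (given with its charts over affine opens)
together with its twisting sheaf O_P(1) (given with its chart identifications), and an open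
immersion i : X → P with dense image such that i ≫ p = q and L is isomorphic to i^*O_P(1). (The
published statement keeps the notation of the proposition it follows, in which q is of finite type;
without that hypothesis the conclusion fails, for instance for the affine space of countably
infinite dimension over a field with the structure sheaf, which is an open subscheme of a projective
bundle over the field but is not of finite type.) -/
theorem result {X Y : Scheme.{u}}
    (hY : (CompactSpace Y ∧ Y.IsSeparated) ∨ AlgebraicGeometry.IsNoetherian Y) (q : X ⟶ Y) [QuasiCompact q] [LocallyOfFiniteType q]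
    (L : X.Modules) (hL : PicF.IsInvertible L) (h : RelProj.IsRelVeryAmple q L) :
    ∃ (𝒮 : RelProj.QCGrAlg Y) (P : Scheme.{u}) (p : P ⟶ Y)
      (chart : ∀ (U : Y.Opens) (hU : IsAffineOpen U), ((p ⁻¹ᵁ U : P.Opens) : Scheme.{u}) ≅ Proj (𝒮.deg U hU))
      (O1 : P.Modules)
      (lam : ∀ (U : Y.Opens) (hU : IsAffineOpen U),
        O1 ⟶ (Scheme.Modules.pushforward (RelProj.emb p chart U hU)).obj (GrTwist.twist (𝒮.deg U hU) 1))
      (i : X ⟶ P),
      𝒮.IsGenDegOne ∧ 𝒮.IsFTDeg 1 ∧ RelProj.IsRelProj 𝒮 p chart ∧ RelProj.IsRelTwist 𝒮 p chart 1 O1 lam ∧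
        IsOpenImmersion i ∧ Dense (Set.range i.base) ∧ i ≫ p = q ∧
        Nonempty (L ≅ (Scheme.Modules.pullback i).obj O1) := by
  have hYs : (CompactSpace Y ∧ Y.IsSeparated) ∨ NoetherianSpace Y := by
    rcases hY with h | h
    · exact Or.inl h
    · exact Or.inr inferInstance
  haveI := EGA2SymLib.isSeparated_of_isRelVeryAmple h
  haveI : Coh.IsQCoh L :=
    (LocSuppLib.isCoh_of_isFinLocFree fun x =>
      let ⟨V, h⟩ := (CohCmpLib.invertible_iff_rank_one _).1 hL x; ⟨V, 1, h⟩).1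
  haveI : Coh.IsQCoh ((Scheme.Modules.pushforward q).obj L) := QCohLib.isQCoh_pushforward q L
  have hsec : ∀ x : X, ∃ (U : Y.Opens) (_ : IsAffineOpen U),
      EGA2SymLib.SecAtS (q := q) (L := L) (𝟙 ((Scheme.Modules.pushforward q).obj L)) U x := fun x => by
    obtain ⟨U, hU, hxU, -⟩ := exists_isAffineOpen_mem_and_subset (X := Y) (x := q x) (U := ⊤) trivial
    exact ⟨U, hU, EGA2SymLib.secAt_of_isRelVeryAmple h hU hxU⟩
  obtain ⟨E, ι, hE, hft, -, hd⟩ := EGA2SymLib.exists_ft_sub_secAtS hYs hL hsec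
  haveI := hE
  let σ : E ⟶ (Scheme.Modules.pushforward q).obj L := ι ≫ 𝟙 _
  obtain ⟨𝒮L, jL, hjL⟩ := EGA2SymLib.exists_isGrSymAlg L
  obtain ⟨PL, pL, chartL, hPL⟩ := MiscFlat6.exists_relProj 𝒮L
  haveI := Groth.Agent.S12143.result L hL inferInstance 𝒮L jL hjL pL chartL hPL
  -- the image algebra
  let 𝒜 := EGA2SymLib.pushGr q 𝒮L
  let j0 : E ⟶ 𝒜.toModule :=
    σ ≫ (Scheme.Modules.pushforward q).map jL ≫ EGA2SymLib.pushToModule q 𝒮L.toQCAlg
  have hj0 : ∀ (U : Y.Opens) (hU : IsAffineOpen U) (e : Γ(E, U)), EGA2SymLib.jS j0 U e ∈ 𝒜.deg U hU 1 := by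
    intro U hU e V hV hle
    show (𝒮L.presheaf.map (homOfLE hle).op).hom (jL.app (q ⁻¹ᵁ U) (σ.app U e)) ∈ _
    rw [← EGA2SymLib.sV_res jL hle (σ.app U e)]
    exact hjL.2 V hV _
  let 𝒮 := EGA2SymLib.subGr 𝒜 j0 1 hj0 one_pos
  obtain ⟨-, hinj, -, hgen, hftdeg⟩ := EGA2SymLib.subGr_properties 𝒜 j0 1 hj0 one_pos hft
  let inc := EGA2SymLib.subGrIncl 𝒜 j0 1 hj0 one_pos
  let u : RelProj.QGrHom q 𝒮 𝒮L :=
    { app := fun U => inc.hom.app (op U)
      naturality := fun _ => rfl
      str_app := fun U => NatTrans.congr_app inc.comm (op U)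
      map_mem := fun U hU U' hU' hle {d} {x} hx => hx U' hU' hle }
  -- comparison with the symmetric algebra
  obtain ⟨𝒯, jE, hT⟩ := EGA2SymLib.exists_isGrSymAlg E
  obtain ⟨v, hvj, -⟩ := hT.1 𝒮.toQCAlg (SymGenLib.corestrict 𝒜.toQCAlg j0)
  have hvj' : ∀ (U : Y.Opens) (e : Γ(E, U)), (inc.hom.app (op U)).hom ((v.hom.app (op U)).hom (jE.app U e)) =
      j0.app U e := fun U e =>
    congrArg (fun z => (inc.hom.app (op U)).hom z) (congrArg (fun φ => φ.app U e) hvj)
  have hv : RelProj.IsGradedHom v := by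
    intro U hU d x hx
    refine EGA2SymLib.map_mem_of_gen (v.hom.app (op U)).hom (SymGenLib.isGenDegOne hT U hU) (fun y hy => ?_)
      (fun y hy => ?_) hx
    · obtain ⟨a, rfl⟩ := EGA2SymLib.exists_of_mem_zero hT hU hy
      rw [show (v.hom.app (op U)).hom ((𝒯.str.app (op U)).hom a) = (𝒮.str.app (op U)).hom a from
        congr($(v.comm).app (op U) a)]
      exact 𝒮.str_mem U hU a
    · obtain ⟨e, rfl⟩ := EGA2SymLib.exists_of_mem_one hT U hU hy
      show (inc.hom.app (op U)).hom ((v.hom.app (op U)).hom (jE.app U e)) ∈ 𝒜.deg U hU 1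
      rw [hvj']
      exact hj0 U hU e
  let uE : RelProj.QGrHom q 𝒯 𝒮L :=
    { app := fun U => v.hom.app (op U) ≫ u.app U
      naturality := fun {U V} i => by
        rw [Category.assoc, u.naturality i, ← Category.assoc, ← v.hom.naturality, Category.assoc]
      str_app := fun U => by
        rw [← Category.assoc, show 𝒯.str.app (op U) ≫ v.hom.app (op U) = 𝒮.str.app (op U) from
          NatTrans.congr_app v.comm (op U)]
        exact u.str_app U
      map_mem := fun U hU U' hU' hle {d} {x} hx => u.map_mem U hU U' hU' hle (hv U hU d x hx) }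
  have huE : ∀ (U : Y.Opens) (x : Γ(E, U)), (uE.app U).hom ((jE.app U) x) = (jL.app (q ⁻¹ᵁ U)) (σ.app U x) :=
    fun U e => hvj' U e
  have hgenAt : ∀ x : X, ∃ (U : Y.Opens) (e : Γ(E, U)) (hx : x ∈ q ⁻¹ᵁ U),
      AmpleLib.GenAt L (show Γ(L, q ⁻¹ᵁ U) from σ.app U e) hx := fun x => by
    obtain ⟨U, hU, e, hx, hg, -⟩ := hd x
    exact ⟨U, e, hx, hg⟩
  haveI : Epi (EGA2SymLib.adjA σ) := EGA2SymLib.epi_of_genAt _ fun x => by
    obtain ⟨U, e, hx, hgx⟩ := hgenAt x
    exact ⟨q ⁻¹ᵁ U, hx, KFlatLib.puSec q e, EGA2SymLib.genAt_congr (EGA2SymLib.adjA_puSec σ e).symm hgx⟩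
  have hirrE := EGA2SymLib.irrelevant_le_of_epi (EGA2SymLib.adjA σ) hT hjL (EGA2SymLib.graded_of_sigma huE)
  have hirr : ∀ c : EGA2SymLib.APair q, (𝒮L.deg c.i.1 c.i.2)₊ ≤ ((𝒮.deg c.U.1 c.U.2)₊).map (c.hom u) := by
    intro c
    refine (hirrE c).trans ?_
    refine Ideal.map_le_iff_le_comap.mpr ?_
    intro x hx
    rw [Ideal.mem_comap]
    show c.hom u ((v.hom.app (op c.U.1)).hom x) ∈ _
    refine Ideal.mem_map_of_mem _ ?_
    have hle : (HomogeneousIdeal.irrelevant (𝒯.deg c.U.1 c.U.2)).toIdeal ≤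
        (HomogeneousIdeal.irrelevant (𝒮.deg c.U.1 c.U.2)).toIdeal.comap (v.hom.app (op c.U.1)).hom := by
      rw [HomogeneousIdeal.irrelevant_eq_span]
      refine Ideal.span_le.mpr fun a ha => ?_
      simp only [Set.mem_iUnion] at ha
      obtain ⟨n, hn, ha⟩ := ha
      exact HomogeneousIdeal.mem_irrelevant_of_mem _ hn (hv _ _ n a ha)
    exact hle hx
  -- the projective spectra
  obtain ⟨P, p, chart, hP⟩ := MiscFlat6.exists_relProj 𝒮
  obtain ⟨O1, lam, hO1⟩ := GrModLib6.exists_isRelTwist hP 1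
  obtain ⟨h', hh, hover⟩ := EGA2SymLib.exists_isProjQMap u hirr hP hPL
  have hon : RelProj.IsProjQMapOn u p chart pL chartL (RelProj.domQ u pL chartL)
      ((RelProj.domQ u pL chartL).ι ≫ h') := fun U hU U' hU' hle d hd f hf hW => by
    rw [← Category.assoc, IsOpenImmersion.lift_fac]
    exact hh.2 U hU U' hU' hle d hd f hf
  haveI hιL : IsIso (RelProj.domQ u pL chartL).ι := by
    rw [hh.1]
    exact inferInstanceAs (IsIso (Scheme.topIso PL).hom)
  obtain ⟨P', p', chart', hP'⟩ := MiscFlat6.exists_relProj 𝒯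
  obtain ⟨r', hr', -⟩ := RelConeLib.existsUnique_isProjQMapOn uE hP' hPL
  obtain ⟨htopE, -, hImm⟩ := EGA2SymLib.domQ_eq_top_and_isImmersion_iff hL hjL hPL hT huE hgenAt hP' r' hr'
  haveI := hImm hd
  obtain ⟨k, ρ, Φ, hk, -, hρ, hrΦ⟩ := EGA2SymLib.exists_factor (u := u) hv (u' := uE) (fun U => rfl) hP hP' hPL hon hr'
  haveI : IsIso k := by
    haveI : IsIso (k ≫ (RelProj.domQ u pL chartL).ι) := by
      rw [hk, htopE]
      exact inferInstanceAs (IsIso (Scheme.topIso PL).hom)
    exact IsIso.of_isIso_comp_right k (RelProj.domQ u pL chartL).ι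
  haveI : IsImmersion (ρ ≫ Φ) := hrΦ ▸ inferInstance
  haveI : IsImmersion ρ := IsImmersion.of_comp ρ Φ
  haveI : IsImmersion ((RelProj.domQ u pL chartL).ι ≫ h') := by
    have e : (RelProj.domQ u pL chartL).ι ≫ h' =
        inv k ≫ ρ ≫ (RelProj.domQ (RelProj.QGrHom.ofHom v hv) p chart).ι := by
      rw [hρ, IsIso.inv_hom_id_assoc]
    rw [e]
    infer_instance
  -- open and dense
  have hUy : ∀ z : Y, ∃ U : Y.Opens, IsAffineOpen U ∧ z ∈ U := fun z =>
    let ⟨U, hU, hz, _⟩ := exists_isAffineOpen_mem_and_subset (X := Y) (x := z) (U := ⊤) trivial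
    ⟨U, hU, hz⟩
  choose Uy hUy hzy using hUy
  obtain ⟨hqc, hdom⟩ := EGA2SymLib.quasiCompact_schemeDominant_of_injective hL hjL hPL hP hon Uy hUy hzy
    fun z => hinj (Uy z) (hUy z)
  haveI := hqc
  haveI := hdom
  haveI hopen : IsOpenImmersion ((RelProj.domQ u pL chartL).ι ≫ h') :=
    EGA2SymLib.isOpenImmersion_of_schemeDominant _
  have hi : inv pL ≫ h' =
      inv pL ≫ inv (RelProj.domQ u pL chartL).ι ≫ (RelProj.domQ u pL chartL).ι ≫ h' := by
    rw [IsIso.inv_hom_id_assoc]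
  refine ⟨𝒮, P, p, chart, O1, lam, inv pL ≫ h', hgen, hftdeg, hP, hO1, ?_, ?_, ?_, ?_⟩
  · rw [hi]
    infer_instance
  · haveI : IsDominant (inv pL ≫ h') := by
      rw [hi]
      infer_instance
    exact (inv pL ≫ h').denseRange
  · rw [Category.assoc, hover, IsIso.inv_hom_id_assoc]
  · obtain ⟨OL, lamL, hOL⟩ := GrModLib6.exists_isRelTwist hPL 1
    obtain ⟨φL, hφL⟩ := EGA2SymLib.exists_canonicalMap_one hPL hOL jL hjL.2
    haveI := Groth.Agent.S5732.result L inferInstance 𝒮L jL hjL pL chartL hPL OL lamL hOL φL hφL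
    haveI := CohCmpLib.isIso_of_epi_rank_one
      (CohCmpLib.rank_one_pullback pL ((CohCmpLib.invertible_iff_rank_one L).1 hL))
      ((CohCmpLib.invertible_iff_rank_one OL).1 (EGA2SymLib.isInvertible_of_isRelTwist (SymGenLib.isGenDegOne hjL) hOL))
      (((Scheme.Modules.pullbackPushforwardAdjunction pL).homEquiv L OL).symm φL)
    have key : ∀ (m : ℤ), m = 1 * ((1 : ℕ) : ℤ) →
        ∀ (lam₁ : ∀ (U : Y.Opens) (hU : IsAffineOpen U),
          O1 ⟶ (Scheme.Modules.pushforward (RelProj.emb p chart U hU)).obj (GrTwist.twist (𝒮.deg U hU) m))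
        (lamL₁ : ∀ (U : X.Opens) (hU : IsAffineOpen U),
          OL ⟶ (Scheme.Modules.pushforward (RelProj.emb pL chartL U hU)).obj (GrTwist.twist (𝒮L.deg U hU) m)),
        RelProj.IsRelTwist 𝒮 p chart m O1 lam₁ → RelProj.IsRelTwist 𝒮L pL chartL m OL lamL₁ →
        Nonempty ((Scheme.Modules.pullback h').obj O1 ≅ OL) := by
      rintro m rfl lam₁ lamL₁ h₁ h₂
      exact EGA2SymLib.nonempty_pullback_twist_iso hirr (EGA2SymLib.emb_comp_of_isProjQMap hirr hh) hP hPL hgen h₁ h₂
    obtain ⟨θ⟩ := key 1 (by simp) lam lamL hO1 hOL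
    let a := asIso (((Scheme.Modules.pullbackPushforwardAdjunction pL).homEquiv L OL).symm φL)
    have hιp : inv pL ≫ pL = 𝟙 X := IsIso.inv_hom_id pL
    exact ⟨(((Scheme.Modules.pullbackComp (inv pL) h').app O1).symm ≪≫
      (Scheme.Modules.pullback (inv pL)).mapIso (θ ≪≫ a.symm) ≪≫
        (Scheme.Modules.pullbackComp (inv pL) pL).app L ≪≫ (Scheme.Modules.pullbackCongr hιp).app L ≪≫
        (Scheme.Modules.pullbackId X).app L).symm⟩

end Groth.Agent.S5726
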