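import Groth.Statements.S5727
import Mathlib
import Groth.Agent.EGA2SymLib.FTVA
import Groth.Agent.EGA2SymLib.PBFun
import Groth.Agent.MiscFlat6.RelVeryAmple
import Groth.Agent.MiscFlat6.CounitTwist
import Groth.Agent.SerreVanLib.TwTensor
import Groth.Agent.QCohLib.SerreCrit
-- import your own Groth.Agent.* helpers here

set_option autoImplicit false
universe u
open CategoryTheory CategoryTheory.Limits AlgebraicGeometry TopologicalSpace Opposite
open scoped HomogeneousIdeal
open EGA2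

namespace Groth.Agent.S5727

/-- Let Z be a scheme which is either quasi-compact and separated or has Noetherian underlying space, g
: Y → Z a quasi-compact morphism, K an invertible O_Y-module which is very ample relative to g, and
E a quasi-coherent O_Y-module of finite type. Then there is m₀ such that for every m ≥ m₀ there are
a quasi-coherent O_Z-module F of finite type (depending on m) and an epimorphism g^*F → E ⊗ K^{⊗m}.
(The published statement says that E is isomorphic to a quotient of g^*F ⊗ K^{⊗(-m)}; for invertible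
K this is the same as E ⊗ K^{⊗m} being a quotient of g^*F, the form used here, which avoids negative
tensor powers.) -/
theorem result {Y Z : Scheme.{u}}
    (hZ : (CompactSpace Z ∧ Z.IsSeparated) ∨ TopologicalSpace.NoetherianSpace Z) (g : Y ⟶ Z) [QuasiCompact g]
    (K : Y.Modules) (hK : PicF.IsInvertible K) (hKva : RelProj.IsRelVeryAmple g K)
    (E : Y.Modules) (hE : Coh.IsQCoh E) (hEft : CohB1.IsFT E) :
    ∃ m₀ : ℕ, ∀ m : ℕ, m₀ ≤ m →
      ∃ (F : Z.Modules) (φ : (Scheme.Modules.pullback g).obj F ⟶ CohB1.tensorMod E (CohB1.tensorPow K m)),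
        Coh.IsQCoh F ∧ CohB1.IsFT F ∧ Epi φ := by
  classical
  haveI : CompactSpace Z := by rcases hZ with h | h <;> [exact h.1; exact inferInstance]
  haveI : QuasiSeparatedSpace Z := by
    rcases hZ with h | h
    · haveI := h.2
      infer_instance
    · exact ⟨fun U V _ _ _ _ => TopologicalSpace.NoetherianSpace.isCompact _⟩
  haveI : CompactSpace Y := QuasiCompact.compactSpace_of_compactSpace g
  haveI := EGA2SymLib.isSeparated_of_isRelVeryAmple hKva
  obtain ⟨m₀, -, hm₀⟩ := MiscFlat6.exists_counit_epi_twist g (MiscFlat6.isRelAmple_of_isRelVeryAmple hKva) E ⟨hE, hEft⟩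
  refine ⟨m₀, fun m hm => ?_⟩
  let M := CohB1.tensorMod E (CohB1.tensorPow K m)
  have hM : Coh.IsCoh M := SerreVanLib.isCoh_tensor ⟨hE, hEft⟩ (AmpleThLib.tensorPow_isInvertible hK m)
  haveI := hM.1
  haveI : Coh.IsQCoh ((Scheme.Modules.pushforward g).obj M) := QCohLib.isQCoh_pushforward g M
  let c : KFlatLib.pb g ((Scheme.Modules.pushforward g).obj M) ⟶ M :=
    (Scheme.Modules.pullbackPushforwardAdjunction g).counit.app M
  haveI : Epi c := hm₀ m hm
  have hc : c = EGA2SymLib.canQ g M :=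
  ((Scheme.Modules.pullbackPushforwardAdjunction g).homEquiv_symm_id M).symm
  have hloc : ∀ y : Y, ∃ (U : Z.affineOpens) (V : Y.Opens) (_ : IsAffineOpen V) (hVU : V ≤ g ⁻¹ᵁ U.1)
      (R : Finset Γ((Scheme.Modules.pushforward g).obj M, U.1)), y ∈ V ∧
        Submodule.span Γ(Y, V) ((fun r : Γ((Scheme.Modules.pushforward g).obj M, U.1) =>
          AmpleLib.res M hVU (show Γ(M, g ⁻¹ᵁ U.1) from r)) '' (R : Set _)) = ⊤ := by
    intro y
    obtain ⟨U, hU, hyU, -⟩ := exists_isAffineOpen_mem_and_subset (X := Z) (x := g y) (U := ⊤) trivial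
    obtain ⟨V, hV, hyV, hle⟩ := exists_isAffineOpen_mem_and_subset (X := Y) (x := y) (U := g ⁻¹ᵁ U) hyU
    have hspan := EGA2SymLib.span_qVal c (U := U) hU hV hle
    have hfun : (fun r : Γ((Scheme.Modules.pushforward g).obj M, U) =>
        M.presheaf.map (homOfLE (show V ≤ g ⁻¹ᵁ U from hle)).op (EGA2SymLib.qVal c U r)) =
        fun r : Γ((Scheme.Modules.pushforward g).obj M, U) =>
          AmpleLib.res M (show V ≤ g ⁻¹ᵁ U from hle) (show Γ(M, g ⁻¹ᵁ U) from r) := by
      funext r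
      rw [hc, EGA2SymLib.qVal_canQ]
    rw [hfun] at hspan
    obtain ⟨T, hT, hTspan⟩ := (Submodule.fg_span_iff_fg_span_finset_subset _).mp
      (show (Submodule.span Γ(Y, V) (Set.range fun r : Γ((Scheme.Modules.pushforward g).obj M, U) =>
        AmpleLib.res M (show V ≤ g ⁻¹ᵁ U from hle) (show Γ(M, g ⁻¹ᵁ U) from r))).FG from
        hspan ▸ (QCohLib.finite_of_isFT hM.2 hV).fg_top)
    choose! r hr using fun t (ht : t ∈ T) => hT ht
    refine ⟨⟨U, hU⟩, V, hV, hle, T.image r, hyV, top_le_iff.mp (hspan ▸ hTspan ▸ Submodule.span_mono ?_)⟩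
    intro t ht
    exact ⟨r t, Finset.mem_coe.mpr (Finset.mem_image_of_mem r (Finset.mem_coe.mp ht)), hr t ht⟩
  choose U V hV hVU R hyV hR using hloc
  obtain ⟨t, ht⟩ := isCompact_univ.elim_finite_subcover (fun y => (V y : Set Y)) (fun y => (V y).isOpen)
    (fun y _ => Set.mem_iUnion.mpr ⟨y, hyV y⟩)
  obtain ⟨S, hS, hSt⟩ := EGA2SymLib.exists_ft_through_finset (F := (Scheme.Modules.pushforward g).obj M)
    (t.biUnion fun y => (R y).image fun r =>
      (⟨U y, r⟩ : Σ W : Z.affineOpens, Γ((Scheme.Modules.pushforward g).obj M, W.1)))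
  haveI := QCohLib.LocSub.isQCoh_toModules S hS
  refine ⟨S.toModules, EGA2SymLib.adjA S.ι, inferInstance, QCohLib.LocSub.isFT_toModules S hS,
    QCohLib.epi_of_surjective_on_affines _ fun W s p hp => ?_⟩
  obtain ⟨y, hyt, hpV⟩ := Set.mem_iUnion₂.mp (ht (Set.mem_univ p))
  obtain ⟨V', hV', hpV', hle'⟩ := exists_isAffineOpen_mem_and_subset (X := Y) (x := p) (U := W ⊓ V y) ⟨hp, hpV⟩
  obtain ⟨f, hfV', hpf⟩ := (hV y).exists_basicOpen_le (V := V') ⟨p, hpV'⟩ hpV
  have hDW : Y.basicOpen f ≤ W := hfV'.trans ((show V' ≤ W ⊓ V y from hle').trans inf_le_left)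
  refine ⟨Y.basicOpen f, hDW, hpf, ?_⟩
  let q := (EGA2SymLib.adjA S.ι).app (Y.basicOpen f)
  let Im : Submodule Γ(Y, Y.basicOpen f) Γ(M, Y.basicOpen f) :=
    { carrier := Set.range q
      zero_mem' := ⟨0, map_zero _⟩
      add_mem' := by rintro _ _ ⟨a, rfl⟩ ⟨b, rfl⟩; exact ⟨a + b, map_add _ a b⟩
      smul_mem' := by rintro r _ ⟨a, rfl⟩; exact ⟨r • a, QCohLib.app_smul _ _ r a⟩ }
  have hall : ∀ z : Γ(M, V y), AmpleLib.res M (Y.basicOpen_le f) z ∈ Im := by
    intro z
    have hz : z ∈ Submodule.span Γ(Y, V y) ((fun r : Γ((Scheme.Modules.pushforward g).obj M, (U y).1) =>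
          AmpleLib.res M (hVU y) (show Γ(M, g ⁻¹ᵁ (U y).1) from r)) '' (R y : Set _)) := hR y ▸ trivial
    induction hz using Submodule.span_induction with
    | mem z hz =>
      obtain ⟨r, hr, rfl⟩ := hz
      have hrS : S.mem (U y).1 r := hSt ⟨U y, r⟩ (Finset.mem_biUnion.mpr ⟨y, hyt, Finset.mem_image_of_mem _ hr⟩)
      refine ⟨KFlatLib.puSecLE g S.toModules ((Y.basicOpen_le f).trans (hVU y)) (S.lift r hrS), ?_⟩
      refine (EGA2SymLib.res_qVal (EGA2SymLib.adjA S.ι) ((Y.basicOpen_le f).trans (hVU y)) (S.lift r hrS)).symm.trans ?_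
      rw [show EGA2SymLib.qVal (EGA2SymLib.adjA S.ι) (U y).1 (S.lift r hrS) = _ from EGA2SymLib.adjA_puSec S.ι _]
      exact (AmpleLib.res_res M (hVU y) (Y.basicOpen_le f) _).symm
    | zero => simp only [AmpleLib.res, map_zero]; exact zero_mem _
    | add a b _ _ ha hb => simp only [AmpleLib.res, map_add]; exact add_mem ha hb
    | smul r a _ ha => rw [AmpleLib.res_smul]; exact Im.smul_mem _ ha
  obtain ⟨k, z, hz⟩ := (QCohLib.localizingAt_of_isQCoh (hV y) M f).exists_extend (AmpleLib.res M hDW s)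
  obtain ⟨v, hv⟩ := (show IsUnit ((Y.presheaf.map (homOfLE (Y.basicOpen_le f)).op).hom f ^ k) from
    (Y.toRingedSpace.isUnit_res_basicOpen f).pow k)
  have h1 : AmpleLib.res M hDW s = (↑v⁻¹ : Γ(Y, Y.basicOpen f)) • AmpleLib.res M (Y.basicOpen_le f) z := by
    have hz' : AmpleLib.res M (Y.basicOpen_le f) z = (↑v : Γ(Y, Y.basicOpen f)) • AmpleLib.res M hDW s := by
      rw [hv]; exact hz
    rw [hz', smul_smul, Units.inv_mul, one_smul]
  have h2 : AmpleLib.res M hDW s ∈ Im := h1 ▸ Im.smul_mem _ (hall z)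
  obtain ⟨a, ha⟩ := h2
  exact ⟨a, ha⟩

end Groth.Agent.S5727
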