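import Groth.Statements.S5728
import Mathlib
import Groth.Agent.CurveDualLib.ProjectivePn
import Groth.Agent.EGA2SymLib.BaseChange
import Groth.Agent.EGA2SymLib.PnVA
-- import your own Groth.Agent.* helpers here

set_option autoImplicit false
universe u
open CategoryTheory CategoryTheory.Limits AlgebraicGeometry TopologicalSpace Opposite
open scoped HomogeneousIdeal
open EGA2

namespace Groth.Agent.S5728

/-- Let f : X → Y be a proper morphism and L an invertible O_X-module which is very ample relative to f
and whose direct image f_*L (a quasi-coherent O_Y-module) is of finite type. Then f is projective: X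
is isomorphic over Y to the relative homogeneous spectrum of a quasi-coherent graded O_Y-algebra
generated by its degree-one part, with that part of finite type. -/
theorem result {X Y : Scheme.{u}} (f : X ⟶ Y) [IsProper f]
    (L : X.Modules) (hL : PicF.IsInvertible L) (hva : RelProj.IsRelVeryAmple f L)
    (hft : CohB1.IsFT ((Scheme.Modules.pushforward f).obj L)) : RelProj.IsProjective f := by
  refine CurveDualLib.isProjective_of_locally_pn f hL hft fun s => ?_
  obtain ⟨V, hV, hsV, -⟩ := exists_isAffineOpen_mem_and_subset (X := Y) (x := s) (U := ⊤) trivial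
  haveI : IsAffine (V : Scheme.{u}) := hV
  have hsq : IsPullback (f ⁻¹ᵁ V).ι (f ∣_ V) f V.ι := (isPullback_morphismRestrict f V).flip
  have hva' := EGA2SymLib.isRelVeryAmple_baseChange f hsq L hva
  have hinv : PicF.IsInvertible (L.restrict (f ⁻¹ᵁ V).ι) := AmpleThLib.restrict_isInvertible hL _
  have hpn := EGA2SymLib.isRelVeryAmplePn_of_isRelVeryAmple (f ∣_ V)
    (TwistLib.isInvertible_congr ((Scheme.Modules.restrictFunctorIsoPullback (f ⁻¹ᵁ V).ι).app L) hinv) hva'
  obtain ⟨n, i, hi, hiq, ⟨φ⟩⟩ := hpn
  exact ⟨V, hsV, hV, n, i, hi, hiq,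
    ⟨((Scheme.Modules.restrictFunctorIsoPullback (f ⁻¹ᵁ V).ι).app L) ≪≫ φ⟩⟩

end Groth.Agent.S5728
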