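import Groth.Statements.S5730
import Mathlib
import Groth.Agent.EGA2SymLib.PBTwist
import Groth.Agent.EGA2SymLib.CanId
import Groth.Agent.GrModLib6.RelPow
import Groth.Agent.AmpleDevLib.Pull
import Groth.Agent.AmpleThLib.Ample
-- import your own Groth.Agent.* helpers here

set_option autoImplicit false
universe u
open CategoryTheory CategoryTheory.Limits AlgebraicGeometry TopologicalSpace Opposite
open scoped HomogeneousIdeal
open EGA2

namespace Groth.Agent.S5730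

/-- Let E be a quasi-coherent O_Y-module and L an invertible O_Y-module, 𝒮 (with j : E → 𝒮) the graded
symmetric algebra of E and 𝒯 (with k : E ⊗ L → 𝒯) that of E ⊗ L, and let p : P → Y, q : Q → Y be the
projective bundles P(E) = Proj(𝒮) and P(E ⊗ L) = Proj(𝒯) with their charts over affine opens. Then
there is an isomorphism i : P ≅ Q over Y such that, for every n ≥ 0 and all twisting sheaves O_P(n)
and O_Q(n) (modules given with their chart identifications), i^*O_Q(n) is isomorphic to O_P(n) ⊗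
p^*(L^{⊗n}). (Existence of the isomorphisms only: the published statement names a canonical i and
canonical identifications, and states the twist relation for every integer n; this row asserts
existence and the relation for n ≥ 0.) -/
theorem result {Y P Q : Scheme.{u}} (E : Y.Modules) (hE : Coh.IsQCoh E)
    (L : Y.Modules) (hL : PicF.IsInvertible L)
    (𝒮 : RelProj.QCGrAlg Y) (j : E ⟶ 𝒮.toModule) (hj : RelProj.IsGrSymAlg E 𝒮 j)
    (𝒯 : RelProj.QCGrAlg Y) (k : CohB1.tensorMod E L ⟶ 𝒯.toModule) (hk : RelProj.IsGrSymAlg (CohB1.tensorMod E L) 𝒯 k)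
    (p : P ⟶ Y)
    (chart : ∀ (U : Y.Opens) (hU : IsAffineOpen U), ((p ⁻¹ᵁ U : P.Opens) : Scheme.{u}) ≅ Proj (𝒮.deg U hU))
    (hP : RelProj.IsRelProj 𝒮 p chart) (q : Q ⟶ Y)
    (chartQ : ∀ (U : Y.Opens) (hU : IsAffineOpen U), ((q ⁻¹ᵁ U : Q.Opens) : Scheme.{u}) ≅ Proj (𝒯.deg U hU))
    (hQ : RelProj.IsRelProj 𝒯 q chartQ) :
    ∃ i : P ≅ Q, i.hom ≫ q = p ∧
      ∀ (n : ℕ) (OP : P.Modules)
        (lamP : ∀ (U : Y.Opens) (hU : IsAffineOpen U),
          OP ⟶ (Scheme.Modules.pushforward (RelProj.emb p chart U hU)).obj (GrTwist.twist (𝒮.deg U hU) (n : ℤ)))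
        (OQ : Q.Modules)
        (lamQ : ∀ (U : Y.Opens) (hU : IsAffineOpen U),
          OQ ⟶ (Scheme.Modules.pushforward (RelProj.emb q chartQ U hU)).obj (GrTwist.twist (𝒯.deg U hU) (n : ℤ))),
        RelProj.IsRelTwist 𝒮 p chart (n : ℤ) OP lamP → RelProj.IsRelTwist 𝒯 q chartQ (n : ℤ) OQ lamQ →
          Nonempty ((Scheme.Modules.pullback i.hom).obj OQ ≅
            CohB1.tensorMod OP ((Scheme.Modules.pullback p).obj (CohB1.tensorPow L n))) := by
  haveI := hE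
  haveI : Coh.IsQCoh (CohB1.tensorMod E L) := MiscFlat6.isQCoh_tensor hL
  obtain ⟨O1, lam, hO1⟩ := GrModLib6.exists_isRelTwist hP 1
  obtain ⟨OQ1, lamQ1, hOQ1⟩ := GrModLib6.exists_isRelTwist hQ 1
  obtain ⟨φ, hφ⟩ := EGA2SymLib.exists_canonicalMap_one hP hO1 j hj.2
  obtain ⟨φQ, hφQ⟩ := EGA2SymLib.exists_canonicalMap_one hQ hOQ1 k hk.2
  obtain ⟨i, hi, ⟨τ⟩⟩ := EGA2SymLib.exists_twist_iso φ φQ hP hO1 hj hφ hQ hOQ1 hk hφQ hL
  refine ⟨i, hi, fun n OP lamP OQ lamQ hOP hOQ => ?_⟩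
  have hpL := AmpleDevLib.isInvertible_pb p hL
  have hO1i := EGA2SymLib.isInvertible_of_isRelTwist (SymGenLib.isGenDegOne hj) hO1
  have hOQi := EGA2SymLib.isInvertible_of_isRelTwist (SymGenLib.isGenDegOne hk) hOQ1
  have cong : ∀ (m : ℕ) {M M' : P.Modules}, (M ≅ M') → Nonempty (CohB1.tensorPow M m ≅ CohB1.tensorPow M' m) := by
    intro m M M' e
    induction m with
    | zero => exact ⟨Iso.refl _⟩
    | succ m ih => exact ⟨PicGrp.tensorModIso ih.some e⟩
  obtain ⟨e1⟩ := GrModLib6.relTwist_pow hQ (SymGenLib.isGenDegOne hk) hOQ1 n rfl hOQ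
  obtain ⟨e2⟩ := GrModLib6.relTwist_pow hP (SymGenLib.isGenDegOne hj) hO1 n rfl hOP
  obtain ⟨e3, -⟩ := AmpleDevLib.exists_pullPowIso i.hom hOQi n
  obtain ⟨e4⟩ := cong n τ
  obtain ⟨e5⟩ := AmpleThLib.exists_tensorPowIso hO1i hpL n
  obtain ⟨e6, -⟩ := AmpleDevLib.exists_pullPowIso p hL n
  exact ⟨(Scheme.Modules.pullback i.hom).mapIso e1.symm ≪≫ e3 ≪≫ e4 ≪≫ e5.symm ≪≫
    PicGrp.tensorModIso e2 e6.symm⟩

end Groth.Agent.S5730
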