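import Groth.Statements.S5733
import Mathlib
import Groth.Agent.EGA2SymLib.PBUniq
-- import your own Groth.Agent.* helpers here

set_option autoImplicit false
universe u
open CategoryTheory CategoryTheory.Limits AlgebraicGeometry TopologicalSpace Opposite
open scoped HomogeneousIdeal
open EGA2

namespace Groth.Agent.S5733

/-- Let E be a quasi-coherent O_Y-module with graded symmetric algebra 𝒮 (j : E → 𝒮 in degree one), p :
P = P(E) → Y its projective bundle with its charts over affine opens, O_P(1) the fundamental sheaf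
with its chart identifications, and φ : E → p_*O_P(1) the canonical map (on an affine open U, the
section φ(e) read on the chart Proj(𝒮(U)) has value j(e)/1 at every point), with adjoint a : p^*E →
O_P(1). Then Y-morphisms into P(E) correspond to invertible quotients of the inverse image of E: for
every morphism g : X → Y, every invertible O_X-module L and every epimorphism s : g^*E → L there is
exactly one morphism r : X → P over Y (r ≫ p = g) admitting an isomorphism τ : r^*O_P(1) ≅ L which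
carries r^*(a), composed with the canonical identification g^*E ≅ r^*p^*E, to s. -/
theorem result {Y P : Scheme.{u}} (E : Y.Modules) (hE : Coh.IsQCoh E)
    (𝒮 : RelProj.QCGrAlg Y) (j : E ⟶ 𝒮.toModule) (hj : RelProj.IsGrSymAlg E 𝒮 j) (p : P ⟶ Y)
    (chart : ∀ (U : Y.Opens) (hU : IsAffineOpen U), ((p ⁻¹ᵁ U : P.Opens) : Scheme.{u}) ≅ Proj (𝒮.deg U hU))
    (hP : RelProj.IsRelProj 𝒮 p chart) (O1 : P.Modules)
    (lam : ∀ (U : Y.Opens) (hU : IsAffineOpen U),
      O1 ⟶ (Scheme.Modules.pushforward (RelProj.emb p chart U hU)).obj (GrTwist.twist (𝒮.deg U hU) 1))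
    (hO1 : RelProj.IsRelTwist 𝒮 p chart 1 O1 lam)
    (φ : E ⟶ (Scheme.Modules.pushforward p).obj O1)
    (hφ : ∀ (U : Y.Opens) (hU : IsAffineOpen U) (e : Γ(E, U))
      (y : ↥(RelProj.emb p chart U hU ⁻¹ᵁ (p ⁻¹ᵁ U))),
      GrTwist.val (V := RelProj.emb p chart U hU ⁻¹ᵁ (p ⁻¹ᵁ U))
          ((lam U hU).app (p ⁻¹ᵁ U) ((φ.app U) e)) y =
        algebraMap (𝒮.presheaf.obj (op U)) (GrTwist.Loc (𝒮.deg U hU) y.1)
          ((j.app U) e : 𝒮.presheaf.obj (op U)))
    {X : Scheme.{u}} (g : X ⟶ Y) (L : X.Modules) (hL : PicF.IsInvertible L)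
    (s : (Scheme.Modules.pullback g).obj E ⟶ L) (hs : Epi s) :
    ∃! r : X ⟶ P, ∃ (hr : r ≫ p = g) (τ : (Scheme.Modules.pullback r).obj O1 ≅ L),
      (Scheme.Modules.pullbackCongr hr).inv.app E ≫ (Scheme.Modules.pullbackComp r p).inv.app E ≫
        (Scheme.Modules.pullback r).map
          (((Scheme.Modules.pullbackPushforwardAdjunction p).homEquiv E O1).symm φ) ≫ τ.hom = s := by
  haveI := hE
  haveI := hs
  have hLq : Coh.IsQCoh L :=
    (LocSuppLib.isCoh_of_isFinLocFree fun x =>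
      let ⟨U, h⟩ := (CohCmpLib.invertible_iff_rank_one L).1 hL x; ⟨U, 1, h⟩).1
  haveI := hLq
  let a := ((Scheme.Modules.pullbackPushforwardAdjunction p).homEquiv E O1).symm φ
  have ha : ∀ (U : Y.Opens) (m : Γ(E, U)),
      a.app (p ⁻¹ᵁ U) (KFlatLib.puSec p m) = (show Γ(O1, p ⁻¹ᵁ U) from φ.app U m) := fun U m =>
    congrArg (fun χ => Scheme.Modules.Hom.app χ U m)
      (((Scheme.Modules.pullbackPushforwardAdjunction p).homEquiv_unit E O1 a).symm.trans
        (Equiv.apply_symm_apply _ φ))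
  have hiff : ∀ (r : X ⟶ P), (∃ (hr : r ≫ p = g) (τ : (Scheme.Modules.pullback r).obj O1 ≅ L),
      (Scheme.Modules.pullbackCongr hr).inv.app E ≫ (Scheme.Modules.pullbackComp r p).inv.app E ≫
        (Scheme.Modules.pullback r).map a ≫ τ.hom = s) ↔ ∃ hr : r ≫ p = g, EGA2SymLib.Induces s φ r hr := by
    intro r
    refine ⟨fun ⟨hr, τ, h⟩ => ⟨hr, τ, fun U m => ?_⟩, fun ⟨hr, τ, h⟩ => ⟨hr, τ, ?_⟩⟩
    · have h2 := CycPBLib.comp_apply_puSec a hr τ.hom m
      rw [h, ha] at h2
      exact h2.symm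
    · refine CycPBLib.hom_ext_pu _ _ _ fun U m => ?_
      rw [CycPBLib.comp_apply_puSec a hr τ.hom m, ha]
      exact h U m
  refine existsUnique_of_exists_of_unique ?_ fun r r' h h' => ?_
  · obtain ⟨r, hr, h⟩ := EGA2SymLib.exists_induces s hj hP hL hO1 hφ
    exact ⟨r, (hiff r).mpr ⟨hr, h⟩⟩
  · obtain ⟨hr, h⟩ := (hiff r).mp h
    obtain ⟨hr', h'⟩ := (hiff r').mp h'
    exact EGA2SymLib.eq_of_induces hP hO1 hj hφ h h'

end Groth.Agent.S5733
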