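import Groth.Statements.S5742
import Mathlib.AlgebraicGeometry.SpreadingOut
import Mathlib.RingTheory.Filtration

set_option autoImplicit false
universe u
open Coherent

namespace Groth.Agent.S5742

open AlgebraicGeometry CategoryTheory CategoryTheory.Limits in
/-- Let A be a Noetherian ring separated and complete for the I-adic topology, X proper over Spec A and
Y locally of finite type over Spec A; write X_n = X ×_A Spec(A/I^(n+1)). Two A-morphisms φ, ψ : X →
Y whose restrictions to X_n coincide for every n are equal. (The published statement takes Y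
separated and of finite type over A, which the surjectivity half needs; injectivity uses neither
separatedness nor quasi-compactness of Y. Together with the existence of an A-morphism inducing any
compatible system of morphisms X_n → Y_n, this is the bijectivity of f ↦ f̂ from A-morphisms X → Y
to morphisms of the completions.) -/
theorem result (A : Type u) [CommRing A] [IsNoetherianRing A]
    (I : Ideal A) [IsAdicComplete I A] {X Y : Scheme.{u}} (f : X ⟶ Spec (CommRingCat.of A))
    (h : Y ⟶ Spec (CommRingCat.of A)) [IsProper f] [LocallyOfFiniteType h] (φ ψ : X ⟶ Y)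
    (hφ : φ ≫ h = f) (hψ : ψ ≫ h = f)
    (e : ∀ n : ℕ, CohB1.thickι f I n ≫ φ = CohB1.thickι f I n ≫ ψ) : φ = ψ := by
  haveI : IsLocallyNoetherian X := LocallyOfFiniteType.isLocallyNoetherian f
  haveI : CompactSpace ↥X := QuasiCompact.compactSpace_of_compactSpace f
  have key : ∀ x : X, IsClosed ({x} : Set X) → ∃ U : X.Opens, x ∈ U ∧ U.ι ≫ φ = U.ι ≫ ψ := by
    intro x hx
    let a := Spec.preimage (X.fromSpecStalk x ≫ f)
    have ha : Spec.map a = X.fromSpecStalk x ≫ f := Spec.map_preimage _
    have hmax : IsClosed ({f x} : Set (Spec (CommRingCat.of A))) := by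
      have := f.isClosedMap _ hx
      rwa [Set.image_singleton] at this
    have hI : I ≤ (f x).asIdeal := by
      refine (IsAdicComplete.le_jacobson_bot I).trans ?_
      show sInf _ ≤ _
      exact sInf_le ⟨bot_le, (PrimeSpectrum.isClosed_singleton_iff_isMaximal _).1 hmax⟩
    have hle : I.map a.hom ≤ IsLocalRing.maximalIdeal _ := by
      rw [Ideal.map_le_iff_le_comap]
      refine hI.trans (le_of_eq ?_)
      have h1 : Spec.map a (IsLocalRing.closedPoint (X.presheaf.stalk x)) = f x := by
        rw [ha, Scheme.Hom.comp_apply, Scheme.fromSpecStalk_closedPoint]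
      exact congrArg PrimeSpectrum.asIdeal h1.symm
    have hm : ∀ n : ℕ, Spec.map (CommRingCat.ofHom (Ideal.Quotient.mk (I.map a.hom ^ (n + 1)))) ≫ X.fromSpecStalk x ≫ φ =
        Spec.map (CommRingCat.ofHom (Ideal.Quotient.mk (I.map a.hom ^ (n + 1)))) ≫ X.fromSpecStalk x ≫ ψ := by
      intro n
      let b : A ⧸ I ^ (n + 1) →+* X.presheaf.stalk x ⧸ I.map a.hom ^ (n + 1) :=
        Ideal.quotientMap _ a.hom (by rw [← Ideal.map_le_iff_le_comap, Ideal.map_pow])
      let l : Spec (CommRingCat.of (X.presheaf.stalk x ⧸ I.map a.hom ^ (n + 1))) ⟶ CohB1.thick f I n :=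
        pullback.lift (Spec.map (CommRingCat.ofHom (Ideal.Quotient.mk (I.map a.hom ^ (n + 1)))) ≫ X.fromSpecStalk x)
          (Spec.map (CommRingCat.ofHom b)) (by
            rw [Category.assoc, ← ha]
            show _ = Spec.map (CommRingCat.ofHom b) ≫ Spec.map (CommRingCat.ofHom (Ideal.Quotient.mk (I ^ (n + 1))))
            rw [← Spec.map_comp, ← Spec.map_comp]
            congr 1)
      have hl : l ≫ CohB1.thickι f I n =
          Spec.map (CommRingCat.ofHom (Ideal.Quotient.mk (I.map a.hom ^ (n + 1)))) ≫ X.fromSpecStalk x :=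
        pullback.lift_fst _ _ _
      rw [← Category.assoc, ← Category.assoc, ← hl, Category.assoc, Category.assoc, e n]
    have hpt : φ x = ψ x := by
      obtain ⟨p, hp⟩ : IsLocalRing.closedPoint (X.presheaf.stalk x) ∈
          Set.range (PrimeSpectrum.comap (Ideal.Quotient.mk (I.map a.hom ^ (0 + 1)))) := by
        rw [range_comap_of_surjective _ _ Ideal.Quotient.mk_surjective, PrimeSpectrum.mem_zeroLocus,
          SetLike.coe_subset_coe, Ideal.mk_ker]
        exact (Ideal.pow_le_self (Nat.succ_ne_zero 0)).trans hle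
      have h1 := congrArg (fun m => m p) (hm 0)
      have h2 : Spec.map (CommRingCat.ofHom (Ideal.Quotient.mk (I.map a.hom ^ (0 + 1)))) p =
          IsLocalRing.closedPoint (X.presheaf.stalk x) := hp
      simp only [Scheme.Hom.comp_apply] at h1
      rw [h2, Scheme.fromSpecStalk_closedPoint] at h1
      exact h1
    refine spread_out_unique_of_isGermInjective φ ψ hpt ?_
    ext z
    refine sub_eq_zero.1 ((Ideal.mem_bot (R := X.presheaf.stalk x)).1 ?_)
    rw [← Ideal.iInf_pow_eq_bot_of_isLocalRing (I.map a.hom) fun h =>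
      (IsLocalRing.maximalIdeal.isMaximal (X.presheaf.stalk x)).ne_top (top_le_iff.1 (h.ge.trans hle)), Ideal.mem_iInf]
    intro n
    refine Ideal.pow_le_pow_right (Nat.le_succ n) (Ideal.Quotient.eq.1 ?_)
    have h1 := hm n
    rw [← Scheme.SpecMap_stalkMap_fromSpecStalk, ← Scheme.SpecMap_stalkMap_fromSpecStalk,
      ← Scheme.SpecMap_stalkSpecializes_fromSpecStalk (Inseparable.of_eq hpt.symm).specializes,
      ← Category.assoc (Spec.map (ψ.stalkMap x)), ← Category.assoc, ← Category.assoc] at h1
    have h2 := (cancel_mono _).1 h1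
    rw [← Spec.map_comp, ← Spec.map_comp, ← Spec.map_comp] at h2
    exact congr($(Spec.map_injective h2) z)
  choose U hxU hU using key
  have hcov : TopologicalSpace.IsOpenCover (fun s : {x : X // IsClosed ({x} : Set X)} => U s.1 s.2) := by
    refine top_le_iff.1 fun z _ => ?_
    obtain ⟨w, hw, hwc⟩ := (isClosed_closure (s := ({z} : Set X))).exists_closed_singleton ⟨z, subset_closure rfl⟩
    exact TopologicalSpace.Opens.mem_iSup.2 ⟨⟨w, hwc⟩, (specializes_iff_mem_closure.2 hw).mem_open (U w hwc).isOpen (hxU w hwc)⟩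
  exact Scheme.Cover.hom_ext (X.openCoverOfIsOpenCover _ hcov) φ ψ fun s => hU s.1 s.2

end Groth.Agent.S5742
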