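import Groth.Statements.S5744
import Groth.Agent.QCohLib.Acyclic
import Groth.Agent.QCohLib.QCoh
import Groth.Agent.QCohLib.Push
import Groth.Agent.CohExtLib.Graph

set_option autoImplicit false
universe u
open Coherent

namespace Groth.Agent.S5744

open AlgebraicGeometry CategoryTheory in
/-- For the Čech complex of sheaves indexed by all ordered tuples with products as terms; over a finite
index type these terms are finite direct sums. Let X be a separated scheme, (U_i)_{i ∈ ι} a finite
family of affine opens covering X, and F a quasi-coherent O_X-module. Then for every p the degree-p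
term of the Čech complex of sheaves 𝔠(𝒰, F), the product over ordered (p+1)-tuples of the direct
images (j_{i_0…i_p})_*(F|_{U_{i_0…i_p}}), is a quasi-coherent O_X-module. -/
theorem result {X : Scheme.{u}} [X.IsSeparated] {ι : Type u}
    [Finite ι] (𝒰 : ι → X.Opens) (h𝒰 : ∀ i, IsAffineOpen (𝒰 i)) (hcov : ⨆ i, 𝒰 i = ⊤)
    (F : X.Modules) [Coh.IsQCoh F] (p : ℕ) :
    Coh.IsQCoh (((CechOX.cechSh 𝒰).obj F).X p) := by
  haveI := Fintype.ofFinite ι
  haveI : IsAffineHom (Limits.pullback.diagonal (Limits.terminal.from X)) := inferInstance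
  have gen : ∀ W : X.Opens, IsAffineOpen W → Coh.IsQCoh ((CechOX.pushRestr W).obj F) := by
    intro W hW
    haveI := QCohLib.isAffineHom_ι W hW fun V W hV hW => hV.inf hW
    haveI := KFlatLib.isQCoh_pullback W.ι F
    haveI : Coh.IsQCoh ((Scheme.Modules.restrictFunctor W.ι).obj F) :=
      QCohLib.isQCoh_of_iso ((Scheme.Modules.restrictFunctorIsoPullback W.ι).app F).symm
    exact QCohLib.isQCoh_pushforward W.ι _
  have key : ∀ i : Fin (p + 1) → ι, Coh.IsQCoh ((CechOX.pushRestr (∏ᶜ fun a => 𝒰 (i a))).obj F) := by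
    intro i
    refine gen _ ?_
    have e : (∏ᶜ fun a => 𝒰 (i a)) = ⨅ a, 𝒰 (i a) :=
      le_antisymm (le_iInf fun a => leOfHom (Limits.Pi.π (fun a => 𝒰 (i a)) a))
        (leOfHom (Limits.Pi.lift fun a => homOfLE (iInf_le (fun a => 𝒰 (i a)) a)))
    rw [e]
    exact IsAffineOpen.iInf fun a => h𝒰 (i a)
  let P : (Fin (p + 1) → ι) → X.Modules := fun i => (CechOX.pushRestr (∏ᶜ fun a => 𝒰 (i a))).obj F
  haveI : Limits.HasFiniteBiproducts X.Modules := Abelian.hasFiniteBiproducts
  haveI : Coh.IsQCoh (∐ P) := QCohLib.isQCoh_sigma P key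
  show Coh.IsQCoh (∏ᶜ P)
  exact QCohLib.isQCoh_of_iso ((Limits.biproduct.isoCoproduct P).symm ≪≫ Limits.biproduct.isoProduct P)

end Groth.Agent.S5744
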