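import Groth.Statements.S5750
import Mathlib
import Groth.Agent.PnCohLib.EmbeddedVan
-- import your own Groth.Agent.* helpers here

set_option autoImplicit false
universe u
open Coherent

namespace Groth.Agent.S5750

open AlgebraicGeometry CategoryTheory in
/-- Let A be an Artinian local ring, i : X → P^r_A a closed immersion compatible with the structure
morphisms to Spec A, F a coherent O_X-module and F(n) = F ⊗ i^* O(n). If a polynomial P over ℚ
satisfies P(n) = χ_A(F(n)) = Σ_{j ≤ r} (-1)^j length_A H^j(X, F(n)) for every integer n (the Hilbert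
polynomial of F), then the leading coefficient of P is non-negative. -/
theorem result (A : Type u) [CommRing A]
    [IsArtinianRing A] [IsLocalRing A] (r : ℕ) (X : Scheme.{u}) [X.Over (Spec (CommRingCat.of A))]
    (i : X ⟶ CohB1.ProjSpace r A) [IsClosedImmersion i]
    (hi : i ≫ CohB1.ProjSpace.toSpec r A = X ↘ Spec (CommRingCat.of A)) (F : X.Modules) (hF : Coh.IsCoh F)
    (P : Polynomial ℚ)
    (hP : ∀ n : ℤ, ((Finset.range (r + 1)).sum fun j => (-1 : ℚ) ^ j *
        ((Module.length A (Coh.HH X (CohB1.tensorMod F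
          ((Scheme.Modules.pullback i).obj (Twist.twistProjSpace r A n))) j)).toNat : ℚ)) = P.eval (n : ℚ)) :
    0 ≤ P.leadingCoeff := by
  obtain ⟨N, hN⟩ := PnCohLib.exists_vanishing_embedded i F hF
  have hpos : ∀ n : ℤ, N ≤ n → 0 ≤ P.eval (n : ℚ) := fun n hn => by
    rw [← hP n, Finset.sum_eq_single 0]
    · simp
    · intro j _ hj
      haveI := hN n hn j (Nat.pos_of_ne_zero hj)
      simp [Module.length_eq_zero]
    · simp
  by_contra h
  push Not at h
  rcases eq_or_ne P.natDegree 0 with hd | hd
  · have h1 := hpos N le_rfl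
    rw [Polynomial.eq_C_of_natDegree_eq_zero hd, Polynomial.eval_C] at h1
    rw [Polynomial.leadingCoeff, hd] at h
    exact absurd h1 (not_le.2 h)
  · have ht : Filter.Tendsto (fun x : ℚ => P.eval x) Filter.atTop Filter.atBot :=
      P.tendsto_atBot_of_leadingCoeff_nonpos (Polynomial.natDegree_pos_iff_degree_pos.1 (Nat.pos_of_ne_zero hd)) h.le
    obtain ⟨x₀, hx⟩ := Filter.eventually_atTop.1 (ht.eventually (Filter.eventually_lt_atBot 0))
    have h2 := hpos (max N ⌈x₀⌉) (le_max_left _ _)
    exact absurd h2 (not_le.2 (hx _ ((Int.le_ceil x₀).trans (Int.cast_le.2 (le_max_right _ _)))))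

end Groth.Agent.S5750
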