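import Groth.Statements.S5753
import Mathlib
import Groth.Agent.CommAlgDim.Depth

set_option autoImplicit false
universe u
open EGA41

namespace Groth.Agent.S5753

/-- Let A be a Noetherian local ring with maximal ideal m and residue field k, and N a finitely
generated A-module. Then no element of m is N-regular (multiplication by it injective) if and only
if Hom_A(k, N) is nonzero. Applied to N = M/(x_1 M + ... + x_n M) for an M-regular sequence (x_i) in
m, this says that the sequence cannot be extended by an element of m if and only if Hom_A(k, M/(x_1
M + ... + x_n M)) ≠ 0. (The published statement allows an arbitrary module; for the direct sum N of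
the quotients of a two-dimensional regular local ring by all its height-one primes no element of m
is N-regular while Hom_A(k, N) = 0, and the published proof uses finiteness of the set of associated
primes, so N is taken finitely generated here.) -/
theorem result (A : Type u) [CommRing A]
    [IsLocalRing A] [IsNoetherianRing A] (N : Type u) [AddCommGroup N] [Module A N] [Module.Finite A N] :
    (∀ x ∈ IsLocalRing.maximalIdeal A, ¬ IsSMulRegular N x) ↔
      Nontrivial (IsLocalRing.ResidueField A →ₗ[A] N) := by
  constructor
  · intro h
    obtain ⟨q, hq, hle⟩ : ∃ q ∈ associatedPrimes A N, IsLocalRing.maximalIdeal A ≤ q := by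
      by_contra hcon
      push Not at hcon
      obtain ⟨x, hx, hxr⟩ := CommAlgDim.exists_isSMulRegular_mem hcon
      exact h x hx hxr
    obtain rfl := (IsLocalRing.maximalIdeal.isMaximal A).eq_of_le hq.1.ne_top hle
    obtain ⟨-, φ, hφ⟩ := (isAssociatedPrime_iff_exists_injective_linearMap _ _).1 hq
    exact ⟨φ, 0, fun h0 => one_ne_zero (α := IsLocalRing.ResidueField A)
      (hφ (show φ 1 = φ 0 by rw [map_zero, h0]; rfl))⟩
  · intro hnt x hx hreg
    obtain ⟨φ, hφ⟩ := exists_ne (0 : IsLocalRing.ResidueField A →ₗ[A] N)
    refine hφ (LinearMap.ext fun z => hreg ?_)
    show x • φ z = x • (0 : N)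
    rw [smul_zero, ← map_smul, Algebra.smul_def, IsLocalRing.ResidueField.algebraMap_eq,
      (IsLocalRing.residue_eq_zero_iff x).2 hx, zero_mul, map_zero]

end Groth.Agent.S5753
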