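import Groth.Statements.S5755
import Mathlib


-- import your own Groth.Agent.* helpers here

set_option autoImplicit false
universe u
open EGA41

namespace Groth.Agent.S5755

/-- A reduced Noetherian local ring A has depth 0 if and only if A is a field. -/
theorem result (A : Type u) [CommRing A] [IsLocalRing A]
    [IsNoetherianRing A] [IsReduced A] : LocCoh.depth A A = 0 ↔ IsField A := by
  classical
  have hne : (IsLocalRing.maximalIdeal A) • (⊤ : Submodule A A) ≠ ⊤ := by
    rw [smul_eq_mul, Ideal.mul_top]
    exact (IsLocalRing.maximalIdeal.isMaximal A).ne_top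
  rw [LocCoh.depth, LocCoh.idealDepth, if_neg hne]
  constructor
  · intro h
    by_contra hF
    have hex : ∃ r ∈ IsLocalRing.maximalIdeal A, ∀ p ∈ minimalPrimes A, r ∉ p := by
      by_contra hc
      push_neg at hc
      have hsub : (IsLocalRing.maximalIdeal A : Set A) ⊆
          ⋃ p ∈ minimalPrimes A, (p : Set A) := fun r hr => by
        obtain ⟨p, hp, hrp⟩ := hc r hr
        exact Set.mem_biUnion hp hrp
      obtain ⟨p, hp, hle⟩ := (Ideal.subset_union_prime_finite
        (minimalPrimes.finite_of_isNoetherianRing A) ⊥ ⊥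
        (fun i hi _ _ => hi.1.1)).1 hsub
      apply hF
      haveI : Ring.KrullDimLE 0 A := by
        refine Ring.KrullDimLE.mk₀ fun q hq => ?_
        have hq1 : q ≤ IsLocalRing.maximalIdeal A := IsLocalRing.le_maximalIdeal hq.ne_top
        have h2 : p ≤ q := hp.2 ⟨hq, bot_le⟩ (hq1.trans hle)
        have h3 : q = IsLocalRing.maximalIdeal A := le_antisymm hq1 (hle.trans h2)
        rw [h3]
        infer_instance
      exact Ring.KrullDimLE.isField_of_isReduced
    obtain ⟨r, hr, hrp⟩ := hex
    have hreg : IsSMulRegular A r := by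
      intro a b hab
      simp only [smul_eq_mul] at hab
      rw [← sub_eq_zero]
      apply IsReduced.eq_zero
      rw [← mem_nilradical, nilradical_eq_sInf, Submodule.mem_sInf]
      intro q hq
      haveI : Ideal.IsPrime q := hq
      obtain ⟨p, hp, hpq⟩ := Ideal.exists_minimalPrimes_le (I := (⊥ : Ideal A)) (J := q) bot_le
      apply hpq
      haveI := hp.1.1
      refine (hp.1.1.mem_or_mem ?_).resolve_left (hrp p hp)
      rw [mul_sub, hab, sub_self]
      exact zero_mem _
    have hle : ((1 : ℕ) : ℕ∞) ≤ ⨆ (rs : List A) (_ : RingTheory.Sequence.IsWeaklyRegular A rs ∧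
        ∀ r ∈ rs, r ∈ IsLocalRing.maximalIdeal A), (rs.length : ℕ∞) := by
      refine le_iSup₂_of_le [r] ⟨?_, ?_⟩ le_rfl
      · rw [RingTheory.Sequence.isWeaklyRegular_cons_iff]
        exact ⟨hreg, RingTheory.Sequence.IsWeaklyRegular.nil _ _⟩
      · intro x hx
        rw [List.mem_singleton] at hx
        rw [hx]
        exact hr
    rw [h] at hle
    simp at hle
  · intro hF
    refine le_antisymm (iSup₂_le fun rs hrs => ?_) bot_le
    cases rs with
    | nil => simp
    | cons a as =>
      exfalso
      have ha := hrs.2 a (by simp)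
      rw [IsLocalRing.isField_iff_maximalIdeal_eq.1 hF, Ideal.mem_bot] at ha
      have := ((RingTheory.Sequence.isWeaklyRegular_cons_iff A a as).1 hrs.1).1
      rw [ha] at this
      exact one_ne_zero (this (show (0:A) • (1:A) = (0:A) • 0 by simp))

end Groth.Agent.S5755
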