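import Groth.Statements.S5757
import Mathlib
import Groth.Agent.S0322
-- import your own Groth.Agent.* helpers here

set_option autoImplicit false
universe u
open EGA41

namespace Groth.Agent.S5757

/-- Let A be a Noetherian local ring and M a nonzero finitely generated Cohen-Macaulay A-module. Then
dim(A/p) = dim(M) for every associated prime p of M (so M has no embedded associated primes). -/
theorem result (A : Type u) [CommRing A]
    [IsLocalRing A] [IsNoetherianRing A] (M : Type u) [AddCommGroup M] [Module A M] [Module.Finite A M]
    (hM : LocCoh.IsCohenMacaulayModule A M) (p : Ideal A) (hp : p ∈ associatedPrimes A M) :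
    ringKrullDim (A ⧸ p) = Module.supportDim A M := by
  haveI : p.IsPrime := hp.isPrime
  haveI : Nontrivial M := not_subsingleton_iff_nontrivial.1 fun h => by
    have := associatedPrimes.eq_empty_of_subsingleton (R := A) (M := M)
    rw [this] at hp
    exact hp
  have hps : (⟨p, inferInstance⟩ : PrimeSpectrum A) ∈ Module.support A M :=
    Module.mem_support_iff_of_finite.2 ((IsAssociatedPrime.annihilator_le hp).trans' (le_of_eq Submodule.annihilator_top.symm))
  have h0 := Groth.Agent.S0322.result A p hp.isPrime.ne_top M hM
  have hdep : LocCoh.idealDepth p M = 0 := by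
    by_contra hne
    obtain ⟨rs, hl, hm, hr⟩ := (CommAlgDim.le_idealDepth_iff p 1).1 (by exact_mod_cast ENat.one_le_iff_ne_zero.2 hne)
    obtain ⟨y, rfl⟩ := List.length_eq_one_iff.1 hl
    have hy := (RingTheory.Sequence.isWeaklyRegular_singleton_iff _ _).1 hr
    obtain ⟨hpp, m, hm'⟩ := isAssociatedPrime_iff.1 hp
    have hym : y • m = 0 := by
      have h : y ∈ p := hm y (List.mem_singleton_self y)
      rw [hm', Submodule.mem_colon_singleton] at h
      simpa using h
    have h0' : m = 0 := hy (show y • m = y • 0 by rw [hym, smul_zero])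
    exact hpp.ne_top (by rw [hm', h0']; exact (Ideal.eq_top_iff_one _).2 (Submodule.mem_colon_singleton.2 (by simp)))
  rw [hdep, WithBot.coe_zero, add_zero] at h0
  rw [h0]
  refine le_antisymm ?_ ?_
  · rw [ringKrullDim_quotient]
    refine Order.krullDim_le_of_strictMono (fun q => ⟨q.1, ?_⟩) (fun a b h => h)
    rw [Module.support_quotient]
    exact ⟨Module.mem_support_mono (show (⟨p, inferInstance⟩ : PrimeSpectrum A) ≤ q.1 from q.2) hps, q.2⟩
  · rw [ringKrullDim_quotient]
    refine Order.krullDim_le_of_strictMono (fun q => ⟨q.1, ?_⟩) (fun a b h => h)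
    obtain ⟨q, hq⟩ := q
    rw [Module.support_quotient] at hq
    exact hq.2

end Groth.Agent.S5757
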