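import Groth.Statements.S5759
import Groth.Agent.S5758
import Mathlib

set_option autoImplicit false
universe u
open EGA41

namespace Groth.Agent.S5759

/-- Let A be a Noetherian local ring and M a nonzero finitely generated A-module. Suppose that for every
sequence x_1, ..., x_r of elements of the maximal ideal which is part of a system of parameters for
M (i.e. dim(M/(x_1 M + ... + x_r M)) = dim(M) - r), every associated prime p of N = M/(x_1 M + ... +
x_r M) satisfies dim(A/p) = dim(N). Then M is a Cohen-Macaulay module. (The published convention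
also counts the zero module as Cohen-Macaulay; this row assumes M nonzero.) -/
theorem result (A : Type u) [CommRing A]
    [IsLocalRing A] [IsNoetherianRing A] (M : Type u) [AddCommGroup M] [Module A M] [Module.Finite A M]
    [Nontrivial M]
    (h : ∀ xs : List A, (∀ x ∈ xs, x ∈ IsLocalRing.maximalIdeal A) →
      Module.supportDim A (M ⧸ (Ideal.ofList xs • (⊤ : Submodule A M))) + xs.length = Module.supportDim A M →
        ∀ p ∈ associatedPrimes A (M ⧸ (Ideal.ofList xs • (⊤ : Submodule A M))),
          ringKrullDim (A ⧸ p) = Module.supportDim A (M ⧸ (Ideal.ofList xs • (⊤ : Submodule A M)))) :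
    LocCoh.IsCohenMacaulayModule A M := by
  obtain ⟨D, hD⟩ : ∃ D : ℕ, Module.supportDim A M = D := by
    have hfin : Module.supportDim A M < ⊤ :=
      lt_of_le_of_lt (Module.supportDim_le_ringKrullDim A M) ringKrullDim_lt_top
    rcases hb : Module.supportDim A M with _ | _ | a
    · exact absurd hb ((Module.supportDim_ne_bot_iff_nontrivial A _).2 ‹_›)
    · rw [hb] at hfin; exact absurd hfin (lt_irrefl _)
    · exact ⟨a, rfl⟩
  have hseq : ∀ k : ℕ, k ≤ D → ∃ xs : List A, xs.length = k ∧ (∀ x ∈ xs, x ∈ IsLocalRing.maximalIdeal A) ∧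
      RingTheory.Sequence.IsWeaklyRegular M xs := by
    intro k
    induction k with
    | zero => exact fun _ => ⟨[], rfl, by simp, RingTheory.Sequence.IsWeaklyRegular.nil A M⟩
    | succ k ih =>
      intro hk
      obtain ⟨xs, hlen, hm, hw⟩ := ih (by omega)
      have hdim : Module.supportDim A (M ⧸ (Ideal.ofList xs • (⊤ : Submodule A M))) + xs.length = Module.supportDim A M :=
        Module.supportDim_add_length_eq_supportDim_of_isRegular xs
          (RingTheory.Sequence.IsRegular.of_isWeaklyRegular_of_mem_maximalIdeal M hm hw)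
      have hass := h xs hm hdim
      set N := M ⧸ (Ideal.ofList xs • (⊤ : Submodule A M))
      obtain ⟨a, ha, hreg⟩ : ∃ a ∈ IsLocalRing.maximalIdeal A, IsSMulRegular N a := by
        by_contra hc
        push_neg at hc
        classical
        have hfin := associatedPrimes.finite A N
        have hsub : (IsLocalRing.maximalIdeal A : Set A) ⊆ ⋃ p ∈ (↑hfin.toFinset : Set (Ideal A)), (id p : Ideal A) := by
          intro a ha
          have h1 : a ∈ ⋃ p ∈ associatedPrimes A N, (p : Set A) := by
            rw [biUnion_associatedPrimes_eq_compl_regular]; exact hc a ha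
          simpa using h1
        obtain ⟨p, hp, hle⟩ := (Ideal.subset_union_prime ⊥ ⊥ (fun p hp _ _ =>
          (hfin.mem_toFinset.1 hp).isPrime)).1 hsub
        have hpm : p = IsLocalRing.maximalIdeal A :=
          ((IsLocalRing.maximalIdeal.isMaximal A).eq_of_le (hfin.mem_toFinset.1 hp).isPrime.ne_top hle).symm
        have h2 := hass p (hfin.mem_toFinset.1 hp)
        rw [hpm, show ringKrullDim (A ⧸ IsLocalRing.maximalIdeal A) = 0 from
          letI := Ideal.Quotient.field (IsLocalRing.maximalIdeal A)
          ringKrullDim_eq_zero_of_field _] at h2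
        rw [← h2, zero_add, hD, hlen] at hdim
        have : k = D := by exact_mod_cast hdim
        omega
      refine ⟨xs ++ [a], by simp [hlen], fun x hx => ?_, ?_⟩
      · rcases List.mem_append.1 hx with hx | hx
        · exact hm x hx
        · rw [List.mem_singleton] at hx; exact hx ▸ ha
      · exact (RingTheory.Sequence.isWeaklyRegular_append_iff M xs [a]).2
          ⟨hw, (RingTheory.Sequence.isWeaklyRegular_cons_iff _ a []).2 ⟨hreg, RingTheory.Sequence.IsWeaklyRegular.nil A _⟩⟩
  refine le_antisymm ?_ (Groth.Agent.S4718.depth_le_supportDim A M)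
  obtain ⟨xs, hlen, hm, hw⟩ := hseq D le_rfl
  rw [hD]
  exact WithBot.coe_le_coe.2 ((CommAlgDim.le_depth_iff (M := M) D).2 ⟨xs, hlen, hm, hw⟩)

end Groth.Agent.S5759
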