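import Groth.Statements.S5760
import Groth.Agent.S0322
import Groth.Agent.CommAlgDim.Depth

set_option autoImplicit false
set_option linter.style.haveILetI false
universe u
open EGA41

namespace Groth.Agent.S5760

theorem cancel (z : WithBot ℕ∞) (e r : ℕ) (h : z + (e : ℕ) = (r : ℕ) + (e : ℕ)) : z = (r : ℕ) := by
  rcases z with _ | _ | n
  · exact absurd (h : (⊥ : WithBot ℕ∞) = ((r + e : ℕ) : ℕ∞)) (WithBot.bot_ne_coe)
  · exact absurd (WithBot.coe_injective (h : ((⊤ : ℕ∞) : WithBot ℕ∞) = ((r + e : ℕ) : ℕ∞))) (ENat.top_ne_natCast _)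
  · have h' : ((n + e : ℕ) : ℕ∞) = ((r + e : ℕ) : ℕ∞) := WithBot.coe_injective h
    have : n = r := by have := (Nat.cast_inj (R := ℕ∞)).1 h'; omega
    subst this; rfl


/-- Let A be a Noetherian local ring, M a nonzero finitely generated Cohen-Macaulay A-module, p a prime
ideal in the support of M and r the integer dim(M) - dim(M/pM). Then there exists an M-regular
sequence x_1, ..., x_r of elements of p; for every such sequence, dim(M/(x_1 M + ... + x_r M)) =
dim(M/pM) = dim(A/p), and p is a minimal element of the set of associated primes of M/(x_1 M + ... +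
x_r M). -/
theorem result (A : Type u) [CommRing A]
    [IsLocalRing A] [IsNoetherianRing A] (M : Type u) [AddCommGroup M] [Module A M] [Module.Finite A M]
    (hM : LocCoh.IsCohenMacaulayModule A M) (p : PrimeSpectrum A) (hp : p ∈ Module.support A M) (r : ℕ)
    (hr : Module.supportDim A (M ⧸ (p.asIdeal • (⊤ : Submodule A M))) + r = Module.supportDim A M) :
    (∃ xs : List A, xs.length = r ∧ (∀ x ∈ xs, x ∈ p.asIdeal) ∧ RingTheory.Sequence.IsWeaklyRegular M xs) ∧
      ∀ xs : List A, xs.length = r → (∀ x ∈ xs, x ∈ p.asIdeal) → RingTheory.Sequence.IsWeaklyRegular M xs →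
        Module.supportDim A (M ⧸ (Ideal.ofList xs • (⊤ : Submodule A M))) =
            Module.supportDim A (M ⧸ (p.asIdeal • (⊤ : Submodule A M))) ∧
          Module.supportDim A (M ⧸ (p.asIdeal • (⊤ : Submodule A M))) = ringKrullDim (A ⧸ p.asIdeal) ∧
          p.asIdeal ∈ associatedPrimes A (M ⧸ (Ideal.ofList xs • (⊤ : Submodule A M))) ∧
          ∀ q ∈ associatedPrimes A (M ⧸ (Ideal.ofList xs • (⊤ : Submodule A M))), q ≤ p.asIdeal → q = p.asIdeal := by
  haveI : Nontrivial M := by
    refine not_subsingleton_iff_nontrivial.1 fun h => ?_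
    rw [Module.support_eq_empty_iff.2 h] at hp
    exact hp
  have hsupp : ∀ (J : Ideal A) (x : PrimeSpectrum A), x ∈ Module.support A (M ⧸ (J • ⊤ : Submodule A M)) ↔
      x ∈ Module.support A M ∧ J ≤ x.asIdeal := fun J x => by
    rw [Module.support_quotient]; rfl
  have hd : ∀ (N : Type u) [AddCommGroup N] [Module A N] [Module.Finite A N] (q : PrimeSpectrum A),
      q ∈ Module.support A N → ringKrullDim (A ⧸ q.asIdeal) ≤ Module.supportDim A N := fun N _ _ _ q hq => by
    rw [Module.supportDim_eq_ringKrullDim_quotient_annihilator]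
    exact ringKrullDim_le_of_surjective (Ideal.Quotient.factor (Module.mem_support_iff_of_finite.1 hq))
      (Ideal.Quotient.factor_surjective _)
  have hpd : Module.supportDim A (M ⧸ (p.asIdeal • ⊤ : Submodule A M)) = ringKrullDim (A ⧸ p.asIdeal) := by
    refine le_antisymm ?_ (hd _ p ((hsupp _ _).2 ⟨hp, le_rfl⟩))
    rw [ringKrullDim_quotient, Module.supportDim]
    exact Order.krullDim_le_of_strictMono
      (fun x : Module.support A (M ⧸ (p.asIdeal • ⊤ : Submodule A M)) =>
        (⟨x.1, ((hsupp _ _).1 x.2).2⟩ : PrimeSpectrum.zeroLocus (R := A) p.asIdeal)) fun a b hab => hab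
  haveI hq : Nontrivial (A ⧸ p.asIdeal) := Ideal.Quotient.nontrivial_iff.2 p.2.ne_top
  haveI : IsLocalRing (A ⧸ p.asIdeal) := IsLocalRing.of_surjective' _ Ideal.Quotient.mk_surjective
  obtain ⟨e, he⟩ := CommAlgDim.exists_ringKrullDim_eq (R := A ⧸ p.asIdeal)
  have h0 := Groth.Agent.S0322.result A p.asIdeal p.2.ne_top M hM
  have hdep : LocCoh.idealDepth p.asIdeal M = (r : ℕ∞) := by
    have h1 := h0.symm.trans hr.symm
    rw [hpd, he] at h1
    exact WithBot.coe_injective (cancel _ e r (by rw [add_comm, add_comm ((r : ℕ) : WithBot ℕ∞)]; exact h1))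
  obtain ⟨xs₀, hl₀, hm₀, hr₀⟩ := (CommAlgDim.le_idealDepth_iff p.asIdeal r).1 (le_of_eq hdep.symm)
  refine ⟨⟨xs₀, hl₀, hm₀, hr₀⟩, fun xs hl hm hw => ?_⟩
  have hreg : RingTheory.Sequence.IsRegular M xs :=
    RingTheory.Sequence.IsRegular.of_isWeaklyRegular_of_mem_maximalIdeal M
      (fun x hx => IsLocalRing.le_maximalIdeal p.2.ne_top (hm x hx)) hw
  let N := M ⧸ (Ideal.ofList xs • ⊤ : Submodule A M)
  have hN := Module.supportDim_add_length_eq_supportDim_of_isRegular xs hreg
  rw [hl, ← hr, hpd, he] at hN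
  have hNd : Module.supportDim A N = (e : WithBot ℕ∞) := by
    show Module.supportDim A (M ⧸ (Ideal.ofList xs • ⊤ : Submodule A M)) = _
    exact cancel _ r e hN
  have hmin : ∀ q : PrimeSpectrum A, q ∈ Module.support A N → q.asIdeal ≤ p.asIdeal → q.asIdeal = p.asIdeal := by
    intro q hq' hqp
    by_contra hne
    have h1 := hd N q hq'
    have h2 : ringKrullDim (A ⧸ p.asIdeal) + 1 ≤ ringKrullDim (A ⧸ q.asIdeal) := by
      rw [ringKrullDim_quotient, ringKrullDim_quotient]
      haveI : Nonempty (PrimeSpectrum.zeroLocus (R := A) p.asIdeal) := ⟨⟨p, fun _ h => h⟩⟩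
      haveI : Nonempty (PrimeSpectrum.zeroLocus (R := A) q.asIdeal) := ⟨⟨q, fun _ h => h⟩⟩
      rw [Order.krullDim_eq_iSup_length, Order.krullDim_eq_iSup_length, ← WithBot.coe_one, ← WithBot.coe_add,
        ENat.iSup_add, WithBot.coe_le_coe, iSup_le_iff]
      intro l
      let l' : LTSeries (PrimeSpectrum.zeroLocus (R := A) q.asIdeal) :=
        l.map (fun x => ⟨x.1, hqp.trans x.2⟩) (fun _ _ h => h)
      have hlt : (⟨q, fun _ h => h⟩ : PrimeSpectrum.zeroLocus (R := A) q.asIdeal) < l'.head := by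
        show q < l.head.1
        exact lt_of_lt_of_le (lt_of_le_of_ne (show q ≤ p from hqp) fun h => hne (congrArg PrimeSpectrum.asIdeal h))
          l.head.2
      refine le_trans ?_ (le_iSup _ (l'.cons _ hlt))
      simp [l']
    have h3 := h2.trans h1
    rw [he, hNd] at h3
    have : e + 1 ≤ e := by exact_mod_cast h3
    omega
  have hpN : p ∈ Module.support A N := (hsupp _ _).2 ⟨hp, Ideal.span_le.2 hm⟩
  refine ⟨by rw [hpd, he]; exact hNd, hpd, ?_, fun q hq' hqp => ?_⟩
  · refine Module.associatedPrimes.minimalPrimes_annihilator_subset_associatedPrimes A N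
      ⟨⟨p.2, Module.mem_support_iff_of_finite.1 hpN⟩, fun q hq' hqp => ?_⟩
    exact (hmin ⟨q, hq'.1⟩ (Module.mem_support_iff_of_finite.2 hq'.2) hqp).ge
  · exact hmin ⟨q, hq'.isPrime⟩ (Module.mem_support_iff_of_finite.2 (IsAssociatedPrime.annihilator_le hq' |>.trans' (le_of_eq Submodule.annihilator_top.symm))) hqp

end Groth.Agent.S5760
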