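import Groth.Statements.S5762
import Groth.Agent.S0322
import Groth.Agent.S4718
import Groth.Agent.SkOpenLib.Generization
import Groth.Agent.CommAlgDim.Depth

set_option autoImplicit false
universe u
open EGA41

namespace Groth.Agent.S5762

/-- Let A be a Noetherian local ring, M a nonzero finitely generated Cohen-Macaulay A-module and p a
prime ideal in the support of M. Then dim(M) = dim_A(M/pM) + dim_{A_p}(M_p). -/
theorem result (A : Type u) [CommRing A]
    [IsLocalRing A] [IsNoetherianRing A] (M : Type u) [AddCommGroup M] [Module A M] [Module.Finite A M]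
    (hM : LocCoh.IsCohenMacaulayModule A M) (p : PrimeSpectrum A) (hp : p ∈ Module.support A M) :
    Module.supportDim A M =
      Module.supportDim A (M ⧸ (p.asIdeal • (⊤ : Submodule A M))) +
        Module.supportDim (Localization.AtPrime p.asIdeal) (LocalizedModule p.asIdeal.primeCompl M) := by
  haveI : Nontrivial M := by
    by_contra h
    rw [not_nontrivial_iff_subsingleton] at h
    rw [Module.support_eq_empty] at hp
    exact hp
  haveI : Nontrivial (LocalizedModule p.asIdeal.primeCompl M) := Module.mem_support_iff.1 hp
  refine le_antisymm ?_ ?_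
  · refine (le_of_eq (Groth.Agent.S0322.result A p.asIdeal p.isPrime.ne_top M hM)).trans (add_le_add le_rfl ?_)
    refine le_trans ?_ (Groth.Agent.S4718.depth_le_supportDim _ _)
    refine WithBot.coe_le_coe.2 (ENat.forall_natCast_le_iff_le.1 fun n hn => ?_)
    exact (CommAlgDim.le_depth_iff n).2 (CommAlgDim.HasSeqIn.localization le_rfl ((CommAlgDim.le_idealDepth_iff _ n).1 hn))
  · rw [show Module.supportDim (Localization.AtPrime p.asIdeal) (LocalizedModule p.asIdeal.primeCompl M) =
      SkOpenLib.sdim M p.asIdeal from rfl, SkOpenLib.sdim_eq_height M p hp]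
    let x : Module.support A M := ⟨p, hp⟩
    haveI : Nonempty (Module.support A M) := ⟨x⟩
    have h1 : Module.supportDim A (M ⧸ (p.asIdeal • (⊤ : Submodule A M))) ≤ ((Order.coheight x : ℕ∞) : WithBot ℕ∞) := by
      rw [Order.coheight_eq_krullDim_Ici]
      refine Order.krullDim_le_of_strictMono (fun q => ⟨⟨q.1, ?_⟩, ?_⟩) (fun a b h => h)
      · exact ((Set.ext_iff.1 (Module.support_quotient (M := M) p.asIdeal) q.1).1 q.2).1
      · exact ((Set.ext_iff.1 (Module.support_quotient (M := M) p.asIdeal) q.1).1 q.2).2
    refine (add_le_add h1 le_rfl).trans ?_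
    rw [Module.supportDim, Order.krullDim_eq_iSup_height_add_coheight_of_nonempty, ← WithBot.coe_add]
    refine WithBot.coe_le_coe.2 ?_
    rw [add_comm]
    exact le_iSup (fun a : Module.support A M => Order.height a + Order.coheight a) x

end Groth.Agent.S5762
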