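import Groth.Statements.S5764
import Mathlib


-- import your own Groth.Agent.* helpers here

set_option autoImplicit false
universe u
open EGA41

namespace Groth.Agent.S5764

/-- Let B be an integral domain, A a local subring of B which is integrally closed (in its field of
fractions), and suppose B is integral over A. Then dim(B_n) = dim(A) for every maximal ideal n of B. -/
theorem result (A B : Type u) [CommRing A]
    [CommRing B] [IsDomain B] [Algebra A B] (hinj : Function.Injective (algebraMap A B)) [IsDomain A]
    [IsLocalRing A] [IsIntegrallyClosed A] [Algebra.IsIntegral A B] (n : Ideal B) [n.IsMaximal] :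
    ringKrullDim (Localization.AtPrime n) = ringKrullDim A := by
  haveI : FaithfulSMul A B := (faithfulSMul_iff_algebraMap_injective A B).2 hinj
  have hm : n.under A = IsLocalRing.maximalIdeal A := IsLocalRing.eq_maximalIdeal inferInstance
  rw [IsLocalization.AtPrime.ringKrullDim_eq_height n (Localization.AtPrime n)]
  refine le_antisymm ?_ ?_
  · refine le_trans (Ideal.height_le_ringKrullDim_of_ne_top Ideal.IsPrime.ne_top') ?_
    refine Order.krullDim_le_of_strictMono (PrimeSpectrum.comap (algebraMap A B)) fun P Q hPQ => ?_
    exact Ideal.IsIntegral.comap_lt_comap hPQ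
  · refine iSup_le fun l => ?_
    haveI : n.LiesOver (IsLocalRing.maximalIdeal A) := ⟨hm.symm⟩
    obtain ⟨P, hP, hPp, hPl⟩ := Ideal.exists_ideal_le_liesOver_of_le (p := l.last.asIdeal) (q := IsLocalRing.maximalIdeal A) n (IsLocalRing.le_maximalIdeal l.last.isPrime.ne_top)
    obtain ⟨L, hlen, hlast, -⟩ := Ideal.exists_ltSeries_of_hasGoingDown l P
    rw [show n.height = Order.height (⟨n, inferInstance⟩ : PrimeSpectrum B) from PrimeSpectrum.height_eq_orderHeight ⟨n, inferInstance⟩, ← hlen]
    exact WithBot.coe_le_coe.2 (Order.length_le_height (p := L) (show L.last ≤ ⟨n, inferInstance⟩ by rw [hlast]; exact hP))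

end Groth.Agent.S5764
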