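import Groth.Statements.S5765
import Groth.Agent.SkOpenLib.Generization
import Mathlib


-- import your own Groth.Agent.* helpers here

set_option autoImplicit false
universe u
open EGA41

namespace Groth.Agent.S5765

/-- Let A be a ring, M a finitely generated A-module and p a prime ideal of A. Then dim_{A_p}(M_p) +
dim_A(M/pM) ≤ dim_A(M). -/
theorem result (A : Type u) [CommRing A] (M : Type u)
    [AddCommGroup M] [Module A M] [Module.Finite A M] (p : Ideal A) [p.IsPrime] :
    Module.supportDim (Localization.AtPrime p) (LocalizedModule p.primeCompl M) +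
        Module.supportDim A (M ⧸ (p • (⊤ : Submodule A M))) ≤ Module.supportDim A M := by
  by_cases hne : Subsingleton (LocalizedModule p.primeCompl M)
  · rw [(Module.supportDim_eq_bot_iff_subsingleton _ _).mpr hne, WithBot.bot_add]
    exact bot_le
  have hp : (⟨p, inferInstance⟩ : PrimeSpectrum A) ∈ Module.support A M :=
    Module.mem_support_iff.2 (not_subsingleton_iff_nontrivial.mp hne)
  rw [show Module.supportDim (Localization.AtPrime p) (LocalizedModule p.primeCompl M) =
      SkOpenLib.sdim M p from rfl,
    show SkOpenLib.sdim M p = _ from SkOpenLib.sdim_eq_height M ⟨p, inferInstance⟩ hp]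
  let x : Module.support A M := ⟨⟨p, inferInstance⟩, hp⟩
  haveI : Nonempty (Module.support A M) := ⟨x⟩
  have h1 : Module.supportDim A (M ⧸ (p • (⊤ : Submodule A M))) ≤ ((Order.coheight x : ℕ∞) : WithBot ℕ∞) := by
    rw [Order.coheight_eq_krullDim_Ici]
    refine Order.krullDim_le_of_strictMono (fun q => ⟨⟨q.1, ?_⟩, ?_⟩) (fun a b h => h)
    · exact ((Set.ext_iff.1 (Module.support_quotient (M := M) p) q.1).1 q.2).1
    · exact ((Set.ext_iff.1 (Module.support_quotient (M := M) p) q.1).1 q.2).2
  refine (add_le_add le_rfl h1).trans ?_
  rw [Module.supportDim, Order.krullDim_eq_iSup_height_add_coheight_of_nonempty, ← WithBot.coe_add]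
  refine WithBot.coe_le_coe.2 ?_
  exact le_iSup (fun a : Module.support A M => Order.height a + Order.coheight a) x

end Groth.Agent.S5765
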