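import Groth.Statements.S5767
import Mathlib

-- import your own Groth.Agent.* helpers here

set_option autoImplicit false
universe u
open EGA41

namespace Groth.Agent.S5767

/-- Let A be a semi-local Noetherian ring, M a finitely generated A-module and x an element of the
Jacobson radical of A. One always has dim(M/xM) ≥ dim(M) - 1; equality dim(M/xM) = dim(M) - 1 holds
if and only if x belongs to none of the prime ideals p of Supp(M) with dim(A/p) = dim(M). Stated as:
dim(M/xM) + 1 = dim(M) iff x avoids those primes. -/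
theorem result (A : Type u) [CommRing A] [IsNoetherianRing A]
    [Finite (MaximalSpectrum A)] (M : Type u) [AddCommGroup M] [Module A M] [Module.Finite A M] (x : A)
    (hx : x ∈ Ring.jacobson A) :
    Module.supportDim A (QuotSMulTop x M) + 1 = Module.supportDim A M ↔
      ∀ p : PrimeSpectrum A, p ∈ Module.support A M →
        ringKrullDim (A ⧸ p.asIdeal) = Module.supportDim A M → x ∉ p.asIdeal := by
  classical
  cases nonempty_fintype (MaximalSpectrum A)
  have hfin : Module.supportDim A M ≠ ⊤ := by
    intro e
    have hb : ringKrullDim A ≤ ((Finset.univ.sup fun m : MaximalSpectrum A => m.asIdeal.height.toNat : ℕ) : ℕ∞) := by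
      refine (ringKrullDim_le_iff_isMaximal_height_le _).2 (fun m hm => ?_)
      rw [← ENat.natCast_toNat (Ideal.height_ne_top hm.ne_top)]
      exact_mod_cast Finset.le_sup (f := fun m : MaximalSpectrum A => m.asIdeal.height.toNat) (Finset.mem_univ ⟨m, hm⟩)
    have := (Module.supportDim_le_ringKrullDim (R := A) (M := M)).trans hb
    rw [e] at this
    exact absurd (WithBot.coe_le_coe.1 this) (by simp)
  have hxj : x ∈ (Module.annihilator A M).jacobson := by
    have h0 : Ring.jacobson A = (⊥ : Ideal A).jacobson := (Ideal.jacobson_bot).symm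
    exact Ideal.jacobson_mono bot_le (h0 ▸ hx)
  have hq := Module.supportDim_le_supportDim_quotSMulTop_succ_of_mem_jacobson hxj
  have hsupp : ∀ q : PrimeSpectrum A, q ∈ Module.support A (QuotSMulTop x M) ↔ q ∈ Module.support A M ∧ x ∈ q.asIdeal := fun q => by
    rw [Module.support_quotSMulTop, Set.mem_inter_iff, PrimeSpectrum.mem_zeroLocus, Set.singleton_subset_iff, SetLike.mem_coe]
  have hup : ∀ p q : PrimeSpectrum A, p ∈ Module.support A M → p ≤ q → q ∈ Module.support A M := fun p q hp hpq => Module.mem_support_mono hpq hp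
  constructor
  · intro heq p hp hpd hxp
    have hle : ringKrullDim (A ⧸ p.asIdeal) ≤ Module.supportDim A (QuotSMulTop x M) := by
      rw [ringKrullDim_quotient]
      exact Order.krullDim_le_of_strictMono (fun q => ⟨q.1, (hsupp _).2 ⟨hup p q.1 hp q.2, q.2 hxp⟩⟩) (fun a b h => h)
    rw [hpd] at hle
    have hnb : Module.supportDim A (QuotSMulTop x M) ≠ ⊥ := fun e => (Order.krullDim_eq_bot_iff.1 e).false ⟨p, (hsupp _).2 ⟨hp, hxp⟩⟩
    obtain ⟨D', hD'⟩ := WithBot.ne_bot_iff_exists.1 hnb
    have hD'top : D' ≠ ⊤ := fun e => hfin (by rw [← heq, ← hD', e]; rfl)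
    obtain ⟨n, rfl⟩ := ENat.ne_top_iff_exists.1 hD'top
    rw [← heq, ← hD'] at hle
    have hle' : (((n + 1 : ℕ) : ℕ∞) : WithBot ℕ∞) ≤ ((n : ℕ∞) : WithBot ℕ∞) := by exact_mod_cast hle
    exact absurd (Nat.cast_le.1 (WithBot.coe_le_coe.1 hle')) (by omega)
  · intro h
    refine le_antisymm ?_ hq
    rcases subsingleton_or_nontrivial M with hM | hM
    · haveI : Subsingleton (QuotSMulTop x M) := Quotient.instSubsingletonQuotient _
      rw [Module.supportDim_eq_bot_of_subsingleton, WithBot.bot_add]
      exact bot_le
    have hbound : ∀ l : LTSeries (Module.support A (QuotSMulTop x M)), ((l.length + 1 : ℕ) : WithBot ℕ∞) ≤ Module.supportDim A M := by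
      intro l
      let emb : Module.support A (QuotSMulTop x M) → Module.support A M := fun q => ⟨q.1, ((hsupp _).1 q.2).1⟩
      let l' := l.map emb (fun a b h => h)
      by_cases hex : ∃ q : Module.support A M, q < l'.head
      · obtain ⟨q, hq⟩ := hex
        exact Order.LTSeries.length_le_krullDim (l'.cons q hq) |>.trans' (le_of_eq (by simp [l']))
      · by_contra hc
        have hl : (l.length : WithBot ℕ∞) ≤ ringKrullDim (A ⧸ l.head.1.asIdeal) := by
          rw [ringKrullDim_quotient]
          let l'' : LTSeries (PrimeSpectrum.zeroLocus (l.head.1.asIdeal : Set A)) :=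
            ⟨l.length, fun i => ⟨(l i).1, (l.head_le i : l.head ≤ l i)⟩, fun i => l.step i⟩
          exact Order.LTSeries.length_le_krullDim l''
        have hle : ringKrullDim (A ⧸ l.head.1.asIdeal) ≤ Module.supportDim A M := by
          rw [ringKrullDim_quotient]
          exact Order.krullDim_le_of_strictMono (fun q => ⟨q.1, hup _ q.1 ((hsupp _).1 l.head.2).1 q.2⟩) (fun a b h => h)
        refine h l.head.1 ((hsupp _).1 l.head.2).1 (le_antisymm hle ?_) ((hsupp _).1 l.head.2).2
        refine le_trans ?_ hl
        revert hc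
        generalize Module.supportDim A M = D at hfin ⊢
        intro hc
        match D, hfin with
        | ⊥, _ => exact bot_le
        | (⊤ : ℕ∞), hfin => exact absurd rfl hfin
        | ((n : ℕ) : ℕ∞), _ => norm_cast at hc ⊢; omega
    by_cases he : IsEmpty (Module.support A (QuotSMulTop x M))
    · rw [show Module.supportDim A (QuotSMulTop x M) = ⊥ from Order.krullDim_eq_bot_iff.2 he, WithBot.bot_add]
      exact bot_le
    rw [not_isEmpty_iff] at he
    obtain ⟨n, hn⟩ : ∃ n : ℕ, Module.supportDim A (QuotSMulTop x M) = n := by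
      have h1 : Module.supportDim A (QuotSMulTop x M) ≠ ⊤ := fun e => hfin (top_le_iff.1 (e ▸ Module.supportDim_le_of_surjective _ (Submodule.mkQ_surjective _)))
      have h2 : Module.supportDim A (QuotSMulTop x M) ≠ ⊥ := fun e => (Order.krullDim_eq_bot_iff.1 e).false he.some
      revert h1 h2
      generalize Module.supportDim A (QuotSMulTop x M) = D
      intro h1 h2
      match D, h1, h2 with
      | ⊥, _, h2 => exact absurd rfl h2
      | (⊤ : ℕ∞), h1, _ => exact absurd rfl h1
      | ((n : ℕ) : ℕ∞), _, _ => exact ⟨n, rfl⟩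
    rw [hn]
    obtain ⟨l, hl⟩ := Order.le_krullDim_iff.1 (le_of_eq hn.symm)
    refine le_trans (le_of_eq ?_) (hbound l)
    rw [hl]; push_cast; rfl

end Groth.Agent.S5767
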