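import Groth.Statements.S5768
import Groth.Agent.S3406
import Mathlib

set_option autoImplicit false
universe u
open EGA41

namespace Groth.Agent.S5768

/-- Let A be a semi-local Noetherian ring with Jacobson radical r, M a nonzero finitely generated
A-module and x_1, ..., x_k elements of r. One always has dim(M/(x_1 M + ... + x_k M)) ≥ dim(M) - k,
and equality holds if and only if there exist further elements of r which together with the x_i form
a system of parameters for M (dim(M) elements of r modulo which M has finite length). -/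
theorem result (A : Type u) [CommRing A]
    [IsNoetherianRing A] [Finite (MaximalSpectrum A)] (M : Type u) [AddCommGroup M] [Module A M]
    [Module.Finite A M] [Nontrivial M] (xs : List A) (hxs : ∀ x ∈ xs, x ∈ Ring.jacobson A) :
    Module.supportDim A (M ⧸ (Ideal.ofList xs • (⊤ : Submodule A M))) + xs.length = Module.supportDim A M ↔
      ∃ ys : List A, (∀ y ∈ ys, y ∈ Ring.jacobson A) ∧
        ((xs ++ ys).length : WithBot ℕ∞) = Module.supportDim A M ∧
        IsFiniteLength A (M ⧸ (Ideal.ofList (xs ++ ys) • (⊤ : Submodule A M))) := by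
  have hex : ∀ (N : Type u) [AddCommGroup N] [Module A N] [Module.Finite A N] [Nontrivial N],
      ∃ (D : ℕ) (zs : List A), Module.supportDim A N = D ∧ zs.length = D ∧ (∀ z ∈ zs, z ∈ Ring.jacobson A) ∧
        IsFiniteLength A (N ⧸ (Ideal.ofList zs • (⊤ : Submodule A N))) := by
    intro N _ _ _ _
    obtain ⟨P, hP⟩ := CommAlgDim.exists_isHSPoly_jacobson (R := A) N
    have hdim := CommAlgDim.natDegree_eq_supportDim hP
    obtain ⟨x, hxJ, hx⟩ := CommAlgDim.exists_parameters P.natDegree N fun s q hq hmem => by
      have h2 := Order.LTSeries.length_le_krullDim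
        (⟨s, fun i => ⟨q i, hmem i⟩, fun i => hq (Fin.castSucc_lt_succ (i := i))⟩ :
          LTSeries (Module.support A N))
      rw [show Order.krullDim (Module.support A N) = Module.supportDim A N from rfl, ← hdim] at h2
      exact_mod_cast h2
    refine ⟨P.natDegree, List.ofFn x, hdim.symm, by simp, fun z hz => ?_, ?_⟩
    · obtain ⟨i, rfl⟩ := List.mem_ofFn.1 hz
      exact hxJ i
    · refine Module.length_ne_top_iff.1 (CommAlgDim.length_quotient_smul_ne_top fun p hp hpa => hx p hp fun i => hpa ?_)
      exact Ideal.subset_span (List.mem_ofFn.2 ⟨i, rfl⟩)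
  have hle : ∀ (N : Type u) [AddCommGroup N] [Module A N] [Module.Finite A N] [Nontrivial N] (zs : List A),
      (∀ z ∈ zs, z ∈ Ring.jacobson A) → IsFiniteLength A (N ⧸ (Ideal.ofList zs • (⊤ : Submodule A N))) →
      Module.supportDim A N ≤ (zs.length : WithBot ℕ∞) := by
    intro N _ _ _ _ zs hz hfin
    rw [Groth.Agent.S3406.result A N]
    refine sInf_le ⟨zs.length, zs.get, rfl, fun i => hz _ (zs.get_mem i), ?_⟩
    rw [Set.range_list_get]
    exact hfin
  let N := M ⧸ (Ideal.ofList xs • (⊤ : Submodule A M))
  have hassoc : ∀ zs : List A, IsFiniteLength A (N ⧸ (Ideal.ofList zs • (⊤ : Submodule A N))) ↔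
      IsFiniteLength A (M ⧸ (Ideal.ofList (xs ++ zs) • (⊤ : Submodule A M))) := by
    intro zs
    have h1 : Ideal.ofList zs • (⊤ : Submodule A N) =
        (Ideal.ofList (xs ++ zs) • (⊤ : Submodule A M)).map (Submodule.mkQ (Ideal.ofList xs • (⊤ : Submodule A M))) := by
      rw [Ideal.ofList_append, Submodule.sup_smul, Submodule.map_sup, Submodule.mkQ_map_self, bot_sup_eq,
        Submodule.map_smul'', Submodule.map_top, Submodule.range_mkQ]
    have hsub : Ideal.ofList xs • (⊤ : Submodule A M) ≤ Ideal.ofList (xs ++ zs) • ⊤ :=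
      Submodule.smul_mono_left (by rw [Ideal.ofList_append]; exact le_sup_left)
    let e : (N ⧸ (Ideal.ofList zs • (⊤ : Submodule A N))) ≃ₗ[A] (M ⧸ (Ideal.ofList (xs ++ zs) • (⊤ : Submodule A M))) :=
      (Submodule.quotEquivOfEq _ _ h1).trans (Submodule.quotientQuotientEquivQuotient _ _ hsub)
    exact ⟨fun h => isFiniteLength_iff_isNoetherian_isArtinian.2
      (by haveI := (isFiniteLength_iff_isNoetherian_isArtinian.1 h).1; haveI := (isFiniteLength_iff_isNoetherian_isArtinian.1 h).2
          exact ⟨isNoetherian_of_linearEquiv e, e.isArtinian_iff.1 inferInstance⟩),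
      fun h => isFiniteLength_iff_isNoetherian_isArtinian.2
      (by haveI := (isFiniteLength_iff_isNoetherian_isArtinian.1 h).1; haveI := (isFiniteLength_iff_isNoetherian_isArtinian.1 h).2
          exact ⟨isNoetherian_of_linearEquiv e.symm, e.symm.isArtinian_iff.1 inferInstance⟩)⟩
  haveI : Nontrivial N := by
    refine Submodule.Quotient.nontrivial_iff.2 fun h => top_ne_bot (α := Submodule A M) ?_
    exact Submodule.eq_bot_of_le_smul_of_le_jacobson_bot _ ⊤ Module.Finite.fg_top h.ge
      ((Ideal.span_le.2 fun x hx => hxs x hx).trans (by rw [Ideal.jacobson_bot]))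
  obtain ⟨d, ys, hd, hylen, hys, hyfin⟩ := hex N
  obtain ⟨D, -, hD, -, -, -⟩ := hex M
  have h1 : D ≤ xs.length + d := by
    have := hle M (xs ++ ys) (fun z hz => (List.mem_append.1 hz).elim (hxs z) (hys z)) ((hassoc ys).1 hyfin)
    rw [hD, List.length_append, hylen] at this
    exact_mod_cast this
  constructor
  · intro h
    refine ⟨ys, hys, ?_, (hassoc ys).1 hyfin⟩
    rw [← h, show Module.supportDim A (M ⧸ (Ideal.ofList xs • (⊤ : Submodule A M))) = (d : WithBot ℕ∞) from hd,
      List.length_append, hylen]
    push_cast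
    exact add_comm _ _
  · rintro ⟨zs, hzs, hzlen, hzfin⟩
    have h2 := hle N zs hzs ((hassoc zs).2 hzfin)
    rw [hd] at h2
    rw [hD, List.length_append] at hzlen
    have h2' : d ≤ zs.length := by exact_mod_cast h2
    have h3 : xs.length + zs.length = D := by exact_mod_cast hzlen
    rw [show Module.supportDim A (M ⧸ (Ideal.ofList xs • (⊤ : Submodule A M))) = (d : WithBot ℕ∞) from hd, hD]
    exact_mod_cast (show d + xs.length = D by omega)

end Groth.Agent.S5768
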