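import Groth.Statements.S5775
import Mathlib
import Groth.Agent.TransLib.Step
import Groth.Agent.FlatLib.FlatMisc
-- import your own Groth.Agent.* helpers here

set_option autoImplicit false
universe u
open EGA41

namespace Groth.Agent.S5775

/-- Let A → B be a local homomorphism of Noetherian local rings, m the maximal ideal of A, M a finitely
generated B-module flat over A and R a B-submodule of M such that M/R is flat over A. Let f_1, ...,
f_n be elements of the maximal ideal of B such that (i) f_i M ⊆ R for all i, (ii) the images of the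
f_i form an (M/mM)-regular sequence, and (iii) the submodule f_1 (M/mM) + ... + f_n (M/mM) is the
image of R in M/mM. Then (f_i) is an M-regular sequence and R = f_1 M + ... + f_n M. -/
theorem result (A B : Type u) [CommRing A] [CommRing B] [IsLocalRing A]
    [IsLocalRing B] [IsNoetherianRing A] [IsNoetherianRing B] [Algebra A B] [IsLocalHom (algebraMap A B)]
    (M : Type u) [AddCommGroup M] [Module B M] [Module A M] [IsScalarTower A B M] [Module.Finite B M]
    [Module.Flat A M] (R : Submodule B M) (hR : Module.Flat A (M ⧸ R)) (fs : List B)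
    (hfs : ∀ f ∈ fs, f ∈ IsLocalRing.maximalIdeal B) (h1 : Ideal.ofList fs • (⊤ : Submodule B M) ≤ R)
    (h2 : RingTheory.Sequence.IsWeaklyRegular
      (M ⧸ ((IsLocalRing.maximalIdeal A).map (algebraMap A B) • (⊤ : Submodule B M))) fs)
    (h3 : Ideal.ofList fs • (⊤ : Submodule B
        (M ⧸ ((IsLocalRing.maximalIdeal A).map (algebraMap A B) • (⊤ : Submodule B M)))) =
      R.map ((IsLocalRing.maximalIdeal A).map (algebraMap A B) • (⊤ : Submodule B M)).mkQ) :
    RingTheory.Sequence.IsWeaklyRegular M fs ∧ R = Ideal.ofList fs • (⊤ : Submodule B M) := by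
  classical
  let I := (IsLocalRing.maximalIdeal A).map (algebraMap A B)
  obtain ⟨hreg, hflat⟩ := TransLib.regular_and_flat M fs h2
  refine ⟨hreg, le_antisymm ?_ h1⟩
  let J : Submodule B M := Ideal.ofList fs • (⊤ : Submodule B M)
  haveI : Module.Flat A (M ⧸ J) := by
    have := hflat fs.length le_rfl
    rwa [List.take_length] at this
  haveI := hR
  haveI : Module.Finite B R := Module.Finite.iff_fg.2 (IsNoetherian.noetherian R)
  let K : Submodule B (M ⧸ J) := R.map J.mkQ
  let π : (M ⧸ J) →ₗ[A] M ⧸ R := (Submodule.factor h1).restrictScalars A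
  let i : K →ₗ[A] M ⧸ J := K.subtype.restrictScalars A
  have hex : Function.Exact i π := fun z => by
    obtain ⟨z, rfl⟩ := Submodule.Quotient.mk_surjective _ z
    show Submodule.Quotient.mk z = (0 : M ⧸ R) ↔ _
    rw [Submodule.Quotient.mk_eq_zero]
    refine ⟨fun hz => ⟨⟨_, Submodule.mem_map_of_mem hz⟩, rfl⟩, fun ⟨⟨w, hw⟩, hwz⟩ => ?_⟩
    obtain ⟨r, hr, hrw⟩ := Submodule.mem_map.1 hw
    have h0 : r - z ∈ J := (Submodule.Quotient.eq _).1 (hrw.trans hwz)
    simpa using R.sub_mem hr (h1 h0)
  have hπs : Function.Surjective π := Submodule.factor_surjective h1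
  have key : R ≤ J ⊔ I • R := by
    intro r hr
    have hrJ : r ∈ J ⊔ I • (⊤ : Submodule B M) := by
      have hm : (Submodule.mkQ (I • (⊤ : Submodule B M))) r ∈ R.map (Submodule.mkQ (I • (⊤ : Submodule B M))) := Submodule.mem_map_of_mem hr
      rw [← h3] at hm
      rw [← Submodule.range_mkQ, ← Submodule.map_top, ← Submodule.map_smul''] at hm
      obtain ⟨j, hj, hjr⟩ := Submodule.mem_map.1 hm
      have h0 : r - j ∈ I • (⊤ : Submodule B M) := by
        rw [← Submodule.Quotient.eq]; exact hjr.symm
      exact Submodule.mem_sup.2 ⟨j, hj, r - j, h0, by abel⟩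
    -- the class of `r` in `K` lies in `m (M / J)`, hence in `m K`
    let x : K := ⟨J.mkQ r, Submodule.mem_map_of_mem hr⟩
    have hinj := FlatLib.lTensor_injective_of_flat_coker i π Subtype.val_injective hex hπs (A ⧸ IsLocalRing.maximalIdeal A)
    have hz : i.rTensor (A ⧸ IsLocalRing.maximalIdeal A) (x ⊗ₜ[A] Ideal.Quotient.mk _ 1) = 0 := by
      rw [LinearMap.rTensor_tmul]
      apply (TensorProduct.tensorQuotEquivQuotSMul (M ⧸ J) (IsLocalRing.maximalIdeal A)).injective
      rw [TensorProduct.tensorQuotEquivQuotSMul_tmul_mk, one_smul, map_zero, Submodule.Quotient.mk_eq_zero,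
        ← TransLib.map_smul_top_restrictScalars (B := B)]
      show J.mkQ r ∈ I • (⊤ : Submodule B (M ⧸ J))
      obtain ⟨j, hj, t, ht, hjt⟩ := Submodule.mem_sup.1 hrJ
      rw [← Submodule.range_mkQ, ← Submodule.map_top, ← Submodule.map_smul'']
      refine ⟨t, ht, ?_⟩
      rw [← hjt, map_add, show J.mkQ j = 0 from (Submodule.Quotient.mk_eq_zero _).2 hj, zero_add]
    have hx0 := hinj (hz.trans (map_zero _).symm)
    have hx1 := congrArg (TensorProduct.tensorQuotEquivQuotSMul K (IsLocalRing.maximalIdeal A)) hx0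
    rw [TensorProduct.tensorQuotEquivQuotSMul_tmul_mk, one_smul, map_zero, Submodule.Quotient.mk_eq_zero,
      ← TransLib.map_smul_top_restrictScalars (B := B)] at hx1
    have hx2 : J.mkQ r ∈ I • K := by
      have := Submodule.mem_map_of_mem (f := K.subtype) (show x ∈ I • (⊤ : Submodule B K) from hx1)
      rwa [Submodule.map_smul'', Submodule.map_subtype_top] at this
    rw [show I • K = (I • R).map J.mkQ from (Submodule.map_smul'' I R J.mkQ).symm] at hx2
    obtain ⟨t, ht, htr⟩ := Submodule.mem_map.1 hx2
    have h0 : r - t ∈ J := by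
      rw [← Submodule.Quotient.eq]; exact htr.symm
    exact Submodule.mem_sup.2 ⟨r - t, h0, t, ht, sub_add_cancel r t⟩
  refine Submodule.le_of_le_smul_of_le_jacobson_bot (IsNoetherian.noetherian R) ?_ key
  exact le_trans (((IsLocalRing.local_hom_TFAE (algebraMap A B)).out 0 2).1 (by infer_instance))
    (IsLocalRing.maximalIdeal_le_jacobson _)

end Groth.Agent.S5775
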