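import Groth.Statements.S5778
import Mathlib
import Groth.Agent.S8163
import Groth.Agent.CommAlgDim.HilbertSamuel

set_option autoImplicit false
universe u
open EGA41

namespace Groth.Agent.S5778

/-- Let A be a Noetherian local ring with maximal ideal m, residue field k, and let r be the dimension
of the k-vector space m/m². Then A is regular if and only if the canonical surjection of graded
k-algebras from the symmetric algebra of m/m² onto the associated graded ring of A for the m-adic
filtration is bijective. Since that surjection is bijective exactly when source and target have the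
same length in every degree, the condition is expressed here as: length_A(A/m^(s+1)) equals the
binomial coefficient C(s+r, r) for every s ≥ 0. -/
theorem result (A : Type u) [CommRing A] [IsLocalRing A]
    [IsNoetherianRing A] :
    IsRegularLocalRing A ↔
      ∀ s : ℕ, Module.length A (A ⧸ IsLocalRing.maximalIdeal A ^ (s + 1)) =
        ((s + Module.finrank (IsLocalRing.ResidueField A) (IsLocalRing.CotangentSpace A)).choose s : ℕ∞) := by
  set r := Module.finrank (IsLocalRing.ResidueField A) (IsLocalRing.CotangentSpace A) with hr
  constructor
  · intro hreg s
    haveI := hreg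
    have hd : ringKrullDim A = (r : ℕ) := ((IsRegularLocalRing.iff_finrank_cotangentSpace A).mp hreg).symm
    rw [Groth.Agent.S8163.result A r hd (s + 1) (by omega), show s + 1 + r - 1 = s + r by omega,
      Nat.choose_symm_add]
  · intro h
    rw [IsRegularLocalRing.iff_finrank_cotangentSpace, ← hr]
    set m := IsLocalRing.maximalIdeal A
    let P : Polynomial ℚ := Polynomial.C ((r.factorial : ℚ)⁻¹) * ascPochhammer ℚ r
    have hdeg : P.natDegree = r := by
      rw [Polynomial.natDegree_C_mul (by positivity), ascPochhammer_natDegree]
    have hJ : Ring.jacobson A = m := IsLocalRing.ringJacobson_eq_maximalIdeal A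
    have hP : CommAlgDim.IsHSPoly (Ring.jacobson A) A P := by
      rw [CommAlgDim.IsHSPoly, Filter.eventually_atTop]
      refine ⟨1, fun n hn => ?_⟩
      obtain ⟨s, rfl⟩ : ∃ s, n = s + 1 := ⟨n - 1, by omega⟩
      have hlen : Module.length A (A ⧸ (Ring.jacobson A) ^ (s + 1) • (⊤ : Submodule A A)) =
          (((s + r).choose r : ℕ) : ℕ∞) := by
        rw [hJ, (Submodule.quotEquivOfEq (m ^ (s + 1) • (⊤ : Submodule A A)) (m ^ (s + 1)) (Ideal.mul_top _)).length_eq, h s,
          Nat.choose_symm_add]
      rw [CommAlgDim.chi, CommAlgDim.len, hlen, ENat.toNat_coe]
      simp only [P, Polynomial.eval_mul, Polynomial.eval_C]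
      rw [ascPochhammer_nat_eq_natCast_ascFactorial, Nat.ascFactorial_eq_factorial_mul_choose']
      rw [show s + 1 + r - 1 = s + r by omega]
      push_cast
      field_simp
    rw [← Module.supportDim_self_eq_ringKrullDim, ← CommAlgDim.natDegree_eq_supportDim hP, hdeg]

end Groth.Agent.S5778
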