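import Groth.Statements.S5779
import Groth.Agent.CommAlgDim.Regular
import Mathlib.Algebra.Module.SpanRankOperations
import Mathlib.LinearAlgebra.Dimension.OrzechProperty

set_option autoImplicit false
universe u
open EGA41

namespace Groth.Agent.S5779

open IsLocalRing in
theorem span_coe_eq {A : Type u} [CommRing A] [IsLocalRing A] (s : Set (maximalIdeal A)) :
    Submodule.span A s = ⊤ ↔ Ideal.span (Subtype.val '' s) = maximalIdeal A := by
  rw [← (Submodule.map_injective_of_injective (maximalIdeal A).injective_subtype).eq_iff, Submodule.map_top,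
    Submodule.range_subtype, Submodule.map_span]
  rfl

open IsLocalRing in
theorem spanFinrank_add_finrank {A : Type u} [CommRing A] [IsLocalRing A] [IsNoetherianRing A] {r : ℕ}
    (x : Fin r → maximalIdeal A) :
    ((maximalIdeal A).map (Ideal.Quotient.mk (Ideal.span (Set.range fun i => (x i : A))))).spanFinrank +
      Module.finrank (ResidueField A) (Submodule.span (ResidueField A)
        (Set.range fun i => (maximalIdeal A).toCotangent (x i))) = (maximalIdeal A).spanFinrank := by
  classical
  let π := Ideal.Quotient.mk (Ideal.span (Set.range fun i => (x i : A)))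
  let W := Submodule.span (ResidueField A) (Set.range fun i => (maximalIdeal A).toCotangent (x i))
  have hV := spanFinrank_maximalIdeal_eq_finrank_cotangentSpace A
  refine le_antisymm ?_ ?_
  · obtain ⟨C, hC⟩ := W.exists_isCompl
    let b := Module.finBasis (ResidueField A) C
    choose s hs using fun j => (maximalIdeal A).toCotangent_surjective (b j : CotangentSpace A)
    have htop : Submodule.span A (Set.range x ∪ Set.range s) = ⊤ := by
      refine CotangentSpace.span_image_eq_top_iff.1 ?_
      rw [Set.image_union, Submodule.span_union, ← Set.range_comp, ← Set.range_comp,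
        show ((maximalIdeal A).toCotangent ∘ s) = fun j => (b j : CotangentSpace A) from funext hs,
        show Submodule.span (ResidueField A) (Set.range fun j => (b j : CotangentSpace A)) = C by
          rw [show (fun j => (b j : CotangentSpace A)) = C.subtype ∘ b from rfl, Set.range_comp,
            ← Submodule.map_span, b.span_eq, Submodule.map_top, Submodule.range_subtype]]
      exact hC.sup_eq_top
    have hm := (span_coe_eq _).1 htop
    have h1 : (maximalIdeal A).map π = Ideal.span (Set.range fun j => π (s j : A)) := by
      refine (congrArg (Ideal.map π) hm).symm.trans ?_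
      rw [Set.image_union, Ideal.span_union, Ideal.map_sup, Ideal.map_span, Ideal.map_span]
      rw [show Ideal.span (π '' (Subtype.val '' Set.range x)) = ⊥ by
        rw [Ideal.span_eq_bot]
        rintro _ ⟨_, ⟨_, ⟨i, rfl⟩, rfl⟩, rfl⟩
        exact Ideal.Quotient.eq_zero_iff_mem.2 (Ideal.subset_span ⟨i, rfl⟩), bot_sup_eq,
        ← Set.range_comp, ← Set.range_comp]
      rfl
    have hdim : Module.finrank (ResidueField A) W + Module.finrank (ResidueField A) C =
        Module.finrank (ResidueField A) (CotangentSpace A) := Submodule.finrank_add_eq_of_isCompl hC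
    have hb : ((maximalIdeal A).map π).spanFinrank ≤ Module.finrank (ResidueField A) C := by
      rw [h1, show Set.range (fun j => π (s j : A)) = ↑(Finset.univ.image fun j => π (s j : A)) by simp]
      exact ((Submodule.spanFinrank_span_le_ncard_of_finite (Finset.finite_toSet _)).trans_eq
        (Set.ncard_coe_finset _)).trans (Finset.card_image_le.trans_eq (by simp))
    show ((maximalIdeal A).map π).spanFinrank + Module.finrank (ResidueField A) W ≤ _
    omega
  · obtain ⟨T, hT, hTspan⟩ := Submodule.FG.exists_span_finset_card_eq_spanFinrank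
      (Ideal.FG.map (IsNoetherian.noetherian (maximalIdeal A)) π)
    rw [Ideal.submodule_span_eq] at hTspan
    have hlift : ∀ y ∈ T, ∃ z : maximalIdeal A, π z = y := fun y hy => by
      obtain ⟨z, hz, e⟩ := (Ideal.mem_map_iff_of_surjective π Ideal.Quotient.mk_surjective).1
        (hTspan ▸ Ideal.subset_span hy : y ∈ (maximalIdeal A).map π)
      exact ⟨⟨z, hz⟩, e⟩
    choose! l hl using hlift
    have htop : Submodule.span A (Set.range x ∪ ((T.image l : Finset (maximalIdeal A)) : Set (maximalIdeal A))) = ⊤ := by
      rw [span_coe_eq]
      refine le_antisymm (Ideal.span_le.2 (by rintro _ ⟨z, -, rfl⟩; exact z.2)) fun z hz => ?_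
      have h := Ideal.mem_map_of_mem π hz
      rw [← hTspan, show (T : Set _) = π '' (Subtype.val '' ((T.image l : Finset (maximalIdeal A)) : Set (maximalIdeal A))) by
        rw [Finset.coe_image, Set.image_image, Set.image_image]
        exact Eq.trans (Set.image_id' _).symm (Set.image_congr fun y hy => (hl y hy).symm), ← Ideal.map_span,
        Ideal.mem_quotient_iff_mem_sup] at h
      rw [Set.image_union, Ideal.span_union, ← Set.range_comp, sup_comm]
      exact h
    have h2 := CotangentSpace.span_image_eq_top_iff.2 htop
    rw [Set.image_union, Submodule.span_union, ← Set.range_comp] at h2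
    rw [hV, ← finrank_top (ResidueField A) (CotangentSpace A), ← h2, ← hT, add_comm T.card]
    refine (Submodule.finrank_add_le_finrank_add_finrank _ _).trans (Nat.add_le_add_left ?_ _)
    rw [← Finset.coe_image]
    exact (finrank_span_finset_le_card _).trans (Finset.card_image_le.trans Finset.card_image_le)

/-- Let A be a Noetherian local ring with maximal ideal m and residue field k, (x_i)_{1 ≤ i ≤ r}
elements of m and J = x_1 A + ... + x_r A. Then A is regular with the classes of the x_i in m/m²
linearly independent over k (equivalently: the x_i are part of a regular system of parameters) if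
and only if the x_i are part of a system of parameters of A (dim(A/J) = dim(A) - r) and A/J is
regular. When these conditions hold, J is a prime ideal. -/
theorem result (A : Type u) [CommRing A] [IsLocalRing A]
    [IsNoetherianRing A] (r : ℕ) (x : Fin r → IsLocalRing.maximalIdeal A) :
    ((IsRegularLocalRing A ∧
        LinearIndependent (IsLocalRing.ResidueField A)
          (fun i => (IsLocalRing.maximalIdeal A).toCotangent (x i))) ↔
      (ringKrullDim (A ⧸ Ideal.span (Set.range fun i => (x i : A))) + r = ringKrullDim A ∧
        IsRegularLocalRing (A ⧸ Ideal.span (Set.range fun i => (x i : A))))) ∧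
    (IsRegularLocalRing (A ⧸ Ideal.span (Set.range fun i => (x i : A))) →
      ringKrullDim (A ⧸ Ideal.span (Set.range fun i => (x i : A))) + r = ringKrullDim A →
        (Ideal.span (Set.range fun i => (x i : A))).IsPrime) := by
  classical
  let J := Ideal.span (Set.range fun i => (x i : A))
  have hJm : J ≤ IsLocalRing.maximalIdeal A := Ideal.span_le.2 (by rintro _ ⟨i, rfl⟩; exact (x i).2)
  have hJtop : J ≠ ⊤ := fun h => (IsLocalRing.maximalIdeal.isMaximal A).ne_top (top_le_iff.1 (h.ge.trans hJm))
  haveI : Nontrivial (A ⧸ J) := Ideal.Quotient.nontrivial_iff.2 hJtop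
  haveI : IsLocalRing (A ⧸ J) := IsLocalRing.of_surjective' _ Ideal.Quotient.mk_surjective
  have key := spanFinrank_add_finrank x
  rw [IsLocalRing.map_maximalIdeal_of_surjective _ Ideal.Quotient.mk_surjective] at key
  replace key : (IsLocalRing.maximalIdeal (A ⧸ J)).spanFinrank + Module.finrank (IsLocalRing.ResidueField A)
      (Submodule.span (IsLocalRing.ResidueField A) (Set.range fun i => (IsLocalRing.maximalIdeal A).toCotangent (x i))) =
      (IsLocalRing.maximalIdeal A).spanFinrank := key
  obtain ⟨d, hd⟩ := CommAlgDim.exists_ringKrullDim_eq (R := A)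
  obtain ⟨e, he⟩ := CommAlgDim.exists_ringKrullDim_eq (R := A ⧸ J)
  have hB := ringKrullDim_le_spanFinrank_maximalIdeal (R := A ⧸ J)
  have hA := ringKrullDim_le_spanFinrank_maximalIdeal (R := A)
  have hKr := ringKrullDim_le_ringKrullDim_add_spanFinrank hJtop
  have hJr : J.spanFinrank ≤ r := (Submodule.spanFinrank_span_le_ncard_of_finite (Set.finite_range _)).trans (by
    rw [show Set.range (fun i => (x i : A)) = ↑(Finset.univ.image fun i => (x i : A)) by simp, Set.ncard_coe_finset]
    exact Finset.card_image_le.trans_eq (by simp))
  rw [hd, he, ← Nat.cast_add, Nat.cast_le] at hKr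
  rw [hd, Nat.cast_le] at hA
  rw [he, Nat.cast_le] at hB
  have hw : Module.finrank (IsLocalRing.ResidueField A) (Submodule.span (IsLocalRing.ResidueField A)
      (Set.range fun i => (IsLocalRing.maximalIdeal A).toCotangent (x i))) ≤ r :=
    (finrank_range_le_card _).trans_eq (Fintype.card_fin r)
  refine ⟨⟨fun h => ?_, fun h => ?_⟩, fun h _ => ?_⟩
  · have h1 : _ = r := ((linearIndependent_iff_card_eq_finrank_span.1 h.2).symm.trans (Fintype.card_fin r))
    rw [Set.finrank] at h1
    haveI := h.1
    have h3 := IsRegularLocalRing.spanFinrank_maximalIdeal (R := A)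
    rw [hd, Nat.cast_inj] at h3
    refine ⟨?_, (isRegularLocalRing_iff _).2 ?_⟩
    · rw [he, hd, ← Nat.cast_add, Nat.cast_inj]; omega
    · show ((IsLocalRing.maximalIdeal (A ⧸ J)).spanFinrank : WithBot ℕ∞) = _
      rw [he, Nat.cast_inj]; omega
  · haveI := h.2
    have h3 := IsRegularLocalRing.spanFinrank_maximalIdeal (R := A ⧸ J)
    rw [he, Nat.cast_inj] at h3
    have h4 := h.1
    rw [he, hd, ← Nat.cast_add, Nat.cast_inj] at h4
    refine ⟨(isRegularLocalRing_iff _).2 ?_, linearIndependent_iff_card_eq_finrank_span.2 ?_⟩
    · rw [hd, Nat.cast_inj]; omega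
    · rw [Fintype.card_fin, Set.finrank]; omega
  · haveI := h
    haveI := CommAlgDim.isDomain_of_isRegularLocalRing (A ⧸ J)
    exact (Ideal.Quotient.isDomain_iff_prime _).1 inferInstance

end Groth.Agent.S5779
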