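import Groth.Statements.S5780
import Mathlib
import Groth.Agent.CommAlgDim.Depth

set_option autoImplicit false
universe u
open EGA41

namespace Groth.Agent.S5780

/-- Let A be a Noetherian local ring with maximal ideal m. If every element of m which is not in m² is a
zero divisor in A, then there is a nonzero c in A with c m = 0, i.e. m is an associated prime of A. -/
theorem result (A : Type u) [CommRing A]
    [IsLocalRing A] [IsNoetherianRing A]
    (h : ∀ a ∈ IsLocalRing.maximalIdeal A, a ∉ IsLocalRing.maximalIdeal A ^ 2 → ¬ IsSMulRegular A a) :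
    IsLocalRing.maximalIdeal A ∈ associatedPrimes A A := by
  by_contra hcon
  classical
  let m := IsLocalRing.maximalIdeal A
  have hfin := associatedPrimes.finite A A
  let S := insert (m ^ 2) hfin.toFinset
  have hsub : (m : Set A) ⊆ ⋃ P ∈ S, (P : Set A) := fun a ha => by
    by_cases h2 : a ∈ m ^ 2
    · exact Set.mem_biUnion (Finset.mem_insert_self _ _) h2
    · have h1 : a ∈ ({r : A | IsSMulRegular A r})ᶜ := h a ha h2
      rw [← biUnion_associatedPrimes_eq_compl_regular A A, Set.mem_iUnion₂] at h1
      obtain ⟨P, hP, haP⟩ := h1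
      exact Set.mem_biUnion (Finset.mem_insert_of_mem (hfin.mem_toFinset.2 hP)) haP
  obtain ⟨P, hP, hle⟩ := (Ideal.subset_union_prime (m ^ 2) (m ^ 2) (fun P hP hne _ =>
    ((hfin.mem_toFinset.1 ((Finset.mem_insert.1 hP).resolve_left hne))).isPrime)).1 hsub
  rcases Finset.mem_insert.1 hP with rfl | hP
  · have hbot : m = ⊥ := Submodule.eq_bot_of_le_smul_of_le_jacobson_bot m m (IsNoetherian.noetherian _)
      (by rw [smul_eq_mul, ← pow_two]; exact hle) (IsLocalRing.maximalIdeal_le_jacobson _)
    obtain ⟨Q, hQ⟩ := associatedPrimes.nonempty A A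
    exact hcon ((IsLocalRing.isField_iff_maximalIdeal_eq.2 hbot) |> fun hfld => by
      haveI : IsDomain A := hfld.isDomain
      have : Q = m := by
        rcases eq_or_ne Q ⊥ with h0 | h0
        · rw [h0]; exact hbot.symm
        · exact le_antisymm (IsLocalRing.le_maximalIdeal hQ.1.ne_top) (hbot ▸ bot_le)
      show m ∈ _
      exact this ▸ hQ)
  · have hP' := hfin.mem_toFinset.1 hP
    exact hcon ((IsLocalRing.maximalIdeal.isMaximal A).eq_of_le hP'.1.ne_top hle ▸ hP')

end Groth.Agent.S5780
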