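import Groth.Statements.S5781
import Mathlib


-- import your own Groth.Agent.* helpers here

set_option autoImplicit false
universe u
open EGA41

namespace Groth.Agent.S5781

/-- Suppose A is a Noetherian local ring whose maximal ideal is m, and take a ∈ m with a ∉ m². Then the
quotient m/am contains a direct summand isomorphic to m/Aa: concretely, one can find A-linear maps f
: m/Aa → m/am and g : m/am → m/Aa such that g ∘ f is the identity. -/
theorem result (A : Type u) [CommRing A] [IsLocalRing A]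
    [IsNoetherianRing A] (a : A) (ha : a ∈ IsLocalRing.maximalIdeal A) (ha2 : a ∉ IsLocalRing.maximalIdeal A ^ 2) :
    ∃ (f : (↥(IsLocalRing.maximalIdeal A) ⧸ Submodule.span A {(⟨a, ha⟩ : ↥(IsLocalRing.maximalIdeal A))}) →ₗ[A]
          QuotSMulTop a ↥(IsLocalRing.maximalIdeal A))
      (g : QuotSMulTop a ↥(IsLocalRing.maximalIdeal A) →ₗ[A]
          (↥(IsLocalRing.maximalIdeal A) ⧸ Submodule.span A {(⟨a, ha⟩ : ↥(IsLocalRing.maximalIdeal A))})),
      g.comp f = LinearMap.id := by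
  classical
  let m := IsLocalRing.maximalIdeal A
  have hc : m.toCotangent ⟨a, ha⟩ ≠ 0 := fun e => ha2 ((Ideal.toCotangent_eq_zero m ⟨a, ha⟩).1 e)
  obtain ⟨φ, hφ⟩ : ∃ φ : Module.Dual (IsLocalRing.ResidueField A) (IsLocalRing.CotangentSpace A), φ (m.toCotangent ⟨a, ha⟩) ≠ 0 := by
    by_contra h
    push Not at h
    exact hc ((Module.forall_dual_apply_eq_zero_iff (IsLocalRing.ResidueField A) _).1 h)
  let ψ : ↥m →ₗ[A] IsLocalRing.ResidueField A := (φ.restrictScalars A) ∘ₗ m.toCotangent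
  let J := LinearMap.ker ψ
  let i : J →ₗ[A] QuotSMulTop a ↥m := Submodule.mkQ _ ∘ₗ J.subtype
  let π : J →ₗ[A] (↥m ⧸ Submodule.span A {(⟨a, ha⟩ : ↥m)}) := Submodule.mkQ _ ∘ₗ J.subtype
  have hπ : Function.Surjective π := by
    intro y
    obtain ⟨z, rfl⟩ := Submodule.Quotient.mk_surjective _ y
    obtain ⟨r, hr⟩ := IsLocalRing.residue_surjective (ψ z / ψ ⟨a, ha⟩)
    refine ⟨⟨z - r • ⟨a, ha⟩, ?_⟩, (Submodule.Quotient.eq _).2 (Submodule.mem_span_singleton.2 ⟨-r, by simp⟩)⟩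
    rw [LinearMap.mem_ker, map_sub, map_smul, Algebra.smul_def, IsLocalRing.ResidueField.algebraMap_eq, hr, div_mul_cancel₀ _ (show ψ ⟨a, ha⟩ ≠ 0 from hφ), sub_self]
  have hker : LinearMap.ker π ≤ LinearMap.ker i := by
    intro z hz
    obtain ⟨r, hr⟩ := Submodule.mem_span_singleton.1 ((Submodule.Quotient.mk_eq_zero _).1 hz)
    have h0 : IsLocalRing.residue A r * ψ ⟨a, ha⟩ = 0 := by
      have := LinearMap.mem_ker.1 z.2
      rwa [← show r • (⟨a, ha⟩ : ↥m) = (z : ↥m) from hr, map_smul, Algebra.smul_def, IsLocalRing.ResidueField.algebraMap_eq] at this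
    have hrm : r ∈ m := Ideal.Quotient.eq_zero_iff_mem.1 ((mul_eq_zero.1 h0).resolve_right hφ)
    refine (Submodule.Quotient.mk_eq_zero _).2 ?_
    rw [show ((J.subtype z : ↥m)) = a • (⟨r, hrm⟩ : ↥m) by
      change (z : ↥m) = _
      rw [← show r • (⟨a, ha⟩ : ↥m) = (z : ↥m) from hr]
      exact Subtype.ext (mul_comm _ _)]
    exact Submodule.smul_mem_pointwise_smul _ _ _ Submodule.mem_top
  let g : QuotSMulTop a ↥m →ₗ[A] (↥m ⧸ Submodule.span A {(⟨a, ha⟩ : ↥m)}) :=
    Submodule.liftQ _ (Submodule.mkQ _) (by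
      intro z hz
      obtain ⟨w, -, rfl⟩ := (Submodule.mem_smul_pointwise_iff_exists _ _ _).1 hz
      rw [Submodule.ker_mkQ, Submodule.mem_span_singleton]
      exact ⟨(w : A), Subtype.ext (mul_comm _ _)⟩)
  let f := (Submodule.liftQ _ i hker) ∘ₗ (LinearMap.quotKerEquivOfSurjective π hπ).symm.toLinearMap
  refine ⟨f, g, LinearMap.ext fun y => ?_⟩
  obtain ⟨z, rfl⟩ := hπ y
  have : (LinearMap.quotKerEquivOfSurjective π hπ).symm (π z) = Submodule.Quotient.mk z := by
    rw [LinearEquiv.symm_apply_eq]; rfl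
  simp only [f, LinearMap.comp_apply, LinearEquiv.coe_coe, this, Submodule.liftQ_apply, LinearMap.id_apply]
  rfl

end Groth.Agent.S5781
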