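import Groth.Statements.S5782
import Mathlib

set_option autoImplicit false
universe u
open CategoryTheory
open EGA41

namespace Groth.Agent.S5782

variable {A : Type u} [CommRing A] (a : A)

theorem mem_smul_top {M : Type u} [AddCommGroup M] [Module A M] {x : M} :
    x ∈ Ideal.span {a} • (⊤ : Submodule A M) ↔ ∃ y, a • y = x := by
  rw [Submodule.ideal_span_singleton_smul, Submodule.mem_smul_pointwise_iff_exists]
  simp

/-- The reduced map. -/
noncomputable def red {M N : Type u} [AddCommGroup M] [Module A M] [AddCommGroup N] [Module A N] (f : M →ₗ[A] N) :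
    (M ⧸ (Ideal.span {a} • (⊤ : Submodule A M))) →ₗ[A ⧸ Ideal.span {a}] (N ⧸ (Ideal.span {a} • (⊤ : Submodule A N))) :=
  LinearMap.extendScalarsOfSurjective Ideal.Quotient.mk_surjective
    (Submodule.mapQ _ _ f fun x hx => by
      obtain ⟨y, rfl⟩ := (mem_smul_top a).1 hx
      exact (mem_smul_top a).2 ⟨f y, (map_smul f a y).symm⟩)

theorem red_mk {M N : Type u} [AddCommGroup M] [Module A M] [AddCommGroup N] [Module A N] (f : M →ₗ[A] N)
    (x : M) : red a f (Submodule.Quotient.mk x) = Submodule.Quotient.mk (f x) := rfl

theorem red_projective (M : Type u) [AddCommGroup M] [Module A M] [Module.Projective A M] :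
    Module.Projective (A ⧸ Ideal.span {a}) (M ⧸ (Ideal.span {a} • (⊤ : Submodule A M))) :=
  Module.Projective.of_equiv
    ((TensorProduct.quotTensorEquivQuotSMul M (Ideal.span {a})).extendScalarsOfSurjective Ideal.Quotient.mk_surjective)

theorem main [IsNoetherianRing A] (n : ℕ) (E : Type u) [AddCommGroup E] [Module A E]
    [Module.Finite A E] (hE : IsSMulRegular E a) (hA : IsSMulRegular A a)
    (h : HasProjectiveDimensionLE (ModuleCat.of A E) n) :
    HasProjectiveDimensionLE (ModuleCat.of (A ⧸ Ideal.span {a}) (E ⧸ (Ideal.span {a} • (⊤ : Submodule A E)))) n := by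
  induction n generalizing E with
  | zero =>
    simp only [HasProjectiveDimensionLE, zero_add, ← projective_iff_hasProjectiveDimensionLT_one,
      ← IsProjective.iff_projective] at h ⊢
    exact red_projective a E
  | succ n ih =>
    obtain ⟨F, _, _, hFree, hFin, f, hf⟩ := Module.exists_finite_presentation A E
    have hK : IsSMulRegular (LinearMap.ker f) a := fun x y hxy => Subtype.ext
      ((Module.Free.chooseBasis A F).repr.injective (Finsupp.ext fun i => hA (by
        have := congrArg (fun z : LinearMap.ker f => (Module.Free.chooseBasis A F).repr (z : F) i) hxy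
        simpa using this)))
    have hS := LinearMap.shortExact_shortComplexKer hf
    haveI : Module.Projective A F := Module.Projective.of_free
    have hP : Projective f.shortComplexKer.X₂ := (IsProjective.iff_projective (R := A) F).1 inferInstance
    have h1 : HasProjectiveDimensionLE (ModuleCat.of A (LinearMap.ker f)) n :=
      (hS.hasProjectiveDimensionLT_X₃_iff n hP).1 h
    have h2 := ih (LinearMap.ker f) hK h1
    let i' := red a (LinearMap.ker f).subtype
    let f' := red a f
    have hex : Function.Exact i' f' := fun q => by
      induction q using Submodule.Quotient.induction_on with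
      | _ y =>
        refine ⟨fun hy => ?_, ?_⟩
        · rw [show f' (Submodule.Quotient.mk y) = _ from red_mk a f y, Submodule.Quotient.mk_eq_zero,
            mem_smul_top] at hy
          obtain ⟨z, hz⟩ := hy
          obtain ⟨w, rfl⟩ := hf z
          refine ⟨Submodule.Quotient.mk ⟨y - a • w, by simp [map_sub, map_smul, hz]⟩, ?_⟩
          rw [red_mk, Submodule.Quotient.eq, mem_smul_top]
          exact ⟨-w, by simp⟩
        · rintro ⟨x, hx⟩
          obtain ⟨x, rfl⟩ := Submodule.Quotient.mk_surjective _ x
          rw [← hx]
          show Submodule.Quotient.mk (f x.1) = 0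
          rw [LinearMap.mem_ker.1 x.2, Submodule.Quotient.mk_zero]
    have hinj : Function.Injective i' := (injective_iff_map_eq_zero _).2 fun q hq => by
      obtain ⟨x, rfl⟩ := Submodule.Quotient.mk_surjective _ q
      rw [red_mk, Submodule.Quotient.mk_eq_zero, mem_smul_top] at hq
      obtain ⟨y, hy⟩ := hq
      rw [Submodule.Quotient.mk_eq_zero, mem_smul_top]
      refine ⟨⟨y, hE ?_⟩, Subtype.ext hy⟩
      show a • f y = a • (0 : E)
      rw [← map_smul, hy, smul_zero]
      exact x.2
    have hsurj : Function.Surjective f' := fun q => by
      obtain ⟨y, rfl⟩ := Submodule.Quotient.mk_surjective _ q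
      obtain ⟨x, rfl⟩ := hf y
      exact ⟨Submodule.Quotient.mk x, rfl⟩
    let S := ModuleCat.shortComplexOfCompEqZero i' f' hex.linearMap_comp_eq_zero
    have hSe : S.ShortExact := ModuleCat.shortComplex_shortExact _ hex hinj hsurj
    haveI := red_projective a F
    have hP' : Projective S.X₂ :=
      (IsProjective.iff_projective (R := A ⧸ Ideal.span {a}) (F ⧸ (Ideal.span {a} • (⊤ : Submodule A F)))).1 inferInstance
    exact (hSe.hasProjectiveDimensionLT_X₃_iff n hP').2 h2

/-- Let A be a Noetherian local ring with maximal ideal m, E a finitely generated A-module of finite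
projective dimension, and a ∈ m an element which is A-regular and E-regular. Then E/aE, as a module
over A/aA, has finite projective dimension at most the projective dimension of E over A. -/
theorem result (A : Type u) [CommRing A] [IsLocalRing A]
    [IsNoetherianRing A] (E : Type u) [AddCommGroup E] [Module A E] [Module.Finite A E]
    (hfin : projectiveDimension (ModuleCat.of A E) ≠ ⊤) (a : A) (ha : a ∈ IsLocalRing.maximalIdeal A)
    (hA : IsSMulRegular A a) (hE : IsSMulRegular E a) :
    projectiveDimension (ModuleCat.of (A ⧸ Ideal.span {a}) (E ⧸ (Ideal.span {a} • (⊤ : Submodule A E)))) ≤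
      projectiveDimension (ModuleCat.of A E) := by
  generalize hd : projectiveDimension (ModuleCat.of A E) = d at hfin ⊢
  induction d with
  | bot =>
    rw [projectiveDimension_eq_bot_iff, ModuleCat.isZero_iff_subsingleton] at hd
    haveI : Subsingleton E := hd
    exact (projectiveDimension_eq_bot_iff _).2 (ModuleCat.isZero_of_subsingleton _) |>.le
  | coe N =>
    induction N with
    | top => exact absurd rfl hfin
    | coe n =>
      refine (projectiveDimension_le_iff _ n).2 (main a n E hE hA ?_)
      exact (projectiveDimension_le_iff _ n).1 hd.le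

end Groth.Agent.S5782
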