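import Groth.Statements.S5783
import Groth.Agent.S2082
import Groth.Agent.CommAlgDim.CM
import Groth.Agent.CommAlgDim.Integral
import Groth.Agent.SMTLib.CMQuot
import Mathlib.RingTheory.Regular.Flat

set_option autoImplicit false
universe u
open EGA41

namespace Groth.Agent.S5783

/-- Let A be a regular local ring, B a local ring and ρ : A → B a local homomorphism making B a finitely
generated A-module. Then B is a free A-module if and only if B is a Cohen-Macaulay ring and ρ is
injective (the latter being equivalent to dim(B) = dim(A)). -/
theorem result (A B : Type u) [CommRing A] [CommRing B]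
    [IsRegularLocalRing A] [IsLocalRing B] [Algebra A B] [IsLocalHom (algebraMap A B)] [Module.Finite A B] :
    Module.Free A B ↔ LocCoh.IsCohenMacaulayLocalRing B ∧ Function.Injective (algebraMap A B) := by
  haveI : IsNoetherianRing B := IsNoetherianRing.of_finite A B
  constructor
  · intro hfree
    haveI : Module.FaithfullyFlat A B := inferInstance
    have hinj : Function.Injective (algebraMap A B) :=
      (faithfulSMul_iff_algebraMap_injective A B).1 inferInstance
    refine ⟨?_, hinj⟩
    obtain ⟨rs, hrs, hd⟩ := CommAlgDim.isCM_of_isRegularLocalRing A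
    refine SMTLib.isCohenMacaulayLocalRing_of_isCM B ⟨rs.map (algebraMap A B), hrs.of_faithfullyFlat, ?_⟩
    rw [List.length_map, CommAlgDim.ringKrullDim_eq_of_integral A B hinj, hd]
  · rintro ⟨hCM, hinj⟩
    haveI := hCM
    let m := IsLocalRing.maximalIdeal A
    let K := A ⧸ m
    let Q := B ⧸ m.map (algebraMap A B)
    have hne : m.map (algebraMap A B) ≠ ⊤ := fun h =>
      (IsLocalRing.maximalIdeal.isMaximal B).ne_top (top_le_iff.1 (h.ge.trans
        (Ideal.map_le_iff_le_comap.2 fun a ha => map_nonunit (algebraMap A B) a ha)))
    haveI : Nontrivial Q := Ideal.Quotient.nontrivial_iff.2 hne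
    letI : Field K := Ideal.Quotient.field m
    letI : Algebra K Q := Ideal.Quotient.algebraQuotientOfLEComap Ideal.le_comap_map
    haveI : IsScalarTower A K Q := IsScalarTower.of_algebraMap_eq fun _ => rfl
    haveI : Module.Finite A Q := Module.Finite.of_surjective (Ideal.Quotient.mkₐ A (m.map (algebraMap A B))).toLinearMap
      Ideal.Quotient.mk_surjective
    haveI : Module.Finite K Q := Module.Finite.of_restrictScalars_finite A K Q
    have hQ : ringKrullDim Q = 0 := by
      rw [CommAlgDim.ringKrullDim_eq_of_integral K Q (algebraMap K Q).injective, ringKrullDim_eq_zero_of_field]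
    haveI : Module.Flat A B := Groth.Agent.S2082.result (by
      rw [hQ, add_zero, CommAlgDim.ringKrullDim_eq_of_integral A B hinj])
    exact Module.free_of_flat_of_isLocalRing

end Groth.Agent.S5783
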