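import Groth.Statements.S5787
import Mathlib
import Groth.Agent.DepthBasicLib.Ext

set_option autoImplicit false
universe u
open CategoryTheory
open EGA41

namespace Groth.Agent.S5787

open CategoryTheory Abelian RingTheory.Sequence

variable {A : Type u} [CommRing A] [IsLocalRing A]

theorem exists_equiv (rs : List A) : ∀ (M : Type u) [AddCommGroup M] [Module A M],
    (∀ x ∈ rs, x ∈ IsLocalRing.maximalIdeal A) → IsWeaklyRegular M rs →
    Nonempty ((IsLocalRing.ResidueField A →ₗ[A] (M ⧸ (Ideal.ofList rs • (⊤ : Submodule A M)))) ≃+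
      Ext (ModuleCat.of A (IsLocalRing.ResidueField A)) (ModuleCat.of A M) rs.length) := by
  induction rs with
  | nil =>
    intro M _ _ _ _
    let e : (M ⧸ (Ideal.ofList ([] : List A) • (⊤ : Submodule A M))) ≃ₗ[A] M :=
      Submodule.quotEquivOfEqBot _ (by rw [Ideal.ofList_nil, Submodule.bot_smul])
    exact ⟨((LinearEquiv.congrRight e).toAddEquiv.trans
      (ModuleCat.homAddEquiv (M := ModuleCat.of A (IsLocalRing.ResidueField A)) (N := ModuleCat.of A M)).symm).trans
        Ext.addEquiv₀.symm⟩
  | cons x rs ih =>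
    intro M _ _ hm hreg
    rw [isWeaklyRegular_cons_iff] at hreg
    have hxm := hm x List.mem_cons_self
    obtain ⟨e⟩ := ih (QuotSMulTop x M) (fun r hr => hm r (List.mem_cons_of_mem _ hr)) hreg.2
    have hS := IsSMulRegular.smulShortComplex_shortExact (M := ModuleCat.of A M) hreg.1
    let k := ModuleCat.of A (IsLocalRing.ResidueField A)
    let δ : Ext k (ModuleCat.of A (QuotSMulTop x M)) rs.length →+
        Ext k (ModuleCat.of A M) (rs.length + 1) := hS.extClass.postcomp k rfl
    have hz : x • 𝟙 k = 0 := by
      ext (n : IsLocalRing.ResidueField A)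
      show x • n = 0
      rw [Algebra.smul_def, show algebraMap A (IsLocalRing.ResidueField A) x = 0 from
        (IsLocalRing.residue_eq_zero_iff x).2 hxm, zero_mul]
    have hkill : (IsLocalRing.maximalIdeal A ^ 1) •
        (⊤ : Submodule A (IsLocalRing.ResidueField A)) = ⊥ := by
      rw [pow_one, Submodule.eq_bot_iff]
      intro z hz
      refine Submodule.smul_induction_on hz (fun a ha y _ => ?_) fun y z hy hz => by rw [hy, hz, add_zero]
      rw [Algebra.smul_def, show algebraMap A (IsLocalRing.ResidueField A) a = 0 from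
        (IsLocalRing.residue_eq_zero_iff a).2 ha, zero_mul]
    have hvan : Subsingleton (Ext k (ModuleCat.of A M) rs.length) :=
      DepthBasic.subsingleton_ext (IsLocalRing.maximalIdeal A) (IsLocalRing.ResidueField A) 1 hkill
        (x :: rs) M (IsWeaklyRegular.cons hreg.1 hreg.2) hm rs.length (by simp)
    have hbij : Function.Bijective δ := by
      refine ⟨(injective_iff_map_eq_zero δ).2 fun z hz' => ?_, fun y => ?_⟩
      · obtain ⟨y, rfl⟩ := Ext.covariant_sequence_exact₃ k hS z rfl hz'
        rw [hvan.elim y 0]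
        exact Ext.zero_comp _ _ _ _ _
      · obtain ⟨z, hz'⟩ := Ext.covariant_sequence_exact₁ k hS y (n₀ := rs.length) (by
          rw [ModuleCat.smulShortComplex_f_eq_smul_id]
          show y.comp (Ext.mk₀ (x • 𝟙 (ModuleCat.of A M))) _ = 0
          rw [Ext.mk₀_smul, Ext.comp_smul, Ext.comp_mk₀_id, ← Ext.mk₀_id_comp y, ← Ext.smul_comp,
            ← Ext.mk₀_smul, hz, Ext.mk₀_zero, Ext.zero_comp]) rfl
        exact ⟨z, hz'⟩
    exact ⟨((LinearEquiv.congrRight (Submodule.quotOfListConsSMulTopEquivQuotSMulTopInner M x rs)).toAddEquiv.trans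
      e).trans (AddEquiv.ofBijective δ hbij)⟩


/-- Let A be a Noetherian local ring with maximal ideal m and residue field k, M an A-module and
(x_i)_{1 ≤ i ≤ n} an M-regular sequence of elements of m. Then Hom_A(k, M/(x_1 M + ... + x_n M)) and
Ext^n_A(k, M) are isomorphic (existence of an isomorphism; stated for the underlying abelian
groups). -/
theorem result (A : Type u) [CommRing A] [IsLocalRing A]
    [IsNoetherianRing A] (M : Type u) [AddCommGroup M] [Module A M] (xs : List A)
    (hxs : ∀ x ∈ xs, x ∈ IsLocalRing.maximalIdeal A) (hreg : RingTheory.Sequence.IsWeaklyRegular M xs) :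
    Nonempty ((IsLocalRing.ResidueField A →ₗ[A] (M ⧸ (Ideal.ofList xs • (⊤ : Submodule A M)))) ≃+
      Abelian.Ext (ModuleCat.of A (IsLocalRing.ResidueField A)) (ModuleCat.of A M) xs.length) := by
  exact exists_equiv xs M hxs hreg

end Groth.Agent.S5787
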