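import Groth.Statements.S5789
import Mathlib
-- import your own Groth.Agent.* helpers here

set_option autoImplicit false
universe u
open CategoryTheory
open EGA41

namespace Groth.Agent.S5789

/-- Let A be a Noetherian ring, M a finitely generated A-module and n ≥ 0. Then M has projective
dimension at most n if and only if Ext^(n+1)_A(M, N) = 0 for every monogenous A-module N, i.e. every
N = A/I with I an ideal. -/
theorem result (A : Type u) [CommRing A] [IsNoetherianRing A]
    (M : Type u) [AddCommGroup M] [Module A M] [Module.Finite A M] (n : ℕ) :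
    HasProjectiveDimensionLT (ModuleCat.of A M) (n + 1) ↔
      ∀ I : Ideal A, Subsingleton (Abelian.Ext (ModuleCat.of A M) (ModuleCat.of A (A ⧸ I)) (n + 1)) := by
  constructor
  · intro h I
    exact HasProjectiveDimensionLT.subsingleton (ModuleCat.of A M) (n + 1) (n + 1) le_rfl _
  · intro h
    refine ModuleCat.hasProjectiveDimensionLT_of_forall_finite (ModuleCat.of A M) (n + 1) fun L hL => ?_
    refine IsNoetherianRing.induction_on_isQuotientEquivQuotientPrime A hL
      (motive := fun N => Subsingleton
        (Abelian.Ext (ModuleCat.of A M) (ModuleCat.of A N) (n + 1))) ?_ ?_ ?_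
    · intro N _ _ _ _
      have hN : Limits.IsZero (ModuleCat.of A N) := ModuleCat.isZero_of_subsingleton _
      refine ⟨fun a b => ?_⟩
      rw [← Abelian.Ext.comp_mk₀_id a, ← Abelian.Ext.comp_mk₀_id b,
        hN.eq_zero_of_src (𝟙 _), Abelian.Ext.mk₀_zero, Abelian.Ext.comp_zero, Abelian.Ext.comp_zero]
    · intro N _ _ _ p e
      have := h p.1
      refine ⟨fun a b => ?_⟩
      have key : ∀ c : Abelian.Ext (ModuleCat.of A M) (ModuleCat.of A N) (n + 1),
          (c.comp (Abelian.Ext.mk₀ e.toModuleIso.hom) (add_zero _)).comp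
            (Abelian.Ext.mk₀ e.toModuleIso.inv) (add_zero _) = c := by
        intro c
        rw [Abelian.Ext.comp_assoc_of_third_deg_zero, Abelian.Ext.mk₀_comp_mk₀,
          e.toModuleIso.hom_inv_id, Abelian.Ext.comp_mk₀_id]
      rw [← key a, ← key b, Subsingleton.elim (a.comp (Abelian.Ext.mk₀ e.toModuleIso.hom) (add_zero _))]
    · intro N₁ _ _ _ N₂ _ _ _ N₃ _ _ _ f g hf hg hfg h₁ h₃
      let S : ShortComplex (ModuleCat.{u} A) :=
        ShortComplex.mk (ModuleCat.ofHom f) (ModuleCat.ofHom g)
          (ModuleCat.hom_ext (LinearMap.ext fun x => hfg.apply_apply_eq_zero x))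
      have hS : S.ShortExact :=
        { exact := (ShortComplex.moduleCat_exact_iff_range_eq_ker S).2 hfg.linearMap_ker_eq.symm
          mono_f := (ModuleCat.mono_iff_injective _).2 hf
          epi_g := (ModuleCat.epi_iff_surjective _).2 hg }
      refine ⟨fun a b => sub_eq_zero.1 ?_⟩
      obtain ⟨x₁, hx₁⟩ := Abelian.Ext.covariant_sequence_exact₂ (ModuleCat.of A M) hS (a - b)
        (h₃.elim _ _)
      rw [← hx₁, Subsingleton.elim x₁ 0, Abelian.Ext.zero_comp]

end Groth.Agent.S5789
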