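import Groth.Statements.S5807
import Groth.Agent.CommAlgDim.LocPD
import Mathlib.RingTheory.FiniteType
import Mathlib.RingTheory.RegularLocalRing.Polynomial

set_option autoImplicit false
universe u
open EGA41

namespace Groth.Agent.S5807

/-- Let A be a Noetherian ring which is a quotient of a regular ring B, and C an A-algebra of finite
type. Then every ring of fractions of C is a quotient of a regular ring. -/
theorem result (B A C : Type u) [CommRing B]
    [IsRegularRing B] [CommRing A] (π : B →+* A) (hπ : Function.Surjective π) [CommRing C] [Algebra A C]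
    [Algebra.FiniteType A C] (S : Submonoid C) :
    ∃ (R : Type u) (_ : CommRing R) (_ : IsRegularRing R) (f : R →+* Localization S),
      Function.Surjective f := by
  letI := π.toAlgebra
  letI : Algebra B C := ((algebraMap A C).comp π).toAlgebra
  haveI : IsScalarTower B A C := IsScalarTower.of_algebraMap_eq' rfl
  haveI : Algebra.FiniteType B A := Algebra.FiniteType.of_surjective (Algebra.ofId B A) hπ
  haveI : Algebra.FiniteType B C := Algebra.FiniteType.trans (S := A) inferInstance inferInstance
  obtain ⟨n, g, hg⟩ := (Algebra.FiniteType.iff_quotient_mvPolynomial'' (R := B) (S := C)).1 inferInstance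
  let T := S.comap g.toRingHom
  refine ⟨Localization T, inferInstance, CommAlgDim.isRegularRing_localization T,
    IsLocalization.map (M := T) (S := Localization T) (T := S) (Localization S) g.toRingHom le_rfl,
    fun z => ?_⟩
  obtain ⟨c, s, rfl⟩ := IsLocalization.exists_mk'_eq S z
  obtain ⟨c', rfl⟩ := hg c
  obtain ⟨s', hs'⟩ := hg s.1
  refine ⟨IsLocalization.mk' (Localization T) c' (⟨s', show g s' ∈ S from hs' ▸ s.2⟩ : T), ?_⟩
  rw [IsLocalization.map_mk']
  congr 1
  exact Subtype.ext hs'

end Groth.Agent.S5807
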