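import Groth.Statements.S5808
import Mathlib.RingTheory.KrullDimension.Regular
import Mathlib.RingTheory.FiniteLength
import Mathlib.RingTheory.HopkinsLevitzki

set_option autoImplicit false
universe u
open EGA41

namespace Groth.Agent.S5808
theorem wb_cancel {u : WithBot ℕ∞} (n : ℕ) {m : ℕ} (h : u + (n : WithBot ℕ∞) = (m : WithBot ℕ∞) + n) : u = m := by
  induction u with
  | bot =>
    rw [WithBot.bot_add] at h
    exact absurd (h.trans (Nat.cast_add m n).symm) (WithBot.bot_ne_natCast _)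
  | coe u =>
    induction u using ENat.recTopCoe with
    | top =>
      have h' : ((⊤ + (n : ℕ∞) : ℕ∞) : WithBot ℕ∞) = (((m + n : ℕ) : ℕ∞) : WithBot ℕ∞) := by push_cast; exact h
      rw [WithBot.coe_inj, top_add] at h'
      exact absurd h'.symm (ENat.natCast_ne_top _)
    | coe u =>
      have h' : (((u + n : ℕ) : ℕ∞) : WithBot ℕ∞) = (((m + n : ℕ) : ℕ∞) : WithBot ℕ∞) := by push_cast; exact h
      rw [WithBot.coe_inj, Nat.cast_inj, Nat.add_right_cancel_iff] at h'
      subst h'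
      rfl

variable {A : Type u} [CommRing A] [IsNoetherianRing A] [Finite (MaximalSpectrum A)]

theorem finite_maximal : {I : Ideal A | I.IsMaximal}.Finite :=
  (Set.finite_range fun m : MaximalSpectrum A => m.asIdeal).subset fun I hI => ⟨⟨I, hI⟩, rfl⟩

/-- A semi-local Noetherian ring has finite dimension. -/
theorem exists_dim (A : Type u) [CommRing A] [Nontrivial A] [IsNoetherianRing A] [Finite (MaximalSpectrum A)] :
    ∃ d : ℕ, ringKrullDim A = d := by
  have h : (⨆ (I : Ideal A) (_ : I.IsMaximal), I.height) ≠ ⊤ := by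
    refine ne_top_of_le_ne_top (b := ((∑ I ∈ (finite_maximal (A := A)).toFinset, I.height.toNat : ℕ) : ℕ∞))
      (ENat.natCast_ne_top _) (iSup₂_le fun I hI => ?_)
    rw [← ENat.coe_toNat (Ideal.height_ne_top (I := I) hI.ne_top)]
    exact Nat.cast_le.2 (Finset.single_le_sum (f := fun I : Ideal A => I.height.toNat) (fun _ _ => Nat.zero_le _)
      (finite_maximal.mem_toFinset.2 hI))
  obtain ⟨d, hd⟩ := ENat.ne_top_iff_exists.1 h
  exact ⟨d, by rw [← Ideal.sup_isMaximal_height_eq_ringKrullDim, ← hd]; rfl⟩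

/-- Choice of an element of `b` in the radical avoiding the nonmaximal minimal primes over `I`. -/
theorem exists_avoid (I b : Ideal A) (hb : ∀ q ∈ I.minimalPrimes, ¬ q.IsMaximal → ¬ b ≤ q) :
    ∃ x ∈ b, x ∈ Ring.jacobson A ∧ ∀ q ∈ I.minimalPrimes, ¬ q.IsMaximal → x ∉ q := by
  classical
  let S := ((I.finite_minimalPrimes_of_isNoetherianRing A).toFinset).filter fun q => ¬ q.IsMaximal
  let M := (finite_maximal (A := A)).toFinset
  have hK : ¬ (((b ⊓ M.inf id : Ideal A) : Set A) ⊆ ⋃ q ∈ (S : Set (Ideal A)), (q : Set A)) := by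
    rw [Ideal.subset_union_prime (f := fun q : Ideal A => q) ⊥ ⊥ (fun q hq _ _ => by
      exact ((Set.Finite.mem_toFinset _).1 (Finset.mem_filter.1 hq).1).isPrime)]
    rintro ⟨q, hq, hKq⟩
    obtain ⟨hq1, hq2⟩ := Finset.mem_filter.1 hq
    rw [Set.Finite.mem_toFinset] at hq1
    rcases hq1.isPrime.inf_le.1 hKq with h1 | h1
    · exact hb q hq1 hq2 h1
    · obtain ⟨m, hm, hmq⟩ := hq1.isPrime.inf_le'.1 h1
      rw [Set.Finite.mem_toFinset] at hm
      exact hq2 ((Ideal.IsMaximal.eq_of_le hm hq1.isPrime.ne_top hmq) ▸ hm)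
  obtain ⟨x, hx, hx'⟩ := Set.not_subset.1 hK
  refine ⟨x, hx.1, ?_, fun q hq hqm hxq => hx' (Set.mem_biUnion (Finset.mem_coe.2 (Finset.mem_filter.2 ⟨(Set.Finite.mem_toFinset _).2 hq, hqm⟩)) hxq)⟩
  rw [Ring.jacobson_eq_sInf_isMaximal, Submodule.mem_sInf]
  exact fun m hm => (Finset.inf_le (f := id) ((Set.Finite.mem_toFinset _).2 hm)) hx.2

/-- Such an element cuts the dimension down by one. -/
theorem dim_step (I : Ideal A) {x : A} (hx : x ∈ Ring.jacobson A)
    (hav : ∀ q ∈ I.minimalPrimes, ¬ q.IsMaximal → x ∉ q) (h1 : 1 ≤ ringKrullDim (A ⧸ I)) :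
    ringKrullDim (A ⧸ (I ⊔ Ideal.span {x})) + 1 = ringKrullDim (A ⧸ I) := by
  classical
  refine le_antisymm ?_ ?_
  · rw [ringKrullDim_quotient] at h1 ⊢
    rw [ringKrullDim_quotient]
    by_cases he : IsEmpty (PrimeSpectrum.zeroLocus (R := A) (I ⊔ Ideal.span {x} : Ideal A))
    · rw [Order.krullDim_eq_bot, WithBot.bot_add]; exact bot_le
    rw [not_isEmpty_iff] at he
    obtain ⟨a₁, b₁, hab⟩ := Order.one_le_krullDim_iff.1 h1
    haveI : Nonempty (PrimeSpectrum.zeroLocus (R := A) I) := ⟨a₁⟩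
    rw [Order.krullDim_eq_iSup_length, Order.krullDim_eq_iSup_length]
    apply WithBot.coe_le_coe.mpr
    simp only [ENat.iSup_add, iSup_le_iff]
    intro p
    have hle : PrimeSpectrum.zeroLocus (R := A) (I ⊔ Ideal.span {x} : Ideal A) ⊆ PrimeSpectrum.zeroLocus I :=
      PrimeSpectrum.zeroLocus_anti_mono (SetLike.coe_subset_coe.2 le_sup_left)
    let q : LTSeries (PrimeSpectrum.zeroLocus (R := A) I) := p.map (Set.inclusion hle) (fun _ _ h => h)
    obtain ⟨r, hr, hrq⟩ := Ideal.exists_minimalPrimes_le (show I ≤ q.head.1.asIdeal from q.head.2)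
    by_cases hrm : r.IsMaximal
    · have hp0 : p.length = 0 := by
        by_contra hne
        have h01 : q ⟨0, Nat.succ_pos _⟩ < q ⟨1, by simp [q]; omega⟩ := q.strictMono (by exact Nat.zero_lt_one)
        have hmax : q.head.1.asIdeal.IsMaximal := (hrm.eq_of_le q.head.1.2.ne_top hrq) ▸ hrm
        exact lt_irrefl _ (lt_of_lt_of_le h01 (le_of_eq (Subtype.ext (PrimeSpectrum.ext
          (hmax.eq_of_le (q ⟨1, by simp [q]; omega⟩).1.2.ne_top (le_of_lt h01 : _)).symm))))
      refine le_trans ?_ (le_iSup _ ((RelSeries.singleton _ a₁).snoc b₁ (by simpa using hab) : LTSeries (PrimeSpectrum.zeroLocus (R := A) I)))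
      simp [hp0]
    · let r' : PrimeSpectrum.zeroLocus (R := A) I := ⟨⟨r, hr.isPrime⟩, hr.1.2⟩
      have hlt : r' < q.head := lt_of_le_of_ne hrq (fun h => by
        refine hav r hr hrm ?_
        have h2 : x ∈ q.head.1.asIdeal := p.head.2 (Submodule.mem_sup_right (Ideal.mem_span_singleton_self x))
        rw [← h] at h2
        exact h2)
      refine le_trans ?_ (le_iSup _ (q.cons r' hlt))
      simp [q]
  · let z : A ⧸ I := Ideal.Quotient.mk I x
    have hz : (↑({z} : Finset (A ⧸ I)) : Set (A ⧸ I)) ⊆ Ring.jacobson (A ⧸ I) := by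
      intro w hw
      rw [Finset.coe_singleton, Set.mem_singleton_iff] at hw
      subst hw
      rw [SetLike.mem_coe, Ring.jacobson_eq_sInf_isMaximal, Submodule.mem_sInf]
      intro (m : Ideal (A ⧸ I)) (hm : m.IsMaximal)
      haveI : m.IsMaximal := hm
      rw [Ring.jacobson_eq_sInf_isMaximal, Submodule.mem_sInf] at hx
      exact hx (Ideal.comap (Ideal.Quotient.mk I) m) (Ideal.comap_isMaximal_of_surjective _ Ideal.Quotient.mk_surjective)
    refine (ringKrullDim_le_ringKrullDim_quotient_add_card {z} hz).trans (le_of_eq ?_)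
    rw [Finset.card_singleton, Nat.cast_one, Finset.coe_singleton]
    congr 1
    exact ringKrullDim_eq_of_ringEquiv ((Ideal.quotEquivOfEq (by rw [Ideal.map_span, Set.image_singleton])).trans
      (DoubleQuot.quotQuotEquivQuotSup I (Ideal.span {x})))

/-- Completion to a system of parameters. -/
theorem exists_sop : ∀ (e : ℕ) (I : Ideal A), ringKrullDim (A ⧸ I) = e →
    ∃ ys : List A, (∀ y ∈ ys, y ∈ Ring.jacobson A) ∧ ys.length = e ∧ ringKrullDim (A ⧸ (I ⊔ Ideal.ofList ys)) = 0 := by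
  intro e
  induction e with
  | zero => exact fun I hI => ⟨[], by simp, rfl, (ringKrullDim_eq_of_ringEquiv (Ideal.quotEquivOfEq (show I ⊔ Ideal.ofList [] = I by simp))).trans (by simpa using hI)⟩
  | succ e ih =>
    intro I hI
    obtain ⟨x, -, hxr, hav⟩ := exists_avoid I ⊤ (fun q hq _ h => hq.isPrime.ne_top (top_le_iff.1 h))
    have h := dim_step I hxr hav (by rw [hI]; exact_mod_cast Nat.succ_pos e)
    rw [hI, Nat.cast_succ, ← Nat.cast_one] at h
    obtain ⟨ys, hys, hlen, hz⟩ := ih _ (wb_cancel 1 h)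
    refine ⟨x :: ys, List.forall_mem_cons.2 ⟨hxr, hys⟩, by simp [hlen], ?_⟩
    rwa [Ideal.ofList_cons, ← sup_assoc]

/-- The elements of the ideal. -/
theorem exists_seq (a P : Ideal A) [P.IsPrime] (haP : a ≤ P) (h : ℕ) (hh : a.height = h) (hPh : P.height = h)
    (d : ℕ) (hd : ringKrullDim A = d) : ∀ i ≤ h, ∃ x : Fin i → A, (∀ j, x j ∈ a) ∧ (∀ j, x j ∈ Ring.jacobson A) ∧
      ringKrullDim (A ⧸ Ideal.span (Set.range x)) + (i : WithBot ℕ∞) = ringKrullDim A ∧
      ∀ q : Ideal A, q.IsPrime → Ideal.span (Set.range x) ≤ q → q ≤ P → (i : ℕ∞) ≤ q.height := by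
  intro i
  induction i with
  | zero =>
    intro _
    refine ⟨Fin.elim0, fun j => j.elim0, fun j => j.elim0, ?_, fun q _ _ _ => by simp⟩
    rw [Set.range_eq_empty, Ideal.span_empty, Nat.cast_zero, add_zero]
    exact ringKrullDim_eq_of_ringEquiv (RingEquiv.quotientBot A)
  | succ i ih =>
    intro hi
    obtain ⟨x, hxa, hxr, hdim, hht⟩ := ih (by omega)
    let I := Ideal.span (Set.range x)
    have hI : I ≤ P := Ideal.span_le.2 (by rintro _ ⟨j, rfl⟩; exact haP (hxa j))
    have hmin : ∀ q ∈ I.minimalPrimes, q.height ≤ (i : ℕ∞) := fun q hq => by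
      haveI := hq.isPrime
      refine (Ideal.height_le_spanRank_toENat_of_mem_minimalPrimes I q hq).trans ?_
      have h1 : I.spanRank ≤ (i : Cardinal) :=
        (Submodule.spanRank_span_le_card _).trans (by simpa using Cardinal.mk_range_le_lift (f := x))
      exact (Cardinal.toENat.monotone' h1).trans (le_of_eq (by simp))
    obtain ⟨y, hya, hyr, hav⟩ := exists_avoid I a (fun q hq _ hle => by
      have h1 := (Ideal.height_mono hle).trans (hmin q hq)
      rw [hh, Nat.cast_le] at h1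
      omega)
    have hne : ∀ q ∈ I.minimalPrimes, q ≤ P → q ≠ P := fun q hq _ e => by
      have h1 := hmin q hq
      rw [e, hPh, Nat.cast_le] at h1
      omega
    obtain ⟨q₀, hq₀, hq₀P⟩ := Ideal.exists_minimalPrimes_le hI
    have h1 : 1 ≤ ringKrullDim (A ⧸ I) := by
      rw [ringKrullDim_quotient]
      exact Order.one_le_krullDim_iff.2 ⟨⟨⟨q₀, hq₀.isPrime⟩, hq₀.1.2⟩, ⟨⟨P, ‹_›⟩, hI⟩,
        lt_of_le_of_ne hq₀P fun e => hne q₀ hq₀ hq₀P (congrArg (fun z => z.1.asIdeal) e)⟩
    have hspan : Ideal.span (Set.range (Fin.snoc x y)) = I ⊔ Ideal.span {y} := by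
      rw [Fin.range_snoc, Ideal.span_insert, sup_comm]
    refine ⟨Fin.snoc x y, fun j => ?_, fun j => ?_, ?_, fun q hq hle hqP => ?_⟩
    · refine Fin.lastCases ?_ (fun j => ?_) j <;> simp only [Fin.snoc_last, Fin.snoc_castSucc]
      exacts [hya, hxa j]
    · refine Fin.lastCases ?_ (fun j => ?_) j <;> simp only [Fin.snoc_last, Fin.snoc_castSucc]
      exacts [hyr, hxr j]
    · rw [hspan, Nat.cast_succ, add_comm (i : WithBot ℕ∞) 1, ← add_assoc, dim_step I hyr hav h1]
      exact hdim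
    · rw [hspan, sup_le_iff, Ideal.span_singleton_le_iff_mem] at hle
      obtain ⟨q₁, hq₁, hq₁q⟩ := Ideal.exists_minimalPrimes_le hle.1
      haveI := hq₁.isPrime
      have hq₁P := hq₁q.trans hqP
      have hnm : ¬ q₁.IsMaximal := fun hm => hne q₁ hq₁ hq₁P (hm.eq_of_le (Ideal.IsPrime.ne_top ‹P.IsPrime›) hq₁P)
      have hlt : q₁ < q := lt_of_le_of_ne hq₁q fun e => hav q₁ hq₁ hnm (e ▸ hle.2)
      rw [Nat.cast_succ]
      exact Order.add_one_le_of_lt ((hht q₁ hq₁.isPrime hq₁.1.2 hq₁P).trans_lt (Ideal.height_strict_mono_of_isPrime_of_isPrime hlt))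

/-- Let A be a semi-local Noetherian ring with spectrum X and Jacobson radical r, and a an ideal of A
distinct from A with codim(V(a), X) = h > 0 (h is the height of a). Then there exist h elements x_1,
..., x_h of a which are part of a system of parameters of A (so lie in r and can be completed by
elements of r to dim(A) elements generating an ideal modulo which A has finite length) and such that
codim(V(a), V(x_1 A + ... + x_h A)) = 0, i.e. the image of a in A/(x_1 A + ... + x_h A) has height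
0. -/
theorem result (A : Type u) [CommRing A] [IsNoetherianRing A]
    [Finite (MaximalSpectrum A)] (a : Ideal A) (ha : a ≠ ⊤) (h : ℕ) (hh : a.height = h) (hpos : 0 < h) :
    ∃ x : Fin h → A, (∀ i, x i ∈ a) ∧ (∀ i, x i ∈ Ring.jacobson A) ∧
      (∃ ys : List A, (∀ y ∈ ys, y ∈ Ring.jacobson A) ∧
        (((h + ys.length : ℕ) : ℕ∞) : WithBot ℕ∞) = ringKrullDim A ∧
        IsFiniteLength A (A ⧸ (Ideal.span (Set.range x) ⊔ Ideal.ofList ys))) ∧
      (a.map (Ideal.Quotient.mk (Ideal.span (Set.range x)))).height = 0 := by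
  haveI : Nontrivial A := ⟨⟨0, 1, fun h01 => ha ((Ideal.eq_top_iff_one a).2 (h01 ▸ zero_mem a))⟩⟩
  obtain ⟨d, hd⟩ := exists_dim A
  obtain ⟨P, hP, haP, hPh⟩ := Ideal.exists_isPrime_height_eq hh
  obtain ⟨x, hxa, hxr, hdim, hht⟩ := exists_seq a P haP h hh hPh d hd h le_rfl
  have hxP : Ideal.span (Set.range x) ≤ P := Ideal.span_le.2 (by rintro _ ⟨i, rfl⟩; exact haP (hxa i))
  obtain ⟨e, he⟩ : ∃ e : ℕ, h + e = d := by
    have h1 : (h : WithBot ℕ∞) ≤ ringKrullDim A := by
      have := Ideal.height_le_ringKrullDim_of_isPrime (I := P)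
      rwa [hPh] at this
    rw [hd] at h1
    exact ⟨d - h, Nat.add_sub_cancel' (by exact_mod_cast h1)⟩
  have hde : ringKrullDim (A ⧸ Ideal.span (Set.range x)) = (e : ℕ) := by
    refine wb_cancel h ?_
    rw [hdim, hd, ← he, add_comm h e, Nat.cast_add]
  obtain ⟨ys, hys, hlen, hz⟩ := exists_sop e _ hde
  refine ⟨x, hxa, hxr, ⟨ys, hys, ?_, ?_⟩, ?_⟩
  · rw [hlen, he, hd]; rfl
  · let K := Ideal.span (Set.range x) ⊔ Ideal.ofList ys
    haveI : Ring.KrullDimLE 0 (A ⧸ K) := Ring.krullDimLE_iff.2 hz.le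
    haveI : IsArtinianRing (A ⧸ K) := isArtinianRing_iff_isNoetherianRing_krullDimLE_zero.2 ⟨inferInstance, inferInstance⟩
    rw [isFiniteLength_iff_isNoetherian_isArtinian]
    exact ⟨inferInstance, isArtinian_of_surjective_algebraMap (R := A ⧸ K) Ideal.Quotient.mk_surjective⟩
  · let π := Ideal.Quotient.mk (Ideal.span (Set.range x))
    have hker : RingHom.ker π ≤ P := by rw [Ideal.mk_ker]; exact hxP
    haveI : (P.map π).IsPrime := Ideal.map_isPrime_of_surjective Ideal.Quotient.mk_surjective hker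
    refine le_antisymm ?_ bot_le
    refine (Ideal.height_mono (Ideal.map_mono haP)).trans (le_of_eq (Ideal.height_eq_zero_iff.2 ?_))
    refine ⟨⟨inferInstance, bot_le⟩, fun Q hQ hQP => ?_⟩
    haveI := hQ.1
    have h1 : Q.comap π ≤ P := (Ideal.comap_mono hQP).trans (le_of_eq (by
      rw [Ideal.comap_map_of_surjective π Ideal.Quotient.mk_surjective, ← RingHom.ker_eq_comap_bot, sup_eq_left]
      exact hker))
    have h2 := hht (Q.comap π) (Ideal.IsPrime.comap π) (fun z hz => by
      rw [Ideal.mem_comap, Ideal.Quotient.eq_zero_iff_mem.2 hz]; exact zero_mem _) h1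
    have h3 : Q.comap π = P := Ideal.eq_of_le_of_height_le _ h1 (by rw [hPh]; exact h2)
    exact (Ideal.map_mono h3.ge).trans Ideal.map_comap_le

end Groth.Agent.S5808
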