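import Groth.Statements.S5809
import Groth.Agent.CIRingLib.TorRel
import Groth.Agent.S6316
import Mathlib.RingTheory.LocalRing.Module

set_option autoImplicit false
universe u
open CategoryTheory
open EGA41

namespace Groth.Agent.S5809

/-- Let A be a Noetherian local ring with residue field k, M a finitely generated A-module and n ≥ 0.
For M to have projective dimension at most n it is necessary that Tor^A_i(M, k) = 0 for all i > n,
and it suffices that Tor^A_(n+1)(M, k) = 0. (Tor is written here as the left derived functors of k ⊗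
- evaluated at M, i.e. computed from a projective resolution of M.) -/
theorem result (A : Type u) [CommRing A] [IsLocalRing A]
    [IsNoetherianRing A] (M : Type u) [AddCommGroup M] [Module A M] [Module.Finite A M] (n : ℕ) :
    (HasProjectiveDimensionLT (ModuleCat.of A M) (n + 1) →
        ∀ i : ℕ, n < i → Limits.IsZero (((Tor (ModuleCat.{u} A) i).obj
          (ModuleCat.of A (IsLocalRing.ResidueField A))).obj (ModuleCat.of A M))) ∧
      (Limits.IsZero (((Tor (ModuleCat.{u} A) (n + 1)).obj
          (ModuleCat.of A (IsLocalRing.ResidueField A))).obj (ModuleCat.of A M)) →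
        HasProjectiveDimensionLT (ModuleCat.of A M) (n + 1)) := by
  obtain ⟨P⟩ := (inferInstance : HasProjectiveResolution (ModuleCat.of A (A ⧸ IsLocalRing.maximalIdeal A))).out
  have hiff : ∀ (N : Type u) [AddCommGroup N] [Module A N] (p : ℕ),
      Limits.IsZero (((Tor (ModuleCat.{u} A) (p + 1)).obj (ModuleCat.of A (IsLocalRing.ResidueField A))).obj (ModuleCat.of A N)) ↔
        TorDimLib.ExactAtSucc N P p := by
    intro N _ _ p
    obtain ⟨σ⟩ := Groth.Agent.S6316.result A (p + 1)
    let F := (MonoidalCategory.tensoringLeft (ModuleCat.{u} A)).obj (ModuleCat.of A N)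
    let K := (F.mapHomologicalComplex (ComplexShape.down ℕ)).obj P.complex
    refine ((σ.app _).app _).isZero_iff.trans ((P.isoLeftDerivedObj F (p + 1)).isZero_iff.trans ?_)
    show Limits.IsZero (K.homology (p + 1)) ↔ _
    rw [← K.exactAt_iff_isZero_homology, K.exactAt_iff' (p + 2) (p + 1) p (by simp only [ChainComplex.prev]; rfl) (by simp)]
    exact ShortComplex.ShortExact.moduleCat_exact_iff_function_exact _
  have hshift : ∀ {K F Q : Type u} [AddCommGroup K] [Module A K] [AddCommGroup F] [Module A F]
      [AddCommGroup Q] [Module A Q] [Module.Flat A F] (ι : K →ₗ[A] F) (π : F →ₗ[A] Q),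
      Function.Injective ι → Function.Exact ι π → Function.Surjective π →
      ∀ p, TorDimLib.ExactAtSucc K P p → TorDimLib.ExactAtSucc Q P (p + 1) := by
    intro K F Q _ _ _ _ _ _ _ ι π hι hex hπ p h z
    refine ⟨fun hz => ?_, ?_⟩
    · have := TorDimLib.flat_X P p
      have hinj : Function.Injective (ι.rTensor (P.complex.X p)) :=
        Module.Flat.rTensor_preserves_injective_linearMap ι hι
      let D1 := (P.complex.d (p + 1) p).hom
      let D2 := (P.complex.d (p + 2) (p + 1)).hom
      let D3 := (P.complex.d (p + 3) (p + 2)).hom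
      have hF : Function.Exact (D3.lTensor F) (D2.lTensor F) :=
        Module.Flat.lTensor_exact F ((ShortComplex.ShortExact.moduleCat_exact_iff_function_exact _).1 (P.exact_succ (p + 1)))
      obtain ⟨f, rfl⟩ := LinearMap.rTensor_surjective (P.complex.X (p + 2)) hπ z
      obtain ⟨k, hk⟩ := (rTensor_exact (P.complex.X (p + 1)) hex hπ (D2.lTensor F f)).1 (by
        rw [← TorDimLib.comm_apply]; exact hz)
      obtain ⟨k', hk'⟩ := (h k).1 (hinj (by
        rw [← TorDimLib.comm_apply, hk, map_zero]
        exact TorDimLib.d_d P F _ _ _ f))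
      obtain ⟨f', hf'⟩ := (hF (f - ι.rTensor _ k')).1 (by
        rw [map_sub, TorDimLib.comm_apply, hk', hk, sub_self])
      refine ⟨π.rTensor _ f', ?_⟩
      show D3.lTensor Q (π.rTensor _ f') = π.rTensor _ f
      rw [TorDimLib.comm_apply, hf', map_sub, ← LinearMap.comp_apply (f := π.rTensor _) (g := ι.rTensor _),
        ← LinearMap.rTensor_comp, hex.linearMap_comp_eq_zero]
      simp
    · rintro ⟨w, rfl⟩
      exact TorDimLib.d_d P Q _ _ _ w
  suffices key : ∀ (n : ℕ) (M : Type u) [AddCommGroup M] [Module A M] [Module.Finite A M],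
      (CommAlgDim.PDLT A M (n + 1) → ∀ p, n ≤ p → TorDimLib.ExactAtSucc M P p) ∧
        (TorDimLib.ExactAtSucc M P n → CommAlgDim.PDLT A M (n + 1)) by
    refine ⟨fun h i hi => ?_, fun h => (key n M).2 ((hiff M n).1 h)⟩
    obtain ⟨p, rfl⟩ : ∃ p, i = p + 1 := ⟨i - 1, by omega⟩
    exact (hiff M p).2 ((key n M).1 h p (by omega))
  intro n
  induction n with
  | zero =>
    intro M _ _ _
    refine ⟨fun h p _ => ?_, fun h => ?_⟩
    · haveI := CommAlgDim.pdlt_one_iff.1 h
      exact TorDimLib.exactAtSucc_of_flat_left P p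
    · haveI := Module.finitePresentation_of_finite A M
      haveI : Module.Free A M := Module.free_of_maximalIdeal_rTensor_injective
        ((LinearMap.lTensor_inj_iff_rTensor_inj _ _).1 (CIRingLib.lTensor_injective_of_exactAtSucc _ P h))
      exact CommAlgDim.pdlt_one_iff.2 inferInstance
  | succ n ih =>
    intro M _ _ _
    obtain ⟨k, g, hg⟩ := Module.Finite.exists_fin' A M
    have hι : Function.Injective (LinearMap.ker g).subtype := Subtype.val_injective
    refine ⟨fun h p hp => ?_, fun h => ?_⟩
    · obtain ⟨q, rfl⟩ : ∃ q, p = q + 1 := ⟨p - 1, by omega⟩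
      exact hshift _ g hι (LinearMap.exact_subtype_ker_map g) hg q
        ((ih (LinearMap.ker g)).1 ((CommAlgDim.pdlt_ker_iff g hg n).1 h) q (by omega))
    · exact (CommAlgDim.pdlt_ker_iff g hg n).2 ((ih (LinearMap.ker g)).2
        (TorDimLib.exactAtSucc_shift _ g hι (LinearMap.exact_subtype_ker_map g) hg P n h))

end Groth.Agent.S5809
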