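import Groth.Statements.S5810
import Groth.Agent.LocCohLib.NonVanishingApp
import Groth.Agent.S0543

set_option autoImplicit false
universe u
open EGA41

namespace Groth.Agent.S5810

/-- Let A be a Noetherian local ring with maximal ideal m and M a finitely generated A-module; write Â
and M̂ for the m-adic completions. Then prof_A(M) = prof_Â(M̂). -/
theorem result (A : Type u) [CommRing A] [IsLocalRing A] [IsNoetherianRing A] (M : Type u)
    [AddCommGroup M] [Module A M] [Module.Finite A M] :
    LocCoh.depth (AdicCompletion (IsLocalRing.maximalIdeal A) A) (AdicCompletion (IsLocalRing.maximalIdeal A) M) =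
      LocCoh.depth A M := by
  haveI : IsNoetherianRing (AdicCompletion (IsLocalRing.maximalIdeal A) A) :=
    Groth.Agent.S0543.result A _
  haveI : Module.FaithfullyFlat A (AdicCompletion (IsLocalRing.maximalIdeal A) A) :=
    Module.FaithfullyFlat.of_flat_of_isLocalHom
  rw [CommAlgDim.depth_congr (AdicCompletion.ofTensorProductEquivOfFiniteNoetherian
    (IsLocalRing.maximalIdeal A) M).symm, LocCoh.depth, AdicCompletion.maximalIdeal_eq_map]
  exact LocCohLib.idealDepth_baseChange_eq _ M

end Groth.Agent.S5810
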