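import Groth.Statements.S5811
import Groth.Agent.CompleteLib.Noetherian
import Mathlib

set_option autoImplicit false
universe u
open EGA41

namespace Groth.Agent.S5811

open scoped TensorProduct

theorem mem_support_baseChange {B : Type*} [CommRing B] {B' : Type*} [CommRing B'] [Algebra B B']
    (M : Type*) [AddCommGroup M] [Module B M] [Module.Finite B M] (q : PrimeSpectrum B') :
    q ∈ Module.support B' (B' ⊗[B] M) ↔ PrimeSpectrum.comap (algebraMap B B') q ∈ Module.support B M := by
  set p := PrimeSpectrum.comap (algebraMap B B') q with hp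
  let K := q.asIdeal.ResidueField
  let k := p.asIdeal.ResidueField
  have : q.asIdeal.LiesOver p.asIdeal := ⟨rfl⟩
  rw [Module.mem_support_iff_nontrivial_residueField_tensorProduct,
    Module.mem_support_iff_nontrivial_residueField_tensorProduct,
    (TensorProduct.AlgebraTensorModule.cancelBaseChange B B' K K M).nontrivial_congr]
  let _ : Algebra k K :=
    (Ideal.ResidueField.map p.asIdeal q.asIdeal (algebraMap B B') rfl).toAlgebra
  have : IsScalarTower B k K := IsScalarTower.of_algebraMap_eq fun x => by
    rw [RingHom.algebraMap_toAlgebra]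
    exact ((Ideal.ResidueField.map_algebraMap _ _ _ _ x).trans
      (IsScalarTower.algebraMap_apply B B' K x).symm).symm
  have e := TensorProduct.AlgebraTensorModule.cancelBaseChange B k K K M
  rw [← e.nontrivial_congr]
  refine ⟨fun h => ?_, fun h => inferInstance⟩
  by_contra hn
  rw [not_nontrivial_iff_subsingleton] at hn
  exact not_subsingleton (K ⊗[k] (k ⊗[B] M)) inferInstance

theorem dim_eq_of_maximals (A B : Type u) [CommRing A] [IsNoetherianRing A] [CommRing B]
    [IsNoetherianRing B] [Algebra A B] [Module.Flat A B]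
    (h1 : ∀ n : Ideal B, n.IsMaximal → (n.comap (algebraMap A B)).IsMaximal ∧
      (n.comap (algebraMap A B)).map (algebraMap A B) = n)
    (h2 : ∀ m : Ideal A, m.IsMaximal → m.map (algebraMap A B) ≠ ⊤) :
    ringKrullDim B = ringKrullDim A := by
  rcases subsingleton_or_nontrivial A with hA | hA
  · haveI : Subsingleton B := Module.subsingleton A B
    rw [ringKrullDim_eq_bot_of_subsingleton, ringKrullDim_eq_bot_of_subsingleton]
  obtain ⟨m0, hm0⟩ := Ideal.exists_maximal A
  haveI : Nontrivial B := by
    by_contra hs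
    rw [not_nontrivial_iff_subsingleton] at hs
    exact h2 m0 hm0 (Subsingleton.elim _ _)
  haveI : Algebra.HasGoingDown A B := Algebra.HasGoingDown.of_flat
  have hh : ∀ n : Ideal B, n.IsMaximal → n.height = (n.comap (algebraMap A B)).height := by
    intro n hn
    obtain ⟨hm, hmn⟩ := h1 n hn
    haveI : n.LiesOver (n.comap (algebraMap A B)) := ⟨rfl⟩
    haveI := hn.isPrime
    haveI := hm.isPrime
    have h := Ideal.height_eq_height_add_of_liesOver_of_hasGoingDown (n.comap (algebraMap A B)) n
    have h0 : (n.map (Ideal.Quotient.mk ((n.comap (algebraMap A B)).map (algebraMap A B)))).height = 0 := by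
      have hmax : ((n.comap (algebraMap A B)).map (algebraMap A B)).IsMaximal := hmn.symm ▸ hn
      rw [show n.map (Ideal.Quotient.mk ((n.comap (algebraMap A B)).map (algebraMap A B))) = ⊥ by
        rw [Ideal.map_eq_bot_iff_le_ker, Ideal.mk_ker, hmn]]
      let _ : Field (B ⧸ (n.comap (algebraMap A B)).map (algebraMap A B)) := Ideal.Quotient.field _
      exact Ideal.height_bot
    rw [h, h0, add_zero]
  rw [← Ideal.sup_isMaximal_height_eq_ringKrullDim, ← Ideal.sup_isMaximal_height_eq_ringKrullDim]
  congr 1
  refine le_antisymm (iSup₂_le fun n hn => ?_) (iSup₂_le fun m hm => ?_)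
  · rw [hh n hn]
    exact le_iSup₂_of_le _ (h1 n hn).1 le_rfl
  · obtain ⟨n, hn, hle⟩ := Ideal.exists_le_maximal _ (h2 m hm)
    refine le_iSup₂_of_le n hn ?_
    rw [hh n hn, ← hm.eq_of_le (Ideal.comap_ne_top _ hn.ne_top) (Ideal.map_le_iff_le_comap.1 hle)]

theorem flat_mapQuotient {A B : Type u} [CommRing A] [CommRing B] [Algebra A B] [Module.Flat A B]
    (a : Ideal A) : Module.Flat (A ⧸ a) (B ⧸ a.map (algebraMap A B)) := by
  let q := (Ideal.Quotient.mkₐ A (a.map (algebraMap A B))).toLinearMap
  have hk : LinearMap.ker q = a • (⊤ : Submodule A B) := by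
    ext x
    rw [LinearMap.mem_ker, Ideal.smul_top_eq_map]
    exact Ideal.Quotient.eq_zero_iff_mem
  exact Module.Flat.of_linearEquiv
    ((TensorProduct.quotTensorEquivQuotSMul B a).trans
      ((Submodule.quotEquivOfEq _ _ hk.symm).trans
        (q.quotKerEquivOfSurjective Ideal.Quotient.mk_surjective))
      |>.extendScalarsOfSurjective Ideal.Quotient.mk_surjective).symm

theorem completion_maximals {A : Type u} [CommRing A] [IsNoetherianRing A] (J : Ideal A)
    (hJ : J ≤ Ring.jacobson A) :
    ∃ _ : IsNoetherianRing (AdicCompletion J A),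
      (∀ n : Ideal (AdicCompletion J A), n.IsMaximal →
        (n.comap (algebraMap A (AdicCompletion J A))).IsMaximal ∧
        (n.comap (algebraMap A (AdicCompletion J A))).map (algebraMap A (AdicCompletion J A)) = n) ∧
      ∀ m : Ideal A, m.IsMaximal → m.map (algebraMap A (AdicCompletion J A)) ≠ ⊤ := by
  have hfg : J.FG := IsNoetherian.noetherian _
  set φ := algebraMap A (AdicCompletion J A)
  set ev := (AdicCompletion.evalOneₐ J).toRingHom
  have hker : RingHom.ker ev = J.map φ := AdicCompletion.ker_evalOneₐ_eq_map J hfg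
  have hev : ∀ a, ev (φ a) = Ideal.Quotient.mk J a := fun a =>
    (AdicCompletion.evalOneₐ J).commutes a
  have hevs : Function.Surjective ev := AdicCompletion.evalOneₐ_surjective J
  have hc : IsAdicComplete (J.map φ) (AdicCompletion J A) :=
    (IsAdicComplete.map_algebraMap_iff _ _).2 (AdicCompletion.isAdicComplete (M := A) hfg)
  have hN : IsNoetherianRing (AdicCompletion J A) := by
    have : IsNoetherianRing (AdicCompletion J A ⧸ J.map φ) :=
      isNoetherianRing_of_ringEquiv (A ⧸ J)
        ((Ideal.quotEquivOfEq hker.symm).trans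
          (RingHom.quotientKerEquivOfSurjective hevs)).symm
    exact CompleteLib.isNoetherianRing_of_isAdicComplete (J.map φ) (Ideal.FG.map hfg _)
  have hjac : ∀ n : Ideal (AdicCompletion J A), n.IsMaximal → J.map φ ≤ n := fun n hn =>
    (IsAdicComplete.le_jacobson_bot _).trans (sInf_le ⟨bot_le, hn⟩)
  refine ⟨hN, fun n hn => ?_, fun m hm htop => ?_⟩
  · have hJn := hjac n hn
    have hlift : ∀ b, ∃ a, b - φ a ∈ J.map φ := fun b => by
      obtain ⟨a, ha⟩ := Ideal.Quotient.mk_surjective (ev b)
      exact ⟨a, by rw [← hker, RingHom.mem_ker, map_sub, hev, ha, sub_self]⟩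
    refine ⟨?_, le_antisymm Ideal.map_comap_le fun b hb => ?_⟩
    · have hs : Function.Surjective ((Ideal.Quotient.mk n).comp φ) := fun z => by
        obtain ⟨b, rfl⟩ := Ideal.Quotient.mk_surjective z
        obtain ⟨a, ha⟩ := hlift b
        exact ⟨a, (Ideal.Quotient.eq.2 (hJn ha)).symm⟩
      let _ : Field (AdicCompletion J A ⧸ n) := Ideal.Quotient.field n
      have := RingHom.ker_isMaximal_of_surjective _ hs
      rwa [← RingHom.comap_ker, Ideal.mk_ker] at this
    · obtain ⟨a, ha⟩ := hlift b
      rw [show b = φ a + (b - φ a) from (add_sub_cancel _ _).symm]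
      refine add_mem (Ideal.mem_map_of_mem _ ?_) (Ideal.map_mono (Ideal.map_le_iff_le_comap.1 hJn) ha)
      show φ a ∈ n
      simpa using n.sub_mem hb (hJn ha)
  · have hJm : J ≤ m := hJ.trans (by rw [Ring.jacobson_eq_sInf_isMaximal]; exact sInf_le hm)
    have h1 : (m.map φ).map ev = m.map (Ideal.Quotient.mk J) := by
      rw [Ideal.map_map]
      congr 1
    rw [htop, Ideal.map_top] at h1
    have h2 := congrArg (Ideal.comap (Ideal.Quotient.mk J)) h1
    rw [Ideal.comap_top, Ideal.comap_map_of_surjective _ Ideal.Quotient.mk_surjective,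
      ← RingHom.ker_eq_comap_bot, Ideal.mk_ker, sup_eq_left.2 hJm] at h2
    exact hm.ne_top h2.symm

/-- Let A be a semi-local Noetherian ring (finitely many maximal ideals) with Jacobson radical r, M a
finitely generated A-module, and write Â and M̂ for the r-adic completions of A and M. Then
dim_Â(M̂) = dim_A(M), the dimension of a module being the Krull dimension of its support. (For M = 0
both sides are ⊥.) -/
theorem result (A : Type u) [CommRing A] [IsNoetherianRing A]
    [Finite (MaximalSpectrum A)] (M : Type u) [AddCommGroup M] [Module A M] [Module.Finite A M] :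
    Module.supportDim (AdicCompletion (Ring.jacobson A) A) (AdicCompletion (Ring.jacobson A) M) =
      Module.supportDim A M := by
  set J := Ring.jacobson A
  obtain ⟨_, h1, h2⟩ := completion_maximals J le_rfl
  set B := AdicCompletion J A
  set φ := algebraMap A B
  haveI : Module.Flat A B := AdicCompletion.flat_of_isNoetherian J
  set a := Module.annihilator A M
  rw [← Module.supportDim_eq_of_equiv (AdicCompletion.ofTensorProductEquivOfFiniteNoetherian J M)]
  have hsupp : Module.support B (B ⊗[A] M) = PrimeSpectrum.zeroLocus (a.map φ : Set B) := by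
    ext q
    rw [mem_support_baseChange, Module.support_eq_zeroLocus, PrimeSpectrum.mem_zeroLocus,
      PrimeSpectrum.mem_zeroLocus, SetLike.coe_subset_coe, SetLike.coe_subset_coe,
      Ideal.map_le_iff_le_comap]
    rfl
  rw [Module.supportDim_eq_ringKrullDim_quotient_annihilator (R := A) (M := M)]
  have hB : Module.supportDim B (B ⊗[A] M) = ringKrullDim (B ⧸ a.map φ) := by
    rw [ringKrullDim_quotient, Module.supportDim, hsupp]
  rw [hB]
  haveI := flat_mapQuotient (B := B) a
  have hcomm : ∀ x : A, algebraMap (A ⧸ a) (B ⧸ a.map φ) (Ideal.Quotient.mk a x) =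
      Ideal.Quotient.mk _ (φ x) := fun x => rfl
  refine dim_eq_of_maximals (A ⧸ a) (B ⧸ a.map φ) (fun n hn => ?_) (fun m hm => ?_)
  · have hn' : (n.comap (Ideal.Quotient.mk (a.map φ))).IsMaximal :=
      Ideal.comap_isMaximal_of_surjective _ Ideal.Quotient.mk_surjective
    obtain ⟨hmax, hmap⟩ := h1 _ hn'
    have hc : (n.comap (Ideal.Quotient.mk (a.map φ))).comap φ =
        (n.comap (algebraMap (A ⧸ a) (B ⧸ a.map φ))).comap (Ideal.Quotient.mk a) := by
      rw [Ideal.comap_comap, Ideal.comap_comap]
      rfl
    constructor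
    · haveI : ((n.comap (algebraMap (A ⧸ a) (B ⧸ a.map φ))).comap (Ideal.Quotient.mk a)).IsMaximal :=
        hc ▸ hmax
      rw [← Ideal.map_comap_of_surjective _ Ideal.Quotient.mk_surjective
        (n.comap (algebraMap (A ⧸ a) (B ⧸ a.map φ)))]
      refine (Ideal.map_eq_top_or_isMaximal_of_surjective _ Ideal.Quotient.mk_surjective inferInstance).resolve_left ?_
      rw [Ideal.map_comap_of_surjective _ Ideal.Quotient.mk_surjective]
      exact Ideal.comap_ne_top _ hn.ne_top
    · refine le_antisymm Ideal.map_comap_le fun z hz => ?_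
      obtain ⟨b, rfl⟩ := Ideal.Quotient.mk_surjective z
      have hb : b ∈ n.comap (Ideal.Quotient.mk (a.map φ)) := hz
      rw [← hmap, hc] at hb
      have := Ideal.mem_map_of_mem (Ideal.Quotient.mk (a.map φ)) hb
      rw [Ideal.map_map] at this
      have e : (Ideal.Quotient.mk (a.map φ)).comp φ =
          (algebraMap (A ⧸ a) (B ⧸ a.map φ)).comp (Ideal.Quotient.mk a) := RingHom.ext fun x => rfl
      rw [e, ← Ideal.map_map, Ideal.map_comap_of_surjective _ Ideal.Quotient.mk_surjective] at this
      exact this
  · intro htop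
    haveI : (m.comap (Ideal.Quotient.mk a)).IsMaximal :=
      Ideal.comap_isMaximal_of_surjective _ Ideal.Quotient.mk_surjective
    refine h2 (m.comap (Ideal.Quotient.mk a)) inferInstance ?_
    have e : (algebraMap (A ⧸ a) (B ⧸ a.map φ)).comp (Ideal.Quotient.mk a) =
        (Ideal.Quotient.mk (a.map φ)).comp φ := RingHom.ext fun x => rfl
    have h3 : ((m.comap (Ideal.Quotient.mk a)).map φ).map (Ideal.Quotient.mk (a.map φ)) = ⊤ := by
      rw [Ideal.map_map, ← e, ← Ideal.map_map,
        Ideal.map_comap_of_surjective _ Ideal.Quotient.mk_surjective, htop]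
    have h4 := congrArg (Ideal.comap (Ideal.Quotient.mk (a.map φ))) h3
    rw [Ideal.comap_top, Ideal.comap_map_of_surjective _ Ideal.Quotient.mk_surjective,
      ← RingHom.ker_eq_comap_bot, Ideal.mk_ker, sup_eq_left.2] at h4
    · exact h4
    · refine Ideal.map_mono fun x hx => ?_
      rw [Ideal.mem_comap, Ideal.Quotient.eq_zero_iff_mem.2 hx]
      exact m.zero_mem

end Groth.Agent.S5811
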