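import Groth.Statements.S5813
import Mathlib
import Groth.Agent.ExalLib.Basic

set_option autoImplicit false
universe u
open EGA41

namespace Groth.Agent.S5813

/-- Injectivity, commutative form. Let J be an ideal of the commutative ring B, C = B ⧸ J, M a C-module.
Two B-extensions of C by M whose induced linear maps J/J² → M (obtained from the restriction to J of
the structure map B → E) coincide are equivalent. -/
theorem result {B : Type u} [CommRing B] (J : Ideal B)
    {M : Type u} [AddCommGroup M] [Module (B ⧸ J) M] [Module B M] [IsScalarTower B (B ⧸ J) M]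
    (X Y : Exal.Ext B (B ⧸ J) M) (h : X.conormalMap J = Y.conormalMap J) :
    Nonempty (X.Equiv Y) := by
  classical
  have hrep : ∀ x : X.E, ∃ b : B, ∃ m : M, algebraMap B X.E b + X.incl m = x := fun x => by
    obtain ⟨b, hb⟩ := Ideal.Quotient.mk_surjective (X.proj x)
    obtain ⟨m, hm⟩ := ExalLib.exists_incl_eq_sub X (x := x) (y := algebraMap B X.E b)
      (by rw [AlgHom.commutes]; exact hb.symm)
    exact ⟨b, m, by rw [hm]; abel⟩
  choose rb rm hr using hrep
  have hwd : ∀ b b' m m', algebraMap B X.E b + X.incl m = algebraMap B X.E b' + X.incl m' →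
      algebraMap B Y.E b + Y.incl m = algebraMap B Y.E b' + Y.incl m' := by
    intro b b' m m' he
    have hJ : b - b' ∈ J := by
      have := congrArg X.proj he
      rw [map_add, map_add, ExalLib.proj_incl, ExalLib.proj_incl, add_zero, add_zero,
        AlgHom.commutes, AlgHom.commutes, Ideal.Quotient.algebraMap_eq, Ideal.Quotient.eq] at this
      exact this
    have hX : X.idealToKer J ⟨b - b', hJ⟩ = m' - m := by
      apply X.isExtension.incl_injective
      refine (Exal.Ext.incl_kerLift X _ (X.proj_algebraMap_eq_zero J ⟨b - b', hJ⟩)).trans ?_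
      rw [map_sub, map_sub]
      linear_combination (norm := module) he
    have hXY : X.idealToKer J ⟨b - b', hJ⟩ = Y.idealToKer J ⟨b - b', hJ⟩ :=
      LinearMap.congr_fun h (J.toCotangent ⟨b - b', hJ⟩)
    have hY : Y.incl (Y.idealToKer J ⟨b - b', hJ⟩) = algebraMap B Y.E (b - b') :=
      Exal.Ext.incl_kerLift Y _ (Y.proj_algebraMap_eq_zero J ⟨b - b', hJ⟩)
    rw [← hXY, hX, map_sub, map_sub] at hY
    linear_combination (norm := module) -hY
  have hf : ∀ b m, algebraMap B Y.E (rb (algebraMap B X.E b + X.incl m)) +
      Y.incl (rm (algebraMap B X.E b + X.incl m)) = algebraMap B Y.E b + Y.incl m :=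
    fun b m => hwd _ _ _ _ (hr _)
  let f : X.E →ₐ[B] Y.E :=
    { toFun := fun x => algebraMap B Y.E (rb x) + Y.incl (rm x)
      map_one' := by simpa using hf 1 0
      map_mul' := fun x y => by
        have hxy : x * y = algebraMap B X.E (rb x * rb y) +
            X.incl (Ideal.Quotient.mk J (rb x) • rm y + Ideal.Quotient.mk J (rb y) • rm x) := by
          conv_lhs => rw [← hr x, ← hr y]
          rw [add_mul, mul_add, mul_add, ExalLib.incl_mul_incl, add_zero,
            mul_comm (X.incl (rm x)), X.isExtension.mul_incl, X.isExtension.mul_incl,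
            AlgHom.commutes, AlgHom.commutes, Ideal.Quotient.algebraMap_eq, map_mul, map_add]
          abel
        rw [hxy, hf, add_mul, mul_add, mul_add, ExalLib.incl_mul_incl, add_zero,
          mul_comm (Y.incl (rm x)), Y.isExtension.mul_incl, Y.isExtension.mul_incl,
          AlgHom.commutes, AlgHom.commutes, Ideal.Quotient.algebraMap_eq, map_mul, map_add]
        abel
      map_zero' := by simpa using hf 0 0
      map_add' := fun x y => by
        have hxy : x + y = algebraMap B X.E (rb x + rb y) + X.incl (rm x + rm y) := by
          conv_lhs => rw [← hr x, ← hr y]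
          rw [map_add, map_add]
          abel
        rw [hxy, hf, map_add, map_add]
        abel
      commutes' := fun b => by simpa using hf b 0 }
  refine ExalLib.nonempty_equiv_of_algHom X Y f (fun x => ?_) (fun z => ?_)
  · show Y.proj (algebraMap B Y.E (rb x) + Y.incl (rm x)) = X.proj x
    conv_rhs => rw [← hr x]
    rw [map_add, map_add, ExalLib.proj_incl, ExalLib.proj_incl, AlgHom.commutes, AlgHom.commutes]
  · show algebraMap B Y.E (rb (X.incl z)) + Y.incl (rm (X.incl z)) = Y.incl z
    simpa using hf 0 z

end Groth.Agent.S5813
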