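import Groth.Statements.S5814
import Mathlib
import Groth.Agent.ExalLib.Basic

set_option autoImplicit false
universe u
open EGA41

namespace Groth.Agent.S5814

/-- Surjectivity, commutative form. Let J be an ideal of the commutative ring B, C = B ⧸ J, M a
C-module. Every linear map w : J/J² → M arises from a B-extension of C by M: there is an extension
whose induced map J/J² → M is w. Together with the injectivity statement this is the canonical
bijection between Hom_C(J/J², M) and the classes of B-extensions of C by M. -/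
theorem result {B : Type u} [CommRing B] (J : Ideal B)
    {M : Type u} [AddCommGroup M] [Module (B ⧸ J) M] [Module B M] [IsScalarTower B (B ⧸ J) M]
    (w : J.Cotangent →ₗ[B] M) :
    ∃ X : Exal.Ext B (B ⧸ J) M, X.conormalMap J = w := by
  classical
  letI := Exal.opModule B M
  haveI := Exal.isCentralScalar_opModule B M
  have hJM : ∀ z ∈ J, ∀ m : M, z • m = 0 := fun z hz m => by
    rw [← IsScalarTower.algebraMap_smul (B ⧸ J) z m, Ideal.Quotient.algebraMap_eq,
      Ideal.Quotient.eq_zero_iff_mem.mpr hz, zero_smul]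
  let I : Ideal (TrivSqZeroExt B M) :=
    { carrier := {x | ∃ z : J, x = TrivSqZeroExt.inl (z : B) - TrivSqZeroExt.inr (w (J.toCotangent z))}
      zero_mem' := ⟨0, by simp⟩
      add_mem' := by
        rintro _ _ ⟨z, rfl⟩ ⟨z', rfl⟩
        refine ⟨z + z', ?_⟩
        rw [map_add, map_add, Submodule.coe_add, TrivSqZeroExt.inl_add, TrivSqZeroExt.inr_add]
        abel
      smul_mem' := by
        rintro x _ ⟨z, rfl⟩
        refine ⟨TrivSqZeroExt.fst x • z, ?_⟩
        rw [map_smul, map_smul, Submodule.coe_smul, smul_eq_mul, smul_eq_mul]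
        apply TrivSqZeroExt.ext
        · simp
        · simp [hJM z z.2, smul_neg] }
  let E := TrivSqZeroExt B M ⧸ I
  have hIJ : ∀ x ∈ I, Ideal.Quotient.mk J (TrivSqZeroExt.fst x) = 0 := by
    rintro _ ⟨z, rfl⟩
    simp [Ideal.Quotient.eq_zero_iff_mem]
  letI algE : Algebra B E := ((Ideal.Quotient.mk I).comp (TrivSqZeroExt.inlHom B M)).toAlgebra
  let p₀ : E →+* B ⧸ J :=
    Ideal.Quotient.lift I ((Ideal.Quotient.mk J).comp (TrivSqZeroExt.fstHom ℕ B M).toRingHom) hIJ
  let p : E →ₐ[B] B ⧸ J := { p₀ with commutes' := fun b => rfl }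
  let i : M →+ E := (Ideal.Quotient.mk I).toAddMonoidHom.comp (TrivSqZeroExt.inrHom B M).toAddMonoidHom
  have hext : Exal.IsExtension p i :=
    { proj_surjective := fun c => by
        obtain ⟨b, rfl⟩ := Ideal.Quotient.mk_surjective c
        exact ⟨Ideal.Quotient.mk I (TrivSqZeroExt.inl b), rfl⟩
      incl_injective := fun m m' hm => by
        obtain ⟨z, hz⟩ := (Ideal.Quotient.eq.mp hm : _ ∈ I)
        have h1 : (0 : B) = (z : B) := by simpa using congrArg TrivSqZeroExt.fst hz
        have hz0 : z = 0 := Subtype.ext h1.symm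
        subst hz0
        simpa [sub_eq_zero] using congrArg TrivSqZeroExt.snd hz
      exact := fun x => by
        obtain ⟨x, rfl⟩ := Ideal.Quotient.mk_surjective x
        constructor
        · intro hx
          have hb : TrivSqZeroExt.fst x ∈ J := Ideal.Quotient.eq_zero_iff_mem.mp hx
          refine ⟨TrivSqZeroExt.snd x + w (J.toCotangent ⟨_, hb⟩), Ideal.Quotient.eq.mpr ?_⟩
          refine ⟨⟨- TrivSqZeroExt.fst x, J.neg_mem hb⟩, ?_⟩
          have hneg : (⟨- TrivSqZeroExt.fst x, J.neg_mem hb⟩ : J) = - ⟨_, hb⟩ := rfl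
          rw [hneg, map_neg, map_neg]
          apply TrivSqZeroExt.ext
          · simp
          · simp
        · rintro ⟨m, hm⟩
          rw [← hm]
          exact (Ideal.Quotient.mk J).map_zero
      mul_incl := fun x m => by
        obtain ⟨x, rfl⟩ := Ideal.Quotient.mk_surjective x
        show Ideal.Quotient.mk I x * Ideal.Quotient.mk I (TrivSqZeroExt.inr m) =
          Ideal.Quotient.mk I (TrivSqZeroExt.inr (Ideal.Quotient.mk J (TrivSqZeroExt.fst x) • m))
        rw [← map_mul, ← Ideal.Quotient.algebraMap_eq J, IsScalarTower.algebraMap_smul]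
        congr 1
        apply TrivSqZeroExt.ext <;> simp }
  let X₀ : Exal.Ext B (B ⧸ J) M := { E := E, proj := p, incl := i, isExtension := hext }
  refine ⟨X₀, ?_⟩
  apply LinearMap.ext
  intro c
  obtain ⟨z, rfl⟩ := J.toCotangent_surjective c
  apply hext.incl_injective
  refine (Exal.Ext.incl_kerLift X₀ _ (X₀.proj_algebraMap_eq_zero J z)).trans ?_
  refine Ideal.Quotient.eq.mpr ⟨z, ?_⟩
  apply TrivSqZeroExt.ext <;> simp

end Groth.Agent.S5814
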