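import Groth.Statements.S5815
import Mathlib
import Groth.Agent.ExalLib.Basic

set_option autoImplicit false
universe u
open EGA41

namespace Groth.Agent.S5815

/-- Discrete case. A commutative A-algebra B is formally smooth if and only if every A-extension of B by
a B-module L is trivial (has an A-algebra section). A and B are taken in one universe and L ranges
over that universe. (The published statement is for topological rings, with direct-limit classes of
extensions; this row is its discrete case.) -/
theorem result (A B : Type u) [CommRing A] [CommRing B] [Algebra A B] :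
    Algebra.FormallySmooth A B ↔
      ∀ (L : Type u) [AddCommGroup L] [Module B L] (X : Exal.Ext A B L), X.IsTrivial := by
  constructor
  · intro _ L _ _ X
    have hker : RingHom.ker (X.proj : X.E →+* B) ^ 2 = ⊥ := by
      rw [pow_two, eq_bot_iff, Ideal.mul_le]
      intro x hx y hy
      obtain ⟨z, rfl⟩ := ExalLib.exists_incl_eq X hx
      obtain ⟨z', rfl⟩ := ExalLib.exists_incl_eq X hy
      rw [Ideal.mem_bot, ExalLib.incl_mul_incl]
    exact ⟨Algebra.FormallySmooth.liftOfSurjective (AlgHom.id A B) X.proj
      X.isExtension.proj_surjective ⟨2, hker⟩,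
      fun c => Algebra.FormallySmooth.liftOfSurjective_apply _ _ _ _ c⟩
  · intro h
    let f : MvPolynomial B A →ₐ[A] B := MvPolynomial.aeval id
    have hf : Function.Surjective f := fun b => ⟨MvPolynomial.X b, by simp [f]⟩
    let p := f.kerSquareLift
    have hp : Function.Surjective p := fun b => by
      obtain ⟨x, hx⟩ := hf b
      exact ⟨Ideal.Quotient.mk _ x, hx⟩
    have hsq : ∀ x y, p x = 0 → p y = 0 → x * y = 0 := fun x y hx hy => by
      have h1 : RingHom.ker p.toRingHom ^ 2 = ⊥ := by
        rw [show RingHom.ker p.toRingHom = (RingHom.ker f.toRingHom).cotangentIdeal from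
          AlgHom.ker_kerSquareLift f, Ideal.cotangentIdeal_square]
      have h2 : x * y ∈ RingHom.ker p.toRingHom ^ 2 := by
        rw [pow_two (RingHom.ker p.toRingHom)]
        exact Ideal.mul_mem_mul hx hy
      rwa [h1, Ideal.mem_bot] at h2
    letI := ExalLib.kerModule p hp hsq
    obtain ⟨s, hs⟩ := h _ (ExalLib.ofSurjective p hp hsq)
    exact Algebra.FormallySmooth.of_split f s (AlgHom.ext hs)

end Groth.Agent.S5815
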