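import Groth.Statements.S5816
import Mathlib
import Groth.Agent.ExalLib.Basic

set_option autoImplicit false
universe u
open EGA41

namespace Groth.Agent.S5816

/-- Discrete case. For ring maps Λ → A → B, B is formally smooth over A relative to Λ (square-zero test
ideals) if and only if every A-extension of B by a B-module L which is Λ-trivial is A-trivial. Λ, A,
B are taken in one universe and L ranges over it. (The published statement is for topological rings;
this row is its discrete case.) -/
theorem result (Λ A B : Type u) [CommRing Λ]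
    [CommRing A] [CommRing B] [Algebra Λ A] [Algebra Λ B] [Algebra A B] [IsScalarTower Λ A B] :
    EGA41.IsFormallySmoothRel Λ A B ↔
      ∀ (L : Type u) [AddCommGroup L] [Module B L] (X : Exal.Ext A B L),
        X.IsTrivialOver Λ → X.IsTrivial := by
  constructor
  · intro h L _ _ X hX
    obtain ⟨s, hs, ha⟩ := (ExalLib.isTrivialOver_iff_exists X).1 hX
    letI : Algebra Λ X.E := ((algebraMap A X.E).comp (algebraMap Λ A)).toAlgebra
    haveI : IsScalarTower Λ A X.E := IsScalarTower.of_algebraMap_eq fun _ => rfl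
    let J : Ideal X.E := RingHom.ker (X.proj : X.E →+* B)
    have hker : J ^ 2 = ⊥ := by
      rw [pow_two, eq_bot_iff, Ideal.mul_le]
      intro x hx y hy
      obtain ⟨z, rfl⟩ := ExalLib.exists_incl_eq X hx
      obtain ⟨z', rfl⟩ := ExalLib.exists_incl_eq X hy
      rw [Ideal.mem_bot, ExalLib.incl_mul_incl]
    let u₀ : B →ₐ[A] X.E ⧸ J :=
      { (Ideal.Quotient.mk J).comp s with
        commutes' := fun a => by
          show Ideal.Quotient.mk J (s (algebraMap A B a)) = Ideal.Quotient.mk J (algebraMap A X.E a)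
          rw [Ideal.Quotient.eq, RingHom.mem_ker, map_sub]
          show X.proj (s (algebraMap A B a)) - X.proj (algebraMap A X.E a) = 0
          rw [hs, AlgHom.commutes, sub_self] }
    obtain ⟨v, hv⟩ := h X.E J hker u₀ ⟨{ s with commutes' := ha }, rfl⟩
    refine ⟨v, fun b => ?_⟩
    have h1 : Ideal.Quotient.mk J (v b) = Ideal.Quotient.mk J (s b) := AlgHom.congr_fun hv b
    rw [Ideal.Quotient.eq, RingHom.mem_ker, map_sub, sub_eq_zero] at h1
    exact h1.trans (hs b)
  · intro h C _ _ _ _ J hJ u₀ hu
    obtain ⟨u, hu⟩ := hu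
    let E : Subalgebra A (C × B) := AlgHom.equalizer
      ((Ideal.Quotient.mkₐ A J).comp (AlgHom.fst A C B)) (u₀.comp (AlgHom.snd A C B))
    have hmem : ∀ x : C × B, x ∈ E ↔ Ideal.Quotient.mk J x.1 = u₀ x.2 := fun x => Iff.rfl
    have hu' : ∀ b, Ideal.Quotient.mk J (u b) = u₀ b := fun b => AlgHom.congr_fun hu b
    let p : E →ₐ[A] B := (AlgHom.snd A C B).comp E.val
    have hp : Function.Surjective p := fun b => ⟨⟨(u b, b), (hmem _).2 (hu' b)⟩, rfl⟩
    have hsq : ∀ x y, p x = 0 → p y = 0 → x * y = 0 := by
      intro x y hx hy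
      have hJm : ∀ z : E, p z = 0 → z.1.1 ∈ J := fun z hz => by
        rw [← Ideal.Quotient.eq_zero_iff_mem, (hmem z.1).1 z.2]
        exact (congrArg u₀ hz).trans (map_zero u₀)
      apply Subtype.ext
      apply Prod.ext
      · have : x.1.1 * y.1.1 ∈ J ^ 2 := by
          rw [pow_two]; exact Ideal.mul_mem_mul (hJm x hx) (hJm y hy)
        rwa [hJ, Ideal.mem_bot] at this
      · show x.1.2 * y.1.2 = 0
        rw [show x.1.2 = 0 from hx, zero_mul]
    letI := ExalLib.kerModule p hp hsq
    let X := ExalLib.ofSurjective p hp hsq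
    have hX : X.IsTrivialOver Λ := by
      refine (ExalLib.isTrivialOver_iff_exists X).2
        ⟨((u : B →+* C).prod (RingHom.id B)).codRestrict E.toSubring (fun b => (hmem _).2 (hu' b)),
          fun b => rfl, fun a => ?_⟩
      apply Subtype.ext
      apply Prod.ext
      · show u (algebraMap Λ B a) = algebraMap A C (algebraMap Λ A a)
        rw [AlgHom.commutes, ← IsScalarTower.algebraMap_apply]
      · show algebraMap Λ B a = algebraMap A B (algebraMap Λ A a)
        rw [← IsScalarTower.algebraMap_apply]
    obtain ⟨s, hs⟩ := h _ X hX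
    let s' : B →ₐ[A] E := s
    refine ⟨((AlgHom.fst A C B).comp E.val).comp s', ?_⟩
    ext b
    show Ideal.Quotient.mk J (s' b).1.1 = u₀ b
    rw [(hmem _).1 (s' b).2]
    exact congrArg u₀ (hs b)

end Groth.Agent.S5816
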