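import Groth.Statements.S5817
import Mathlib
import Groth.Agent.ExalLib.Basic

set_option autoImplicit false
universe u v
open EGA41

namespace Groth.Agent.S5817

/-- Commutative rings, exactness at Der_A(B, L). For ring maps A → B → C and a C-module L, the
B-extension of C by L attached to an A-derivation D : B → L (middle ring C ⊕ L, made a B-algebra
through x ↦ (x, D x)) is trivial if and only if D is the composite of B → C with an A-derivation C →
L. -/
theorem result {A : Type u} {B C L : Type v} [CommRing A] [CommRing B] [CommRing C]
    [Algebra A B] [Algebra B C] [Algebra A C] [IsScalarTower A B C]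
    [AddCommGroup L] [Module C L] [Module B L] [IsScalarTower B C L] [Module A L] [IsScalarTower A B L]
    [IsScalarTower A C L]
    (D : Derivation A B L) :
    (Exal.Ext.ofDerivation (C := C) D).IsTrivial ↔
      ∃ D' : Derivation A C L, D'.compAlgebraMap B = D := by
  letI := Exal.opModule C L
  haveI := Exal.isCentralScalar_opModule C L
  let X := Exal.Ext.ofDerivation (C := C) D
  let t : C →+* X.E := TrivSqZeroExt.inlHom C L
  have ht : ∀ c, X.proj (t c) = c := fun c => rfl
  have hb : ∀ b, ExalLib.secComp X t ht (algebraMap B X.E b) = D b := fun b => by
    apply X.isExtension.incl_injective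
    rw [ExalLib.incl_secComp, AlgHom.commutes]
    show (TrivSqZeroExt.inl (algebraMap B C b) + TrivSqZeroExt.inr (D b) : TrivSqZeroExt C L) -
      TrivSqZeroExt.inl (algebraMap B C b) = TrivSqZeroExt.inr (D b)
    abel
  constructor
  · rintro ⟨s, hs⟩
    have hb' : ∀ b, ExalLib.secComp X t ht (s (algebraMap B C b)) = D b := fun b => by
      rw [AlgHom.commutes]
      exact hb b
    let D' : Derivation A C L := Derivation.mk'
      { toFun := fun c => ExalLib.secComp X t ht (s c)
        map_add' := fun x y => by rw [map_add, map_add]
        map_smul' := fun a c => by
          have hwa : s (algebraMap A C a) = algebraMap B X.E (algebraMap A B a) := by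
            rw [IsScalarTower.algebraMap_apply A B C, AlgHom.commutes]
          rw [Algebra.smul_def, map_mul, ExalLib.secComp_mul X t ht, hs, hs, RingHom.id_apply,
            hwa, hb, Derivation.map_algebraMap, smul_zero, add_zero, algebraMap_smul] }
      (fun x y => by
        show ExalLib.secComp X t ht (s (x * y)) = x • ExalLib.secComp X t ht (s y) +
          y • ExalLib.secComp X t ht (s x)
        rw [map_mul, ExalLib.secComp_mul X t ht, hs, hs])
    exact ⟨D', Derivation.ext hb'⟩
  · rintro ⟨D', hD'⟩
    let u : C →+* X.E :=
      { toFun := fun c => t c + X.incl (D' c)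
        map_one' := by simp
        map_mul' := fun x y => by
          rw [Derivation.leibniz, map_mul, add_mul, mul_add, mul_add, ExalLib.incl_mul_incl,
            add_zero, mul_comm (X.incl (D' x)), X.isExtension.mul_incl, X.isExtension.mul_incl,
            ht, ht, map_add]
          abel
        map_zero' := by simp
        map_add' := fun x y => by simp only [map_add]; abel }
    refine ExalLib.isTrivial_of_section X u (fun b => ?_) (fun c => ?_)
    · show t (algebraMap B C b) + X.incl (D' (algebraMap B C b)) = algebraMap B X.E b
      rw [show D' (algebraMap B C b) = D b from DFunLike.congr_fun hD' b, ← hb b,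
        ExalLib.incl_secComp X t ht, AlgHom.commutes]
      abel
    · show X.proj (t c + X.incl (D' c)) = c
      rw [map_add, ht, ExalLib.proj_incl, add_zero]

end Groth.Agent.S5817
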