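import Groth.Statements.S5818
import Mathlib
import Groth.Agent.ExalLib.Basic

set_option autoImplicit false
universe u v
open EGA41

namespace Groth.Agent.S5818

/-- Commutative rings, exactness at Exalcom_B(C, L) on underlying pointed sets. For ring maps A → B → C
and a C-module L, a B-extension of C by L is A-trivial if and only if it is equivalent to the
extension attached to some A-derivation B → L. -/
theorem result {A : Type u} {B C L : Type v} [CommRing A] [CommRing B] [CommRing C]
    [Algebra A B] [Algebra B C] [Algebra A C] [IsScalarTower A B C]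
    [AddCommGroup L] [Module C L] [Module B L] [IsScalarTower B C L] [Module A L] [IsScalarTower A B L]
    [IsScalarTower A C L]
    (X : Exal.Ext B C L) :
    X.IsTrivialOver A ↔
      ∃ D : Derivation A B L, Nonempty (X.Equiv (Exal.Ext.ofDerivation (C := C) D)) := by
  letI := Exal.opModule C L
  haveI := Exal.isCentralScalar_opModule C L
  constructor
  · intro hX
    obtain ⟨s, hs, ha⟩ := (ExalLib.isTrivialOver_iff_exists X).1 hX
    have hD0 : ∀ a, ExalLib.secComp X s hs (algebraMap B X.E (algebraMap A B a)) = 0 := fun a => by
      rw [← ha, ExalLib.secComp_section X s hs]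
    let D : Derivation A B L := Derivation.mk'
      { toFun := fun b => ExalLib.secComp X s hs (algebraMap B X.E b)
        map_add' := fun x y => by rw [map_add, map_add]
        map_smul' := fun a b => by
          rw [Algebra.smul_def, map_mul, ExalLib.secComp_mul X s hs, AlgHom.commutes,
            AlgHom.commutes, hD0, smul_zero, add_zero, algebraMap_smul, algebraMap_smul,
            RingHom.id_apply] }
      (fun x y => by
        show ExalLib.secComp X s hs (algebraMap B X.E (x * y)) =
          x • ExalLib.secComp X s hs (algebraMap B X.E y) +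
          y • ExalLib.secComp X s hs (algebraMap B X.E x)
        rw [map_mul, ExalLib.secComp_mul X s hs, AlgHom.commutes, AlgHom.commutes, algebraMap_smul,
          algebraMap_smul])
    let Y := Exal.Ext.ofDerivation (C := C) D
    let t : C →+* Y.E := TrivSqZeroExt.inlHom C L
    exact ⟨D, ExalLib.nonempty_equiv_of_data X Y t (fun c => rfl) (ExalLib.secComp X s hs)
      (ExalLib.secComp_mul X s hs) (ExalLib.secComp_incl X s hs) (fun b => rfl)⟩
  · rintro ⟨D, ⟨e⟩⟩
    let t : C →+* (Exal.Ext.ofDerivation (C := C) D).E := TrivSqZeroExt.inlHom C L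
    refine (ExalLib.isTrivialOver_iff_exists X).2
      ⟨(e.toAlgEquiv.symm : (Exal.Ext.ofDerivation (C := C) D).E →+* X.E).comp t, fun c => ?_,
        fun a => ?_⟩
    · show X.proj (e.toAlgEquiv.symm (t c)) = c
      rw [← e.proj_apply, AlgEquiv.apply_symm_apply]
      rfl
    · show e.toAlgEquiv.symm (t (algebraMap A C a)) = algebraMap B X.E (algebraMap A B a)
      rw [AlgEquiv.symm_apply_eq, AlgEquiv.commutes]
      show TrivSqZeroExt.inl _ = TrivSqZeroExt.inl (algebraMap B C (algebraMap A B a)) +
        TrivSqZeroExt.inr (D (algebraMap A B a))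
      rw [Derivation.map_algebraMap, TrivSqZeroExt.inr_zero, add_zero,
        ← IsScalarTower.algebraMap_apply]

end Groth.Agent.S5818
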