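import Groth.Statements.S5819
import Mathlib
import Groth.Agent.ExalLib.Basic

set_option autoImplicit false
universe u v
open EGA41

namespace Groth.Agent.S5819

/-- Commutative rings, exactness at Exalcom_A(C, L) on underlying pointed sets. For ring maps A → B → C
and a C-module L, an A-extension Y of C by L pulls back to a trivial A-extension of B if and only if
Y is equivalent to some B-extension of C by L viewed as an A-extension. -/
theorem result {A : Type u} {B C L : Type v} [CommRing A]
    [CommRing B] [CommRing C] [Algebra A B] [Algebra B C] [Algebra A C] [IsScalarTower A B C]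
    [AddCommGroup L] [Module C L] [Module B L] [IsScalarTower B C L]
    (Y : Exal.Ext A C L) :
    (Y.pullback B).IsTrivial ↔
      ∃ X : Exal.Ext B C L, Nonempty ((X.restrictBase A).Equiv Y) := by
  constructor
  · rintro ⟨s, hs⟩
    let F := Y.fiberProd B
    let s' : B →ₐ[A] F := s
    let φ : B →ₐ[A] Y.E := ((AlgHom.fst A Y.E B).comp F.val).comp s'
    have hφ : ∀ b, Y.proj (φ b) = algebraMap B C b := fun b => by
      have h1 : Y.proj (s' b).1.1 = algebraMap B C (s' b).1.2 := (s' b).2
      rwa [show (s' b).1.2 = b from hs b] at h1
    letI : Algebra B Y.E := φ.toRingHom.toAlgebra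
    let p : Y.E →ₐ[B] C := { (Y.proj : Y.E →+* C) with commutes' := hφ }
    refine ⟨{ E := Y.E, proj := p, incl := Y.incl,
              isExtension := ⟨Y.isExtension.proj_surjective, Y.isExtension.incl_injective,
                Y.isExtension.exact, Y.isExtension.mul_incl⟩ }, ?_⟩
    refine ExalLib.nonempty_equiv_of_algHom _ Y
      { toFun := fun x => x, map_one' := rfl, map_mul' := fun _ _ => rfl, map_zero' := rfl,
        map_add' := fun _ _ => rfl, commutes' := fun a => ?_ } (fun x => rfl) (fun z => rfl)
    exact φ.commutes a
  · rintro ⟨X, ⟨e⟩⟩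
    let φ : B →+* Y.E :=
      ((e.toAlgEquiv : (X.restrictBase A).E →+* Y.E)).comp (algebraMap B X.E)
    have hφ : ∀ b, Y.proj (φ b) = algebraMap B C b := fun b =>
      (e.proj_apply _).trans (X.proj.commutes b)
    refine ExalLib.isTrivial_of_section (Y.pullback B)
      ((φ.prod (RingHom.id B)).codRestrict (Y.fiberProd B).toSubring
        (fun b => hφ b)) (fun a => ?_) (fun b => rfl)
    apply Subtype.ext
    apply Prod.ext
    · show e.toAlgEquiv (algebraMap B X.E (algebraMap A B a)) = algebraMap A Y.E a
      exact e.toAlgEquiv.commutes a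
    · rfl

end Groth.Agent.S5819
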