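import Groth.Statements.S5821
import Mathlib
import Groth.Agent.ExalLib.Basic

set_option autoImplicit false
universe u v
open EGA41

namespace Groth.Agent.S5821

/-- For a ring map A → B, an ideal K of B, C = B ⧸ K and the B-extension E = B ⧸ K² of C by K/K², if E
is A-trivial then its characteristic homomorphism Υ_{C/B/A} → K/K² is bijective (stated for every
C-linear χ satisfying the defining square, of which there is exactly one). -/
theorem result {A : Type u} {B : Type v} [CommRing A] [CommRing B] [Algebra A B]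
    (K : Ideal B) (hK : (Exal.Ext.infinitesimal K).IsTrivialOver A)
    (χ : ↥(EGA41.imperfection A B (B ⧸ K)) →ₗ[B ⧸ K] K.Cotangent)
    (hχ : (Exal.Ext.infinitesimal K).IsCharHom A χ) :
    Function.Bijective χ := by
  open scoped TensorProduct in
  let X := Exal.Ext.infinitesimal K
  have hinj : Function.Injective (X.deltaL A) := ExalLib.deltaL_injective X hK
  have hq : Function.Surjective (algebraMap B (X.CharCarrier A)) := Ideal.Quotient.mk_surjective
  have hker : RingHom.ker (algebraMap B (X.CharCarrier A)) ≤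
      RingHom.ker (algebraMap B (B ⧸ K)) ^ 2 := by
    intro x hx
    rw [Ideal.Quotient.algebraMap_eq, Ideal.mk_ker]
    exact Ideal.Quotient.eq_zero_iff_mem.mp hx
  obtain ⟨g, hg⟩ := ExalLib.exists_leftInverse_tensor (R := A) (P := B) (E := X.CharCarrier A)
    (S := B ⧸ K) hq hker
  have hgf : Function.LeftInverse g (X.baseChangeToMiddle A) := fun t =>
    DFunLike.congr_fun (ExalLib.addHom_ext_tmul_D
      (f := g.comp (X.baseChangeToMiddle A).toAddMonoidHom) (g := AddMonoidHom.id _)
      fun c b => by
        rw [AddMonoidHom.comp_apply, LinearMap.toAddMonoidHom_coe,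
          ExalLib.baseChangeToMiddle_tmul_D, hg, AddMonoidHom.id_apply]) t
  constructor
  · rw [injective_iff_map_eq_zero]
    intro z hz
    have h : X.baseChangeToMiddle A (z : (B ⧸ K) ⊗[B] Ω[B⁄A]) = X.baseChangeToMiddle A 0 := by
      rw [← hχ z, hz, map_zero, map_zero]
    exact Subtype.ext (hgf.injective h)
  · intro m
    obtain ⟨⟨x, hx⟩, rfl⟩ := Ideal.toCotangent_surjective K m
    have hz : (1 : B ⧸ K) ⊗ₜ[B] KaehlerDifferential.D A B x ∈ EGA41.imperfection A B (B ⧸ K) := by
      rw [EGA41.imperfection, LinearMap.mem_ker, KaehlerDifferential.mapBaseChange_tmul, one_smul,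
        KaehlerDifferential.map_D, Ideal.Quotient.algebraMap_eq,
        Ideal.Quotient.eq_zero_iff_mem.mpr hx, map_zero]
    refine ⟨⟨_, hz⟩, hinj ?_⟩
    rw [hχ]
    show X.baseChangeToMiddle A ((1 : B ⧸ K) ⊗ₜ[B] KaehlerDifferential.D A B x) = _
    rw [ExalLib.baseChangeToMiddle_tmul_D, ExalLib.deltaL_apply]
    congr 2

end Groth.Agent.S5821
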