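import Groth.Statements.S5822
import Mathlib
import Groth.Agent.ExalLib.Basic

set_option autoImplicit false
universe u v
open scoped TensorProduct
open EGA41

namespace Groth.Agent.S5822

/-- Injectivity. For ring maps A → B → C and a C-module L, assume (i) L is an injective C-module, or
(ii) Υ_{C/B/A} is a direct summand of C ⊗_B Ω_{B/A} and Ω_{C/A} → Ω_{C/B} has a right inverse. Then
two A-trivial B-extensions of C by L with a common characteristic homomorphism are equivalent: the
map from classes of A-trivial extensions to Hom_C(Υ_{C/B/A}, L) is injective. -/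
theorem result {A : Type u} {B C L : Type v} [CommRing A] [CommRing B] [CommRing C]
    [Algebra A B] [Algebra B C] [Algebra A C] [IsScalarTower A B C] [AddCommGroup L] [Module C L]
    (h : Module.Injective C L ∨
      ((∃ r : C ⊗[B] Ω[B⁄A] →ₗ[C] ↥(EGA41.imperfection A B C), ∀ z : ↥(EGA41.imperfection A B C), r z = z) ∧
        ∃ s : Ω[C⁄B] →ₗ[C] Ω[C⁄A], ∀ ω : Ω[C⁄B], KaehlerDifferential.map A B C C (s ω) = ω))
    (X Y : Exal.Ext B C L) (hX : X.IsTrivialOver A) (hY : Y.IsTrivialOver A)
    (χ : ↥(EGA41.imperfection A B C) →ₗ[C] L) (hXχ : X.IsCharHom A χ) (hYχ : Y.IsCharHom A χ) :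
    Nonempty (X.Equiv Y) := by
  obtain ⟨s, hs, ha⟩ := (ExalLib.isTrivialOver_iff_exists X).1 hX
  obtain ⟨t, ht, hb⟩ := (ExalLib.isTrivialOver_iff_exists Y).1 hY
  obtain ⟨rX, hrX⟩ := ExalLib.exists_retraction X s hs ha
  obtain ⟨rY, hrY⟩ := ExalLib.exists_retraction Y t ht hb
  set Φ := ExalLib.liftFun X rX - ExalLib.liftFun Y rY with hΦ
  have hker : LinearMap.ker (KaehlerDifferential.mapBaseChange A B C) ≤ LinearMap.ker Φ := by
    intro z hz
    rw [LinearMap.mem_ker, hΦ, LinearMap.sub_apply, sub_eq_zero]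
    show rX (X.baseChangeToMiddle A z) = rY (Y.baseChangeToMiddle A z)
    rw [← hXχ ⟨z, hz⟩, ← hYχ ⟨z, hz⟩, ExalLib.retraction_deltaL X hrX,
      ExalLib.retraction_deltaL Y hrY]
  let Φ' : LinearMap.range (KaehlerDifferential.mapBaseChange A B C) →ₗ[C] L :=
    ((LinearMap.ker (KaehlerDifferential.mapBaseChange A B C)).liftQ Φ hker) ∘ₗ
      (LinearMap.quotKerEquivRange (KaehlerDifferential.mapBaseChange A B C)).symm.toLinearMap
  have hψ : ∃ ψ : Ω[C⁄A] →ₗ[C] L,
      ∀ x, ψ (KaehlerDifferential.mapBaseChange A B C x) = Φ x := by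
    have hΦ' : ∀ x, Φ' ⟨_, LinearMap.mem_range_self _ x⟩ = Φ x := fun x => by
      show Submodule.liftQ _ Φ hker ((LinearMap.quotKerEquivRange _).symm _) = _
      rw [LinearMap.quotKerEquivRange_symm_apply_image]
      rfl
    suffices h' : ∃ ψ : Ω[C⁄A] →ₗ[C] L,
        ψ ∘ₗ (LinearMap.range (KaehlerDifferential.mapBaseChange A B C)).subtype = Φ' by
      obtain ⟨ψ, hψ⟩ := h'
      exact ⟨ψ, fun x => (LinearMap.congr_fun hψ ⟨_, LinearMap.mem_range_self _ x⟩).trans (hΦ' x)⟩
    rcases h with h | ⟨-, σ, hσ⟩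
    · obtain ⟨ψ, hψ⟩ := h.out _ (Submodule.subtype_injective _) Φ'
      exact ⟨ψ, LinearMap.ext hψ⟩
    · have hmem : ∀ ω, ω - σ (KaehlerDifferential.map A B C C ω) ∈
          LinearMap.range (KaehlerDifferential.mapBaseChange A B C) := fun ω =>
        (KaehlerDifferential.exact_mapBaseChange_map A B C _).1 (by rw [map_sub, hσ, sub_self])
      refine ⟨Φ' ∘ₗ LinearMap.codRestrict _
        (LinearMap.id - σ ∘ₗ KaehlerDifferential.map A B C C) hmem, ?_⟩
      ext ⟨ω, x, rfl⟩
      rw [LinearMap.comp_apply, LinearMap.comp_apply]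
      congr 1
      apply Subtype.ext
      show KaehlerDifferential.mapBaseChange A B C x -
        σ (KaehlerDifferential.map A B C C (KaehlerDifferential.mapBaseChange A B C x)) = _
      rw [(KaehlerDifferential.exact_mapBaseChange_map A B C).apply_apply_eq_zero, map_zero,
        sub_zero]
  obtain ⟨ψ, hψ⟩ := hψ
  have hd : ∀ b : B, ExalLib.secComp X s hs (algebraMap B X.E b) - ExalLib.secComp Y t ht (algebraMap B Y.E b) = ψ (KaehlerDifferential.D A C (algebraMap B C b)) := by
    intro b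
    have h1 := hψ ((1 : C) ⊗ₜ[B] KaehlerDifferential.D A B b)
    rw [KaehlerDifferential.mapBaseChange_tmul, one_smul, KaehlerDifferential.map_D, hΦ,
      LinearMap.sub_apply, ExalLib.liftFun_tmul_D X hrX, ExalLib.liftFun_tmul_D Y hrY, one_smul,
      one_smul] at h1
    exact h1.symm
  let u : X.E →+ L :=
    { toFun := fun x => ExalLib.secComp X s hs x - ψ (KaehlerDifferential.D A C (X.proj x))
      map_zero' := by simp
      map_add' := fun x y => by simp only [map_add]; abel }
  refine ExalLib.nonempty_equiv_of_data X Y t ht u (fun x y => ?_) (fun z => ?_) (fun b => ?_)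
  · dsimp only [u, AddMonoidHom.coe_mk, ZeroHom.coe_mk]
    rw [ExalLib.secComp_mul X s hs, map_mul X.proj, Derivation.leibniz, map_add, map_smul, map_smul,
      smul_sub, smul_sub]
    abel
  · dsimp only [u, AddMonoidHom.coe_mk, ZeroHom.coe_mk]
    rw [ExalLib.secComp_incl X s hs, ExalLib.proj_incl, map_zero, map_zero, sub_zero]
  · dsimp only [u, AddMonoidHom.coe_mk, ZeroHom.coe_mk]
    rw [AlgHom.commutes, ← hd, sub_sub_cancel, ExalLib.incl_secComp Y t ht, AlgHom.commutes]
    abel

end Groth.Agent.S5822
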