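import Groth.Statements.S5823
import Mathlib
import Groth.Agent.ExalLib.Basic

set_option autoImplicit false
universe u v
open scoped TensorProduct
open EGA41

namespace Groth.Agent.S5823

/-- Surjectivity. For ring maps A → B → C and a C-module L, assume (i) L is an injective C-module, or
(ii) Υ_{C/B/A} is a direct summand of C ⊗_B Ω_{B/A} and Ω_{C/A} → Ω_{C/B} has a right inverse. Then
every C-linear map Υ_{C/B/A} → L is the characteristic homomorphism of an A-trivial B-extension of C
by L. -/
theorem result {A : Type u} {B C L : Type v} [CommRing A] [CommRing B] [CommRing C]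
    [Algebra A B] [Algebra B C] [Algebra A C] [IsScalarTower A B C] [AddCommGroup L] [Module C L]
    (h : Module.Injective C L ∨
      ((∃ r : C ⊗[B] Ω[B⁄A] →ₗ[C] ↥(EGA41.imperfection A B C), ∀ z : ↥(EGA41.imperfection A B C), r z = z) ∧
        ∃ s : Ω[C⁄B] →ₗ[C] Ω[C⁄A], ∀ ω : Ω[C⁄B], KaehlerDifferential.map A B C C (s ω) = ω))
    (χ : ↥(EGA41.imperfection A B C) →ₗ[C] L) :
    ∃ X : Exal.Ext B C L, X.IsTrivialOver A ∧ X.IsCharHom A χ := by
  open scoped TensorProduct in
  obtain ⟨Φ, hΦ⟩ : ∃ Φ : C ⊗[B] Ω[B⁄A] →ₗ[C] L, ∀ z : EGA41.imperfection A B C, Φ z = χ z := by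
    rcases h with h | ⟨⟨r, hr⟩, -⟩
    · obtain ⟨Φ, hΦ⟩ := h.out _ (Submodule.subtype_injective _) χ
      exact ⟨Φ, hΦ⟩
    · exact ⟨χ.comp r, fun z => by rw [LinearMap.comp_apply, hr]⟩
  letI : Module B L := Module.compHom L (algebraMap B C)
  haveI : IsScalarTower B C L := ⟨fun b c z => by
    show (b • c) • z = algebraMap B C b • c • z
    rw [Algebra.smul_def, mul_smul]⟩
  letI : Module A L := Module.compHom L (algebraMap A C)
  haveI : IsScalarTower A B L := ⟨fun a b z => by
    show algebraMap B C (a • b) • z = algebraMap A C a • algebraMap B C b • z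
    rw [Algebra.smul_def, map_mul, ← IsScalarTower.algebraMap_apply, mul_smul]⟩
  open scoped TensorProduct in
  let Ψ : Ω[B⁄A] →ₗ[B] L :=
    { toFun := fun ω => Φ ((1 : C) ⊗ₜ[B] ω)
      map_add' := fun x y => by rw [TensorProduct.tmul_add, map_add]
      map_smul' := fun b x => by
        rw [TensorProduct.tmul_smul, ← algebraMap_smul C b, map_smul, algebraMap_smul,
          RingHom.id_apply] }
  let D : Derivation A B L := Ψ.compDer (KaehlerDifferential.D A B)
  let X := Exal.Ext.ofDerivation (C := C) D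
  letI := Exal.opModule C L
  haveI := Exal.isCentralScalar_opModule C L
  let s : C →+* X.E := TrivSqZeroExt.inlHom C L
  have hs : ∀ c, X.proj (s c) = c := fun c => rfl
  have ha : ∀ a, s (algebraMap A C a) = algebraMap B X.E (algebraMap A B a) := by
    intro a
    show TrivSqZeroExt.inl _ =
      TrivSqZeroExt.inl (algebraMap B C (algebraMap A B a)) + TrivSqZeroExt.inr (D (algebraMap A B a))
    rw [Derivation.map_algebraMap, TrivSqZeroExt.inr_zero, add_zero, ← IsScalarTower.algebraMap_apply]
  obtain ⟨r, hr⟩ := ExalLib.exists_retraction X s hs ha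
  refine ⟨X, (ExalLib.isTrivialOver_iff_exists X).2 ⟨s, hs, ha⟩, ?_⟩
  convert ExalLib.isCharHom_liftFun X (ExalLib.retraction_deltaL X hr) using 1
  suffices hsuff : ExalLib.liftFun X r = Φ by
    ext z
    rw [LinearMap.domRestrict_apply, hsuff, hΦ]
  open scoped TensorProduct in
  apply LinearMap.toAddMonoidHom_injective
  refine ExalLib.addHom_ext_tmul_D fun c b => ?_
  rw [LinearMap.toAddMonoidHom_coe, LinearMap.toAddMonoidHom_coe, ExalLib.liftFun_tmul_D X hr]
  have hsec : ExalLib.secComp X s hs (algebraMap B X.E b) = D b := by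
    apply X.isExtension.incl_injective
    rw [ExalLib.incl_secComp, AlgHom.commutes]
    show (TrivSqZeroExt.inl (algebraMap B C b) + TrivSqZeroExt.inr (D b) : TrivSqZeroExt C L) -
      TrivSqZeroExt.inl (algebraMap B C b) = TrivSqZeroExt.inr (D b)
    abel
  rw [hsec]
  show c • Φ ((1 : C) ⊗ₜ[B] KaehlerDifferential.D A B b) = _
  rw [← map_smul, TensorProduct.smul_tmul', smul_eq_mul, mul_one]

end Groth.Agent.S5823
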