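import Groth.Statements.S5824
import Mathlib
import Groth.Agent.ExalLib.Basic
import Groth.Agent.S5822
import Groth.Agent.S5823

set_option autoImplicit false
universe u v
open EGA41

namespace Groth.Agent.S5824

/-- For ring maps A → B → C with C formally smooth over A (discrete topologies) and Ω_{C/B} a projective
C-module, and a C-module L, the characteristic homomorphism is a bijection from the classes of all
B-extensions of C by L (each of which is A-trivial) onto Hom_C(Υ_{C/B/A}, L): injectivity on classes
and surjectivity. -/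
theorem result {A : Type u} {B C L : Type v} [CommRing A] [CommRing B] [CommRing C]
    [Algebra A B] [Algebra B C] [Algebra A C] [IsScalarTower A B C] [AddCommGroup L] [Module C L]
    [Algebra.FormallySmooth A C] [Module.Projective C Ω[C⁄B]] :
    (∀ (X Y : Exal.Ext B C L) (χ : ↥(EGA41.imperfection A B C) →ₗ[C] L),
        X.IsCharHom A χ → Y.IsCharHom A χ → Nonempty (X.Equiv Y)) ∧
      ∀ χ : ↥(EGA41.imperfection A B C) →ₗ[C] L, ∃ X : Exal.Ext B C L, X.IsCharHom A χ := by
  open scoped TensorProduct in
  obtain ⟨s, hs⟩ := Module.projective_lifting_property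
    (KaehlerDifferential.map A B C C) (LinearMap.id : Ω[C⁄B] →ₗ[C] Ω[C⁄B])
    (KaehlerDifferential.map_surjective A B C)
  have hs' : ∀ ω, KaehlerDifferential.map A B C C (s ω) = ω := LinearMap.congr_fun hs
  have hmem : ∀ ω, ω - s (KaehlerDifferential.map A B C C ω) ∈
      LinearMap.range (KaehlerDifferential.mapBaseChange A B C) := fun ω =>
    (KaehlerDifferential.exact_mapBaseChange_map A B C _).1 (by rw [map_sub, hs', sub_self])
  obtain ⟨τ, hτ⟩ := Module.projective_lifting_property
    (KaehlerDifferential.mapBaseChange A B C).rangeRestrict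
    (LinearMap.codRestrict _ (LinearMap.id - s ∘ₗ KaehlerDifferential.map A B C C) hmem)
    (LinearMap.surjective_rangeRestrict _)
  have hτ' : ∀ ω, KaehlerDifferential.mapBaseChange A B C (τ ω) =
      ω - s (KaehlerDifferential.map A B C C ω) :=
    fun ω => congrArg Subtype.val (LinearMap.congr_fun hτ ω)
  have hsum : ∃ r : C ⊗[B] Ω[B⁄A] →ₗ[C] ↥(EGA41.imperfection A B C),
      ∀ z : ↥(EGA41.imperfection A B C), r z = z := by
    refine ⟨LinearMap.codRestrict _ (LinearMap.id - τ ∘ₗ KaehlerDifferential.mapBaseChange A B C)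
      fun z => ?_, fun z => ?_⟩
    · show KaehlerDifferential.mapBaseChange A B C
        (z - τ (KaehlerDifferential.mapBaseChange A B C z)) = 0
      rw [map_sub, hτ', (KaehlerDifferential.exact_mapBaseChange_map A B C).apply_apply_eq_zero,
        map_zero, sub_zero, sub_self]
    · apply Subtype.ext
      show (z : C ⊗[B] Ω[B⁄A]) - τ (KaehlerDifferential.mapBaseChange A B C z) = _
      rw [LinearMap.mem_ker.mp z.2, map_zero, sub_zero]
  refine ⟨fun X Y χ hX hY => S5822.result (.inr ⟨hsum, s, hs'⟩) X Y
    (ExalLib.isTrivialOver_of_formallySmooth X) (ExalLib.isTrivialOver_of_formallySmooth Y) χ hX hY,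
    fun χ => ?_⟩
  obtain ⟨X, -, hX⟩ := S5823.result (L := L) (.inr ⟨hsum, s, hs'⟩) χ
  exact ⟨X, hX⟩

end Groth.Agent.S5824
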