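import Mathlib
import Groth.Statements.S5825
-- import your own Groth.Agent.* helpers here

set_option autoImplicit false
universe u v w
open EGA41

namespace Groth.Agent.S5825

/-- Let A be a topological ring, M, N topological A-modules with the topologies deduced from that of A,
and u : M → N a continuous linear map with dense image (a formal epimorphism). Then u is a formal
bimorphism (dense image and inducing) if and only if, for every open ideal J of A, the induced map
M/JM → N/JN is bijective (injectivity and surjectivity are written out elementwise). -/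
theorem result {A : Type u} {M : Type v} {N : Type w} [CommRing A]
    [TopologicalSpace A] [AddCommGroup M] [Module A M] [TopologicalSpace M] [AddCommGroup N] [Module A N]
    [TopologicalSpace N] (hM : TopMod.IsDeduced A M) (hN : TopMod.IsDeduced A N) (u : M →L[A] N)
    (hu : DenseRange u) :
    IsDenseInducing u ↔
      ∀ J : Ideal A, IsOpen (J : Set A) →
        (∀ x : M, u x ∈ (J • ⊤ : Submodule A N) → x ∈ (J • ⊤ : Submodule A M)) ∧
          ∀ y : N, ∃ x : M, y - u x ∈ (J • ⊤ : Submodule A N) := by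
  haveI := hM.1
  haveI := hN.1
  have hopen : ∀ J : Ideal A, IsOpen (J : Set A) → IsOpen ((J • ⊤ : Submodule A N) : Set N) := fun J hJ =>
    AddSubgroup.isOpen_of_mem_nhds (J • ⊤ : Submodule A N).toAddSubgroup (hN.2.mem_iff.2 ⟨J, hJ, subset_rfl⟩)
  have hsurj : ∀ J : Ideal A, IsOpen (J : Set A) → ∀ y : N, ∃ x : M, y - u x ∈ (J • ⊤ : Submodule A N) := by
    intro J hJ y
    obtain ⟨x, hx⟩ := hu.exists_mem_open (s := (fun z => y - z) ⁻¹' ((J • ⊤ : Submodule A N) : Set N))
      ((hopen J hJ).preimage (continuous_const.sub continuous_id)) ⟨y, by simp⟩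
    exact ⟨x, hx⟩
  constructor
  · intro h J hJ
    refine ⟨fun x hx => ?_, hsurj J hJ⟩
    have hmem : ((J • ⊤ : Submodule A M) : Set M) ∈ nhds (0 : M) := hM.2.mem_iff.2 ⟨J, hJ, subset_rfl⟩
    rw [h.isInducing.nhds_eq_comap, map_zero, Filter.mem_comap] at hmem
    obtain ⟨U, hU, hUJ⟩ := hmem
    obtain ⟨J', hJ', hJ'U⟩ := hN.2.mem_iff.1 hU
    -- every element of `J N` is in `u (J M) + J' N`
    have key : (J • ⊤ : Submodule A N) ≤ (J • ⊤ : Submodule A M).map u.toLinearMap ⊔ J' • ⊤ := by
      refine Submodule.smul_le.2 fun a ha y _ => ?_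
      obtain ⟨z, hz⟩ := hsurj J' hJ' y
      rw [show a • y = u (a • z) + a • (y - u z) by rw [map_smul, smul_sub]; abel]
      exact Submodule.add_mem_sup ⟨_, Submodule.smul_mem_smul ha trivial, rfl⟩ (Submodule.smul_mem _ _ hz)
    obtain ⟨_, ⟨m, hm, rfl⟩, r, hr, he⟩ := Submodule.mem_sup.1 (key hx)
    have h1 : x - m ∈ (J • ⊤ : Submodule A M) := hUJ (hJ'U (by
      show u (x - m) ∈ (J' • ⊤ : Submodule A N)
      rw [map_sub, ← he]
      simpa using hr))
    simpa using add_mem h1 hm
  · intro h
    refine ⟨IsTopologicalAddGroup.isInducing_iff_nhds_zero.2 ?_, hu⟩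
    refine le_antisymm ?_ ?_
    · exact (u.continuous.tendsto' 0 0 (map_zero u)).le_comap
    · intro U hU
      obtain ⟨J, hJ, hJU⟩ := hM.2.mem_iff.1 hU
      exact Filter.mem_comap.2 ⟨_, hN.2.mem_iff.2 ⟨J, hJ, subset_rfl⟩, fun x hx => hJU ((h J hJ).1 x hx)⟩

end Groth.Agent.S5825
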