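import Groth.Statements.S5828
import Mathlib

set_option autoImplicit false
universe u v
open EGA41

namespace Groth.Agent.S5828

/-- Commutative case. For an A-extension X of C by a C-module L, with middle ring E, projection p and
inclusion i, the A-derivations D : C → L and the self-equivalences of X correspond under D ↦ (x ↦ x
+ i (D (p x))): every derivation defines a self-equivalence with this formula, and every
self-equivalence is of this form for exactly one derivation. (Bijection of sets; the published
statement also records compatibility with the group laws.) -/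
theorem result {A : Type u} {C L : Type v} [CommRing A] [CommRing C] [Algebra A C]
    [AddCommGroup L] [Module C L] [Module A L] [IsScalarTower A C L] (X : Exal.Ext A C L) :
    (∀ D : Derivation A C L, ∃ e : X.Equiv X, ∀ x : X.E, e.toAlgEquiv x = x + X.incl (D (X.proj x))) ∧
      ∀ e : X.Equiv X, ∃! D : Derivation A C L, ∀ x : X.E, e.toAlgEquiv x = x + X.incl (D (X.proj x)) := by
  have hp0 : ∀ z, X.proj (X.incl z) = 0 := fun z => (X.isExtension.exact _).2 ⟨z, rfl⟩
  have hsq : ∀ z w, X.incl z * X.incl w = 0 := fun z w => by
    rw [X.isExtension.mul_incl, hp0, zero_smul, map_zero]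
  have halg : ∀ (a : A) (z : L), X.incl (a • z) = algebraMap A X.E a * X.incl z := fun a z => by
    rw [X.isExtension.mul_incl, AlgHom.commutes, algebraMap_smul]
  refine ⟨fun D => ?_, fun e => ?_⟩
  · let F : X.E →ₐ[A] X.E :=
      { toFun := fun x => x + X.incl (D (X.proj x))
        map_one' := by simp
        map_zero' := by simp
        map_add' := fun x y => by simp only [map_add]; abel
        map_mul' := fun x y => by
          simp only [map_mul, Derivation.leibniz, map_add]
          rw [add_mul, mul_add, mul_add, hsq, add_zero, X.isExtension.mul_incl x,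
            mul_comm (X.incl _) y, X.isExtension.mul_incl y]
          abel
        commutes' := fun a => by simp }
    let G : X.E →ₐ[A] X.E :=
      { toFun := fun x => x - X.incl (D (X.proj x))
        map_one' := by simp
        map_zero' := by simp
        map_add' := fun x y => by simp only [map_add]; abel
        map_mul' := fun x y => by
          simp only [map_mul, Derivation.leibniz, map_add]
          rw [sub_mul, mul_sub, mul_sub, hsq, sub_zero, X.isExtension.mul_incl x,
            mul_comm (X.incl _) y, X.isExtension.mul_incl y]
          abel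
        commutes' := fun a => by simp }
    have h1 : F.comp G = AlgHom.id A _ := AlgHom.ext fun x => by
      show (x - X.incl _) + X.incl (D (X.proj (x - X.incl _))) = x
      rw [map_sub, hp0, sub_zero]; abel
    have h2 : G.comp F = AlgHom.id A _ := AlgHom.ext fun x => by
      show (x + X.incl _) - X.incl (D (X.proj (x + X.incl _))) = x
      rw [map_add, hp0, add_zero]; abel
    refine ⟨⟨AlgEquiv.ofAlgHom F G h1 h2, fun x => ?_, fun z => ?_⟩, fun x => rfl⟩
    · show X.proj (x + X.incl _) = _
      rw [map_add, hp0, add_zero]
    · show X.incl z + X.incl (D (X.proj (X.incl z))) = _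
      rw [hp0, map_zero, map_zero, add_zero]
  · have h : ∀ x, ∃ z, e.toAlgEquiv x - x = X.incl z := fun x => by
      obtain ⟨z, hz⟩ := (X.isExtension.exact _).1 (show X.proj (e.toAlgEquiv x - x) = 0 by
        rw [map_sub, e.proj_apply, sub_self])
      exact ⟨z, hz.symm⟩
    choose δ hδ using h
    choose σ hσ using X.isExtension.proj_surjective
    have hδp : ∀ x, δ x = δ (σ (X.proj x)) := fun x => X.isExtension.incl_injective (by
      obtain ⟨z, hz⟩ := (X.isExtension.exact (x - σ (X.proj x))).1 (by rw [map_sub, hσ, sub_self])
      have hx : x = σ (X.proj x) + X.incl z := by rw [hz]; abel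
      rw [← hδ, ← hδ]
      conv_lhs => rw [hx, map_add, e.apply_incl]
      abel)
    have hadd : ∀ x y, δ (x + y) = δ x + δ y := fun x y => X.isExtension.incl_injective (by
      rw [map_add, ← hδ, ← hδ, ← hδ, map_add]; abel)
    have hmul : ∀ x y, δ (x * y) = X.proj x • δ y + X.proj y • δ x := fun x y => X.isExtension.incl_injective (by
      rw [map_add, ← X.isExtension.mul_incl, ← X.isExtension.mul_incl, ← hδ, map_mul,
        show e.toAlgEquiv x = x + X.incl (δ x) by rw [← hδ]; abel,
        show e.toAlgEquiv y = y + X.incl (δ y) by rw [← hδ]; abel, add_mul, mul_add, mul_add, hsq, add_zero,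
        mul_comm (X.incl (δ x)) y]
      abel)
    have hsmul : ∀ (a : A) x, δ (a • x) = a • δ x := fun a x => X.isExtension.incl_injective (by
      rw [halg, ← hδ, ← hδ, map_smul, mul_sub, Algebra.smul_def, Algebra.smul_def])
    let L0 : C →ₗ[A] L :=
      { toFun := fun c => δ (σ c)
        map_add' := fun c d => by
          rw [show δ (σ (c + d)) = δ (σ c + σ d) by rw [hδp (σ c + σ d), map_add, hσ, hσ], hadd]
        map_smul' := fun a c => by
          rw [RingHom.id_apply, show δ (σ (a • c)) = δ (a • σ c) by rw [hδp (a • σ c), map_smul, hσ], hsmul] }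
    let D : Derivation A C L := Derivation.mk' L0 fun c d => by
      show δ (σ (c * d)) = c • δ (σ d) + d • δ (σ c)
      rw [show δ (σ (c * d)) = δ (σ c * σ d) by rw [hδp (σ c * σ d), map_mul, hσ, hσ], hmul, hσ, hσ]
    refine ⟨D, fun x => ?_, fun D' hD' => ?_⟩
    · show _ = x + X.incl (δ (σ (X.proj x)))
      rw [← hδp, ← hδ]; abel
    · ext c
      refine X.isExtension.incl_injective ?_
      show X.incl (D' c) = X.incl (δ (σ c))
      rw [← hδ, hD', hσ]; abel

end Groth.Agent.S5828
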