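import Groth.Statements.S5830
import Mathlib
import Groth.Agent.ExalLib.Hochschild

set_option autoImplicit false
universe u v
open EGA41

namespace Groth.Agent.S5830

/-- Discrete case. If B is a formally smooth A-algebra then, for every B-module L, every A-bilinear
symmetric Hochschild 2-cocycle f : B × B → L (f(xy, z) + z f(x, y) = x f(y, z) + f(x, yz)) is a
Hochschild 2-coboundary: f(x, y) = x g(y) − g(xy) + y g(x) for some A-linear g : B → L. (The
published statement is for topological algebras and open ideals; this row is its discrete case.) -/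
theorem result {A : Type u} {B : Type v} [CommRing A] [CommRing B]
    [Algebra A B] [Algebra.FormallySmooth A B] {L : Type v} [AddCommGroup L] [Module B L] [Module A L]
    [IsScalarTower A B L] (f : B →ₗ[A] B →ₗ[A] L) (hsymm : ∀ x y : B, f x y = f y x)
    (hcoc : ∀ x y z : B, f (x * y) z + z • f x y = x • f y z + f x (y * z)) :
    ∃ g : B →ₗ[A] L, ∀ x y : B, f x y = x • g y - g (x * y) + y • g x := by
  let c : ExalLib.Cocycle A B L := ⟨f, hsymm, hcoc⟩
  let X := ExalLib.twistExt c
  have hker : RingHom.ker (X.proj : X.E →+* B) ^ 2 = ⊥ := by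
    rw [pow_two, eq_bot_iff, Ideal.mul_le]
    intro x hx y hy
    obtain ⟨z, rfl⟩ := ExalLib.exists_incl_eq X hx
    obtain ⟨z', rfl⟩ := ExalLib.exists_incl_eq X hy
    rw [Ideal.mem_bot, ExalLib.incl_mul_incl]
  let s : B →ₐ[A] ExalLib.TwistCarrier c :=
    Algebra.FormallySmooth.liftOfSurjective (AlgHom.id A B) X.proj
      X.isExtension.proj_surjective ⟨2, hker⟩
  have hs : ∀ b, (s b).1 = b := fun b =>
    Algebra.FormallySmooth.liftOfSurjective_apply (AlgHom.id A B) X.proj _ _ b
  have hsm : ∀ (a : A) (b : B), (s (a • b)).2 = a • (s b).2 := fun a b => by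
    have h1 : f 1 b = b • f 1 1 := ExalLib.TwistCarrier.f_one_left (c := c) b
    rw [Algebra.smul_def, map_mul, AlgHom.commutes, ExalLib.TwistCarrier.mul_snd, hs]
    show algebraMap A B a • (s b).2 + b • -(a • f 1 1) + f (algebraMap A B a) b = _
    rw [algebraMap_smul, Algebra.algebraMap_eq_smul_one, map_smul, LinearMap.smul_apply, h1,
      smul_neg, smul_comm b a]
    abel
  refine ⟨{ toFun := fun b => -(s b).2
            map_add' := fun x y => by
              rw [map_add]
              exact (congrArg Neg.neg rfl).trans (neg_add (s x).2 (s y).2)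
            map_smul' := fun a x => by rw [hsm, RingHom.id_apply, smul_neg] }, fun x y => ?_⟩
  have h : (s (x * y)).2 = x • (s y).2 + y • (s x).2 + f x y := by
    rw [map_mul, ExalLib.TwistCarrier.mul_snd, hs, hs]
  show f x y = x • -(s y).2 - -(s (x * y)).2 + y • -(s x).2
  rw [h, smul_neg, smul_neg]
  abel

end Groth.Agent.S5830
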