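import Groth.Statements.S5831
import Mathlib
import Groth.Agent.ExalLib.Basic
import Groth.Agent.S5815

set_option autoImplicit false
universe u
open EGA41

namespace Groth.Agent.S5831

/-- Discrete case. Let B be an A-algebra which is a projective A-module (A and B in one universe). If
for every B-module L in that universe every A-bilinear symmetric Hochschild 2-cocycle B × B → L is a
coboundary, then B is formally smooth over A. (The published statement assumes B formally projective
as a topological A-module; for discrete rings this is projectivity.) -/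
theorem result {A B : Type u} [CommRing A]
    [CommRing B] [Algebra A B] [Module.Projective A B]
    (h : ∀ (L : Type u) [AddCommGroup L] [Module B L] [Module A L] [IsScalarTower A B L]
      (f : B →ₗ[A] B →ₗ[A] L), (∀ x y : B, f x y = f y x) →
        (∀ x y z : B, f (x * y) z + z • f x y = x • f y z + f x (y * z)) →
          ∃ g : B →ₗ[A] L, ∀ x y : B, f x y = x • g y - g (x * y) + y • g x) :
    Algebra.FormallySmooth A B := by
  refine (S5815.result A B).2 fun L _ _ X => ?_
  letI : Module A L := Module.compHom L (algebraMap A B)
  haveI : IsScalarTower A B L := ⟨fun a b z => by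
    show (a • b) • z = algebraMap A B a • b • z
    rw [Algebra.smul_def, mul_smul]⟩
  obtain ⟨σ, hσ⟩ := Module.projective_lifting_property X.proj.toLinearMap
    (LinearMap.id : B →ₗ[A] B) X.isExtension.proj_surjective
  have hσ' : ∀ b, X.proj (σ b) = b := LinearMap.congr_fun hσ
  have hex : ∀ x y : B, ∃ z : L, X.incl z = σ x * σ y - σ (x * y) := fun x y =>
    ExalLib.exists_incl_eq X (by rw [map_sub, map_mul, hσ', hσ', hσ', sub_self])
  choose F hF using hex
  have hincl : ∀ (a : A) (z : L), X.incl (a • z) = a • X.incl z := fun a z => by
    rw [Algebra.smul_def, X.isExtension.mul_incl, AlgHom.commutes, algebraMap_smul]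
  let f : B →ₗ[A] B →ₗ[A] L := LinearMap.mk₂ A F
    (fun x x' y => X.isExtension.incl_injective (by
      rw [map_add, hF, hF, hF, map_add, add_mul, add_mul, map_add]
      abel))
    (fun a x y => X.isExtension.incl_injective (by
      rw [hincl, hF, hF, map_smul, smul_mul_assoc, smul_mul_assoc, map_smul, smul_sub]))
    (fun x y y' => X.isExtension.incl_injective (by
      rw [map_add, hF, hF, hF, map_add, mul_add, mul_add, map_add]
      abel))
    (fun a x y => X.isExtension.incl_injective (by
      rw [hincl, hF, hF, map_smul, mul_smul_comm, mul_smul_comm, map_smul, smul_sub]))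
  have hf : ∀ x y, X.incl (f x y) = σ x * σ y - σ (x * y) := hF
  have hsm : ∀ (b : B) (z : L), X.incl (b • z) = σ b * X.incl z := fun b z => by
    rw [X.isExtension.mul_incl, hσ']
  obtain ⟨g, hg⟩ := h L f
    (fun x y => X.isExtension.incl_injective (by rw [hf, hf, mul_comm x y, mul_comm (σ x)]))
    (fun x y z => X.isExtension.incl_injective (by
      rw [map_add, map_add, hsm, hsm, hf, hf, hf, hf, mul_assoc x y z]
      ring))
  let τ : B →ₗ[A] X.E :=
    { toFun := fun b => σ b - X.incl (g b)
      map_add' := fun x y => by
        rw [map_add, map_add, map_add]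
        abel
      map_smul' := fun a x => by
        rw [map_smul, map_smul, hincl, RingHom.id_apply, smul_sub] }
  have hp : ∀ b, X.proj (τ b) = b := fun b => by
    show X.proj (σ b - X.incl (g b)) = b
    rw [map_sub, hσ', ExalLib.proj_incl, sub_zero]
  have hm : ∀ x y, τ (x * y) = τ x * τ y := fun x y => by
    have h1 := congrArg X.incl (hg x y)
    rw [map_add, map_sub, hsm, hsm, hf] at h1
    have h2 := ExalLib.incl_mul_incl X (g x) (g y)
    show σ (x * y) - X.incl (g (x * y)) = (σ x - X.incl (g x)) * (σ y - X.incl (g y))
    linear_combination (norm := ring) -h1 - h2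
  have h1 : τ 1 = 1 := by
    obtain ⟨z, hz⟩ := ExalLib.exists_incl_eq X (x := τ 1 - 1)
      (by rw [map_sub, hp, map_one, sub_self])
    have he : τ 1 * τ 1 = τ 1 := by rw [← hm, mul_one]
    have hzz := ExalLib.incl_mul_incl X z z
    have hτ : τ 1 = 1 + X.incl z := by rw [hz]; abel
    rw [hτ] at he ⊢
    linear_combination (norm := ring) he - hzz
  exact ⟨AlgHom.ofLinearMap τ h1 hm, hp⟩

end Groth.Agent.S5831
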