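import Groth.Statements.S5832
import Mathlib
import Groth.Agent.ExalLib.Basic

set_option autoImplicit false
universe u u' v
open EGA41

namespace Groth.Agent.S5832

/-- Surjectivity at the end of the sequence. For ring maps Λ → A → B → C and a C-module L, every
Λ-trivial A-extension of B by L is equivalent to the inverse image along B → C of a Λ-trivial
A-extension of C by L. (Exactness at the other places is that of the six-term derivation-extension
sequence restricted to Λ-trivial classes.) -/
theorem result {Λ : Type u} {A : Type u'} {B C L : Type v}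
    [CommRing Λ] [CommRing A] [CommRing B] [CommRing C] [Algebra Λ A] [Algebra Λ B] [Algebra Λ C]
    [Algebra A B] [Algebra B C] [Algebra A C] [IsScalarTower Λ A B] [IsScalarTower Λ A C] [IsScalarTower A B C]
    [AddCommGroup L] [Module C L] [Module B L] [IsScalarTower B C L]
    (Y : Exal.Ext A B L) (hY : Y.IsTrivialOver Λ) :
    ∃ X : Exal.Ext A C L, X.IsTrivialOver Λ ∧ Nonempty ((X.pullback B).Equiv Y) := by
  obtain ⟨s, hs, ha⟩ := (ExalLib.isTrivialOver_iff_exists Y).1 hY
  letI := Exal.opModule C L
  haveI := Exal.isCentralScalar_opModule C L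
  have hD0 : ∀ l, ExalLib.secComp Y s hs (algebraMap A Y.E (algebraMap Λ A l)) = 0 := fun l => by
    rw [← ha, ExalLib.secComp_section Y s hs]
  let φ : A →+* TrivSqZeroExt C L :=
    { toFun := fun a => TrivSqZeroExt.inl (algebraMap A C a) +
        TrivSqZeroExt.inr (ExalLib.secComp Y s hs (algebraMap A Y.E a))
      map_one' := by
        have h := ExalLib.secComp_mul Y s hs 1 1
        rw [mul_one, map_one Y.proj, one_smul, left_eq_add] at h
        rw [map_one, map_one, h, TrivSqZeroExt.inr_zero, add_zero, TrivSqZeroExt.inl_one]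
      map_mul' := fun x y => by
        rw [map_mul (algebraMap A Y.E), ExalLib.secComp_mul Y s hs, AlgHom.commutes, AlgHom.commutes]
        apply TrivSqZeroExt.ext
        · simp
        · simp [← IsScalarTower.algebraMap_smul C (algebraMap A B _),
            ← IsScalarTower.algebraMap_apply, add_comm]
      map_zero' := by simp
      map_add' := fun x y => by
        rw [map_add, map_add, map_add, TrivSqZeroExt.inl_add, TrivSqZeroExt.inr_add]
        abel }
  letI : Algebra A (TrivSqZeroExt C L) := φ.toAlgebra
  let p : TrivSqZeroExt C L →ₐ[A] C :=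
    { (TrivSqZeroExt.fstHom ℕ C L).toRingHom with
      commutes' := fun a => by
        show TrivSqZeroExt.fst (φ a) = algebraMap A C a
        simp [φ] }
  let X : Exal.Ext A C L :=
    { E := TrivSqZeroExt C L
      proj := p
      incl := (TrivSqZeroExt.inrHom C L).toAddMonoidHom
      isExtension :=
        { proj_surjective := fun c => ⟨TrivSqZeroExt.inl c, rfl⟩
          incl_injective := TrivSqZeroExt.inr_injective
          exact := fun x =>
            ⟨fun hx => ⟨TrivSqZeroExt.snd x, TrivSqZeroExt.ext hx.symm rfl⟩,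
              by rintro ⟨z, rfl⟩; rfl⟩
          mul_incl := fun x z => by
            show x * TrivSqZeroExt.inr z = TrivSqZeroExt.inr (TrivSqZeroExt.fst x • z)
            apply TrivSqZeroExt.ext <;> simp } }
  refine ⟨X, (ExalLib.isTrivialOver_iff_exists X).2
    ⟨TrivSqZeroExt.inlHom C L, fun c => rfl, fun l => ?_⟩, ?_⟩
  · show TrivSqZeroExt.inl (algebraMap Λ C l) = φ (algebraMap Λ A l)
    simp [φ, hD0, ← IsScalarTower.algebraMap_apply]
  let u : (X.pullback B).E →+ L :=
    AddMonoidHom.mk' (fun x => TrivSqZeroExt.snd (x.1.1 : TrivSqZeroExt C L)) (fun x y => rfl)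
  refine ExalLib.nonempty_equiv_of_data (X.pullback B) Y s hs u (fun x y => ?_) (fun z => rfl)
    (fun a => ?_)
  · show TrivSqZeroExt.snd ((x.1.1 : TrivSqZeroExt C L) * (y.1.1 : TrivSqZeroExt C L)) =
      (x.1.2 : B) • TrivSqZeroExt.snd (y.1.1 : TrivSqZeroExt C L) +
        (y.1.2 : B) • TrivSqZeroExt.snd (x.1.1 : TrivSqZeroExt C L)
    have hx : TrivSqZeroExt.fst (x.1.1 : TrivSqZeroExt C L) = algebraMap B C x.1.2 := x.2
    have hy : TrivSqZeroExt.fst (y.1.1 : TrivSqZeroExt C L) = algebraMap B C y.1.2 := y.2
    rw [TrivSqZeroExt.snd_mul, hx, hy, op_smul_eq_smul, algebraMap_smul, algebraMap_smul]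
  · show algebraMap A Y.E a = s (algebraMap A B a) + Y.incl (TrivSqZeroExt.snd
      (TrivSqZeroExt.inl (algebraMap A C a) +
        TrivSqZeroExt.inr (ExalLib.secComp Y s hs (algebraMap A Y.E a)) : TrivSqZeroExt C L))
    rw [TrivSqZeroExt.snd_add, TrivSqZeroExt.snd_inl, TrivSqZeroExt.snd_inr, zero_add,
      ExalLib.incl_secComp, AlgHom.commutes]
    abel

end Groth.Agent.S5832
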