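import Groth.Statements.S5833
import Mathlib
import Groth.Agent.ExalLib.Basic

set_option autoImplicit false
universe u v
open scoped TensorProduct
open EGA41

namespace Groth.Agent.S5833

/-- Let Λ → A → B be ring maps, K an ideal of B, C = B ⧸ K, and suppose E = B ⧸ K², as an extension of C
by K/K², is Λ-trivial. Let χ : Υ_{C/A/Λ} → K/K² be the characteristic homomorphism of E as an
A-extension, relative to Λ → A. Then: (a) the kernel of χ consists of the elements of Υ_{C/A/Λ} ⊆ C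
⊗_A Ω_{A/Λ} whose image in C ⊗_B Ω_{B/Λ} is zero (that image map is written as the base change to C
of B ⊗_A Ω_{A/Λ} → Ω_{B/Λ}, through the canonical identification C ⊗_B (B ⊗_A Ω_{A/Λ}) = C ⊗_A
Ω_{A/Λ}); (b) the image of χ is the kernel of the conormal map K/K² → C ⊗_B Ω_{B/A}, x ↦ 1 ⊗ dx.
This is the exact sequence 0 → Υ^C_{B/A/Λ} → Υ_{C/A/Λ} → K/K² → C ⊗_B Ω_{B/A} → Ω_{C/A} → 0 up to
its last two (conormal-sequence) terms. -/
theorem result {Λ : Type u} {A B : Type v} [CommRing Λ]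
    [CommRing A] [CommRing B] [Algebra Λ A] [Algebra Λ B] [Algebra A B] [IsScalarTower Λ A B] (K : Ideal B)
    (htriv : ((Exal.Ext.infinitesimal K).restrictBase A).IsTrivialOver Λ)
    (χ : ↥(EGA41.imperfection Λ A (B ⧸ K)) →ₗ[B ⧸ K] K.Cotangent)
    (hχ : ((Exal.Ext.infinitesimal K).restrictBase A).IsCharHom Λ χ) :
    (∀ z : ↥(EGA41.imperfection Λ A (B ⧸ K)),
        χ z = 0 ↔
          ((KaehlerDifferential.mapBaseChange Λ A B).baseChange (B ⧸ K))
              ((TensorProduct.AlgebraTensorModule.cancelBaseChange A B (B ⧸ K) (B ⧸ K) Ω[A⁄Λ]).symm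
                (z : (B ⧸ K) ⊗[A] Ω[A⁄Λ])) = 0) ∧
      ∀ (x : B) (hx : x ∈ K),
        K.toCotangent ⟨x, hx⟩ ∈ LinearMap.range χ ↔
          (1 : B ⧸ K) ⊗ₜ[B] KaehlerDifferential.D A B x = (0 : (B ⧸ K) ⊗[B] Ω[B⁄A]) := by
  open scoped TensorProduct in
  let X := (Exal.Ext.infinitesimal K).restrictBase A
  have hinj : Function.Injective (X.deltaL Λ) := ExalLib.deltaL_injective X htriv
  let E := X.CharCarrier Λ
  letI : Algebra B E := RingHom.toAlgebra (Ideal.Quotient.mk (K ^ 2) : B →+* B ⧸ K ^ 2)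
  haveI : IsScalarTower Λ B E := IsScalarTower.of_algebraMap_eq fun l => by
    show algebraMap B (B ⧸ K ^ 2) (algebraMap A B (algebraMap Λ A l)) =
      algebraMap B (B ⧸ K ^ 2) (algebraMap Λ B l)
    rw [← IsScalarTower.algebraMap_apply Λ A B]
  haveI : IsScalarTower B E (B ⧸ K) := IsScalarTower.of_algebraMap_eq fun b => rfl
  have hq : Function.Surjective (algebraMap B E) := Ideal.Quotient.mk_surjective
  have hker : RingHom.ker (algebraMap B E) ≤ RingHom.ker (algebraMap B (B ⧸ K)) ^ 2 := by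
    intro x hx
    rw [Ideal.Quotient.algebraMap_eq, Ideal.mk_ker]
    exact Ideal.Quotient.eq_zero_iff_mem.mp hx
  obtain ⟨g, hg⟩ := ExalLib.exists_leftInverse_tensor (R := Λ) (P := B) (E := E)
    (S := B ⧸ K) hq hker
  open scoped TensorProduct in
  let LHS : (B ⧸ K) ⊗[A] Ω[A⁄Λ] →ₗ[B ⧸ K] (B ⧸ K) ⊗[B] Ω[B⁄Λ] :=
    ((KaehlerDifferential.mapBaseChange Λ A B).baseChange (B ⧸ K)) ∘ₗ
      (TensorProduct.AlgebraTensorModule.cancelBaseChange A B (B ⧸ K) (B ⧸ K) Ω[A⁄Λ]).symm.toLinearMap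
  have hgb : ∀ t, g (X.baseChangeToMiddle Λ t) = LHS t := fun t =>
    DFunLike.congr_fun (ExalLib.addHom_ext_tmul_D
      (f := g.comp (X.baseChangeToMiddle Λ).toAddMonoidHom) (g := LHS.toAddMonoidHom)
      fun c a => by
        have h1 : algebraMap A (X.CharCarrier Λ) a = algebraMap B E (algebraMap A B a) := rfl
        rw [AddMonoidHom.comp_apply, LinearMap.toAddMonoidHom_coe,
          ExalLib.baseChangeToMiddle_tmul_D, h1, hg, LinearMap.toAddMonoidHom_coe]
        simp [LHS]) t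
  open scoped TensorProduct in
  obtain ⟨f, hf⟩ : ∃ f : (B ⧸ K) ⊗[B] Ω[B⁄Λ] →+ (B ⧸ K) ⊗[E] Ω[E⁄Λ], ∀ (c : B ⧸ K) (x : B),
      f (c ⊗ₜ[B] KaehlerDifferential.D Λ B x) =
        c ⊗ₜ[E] KaehlerDifferential.D Λ E (algebraMap B E x) := by
    refine ⟨TensorProduct.liftAddHom
      (AddMonoidHom.mk' (fun c => AddMonoidHom.mk'
          (fun ω => c ⊗ₜ[E] KaehlerDifferential.map Λ Λ B E ω)
          (fun x y => by rw [map_add, TensorProduct.tmul_add]))
        (fun x y => AddMonoidHom.ext fun ω => TensorProduct.add_tmul x y _))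
      (fun b c ω => by
        show (b • c) ⊗ₜ[E] KaehlerDifferential.map Λ Λ B E ω =
          c ⊗ₜ[E] KaehlerDifferential.map Λ Λ B E (b • ω)
        rw [map_smul, ← IsScalarTower.algebraMap_smul E b c, TensorProduct.smul_tmul,
          IsScalarTower.algebraMap_smul]), fun c x => ?_⟩
    show c ⊗ₜ[E] KaehlerDifferential.map Λ Λ B E (KaehlerDifferential.D Λ B x) = _
    rw [KaehlerDifferential.map_D]
  have hfb : ∀ t, f (LHS t) = X.baseChangeToMiddle Λ t := fun t =>
    DFunLike.congr_fun (ExalLib.addHom_ext_tmul_D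
      (f := f.comp LHS.toAddMonoidHom) (g := (X.baseChangeToMiddle Λ).toAddMonoidHom)
      fun c a => by
        rw [AddMonoidHom.comp_apply, LinearMap.toAddMonoidHom_coe, LinearMap.toAddMonoidHom_coe,
          ExalLib.baseChangeToMiddle_tmul_D]
        simp [LHS, hf]
        rfl) t
  have hdel : ∀ (x : B) (hx : x ∈ K), X.deltaL Λ (K.toCotangent ⟨x, hx⟩) =
      ((1 : B ⧸ K) ⊗ₜ[E] KaehlerDifferential.D Λ E (algebraMap B E x)) := fun x hx => by
    rw [ExalLib.deltaL_apply]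
    congr 2
  constructor
  · intro z
    show _ ↔ LHS (z : (B ⧸ K) ⊗[A] Ω[A⁄Λ]) = 0
    constructor
    · intro h
      rw [← hgb, ← hχ z, h, map_zero, map_zero]
    · intro h
      refine hinj ?_
      rw [hχ z, map_zero]
      show X.baseChangeToMiddle Λ (z : (B ⧸ K) ⊗[A] Ω[A⁄Λ]) = 0
      rw [← hfb, h, map_zero]
  · intro x hx
    open scoped TensorProduct in
    let π : (B ⧸ K) ⊗[B] Ω[B⁄Λ] →ₗ[B ⧸ K] (B ⧸ K) ⊗[B] Ω[B⁄A] :=
      (KaehlerDifferential.map Λ A B B).baseChange (B ⧸ K)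
    have hexact : Function.Exact LHS π := by
      have h1 : Function.Exact
          ((KaehlerDifferential.mapBaseChange Λ A B).baseChange (B ⧸ K)) π := by
        simp only [π, LinearMap.baseChange_eq_ltensor]
        exact lTensor_exact (B ⧸ K) (KaehlerDifferential.exact_mapBaseChange_map Λ A B)
          (KaehlerDifferential.map_surjective Λ A B)
      intro y
      refine (h1 y).trans ⟨?_, ?_⟩
      · rintro ⟨t, rfl⟩
        refine ⟨TensorProduct.AlgebraTensorModule.cancelBaseChange A B (B ⧸ K) (B ⧸ K) Ω[A⁄Λ] t, ?_⟩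
        simp [LHS]
      · rintro ⟨t, rfl⟩
        exact ⟨_, rfl⟩
    have hπ : π ((1 : B ⧸ K) ⊗ₜ[B] KaehlerDifferential.D Λ B x) =
        (1 : B ⧸ K) ⊗ₜ[B] KaehlerDifferential.D A B x := by
      simp [π]
    constructor
    · rintro ⟨z, hz⟩
      have h1 := congrArg g (hχ z)
      rw [hz, hdel, hg] at h1
      rw [← hπ, h1]
      show π (g (X.baseChangeToMiddle Λ (z : (B ⧸ K) ⊗[A] Ω[A⁄Λ]))) = 0
      rw [hgb, hexact.apply_apply_eq_zero]
    · intro h
      obtain ⟨t, ht⟩ := (hexact _).1 (hπ.trans h)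
      have hb : X.baseChangeToMiddle Λ t = X.deltaL Λ (K.toCotangent ⟨x, hx⟩) := by
        rw [← hfb, ht, hf, hdel]
      have htmem : t ∈ EGA41.imperfection Λ A (B ⧸ K) := by
        rw [EGA41.imperfection, LinearMap.mem_ker,
          ← ExalLib.mapBaseChange_baseChangeToMiddle X, hb, hdel,
          KaehlerDifferential.mapBaseChange_tmul, one_smul, KaehlerDifferential.map_D,
          ← IsScalarTower.algebraMap_apply B E (B ⧸ K), Ideal.Quotient.algebraMap_eq,
          Ideal.Quotient.eq_zero_iff_mem.mpr hx, map_zero]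
      exact ⟨⟨t, htmem⟩, hinj ((hχ _).trans hb)⟩

end Groth.Agent.S5833
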