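import Groth.Statements.S5834
import Mathlib
import Groth.Agent.ExalLib.Basic
import Groth.Agent.S5833

set_option autoImplicit false
universe u v
open EGA41

namespace Groth.Agent.S5834

/-- Let Λ → A → B be ring maps with B formally smooth over A, K an ideal of B, C = B ⧸ K, and suppose E
= B ⧸ K², as an extension of C by K/K², is Λ-trivial. Then the characteristic homomorphism χ :
Υ_{C/A/Λ} → K/K² of E as an A-extension relative to Λ → A is injective (so that, with the
description of its image as the kernel of K/K² → C ⊗_B Ω_{B/A}, the sequence 0 → Υ_{C/A/Λ} → K/K² →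
C ⊗_B Ω_{B/A} → Ω_{C/A} → 0 is exact). -/
theorem result {Λ : Type u} {A B : Type v} [CommRing Λ]
    [CommRing A] [CommRing B] [Algebra Λ A] [Algebra Λ B] [Algebra A B] [IsScalarTower Λ A B]
    [Algebra.FormallySmooth A B] (K : Ideal B)
    (htriv : ((Exal.Ext.infinitesimal K).restrictBase A).IsTrivialOver Λ)
    (χ : ↥(EGA41.imperfection Λ A (B ⧸ K)) →ₗ[B ⧸ K] K.Cotangent)
    (hχ : ((Exal.Ext.infinitesimal K).restrictBase A).IsCharHom Λ χ) :
    Function.Injective χ := by
  open scoped TensorProduct in
  have hinj : Function.Injective (KaehlerDifferential.mapBaseChange Λ A B) := by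
    rw [injective_iff_map_eq_zero]
    intro x hx
    obtain ⟨y, rfl⟩ := (Algebra.H1Cotangent.exact_δ_mapBaseChange Λ A B x).1 hx
    rw [Subsingleton.elim y 0, map_zero]
  obtain ⟨s, hs⟩ := Module.projective_lifting_property
    (KaehlerDifferential.map Λ A B B) (LinearMap.id : Ω[B⁄A] →ₗ[B] Ω[B⁄A])
    (KaehlerDifferential.map_surjective Λ A B)
  have hs' : ∀ ω, KaehlerDifferential.map Λ A B B (s ω) = ω := LinearMap.congr_fun hs
  have hmem : ∀ ω, ω - s (KaehlerDifferential.map Λ A B B ω) ∈
      LinearMap.range (KaehlerDifferential.mapBaseChange Λ A B) := fun ω =>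
    (KaehlerDifferential.exact_mapBaseChange_map Λ A B _).1 (by rw [map_sub, hs', sub_self])
  let l := (LinearEquiv.ofInjective (KaehlerDifferential.mapBaseChange Λ A B) hinj).symm.toLinearMap ∘ₗ
    LinearMap.codRestrict _ (LinearMap.id - s ∘ₗ KaehlerDifferential.map Λ A B B) hmem
  have hl : l ∘ₗ KaehlerDifferential.mapBaseChange Λ A B = LinearMap.id := by
    refine LinearMap.ext fun x => ?_
    show (LinearEquiv.ofInjective (KaehlerDifferential.mapBaseChange Λ A B) hinj).symm _ = x
    rw [LinearEquiv.symm_apply_eq]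
    apply Subtype.ext
    show KaehlerDifferential.mapBaseChange Λ A B x -
      s (KaehlerDifferential.map Λ A B B (KaehlerDifferential.mapBaseChange Λ A B x)) = _
    rw [(KaehlerDifferential.exact_mapBaseChange_map Λ A B).apply_apply_eq_zero, map_zero, sub_zero]
    rfl
  rw [injective_iff_map_eq_zero]
  intro z hz
  have h := ((S5833.result K htriv χ hχ).1 z).1 hz
  have h' := congrArg (l.baseChange (B ⧸ K)) h
  rw [map_zero, ← LinearMap.comp_apply, ← LinearMap.baseChange_comp, hl, LinearMap.baseChange_id,
    LinearMap.id_apply, LinearEquiv.map_eq_zero_iff] at h'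
  exact Subtype.ext h'

end Groth.Agent.S5834
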