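import Groth.Statements.S5835
import Groth.Agent.CohenLib.GeomRed
import Groth.Agent.PerfectFieldLib.FormallySmooth
import Groth.Agent.PBasisLib.Basic
-- import your own Groth.Agent.* helpers here

set_option autoImplicit false
universe v w
open scoped TensorProduct
open EGA41

namespace Groth.Agent.S5835

theorem injective_of_formallySmooth (R A B : Type*) [CommRing R] [CommRing A] [CommRing B] [Algebra R A]
    [Algebra A B] [Algebra R B] [IsScalarTower R A B] [Algebra.FormallySmooth A B] :
    Function.Injective (KaehlerDifferential.mapBaseChange R A B) := by
  rw [injective_iff_map_eq_zero]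
  intro x hx
  obtain ⟨h, rfl⟩ := (Algebra.H1Cotangent.exact_δ_mapBaseChange R A B x).mp hx
  rw [Subsingleton.elim h 0, map_zero]

/-- For fields k₀ ⊆ k ⊆ K ⊆ L, the map of imperfection modules Υ_{L/K/k₀} → Υ_{L/K/k} induced by
Ω_{K/k₀} → Ω_{K/k} is injective (k is k₀-admissible for the extension L of K) in each of the
following cases: L is separable over k; L is separable over K; k lies in k₀(K^p), p the
characteristic exponent. Separable means geometrically reduced (not necessarily algebraic). -/
theorem result {k : Type v} {k₀ K L : Type w}
    [Field k₀] [Field k] [Field K] [Field L] [Algebra k₀ k] [Algebra k₀ K] [Algebra k₀ L] [Algebra k K]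
    [Algebra k L] [Algebra K L] [IsScalarTower k₀ k K] [IsScalarTower k₀ k L] [IsScalarTower k₀ K L]
    [IsScalarTower k K L] (p : ℕ) [ExpChar K p]
    (h : Algebra.IsGeometricallyReduced k L ∨ Algebra.IsGeometricallyReduced K L ∨
      ∀ x : k, algebraMap k K x ∈ EGA41.pPowerSubalgebra p k₀ K) :
    ∀ z : L ⊗[K] Ω[K⁄k₀], z ∈ EGA41.imperfection k₀ K L →
      (KaehlerDifferential.map k₀ k K K).baseChange L z = 0 → z = 0 := by
  classical
  intro z hz h0
  have hz' : KaehlerDifferential.mapBaseChange k₀ K L z = 0 := hz
  -- a preimage coming from `k`
  have hex : Function.Exact (((KaehlerDifferential.mapBaseChange k₀ k K).restrictScalars K).lTensor L)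
      (((KaehlerDifferential.map k₀ k K K).restrictScalars K).lTensor L) :=
    lTensor_exact L (KaehlerDifferential.exact_mapBaseChange_map k₀ k K)
      (KaehlerDifferential.map_surjective k₀ k K)
  obtain ⟨w, hw⟩ := (hex z).mp h0
  by_cases hsep : Algebra.IsGeometricallyReduced K L ∨ CharZero K
  · haveI : Algebra.FormallySmooth K L := by
      rcases hsep with h | h
      · exact CohenLib.formallySmooth_of_isGeometricallyReduced K L
      · exact Groth.Agent.PerfectFieldLib.formallySmooth_of_perfectField K L
    exact injective_of_formallySmooth k₀ K L (hz'.trans (map_zero _).symm)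
  push Not at hsep
  rcases h with h | h | h
  · haveI := CohenLib.formallySmooth_of_isGeometricallyReduced k L
    let e := TensorProduct.AlgebraTensorModule.cancelBaseChange k K L L Ω[k⁄k₀]
    have hcomp : ∀ ω, KaehlerDifferential.map k₀ k₀ K L (KaehlerDifferential.map k₀ k₀ k K ω) =
        KaehlerDifferential.map k₀ k₀ k L ω := fun ω => by
      have hω : ω ∈ Submodule.span k (Set.range (KaehlerDifferential.D k₀ k)) := by
        rw [KaehlerDifferential.span_range_derivation]; trivial
      induction hω using Submodule.span_induction with
      | mem _ hd =>
        obtain ⟨x, rfl⟩ := hd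
        rw [KaehlerDifferential.map_D, KaehlerDifferential.map_D, KaehlerDifferential.map_D,
          ← IsScalarTower.algebraMap_apply]
      | zero => simp
      | add a b _ _ ha hb => simp only [map_add, ha, hb]
      | smul d a _ ha =>
        rw [LinearMap.map_smul (KaehlerDifferential.map k₀ k₀ k K), ← algebraMap_smul K d (KaehlerDifferential.map k₀ k₀ k K a),
          LinearMap.map_smul (KaehlerDifferential.map k₀ k₀ K L), ha, algebraMap_smul,
          LinearMap.map_smul (KaehlerDifferential.map k₀ k₀ k L)]
    have key : ∀ v, KaehlerDifferential.mapBaseChange k₀ K L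
        (((KaehlerDifferential.mapBaseChange k₀ k K).restrictScalars K).lTensor L v) =
        KaehlerDifferential.mapBaseChange k₀ k L (e v) := fun v => by
      induction v using TensorProduct.induction_on with
      | zero => simp
      | add a b ha hb => simp only [map_add, ha, hb]
      | tmul l u =>
        induction u using TensorProduct.induction_on with
        | zero => simp
        | add a b ha hb => simp only [TensorProduct.tmul_add, map_add, ha, hb]
        | tmul c ω =>
          simp only [LinearMap.lTensor_tmul, LinearMap.restrictScalars_apply, KaehlerDifferential.mapBaseChange_tmul, e,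
            TensorProduct.AlgebraTensorModule.cancelBaseChange_tmul]
          rw [map_smul, hcomp, ← algebraMap_smul L c (KaehlerDifferential.map k₀ k₀ k L ω), smul_smul, Algebra.smul_def, mul_comm]
    have hev : e w = 0 := by
      refine injective_of_formallySmooth k₀ k L ?_
      rw [← key, hw, hz', map_zero]
    rw [← hw, e.map_eq_zero_iff.1 hev, map_zero]
  · exact absurd h hsep.1
  · have hp : p.Prime := by
      rcases ‹ExpChar K p› with _ | ⟨hp⟩
      · exact absurd ‹CharZero K› hsep.2
      · exact hp
    haveI : Fact p.Prime := ⟨hp⟩
    haveI : CharP K p := by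
      rcases ‹ExpChar K p› with _ | _
      · exact absurd hp Nat.not_prime_one
      · assumption
    have hzero : (KaehlerDifferential.mapBaseChange k₀ k K).restrictScalars K = 0 := by
      refine TensorProduct.AlgebraTensorModule.ext fun c ω => ?_
      have hω : ω ∈ Submodule.span k (Set.range (KaehlerDifferential.D k₀ k)) := by
        rw [KaehlerDifferential.span_range_derivation]; trivial
      simp only [LinearMap.restrictScalars_apply, KaehlerDifferential.mapBaseChange_tmul, LinearMap.zero_apply]
      induction hω using Submodule.span_induction with
      | mem _ hd =>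
        obtain ⟨x, rfl⟩ := hd
        rw [KaehlerDifferential.map_D,
          Groth.Agent.PBasisLib.derivation_pPow p (KaehlerDifferential.D k₀ K) ⟨_, h x⟩, smul_zero]
      | zero => simp
      | add a b _ _ ha hb => rw [map_add, smul_add, ha, hb, add_zero]
      | smul d a _ ha => rw [map_smul, smul_comm, ha, smul_zero]
    rw [← hw, hzero, LinearMap.lTensor_zero, LinearMap.zero_apply]

end Groth.Agent.S5835
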