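import Groth.Statements.S5836
import Mathlib

set_option autoImplicit false
set_option linter.style.haveILetI false
universe u u' u'' w
open scoped TensorProduct
open EGA41

namespace Groth.Agent.S5836

/-- For fields k ⊆ k' ⊆ k'' ⊆ K ⊆ L put Δ(L/K, a/b) = ker(Υ_{L/K/b} → Υ_{L/K/a}) ⊆ L ⊗_K Ω_{K/b}. Then 0
→ Δ(L/K, k'/k) → Δ(L/K, k''/k) → Δ(L/K, k''/k') → 0 is exact: stated as the surjectivity of the map
induced by L ⊗_K Ω_{K/k} → L ⊗_K Ω_{K/k'} (exactness on the left and in the middle hold by
construction), together with the resulting identity of ranks d(L/K, k''/k) = d(L/K, k''/k') + d(L/K,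
k'/k). -/
theorem result {k : Type u} {k' : Type u'} {k'' : Type u''} {K L : Type w}
    [Field k] [Field k'] [Field k''] [Field K] [Field L]
    [Algebra k k'] [Algebra k k''] [Algebra k' k''] [IsScalarTower k k' k'']
    [Algebra k K] [Algebra k' K] [Algebra k'' K] [IsScalarTower k k' K] [IsScalarTower k' k'' K]
    [IsScalarTower k k'' K] [Algebra K L] [Algebra k L] [Algebra k' L] [Algebra k'' L]
    [IsScalarTower k K L] [IsScalarTower k' K L] [IsScalarTower k'' K L] :
    (∀ w : L ⊗[K] Ω[K⁄k'], w ∈ EGA41.imperfection k' K L →
        (KaehlerDifferential.map k' k'' K K).baseChange L w = 0 →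
          ∃ z : L ⊗[K] Ω[K⁄k], z ∈ EGA41.imperfection k K L ∧
            (KaehlerDifferential.map k k'' K K).baseChange L z = 0 ∧
              (KaehlerDifferential.map k k' K K).baseChange L z = w) ∧
      Module.rank L ↥(EGA41.imperfection k K L ⊓
            LinearMap.ker ((KaehlerDifferential.map k k'' K K).baseChange L)) =
        Module.rank L ↥(EGA41.imperfection k' K L ⊓
              LinearMap.ker ((KaehlerDifferential.map k' k'' K K).baseChange L)) +
          Module.rank L ↥(EGA41.imperfection k K L ⊓
              LinearMap.ker ((KaehlerDifferential.map k k' K K).baseChange L)) := by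
  haveI : IsScalarTower k k' L := IsScalarTower.of_algebraMap_eq fun x => by
    rw [IsScalarTower.algebraMap_apply k K L, IsScalarTower.algebraMap_apply k' K L, ← IsScalarTower.algebraMap_apply k k' K]
  let a := (KaehlerDifferential.map k k' K K).baseChange L
  let b := (KaehlerDifferential.map k' k'' K K).baseChange L
  let c := (KaehlerDifferential.map k k'' K K).baseChange L
  let β := KaehlerDifferential.mapBaseChange k K L
  let β' := KaehlerDifferential.mapBaseChange k' K L
  have hc : ∀ z, c z = b (a z) := fun z => by
    induction z using TensorProduct.induction_on with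
    | zero => simp
    | add x y hx hy => rw [map_add, map_add, map_add, hx, hy]
    | tmul l ω =>
      simp only [a, b, c, LinearMap.baseChange_tmul]
      congr 1
      have hω : ω ∈ Submodule.span K (Set.range (KaehlerDifferential.D k K)) := by
        rw [KaehlerDifferential.span_range_derivation]; trivial
      induction hω using Submodule.span_induction with
      | mem y hy => obtain ⟨x, rfl⟩ := hy; simp
      | zero => simp
      | add x y _ _ hx hy => rw [map_add, map_add, map_add, hx, hy]
      | smul r x _ hx => rw [map_smul, map_smul, map_smul, hx]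
  have hsq : ∀ z, β' (a z) = KaehlerDifferential.map k k' L L (β z) := fun z => by
    induction z using TensorProduct.induction_on with
    | zero => simp
    | add x y hx hy => rw [map_add, map_add, map_add, map_add, hx, hy]
    | tmul l ω =>
      simp only [a, β, β', LinearMap.baseChange_tmul, KaehlerDifferential.mapBaseChange_tmul, map_smul]
      congr 1
      have hω : ω ∈ Submodule.span K (Set.range (KaehlerDifferential.D k K)) := by
        rw [KaehlerDifferential.span_range_derivation]; trivial
      induction hω using Submodule.span_induction with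
      | mem y hy => obtain ⟨x, rfl⟩ := hy; simp
      | zero => simp
      | add x y _ _ hx hy => rw [map_add, map_add, map_add, map_add, hx, hy]
      | smul r x _ hx =>
        rw [map_smul, map_smul, map_smul, hx, ← algebraMap_smul L r, ← algebraMap_smul L r, map_smul]
  have hker : LinearMap.ker (KaehlerDifferential.map k k' L L) ≤ (LinearMap.ker a).map β := by
    intro w hw
    obtain ⟨y, rfl⟩ := (KaehlerDifferential.exact_mapBaseChange_map k k' L w).1 hw
    clear hw
    induction y using TensorProduct.induction_on with
    | zero => simp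
    | add x y hx hy => rw [map_add]; exact add_mem hx hy
    | tmul l ω =>
      rw [KaehlerDifferential.mapBaseChange_tmul]
      refine Submodule.smul_mem _ l ?_
      have hω : ω ∈ Submodule.span k' (Set.range (KaehlerDifferential.D k k')) := by
        rw [KaehlerDifferential.span_range_derivation]; trivial
      induction hω using Submodule.span_induction with
      | mem y hy =>
        obtain ⟨x, rfl⟩ := hy
        refine ⟨1 ⊗ₜ KaehlerDifferential.D k K (algebraMap k' K x), ?_, ?_⟩
        · rw [SetLike.mem_coe, LinearMap.mem_ker]; simp [a]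
        · simp [β, ← IsScalarTower.algebraMap_apply]
      | zero => simp
      | add x y _ _ hx hy => rw [map_add]; exact add_mem hx hy
      | smul r x _ hx => rw [map_smul, ← algebraMap_smul L r]; exact Submodule.smul_mem _ _ hx
  have hsurj : ∀ w, β' w = 0 → b w = 0 → ∃ z, β z = 0 ∧ c z = 0 ∧ a z = w := fun w h1 h2 => by
    obtain ⟨z₀, hz₀⟩ : ∃ z₀, a z₀ = w :=
      LinearMap.lTensor_surjective L (KaehlerDifferential.map_surjective k k' K) w
    obtain ⟨y, hy, hy'⟩ := hker (x := β z₀) (by rw [LinearMap.mem_ker, ← hsq, hz₀, h1])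
    rw [SetLike.mem_coe, LinearMap.mem_ker] at hy
    refine ⟨z₀ - y, by rw [map_sub, hy', sub_self], ?_, by rw [map_sub, hy, sub_zero, hz₀]⟩
    rw [hc, map_sub, hy, sub_zero, hz₀, h2]
  refine ⟨fun w h1 h2 => ?_, ?_⟩
  · obtain ⟨z, h3, h4, h5⟩ := hsurj w h1 h2
    exact ⟨z, h3, h4, h5⟩
  let S := LinearMap.ker β ⊓ LinearMap.ker c
  let T := LinearMap.ker β' ⊓ LinearMap.ker b
  let f : S →ₗ[L] T := a.restrict fun z hz => by
    refine ⟨?_, ?_⟩
    · show β' (a z) = 0; rw [hsq, show β z = 0 from hz.1, map_zero]
    · show b (a z) = 0; rw [← hc]; exact hz.2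
  have hf : Function.Surjective f := fun w => by
    obtain ⟨z, h3, h4, h5⟩ := hsurj w w.2.1 w.2.2
    exact ⟨⟨z, h3, h4⟩, Subtype.ext h5⟩
  show Module.rank L S = Module.rank L T + Module.rank L ↥(LinearMap.ker β ⊓ LinearMap.ker a)
  have e : Submodule.map S.subtype (LinearMap.ker f) = LinearMap.ker β ⊓ LinearMap.ker a := by
    ext z
    refine ⟨?_, fun hz => ?_⟩
    · rintro ⟨x, hx, rfl⟩
      exact ⟨x.2.1, congrArg Subtype.val (hx : f x = 0)⟩
    · refine ⟨⟨z, hz.1, ?_⟩, Subtype.ext hz.2, rfl⟩
      show c z = 0; rw [hc, show a z = 0 from hz.2, map_zero]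
  have h := LinearMap.rank_range_add_rank_ker (R := L) (M := S) (M₁ := T) f
  rw [LinearMap.range_eq_top.2 hf] at h
  rw [← e]
  refine h.symm.trans ?_
  exact congrArg₂ (· + ·) (LinearEquiv.ofTop _ rfl).rank_eq (Submodule.equivMapOfInjective _ S.injective_subtype _).rank_eq

end Groth.Agent.S5836
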