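import Groth.Statements.S5837
import Mathlib

set_option autoImplicit false
set_option linter.style.haveILetI false
universe u u' w
open scoped TensorProduct
open EGA41

namespace Groth.Agent.S5837

universe u₁ u₂

theorem map_map (k₀ : Type u₁) (K L M : Type w) [CommRing k₀] [CommRing K] [CommRing L] [CommRing M]
    [Algebra k₀ K] [Algebra k₀ L] [Algebra k₀ M] [Algebra K L] [Algebra K M] [Algebra L M] [IsScalarTower K L M]
    [IsScalarTower k₀ K L] [IsScalarTower k₀ K M] [IsScalarTower k₀ L M] (ω : Ω[K⁄k₀]) :
    KaehlerDifferential.map k₀ k₀ L M (KaehlerDifferential.map k₀ k₀ K L ω) = KaehlerDifferential.map k₀ k₀ K M ω := by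
  have hω : ω ∈ Submodule.span K (Set.range (KaehlerDifferential.D k₀ K)) := by
    rw [KaehlerDifferential.span_range_derivation]; trivial
  induction hω using Submodule.span_induction with
  | mem y hy => obtain ⟨x, rfl⟩ := hy; simp [← IsScalarTower.algebraMap_apply]
  | zero => simp
  | add x y _ _ hx hy => simp only [map_add, hx, hy]
  | smul r x _ hx => simp only [LinearMap.map_smul_of_tower, hx]

theorem square (k₀ : Type u₁) (k : Type u₂) (K L : Type w) [CommRing k₀] [CommRing k] [CommRing K] [CommRing L]
    [Algebra k₀ k] [Algebra k₀ K] [Algebra k K] [IsScalarTower k₀ k K] [Algebra k₀ L] [Algebra k L]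
    [IsScalarTower k₀ k L] [Algebra K L] [IsScalarTower k₀ K L] [IsScalarTower k K L] (ω : Ω[K⁄k₀]) :
    KaehlerDifferential.map k₀ k L L (KaehlerDifferential.map k₀ k₀ K L ω) =
      KaehlerDifferential.map k k K L (KaehlerDifferential.map k₀ k K K ω) := by
  have hω : ω ∈ Submodule.span K (Set.range (KaehlerDifferential.D k₀ K)) := by
    rw [KaehlerDifferential.span_range_derivation]; trivial
  induction hω using Submodule.span_induction with
  | mem y hy => obtain ⟨x, rfl⟩ := hy; simp
  | zero => simp
  | add x y _ _ hx hy => simp only [map_add, hx, hy]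
  | smul r x _ hx => simp only [LinearMap.map_smul_of_tower, hx]

theorem baseChange_inf_ker (L M : Type w) [Field L] [Field M] [Algebra L M] {N P Q : Type w} [AddCommGroup N]
    [Module L N] [AddCommGroup P] [Module L P] [AddCommGroup Q] [Module L Q] (f : N →ₗ[L] P) (g : N →ₗ[L] Q)
    (x : M ⊗[L] N) :
    (f.baseChange M x = 0 ∧ g.baseChange M x = 0) ↔
      x ∈ Set.range ((LinearMap.ker f ⊓ LinearMap.ker g).subtype.baseChange M) := by
  have hE : Function.Exact (LinearMap.ker f ⊓ LinearMap.ker g).subtype (f.prod g) := fun x => by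
    show (f.prod g) x = 0 ↔ x ∈ Set.range (LinearMap.ker f ⊓ LinearMap.ker g).subtype
    rw [Submodule.coe_subtype, Subtype.range_coe]
    simp [Prod.ext_iff]
  have hex : Function.Exact ((LinearMap.ker f ⊓ LinearMap.ker g).subtype.lTensor M) ((f.prod g).lTensor M) :=
    Module.Flat.lTensor_exact M hE
  have hp : ∀ y, TensorProduct.prodRight L M M P Q ((f.prod g).baseChange M y) = (f.baseChange M y, g.baseChange M y) := by
    intro y
    induction y using TensorProduct.induction_on with
    | zero => simp [Prod.ext_iff]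
    | add a b ha hb => simp only [map_add, ha, hb, Prod.mk_add_mk]
    | tmul m v => simp
  refine Iff.trans ?_ (hex x)
  show _ ↔ (f.prod g).baseChange M x = 0
  rw [← (TensorProduct.prodRight L M M P Q).map_eq_zero_iff, hp, Prod.mk_eq_zero]

/-- Rank form. For fields k₀ ⊆ k ⊆ K ⊆ L ⊆ M, with Δ(F/E, k/k₀) = ker(Υ_{F/E/k₀} → Υ_{F/E/k}) and d its
rank, one has d(M/K, k/k₀) = d(M/L, k/k₀) + d(L/K, k/k₀) (cardinal ranks; the published statement
gives the short exact sequence 0 → Δ(L/K, k/k₀) ⊗_L M → Δ(M/K, k/k₀) → Δ(M/L, k/k₀) → 0, of which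
this row states the rank identity). -/
theorem result {k₀ : Type u} {k : Type u'} {K L M : Type w}
    [Field k₀] [Field k] [Field K] [Field L] [Field M] [Algebra k₀ k]
    [Algebra k₀ K] [Algebra k K] [IsScalarTower k₀ k K] [Algebra k₀ L] [Algebra k L] [IsScalarTower k₀ k L]
    [Algebra K L] [Algebra K M] [Algebra L M] [IsScalarTower K L M]
    [Algebra k₀ M] [Algebra k M] [IsScalarTower k₀ K L] [IsScalarTower k K L]
    [IsScalarTower k₀ K M] [IsScalarTower k K M] [IsScalarTower k₀ L M] [IsScalarTower k L M] :
    Module.rank M ↥(EGA41.imperfection k₀ K M ⊓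
          LinearMap.ker ((KaehlerDifferential.map k₀ k K K).baseChange M)) =
      Module.rank M ↥(EGA41.imperfection k₀ L M ⊓
            LinearMap.ker ((KaehlerDifferential.map k₀ k L L).baseChange M)) +
        Module.rank L ↥(EGA41.imperfection k₀ K L ⊓
            LinearMap.ker ((KaehlerDifferential.map k₀ k K K).baseChange L)) := by
  let αK := (KaehlerDifferential.map k₀ k K K).baseChange L
  let βK := KaehlerDifferential.mapBaseChange k₀ K L
  let αM := (KaehlerDifferential.map k₀ k K K).baseChange M
  let βM := KaehlerDifferential.mapBaseChange k₀ K M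
  let α' := (KaehlerDifferential.map k₀ k L L).baseChange M
  let β' := KaehlerDifferential.mapBaseChange k₀ L M
  let θ : M ⊗[L] (L ⊗[K] Ω[K⁄k₀]) ≃ₗ[M] M ⊗[K] Ω[K⁄k₀] := TensorProduct.AlgebraTensorModule.cancelBaseChange K L M M _
  let θ' : M ⊗[L] (L ⊗[K] Ω[K⁄k]) ≃ₗ[M] M ⊗[K] Ω[K⁄k] := TensorProduct.AlgebraTensorModule.cancelBaseChange K L M M _
  let h : M ⊗[K] Ω[K⁄k₀] →ₗ[M] M ⊗[L] Ω[L⁄k₀] := βK.baseChange M ∘ₗ θ.symm.toLinearMap
  have hα : ∀ y, αM (θ y) = θ' (αK.baseChange M y) := fun y => by
    induction y using TensorProduct.induction_on with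
    | zero => simp
    | add x y hx hy => rw [map_add, map_add, map_add, map_add, hx, hy]
    | tmul m z =>
      induction z using TensorProduct.induction_on with
      | zero => simp
      | add x y hx hy => simp only [TensorProduct.tmul_add, map_add, hx, hy]
      | tmul l ω => simp [θ, θ', αM, αK]
  have hβ : ∀ y, β' (βK.baseChange M y) = βM (θ y) := fun y => by
    induction y using TensorProduct.induction_on with
    | zero => simp
    | add x y hx hy => rw [map_add, map_add, map_add, map_add, hx, hy]
    | tmul m z =>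
      induction z using TensorProduct.induction_on with
      | zero => simp
      | add x y hx hy => simp only [TensorProduct.tmul_add, map_add, hx, hy]
      | tmul l ω =>
        simp only [θ, β', βK, βM, LinearMap.baseChange_tmul, KaehlerDifferential.mapBaseChange_tmul,
          TensorProduct.AlgebraTensorModule.cancelBaseChange_tmul]
        rw [LinearMap.map_smul, map_map k₀ K L M, ← algebraMap_smul M l, smul_smul, Algebra.smul_def, mul_comm]
  have hgen : ∀ x : k, ∃ z, αM z = 0 ∧ h z = 1 ⊗ₜ KaehlerDifferential.D k₀ L (algebraMap k L x) := fun x =>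
    ⟨1 ⊗ₜ KaehlerDifferential.D k₀ K (algebraMap k K x), by simp [αM],
      by simp [h, θ, βK, ← IsScalarTower.algebraMap_apply]⟩
  have hker : LinearMap.ker α' ≤ (LinearMap.ker αM).map h := by
    have hg : Function.Exact (KaehlerDifferential.mapBaseChange k₀ k L) (KaehlerDifferential.map k₀ k L L) :=
      KaehlerDifferential.exact_mapBaseChange_map k₀ k L
    have hex : Function.Exact ((LinearMap.ker (KaehlerDifferential.map k₀ k L L)).subtype.baseChange M) α' :=
      Module.Flat.lTensor_exact M (LinearMap.exact_subtype_ker_map _)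
    intro w hw
    obtain ⟨y, rfl⟩ := (hex w).1 hw
    clear hw
    induction y using TensorProduct.induction_on with
    | zero => simp
    | add x y hx hy => rw [map_add]; exact add_mem hx hy
    | tmul m v =>
      obtain ⟨v, hv⟩ := v
      rw [LinearMap.baseChange_tmul, show ((LinearMap.ker (KaehlerDifferential.map k₀ k L L)).subtype) ⟨v, hv⟩ = v from rfl]
      obtain ⟨y, rfl⟩ := (hg v).1 hv
      clear hv
      induction y using TensorProduct.induction_on generalizing m with
      | zero => simp
      | add x y hx hy => rw [map_add, TensorProduct.tmul_add]; exact add_mem (hx m) (hy m)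
      | tmul l ω =>
        rw [KaehlerDifferential.mapBaseChange_tmul, ← TensorProduct.smul_tmul]
        generalize l • m = m'
        have hω : ω ∈ Submodule.span k (Set.range (KaehlerDifferential.D k₀ k)) := by
          rw [KaehlerDifferential.span_range_derivation]; trivial
        induction hω using Submodule.span_induction generalizing m' with
        | mem y hy =>
          obtain ⟨x, rfl⟩ := hy
          obtain ⟨z, hz, hz'⟩ := hgen x
          refine ⟨m' • z, by rw [SetLike.mem_coe, LinearMap.mem_ker, map_smul, hz, smul_zero], ?_⟩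
          rw [map_smul, hz', TensorProduct.smul_tmul', smul_eq_mul, mul_one]
          simp
        | zero => simp
        | add x y _ _ hx hy => rw [map_add, TensorProduct.tmul_add]; exact add_mem (hx m') (hy m')
        | smul r x _ hx => rw [map_smul, ← algebraMap_smul L r, ← TensorProduct.smul_tmul]; exact hx _
  have hker' : ∀ z, αM z = 0 → α' (h z) = 0 := fun z hz => by
    have hcomp : KaehlerDifferential.map k₀ k L L ∘ₗ βK = KaehlerDifferential.mapBaseChange k K L ∘ₗ αK := by
      refine LinearMap.ext fun z => ?_
      induction z using TensorProduct.induction_on with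
      | zero => simp
      | add x y hx hy => rw [map_add, map_add, hx, hy]
      | tmul l ω => simp [βK, αK, square k₀ k K L ω]
    have hc : ∀ y, α' (βK.baseChange M y) =
        (KaehlerDifferential.mapBaseChange k K L).baseChange M (αK.baseChange M y) := fun y => by
      show ((KaehlerDifferential.map k₀ k L L).baseChange M ∘ₗ βK.baseChange M) y =
        ((KaehlerDifferential.mapBaseChange k K L).baseChange M ∘ₗ αK.baseChange M) y
      rw [← LinearMap.baseChange_comp, hcomp, LinearMap.baseChange_comp]
    have h0 : αK.baseChange M (θ.symm z) = 0 := θ'.injective (by rw [← hα, θ.apply_symm_apply, hz, map_zero])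
    show α' (βK.baseChange M (θ.symm z)) = 0
    rw [hc, h0, map_zero]
  have hβh : ∀ z, β' (h z) = βM z := fun z => by
    show β' (βK.baseChange M (θ.symm z)) = βM z
    rw [hβ, θ.apply_symm_apply]
  let S := LinearMap.ker βM ⊓ LinearMap.ker αM
  let T := LinearMap.ker β' ⊓ LinearMap.ker α'
  let U := LinearMap.ker βK ⊓ LinearMap.ker αK
  let f : S →ₗ[M] T := h.restrict fun z hz =>
    ⟨show β' (h z) = 0 by rw [hβh]; exact hz.1, hker' z hz.2⟩
  have hf : Function.Surjective f := fun ⟨w, hw1, hw2⟩ => by
    obtain ⟨z, hz, hzw⟩ := hker hw2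
    exact ⟨⟨z, show βM z = 0 by rw [← hβh, hzw]; exact hw1, hz⟩, Subtype.ext hzw⟩
  let i : M ⊗[L] U →ₗ[M] M ⊗[K] Ω[K⁄k₀] := θ.toLinearMap ∘ₗ U.subtype.baseChange M
  have hi : Function.Injective i :=
    θ.injective.comp (Module.Flat.lTensor_preserves_injective_linearMap (M := M) _ U.injective_subtype)
  have e : Submodule.map S.subtype (LinearMap.ker f) = LinearMap.range i := by
    ext z
    refine ⟨?_, ?_⟩
    · rintro ⟨x, hx, rfl⟩
      have h1 : βK.baseChange M (θ.symm x) = 0 := congrArg Subtype.val (hx : f x = 0)
      have h2 : αK.baseChange M (θ.symm x) = 0 := θ'.injective (by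
        rw [← hα, θ.apply_symm_apply, show αM x = 0 from x.2.2, map_zero])
      obtain ⟨u, hu⟩ := (baseChange_inf_ker L M βK αK _).1 ⟨h1, h2⟩
      exact ⟨u, by show θ (U.subtype.baseChange M u) = _; rw [hu, θ.apply_symm_apply]; rfl⟩
    · rintro ⟨u, rfl⟩
      have h1 : βK.baseChange M (U.subtype.baseChange M u) = 0 ∧ αK.baseChange M (U.subtype.baseChange M u) = 0 :=
        (baseChange_inf_ker L M βK αK _).2 ⟨u, rfl⟩
      have hh : h (i u) = 0 := by
        show βK.baseChange M (θ.symm (θ _)) = 0
        rw [θ.symm_apply_apply, h1.1]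
      have ha : αM (i u) = 0 := by
        show αM (θ _) = 0
        rw [hα, h1.2, map_zero]
      exact ⟨⟨i u, show βM (i u) = 0 by rw [← hβh, hh, map_zero], ha⟩, Subtype.ext hh, rfl⟩
  show Module.rank M S = Module.rank M T + Module.rank L U
  haveI : Module.Free L U := Module.Free.of_divisionRing L U
  have hr := LinearMap.rank_range_add_rank_ker (R := M) (M := S) (M₁ := T) f
  rw [LinearMap.range_eq_top.2 hf] at hr
  refine hr.symm.trans (congrArg₂ (· + ·) (LinearEquiv.ofTop _ rfl).rank_eq ?_)
  rw [(Submodule.equivMapOfInjective _ S.injective_subtype _).rank_eq, e, (LinearEquiv.ofInjective i hi).symm.rank_eq,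
    Module.rank_baseChange, Cardinal.lift_id]

end Groth.Agent.S5837
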