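import Groth.Statements.S5838
import Groth.Agent.TopModSplitLib.Basic
-- import your own Groth.Agent.* helpers here

set_option autoImplicit false
universe u v w
open EGA41

namespace Groth.Agent.S5838

/-- Let A be a topological ring with a countable decreasing fundamental system (𝔍_n) of open ideals, M
and N topological A-modules with the topologies deduced from that of A, M Hausdorff and complete,
and u : M → N a continuous linear map such that for every n the cokernel of M/𝔍_n M → N/𝔍_n N is a
projective (A/𝔍_n)-module. Then u is formally left invertible if and only if it has a linear left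
inverse. (The published statement adds that u is then a topological isomorphism onto a topological
direct factor.) -/
theorem result {A : Type u} {M : Type v} {N : Type w}
    [CommRing A] [TopologicalSpace A] [AddCommGroup M] [Module A M] [UniformSpace M] [IsUniformAddGroup M]
    [CompleteSpace M] [T2Space M] [AddCommGroup N] [Module A N] [TopologicalSpace N]
    (𝔍 : ℕ → Ideal A) (h𝔍open : ∀ n, IsOpen (𝔍 n : Set A)) (h𝔍anti : Antitone 𝔍)
    (h𝔍basis : (nhds (0 : A)).HasBasis (fun _ : ℕ => True) (fun n => (𝔍 n : Set A)))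
    (hM : TopMod.IsDeduced A M) (hN : TopMod.IsDeduced A N) (u : M →L[A] N)
    (hcoker : ∀ n, Module.Projective (A ⧸ 𝔍 n)
      ((N ⧸ LinearMap.range u.toLinearMap) ⧸ (𝔍 n • (⊤ : Submodule A (N ⧸ LinearMap.range u.toLinearMap))))) :
    TopMod.IsFormallyLeftInvertible u ↔ ∃ w : N →ₗ[A] M, ∀ x : M, w (u x) = x := by
  classical
  haveI := hN.1
  let C := N ⧸ LinearMap.range u.toLinearMap
  constructor
  · intro hfli
    have hex : ∀ n, ∃ v : N →ₗ[A] M ⧸ (𝔍 n • ⊤ : Submodule A M), ∀ x, v (u x) = Submodule.Quotient.mk x := by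
      intro n
      letI : TopologicalSpace (M ⧸ (𝔍 n • ⊤ : Submodule A M)) := ⊥
      haveI : DiscreteTopology (M ⧸ (𝔍 n • ⊤ : Submodule A M)) := ⟨rfl⟩
      have hc : Continuous (Submodule.mkQ (𝔍 n • ⊤ : Submodule A M)) := by
        refine continuous_of_continuousAt_zero _ ?_
        rw [ContinuousAt, map_zero, nhds_discrete (M ⧸ (𝔍 n • ⊤ : Submodule A M)), Filter.tendsto_pure]
        exact Filter.mem_of_superset (hM.2.mem_iff.2 ⟨𝔍 n, h𝔍open n, subset_rfl⟩)
          (fun x hx => (Submodule.Quotient.mk_eq_zero _).2 hx)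
      obtain ⟨w, hw⟩ := hfli _ (⟨Submodule.mkQ (𝔍 n • ⊤ : Submodule A M), hc⟩ : M →L[A] _)
      exact ⟨w.toLinearMap, hw⟩
    choose v hv using hex
    have hlift : ∀ n (d : N →ₗ[A] M ⧸ (𝔍 n • ⊤ : Submodule A M)), (∀ x, d (u x) = 0) →
        ∃ h : N →ₗ[A] M ⧸ (𝔍 (n + 1) • ⊤ : Submodule A M), (∀ x, h (u x) = 0) ∧
          Submodule.factor (Submodule.smul_mono_left (h𝔍anti n.le_succ)) ∘ₗ h = d := by
      intro n d hd
      let d1 : C →ₗ[A] M ⧸ (𝔍 n • ⊤ : Submodule A M) := Submodule.liftQ _ d (by
        rintro _ ⟨x, rfl⟩; exact hd x)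
      let d2 : C ⧸ (𝔍 (n + 1) • ⊤ : Submodule A C) →ₗ[A] M ⧸ (𝔍 n • ⊤ : Submodule A M) :=
        Submodule.liftQ _ d1 (Submodule.smul_le.2 fun a ha c _ => by
          obtain ⟨m, hm⟩ := Submodule.Quotient.mk_surjective _ (d1 c)
          rw [LinearMap.mem_ker, map_smul, ← hm, ← Submodule.Quotient.mk_smul, Submodule.Quotient.mk_eq_zero]
          exact Submodule.smul_mem_smul (h𝔍anti n.le_succ ha) trivial)
      haveI := hcoker (n + 1)
      obtain ⟨h, hh⟩ := Groth.Agent.TopModSplitLib.exists_lift (𝔍 (n + 1))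
        (fun a ha m => by
          obtain ⟨m, rfl⟩ := Submodule.Quotient.mk_surjective _ m
          rw [← Submodule.Quotient.mk_smul, Submodule.Quotient.mk_eq_zero]
          exact Submodule.smul_mem_smul ha trivial)
        (Submodule.factor (Submodule.smul_mono_left (h𝔍anti n.le_succ)))
        (Submodule.factor_surjective _) d2
      refine ⟨h ∘ₗ Submodule.mkQ _ ∘ₗ Submodule.mkQ (LinearMap.range u.toLinearMap), fun x => ?_, ?_⟩
      · have : Submodule.mkQ (LinearMap.range u.toLinearMap) (u x) = 0 :=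
          (Submodule.Quotient.mk_eq_zero _).2 ⟨x, rfl⟩
        simp only [LinearMap.comp_apply]
        rw [this, map_zero, map_zero]
      · rw [← LinearMap.comp_assoc, hh]
        exact LinearMap.ext fun y => rfl
    obtain ⟨W, hW, hc⟩ := Groth.Agent.TopModSplitLib.exists_compatible 𝔍 h𝔍anti u.toLinearMap v hv hlift
    exact Groth.Agent.TopModSplitLib.exists_leftInverse 𝔍 h𝔍open h𝔍anti h𝔍basis hM u.toLinearMap W hW hc
  · rintro ⟨w, hw⟩ E _ _ _ _ v
    have hc : Continuous w := by
      refine continuous_of_continuousAt_zero w ?_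
      rw [ContinuousAt, map_zero, (hN.2.tendsto_iff hM.2)]
      refine fun J hJ => ⟨J, hJ, fun y hy => ?_⟩
      have := Submodule.mem_map_of_mem (f := w) hy
      rw [Submodule.map_smul''] at this
      exact Submodule.smul_mono le_rfl le_top this
    exact ⟨v.comp (⟨w, hc⟩ : N →L[A] M), fun x => congrArg v (hw x)⟩

end Groth.Agent.S5838
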