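import Groth.Statements.S5839
import Groth.Agent.TopModSplitLib.Basic
-- import your own Groth.Agent.* helpers here

set_option autoImplicit false
universe u v w
open EGA41

namespace Groth.Agent.S5839

/-- Let A be preadmissible with ideal of definition 𝔏, the topologies of M and N deduced from that of A,
N/JN projective over A/J for every open ideal J; assuming moreover a countable decreasing
fundamental system of open ideals and M Hausdorff and complete, u : M → N has a linear left inverse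
if and only if the induced map M/𝔏M → N/𝔏N has one (both being equivalent to formal left
invertibility). -/
theorem result {A : Type u} {M : Type v} {N : Type w}
    [CommRing A] [TopologicalSpace A] [AddCommGroup M] [Module A M] [UniformSpace M] [IsUniformAddGroup M]
    [CompleteSpace M] [T2Space M] [AddCommGroup N] [Module A N] [TopologicalSpace N]
    (𝔍 : ℕ → Ideal A) (h𝔍open : ∀ n, IsOpen (𝔍 n : Set A)) (h𝔍anti : Antitone 𝔍)
    (h𝔍basis : (nhds (0 : A)).HasBasis (fun _ : ℕ => True) (fun n => (𝔍 n : Set A)))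
    (hM : TopMod.IsDeduced A M) (hN : TopMod.IsDeduced A N) (u : M →L[A] N)
    (hA : LinTop.IsPreadmissible A) (𝔏 : Ideal A) (h𝔏 : LinTop.IsIdealOfDefinition A 𝔏)
    (hproj : ∀ J : Ideal A, IsOpen (J : Set A) → Module.Projective (A ⧸ J) (N ⧸ (J • (⊤ : Submodule A N)))) :
    (∃ w : N →ₗ[A] M, ∀ x : M, w (u x) = x) ↔
      ∃ w₀ : N →ₗ[A] M ⧸ (𝔏 • ⊤ : Submodule A M), ∀ x : M, w₀ (u x) = Submodule.Quotient.mk x := by
  classical
  refine ⟨fun ⟨w, hw⟩ => ⟨Submodule.mkQ _ ∘ₗ w, fun x => congrArg Submodule.Quotient.mk (hw x)⟩, fun ⟨w₀, hw₀⟩ => ?_⟩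
  have kill : ∀ (I : Ideal A) (m : M ⧸ (I • ⊤ : Submodule A M)) (a : A), a ∈ I → a • m = 0 := fun I m a ha => by
    obtain ⟨m, rfl⟩ := Submodule.Quotient.mk_surjective _ m
    rw [← Submodule.Quotient.mk_smul, Submodule.Quotient.mk_eq_zero]
    exact Submodule.smul_mem_smul ha trivial
  have desc : ∀ (I I' : Ideal A) (_ : I ≤ I') (f : N →ₗ[A] M ⧸ (I' • ⊤ : Submodule A M)),
      (I • ⊤ : Submodule A N) ≤ LinearMap.ker f := fun I I' hI f =>
    Submodule.smul_le.2 fun a ha c _ => by rw [LinearMap.mem_ker, map_smul, kill I' _ a (hI ha)]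
  have hex : ∀ n, ∃ v : N →ₗ[A] M ⧸ (𝔍 n • ⊤ : Submodule A M), ∀ x, v (u x) = Submodule.Quotient.mk x := by
    intro n
    let T := M ⧸ (𝔍 n • ⊤ : Submodule A M)
    have hle : (𝔏 • ⊤ : Submodule A M) ≤ (𝔏 ⊔ 𝔍 n) • ⊤ := Submodule.smul_mono_left le_sup_left
    let w1 : N →ₗ[A] M ⧸ ((𝔏 ⊔ 𝔍 n) • ⊤ : Submodule A M) := Submodule.factor hle ∘ₗ w₀
    let w2 := Submodule.liftQ _ w1 (desc (𝔍 n) _ le_sup_right w1)
    haveI := hproj (𝔍 n) (h𝔍open n)
    have hle2 : (𝔍 n • ⊤ : Submodule A M) ≤ (𝔏 ⊔ 𝔍 n) • ⊤ := Submodule.smul_mono_left le_sup_right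
    obtain ⟨g, hg⟩ := Groth.Agent.TopModSplitLib.exists_lift (𝔍 n) (fun a ha m => kill _ m a ha)
      (Submodule.factor hle2) (Submodule.factor_surjective _) w2
    let G : N →ₗ[A] T := g ∘ₗ Submodule.mkQ _
    let e : Module.End A T := Submodule.liftQ _ (G ∘ₗ u.toLinearMap) (Submodule.smul_le.2 fun a ha c _ => by
      rw [LinearMap.mem_ker, map_smul]; exact kill _ _ a ha)
    have he : ∀ t : T, (e - 1) t ∈ (𝔏 • ⊤ : Submodule A T) := by
      intro t
      obtain ⟨m, rfl⟩ := Submodule.Quotient.mk_surjective _ t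
      obtain ⟨c, hc⟩ := Submodule.Quotient.mk_surjective _ ((e - 1) (Submodule.Quotient.mk m))
      have h1 : Submodule.factor hle2 (G (u m)) = Submodule.Quotient.mk m := by
        show (Submodule.factor hle2 ∘ₗ g) (Submodule.Quotient.mk (u m)) = _
        rw [hg]
        show Submodule.factor hle (w₀ (u m)) = _
        rw [hw₀]; rfl
      have h2 : c ∈ ((𝔏 ⊔ 𝔍 n) • ⊤ : Submodule A M) := by
        rw [← Submodule.Quotient.mk_eq_zero]
        have h3 := congrArg (Submodule.factor hle2) hc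
        rw [LinearMap.sub_apply, map_sub, Module.End.one_apply] at h3
        exact h3.trans (sub_eq_zero.2 h1)
      rw [Submodule.sup_smul] at h2
      obtain ⟨l, hl, j, hj, rfl⟩ := Submodule.mem_sup.1 h2
      rw [← hc, Submodule.Quotient.mk_add, (Submodule.Quotient.mk_eq_zero _).2 hj, add_zero]
      have := Submodule.mem_map_of_mem (f := Submodule.mkQ (𝔍 n • ⊤ : Submodule A M)) hl
      rw [Submodule.map_smul''] at this
      exact Submodule.smul_mono le_rfl le_top this
    obtain ⟨k, hk0, hk⟩ := h𝔏.2 _ ((h𝔍open n).mem_nhds (𝔍 n).zero_mem)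
    have hpow : ∀ j (t : T), ((e - 1) ^ j) t ∈ (𝔏 ^ j • ⊤ : Submodule A T) := by
      intro j
      induction j with
      | zero => intro t; simp [Ideal.one_eq_top]
      | succ j ih =>
        intro t
        rw [pow_succ (e - 1) j, Module.End.mul_apply, pow_succ 𝔏 j]
        refine Submodule.smul_induction_on (he t) (fun a ha c _ => ?_) (fun a b ha hb => by rw [map_add]; exact add_mem ha hb)
        rw [map_smul, mul_comm (𝔏 ^ j) 𝔏, ← smul_eq_mul 𝔏, Submodule.smul_assoc]
        exact Submodule.smul_mem_smul ha (ih c)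
    have hnil : (e - 1) ^ k = 0 := LinearMap.ext fun t => by
      have := hpow k t
      have hz : (𝔏 ^ k • ⊤ : Submodule A T) = ⊥ :=
        le_bot_iff.1 (Submodule.smul_le.2 fun a ha c _ => by rw [Submodule.mem_bot]; exact kill _ c a (hk ha))
      rw [hz, Submodule.mem_bot] at this
      exact this
    have hu : IsUnit e := by
      have := IsNilpotent.isUnit_add_one (⟨k, hnil⟩ : IsNilpotent (e - 1))
      rwa [sub_add_cancel] at this
    obtain ⟨U, hU⟩ := hu
    refine ⟨(↑U⁻¹ : Module.End A T) ∘ₗ G, fun x => ?_⟩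
    show (↑U⁻¹ : Module.End A T) (e (Submodule.Quotient.mk x)) = _
    rw [← Module.End.mul_apply, ← hU, Units.inv_mul, Module.End.one_apply]
  choose v hv using hex
  have hlift : ∀ n (d : N →ₗ[A] M ⧸ (𝔍 n • ⊤ : Submodule A M)), (∀ x, d (u x) = 0) →
      ∃ h : N →ₗ[A] M ⧸ (𝔍 (n + 1) • ⊤ : Submodule A M), (∀ x, h (u x) = 0) ∧
        Submodule.factor (Submodule.smul_mono_left (h𝔍anti n.le_succ)) ∘ₗ h = d := by
    intro n d hd
    haveI := hproj (𝔍 (n + 1)) (h𝔍open (n + 1))
    obtain ⟨h0, hh0⟩ := Groth.Agent.TopModSplitLib.exists_lift (𝔍 (n + 1)) (fun a ha m => kill _ m a ha)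
      (Submodule.factor (Submodule.smul_mono_left (h𝔍anti n.le_succ) :
        (𝔍 (n + 1) • ⊤ : Submodule A M) ≤ 𝔍 n • ⊤)) (Submodule.factor_surjective _)
      (Submodule.liftQ _ d (desc (𝔍 (n + 1)) _ (h𝔍anti n.le_succ) d))
    let h1 := h0 ∘ₗ Submodule.mkQ (𝔍 (n + 1) • ⊤ : Submodule A N)
    let ψ : M ⧸ (𝔍 (n + 1) • ⊤ : Submodule A M) →ₗ[A] M ⧸ (𝔍 (n + 1) • ⊤ : Submodule A M) :=
      Submodule.liftQ _ (h1 ∘ₗ u.toLinearMap) (Submodule.smul_le.2 fun a ha c _ => by
        rw [LinearMap.mem_ker, map_smul]; exact kill _ _ a ha)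
    refine ⟨h1 - ψ ∘ₗ v (n + 1), fun x => ?_, LinearMap.ext fun y => ?_⟩
    · simp only [LinearMap.sub_apply, LinearMap.comp_apply (f := ψ), hv]
      exact sub_self _
    · obtain ⟨m, hm⟩ := Submodule.Quotient.mk_surjective _ (v (n + 1) y)
      rw [LinearMap.comp_apply, LinearMap.sub_apply, map_sub, LinearMap.comp_apply ψ, ← hm]
      have e1 : ∀ z, Submodule.factor (Submodule.smul_mono_left (h𝔍anti n.le_succ)) (h1 z) = d z := fun z =>
        LinearMap.congr_fun hh0 (Submodule.Quotient.mk z)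
      show _ - Submodule.factor _ (h1 (u m)) = d y
      rw [e1, e1, hd, sub_zero]
  obtain ⟨W, hW, hc⟩ := Groth.Agent.TopModSplitLib.exists_compatible 𝔍 h𝔍anti u.toLinearMap v hv hlift
  exact Groth.Agent.TopModSplitLib.exists_leftInverse 𝔍 h𝔍open h𝔍anti h𝔍basis hM u.toLinearMap W hW hc

end Groth.Agent.S5839
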