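import Groth.Statements.S5858
import Groth.Agent.ZClosLib.DimGe
-- import your own Groth.Agent.* helpers here

set_option autoImplicit false
universe u
open ZClos

namespace Groth.Agent.S5858

open CategoryTheory CategoryTheory.Limits AlgebraicGeometry in
/-- For a locally Noetherian scheme X, a subset Z of X stable under specialization and a coherent
O_X-module F whose Z-closure H⁰_{X/Z}(F) is coherent: for every associated point x of F outside Z
and every specialization y of x lying in Z, the closure of y has codimension at least 2 in the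
closure of x, that is, the quotient of O_{X,y} by the prime ideal of the generization x has
dimension at least 2. -/
theorem result (X : Scheme.{u}) [IsLocallyNoetherian X] (Z : Set X)
    (hZ : StableUnderSpecialization Z) (F : X.Modules) (hF : Coh.IsCoh F)
    (hH : Coh.IsCoh ((ZClos.H0 Z).obj F))
    (x : X) (hx : x ∈ AssSch.Ass F) (hxZ : x ∉ Z) (y : X) (hy : y ∈ Z) (h : x ⤳ y) :
    (2 : WithBot ℕ∞) ≤ ringKrullDim (X.presheaf.stalk y ⧸
      (IsLocalRing.maximalIdeal (X.presheaf.stalk x)).comap (X.presheaf.stalkSpecializes h).hom) := by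
  have hy2 := ZClosLib.depth_H0_ge_two hZ hH y hy
  have hxA : Curv2.IsWeakAssPoint ((ZClos.H0 Z).obj F) x :=
    (AssPointLib.assPoint_iff_weak _ x).mp
      (show IsAssociatedPrime (IsLocalRing.maximalIdeal (X.presheaf.stalk x))
          ((DevissLib.St x).obj ((ZClos.H0 Z).obj F)) from (LinearEquiv.AssociatedPrimes.eq (ZClosLib.stalkEquiv (F := F) hxZ)).le hx)
  haveI : IsNoetherian (X.presheaf.stalk y) ((DevissLib.St y).obj ((ZClos.H0 Z).obj F)) :=
    DevissLib.isNoetherian_stalk hH y
  exact CommAlgDim.depth_le_ringKrullDim_quotient (n := 2) (ZClosLib.isAssociatedPrime_comap hH h hxA)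
    ((CommAlgDim.le_depth_iff (R := X.presheaf.stalk y) (M := (DevissLib.St y).obj ((ZClos.H0 Z).obj F)) 2).mp hy2)

end Groth.Agent.S5858
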