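import Groth.Statements.S5861
import Groth.Agent.ZClosLib.DimGe
-- import your own Groth.Agent.* helpers here

set_option autoImplicit false
universe u
open ZClos

namespace Groth.Agent.S5861

open CategoryTheory CategoryTheory.Limits AlgebraicGeometry in
/-- Suppose X is a locally Noetherian scheme and F is a coherent O_X-module whose support is the whole
of X. Assume no associated point of F has a local ring of X of dimension 1, and assume H⁰_{X/Z}(F)
is coherent, where Z = Z^(2)(X) denotes the set of points whose local ring has dimension at least 2.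
Consider the set U of points x where F satisfies (S_2), meaning depth(F_{x'}) ≥ min(2, dim F_{x'})
holds at every generization x' of x. Then U is an open subset, and the points lying outside U form a
set of codimension ≥ 2: the local ring at any such point has dimension at least 2. -/
theorem result (X : Scheme.{u}) [IsLocallyNoetherian X] (F : X.Modules) (hF : Coh.IsCoh F)
    (hsupp : ∀ x : X, Nontrivial (F.presheaf.stalk x))
    (hass : ∀ x ∈ AssSch.Ass F, ringKrullDim (X.presheaf.stalk x) ≠ 1)
    (hH : Coh.IsCoh ((ZClos.H0 (ZClos.dimGe X 2)).obj F)) :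
    IsOpen {x : X | ∀ x' : X, x' ⤳ x →
        min (2 : WithBot ℕ∞) (Module.supportDim (X.presheaf.stalk x') (F.presheaf.stalk x')) ≤
          ((LocCoh.depth (X.presheaf.stalk x') (F.presheaf.stalk x') : ℕ∞) : WithBot ℕ∞)} ∧
      ∀ x : X, (¬ ∀ x' : X, x' ⤳ x →
        min (2 : WithBot ℕ∞) (Module.supportDim (X.presheaf.stalk x') (F.presheaf.stalk x')) ≤
          ((LocCoh.depth (X.presheaf.stalk x') (F.presheaf.stalk x') : ℕ∞) : WithBot ℕ∞)) →
        (2 : WithBot ℕ∞) ≤ ringKrullDim (X.presheaf.stalk x) := by
  have hZ := ZClosLib.stableUnderSpecialization_dimGe (X := X) 2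
  have hs2 : ∀ x : X, min (2 : WithBot ℕ∞) (Module.supportDim (X.presheaf.stalk x) (F.presheaf.stalk x)) ≤
      ((LocCoh.depth (X.presheaf.stalk x) (F.presheaf.stalk x) : ℕ∞) : WithBot ℕ∞) ↔
      (x ∈ ZClos.dimGe X 2 → (2 : ℕ∞) ≤ LocCoh.depth (X.presheaf.stalk x) (F.presheaf.stalk x)) := by
    intro x
    constructor
    · intro h hx
      have he : Module.supportDim (X.presheaf.stalk x) (F.presheaf.stalk x) = ringKrullDim (X.presheaf.stalk x) := by
        exact ZClosLib.supportDim_stalk hF hsupp x
      rw [he, min_eq_left (show (2 : WithBot ℕ∞) ≤ _ from hx)] at h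
      exact WithBot.coe_le_coe.mp h
    · intro h
      by_cases hx : x ∈ ZClos.dimGe X 2
      · exact (min_le_left _ _).trans (WithBot.coe_le_coe.mpr (h hx))
      haveI := ZClosLib.finite_stalk hF x
      rcases ZClosLib.dim_eq_zero_or_one hx with h0 | h1
      · exact ((min_le_right _ _).trans ((Module.supportDim_le_ringKrullDim _ _).trans h0.le)).trans
          (WithBot.coe_le_coe.mpr bot_le)
      · exact ((min_le_right _ _).trans ((Module.supportDim_le_ringKrullDim _ _).trans h1.le)).trans
          (WithBot.coe_le_coe.mpr (ZClosLib.depth_ge_one_iff.mpr fun ha => hass x ha h1))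
  refine ⟨?_, fun x hx => ?_⟩
  · convert ZClosLib.isOpen_closedLocus hF hH using 1
    ext x
    simp only [Set.mem_ofPred_eq, hs2]
    exact (ZClosLib.isZClosedAt_iff hZ hF x).symm.trans
      (and_congr (ZClosLib.rhoStalk_injective_iff x) (ZClosLib.rhoStalk_surjective_iff x))
  · simp only [hs2, not_forall] at hx
    obtain ⟨x', hx', hx'Z, -⟩ := hx
    exact hZ hx' hx'Z

end Groth.Agent.S5861
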