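import Groth.Statements.S5862
import Groth.Agent.BirUnibLib.Radicial
-- import your own Groth.Agent.* helpers here

set_option autoImplicit false
universe u
open RadPt

namespace Groth.Agent.S5862

open CategoryTheory AlgebraicGeometry in
/-- Let f : X → Y and g : Y → Z be morphisms of schemes and y a point of Y. If f is radicial at y (fibre
with at most one point, purely inseparable residue field extension) and g is radicial at g(y), then
g ∘ f is radicial at g(y). Conversely, if f is surjective and g ∘ f is radicial at g(y), then f is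
radicial at y and g is radicial at g(y). -/
theorem result {X Y Z : Scheme.{u}} (f : X ⟶ Y) (g : Y ⟶ Z) (y : Y) :
    (RadPt.IsRadicialAt f y → RadPt.IsRadicialAt g (g y) → RadPt.IsRadicialAt (f ≫ g) (g y)) ∧
      (Surjective f → RadPt.IsRadicialAt (f ≫ g) (g y) →
        RadPt.IsRadicialAt f y ∧ RadPt.IsRadicialAt g (g y)) := by
  simp only [BirUnibLib.isRadicialAt_iff]
  refine ⟨fun hf hg K _ g₁ g₂ h hz => ?_, fun hs hfg => ⟨fun K _ g₁ g₂ h hy => ?_, fun K _ g₁ g₂ h hz => ?_⟩⟩
  · have e : g₁ ≫ f = g₂ ≫ f := hg K _ _ (by simpa only [Category.assoc] using h) (fun s => by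
      rw [Scheme.Hom.comp_apply]; exact hz s)
    refine hf K g₁ g₂ e fun s => ?_
    exact ((BirUnibLib.isRadicialAt_iff g (g y)).2 hg).1 _ y (by exact hz s) rfl
  · exact hfg K g₁ g₂ (by rw [← Category.assoc, h, Category.assoc]) fun s => by rw [Scheme.Hom.comp_apply, hy]
  · obtain ⟨x₁, hx₁⟩ := f.surjective (g₁ (IsLocalRing.closedPoint K))
    obtain ⟨L, hL, i, g₁', hg₁, hs₁⟩ := BirUnibLib.exists_lift f g₁ x₁ hx₁.symm
    obtain ⟨x₂, hx₂⟩ := f.surjective ((Spec.map (CommRingCat.ofHom i) ≫ g₂) (IsLocalRing.closedPoint L))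
    obtain ⟨M, hM, j, g₂', hg₂, hs₂⟩ := BirUnibLib.exists_lift f (Spec.map (CommRingCat.ofHom i) ≫ g₂) x₂ hx₂.symm
    have e := hfg M (Spec.map (CommRingCat.ofHom j) ≫ g₁') g₂' (by
        rw [← Category.assoc, ← Category.assoc, Category.assoc _ g₁', hg₁, hg₂]
        simp only [Category.assoc]
        rw [h]) fun s => by
      rw [Scheme.Hom.comp_apply, Scheme.Hom.comp_apply, hs₁, hx₁]
      exact hz _
    refine BirUnibLib.cancel_field i _ _ (BirUnibLib.cancel_field j _ _ ?_)
    rw [← hg₁, ← hg₂, ← Category.assoc, e]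

end Groth.Agent.S5862
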