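import Groth.Statements.S5864
import Groth.Agent.BirUnibLib.Radicial
import Groth.Agent.BirUnibLib.Scheme
-- import your own Groth.Agent.* helpers here

set_option autoImplicit false
universe u
open RadPt

namespace Groth.Agent.S5864

open CategoryTheory AlgebraicGeometry in
set_option backward.isDefEq.respectTransparency false in
/-- Let f : X → Y be a morphism of schemes whose induced morphism of reduced schemes is birational (f
maps the maximal points of X bijectively onto those of Y, with one-point fibres and trivial residue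
field extensions over the maximal points of Y), g : Y' → Y a flat morphism and f' : X ×_Y Y' → Y'
the base change (any cartesian square). Then the morphism of reduced schemes induced by f' is
birational in the same sense. -/
theorem result {X Y X' Y' : Scheme.{u}} {f : X ⟶ Y} {g : Y' ⟶ Y} [Flat g] {f' : X' ⟶ Y'} {g' : X' ⟶ X}
    (sq : IsPullback g' f' f g) (hf : RadPt.IsBirational f) : RadPt.IsBirational f' := by
  have hg : GeneralizingMap g := Flat.generalizingMap g
  haveI : Flat g' := MorphismProperty.of_isPullback sq.flip ‹Flat g›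
  have hgX : GeneralizingMap g' := Flat.generalizingMap g'
  have hmax : ∀ y', y' ∈ genericPoints Y' → g y' ∈ genericPoints Y := fun y' hy => by
    rw [BirUnibLib.genericPoints_iff] at hy ⊢
    intro y hy'
    obtain ⟨y'', hy'', rfl⟩ := hg hy'
    rw [hy y'' hy'']
  have hmaxX : ∀ x', x' ∈ genericPoints X' → g' x' ∈ genericPoints X := fun x' hx => by
    rw [BirUnibLib.genericPoints_iff] at hx ⊢
    intro x hx'
    obtain ⟨x'', hx'', rfl⟩ := hgX hx'
    rw [hx x'' hx'']
  have hfib : ∀ y', g y' ∈ genericPoints Y →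
      (∀ x x' : X', f' x = y' → f' x' = y' → x = x') ∧ (∀ x', f' x' = y' → Function.Bijective (f'.residueFieldMap x').hom) ∧
      ∃ σ : g.fiber (g y') ⟶ X', σ ≫ f' = g.fiberι (g y') := fun y' hy => by
    obtain ⟨hinj, hbij⟩ := hf.2 _ hy
    have hrad : RadPt.IsRadicialAt f (g y') := ⟨hinj, fun x hx => by
      have hb := hbij x hx
      algebraize [(f.residueFieldMap x).hom]
      rw [RingHom.IsPurelyInseparable]
      obtain ⟨q, hq⟩ := ExpChar.exists (Y.residueField (f x))
      exact (isPurelyInseparable_iff_pow_mem (Y.residueField (f x)) q).2 fun z => ⟨0, by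
        obtain ⟨w, hw⟩ := hb.2 z
        exact ⟨w, hw.trans (by rw [pow_zero, pow_one])⟩⟩⟩
    have hrad' : RadPt.IsRadicialAt f' y' := by
      rw [BirUnibLib.isRadicialAt_iff] at hrad ⊢
      intro K _ g₁ g₂ he hy'
      refine sq.hom_ext (hrad K _ _ ?_ fun s => ?_) he
      · simp only [Category.assoc, sq.w]
        rw [← Category.assoc, he, Category.assoc]
      · rw [← Scheme.Hom.comp_apply, Category.assoc, sq.w, Scheme.Hom.comp_apply, Scheme.Hom.comp_apply, hy']
    obtain ⟨x, -, hx⟩ := hf.1.surjOn hy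
    haveI : IsIso (f.residueFieldMap x) := (ConcreteCategory.isIso_iff_bijective _).2 (hbij x hx)
    let e : X.residueField x ⟶ Y.residueField (g y') :=
      inv (f.residueFieldMap x) ≫ (Y.residueFieldCongr hx).hom
    have he : Spec.map e ≫ X.fromSpecResidueField x ≫ f = Y.fromSpecResidueField (g y') := by
      rw [← Scheme.Hom.SpecMap_residueFieldMap_fromSpecResidueField, ← Category.assoc, ← Spec.map_comp]
      simp only [e, IsIso.hom_inv_id_assoc]
      exact Scheme.residueFieldCongr_fromSpecResidueField hx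
    let σ : g.fiber (g y') ⟶ X' :=
      sq.lift (g.fiberToSpecResidueField (g y') ≫ Spec.map e ≫ X.fromSpecResidueField x) (g.fiberι (g y')) (by
        simp only [Category.assoc]
        rw [he]
        exact (g.fiber_fac (g y')).symm)
    refine ⟨hrad'.1, fun x' hx' => ?_, σ, sq.lift_snd _ _ _⟩
    refine ⟨RingHom.injective _, ?_⟩
    let s : Spec (Y'.residueField y') ⟶ X' := g.asFiberHom y' ≫ σ
    have hs : s ≫ f' = Y'.fromSpecResidueField y' := by
      simp only [s, σ, Category.assoc, sq.lift_snd]
      exact g.asFiberHom_fiberι y'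
    obtain ⟨x₀, φ, hφ⟩ := BirUnibLib.exists_pt (K := Y'.residueField y') s
    have hx₀ : f' x₀ = y' := by
      have h2 : (s ≫ f') (IsLocalRing.closedPoint (Y'.residueField y')) = y' := by
        rw [hs]; exact Scheme.fromSpecResidueField_apply _ _
      rw [hφ] at h2
      simp only [BirUnibLib.pt, Scheme.Hom.comp_apply, Scheme.fromSpecResidueField_apply] at h2
      exact h2
    obtain rfl : x' = x₀ := hrad'.1 x' x₀ hx' hx₀
    subst hx'
    rw [hφ, BirUnibLib.pt_comp] at hs
    have h3 : f'.residueFieldMap x' ≫ φ = 𝟙 _ :=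
      BirUnibLib.pt_inj (K := Y'.residueField (f' x')) (f' x') _ _ (hs.trans (by simp only [BirUnibLib.pt]; rw [show (𝟙 (Y'.residueField (f' x'))) = 𝟙 _ from rfl, Spec.map_id]; rfl))
    intro z
    exact ⟨φ.hom z, φ.hom.injective (congr($(h3).hom (φ.hom z)))⟩
  refine ⟨⟨fun x' hx' => ?_, fun a ha b hb e => ?_, fun y' hy' => ?_⟩, fun y' hy' => ⟨(hfib y' (hmax y' hy')).1, (hfib y' (hmax y' hy')).2.1⟩⟩
  · have hgy : g (f' x') ∈ genericPoints Y := by
      rw [← Scheme.Hom.comp_apply, ← sq.w, Scheme.Hom.comp_apply]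
      exact hf.1.mapsTo (hmaxX x' hx')
    obtain ⟨hinj, -, σ, hσ⟩ := hfib (f' x') hgy
    rw [BirUnibLib.genericPoints_iff] at hx' ⊢
    intro y'' hy''
    have hy0 : g y'' = g (f' x') :=
      (BirUnibLib.genericPoints_iff _).1 hgy _ (hy''.map g.continuous)
    obtain ⟨a, ha⟩ : y'' ∈ Set.range (g.fiberι (g (f' x'))) := by rw [g.range_fiberι]; exact hy0
    have hb := g.fiberι_asFiber (f' x')
    have hab : a ⤳ g.asFiber (f' x') :=
      (g.fiberι (g (f' x'))).isEmbedding.isInducing.specializes_iff.1 (by rw [ha, hb]; exact hy'')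
    have hσa : ∀ c, f' (σ c) = g.fiberι (g (f' x')) c := fun c => by rw [← Scheme.Hom.comp_apply, hσ]
    have h1 : σ (g.asFiber (f' x')) = x' := hinj _ _ ((hσa _).trans hb) rfl
    have h2 : σ a = x' := hx' _ (by
      have h3 := hab.map σ.continuous
      rwa [h1] at h3)
    rw [← ha, ← hσa, h2]
  · have hgy : g (f' a) ∈ genericPoints Y := by
      rw [← Scheme.Hom.comp_apply, ← sq.w, Scheme.Hom.comp_apply]
      exact hf.1.mapsTo (hmaxX a ha)
    exact (hfib (f' a) hgy).1 a b rfl e.symm
  · obtain ⟨hinj, -, σ, hσ⟩ := hfib y' (hmax y' hy')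
    refine ⟨σ (g.asFiber y'), ?_, ?_⟩
    · rw [BirUnibLib.genericPoints_iff] at hy' ⊢
      intro x'' hx''
      have h1 : f' (σ (g.asFiber y')) = y' := by rw [← Scheme.Hom.comp_apply, hσ]; exact g.fiberι_asFiber y'
      exact hinj _ _ (hy' _ (h1 ▸ hx''.map f'.continuous)) h1
    · rw [← Scheme.Hom.comp_apply, hσ]
      exact g.fiberι_asFiber y'

end Groth.Agent.S5864
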