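import Groth.Statements.S5866
import Groth.Agent.BirUnibLib.Scheme
-- import your own Groth.Agent.* helpers here

set_option autoImplicit false
universe u
open RadPt

namespace Groth.Agent.S5866

open CategoryTheory AlgebraicGeometry in
/-- Let f : X → Y be a morphism of schemes which is integral and whose induced morphism of reduced
schemes is birational. Then Y is geometrically unibranch (at every point) if and only if X is
geometrically unibranch and f is radicial (universally injective). -/
theorem result {X Y : Scheme.{u}} (f : X ⟶ Y) [IsIntegralHom f] (hf : RadPt.IsBirational f) :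
    (∀ y : Y, CAlg2.IsGeomUnibranch (Y.presheaf.stalk y)) ↔
      ((∀ x : X, CAlg2.IsGeomUnibranch (X.presheaf.stalk x)) ∧ UniversallyInjective f) := by
  have h2 : UniversallyInjective f ↔ ∀ y, RadPt.IsRadicialAt f y := by
    rw [((tfae_universallyInjective f).out 0 2 :)]
    exact ⟨fun ⟨hi, hp⟩ y => ⟨fun x x' h h' => hi (h.trans h'.symm), fun x _ => hp x⟩,
      fun h => ⟨fun x x' e => (h (f x')).1 x x' e rfl, fun x => (h (f x)).2 x rfl⟩⟩
  constructor
  · intro h
    refine ⟨fun x => ((BirUnibLib.isGeomUnibranch_stalk_iff f hf (f x)).1 (h _)).2 x rfl, h2.2 fun y => ?_⟩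
    exact ((BirUnibLib.isGeomUnibranch_stalk_iff f hf y).1 (h _)).1
  · exact fun ⟨hX, hu⟩ y => (BirUnibLib.isGeomUnibranch_stalk_iff f hf y).2 ⟨h2.1 hu y, fun x _ => hX x⟩

end Groth.Agent.S5866
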