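import Groth.Statements.S5868
import Groth.Agent.ZClosLib.AffineFin
import Groth.Agent.ZClosLib.FlatPull
import Groth.Agent.AssPointLib.Push
import Groth.Agent.DualCxLib.Chart
import Groth.Agent.S5858
import Groth.Agent.S2666

set_option autoImplicit false
set_option backward.isDefEq.respectTransparency false
universe u
open ZClos

namespace Groth.Agent.S5868

open CategoryTheory CategoryTheory.Limits AlgebraicGeometry

/-- The Z-closure along a closed set is a single direct image. -/
theorem isCoh_H0_of_closed {X : Scheme.{u}} {Z : Set X} (F : X.Modules) (T : ZClos.Cl Z)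
    (h : Coh.IsCoh ((ZClos.resPush T.U).obj F)) : Coh.IsCoh ((ZClos.H0 (T.1 : Set X)).obj F) := by
  let T' : ZClos.Cl (T.1 : Set X) := ⟨T.1, subset_rfl⟩
  have hT : IsTerminal T' := IsTerminal.ofUniqueHom (fun S => homOfLE (show S.1 ≤ T.1 from S.2))
    (fun _ _ => Subsingleton.elim _ _)
  exact QCohLib.isCoh_of_iso (colimit.isoColimitCocone
    ⟨_, colimitOfDiagramTerminal hT ((ZClos.diagram (T.1 : Set X)).obj F)⟩).symm h

/-- The codimension estimate. -/
theorem two_le_height {X : Scheme.{u}} [IsLocallyNoetherian X] {Z : Set X}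
    (F : X.Modules) (hF : Coh.IsCoh F) (hass : ∀ x ∈ AssSch.Ass F, x ∉ Z) (T : ZClos.Cl Z)
    (hT : Coh.IsCoh ((ZClos.resPush T.U).obj F)) {V : X.Opens} (hV : IsAffineOpen V) [IsNoetherianRing Γ(X, V)]
    {x y : X} (hxV : x ∈ V) (hyV : y ∈ V) (hx : x ∈ AssSch.Ass F) (hy : y ∈ (T.1 : Set X)) (h : x ⤳ y)
    (hle : (hV.primeIdealOf ⟨x, hxV⟩).asIdeal ≤ (hV.primeIdealOf ⟨y, hyV⟩).asIdeal) :
    (2 : ℕ∞) ≤ ((hV.primeIdealOf ⟨y, hyV⟩).asIdeal.map
      (Ideal.Quotient.mk (hV.primeIdealOf ⟨x, hxV⟩).asIdeal)).height := by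
  have h2 := S5858.result X (T.1 : Set X) T.1.isClosed.stableUnderSpecialization F hF
    (isCoh_H0_of_closed F T hT) x hx (fun hxT => hass x hx (T.2 hxT)) y hy h
  let alg := X.presheaf.algebra_section_stalk (⟨y, hyV⟩ : V)
  haveI : IsLocalization.AtPrime (X.presheaf.stalk y) (hV.primeIdealOf ⟨y, hyV⟩).asIdeal :=
    hV.isLocalization_stalk ⟨y, hyV⟩
  set P := (hV.primeIdealOf ⟨x, hxV⟩).asIdeal with hP
  set Q := (hV.primeIdealOf ⟨y, hyV⟩).asIdeal with hQ
  set J := (IsLocalRing.maximalIdeal (X.presheaf.stalk x)).comap (X.presheaf.stalkSpecializes h).hom with hJ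
  let e : Localization.AtPrime Q ≃ₐ[Γ(X, V)] X.presheaf.stalk y := IsLocalization.algEquiv Q.primeCompl _ _
  have hJle : P.map (algebraMap Γ(X, V) (Localization.AtPrime Q)) ≤ J.comap e.toRingEquiv.toRingHom := by
    refine Ideal.map_le_iff_le_comap.2 fun a ha => ?_
    show (X.presheaf.stalkSpecializes h) (e (algebraMap Γ(X, V) (Localization.AtPrime Q) a)) ∈
      IsLocalRing.maximalIdeal (X.presheaf.stalk x)
    rw [e.commutes]
    show (X.presheaf.stalkSpecializes h) (X.presheaf.germ V y hyV a) ∈ _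
    rw [TopCat.Presheaf.germ_stalkSpecializes_apply]
    exact AssPointLib.germ_mem_maximal hV hxV ha
  let f : Localization.AtPrime Q ⧸ P.map (algebraMap Γ(X, V) (Localization.AtPrime Q)) →+* X.presheaf.stalk y ⧸ J :=
    Ideal.quotientMap J e.toRingEquiv.toRingHom hJle
  have hf : Function.Surjective f := by
    intro z
    obtain ⟨z, rfl⟩ := Ideal.Quotient.mk_surjective z
    obtain ⟨w, rfl⟩ := e.surjective z
    exact ⟨Ideal.Quotient.mk _ w, Ideal.quotientMap_mk⟩
  have h3 := h2.trans ((ringKrullDim_le_of_surjective f hf).trans (CommAlgDim.ringKrullDim_quotient_map_le P Q hle))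
  exact WithBot.coe_le_coe.1 h3

/-- Finite sections over an affine open. -/
theorem finite_sections (X : Scheme.{u}) [IsLocallyNoetherian X] (Z : Set X)
    (hZ : StableUnderSpecialization Z) (F : X.Modules) (hF : Coh.IsCoh F)
    (hass : ∀ x ∈ AssSch.Ass F, x ∉ Z)
    (hX : ∀ (V : X.Opens) (hV : IsAffineOpen V) (x : X) (hxV : x ∈ V), x ∈ AssSch.Ass F →
        CAlg.IsUniversallyCatenary (Γ(X, V) ⧸ (hV.primeIdealOf ⟨x, hxV⟩).asIdeal) ∧
          CAlg.IsN1 (Γ(X, V) ⧸ (hV.primeIdealOf ⟨x, hxV⟩).asIdeal))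
    (𝒯 : Set (ZClos.Cl Z)) (hcov : ∀ z ∈ Z, ∃ T ∈ 𝒯, z ∈ (T.1 : Set X))
    (hd : ∀ T ∈ 𝒯, Coh.IsCoh ((ZClos.resPush T.U).obj F)) (V : X.Opens) (hV : IsAffineOpen V) :
    Module.Finite Γ(X, V) Γ((ZClos.H0 Z).obj F, V) := by
  haveI : IsNoetherianRing Γ(X, V) := IsLocallyNoetherian.component_noetherian ⟨V, hV⟩
  haveI := hF.1
  let A := Γ(X, V)
  let f := hV.fromSpec
  haveI : IsLocallyNoetherian (Spec (CommRingCat.of A)) := inferInstance
  let G : (Spec (CommRingCat.of A)).Modules := F.restrict f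
  haveI : Coh.IsQCoh G := @Scheme.Modules.isQuasicoherent_restrictFunctor _ _ f _ F hF.1
  let N : ModuleCat.{u} A := (AlgzCohLib.ΓA A).obj G
  haveI := AlgzCohLib.isIso_counit G
  let α : G ≅ tilde (R := CommRingCat.of A) N := (asIso ((AlgzCohLib.adjA A).counit.app G)).symm
  let e := Groth.Agent.DualCxLib.sectionsEquiv hV F N α
  haveI : Module.Finite A Γ(F, V) := QCohLib.finite_of_isFT hF.2 hV
  haveI : Module.Finite A N := Module.Finite.equiv e.symm
  let Z' : Set (Spec (CommRingCat.of A)) := f.base ⁻¹' Z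
  have hZ' : StableUnderSpecialization Z' := hZ.preimage f.continuous
  have hassN : ∀ x : PrimeSpectrum A, x.asIdeal ∈ associatedPrimes A N → f.base x ∈ AssSch.Ass F := by
    intro x hx
    have hxV : f.base x ∈ V := AssPointLib.fromSpec_mem hV x
    refine (AssPointLib.assPoint_iff_weak F _).2 ((AssPointLib.weak_iff hV hxV).2 ?_)
    obtain ⟨s, hs⟩ := AssPointLib.minimal_of_isAssociatedPrime (IsAssociatedPrime.map_of_injective e.toLinearMap hx e.injective)
    exact ⟨s, by rw [AssPointLib.primeIdealOf_fromSpec]; exact hs⟩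
  haveI hfin : Module.Finite A ((ZClosLib.HF Z').obj N) := by
    refine ZClosLib.AffineFin.finite_HF hZ' N (fun x hx _ => ?_) (fun x hx _ y hy hxy => ?_)
    · have h := hX V hV (f.base x) (AssPointLib.fromSpec_mem hV x) (hassN x hx)
      rw [AssPointLib.primeIdealOf_fromSpec] at h
      exact S2666.result (A ⧸ x.asIdeal) h.1 h.2
    · obtain ⟨T, hT, hyT⟩ := hcov _ hy
      have h := two_le_height F hF hass T (hd T hT) hV (AssPointLib.fromSpec_mem hV x)
        (AssPointLib.fromSpec_mem hV y) (hassN x hx) hyT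
        (Specializes.map ((PrimeSpectrum.le_iff_specializes x y).1 hxy) f.continuous)
        (by rw [AssPointLib.primeIdealOf_fromSpec, AssPointLib.primeIdealOf_fromSpec]; exact hxy)
      rw [AssPointLib.primeIdealOf_fromSpec, AssPointLib.primeIdealOf_fromSpec] at h
      exact h
  have h1 := (ZClosLib.isCoh_iff_finite Z' hZ' N).2 hfin
  obtain ⟨eH⟩ := ZClosLib.nonempty_pullback_H0_iso f hZ hF.1
  let r := Scheme.Modules.restrictFunctorIsoPullback f
  let H := (ZClos.H0 Z).obj F
  have h2 : Coh.IsCoh (H.restrict f) := QCohLib.isCoh_of_iso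
    (((ZClos.H0 Z').mapIso (α.symm ≪≫ r.app F)) ≪≫ eH.symm ≪≫ (r.app H).symm) h1
  haveI : Coh.IsQCoh (H.restrict f) := h2.1
  haveI : Module.Finite A ((AlgzCohLib.ΓA A).obj (H.restrict f)) := AlgzCohLib.finite_ΓA h2
  haveI := AlgzCohLib.isIso_counit (H.restrict f)
  exact Module.Finite.equiv (Groth.Agent.DualCxLib.sectionsEquiv hV H ((AlgzCohLib.ΓA A).obj (H.restrict f))
    (asIso ((AlgzCohLib.adjA A).counit.app (H.restrict f))).symm)


open CategoryTheory CategoryTheory.Limits AlgebraicGeometry in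
/-- d) ⇒ a), second sufficient condition: let X be a locally Noetherian scheme, Z a subset of X stable
under specialization and F a coherent O_X-module none of whose associated points lies in Z. Assume
that for every affine open V of X with ring A and every associated point x of F in V, with prime
ideal p ⊂ A, the domain A/p is universally catenary and N-1 (its integral closure is a finite
module); that is, the reduced closed subschemes on the closures of the associated points of F are
universally catenary with finite normalization. If, for a directed family of closed subsets T of X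
contained in Z and covering Z, each direct image i_*(F|X∖T) is coherent, then H⁰_{X/Z}(F) is
coherent. (The published statement also allows, in place of the condition on the closures of the
associated points, that X be locally immersible in a regular scheme; this row omits that
alternative.) -/
theorem result (X : Scheme.{u}) [IsLocallyNoetherian X] (Z : Set X)
    (hZ : StableUnderSpecialization Z) (F : X.Modules) (hF : Coh.IsCoh F)
    (hass : ∀ x ∈ AssSch.Ass F, x ∉ Z)
    (hX : ∀ (V : X.Opens) (hV : IsAffineOpen V) (x : X) (hxV : x ∈ V), x ∈ AssSch.Ass F →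
        CAlg.IsUniversallyCatenary (Γ(X, V) ⧸ (hV.primeIdealOf ⟨x, hxV⟩).asIdeal) ∧
          CAlg.IsN1 (Γ(X, V) ⧸ (hV.primeIdealOf ⟨x, hxV⟩).asIdeal))
    (𝒯 : Set (ZClos.Cl Z)) (hdir : DirectedOn (· ≤ ·) 𝒯) (hcov : ∀ z ∈ Z, ∃ T ∈ 𝒯, z ∈ (T.1 : Set X))
    (hd : ∀ T ∈ 𝒯, Coh.IsCoh ((ZClos.resPush T.U).obj F)) :
    Coh.IsCoh ((ZClos.H0 Z).obj F) := by
  haveI : Coh.IsQCoh ((ZClos.H0 Z).obj F) := ZClosLib.isQCoh_H0 hF.1
  refine ⟨inferInstance, QCohLib.isFT_of_finite fun p => ?_⟩
  obtain ⟨V, hV, hpV⟩ := QCohLib.exists_affine_nhd p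
  exact ⟨V, hV, hpV, finite_sections X Z hZ F hF hass hX 𝒯 hcov hd V hV⟩

end Groth.Agent.S5868
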