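import Groth.Statements.S5869
import Groth.Agent.ZClosLib.Affine
import Groth.Agent.TFDualLib.Ext

set_option autoImplicit false
set_option backward.isDefEq.respectTransparency false
universe u
open ZClos

namespace Groth.Agent.S5869

open CategoryTheory CategoryTheory.Limits AlgebraicGeometry ZClosLib

section
variable {A : Type u} [CommRing A] [IsNoetherianRing A] {Z : Set (Spec (CommRingCat.of A))}
  (hZ : StableUnderSpecialization Z)

include hZ in
theorem finite_pi (B : ModuleCat.{u} A) (n : ℕ) [Module.Finite A ((HF Z).obj B)] :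
    Module.Finite A ((HF Z).obj (ModuleCat.of A (Fin n → B))) := by
  classical
  refine Module.Finite.of_injective (LinearMap.pi fun i =>
    ((HF Z).map (ModuleCat.ofHom (LinearMap.proj i) : ModuleCat.of A (Fin n → B) ⟶ B)).hom) ?_
  refine (injective_iff_map_eq_zero _).mpr fun h hh => eq_zero_of_forall Z hZ h fun x hx => ?_
  obtain ⟨s, v, hs, e⟩ := exists_smul_eq_rho Z hZ hx h
  have hv : ∀ i, ∃ t : A, t ∉ (x : PrimeSpectrum A).asIdeal ∧ t • v i = 0 := fun i => by
    refine exists_smul_eq_zero Z hx ?_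
    have h1 := rhoA_apply Z (ModuleCat.ofHom (LinearMap.proj i) : ModuleCat.of A (Fin n → B) ⟶ B) v
    rw [← e, map_smul] at h1
    refine h1.symm.trans ?_
    have h2 : ((HF Z).map (ModuleCat.ofHom (LinearMap.proj i) : ModuleCat.of A (Fin n → B) ⟶ B)).hom h = 0 :=
      congr_fun hh i
    rw [h2, smul_zero]
  choose t ht htv using hv
  refine ⟨(∏ i, t i) * s, ?_, ?_⟩
  · intro h'
    rcases (x : PrimeSpectrum A).2.mem_or_mem h' with h' | h'
    · obtain ⟨i, -, hi⟩ := (x : PrimeSpectrum A).2.prod_mem_iff.1 h'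
      exact ht i hi
    · exact hs h'
  · have h0 : (∏ i, t i) • v = 0 := funext fun i => by
      rw [Pi.smul_apply, ← Finset.prod_erase_mul _ _ (Finset.mem_univ i), mul_smul, htv i, smul_zero]
      rfl
    rw [mul_smul, e, ← map_smul, h0, map_zero]

variable (p : Ideal A) [hp : p.IsPrime]

/-- The inclusion of the quotient domain in its field of fractions. -/
noncomputable def jK : (A ⧸ p) →ₗ[A] FractionRing (A ⧸ p) :=
  (IsScalarTower.toAlgHom A (A ⧸ p) (FractionRing (A ⧸ p))).toLinearMap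

omit [IsNoetherianRing A] in
theorem jK_injective : Function.Injective (jK p) := IsFractionRing.injective (A ⧸ p) (FractionRing (A ⧸ p))

omit [IsNoetherianRing A] in
theorem smul_K (s : A) (z : FractionRing (A ⧸ p)) :
    s • z = algebraMap (A ⧸ p) (FractionRing (A ⧸ p)) (Ideal.Quotient.mk p s) * z := by
  rw [Algebra.smul_def, IsScalarTower.algebraMap_apply A (A ⧸ p) (FractionRing (A ⧸ p))]
  rfl

omit [IsNoetherianRing A] in
theorem smul_K_cancel {s : A} (hs : s ∉ p) {z z' : FractionRing (A ⧸ p)} (h : s • z = s • z') : z = z' := by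
  rw [smul_K, smul_K] at h
  refine mul_left_cancel₀ ?_ h
  rw [ne_eq, map_eq_zero_iff _ (IsFractionRing.injective (A ⧸ p) (FractionRing (A ⧸ p))),
    Ideal.Quotient.eq_zero_iff_mem]
  exact hs

variable (hpZ : (⟨p, hp⟩ : PrimeSpectrum A) ∉ Z)

/-- `z` is the value at the generic point of `h`. -/
def Rep (h : (HF Z).obj (ModuleCat.of A (A ⧸ p))) (z : FractionRing (A ⧸ p)) : Prop :=
  ∀ (s : A) (m : A ⧸ p), s • h = (rhoA Z (ModuleCat.of A (A ⧸ p))).hom m → s • z = jK p m

include hpZ in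
theorem rep_of {h : (HF Z).obj (ModuleCat.of A (A ⧸ p))} {z : FractionRing (A ⧸ p)} {s₀ : A} (hs₀ : s₀ ∉ p)
    {m₀ : A ⧸ p} (e₀ : s₀ • h = (rhoA Z (ModuleCat.of A (A ⧸ p))).hom m₀) (ez : s₀ • z = jK p m₀) :
    Rep p h z := by
  intro s m e
  have h0 : (rhoA Z (ModuleCat.of A (A ⧸ p))).hom (s • m₀ - s₀ • m) = 0 := by
    rw [map_sub, map_smul, map_smul, ← e₀, ← e, smul_comm, sub_self]
  obtain ⟨t, ht, h1⟩ := exists_smul_eq_zero Z (x := ⟨p, hp⟩) hpZ (M := ModuleCat.of A (A ⧸ p)) h0
  have h2 : (s • m₀ - s₀ • m : A ⧸ p) = 0 := by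
    change t • (s • m₀ - s₀ • m : A ⧸ p) = 0 at h1
    rw [Algebra.smul_def] at h1
    refine (mul_eq_zero.1 h1).resolve_left fun h' => ht ?_
    exact Ideal.Quotient.eq_zero_iff_mem.1 h'
  refine smul_K_cancel p hs₀ ?_
  rw [smul_comm, ez, ← map_smul, ← map_smul, sub_eq_zero.1 h2]

include hZ hpZ in
theorem exists_rep (h : (HF Z).obj (ModuleCat.of A (A ⧸ p))) : ∃ z, Rep p h z := by
  obtain ⟨s₀, m₀, hs₀, e₀⟩ := exists_smul_eq_rho Z hZ (x := ⟨p, hp⟩) hpZ h
  refine ⟨jK p m₀ / algebraMap (A ⧸ p) (FractionRing (A ⧸ p)) (Ideal.Quotient.mk p s₀),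
    rep_of p hpZ hs₀ e₀ ?_⟩
  rw [smul_K, mul_div_cancel₀]
  rw [ne_eq, map_eq_zero_iff _ (IsFractionRing.injective (A ⧸ p) (FractionRing (A ⧸ p))),
    Ideal.Quotient.eq_zero_iff_mem]
  exact hs₀

include hZ hpZ in
theorem rep_unique {h : (HF Z).obj (ModuleCat.of A (A ⧸ p))} {z z' : FractionRing (A ⧸ p)}
    (hz : Rep p h z) (hz' : Rep p h z') : z = z' := by
  obtain ⟨s₀, m₀, hs₀, e₀⟩ := exists_smul_eq_rho Z hZ (x := ⟨p, hp⟩) hpZ h
  exact smul_K_cancel p hs₀ ((hz s₀ m₀ e₀).trans (hz' s₀ m₀ e₀).symm)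

include hZ hpZ in
theorem exists_phi : ∃ φ : (HF Z).obj (ModuleCat.of A (A ⧸ p)) →ₗ[A] FractionRing (A ⧸ p),
    ∀ h, Rep p h (φ h) := by
  choose φ hφ using exists_rep hZ p hpZ
  refine ⟨{ toFun := φ, map_add' := fun h h' => ?_, map_smul' := fun a h => ?_ }, hφ⟩
  · obtain ⟨s, m, hs, e⟩ := exists_smul_eq_rho Z hZ (x := ⟨p, hp⟩) hpZ h
    obtain ⟨s', m', hs', e'⟩ := exists_smul_eq_rho Z hZ (x := ⟨p, hp⟩) hpZ h'
    refine rep_unique hZ p hpZ (hφ _) (rep_of p hpZ (s₀ := s' * s)
      (m₀ := s' • m + s • m') (fun h => (hp.mem_or_mem h).elim hs' hs) ?_ ?_)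
    · erw [map_add, map_smul, map_smul]
      rw [← e, ← e', smul_add, smul_smul, smul_smul, mul_comm s s']
    · rw [map_add, map_smul, map_smul, ← hφ h s m e, ← hφ h' s' m' e', smul_add, smul_smul, smul_smul,
        mul_comm s s']
  · obtain ⟨s, m, hs, e⟩ := exists_smul_eq_rho Z hZ (x := ⟨p, hp⟩) hpZ h
    refine rep_unique hZ p hpZ (hφ _) (rep_of p hpZ (s₀ := s) (m₀ := a • m) hs ?_ ?_)
    · erw [map_smul]
      rw [← e, smul_comm]
    · rw [map_smul, ← hφ h s m e, RingHom.id_apply, smul_comm]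

/-- The hull as a subalgebra. -/
def hull (B : Type u) [CommRing B] [IsDomain B] : Subalgebra B (FractionRing B) where
  carrier := EGA4.heightOneHull B
  mul_mem' := fun {x y} hx hy P _ hP => by
    obtain ⟨s, hs, a, ha⟩ := hx P hP
    obtain ⟨t, ht, b, hb⟩ := hy P hP
    refine ⟨s * t, fun h => (Ideal.IsPrime.mem_or_mem ‹_› h).elim hs ht, a * b, ?_⟩
    rw [map_mul, map_mul, ha, hb]; ring
  add_mem' := fun {x y} hx hy P _ hP => by
    obtain ⟨s, hs, a, ha⟩ := hx P hP
    obtain ⟨t, ht, b, hb⟩ := hy P hP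
    refine ⟨s * t, fun h => (Ideal.IsPrime.mem_or_mem ‹_› h).elim hs ht, t * a + s * b, ?_⟩
    rw [map_add, map_mul, map_mul, map_mul, ha, hb]; ring
  algebraMap_mem' := fun r P _ _ => ⟨1, fun h => (‹P.IsPrime›).ne_top (P.eq_top_iff_one.2 h), r, by
    rw [map_one, one_mul]⟩

include hZ hpZ in
theorem finite_quotient
    (hcond : ∀ y : PrimeSpectrum A, y ∈ Z → p ≤ y.asIdeal → (2 : ℕ∞) ≤ (y.asIdeal.map (Ideal.Quotient.mk p)).height)
    (ha : EGA4.HeightOneHullFinite (A ⧸ p)) : Module.Finite A ((HF Z).obj (ModuleCat.of A (A ⧸ p))) := by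
  obtain ⟨B', hB', hfin⟩ := ha
  obtain ⟨φ, hφ⟩ := exists_phi hZ p hpZ
  have hmem : ∀ h, φ h ∈ (B'.toSubmodule).restrictScalars A := by
    intro h
    show φ h ∈ (B' : Set (FractionRing (A ⧸ p)))
    rw [hB']
    intro P _ hP
    let y : PrimeSpectrum A := ⟨P.comap (Ideal.Quotient.mk p), inferInstance⟩
    have hy : y ∉ Z := fun hy => by
      have h2 := hcond y hy (fun a ha => by
        show Ideal.Quotient.mk p a ∈ P
        rw [Ideal.Quotient.eq_zero_iff_mem.2 ha]; exact P.zero_mem)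
      rw [Ideal.map_comap_of_surjective _ Ideal.Quotient.mk_surjective, hP] at h2
      exact absurd h2 (by decide)
    obtain ⟨s, m, hs, e⟩ := exists_smul_eq_rho Z hZ hy h
    exact ⟨Ideal.Quotient.mk p s, hs, m, ((smul_K p s (φ h)).symm.trans (hφ h s m e)).symm⟩
  haveI : Module.Finite (A ⧸ p) B' := hfin
  haveI : Module.Finite A B' := Module.Finite.trans (A ⧸ p) B'
  haveI : Module.Finite A ((B'.toSubmodule).restrictScalars A) := ‹Module.Finite A B'›
  refine Module.Finite.of_injective (φ.codRestrict _ hmem) ((injective_iff_map_eq_zero _).mpr fun h hh => ?_)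
  have hh0 : φ h = 0 := congrArg Subtype.val hh
  refine eq_zero_of_forall Z hZ h fun x hx => ?_
  obtain ⟨s, m, hs, e⟩ := exists_smul_eq_rho Z hZ hx h
  have hm : m = 0 := jK_injective p ((hφ h s m e).symm.trans (by rw [hh0, smul_zero, map_zero]))
  exact ⟨s, hs, by rw [e, hm, map_zero]⟩

include hZ in
theorem finite_of_good (M : Type u) [AddCommGroup M] [Module A M] [Module.Finite A M]
    (ha : ∀ (q : Ideal A) [q.IsPrime], EGA4.HeightOneHullFinite (A ⧸ q)) :
    ∀ N : Submodule A M,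
      (∀ x : PrimeSpectrum A, x.asIdeal ∈ associatedPrimes A (M ⧸ N) → x ∉ Z ∧
        ∀ y ∈ Z, x.asIdeal ≤ y.asIdeal → (2 : ℕ∞) ≤ (y.asIdeal.map (Ideal.Quotient.mk x.asIdeal)).height) →
      Module.Finite A ((HF Z).obj (ModuleCat.of A (M ⧸ N))) := by
  classical
  intro N
  induction N using IsWellFounded.induction (r := ((· > ·) : Submodule A M → Submodule A M → Prop)) with
  | ind N IH =>
  intro hN
  by_cases htriv : Subsingleton (M ⧸ N)
  · haveI := subsingleton_HF Z hZ (M := ModuleCat.of A (M ⧸ N)) fun m x hx =>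
      ⟨1, fun h => (x : PrimeSpectrum A).2.ne_top (Ideal.eq_top_iff_one _ |>.2 h), Subsingleton.elim (α := M ⧸ N) _ _⟩
    infer_instance
  haveI := not_subsingleton_iff_nontrivial.1 htriv
  obtain ⟨p, hpass, hmax⟩ : ∃ p ∈ associatedPrimes A (M ⧸ N), ∀ P ∈ associatedPrimes A (M ⧸ N), p ≤ P → P ≤ p := by
    obtain ⟨p, hp⟩ := (associatedPrimes.finite A (M ⧸ N)).exists_maximal
      (associatedPrimes.nonempty A (M ⧸ N))
    exact ⟨p, hp.1, fun P hP h => hp.2 hP h⟩
  haveI : p.IsPrime := hpass.1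
  obtain ⟨hpZ, hcond⟩ := hN ⟨p, inferInstance⟩ hpass
  haveI := finite_quotient hZ p hpZ hcond (ha p)
  let M' : Submodule A (M ⧸ N) := Submodule.torsionBySet A (M ⧸ N) (p : Set A)
  have hmem : ∀ {v : M ⧸ N}, v ∈ M' ↔ ∀ a ∈ p, a • v = 0 := fun {v} =>
    ⟨fun h a ha => (Submodule.mem_torsionBySet_iff _ _).1 h ⟨a, ha⟩,
      fun h => (Submodule.mem_torsionBySet_iff _ _).2 fun a => h a a.2⟩
  let N'' : Submodule A M := M'.comap N.mkQ
  have hle : N ≤ N'' := fun v hv => by
    show N.mkQ v ∈ M'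
    rw [Submodule.mkQ_apply, (Submodule.Quotient.mk_eq_zero N).2 hv]
    exact M'.zero_mem
  have hlt : N < N'' := by
    refine lt_of_le_of_ne hle fun h => ?_
    obtain ⟨-, v, hv⟩ := isAssociatedPrime_iff.1 hpass
    obtain ⟨v₀, rfl⟩ := Submodule.mkQ_surjective N v
    have h1 : v₀ ∈ N'' := hmem.2 fun a ha => by
      rw [hv, Submodule.mem_colon_singleton] at ha
      exact (Submodule.mem_bot A).1 ha
    rw [← h] at h1
    apply (‹p.IsPrime›).ne_top
    rw [hv, show N.mkQ v₀ = 0 from (Submodule.Quotient.mk_eq_zero N).2 h1]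
    exact eq_top_iff.2 fun a _ => Submodule.mem_colon_singleton.2 (by rw [smul_zero]; exact Submodule.zero_mem _)
  obtain ⟨T, hT⟩ := (IsNoetherian.noetherian p : p.FG)
  haveI := IH N'' hlt fun x hx => by
    refine hN x ?_
    obtain ⟨hP, v, hv⟩ := isAssociatedPrime_iff.1 hx
    obtain ⟨v₀, rfl⟩ := Submodule.mkQ_surjective N'' v
    have key : ∀ a : A, a ∈ x.asIdeal ↔ ∀ g ∈ T, a • g • N.mkQ v₀ = 0 := by
      intro a
      rw [hv, Submodule.mem_colon_singleton, Submodule.mem_bot, ← map_smul, Submodule.mkQ_apply,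
        Submodule.Quotient.mk_eq_zero]
      constructor
      · intro h g hg
        rw [smul_comm, ← map_smul N.mkQ]
        exact hmem.1 h g (hT ▸ Submodule.subset_span hg)
      · intro h
        refine hmem.2 fun b hb => ?_
        rw [← hT] at hb
        induction hb using Submodule.span_induction with
        | mem b hb => rw [map_smul, smul_comm]; exact h b hb
        | zero => rw [zero_smul]
        | add b c _ _ hb hc => rw [add_smul, hb, hc, add_zero]
        | smul r b _ hb => rw [smul_assoc, hb, smul_zero]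
    have h1 : T.inf (fun g => (⊥ : Submodule A (M ⧸ N)).colon {g • N.mkQ v₀}) ≤ x.asIdeal := fun a ha =>
      (key a).2 fun g hg => (Submodule.mem_bot A).1
        (Submodule.mem_colon_singleton.1 (Finset.inf_le (f := fun g =>
          (⊥ : Submodule A (M ⧸ N)).colon {g • N.mkQ v₀}) hg ha))
    obtain ⟨g, hg, hg'⟩ := (x.2.inf_le').1 h1
    refine isAssociatedPrime_iff.2 ⟨x.2, g • N.mkQ v₀, le_antisymm (fun a ha => ?_) hg'⟩
    exact Submodule.mem_colon_singleton.2 ((Submodule.mem_bot A).2 ((key a).1 ha g hg))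
  haveI : Module.Finite A ((HF Z).obj (ModuleCat.of A M')) := by
    haveI hnz : NoZeroSMulDivisors (A ⧸ p) M' := ⟨fun {b v} hbv => by
      obtain ⟨a, rfl⟩ := Ideal.Quotient.mk_surjective b
      refine or_iff_not_imp_right.2 fun hv => Ideal.Quotient.eq_zero_iff_mem.2 ?_
      have hv' : (v : M ⧸ N) ≠ 0 := fun h => hv (Subtype.ext h)
      obtain ⟨P, hP, hPle⟩ := exists_le_isAssociatedPrime_of_isNoetherianRing A (v : M ⧸ N) hv'
      have hpP : p ≤ P := fun c hc => hPle (Submodule.mem_colon_singleton.2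
        ((Submodule.mem_bot A).2 (hmem.1 v.2 c hc)))
      refine hmax P hP hpP (hPle (Submodule.mem_colon_singleton.2 ((Submodule.mem_bot A).2 ?_)))
      exact congrArg Subtype.val hbv⟩
    haveI : Module.Finite (A ⧸ p) M' := Module.Finite.of_restrictScalars_finite A (A ⧸ p) M'
    obtain ⟨n, f, hf⟩ := Groth.Agent.TFDualLib.exists_injective_pi (O := A ⧸ p) (FractionRing (A ⧸ p)) M'
    haveI := finite_pi hZ (ModuleCat.of A (A ⧸ p)) n
    exact Module.Finite.of_injective ((HF Z).map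
      (ModuleCat.ofHom (f.restrictScalars A) : ModuleCat.of A M' ⟶ ModuleCat.of A (Fin n → A ⧸ p))).hom
      (injective_map Z hZ _ hf)
  refine finite_of_exact Z hZ (ModuleCat.ofHom M'.subtype : ModuleCat.of A M' ⟶ ModuleCat.of A (M ⧸ N))
    (ModuleCat.ofHom (Submodule.mapQ N N'' LinearMap.id hle) : ModuleCat.of A (M ⧸ N) ⟶ ModuleCat.of A (M ⧸ N''))
    Subtype.val_injective ?_
  show LinearMap.range M'.subtype = LinearMap.ker (Submodule.mapQ N N'' LinearMap.id hle)
  rw [Submodule.range_subtype]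
  ext v
  obtain ⟨v₀, rfl⟩ := Submodule.mkQ_surjective N v
  rw [LinearMap.mem_ker, Submodule.mkQ_apply, Submodule.mapQ_apply, Submodule.Quotient.mk_eq_zero]
  exact Iff.rfl

include hZ in
theorem finite_HF (M : Type u) [AddCommGroup M] [Module A M] [Module.Finite A M]
    (ha : ∀ (q : Ideal A) [q.IsPrime], EGA4.HeightOneHullFinite (A ⧸ q))
    (hM : ∀ x : PrimeSpectrum A, x.asIdeal ∈ associatedPrimes A M → x ∉ Z →
      ∀ y ∈ Z, x.asIdeal ≤ y.asIdeal → (2 : ℕ∞) ≤ (y.asIdeal.map (Ideal.Quotient.mk x.asIdeal)).height) :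
    Module.Finite A ((HF Z).obj (ModuleCat.of A M)) := by
  classical
  let M₀ : Submodule A M := LinearMap.ker (rhoA Z (ModuleCat.of A M)).hom
  haveI : Module.Finite A ((HF Z).obj (ModuleCat.of A M₀)) := by
    haveI := subsingleton_HF Z hZ (M := ModuleCat.of A M₀) fun m x hx => by
      obtain ⟨a, ha, e⟩ := exists_smul_eq_zero Z hx (M := ModuleCat.of A M) (LinearMap.mem_ker.1 m.2)
      exact ⟨a, ha, Subtype.ext e⟩
    infer_instance
  haveI := finite_of_good hZ M ha M₀ fun x hx => by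
    obtain ⟨-, v, hv⟩ := isAssociatedPrime_iff.1 hx
    obtain ⟨m, rfl⟩ := Submodule.mkQ_surjective M₀ v
    have hk : ∀ a, a ∈ x.asIdeal ↔ a • m ∈ M₀ := fun a => by
      rw [hv, Submodule.mem_colon_singleton, Submodule.mem_bot, ← map_smul, Submodule.mkQ_apply,
        Submodule.Quotient.mk_eq_zero]
    have hxZ : x ∉ Z := fun hxZ => x.2.ne_top (Ideal.eq_top_iff_one _ |>.2 ((hk 1).2 (by
      rw [one_smul]
      refine LinearMap.mem_ker.2 (eq_zero_of_forall Z hZ _ fun y hy => ?_)
      have hnle : ¬ x.asIdeal ≤ (y : PrimeSpectrum A).asIdeal := fun h =>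
        hy (hZ ((PrimeSpectrum.le_iff_specializes x y).1 h) hxZ)
      obtain ⟨a, ha, hay⟩ := Set.not_subset.1 hnle
      exact ⟨a, hay, (map_smul _ a m).symm.trans (LinearMap.mem_ker.1 ((hk a).1 ha))⟩)))
    refine ⟨hxZ, hM x ?_ hxZ⟩
    obtain ⟨T, hT⟩ := (IsNoetherian.noetherian M₀ : M₀.FG)
    have hs : ∀ g : T, ∃ s : A, s ∉ x.asIdeal ∧ s • (g : M) = 0 := fun g =>
      exists_smul_eq_zero Z (M := ModuleCat.of A M) hxZ
        (LinearMap.mem_ker.1 (show (g : M) ∈ M₀ from hT ▸ Submodule.subset_span g.2))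
    choose s hs hsg using hs
    have hS : ∀ z ∈ M₀, (∏ g, s g) • z = 0 := by
      intro z hz
      rw [← hT] at hz
      induction hz using Submodule.span_induction with
      | mem z hz =>
        rw [← Finset.prod_erase_mul _ _ (Finset.mem_univ (⟨z, hz⟩ : T)), mul_smul, hsg ⟨z, hz⟩, smul_zero]
      | zero => rw [smul_zero]
      | add b c _ _ hb hc => rw [smul_add, hb, hc, add_zero]
      | smul r b _ hb => rw [smul_comm, hb, smul_zero]
    have hS' : (∏ g, s g) ∉ x.asIdeal := fun h => by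
      obtain ⟨g, -, hg⟩ := x.2.prod_mem_iff.1 h
      exact hs g hg
    refine isAssociatedPrime_iff.2 ⟨x.2, (∏ g, s g) • m, ?_⟩
    ext a
    rw [Submodule.mem_colon_singleton, Submodule.mem_bot, hk]
    refine ⟨fun h => by rw [smul_comm]; exact hS _ h, fun h => ?_⟩
    have h' : a * (∏ g, s g) ∈ x.asIdeal := (hk _).2 (by rw [mul_smul, h]; exact M₀.zero_mem)
    exact (hk a).1 ((x.2.mem_or_mem h').resolve_right hS')
  exact finite_of_exact Z hZ (ModuleCat.ofHom M₀.subtype : ModuleCat.of A M₀ ⟶ ModuleCat.of A M)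
    (ModuleCat.ofHom M₀.mkQ : ModuleCat.of A M ⟶ ModuleCat.of A (M ⧸ M₀)) Subtype.val_injective
    (by show LinearMap.range M₀.subtype = LinearMap.ker M₀.mkQ; rw [Submodule.range_subtype, Submodule.ker_mkQ])

end

section
variable {A : Type u} [CommRing A] [IsNoetherianRing A]

theorem hullFinite_of_coh (q : Ideal A) [hq : q.IsPrime]
    (hb : ∀ (Z : Set (Spec (CommRingCat.of A))), StableUnderSpecialization Z →
      (∀ x : PrimeSpectrum A, x.asIdeal ∈ associatedPrimes A (A ⧸ q) → x ∉ Z →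
        ∀ y ∈ Z, x.asIdeal ≤ y.asIdeal → (2 : ℕ∞) ≤ (y.asIdeal.map (Ideal.Quotient.mk x.asIdeal)).height) →
      Module.Finite A ((HF Z).obj (ModuleCat.of A (A ⧸ q)))) :
    EGA4.HeightOneHullFinite (A ⧸ q) := by
  classical
  let Z : Set (Spec (CommRingCat.of A)) := {y | q ≤ (y : PrimeSpectrum A).asIdeal ∧
    (2 : ℕ∞) ≤ ((y : PrimeSpectrum A).asIdeal.map (Ideal.Quotient.mk q)).height}
  have hZ : StableUnderSpecialization Z := fun a b hab ha => by
    have h : (a : PrimeSpectrum A).asIdeal ≤ (b : PrimeSpectrum A).asIdeal :=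
      (PrimeSpectrum.le_iff_specializes a b).2 hab
    exact ⟨ha.1.trans h, ha.2.trans (Ideal.height_mono (Ideal.map_mono h))⟩
  have hqZ : (⟨q, hq⟩ : PrimeSpectrum A) ∉ Z := fun h => by
    have h2 : (2 : ℕ∞) ≤ (q.map (Ideal.Quotient.mk q)).height := h.2
    rw [Ideal.map_quotient_self, Ideal.height_bot] at h2
    exact absurd h2 (by decide)
  haveI := hb Z hZ fun x hx _ y hy hxy => by
    have hxq : x.asIdeal = q := by
      obtain ⟨-, v, hv⟩ := isAssociatedPrime_iff.1 hx
      have hv0 : v ≠ 0 := fun h => x.2.ne_top (by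
        rw [hv, h]
        exact eq_top_iff.2 fun a _ => Submodule.mem_colon_singleton.2 (by rw [smul_zero]; exact Submodule.zero_mem _))
      ext a
      rw [hv, Submodule.mem_colon_singleton, Submodule.mem_bot, Algebra.smul_def, mul_eq_zero,
        or_iff_left hv0, Ideal.Quotient.algebraMap_eq, Ideal.Quotient.eq_zero_iff_mem]
    rw [hxq]
    exact hy.2
  obtain ⟨φ, hφ⟩ := exists_phi hZ q hqZ
  refine ⟨hull (A ⧸ q), rfl, ?_⟩
  have hle : ∀ x ∈ hull (A ⧸ q), x ∈ LinearMap.range φ := by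
    intro x hx
    let N : Submodule A (FractionRing (A ⧸ q)) := Submodule.span A {1, x}
    have h1 : ∀ b, jK q b ∈ N := fun b => by
      obtain ⟨a, rfl⟩ := Ideal.Quotient.mk_surjective b
      have : jK q (Ideal.Quotient.mk q a) = a • (1 : FractionRing (A ⧸ q)) := by
        rw [smul_K, mul_one]; rfl
      rw [this]
      exact N.smul_mem a (Submodule.subset_span (Set.mem_insert _ _))
    let ι : ModuleCat.of A (A ⧸ q) ⟶ ModuleCat.of A N := ModuleCat.ofHom ((jK q).codRestrict N h1)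
    have hι : Function.Injective ι.hom := fun b b' h => jK_injective q (congrArg Subtype.val h)
    have hden : ∀ y : Spec (CommRingCat.of A), y ∉ Z →
        ∃ (s : A) (b : A ⧸ q), s ∉ (y : PrimeSpectrum A).asIdeal ∧ s • x = jK q b := by
      intro y hy
      by_cases hqy : q ≤ (y : PrimeSpectrum A).asIdeal
      · let P := (y : PrimeSpectrum A).asIdeal.map (Ideal.Quotient.mk q)
        haveI hP : P.IsPrime := Ideal.map_isPrime_of_surjective Ideal.Quotient.mk_surjective
          (by rw [Ideal.mk_ker]; exact hqy)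
        have hcomap : P.comap (Ideal.Quotient.mk q) = (y : PrimeSpectrum A).asIdeal := by
          rw [Ideal.comap_map_of_surjective _ Ideal.Quotient.mk_surjective, ← RingHom.ker_eq_comap_bot,
            Ideal.mk_ker, sup_eq_left.2 hqy]
        obtain ⟨d, hd, a, ha⟩ : ∃ d : A ⧸ q, d ∉ P ∧ ∃ a : A ⧸ q,
            algebraMap (A ⧸ q) (FractionRing (A ⧸ q)) a = algebraMap (A ⧸ q) (FractionRing (A ⧸ q)) d * x := by
          by_cases hbot : P = ⊥
          · obtain ⟨a, d, hd, rfl⟩ := IsFractionRing.div_surjective (A := A ⧸ q) x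
            refine ⟨d, by rw [hbot]; exact nonZeroDivisors.ne_zero hd, a, ?_⟩
            rw [mul_div_cancel₀]
            rw [ne_eq, map_eq_zero_iff _ (IsFractionRing.injective (A ⧸ q) (FractionRing (A ⧸ q)))]
            exact nonZeroDivisors.ne_zero hd
          · refine hx P ?_
            have h2 : ¬ (2 : ℕ∞) ≤ P.height := fun h => hy ⟨hqy, h⟩
            have h3 : (0 : ℕ∞) < P.height := by
              rw [← Ideal.height_bot (R := A ⧸ q)]
              exact Ideal.height_strict_mono_of_isPrime (bot_lt_iff_ne_bot.2 hbot)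
            generalize P.height = e at h2 h3
            induction e using ENat.recTopCoe with
            | top => exact absurd le_top h2
            | coe e =>
              norm_cast at h2 h3 ⊢
              omega
        obtain ⟨s, rfl⟩ := Ideal.Quotient.mk_surjective d
        exact ⟨s, a, fun h => hd (Ideal.mem_map_of_mem _ h), (smul_K q s x).trans ha.symm⟩
      · obtain ⟨s, hs, hsy⟩ := Set.not_subset.1 hqy
        exact ⟨s, 0, hsy, by rw [smul_K, Ideal.Quotient.eq_zero_iff_mem.2 hs, map_zero, zero_mul, map_zero]⟩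
    have hsurj : ∀ (v : ModuleCat.of A N) (y : Spec (CommRingCat.of A)), y ∉ Z →
        ∃ (s : A) (b : ModuleCat.of A (A ⧸ q)), s ∉ (y : PrimeSpectrum A).asIdeal ∧ s • v = ι.hom b := by
      intro v y hy
      obtain ⟨s, b, hs, hb⟩ := hden y hy
      obtain ⟨c, d, hcd⟩ := Submodule.mem_span_pair.1 v.2
      refine ⟨s, (s * c) • (1 : A ⧸ q) + d • b, hs, Subtype.ext ?_⟩
      show s • (v : FractionRing (A ⧸ q)) = jK q ((s * c) • (1 : A ⧸ q) + d • b)
      rw [← hcd, map_add, map_smul, map_smul, ← hb, smul_add, smul_smul, smul_comm d s,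
        show jK q 1 = 1 from map_one (IsScalarTower.toAlgHom A (A ⧸ q) (FractionRing (A ⧸ q)))]
    let xN : ModuleCat.of A N := ⟨x, Submodule.subset_span (Set.mem_insert_of_mem _ rfl)⟩
    obtain ⟨h, hh⟩ := (bijective_map Z hZ ι hι hsurj).2 ((rhoA Z (ModuleCat.of A N)).hom xN)
    refine ⟨h, ?_⟩
    obtain ⟨s, b, hs, hb⟩ := hden ⟨q, hq⟩ hqZ
    refine rep_unique hZ q hqZ (hφ h) (rep_of q hqZ hs ?_ hb)
    refine injective_map Z hZ ι hι ?_
    rw [map_smul, hh, rhoA_apply, ← map_smul]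
    exact congrArg _ (Subtype.ext hb)
  haveI : Module.Finite A (LinearMap.range φ) := Module.Finite.range φ
  haveI : Module.Finite A (hull (A ⧸ q)) :=
    Module.Finite.of_injective ((((hull (A ⧸ q)).toSubmodule.restrictScalars A).subtype).codRestrict
      (LinearMap.range φ) (fun z => hle z.1 z.2)) (fun z z' h => Subtype.ext (congrArg Subtype.val h :))
  exact Module.Finite.of_restrictScalars_finite A (A ⧸ q) _

end


open CategoryTheory CategoryTheory.Limits AlgebraicGeometry in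
/-- a) ⇔ b): for a Noetherian ring A with X = Spec A, the following are equivalent: a) for every prime
ideal q of A, writing B = A/q, the ring B^(1) (intersection of the localizations of B at its
height-one primes) is a finite B-algebra; b) for every finite A-module M and every subset Z of X
stable under specialization such that, for every associated prime p of M not in Z and every prime p'
∈ Z containing p, the image of p' in A/p has height at least 2, the Z-closure H⁰_{X/Z} of the module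
M~ is coherent. -/
theorem result (A : Type u) [CommRing A] [IsNoetherianRing A] :
    (∀ (q : Ideal A) [q.IsPrime], EGA4.HeightOneHullFinite (A ⧸ q)) ↔
      ∀ (M : Type u) [AddCommGroup M] [Module A M] [Module.Finite A M]
        (Z : Set (PrimeSpectrum A)), StableUnderSpecialization Z →
        (∀ x : PrimeSpectrum A, x.asIdeal ∈ associatedPrimes A M → x ∉ Z →
          ∀ y ∈ Z, x.asIdeal ≤ y.asIdeal → (2 : ℕ∞) ≤ (y.asIdeal.map (Ideal.Quotient.mk x.asIdeal)).height) →
        Coh.IsCoh ((ZClos.H0 (X := Spec (CommRingCat.of A)) Z).obj (EGA4.tildeOf A M)) := by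
  constructor
  · intro ha M _ _ _ Z hZ hM
    exact (ZClosLib.isCoh_iff_finite Z hZ (ModuleCat.of A M)).2 (finite_HF hZ M ha hM)
  · intro hb q _
    refine hullFinite_of_coh q fun Z hZ hcond => ?_
    exact (ZClosLib.isCoh_iff_finite Z hZ (ModuleCat.of A (A ⧸ q))).1 (hb (A ⧸ q) Z hZ hcond)

end Groth.Agent.S5869
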