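import Groth.Statements.S5873
import Groth.Agent.CompSetLib.GenericAss
-- import your own Groth.Agent.* helpers here

set_option autoImplicit false
set_option backward.isDefEq.respectTransparency false
set_option linter.all false
set_option maxHeartbeats 1000000
universe u
open CategoryTheory AlgebraicGeometry
open Cons9

namespace Groth.Agent.S5873

/-- Let S be an integral Noetherian scheme with generic point η, f : X ⟶ S a morphism of finite type and
F a coherent O_X-module; for s in S write F_s for the pullback of F to the scheme-theoretic fibre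
X_s. For an associated point x of F_η let Z_x denote the closure in X of the image of x, and (Z_x)_s
its trace on X_s (the preimage under X_s ⟶ X). Then there is an open neighbourhood U of η such that
for every s in U: (a) the associated points of F_s are exactly the maximal points (those admitting
no proper generization inside the set) of the sets (Z_x)_s, for x running over the associated points
of F_η, so that the associated prime cycles of F_s are the irreducible components of the (Z_x)_s;
(b) for distinct associated points x, x' of F_η the maximal points of (Z_x)_s and of (Z_x')_s are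
pairwise distinct; (c) for every associated point x of F_η and every maximal point z of (Z_x)_s, the
point z is a maximal associated point of F_s (no other associated point of F_s generizes it) if and
only if x is a maximal associated point of F_η. -/
theorem result {X S : Scheme.{u}} [IsIntegral S] [IsNoetherian S]
    (f : X ⟶ S) [LocallyOfFiniteType f] [QuasiCompact f]
    (F : X.Modules) [Coh.IsQCoh F] (hF : CohB1.IsFP F) :
    ∃ U : S.Opens, genericPoint S ∈ U ∧ ∀ s ∈ U,
      (AssSch.Ass ((Scheme.Modules.pullback (f.fiberι s)).obj F) =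
          ⋃ x ∈ AssSch.Ass ((Scheme.Modules.pullback (f.fiberι (genericPoint S))).obj F),
            {z : ↥(f.fiber s) | z ∈ ((f.fiberι s).base ⁻¹' closure {(f.fiberι (genericPoint S)).base x}) ∧ ∀ z' ∈ ((f.fiberι s).base ⁻¹' closure {(f.fiberι (genericPoint S)).base x}), z' ⤳ z → z' = z}) ∧
      (∀ x ∈ AssSch.Ass ((Scheme.Modules.pullback (f.fiberι (genericPoint S))).obj F), ∀ x' ∈ AssSch.Ass ((Scheme.Modules.pullback (f.fiberι (genericPoint S))).obj F), x ≠ x' →
          Disjoint {z : ↥(f.fiber s) | z ∈ ((f.fiberι s).base ⁻¹' closure {(f.fiberι (genericPoint S)).base x}) ∧ ∀ z' ∈ ((f.fiberι s).base ⁻¹' closure {(f.fiberι (genericPoint S)).base x}), z' ⤳ z → z' = z}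
            {z : ↥(f.fiber s) | z ∈ ((f.fiberι s).base ⁻¹' closure {(f.fiberι (genericPoint S)).base x'}) ∧ ∀ z' ∈ ((f.fiberι s).base ⁻¹' closure {(f.fiberι (genericPoint S)).base x'}), z' ⤳ z → z' = z}) ∧
      (∀ x ∈ AssSch.Ass ((Scheme.Modules.pullback (f.fiberι (genericPoint S))).obj F),
        ∀ z ∈ {z : ↥(f.fiber s) | z ∈ ((f.fiberι s).base ⁻¹' closure {(f.fiberι (genericPoint S)).base x}) ∧ ∀ z' ∈ ((f.fiberι s).base ⁻¹' closure {(f.fiberι (genericPoint S)).base x}), z' ⤳ z → z' = z},
          ((∀ y ∈ AssSch.Ass ((Scheme.Modules.pullback (f.fiberι s)).obj F), y ⤳ z → y = z) ↔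
            (∀ y ∈ AssSch.Ass ((Scheme.Modules.pullback (f.fiberι (genericPoint S))).obj F), y ⤳ x → y = x))) := by
  haveI := hF
  have hFT : CohB1.IsFT F := inferInstance
  haveI : LocallyOfFinitePresentation f := inferInstance
  let ι₀ := f.fiberι (genericPoint S)
  let A : Set X := ι₀.base '' AssSch.Ass ((Scheme.Modules.pullback ι₀).obj F)
  have hA : A = {x | f.base x = genericPoint S ∧ CompSetLib.IsFibAss f F x} := by
    ext x
    constructor
    · rintro ⟨y, hy, rfl⟩
      exact ⟨(f.range_fiberι _).le ⟨y, rfl⟩, (CompSetLib.mem_ass_iff_isFibAss f F hFT _ y).1 hy⟩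
    · rintro ⟨hx, hxa⟩
      obtain ⟨y, rfl⟩ : x ∈ Set.range ι₀ := (f.range_fiberι _).ge hx
      exact ⟨y, (CompSetLib.mem_ass_iff_isFibAss f F hFT _ y).2 hxa, rfl⟩
  have hfin : A.Finite := by
    refine Set.Finite.image _ ?_
    haveI := UOpenLib.lft_fiberToSpec f (genericPoint S)
    haveI : IsLocallyNoetherian (f.fiber (genericPoint S)) :=
      LocallyOfFiniteType.isLocallyNoetherian (f.fiberToSpecResidueField (genericPoint S))
    haveI : Coh.IsQCoh ((Scheme.Modules.pullback ι₀).obj F) := KFlatLib.isQCoh_pullback ι₀ F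
    refine (AssPointLib.finite_assPoints (ConsLib.isFT_pullback ι₀ F hFT) ⊤ isCompact_univ).subset ?_
    exact fun y hy => ⟨trivial, (AssPointLib.assPoint_iff_weak _ y).1 hy⟩
  obtain ⟨U, hηU, hU⟩ := CompSetLib.exists_nhd_ass f F hF hFT A hA hfin
  refine ⟨U, hηU, fun s hs => ?_⟩
  obtain ⟨h1, h2, h3⟩ := hU s hs
  have hfs : ∀ w : f.fiber s, f.base (f.fiberι s w) = s := fun w => (f.range_fiberι s).le ⟨w, rfl⟩
  refine ⟨?_, ?_, ?_⟩
  · ext z
    rw [CompSetLib.mem_ass_iff_isFibAss f F hFT, h1 _ (hfs z), Set.mem_iUnion₂]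
    constructor
    · rintro ⟨_, ⟨x, hx, rfl⟩, hxz⟩
      exact ⟨x, hx, (CompSetLib.fiber_max_iff f s _ z).2 hxz⟩
    · rintro ⟨x, hx, hxz⟩
      exact ⟨_, ⟨x, hx, rfl⟩, (CompSetLib.fiber_max_iff f s _ z).1 hxz⟩
  · intro x hx x' hx' hne
    rw [Set.disjoint_left]
    exact fun z hz hz' => hne (ι₀.isEmbedding.injective (h2 _ (hfs z) _ ⟨x, hx, rfl⟩ _ ⟨x', hx', rfl⟩
      ((CompSetLib.fiber_max_iff f s _ z).1 hz) ((CompSetLib.fiber_max_iff f s _ z).1 hz')))
  · intro x hx z hz
    have hz' := (CompSetLib.fiber_max_iff f s (ι₀.base x) z).1 hz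
    constructor
    · intro hmax y hy hyx
      obtain ⟨v, hfv, hvz, hv⟩ := CompSetLib.exists_isTraceMax f (x := ι₀.base y) (z := f.fiberι s z)
        (((hyx.map ι₀.continuous).trans (specializes_iff_mem_closure.2 hz'.1)).mem_closure)
      obtain ⟨w, rfl⟩ : v ∈ Set.range (f.fiberι s) := (f.range_fiberι s).ge (hfv.trans (hfs z))
      have hw := hmax w ((CompSetLib.mem_ass_iff_isFibAss f F hFT s w).2 ((h1 _ (hfs w)).2 ⟨_, ⟨y, hy, rfl⟩, hv⟩))
        ((f.fiberι s).isEmbedding.isInducing.specializes_iff.1 hvz)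
      subst hw
      exact ι₀.isEmbedding.injective (h2 _ (hfs w) _ ⟨y, hy, rfl⟩ _ ⟨x, hx, rfl⟩ hv hz')
    · intro hmax w hw hwz
      refine (f.fiberι s).isEmbedding.injective (h3 _ (hfs z) _ ⟨x, hx, rfl⟩ hz' ?_ _ (hfs w)
        (hwz.map (f.fiberι s).continuous) ((CompSetLib.mem_ass_iff_isFibAss f F hFT s w).1 hw))
      rintro _ ⟨y, hy, rfl⟩ hyx
      rw [hmax y hy (ι₀.isEmbedding.isInducing.specializes_iff.1 hyx)]

end Groth.Agent.S5873
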