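import Groth.Statements.S5875
import Groth.Agent.CompSetLib.Main
import Groth.Agent.S4357
-- import your own Groth.Agent.* helpers here

set_option autoImplicit false
set_option backward.isDefEq.respectTransparency false
set_option linter.all false
universe u
open CategoryTheory AlgebraicGeometry
open Cons9

namespace Groth.Agent.S5875

/-- Let f : X ⟶ S be a morphism of finite presentation (locally of finite presentation, quasi-compact
and quasi-separated) and F a quasi-coherent O_X-module of finite presentation; for s in S let F_s be
the pullback of F to the scheme-theoretic fibre X_s and E'(s) the finite set of dimensions of the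
irreducible components of the support of F_s (the points of X_s where the stalk of F_s is nonzero),
i.e. of the maximal associated prime cycles of F_s. Then s ↦ E'(s) is a locally constructible
function on S: for every finite set Φ of natural numbers, the set of s with E'(s) = Φ is locally
constructible. -/
theorem result {X S : Scheme.{u}} (f : X ⟶ S)
    [LocallyOfFinitePresentation f] [QuasiCompact f] [QuasiSeparated f]
    (F : X.Modules) [Coh.IsQCoh F] (hF : CohB1.IsFP F) (Φ : Finset ℕ) :
    Topology.IsLocallyConstructible {s : S |
      (fun Z : Set ↥(CohB1.support ((Scheme.Modules.pullback (f.fiberι s)).obj F)) => topologicalKrullDim ↥Z) ''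
          irreducibleComponents ↥(CohB1.support ((Scheme.Modules.pullback (f.fiberι s)).obj F)) =
        (fun n : ℕ => (n : WithBot ℕ∞)) '' (Φ : Set ℕ)} := by
  haveI := hF
  have hFT : CohB1.IsFT F := inferInstance
  refine CompSetLib.isLocallyConstructible_levelSet f _ (CompSetLib.compSet f (CohB1.support F))
    (CompSetLib.isLocallyConstructible_compSet f (DepthLib.isLocallyConstructible_support f F hF hFT))
    (CompSetLib.compSet_le_fibreDimAt f _) (fun s d => ?_) _ (Φ.finite_toSet.image _)
  have hr : CohB1.support ((Scheme.Modules.pullback (f.fiberι s)).obj F) =
      (f.fiberι s).base ⁻¹' CohB1.support F := Groth.Agent.S4357.result (f.fiberι s) F hFT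
  exact CompSetLib.componentDims_iff f (CohB1.support F) Subtype.val Topology.IsEmbedding.subtypeVal
    (Subtype.range_coe.trans hr)
    (by rw [Subtype.range_coe, hr]; exact ((QCohLib.isClosed_support F hFT).preimage (f.fiberι s).continuous).isLocallyClosed) d

end Groth.Agent.S5875
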