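import Groth.Statements.S8256
import Groth.Agent.CycBdlLib.Pts
-- import your own Groth.Agent.* helpers here

set_option autoImplicit false
universe u
open CategoryTheory CategoryTheory.Limits AlgebraicGeometry Opposite TopologicalSpace
open EGA2

namespace Groth.Agent.S8256

theorem algHom_comp {X Y Z S : Scheme.{u}} (f : X ⟶ S) (g : Y ⟶ S) (k : Z ⟶ S) (h : Y ⟶ X)
    (w : h ≫ f = g) (h' : Z ⟶ Y) (w' : h' ≫ g = k) :
    AffAlg.algHom f g h w ≫ AffAlg.algHom g k h' w' =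
      AffAlg.algHom f k (h' ≫ h) ((Category.assoc _ _ _).trans ((congrArg (h' ≫ ·) w).trans w')) := by
  refine NatTrans.ext (funext fun O => ?_)
  obtain ⟨W⟩ := O
  rw [NatTrans.comp_app, Groth.Agent.S3569.algHom_app, Groth.Agent.S3569.algHom_app,
    Groth.Agent.S3569.algHom_app]
  exact Scheme.Hom.appLE_comp_appLE _ _ _ _ _ _ _

theorem algHom_congr {X Y S : Scheme.{u}} (f : X ⟶ S) (g : Y ⟶ S) {h h' : Y ⟶ X} (e : h = h')
    (w : h ≫ f = g) (w' : h' ≫ f = g) : AffAlg.algHom f g h w = AffAlg.algHom f g h' w' := by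
  subst e; rfl

theorem algHom_inj {X Y S : Scheme.{u}} (f : X ⟶ S) [IsAffineHom f] (g : Y ⟶ S) {h h' : Y ⟶ X}
    (w : h ≫ f = g) (w' : h' ≫ f = g) (e : AffAlg.algHom f g h w = AffAlg.algHom f g h' w') : h = h' :=
  congrArg Subtype.val ((Groth.Agent.S3569.result f g).1 (a₁ := ⟨h, w⟩) (a₂ := ⟨h', w'⟩) (Subtype.ext e))

/-- Algebra maps `A(X) ⟶ C` come from morphisms `Spec C ⟶ X`. -/
theorem exists_pts {X S : Scheme.{u}} (f : X ⟶ S) [IsAffineHom f] (C : RelSpec.QCAlg S)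
    (a : RelSpec.QCAlg.directImage f ⟶ C) : ∃ (h : C.spec ⟶ X) (w : h ≫ f = C.π),
      AffAlg.algHom f C.π h w ≫ C.gammaMap = a.hom := by
  have hc : f.c ≫ a.hom ≫ CycBdlLib.toF C = C.π.c := by
    rw [← Category.assoc]
    exact (congrArg (· ≫ CycBdlLib.toF C) a.comm).trans (CycBdlLib.str_toF C)
  obtain ⟨⟨h, w⟩, e⟩ := (Groth.Agent.S3569.result f C.π).2 ⟨a.hom ≫ CycBdlLib.toF C, hc⟩
  have e' : AffAlg.algHom f C.π h w = a.hom ≫ CycBdlLib.toF C := congrArg Subtype.val e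
  refine ⟨h, w, ?_⟩
  rw [e']
  exact (Category.assoc _ _ _).trans (by rw [CycBdlLib.toF, IsIso.inv_hom_id]; exact Category.comp_id _)

theorem algHom_hom_ext {X S : Scheme.{u}} (f : X ⟶ S) [IsAffineHom f] (C : RelSpec.QCAlg S)
    {h h' : C.spec ⟶ X} (w : h ≫ f = C.π) (w' : h' ≫ f = C.π)
    (e : AffAlg.algHom f C.π h w ≫ C.gammaMap = AffAlg.algHom f C.π h' w' ≫ C.gammaMap) : h = h' :=
  algHom_inj f C.π w w' ((cancel_mono C.gammaMap).mp e)


/-- Let Y be affine over S (g : Y → S affine) and X, X' affine over Y (f, f' affine), and let Z = X ×_Y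
X' with projections p : Z → X, p' : Z → X'. Then Z is affine over Y and over S, and its direct-image
algebra on S is the tensor product: the square of quasi-coherent O_S-algebras A(Y) → A(X), A(Y) →
A(X'), A(X) → A(Z), A(X') → A(Z), whose maps are induced by f, f', p, p', is a pushout square in the
category of quasi-coherent O_S-algebras. -/
theorem result {X X' Y Z S : Scheme.{u}} (g : Y ⟶ S) [IsAffineHom g]
    (f : X ⟶ Y) [IsAffineHom f] (f' : X' ⟶ Y) [IsAffineHom f'] (p : Z ⟶ X) (p' : Z ⟶ X') [IsAffineHom p]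
    (hZ : IsPullback p p' f f') :
    IsPushout
      (C := RelSpec.QCAlg S)
      (⟨AffAlg.algHom g (f ≫ g) f rfl, AffAlg.algHom_comm g (f ≫ g) f rfl⟩ :
        RelSpec.QCAlg.directImage g ⟶ RelSpec.QCAlg.directImage (f ≫ g))
      (⟨AffAlg.algHom g (f' ≫ g) f' rfl, AffAlg.algHom_comm g (f' ≫ g) f' rfl⟩ :
        RelSpec.QCAlg.directImage g ⟶ RelSpec.QCAlg.directImage (f' ≫ g))
      (⟨AffAlg.algHom (f ≫ g) (p ≫ f ≫ g) p rfl, AffAlg.algHom_comm (f ≫ g) (p ≫ f ≫ g) p rfl⟩ :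
        RelSpec.QCAlg.directImage (f ≫ g) ⟶ RelSpec.QCAlg.directImage (p ≫ f ≫ g))
      (⟨AffAlg.algHom (f' ≫ g) (p ≫ f ≫ g) p'
          ((Category.assoc p' f' g).symm.trans ((congrArg (· ≫ g) hZ.w.symm).trans (Category.assoc p f g))),
        AffAlg.algHom_comm (f' ≫ g) (p ≫ f ≫ g) p'
          ((Category.assoc p' f' g).symm.trans ((congrArg (· ≫ g) hZ.w.symm).trans (Category.assoc p f g)))⟩ :
        RelSpec.QCAlg.directImage (f' ≫ g) ⟶ RelSpec.QCAlg.directImage (p ≫ f ≫ g)) := by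
  have hw' : p' ≫ f' ≫ g = p ≫ f ≫ g :=
    ((Category.assoc p' f' g).symm.trans ((congrArg (· ≫ g) hZ.w.symm).trans (Category.assoc p f g)))
  refine ⟨⟨RelSpec.QCAlg.hom_ext ?_⟩, ⟨PushoutCocone.isColimitAux' _ fun c => ?_⟩⟩
  · exact (algHom_comp g (f ≫ g) (p ≫ f ≫ g) f rfl p rfl).trans
      ((algHom_congr g (p ≫ f ≫ g) hZ.w _ _).trans (algHom_comp g (f' ≫ g) (p ≫ f ≫ g) f' rfl p' hw').symm)
  let C := c.pt
  obtain ⟨ha, hha⟩ := Classical.indefiniteDescription _ (exists_pts (f ≫ g) C c.inl)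
  obtain ⟨wa, ea⟩ := Classical.indefiniteDescription _ hha
  obtain ⟨hb, hhb⟩ := Classical.indefiniteDescription _ (exists_pts (f' ≫ g) C c.inr)
  obtain ⟨wb, eb⟩ := Classical.indefiniteDescription _ hhb
  have hcond := congrArg RelSpec.QCAlg.Hom.hom c.condition
  have hf : ha ≫ f = hb ≫ f' := by
    refine algHom_hom_ext g C ((Category.assoc _ _ _).trans wa) ((Category.assoc _ _ _).trans wb) ?_
    rw [← algHom_comp g (f ≫ g) C.π f rfl ha wa, ← algHom_comp g (f' ≫ g) C.π f' rfl hb wb]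
    exact (Category.assoc _ _ _).trans ((congrArg (_ ≫ ·) ea).trans
      (hcond.trans ((congrArg (_ ≫ ·) eb).symm.trans (Category.assoc _ _ _).symm)))
  let k := hZ.lift ha hb hf
  have hk : k ≫ p ≫ f ≫ g = C.π := by rw [hZ.lift_fst_assoc, wa]
  refine ⟨⟨AffAlg.algHom (p ≫ f ≫ g) C.π k hk ≫ C.gammaMap, ?_⟩, ?_, ?_, ?_⟩
  · exact (Category.assoc _ _ _).symm.trans ((congrArg (· ≫ C.gammaMap)
      (AffAlg.algHom_comm (p ≫ f ≫ g) C.π k hk)).trans C.π_c_gammaMap)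
  · refine RelSpec.QCAlg.hom_ext ?_
    refine (Category.assoc _ _ _).symm.trans ((congrArg (· ≫ C.gammaMap) ?_).trans ea)
    exact (algHom_comp (f ≫ g) (p ≫ f ≫ g) C.π p rfl k hk).trans (algHom_congr _ _ (hZ.lift_fst ha hb hf) _ _)
  · refine RelSpec.QCAlg.hom_ext ?_
    refine (Category.assoc _ _ _).symm.trans ((congrArg (· ≫ C.gammaMap) ?_).trans eb)
    exact (algHom_comp (f' ≫ g) (p ≫ f ≫ g) C.π p' hw' k hk).trans (algHom_congr _ _ (hZ.lift_snd ha hb hf) _ _)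
  · intro m hm1 hm2
    obtain ⟨k', wk, ek⟩ := exists_pts (p ≫ f ≫ g) C m
    refine RelSpec.QCAlg.hom_ext (ek.symm.trans ?_)
    refine congrArg (· ≫ C.gammaMap) (algHom_congr _ _ (hZ.hom_ext ?_ ?_) _ _)
    · rw [hZ.lift_fst]
      refine algHom_hom_ext (f ≫ g) C ((Category.assoc _ _ _).trans wk) wa (Eq.trans ?_ ea.symm)
      rw [← algHom_comp (f ≫ g) (p ≫ f ≫ g) C.π p rfl k' wk]
      exact (Category.assoc _ _ _).trans ((congrArg (_ ≫ ·) ek).trans (congrArg RelSpec.QCAlg.Hom.hom hm1))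
    · rw [hZ.lift_snd]
      refine algHom_hom_ext (f' ≫ g) C ((Category.assoc _ _ _).trans ((congrArg (k' ≫ ·) hw').trans wk)) wb (Eq.trans ?_ eb.symm)
      rw [← algHom_comp (f' ≫ g) (p ≫ f ≫ g) C.π p' hw' k' wk]
      exact (Category.assoc _ _ _).trans ((congrArg (_ ≫ ·) ek).trans (congrArg RelSpec.QCAlg.Hom.hom hm2))

end Groth.Agent.S8256
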