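import Groth.Statements.S5876
import Groth.Agent.S2151
import Groth.Agent.S8256
import Groth.Agent.CycBdlLib.Pts

set_option autoImplicit false
set_option linter.style.haveILetI false
set_option backward.isDefEq.respectTransparency false
set_option backward.isDefEq.respectTransparency.types false
universe u
open CategoryTheory CategoryTheory.Limits AlgebraicGeometry
open Lim8

namespace Groth.Agent.S5876
open Opposite

theorem specMap_id {S : Scheme.{u}} (A : RelSpec.QCAlg S) : RelSpec.QCAlg.specMap (𝟙 A) = 𝟙 A.spec := by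
  refine colimit.hom_ext fun U => ?_
  change A.ι U.1 U.2 ≫ RelSpec.QCAlg.specMap (𝟙 A) = A.ι U.1 U.2 ≫ 𝟙 _
  rw [RelSpec.QCAlg.ι_specMap, Category.comp_id, RelSpec.QCAlg.id_hom, NatTrans.id_app, Spec.map_id, Category.id_comp]

theorem specMap_comp {S : Scheme.{u}} {A B C : RelSpec.QCAlg S} (φ : A ⟶ B) (ψ : B ⟶ C) :
    RelSpec.QCAlg.specMap (φ ≫ ψ) = RelSpec.QCAlg.specMap ψ ≫ RelSpec.QCAlg.specMap φ := by
  refine colimit.hom_ext fun U => ?_
  change C.ι U.1 U.2 ≫ RelSpec.QCAlg.specMap (φ ≫ ψ) = C.ι U.1 U.2 ≫ _ ≫ _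
  rw [RelSpec.QCAlg.ι_specMap, reassoc_of% (RelSpec.QCAlg.ι_specMap U.1 U.2 ψ), RelSpec.QCAlg.ι_specMap,
    RelSpec.QCAlg.comp_hom, NatTrans.comp_app, Spec.map_comp, Category.assoc]


/-- Let S be a scheme and (A_j) a filtered direct system of quasi-coherent O_S-algebras, indexed by a
small filtered category, with a colimit cocone with vertex A. Write S_j = Spec(A_j) and S' = Spec(A)
for the relative spectra, and u_j : S' ⟶ S_j for the morphisms induced by the coprojections A_j ⟶ A.
Then (S', (u_j)) is a limit of the inverse system (S_j) in the category of all schemes (not only of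
S-schemes): for every scheme T and every family of morphisms v_j : T ⟶ S_j compatible with the
transition morphisms, there is exactly one morphism w : T ⟶ S' whose composite with each u_j is v_j. -/
theorem result {S : Scheme.{u}} {J : Type u} [SmallCategory J] [IsFiltered J]
    (A : J ⥤ RelSpec.QCAlg S) (c : Cocone A) (hc : IsColimit c)
    (T : Scheme.{u}) (v : ∀ j : J, T ⟶ (A.obj j).spec)
    (hv : ∀ (j j' : J) (φ : j ⟶ j'), v j' ≫ RelSpec.QCAlg.specMap (A.map φ) = v j) :
    ∃! w : T ⟶ c.pt.spec, ∀ j : J, w ≫ RelSpec.QCAlg.specMap (c.ι.app j) = v j := by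
  classical
  obtain ⟨j₀⟩ := IsFiltered.nonempty (C := J)
  let D : Jᵒᵖ ⥤ Scheme.{u} :=
    { obj := fun j => (A.obj j.unop).spec
      map := fun f => RelSpec.QCAlg.specMap (A.map f.unop)
      map_id := fun j => (congrArg RelSpec.QCAlg.specMap (A.map_id j.unop)).trans (specMap_id _)
      map_comp := fun f g => (congrArg RelSpec.QCAlg.specMap (A.map_comp g.unop f.unop)).trans (specMap_comp _ _) }
  haveI : ∀ (i j : Jᵒᵖ) (f : i ⟶ j), IsAffineHom (D.map f) := fun i j f => by
    have : IsAffineHom (D.map f ≫ (A.obj j.unop).π) := by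
      show IsAffineHom (RelSpec.QCAlg.specMap _ ≫ _)
      rw [RelSpec.QCAlg.specMap_π]; infer_instance
    exact MorphismProperty.of_postcomp (W := @IsAffineHom) (W' := @IsSeparated) (D.map f) (A.obj j.unop).π inferInstance this
  obtain ⟨L, hL, hpr⟩ := Groth.Agent.S2151.result D
  let q : L.pt ⟶ S := L.π.app (op j₀) ≫ (A.obj j₀).π
  have hq' : ∀ {j j' : J} (φ : j ⟶ j'), L.π.app (op j') ≫ (A.obj j').π = L.π.app (op j) ≫ (A.obj j).π := fun φ => by
    rw [← L.w φ.op, Category.assoc]
    exact congrArg (_ ≫ ·) (RelSpec.QCAlg.specMap_π (A.map φ)).symm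
  have hq : ∀ j, L.π.app (op j) ≫ (A.obj j).π = q := fun j => by
    obtain ⟨k, a, b, -⟩ := IsFilteredOrEmpty.cocone_objs j j₀
    rw [← hq' a]; exact hq' b
  haveI : IsAffineHom q := by haveI := hpr (op j₀); exact inferInstanceAs (IsAffineHom (_ ≫ _))
  -- the algebra maps
  let κ : Cocone A := ⟨RelSpec.QCAlg.directImage q,
    { app := fun j => ⟨CycBdlLib.toF (A.obj j) ≫ AffAlg.algHom (A.obj j).π q (L.π.app (op j)) (hq j), by
        rw [← Category.assoc, CycBdlLib.str_toF]; exact AffAlg.algHom_comm _ _ _ _⟩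
      naturality := fun j j' φ => by
        apply RelSpec.QCAlg.hom_ext
        simp only [RelSpec.QCAlg.comp_hom, Functor.const_obj_map, RelSpec.QCAlg.id_hom]
        refine Eq.trans ?_ (Category.comp_id _).symm
        rw [← Category.assoc, ← CycBdlLib.toF_specMap (A.map φ), Category.assoc,
          Groth.Agent.S8256.algHom_comp]
        exact congrArg (_ ≫ ·) (Groth.Agent.S8256.algHom_congr _ _ (L.w φ.op) _ _) }⟩
  obtain ⟨r, ⟨hr, hrω⟩, -⟩ := CycBdlLib.pts c.pt q (hc.desc κ)
  have hepi : ∀ B : RelSpec.QCAlg S, Epi (CycBdlLib.toF B) := fun B => by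
    unfold CycBdlLib.toF; infer_instance
  have hr' : ∀ j, r ≫ RelSpec.QCAlg.specMap (c.ι.app j) = L.π.app (op j) := fun j => by
    have w1 : (r ≫ RelSpec.QCAlg.specMap (c.ι.app j)) ≫ (A.obj j).π = q := by
      rw [Category.assoc, RelSpec.QCAlg.specMap_π, hr]
    refine Groth.Agent.S8256.algHom_inj (A.obj j).π q w1 (hq j) ?_
    haveI := hepi (A.obj j)
    rw [← cancel_epi (CycBdlLib.toF (A.obj j)),
      ← Groth.Agent.S8256.algHom_comp (A.obj j).π c.pt.π q (RelSpec.QCAlg.specMap (c.ι.app j))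
        (RelSpec.QCAlg.specMap_π _) r hr,
      ← Category.assoc, CycBdlLib.toF_specMap, Category.assoc, hrω]
    exact congrArg RelSpec.QCAlg.Hom.hom (hc.fac κ j)
  let K : Cone D := ⟨c.pt.spec,
    { app := fun j => RelSpec.QCAlg.specMap (c.ι.app j.unop)
      naturality := fun i j f => by
        refine (Category.id_comp _).trans ?_
        show _ = RelSpec.QCAlg.specMap (c.ι.app i.unop) ≫ RelSpec.QCAlg.specMap (A.map f.unop)
        rw [← specMap_comp, c.w] }⟩
  let h := hL.lift K
  have hh : ∀ j, h ≫ L.π.app (op j) = RelSpec.QCAlg.specMap (c.ι.app j) := fun j => hL.fac K (op j)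
  have hhq : h ≫ q = c.pt.π := by
    rw [← hq j₀, ← Category.assoc, hh]
    exact RelSpec.QCAlg.specMap_π _
  have hhr : h ≫ r = 𝟙 _ := by
    have w1 : (h ≫ r) ≫ c.pt.π = c.pt.π := by rw [Category.assoc, hr, hhq]
    refine Groth.Agent.S8256.algHom_hom_ext c.pt.π c.pt w1 (Category.id_comp _) ?_
    have key : ∀ (k : c.pt.spec ⟶ c.pt.spec) (wk : k ≫ c.pt.π = c.pt.π),
        (∀ j, k ≫ RelSpec.QCAlg.specMap (c.ι.app j) = RelSpec.QCAlg.specMap (c.ι.app j)) →
        CycBdlLib.toF c.pt ≫ AffAlg.algHom c.pt.π c.pt.π k wk ≫ c.pt.gammaMap = 𝟙 _ := by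
      intro k wk hk
      let e : c.pt ⟶ c.pt := ⟨CycBdlLib.toF c.pt ≫ AffAlg.algHom c.pt.π c.pt.π k wk ≫ c.pt.gammaMap, by
        rw [← Category.assoc, CycBdlLib.str_toF, ← Category.assoc, AffAlg.algHom_comm]
        exact c.pt.π_c_gammaMap⟩
      suffices he : e = 𝟙 _ from congrArg RelSpec.QCAlg.Hom.hom he
      refine hc.hom_ext fun j => RelSpec.QCAlg.hom_ext ?_
      rw [RelSpec.QCAlg.comp_hom, RelSpec.QCAlg.comp_hom, RelSpec.QCAlg.id_hom, Category.comp_id]
      show (c.ι.app j).hom ≫ CycBdlLib.toF c.pt ≫ _ ≫ _ = _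
      have h5 : (c.ι.app j).hom ≫ CycBdlLib.toF c.pt = CycBdlLib.toF (A.obj j) ≫
          AffAlg.algHom (A.obj j).π c.pt.π (RelSpec.QCAlg.specMap (c.ι.app j)) (RelSpec.QCAlg.specMap_π _) :=
        (CycBdlLib.toF_specMap (c.ι.app j)).symm
      rw [← Category.assoc, h5, Category.assoc, ← Category.assoc (AffAlg.algHom _ _ _ _),
        Groth.Agent.S8256.algHom_comp]
      erw [Groth.Agent.S8256.algHom_congr _ _ (hk j) _ (RelSpec.QCAlg.specMap_π _)]
      erw [← Category.assoc, ← h5, Category.assoc, CycBdlLib.toF, IsIso.inv_hom_id]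
      exact Category.comp_id _
    haveI := hepi c.pt
    rw [← cancel_epi (CycBdlLib.toF c.pt), key _ w1 fun j => by rw [Category.assoc, hr', hh],
      key _ (Category.id_comp _) fun j => Category.id_comp _]
  let V : Cone D := ⟨T, { app := fun j => v j.unop, naturality := fun i j f =>
    (Category.id_comp _).trans (hv _ _ f.unop).symm }⟩
  refine ⟨hL.lift V ≫ r, fun j => by rw [Category.assoc, hr']; exact hL.fac V (op j), fun w hw => ?_⟩
  have : w ≫ h = hL.lift V := hL.hom_ext fun j => by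
    rw [Category.assoc, hL.fac]
    exact (hw j.unop).trans (hL.fac V j).symm
  rw [← this, Category.assoc, hhr, Category.comp_id]

end Groth.Agent.S5876
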