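import Groth.Statements.S5913
import Mathlib
import Mathlib
import Groth.Agent.S3432
-- import your own Groth.Agent.* helpers here

set_option autoImplicit false
universe u
open CategoryTheory AlgebraicGeometry
open EGA43

namespace Groth.Agent.S5913

/-- In the locally Noetherian form: a locally Noetherian scheme X is Jacobson if and only if it has no
subscheme isomorphic to the spectrum of a semi-local integral domain of dimension 1, i.e. there is
no immersion Spec R ⟶ X with R an integral domain having finitely many maximal ideals and Krull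
dimension 1. -/
theorem result (X : Scheme.{u}) [IsLocallyNoetherian X] :
    JacobsonSpace X ↔
      ∀ (R : CommRingCat.{u}) [IsDomain R] (i : Spec R ⟶ X) [IsImmersion i],
        ¬ (Finite (MaximalSpectrum R) ∧ ringKrullDim R = 1) := by
  classical
  constructor
  · intro hJ R _ i _ ⟨hfin, hdim⟩
    haveI : JacobsonSpace (Spec R) := LocallyOfFiniteType.jacobsonSpace i
    haveI : JacobsonSpace (PrimeSpectrum R) := ‹JacobsonSpace (Spec R)›
    haveI : IsJacobsonRing R := PrimeSpectrum.isJacobsonRing_iff_jacobsonSpace.2 ‹_›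
    have hnf : ¬ IsField R := fun h => by
      letI := h.toField
      rw [ringKrullDim_eq_zero_of_field] at hdim
      exact absurd hdim (by norm_num)
    have hM : ∀ M : MaximalSpectrum R, ∃ m ∈ M.asIdeal, m ≠ 0 := fun M =>
      Submodule.exists_mem_ne_zero_of_ne_bot fun h =>
        hnf (Ring.isField_iff_maximal_bot.2 (h ▸ M.isMaximal))
    choose m hm hm0 using hM
    haveI := Fintype.ofFinite (MaximalSpectrum R)
    have h0 : (∏ M, m M) ∈ (⊥ : Ideal R).jacobson := by
      rw [Ideal.jacobson, Ideal.mem_sInf]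
      intro J hJ'
      exact J.prod_mem (Finset.mem_univ ⟨J, hJ'.2⟩) (hm ⟨J, hJ'.2⟩)
    rw [IsJacobsonRing.out' _ (Ideal.IsPrime.isRadical Ideal.isPrime_bot)] at h0
    exact Finset.prod_ne_zero_iff.2 (fun M _ => hm0 M) (Submodule.mem_bot _ |>.1 h0)
  · intro h
    rw [TopologicalSpace.IsOpenCover.jacobsonSpace_iff (X.affineCover.isOpenCover_opensRange)]
    intro k
    have hU : IsAffineOpen (X.affineCover.f k).opensRange := isAffineOpen_opensRange _
    revert hU
    generalize (X.affineCover.f k).opensRange = U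
    intro hU
    suffices IsJacobsonRing Γ(X, U) by
      haveI : JacobsonSpace (Spec Γ(X, U)) := inferInstance
      exact JacobsonSpace.of_isOpenEmbedding hU.isoSpec.hom.isOpenEmbedding
    haveI : IsNoetherianRing Γ(X, U) := IsLocallyNoetherian.component_noetherian ⟨U, hU⟩
    rw [isJacobsonRing_iff_prime_eq]
    intro P hP
    by_contra hne
    obtain ⟨f, hfJ, hfP⟩ := Set.not_subset.1 fun hs => hne (le_antisymm hs Ideal.le_jacobson)
    obtain ⟨Q, ⟨hQp, hPQ, hfQ⟩, hmax⟩ := set_has_maximal_iff_noetherian (R := Γ(X, U)) (M := Γ(X, U)) |>.2 inferInstance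
      {Q : Ideal Γ(X, U) | Q.IsPrime ∧ P ≤ Q ∧ f ∉ Q} ⟨P, hP, le_rfl, hfP⟩
    haveI := hQp
    let π := Ideal.Quotient.mk Q
    have hf0 : π f ≠ 0 := fun e => hfQ (Ideal.Quotient.eq_zero_iff_mem.1 e)
    have hall : ∀ R : Ideal (Γ(X, U) ⧸ Q), R.IsPrime → R ≠ ⊥ → π f ∈ R := fun R hR hR0 => by
      by_contra hfR
      have hle : Q ≤ R.comap π := fun z hz => by
        show π z ∈ R; rw [Ideal.Quotient.eq_zero_iff_mem.2 hz]; exact R.zero_mem
      refine hmax (R.comap π) ⟨inferInstance, hPQ.trans hle, hfR⟩ (lt_of_le_of_ne hle fun e => hR0 ?_)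
      rw [← Ideal.map_comap_of_surjective π Ideal.Quotient.mk_surjective R, ← e, Ideal.map_quotient_self]
    have hmax' : ∀ R : Ideal (Γ(X, U) ⧸ Q), R.IsPrime → R ≠ ⊥ → R.IsMaximal := fun R hR hR0 => by
      obtain ⟨M, hM, hRM⟩ := Ideal.exists_le_maximal R hR.ne_top
      rcases hRM.lt_or_eq with hlt | rfl
      · exact (Groth.Agent.S3432.no_two_step (π f) hf0 hall R M hR0 hlt).elim
      · exact hM
    have hnm : ¬ (⊥ : Ideal (Γ(X, U) ⧸ Q)).IsMaximal := fun hm => by
      have : Ideal.IsMaximal Q := Ideal.Quotient.maximal_of_isField _ (Ring.isField_iff_maximal_bot.2 hm)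
      exact hfQ (Ideal.mem_sInf.1 hfJ ⟨hPQ, this⟩)
    haveI : IsClosedImmersion (Spec.map (CommRingCat.ofHom π)) := IsClosedImmersion.spec_of_surjective _ Ideal.Quotient.mk_surjective
    refine h (.of (Γ(X, U) ⧸ Q)) (Spec.map (CommRingCat.ofHom π) ≫ hU.fromSpec) ?_
    refine ⟨?_, le_antisymm ?_ ?_⟩
    · haveI : Finite ↥(Ideal.span {π f}).minimalPrimes :=
        (Ideal.finite_minimalPrimes_of_isNoetherianRing _ _).to_subtype
      refine Finite.of_injective (β := ↥(Ideal.span {π f}).minimalPrimes)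
        (fun M => ⟨M.asIdeal, ⟨M.isMaximal.isPrime, ?_⟩, fun R hR hRM => ?_⟩) fun a b e => ?_
      · exact Ideal.span_le.2 (Set.singleton_subset_iff.2 (hall _ M.isMaximal.isPrime fun e => hnm (e ▸ M.isMaximal)))
      · exact ((hmax' R hR.1 fun e => hf0 (by simpa [e] using hR.2 (Ideal.subset_span rfl))).eq_of_le M.isMaximal.ne_top hRM).ge
      · exact MaximalSpectrum.ext (congrArg Subtype.val e)
    · have : Ring.DimensionLEOne (Γ(X, U) ⧸ Q) := ⟨fun {R} hR0 hR => hmax' R hR hR0⟩
      exact (Order.krullDimLE_iff _ _).1 (inferInstanceAs (Ring.KrullDimLE 1 (Γ(X, U) ⧸ Q)))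
    · obtain ⟨M, hM, hlt⟩ := Ideal.exists_le_maximal (⊥ : Ideal (Γ(X, U) ⧸ Q)) bot_ne_top
      exact Order.one_le_krullDim_iff.2 ⟨⟨⊥, Ideal.isPrime_bot⟩, ⟨M, hM.isPrime⟩,
        lt_of_le_of_ne hlt fun e => hnm (by have h2 : (⊥ : Ideal _) = M := congrArg PrimeSpectrum.asIdeal e; rwa [h2])⟩

end Groth.Agent.S5913
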