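import Groth.Statements.S5915
import Groth.Agent.S4857
import Groth.Agent.QCohLib.Coherent
import Groth.Agent.FlatCrit.FiniteTest
import Groth.Agent.FlatCrit.PullbackPoint

set_option autoImplicit false
universe u
open CategoryTheory AlgebraicGeometry
open EGA43

namespace Groth.Agent.S5915

open CategoryTheory.Limits in
/-- Let Y be locally Noetherian, f : X ⟶ Y locally of finite type, F a coherent O_X-module, x a point of
X and y = f x. Let φ : O_{Y,y} ⟶ A' be an injective ring homomorphism which is finite (A' finitely
generated as an O_{Y,y}-module), Y' = Spec A' ⟶ Y the induced Y-scheme, X' = X ×_Y Y' and F' the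
pullback of F to X'. Then F is f-flat at x if and only if F' is flat over Y' at every point of X'
lying over x and over a closed point of Y'. (The published statement treats more generally a Zariski
ring A' whose radical pulls back to the maximal ideal and whose map on completions is injective;
this row is the case of a finite algebra with injective structure map, in which those conditions
hold.) -/
theorem result {X Y : Scheme.{u}} [IsLocallyNoetherian Y]
    (f : X ⟶ Y) [LocallyOfFiniteType f] (F : X.Modules) (hF : Coh.IsCoh F) (x : X)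
    (A' : CommRingCat.{u}) (φ : Y.presheaf.stalk (f.base x) ⟶ A') (hfin : φ.hom.Finite)
    (hinj : Function.Injective φ.hom) :
    FlatMod.IsFlatOverAt f F x ↔
      ∀ x' : ↥(pullback f (Spec.map φ ≫ Y.fromSpecStalk (f.base x))), pullback.fst f (Spec.map φ ≫ Y.fromSpecStalk (f.base x)) x' = x →
        IsClosed ({pullback.snd f (Spec.map φ ≫ Y.fromSpecStalk (f.base x)) x'} : Set ↥(Spec A')) →
          FlatMod.IsFlatOverAt (pullback.snd f (Spec.map φ ≫ Y.fromSpecStalk (f.base x))) ((Scheme.Modules.pullback (pullback.fst f (Spec.map φ ≫ Y.fromSpecStalk (f.base x)))).obj F) x' := by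
  haveI hq : Coh.IsQCoh F := hF.1
  haveI : IsLocallyNoetherian X := LocallyOfFiniteType.isLocallyNoetherian f
  haveI : LocallyOfFinitePresentation f := LocallyOfFinitePresentation.iff_locallyOfFiniteType.mpr inferInstance
  have hFP : CohB1.IsFP F := QCohLib.isFP_of_isCoh F hF
  obtain ⟨U, hU, hxU, -⟩ := exists_isAffineOpen_mem_and_subset (x := f x) (U := ⊤) trivial
  let g : Spec A' ⟶ Y := Spec.map φ ≫ Y.fromSpecStalk (f.base x)
  have hrange : Set.range g ⊆ U := by
    rintro _ ⟨q, rfl⟩
    have h1 : Y.fromSpecStalk (f.base x) (Spec.map φ q) ∈ Set.range (Y.fromSpecStalk (f.base x)) := ⟨_, rfl⟩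
    rw [Scheme.range_fromSpecStalk] at h1
    exact h1.mem_open U.2 hxU
  constructor
  · intro h x' hx' _
    exact FlatCrit.isFlatOverAt_pullback_affine f F hFP hU g hrange x' (hx'.symm ▸ h)
  · intro h
    letI : Algebra (Y.presheaf.stalk (f.base x)) A' := φ.hom.toAlgebra
    haveI : Module.Finite (Y.presheaf.stalk (f.base x)) A' := hfin
    haveI : IsNoetherianRing (Y.presheaf.stalk (f.base x)) := inferInstance
    haveI : ∀ n : MaximalSpectrum A', IsLocalHom ((algebraMap A' (Localization.AtPrime n.asIdeal)).comp φ.hom) :=
      fun n => by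
        refine ((IsLocalRing.local_hom_TFAE _).out 0 4 rfl rfl).mpr ?_
        have hc : Ideal.comap (algebraMap A' (Localization.AtPrime n.asIdeal))
            (IsLocalRing.maximalIdeal (Localization.AtPrime n.asIdeal)) = n.asIdeal :=
          IsLocalization.AtPrime.comap_maximalIdeal (Localization.AtPrime n.asIdeal) n.asIdeal
        rw [← Ideal.comap_comap, hc]
        exact IsLocalRing.eq_maximalIdeal (Ideal.isMaximal_comap_of_isIntegral_of_isMaximal
          (R := Y.presheaf.stalk (f.base x)) (S := A') n.asIdeal)
    refine Groth.Agent.S4857.result f F hF x (fun n : MaximalSpectrum A' => Localization.AtPrime n.asIdeal)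
      (fun n => (algebraMap A' (Localization.AtPrime n.asIdeal)).comp φ.hom) ?_ ?_
    · intro N
      obtain ⟨k, hk⟩ := FlatCrit.exists_iInf_comap_pow_le (A := Y.presheaf.stalk (f.base x)) (B := A') hinj N
      haveI := HenselLib.finite_maximalSpectrum (B := A') (Y.presheaf.stalk (f.base x))
      haveI := Fintype.ofFinite (MaximalSpectrum A')
      classical
      refine ⟨Finset.univ.image fun n : MaximalSpectrum A' => (n, k), ?_⟩
      intro a ha
      refine hk (Ideal.mem_iInf.mpr fun n => ?_)
      have h1 := Ideal.mem_iInf.mp (Ideal.mem_iInf.mp ha (n, k)) (Finset.mem_image_of_mem _ (Finset.mem_univ n))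
      exact h1
    · intro n z hz hzc
      let l : Spec (CommRingCat.of (Localization.AtPrime n.asIdeal)) ⟶ Spec A' :=
        Spec.map (CommRingCat.ofHom (algebraMap A' (Localization.AtPrime n.asIdeal)))
      have hl : l ≫ g = Spec.map (CommRingCat.ofHom ((algebraMap A' (Localization.AtPrime n.asIdeal)).comp φ.hom)) ≫
          Y.fromSpecStalk (f.base x) := by
        rw [← Category.assoc, ← Spec.map_comp]
        rfl
      refine FlatCrit.isFlatOverAt_baseChange_affine f F hFP hU g hrange l _ hl z fun w hwf hws => h w ?_ ?_
      · rw [hwf, hz]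
      · rw [hws, hzc]
        have hcl : IsClosed ({(⟨n.asIdeal, n.isMaximal.isPrime⟩ : PrimeSpectrum A')} : Set (PrimeSpectrum A')) :=
          (PrimeSpectrum.isClosed_singleton_iff_isMaximal _).mpr n.isMaximal
        have : l (IsLocalRing.closedPoint (Localization.AtPrime n.asIdeal)) =
            (⟨n.asIdeal, n.isMaximal.isPrime⟩ : PrimeSpectrum A') :=
          PrimeSpectrum.ext (IsLocalization.AtPrime.comap_maximalIdeal (Localization.AtPrime n.asIdeal) n.asIdeal)
        rw [this]
        exact hcl

end Groth.Agent.S5915
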