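import Groth.Statements.S5918
import Groth.Agent.S4856
import Groth.Agent.RichLib.ModFlatLimit
import Groth.Agent.QCohLib.Coherent
-- import your own Groth.Agent.* helpers here

set_option autoImplicit false
universe u
open CategoryTheory AlgebraicGeometry
open EGA43

namespace Groth.Agent.S5918

open CategoryTheory.Limits in
/-- Let A be an Artinian local ring, f : X ⟶ Spec A locally of finite type, F a coherent O_X-module and
x a point of X. Let (g_i : Y_i ⟶ Spec A) be a family of A-schemes such that an element of A whose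
image in every Γ(Y_i, O_{Y_i}) is zero is itself zero. If, for every i, the pullback of F to X
×_{Spec A} Y_i is flat over Y_i at every point lying over x, then F is f-flat at x. -/
theorem result {A : Type u} [CommRing A]
    [IsArtinianRing A] [IsLocalRing A] {X : Scheme.{u}} (f : X ⟶ Spec (CommRingCat.of A))
    [LocallyOfFiniteType f] (F : X.Modules) (hF : Coh.IsCoh F) (x : X)
    {ι : Type u} (Y : ι → Scheme.{u}) (g : ∀ i, Y i ⟶ Spec (CommRingCat.of A))
    (hg : ∀ a : A, (∀ i, (g i).appTop ((Scheme.ΓSpecIso (CommRingCat.of A)).inv a) = 0) → a = 0)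
    (hflat : ∀ (i : ι) (x' : ↥(pullback f (g i))), pullback.fst f (g i) x' = x →
      FlatMod.IsFlatOverAt (pullback.snd f (g i)) ((Scheme.Modules.pullback (pullback.fst f (g i))).obj F) x') :
    FlatMod.IsFlatOverAt f F x := by
  haveI : Coh.IsQCoh F := hF.1
  haveI : IsLocallyNoetherian X := LocallyOfFiniteType.isLocallyNoetherian f
  haveI : LocallyOfFinitePresentation f := inferInstance
  have hFP : CohB1.IsFP F := QCohLib.isFP_of_isCoh F hF
  let u : ∀ q : Σ i, Y i, A →+* (Y q.1).presheaf.stalk q.2 := fun q =>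
    ((Scheme.ΓSpecIso (CommRingCat.of A)).inv ≫ (g q.1).appTop ≫ (Y q.1).presheaf.germ ⊤ q.2 trivial).hom
  have hmap : ∀ q : Σ i, Y i, Spec.map (CommRingCat.ofHom (u q)) = (Y q.1).fromSpecStalk q.2 ≫ g q.1 := fun q => by
    refine ext_to_Spec ?_
    show (Scheme.ΓSpecIso (CommRingCat.of A)).inv ≫ (Spec.map (CommRingCat.ofHom (u q))).appTop =
      (Scheme.ΓSpecIso (CommRingCat.of A)).inv ≫ ((Y q.1).fromSpecStalk q.2 ≫ g q.1).appTop
    rw [← Scheme.ΓSpecIso_inv_naturality, Scheme.Hom.comp_appTop, Scheme.fromSpecStalk_appTop]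
    simp only [u, CommRingCat.ofHom_hom, Category.assoc]
    rw [show (homOfLE (le_top : (⊤ : (Spec ((Y q.1).presheaf.stalk q.2)).Opens) ≤ ⊤)).op = 𝟙 _ from rfl,
      CategoryTheory.Functor.map_id, Category.comp_id]
    rfl
  refine Groth.Agent.S4856.result f F hF x (fun q : Σ i, Y i => ((Y q.1).presheaf.stalk q.2 : Type u)) u
    (fun a ha => hg a fun i => ?_) fun q x' hx' _ => ?_
  · refine TopCat.Presheaf.section_ext (Y i).sheaf ⊤ _ _ fun y _ => ?_
    exact (ha ⟨i, y⟩).trans (map_zero ((Y i).presheaf.germ ⊤ y trivial).hom).symm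
  · obtain ⟨i, y⟩ := q
    obtain ⟨U, hU, hyU⟩ := QCohLib.exists_affine_nhd y
    haveI : IsAffine U.toScheme := hU
    let t : U.toScheme ⟶ Spec (CommRingCat.of A) := U.ι ≫ g i
    haveI : IsAffineHom t := isAffineHom_of_isAffine t
    let t' := Spec.map (CommRingCat.ofHom (u ⟨i, y⟩))
    haveI : IsAffineHom t' := inferInstance
    let h : Spec ((Y i).presheaf.stalk y) ⟶ U.toScheme := U.fromSpecStalkOfMem y hyU
    have ht : h ≫ t = t' := by
      show h ≫ U.ι ≫ g i = _
      rw [Scheme.Opens.fromSpecStalkOfMem_ι_assoc]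
      exact (hmap ⟨i, y⟩).symm
    let m : pullback f t' ⟶ pullback f t := pullback.lift (pullback.fst f t') (pullback.snd f t' ≫ h)
      (by rw [Category.assoc, ht, pullback.condition])
    let j : pullback f t ⟶ pullback f (g i) := pullback.lift (pullback.fst f t) (pullback.snd f t ≫ U.ι)
      (by rw [Category.assoc]; exact pullback.condition)
    have sq : IsPullback j (pullback.snd f t) (pullback.snd f (g i)) U.ι :=
      IsPullback.of_right (by rw [pullback.lift_fst]; exact IsPullback.of_hasPullback f t)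
        (pullback.lift_snd _ _ _) (IsPullback.of_hasPullback f (g i))
    haveI : IsOpenImmersion j := MorphismProperty.of_isPullback sq.flip inferInstance
    refine RichLib.ModFlat.isFlatOverAt_baseChange f F hFP t h t' ht m (pullback.lift_fst _ _ _)
      (pullback.lift_snd _ _ _) x' ?_
    refine (RichLib.ModFlat.isFlatOverAt_congr j U.ι sq.w.symm
      ((Scheme.Modules.pullbackCongr (pullback.lift_fst _ _ _).symm).app F ≪≫
        ((Scheme.Modules.pullbackComp j (pullback.fst f (g i))).app F).symm) (m x')).mpr (hflat i _ ?_)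
    rw [← Scheme.Hom.comp_apply, pullback.lift_fst, ← Scheme.Hom.comp_apply, pullback.lift_fst]
    exact hx'

end Groth.Agent.S5918
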