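import Groth.Statements.S5920
import Mathlib
import Groth.Agent.DepthLib.OpenRect
-- import your own Groth.Agent.* helpers here

set_option autoImplicit false
open CategoryTheory AlgebraicGeometry
universe u
open EGA43

namespace Groth.Agent.S5920

/-- Let f : X ⟶ Y be a proper morphism of finite presentation and F a finitely presented O_X-module
which is f-flat; for y in Y write F_y for the restriction of F to the fibre X_y. For a point x of
X_y the rectified depth of F_y at x is prof(F_y)_x + dim cl{x}, the depth of the stalk over the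
local ring of X_y at x plus the dimension of the closure of x in X_y, and prof*(F_y) is the infimum
of these over X_y. Then y ↦ prof*(F_y) is lower semicontinuous on Y: for every natural number n, the
set of points y such that prof(F_y)_x + dim cl{x} ≥ n for every point x of X_y is open in Y. -/
theorem result {X Y : Scheme.{u}} (f : X ⟶ Y) [IsProper f]
    [LocallyOfFinitePresentation f] (F : X.Modules) (hF : CohB1.IsFP F) (hflat : FlatMod.IsFlatOver f F) (n : ℕ) :
    IsOpen {y : Y | ∀ x : ↥(f.fiber y), (n : WithBot ℕ∞) ≤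
      ((LocCoh.depth ((f.fiber y).presheaf.stalk x) (((Scheme.Modules.pullback (f.fiberι y)).obj F).presheaf.stalk x) : ℕ∞) : WithBot ℕ∞) +
        topologicalKrullDim ↥(closure ({x} : Set ↥(f.fiber y)))} := by
  haveI : Coh.IsQCoh F := by
    haveI := hF
    infer_instance
  let E : Set X := {x : X | (n : WithBot ℕ∞) ≤ DepthLib.rectDepth f F x}
  have hE : IsOpen E := DepthLib.isOpen_le_rectDepth f F hF hflat n
  have key : ∀ (s : Y) (z : f.fiber s), f.fiberι s z ∈ E ↔ (n : WithBot ℕ∞) ≤
      ((LocCoh.depth ((f.fiber s).presheaf.stalk z) (((Scheme.Modules.pullback (f.fiberι s)).obj F).presheaf.stalk z) : ℕ∞) : WithBot ℕ∞) +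
        topologicalKrullDim ↥(closure ({z} : Set ↥(f.fiber s))) := by
    intro s z
    have hs : f (f.fiberι s z) = s := (f.range_fiberι s).le ⟨z, rfl⟩
    generalize hx : f.fiberι s z = x at hs ⊢
    subst hs
    obtain rfl : z = f.asFiber x := (f.fiberι (f x)).isEmbedding.injective (by rw [hx, f.fiberι_asFiber])
    exact Iff.rfl
  have heq : {y : Y | ∀ x : ↥(f.fiber y), (n : WithBot ℕ∞) ≤
      ((LocCoh.depth ((f.fiber y).presheaf.stalk x) (((Scheme.Modules.pullback (f.fiberι y)).obj F).presheaf.stalk x) : ℕ∞) : WithBot ℕ∞) +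
        topologicalKrullDim ↥(closure ({x} : Set ↥(f.fiber y)))} = (f '' Eᶜ)ᶜ := by
    ext y
    simp only [Set.mem_setOf_eq, Set.mem_compl_iff, Set.mem_image, not_exists, not_and]
    refine ⟨fun h x hx hxs => ?_, fun h z => ?_⟩
    · obtain ⟨z, rfl⟩ : x ∈ Set.range (f.fiberι y) := by rw [f.range_fiberι]; exact hxs
      exact hx ((key y z).2 (h z))
    · refine (key y z).1 (by_contra fun hz => h _ hz ((f.range_fiberι y).le ⟨z, rfl⟩))
  rw [heq]
  exact ((f.isClosedMap) _ hE.isClosed_compl).isOpen_compl

end Groth.Agent.S5920
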