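import Groth.Statements.S5922
import Mathlib
import Groth.Agent.DepthLib.SkOpen
-- import your own Groth.Agent.* helpers here

set_option autoImplicit false
open CategoryTheory AlgebraicGeometry
universe u
open EGA43

namespace Groth.Agent.S5922

/-- Let f : X ⟶ Y be a morphism locally of finite presentation and n a natural number. The set of points
x of X such that f is flat at x and the local ring at x of the fibre of f through x has codepth at
most n, i.e. its Krull dimension is at most its depth plus n, is open in X. -/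
theorem result {X Y : Scheme.{u}} (f : X ⟶ Y) [LocallyOfFinitePresentation f]
    (n : ℕ) :
    IsOpen {x : X | (f.stalkMap x).hom.Flat ∧
      ringKrullDim ((f.fiber (f.base x)).presheaf.stalk (f.asFiber x)) ≤
        ((LocCoh.depth ((f.fiber (f.base x)).presheaf.stalk (f.asFiber x)) ((f.fiber (f.base x)).presheaf.stalk (f.asFiber x)) : ℕ∞) : WithBot ℕ∞) + n} := by
  rw [isOpen_iff_forall_mem_open]
  rintro x ⟨hfl, hx⟩
  haveI : Coh.IsQCoh (Coh.structureModule X) := QCohLib.isQCoh_unit
  obtain ⟨d, r, a, hd, ha, -, he, hρ⟩ := DepthLib.exists_fibre_data f x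
  rw [hd, ha] at hx
  have hmain : ∀ m : ℕ, ((m : ℕ) : WithBot ℕ∞) ≤ ((a + r : ℕ∞) : WithBot ℕ∞) → d + r ≤ m + n →
      ∃ t ⊆ {x : X | (f.stalkMap x).hom.Flat ∧
        ringKrullDim ((f.fiber (f.base x)).presheaf.stalk (f.asFiber x)) ≤
          ((LocCoh.depth ((f.fiber (f.base x)).presheaf.stalk (f.asFiber x)) ((f.fiber (f.base x)).presheaf.stalk (f.asFiber x)) : ℕ∞) : WithBot ℕ∞) + n},
        IsOpen t ∧ x ∈ t := by
    intro m hm hle
    refine ⟨{y | ((m : ℕ) : WithBot ℕ∞) ≤ DepthLib.rectDepth f (Coh.structureModule X) y ∧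
        FlatMod.IsFlatOverAt f (Coh.structureModule X) y} ∩ {y | FlatMor.fibreDimAt f y ≤ ((d + r : ℕ) : WithBot ℕ∞)},
      ?_, (DepthLib.isOpen_le_rectDepth_inter_flat f _ DepthLib.isFP_structureModule m).inter
        (FibDimLib.isOpen_fibreDimAt_le f _), ⟨hρ ▸ hm, (DepthLib.isFlatOverAt_structureModule_iff f x).2 hfl⟩, he.le⟩
    rintro y ⟨⟨hy1, hy2⟩, hy3⟩
    obtain ⟨d', r', a', hd', ha', -, he', hρ'⟩ := DepthLib.exists_fibre_data f y
    refine ⟨(DepthLib.isFlatOverAt_structureModule_iff f y).1 hy2, ?_⟩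
    rw [hρ'] at hy1
    rw [Set.mem_setOf_eq, he', Nat.cast_le] at hy3
    rw [hd', ha']
    induction a' using ENat.recTopCoe with
    | top =>
      rw [show ((n : ℕ) : WithBot ℕ∞) = ((n : ℕ∞) : WithBot ℕ∞) from rfl, ← WithBot.coe_add, top_add]
      exact le_top
    | coe b =>
      have h4 : m ≤ b + r' := by exact_mod_cast hy1
      exact_mod_cast (show d' ≤ b + n by omega)
  induction a using ENat.recTopCoe with
  | top => exact hmain (d + r) (WithBot.coe_le_coe.2 (by rw [top_add]; exact le_top)) (by omega)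
  | coe b =>
    have h1 : d ≤ b + n := by exact_mod_cast hx
    exact hmain (b + r) (le_of_eq (by norm_cast)) (by omega)

end Groth.Agent.S5922
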