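import Groth.Statements.S5924
import Groth.Agent.EquidimLib.Points
-- import your own Groth.Agent.* helpers here

set_option autoImplicit false
open CategoryTheory AlgebraicGeometry
universe u
open EGA43

namespace Groth.Agent.S5924

/-- Let Y be an irreducible locally Noetherian scheme, f : X ⟶ Y a morphism locally of finite type which
is equidimensional at the point x, and suppose that x is not a maximal point of its fibre f⁻¹(f x),
i.e. some point of the fibre other than x specializes to x. Then there exist an affine open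
neighbourhood U of x and a section g of O_X over U such that g vanishes at x (x is not in the basic
open set of g) while every maximal point of f⁻¹(f x) lying in U is in the basic open set of g. -/
theorem result {X Y : Scheme.{u}} [IrreducibleSpace Y]
    [IsLocallyNoetherian Y] (f : X ⟶ Y) [LocallyOfFiniteType f] (x : X) (hf : EGA43.IsEquidimAt f x)
    (hx : ∃ x' : X, f.base x' = f.base x ∧ x' ≠ x ∧ x ∈ closure ({x'} : Set X)) :
    ∃ U : X.Opens, IsAffineOpen U ∧ x ∈ U ∧ ∃ g : Γ(X, U), x ∉ X.basicOpen g ∧
      ∀ z : X, f.base z = f.base x → (∀ z' : X, f.base z' = f.base x → z ∈ closure ({z'} : Set X) → z' = z) →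
        z ∈ U → z ∈ X.basicOpen g := by
  classical
  haveI : IsLocallyNoetherian X := LocallyOfFiniteType.isLocallyNoetherian f
  obtain ⟨x', hx'f, hx'ne, hx'cl⟩ := hx
  obtain ⟨U, hU, hxU, -⟩ := exists_isAffineOpen_mem_and_subset (X := X) (x := x) (U := ⊤) trivial
  haveI : IsNoetherianRing Γ(X, U) := IsLocallyNoetherian.component_noetherian ⟨U, hU⟩
  let y := f.base x
  let ι := f.fiberι y
  haveI := UOpenLib.lft_fiberToSpec f y
  haveI : IsLocallyNoetherian (f.fiber y) := LocallyOfFiniteType.isLocallyNoetherian (f.fiberToSpecResidueField y)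
  let W : Set X := (U : Set X) ∩ f.base ⁻¹' {y}
  have hWs : TopologicalSpace.NoetherianSpace ↥W := by
    haveI : CompactSpace (U : Scheme.{u}) := isCompact_iff_compactSpace.mp hU.isCompact
    haveI : IsNoetherian (U : Scheme.{u}) := {}
    haveI : TopologicalSpace.NoetherianSpace ↥(U : Set X) :=
      inferInstanceAs (TopologicalSpace.NoetherianSpace ↥(U : Scheme.{u}))
    exact (Topology.IsEmbedding.inclusion (s := W) (t := (U : Set X)) Set.inter_subset_left).isInducing.noetherianSpace
  let M : Set X := {z | z ∈ U ∧ f.base z = y ∧ ∀ z' : X, f.base z' = y → z ∈ closure ({z'} : Set X) → z' = z}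
  have hM : M.Finite := by
    refine ((TopologicalSpace.NoetherianSpace.finite_irreducibleComponents (α := ↥W)).image
      fun Z => closure (Subtype.val '' Z)).of_injOn (f := fun z => closure ({z} : Set X)) ?_ ?_
    · rintro z ⟨hzU, hzy, hmax⟩
      refine ⟨closure {(⟨z, hzU, hzy⟩ : W)}, ⟨isIrreducible_singleton.closure, fun Z hZ hle => ?_⟩, ?_⟩
      · intro v hv
        obtain ⟨g, hg⟩ := QuasiSober.sober ((hZ.image Subtype.val continuous_subtype_val.continuousOn).closure) isClosed_closure
        have hgz : g ⤳ z := hg.specializes (subset_closure ⟨_, hle (subset_closure rfl), rfl⟩)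
        have hgv : g ⤳ v.1 := hg.specializes (subset_closure ⟨v, hv, rfl⟩)
        have hzg : z ⤳ g := by
          have h1 : f.base g ⤳ y := hzy ▸ hgz.map f.continuous
          have h2 : y ⤳ f.base g := by
            have hsub : closure (Subtype.val '' Z) ⊆ f.base ⁻¹' closure {y} := by
              refine closure_minimal ?_ (isClosed_closure.preimage f.continuous)
              rintro _ ⟨a, -, rfl⟩
              show f.base a.1 ∈ closure {y}
              rw [show f.base a.1 = y from a.2.2]
              exact subset_closure rfl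
            exact specializes_iff_mem_closure.mpr (hsub hg.mem)
          exact specializes_of_eq (hmax g (h1.antisymm h2).eq (hgz.mem_closure)).symm
        exact ((subtype_specializes_iff (⟨z, hzU, hzy⟩ : W) v).mpr (hzg.trans hgv)).mem_closure
      · show closure (Subtype.val '' closure {(⟨z, hzU, hzy⟩ : W)}) = closure ({z} : Set X)
        rw [closure_image_closure continuous_subtype_val, Set.image_singleton]
    · intro a _ b _ hab
      exact (isGenericPoint_closure (x := a)).eq (show closure {b} = closure {a} from hab.symm)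
  let q : X → Ideal Γ(X, U) := fun z => if h : z ∈ U then (hU.primeIdealOf ⟨z, h⟩).asIdeal else ⊥
  let P := (hU.primeIdealOf ⟨x, hxU⟩).asIdeal
  have hnot : ¬ ((P : Set Γ(X, U)) ⊆ ⋃ z ∈ (↑hM.toFinset : Set X), (q z : Set Γ(X, U))) := by
    intro hsub
    obtain ⟨z, hzM, hle⟩ := (Ideal.subset_union_prime (s := hM.toFinset) x x (fun i hi _ _ => by
      have hiU : i ∈ U := ((Set.Finite.mem_toFinset hM).mp hi).1
      simp only [q, hiU, dif_pos]
      exact (hU.primeIdealOf ⟨i, hiU⟩).isPrime)).mp hsub
    obtain ⟨hzU, hzy, hmax⟩ := (Set.Finite.mem_toFinset hM).mp hzM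
    simp only [q, hzU, dif_pos] at hle
    have hxz : x ⤳ z := by
      have h := (((PrimeSpectrum.le_iff_specializes (hU.primeIdealOf ⟨x, hxU⟩) (hU.primeIdealOf ⟨z, hzU⟩)).mp hle).map
        hU.fromSpec.continuous)
      erw [hU.fromSpec_primeIdealOf, hU.fromSpec_primeIdealOf] at h
      exact h
    obtain rfl : x = z := hmax x rfl hxz.mem_closure
    exact hx'ne (hmax x' hx'f hx'cl)
  obtain ⟨g, hgP, hg⟩ := Set.not_subset.mp hnot
  have hiff : ∀ z (hz : z ∈ U), z ∈ X.basicOpen g ↔ g ∉ (hU.primeIdealOf ⟨z, hz⟩).asIdeal := fun z hz => by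
    have h := congrArg (fun V : TopologicalSpace.Opens _ => (hU.primeIdealOf ⟨z, hz⟩) ∈ V) (hU.fromSpec_preimage_basicOpen g)
    simp only [eq_iff_iff] at h
    rw [← PrimeSpectrum.mem_basicOpen]
    refine Iff.trans ?_ h
    show _ ↔ hU.fromSpec.base (hU.primeIdealOf ⟨z, hz⟩) ∈ X.basicOpen g
    rw [hU.fromSpec_primeIdealOf]
  refine ⟨U, hU, hxU, g, fun h => (hiff x hxU).mp h hgP, fun z hz hzmax hzU => (hiff z hzU).mpr fun hgz => hg ?_⟩
  refine Set.mem_biUnion (x := z) ((Set.Finite.mem_toFinset hM).mpr ⟨hzU, hz, hzmax⟩) ?_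
  simp only [q, hzU, dif_pos]
  exact hgz

end Groth.Agent.S5924
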