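import Groth.Statements.S5925
import Mathlib
import Groth.Agent.HyperLib.Slice
-- import your own Groth.Agent.* helpers here

set_option autoImplicit false
open CategoryTheory AlgebraicGeometry
universe u
open EGA43

namespace Groth.Agent.S5925

/-- Let Y be an irreducible locally Noetherian scheme, f : X ⟶ Y a morphism locally of finite type which
is equidimensional at the point x, y = f x and e = dim_x(f⁻¹(y)). Let g be a global section of O_X
vanishing at x whose zero set X' contains no maximal point of f⁻¹(y). Then X', with its reduced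
closed subscheme structure, is equidimensional over Y at x; dim_x(X' ∩ f⁻¹(y)) = e − 1; and every
irreducible component of X' containing x has codimension 1 in X, i.e. the local ring of X at its
generic point has Krull dimension 1. (Stated for a global section; the published statement takes g
on an affine open neighbourhood of x, to which this applies after restriction, and its codimension
assertion codim(X', X) = 1 is read for the components of X' through x: a component of the zero set
not passing through x can be a whole irreducible component of X disjoint from the fibre, of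
codimension 0.) -/
theorem result {X Y : Scheme.{u}} [IrreducibleSpace Y]
    [IsLocallyNoetherian Y] (f : X ⟶ Y) [LocallyOfFiniteType f] (x : X) (hf : EGA43.IsEquidimAt f x)
    (g : Γ(X, ⊤)) (hgx : x ∈ X.zeroLocus ({g} : Set Γ(X, ⊤)))
    (hmax : ∀ z : X, f.base z = f.base x → (∀ z' : X, f.base z' = f.base x → z ∈ closure ({z'} : Set X) → z' = z) →
      z ∉ X.zeroLocus ({g} : Set Γ(X, ⊤))) :
    (∀ w : ↥(Scheme.IdealSheafData.vanishingIdeal ⟨X.zeroLocus ({g} : Set Γ(X, ⊤)), X.zeroLocus_isClosed _⟩).subscheme,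
        (Scheme.IdealSheafData.vanishingIdeal ⟨X.zeroLocus ({g} : Set Γ(X, ⊤)), X.zeroLocus_isClosed _⟩).subschemeι.base w = x →
        EGA43.IsEquidimAt ((Scheme.IdealSheafData.vanishingIdeal ⟨X.zeroLocus ({g} : Set Γ(X, ⊤)), X.zeroLocus_isClosed _⟩).subschemeι ≫ f) w) ∧
      FlatMor.localDim ↥(X.zeroLocus ({g} : Set Γ(X, ⊤)) ∩ f.base ⁻¹' {f.base x}) ⟨x, ⟨hgx, rfl⟩⟩ + 1 = FlatMor.fibreDimAt f x ∧
      ∀ Z ∈ irreducibleComponents ↥(X.zeroLocus ({g} : Set Γ(X, ⊤))), (⟨x, hgx⟩ : ↥(X.zeroLocus ({g} : Set Γ(X, ⊤)))) ∈ Z →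
        ∀ ξ : ↥(X.zeroLocus ({g} : Set Γ(X, ⊤))), closure ({ξ} : Set ↥(X.zeroLocus ({g} : Set Γ(X, ⊤)))) = Z →
          ringKrullDim (X.presheaf.stalk (ξ : X)) = 1 := by
  obtain ⟨e, U, D⟩ := (EquidimLib.isEquidimAt_iff f x).1 hf
  have hmax' : ∀ z : X, f.base z = f.base x → EquidimLib.IsFibreMax f z → z ∉ X.zeroLocus ({g} : Set Γ(X, ⊤)) :=
    fun z hz hzm ↦ hmax z hz fun z' hz' h ↦ hzm z' (hz'.trans hz.symm) h
  let J := Scheme.IdealSheafData.vanishingIdeal
    (⟨X.zeroLocus ({g} : Set Γ(X, ⊤)), X.zeroLocus_isClosed _⟩ : TopologicalSpace.Closeds X)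
  have hj : Set.range J.subschemeι.base = X.zeroLocus ({g} : Set Γ(X, ⊤)) := by
    rw [J.range_subschemeι, Scheme.IdealSheafData.coe_support_vanishingIdeal]
    rfl
  obtain ⟨w, hw⟩ : x ∈ Set.range J.subschemeι.base := hj ▸ hgx
  subst hw
  refine ⟨fun w' hw' ↦ ?_, ?_, fun Z hZ hxZ ξ hξ ↦ ?_⟩
  · obtain rfl := J.subschemeι.isEmbedding.injective hw'
    exact HyperLib.isEquidimAt_slice f g J.subschemeι hj _ D hmax'
  · obtain ⟨e', he, hd⟩ := HyperLib.fibreDimAt_slice_add_one f g J.subschemeι hj D hmax'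
    rw [HyperLib.localDim_slice_eq f J.subschemeι _ hj w ⟨hgx, rfl⟩, hd, D.fibreDimAt_eq f D.mem, ← he]
    exact_mod_cast rfl
  · refine (HyperLib.component_slice f g D hmax' ξ.2 ?_ fun v hv hvξ ↦ ?_).1
    · rw [← hξ] at hxZ
      exact (specializes_iff_mem_closure.2 hxZ).map continuous_subtype_val
    · exact congrArg Subtype.val (FibDimLib.eq_of_specializes_of_closure_mem (hξ ▸ hZ)
        (Topology.IsInducing.subtypeVal.specializes_iff.1 (show ((⟨v, hv⟩ : ↥(X.zeroLocus ({g} : Set Γ(X, ⊤)))) : X) ⤳ ξ from hvξ)))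

end Groth.Agent.S5925
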