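import Groth.Statements.S5929
import Mathlib
import Groth.Agent.RichLib.FreeResolution
import Groth.Agent.PDLib.PD
-- import your own Groth.Agent.* helpers here

set_option autoImplicit false
universe u
open TensorProduct CategoryTheory
open EGA43

namespace Groth.Agent.S5929

/-- Let A be a commutative ring, B a finitely presented A-algebra which is flat as an A-module, and M a
finitely presented B-module which is flat as an A-module. Then M admits a left resolution by free
B-modules of finite type: there is a projective resolution of M in the category of B-modules (a
chain complex of projective modules with a quasi-isomorphism to M in degree 0) every term of which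
is a finitely generated free B-module. -/
theorem result (A B M : Type u) [CommRing A] [CommRing B] [Algebra A B]
    [Algebra.FinitePresentation A B] [Module.Flat A B] [AddCommGroup M] [Module B M] [Module A M]
    [IsScalarTower A B M] [Module.FinitePresentation B M] [Module.Flat A M] :
    ∃ P : ProjectiveResolution (ModuleCat.of B M),
      ∀ n : ℕ, Module.Finite B (P.complex.X n) ∧ Module.Free B (P.complex.X n) := by
  have key : ∀ (N : Type u) [AddCommGroup N] [Module B N] [Module A N] [IsScalarTower A B N], Module.Flat A N →
      (letI := Module.compHom N (algebraMap A B); Module.Flat A N) := fun N _ _ _ _ h => by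
    convert h using 1
    exact Module.ext' _ _ fun a m => (algebraMap_smul B a m)
  refine RichLib.FreeRes.exists_resolution (B := B)
    (fun N i j => Module.FinitePresentation B N ∧
      (letI := Module.compHom N (algebraMap A B); Module.Flat A N)) (fun N _ _ hN => ?_) M ⟨inferInstance, key M ‹_›⟩
  obtain ⟨hfp, hfl⟩ := hN
  letI : Module A N := Module.compHom N (algebraMap A B)
  haveI : IsScalarTower A B N := IsScalarTower.of_algebraMap_smul fun _ _ => rfl
  obtain ⟨n, φ, hφ, hfp', hfl'⟩ := PDLib.exists_step (A := A) (B := B) N
  exact ⟨n, φ, hφ, hfp', key _ hfl'⟩

end Groth.Agent.S5929
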