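import Groth.Statements.S5930
import Groth.Agent.PDLib.Fibre

set_option autoImplicit false
universe u
open TensorProduct CategoryTheory
open EGA43

namespace Groth.Agent.S5930

/-- Let A be a commutative ring, B a finitely presented A-algebra which is flat as an A-module, and M a
finitely presented B-module which is flat as an A-module. Then the projective dimension of M as a
B-module equals the supremum, over the prime ideals p of A with residue fields κ(p), of the
projective dimensions of the modules (B ⊗_A κ(p)) ⊗_B M over the rings B ⊗_A κ(p). (Projective
dimensions are taken in the respective module categories, with values in WithBot ℕ∞ and the zero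
module of dimension ⊥. The published formula also equates these with the Tor-dimension of M over B;
that equality is not stated here.) -/
theorem result (A B M : Type u) [CommRing A] [CommRing B] [Algebra A B]
    [Algebra.FinitePresentation A B] [Module.Flat A B] [AddCommGroup M] [Module B M] [Module A M]
    [IsScalarTower A B M] [Module.FinitePresentation B M] [Module.Flat A M] :
    projectiveDimension (ModuleCat.of B M) =
      ⨆ p : PrimeSpectrum A, projectiveDimension
        (ModuleCat.of (B ⊗[A] p.asIdeal.ResidueField) ((B ⊗[A] p.asIdeal.ResidueField) ⊗[B] M)) := by
  have key : ∀ n : ℕ, projectiveDimension (ModuleCat.of B M) ≤ n ↔ ∀ p : PrimeSpectrum A,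
      projectiveDimension (ModuleCat.of (B ⊗[A] p.asIdeal.ResidueField)
        ((B ⊗[A] p.asIdeal.ResidueField) ⊗[B] M)) ≤ n := fun n => by
    simp only [projectiveDimension_le_iff]
    exact PDLib.hasPDLE_iff_fibre n M
  have hbot : projectiveDimension (ModuleCat.of B M) = ⊥ ↔ ∀ p : PrimeSpectrum A,
      projectiveDimension (ModuleCat.of (B ⊗[A] p.asIdeal.ResidueField)
        ((B ⊗[A] p.asIdeal.ResidueField) ⊗[B] M)) = ⊥ := by
    simp only [projectiveDimension_eq_bot_iff, ModuleCat.isZero_iff_subsingleton]
    exact PDLib.subsingleton_iff_fibre (A := A) M
  refine eq_of_forall_ge_iff fun d => ?_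
  rw [iSup_le_iff]
  induction d with
  | bot => simpa only [le_bot_iff] using hbot
  | coe d =>
    induction d with
    | top => exact iff_of_true le_top fun _ => le_top
    | coe d => exact key d

end Groth.Agent.S5930
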