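import Groth.Statements.S5934
import Mathlib
import Groth.Agent.DepthLib.SmoothCons
import Groth.Agent.DepthLib.ProperLocus
-- import your own Groth.Agent.* helpers here

set_option autoImplicit false
open CategoryTheory AlgebraicGeometry
universe u
open EGA43

namespace Groth.Agent.S5934

/-- Let f : X ⟶ Y be a proper, flat morphism of finite presentation. The set of points y of Y whose
fibre X_y is geometrically regular, i.e. smooth over the residue field κ(y), is open in Y. -/
theorem result {X Y : Scheme.{u}} (f : X ⟶ Y) [IsProper f] [Flat f]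
    [LocallyOfFinitePresentation f] :
    IsOpen {y : Y | Smooth (f.fiberToSpecResidueField y)} := by
  haveI : ∀ s : Y, LocallyOfFinitePresentation (f.fiberToSpecResidueField s) := fun s =>
    MorphismProperty.pullback_snd _ _ inferInstance
  have hset : {y : Y | Smooth (f.fiberToSpecResidueField y)} =
      {y : Y | ∀ z, z ∈ (f.fiberToSpecResidueField y).smoothLocus} := by
    ext y
    show Smooth _ ↔ _
    rw [← Scheme.Hom.smoothLocus_eq_top_iff, SetLike.ext_iff]
    exact ⟨fun h z => (h z).2 trivial, fun h z => iff_of_true (h z) trivial⟩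
  rw [hset]
  refine DepthLib.isOpen_forall_fiber f (fun s z => z ∈ (f.fiberToSpecResidueField s).smoothLocus) ?_
  have h : {x : X | f.asFiber x ∈ (f.fiberToSpecResidueField (f.base x)).smoothLocus} = (f.smoothLocus : Set X) := by
    ext x
    exact ⟨fun h => (DepthLib.mem_smoothLocus_iff f x).2 ⟨Flat.stalkMap f x, h⟩,
      fun h => ((DepthLib.mem_smoothLocus_iff f x).1 h).2⟩
  exact h ▸ f.smoothLocus.2

end Groth.Agent.S5934
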