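import Groth.Statements.S5936
import Groth.Agent.PDLib.PD

set_option autoImplicit false
universe u
open TensorProduct CategoryTheory
open EGA43

namespace Groth.Agent.S5936

/-- Let A be a commutative ring, B a finitely presented A-algebra which is flat as an A-module, and M a
finitely presented B-module which is flat as an A-module. Then the projective dimension of M as a
B-module equals its Tor-dimension, the least n such that Tor_i^B(M, N) = 0 for every i > n and every
B-module N. (Both sides are valued in WithBot ℕ∞, with the zero module of dimension ⊥; Tor_i^B(M, −)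
is the i-th left derived functor of M ⊗_B −. In general only Tor-dimension ≤ projective dimension
holds.) -/
theorem result (A B M : Type u) [CommRing A] [CommRing B] [Algebra A B]
    [Algebra.FinitePresentation A B] [Module.Flat A B] [AddCommGroup M] [Module B M] [Module A M]
    [IsScalarTower A B M] [Module.FinitePresentation B M] [Module.Flat A M] :
    projectiveDimension (ModuleCat.of B M) =
      sInf {n : WithBot ℕ∞ | ∀ i : ℕ, n < i → ∀ N : ModuleCat.{u} B,
        Limits.IsZero (((Tor (ModuleCat.{u} B) i).obj (ModuleCat.of B M)).obj N)} := by
  have key := PDLib.projectiveDimension_le_iff_tor (A := A) (B := B) M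
  have hbot : projectiveDimension (ModuleCat.of B M) = ⊥ ↔ ∀ (i : ℕ) (N : ModuleCat.{u} B),
      Limits.IsZero (((Tor (ModuleCat.{u} B) i).obj (ModuleCat.of B M)).obj N) := by
    constructor
    · intro h i N
      have hz : Limits.IsZero (ModuleCat.of B M) := (projectiveDimension_eq_bot_iff _).1 h
      cases i with
      | succ i => exact (key 0).1 (h ▸ bot_le) (i + 1) (Nat.succ_pos i) N
      | zero =>
        have : Subsingleton M := ModuleCat.isZero_of_iff_subsingleton.1 hz
        let F := (MonoidalCategory.tensoringLeft (ModuleCat.{u} B)).obj (ModuleCat.of B M)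
        have : Limits.IsZero (F.obj N) :=
          ModuleCat.isZero_of_iff_subsingleton.2 (inferInstance : Subsingleton (M ⊗[B] N))
        exact this.of_iso (F.leftDerivedZeroIsoSelf.app N)
    · intro h
      rw [projectiveDimension_eq_bot_iff]
      let F := (MonoidalCategory.tensoringLeft (ModuleCat.{u} B)).obj (ModuleCat.of B M)
      have h0 : Limits.IsZero (F.obj (ModuleCat.of B B)) :=
        (h 0 (ModuleCat.of B B)).of_iso (F.leftDerivedZeroIsoSelf.app _).symm
      have : Subsingleton (M ⊗[B] B) := ModuleCat.isZero_of_iff_subsingleton.1 h0
      exact ModuleCat.isZero_of_iff_subsingleton.2 (TensorProduct.rid B M).symm.injective.subsingleton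
  refine (Eq.trans ?_ (csInf_Ici (a := projectiveDimension (ModuleCat.of B M))).symm).trans ?_
  · rfl
  congr 1
  ext n
  rw [Set.mem_Ici, Set.mem_setOf_eq]
  induction n with
  | bot =>
    rw [le_bot_iff, hbot]
    exact ⟨fun h i _ => h i, fun h i => h i (WithBot.bot_lt_coe _)⟩
  | coe n =>
    induction n with
    | top => exact ⟨fun _ i hi => absurd hi (not_lt.2 le_top), fun _ => le_top⟩
    | coe n =>
      rw [show ((n : ℕ∞) : WithBot ℕ∞) = (n : WithBot ℕ∞) from rfl, key n]
      exact ⟨fun h i hi => h i (by exact_mod_cast hi), fun h i hi => h i (by exact_mod_cast hi)⟩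

end Groth.Agent.S5936
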