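import Groth.Statements.S5946
import Groth.Agent.DiffSmLimLib.Basic
-- import your own Groth.Agent.* helpers here

set_option autoImplicit false
set_option maxHeartbeats 2000000
set_option backward.isDefEq.respectTransparency false
universe u
open CategoryTheory CategoryTheory.Limits AlgebraicGeometry
open Unram17

namespace Groth.Agent.S5946

/-- Let S = lim S_i be a cofiltered limit of schemes with affine transition maps, f₀ : X₀ ⟶ S_{i₀} a
morphism locally of finite presentation with X₀ quasi-compact, and f : X ⟶ S its base change along S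
⟶ S_{i₀} (a pullback square). Then f is differentially smooth, i.e. the diagonal X ⟶ X ×_S X is a
quasi-regular immersion, if and only if, for some index j over i₀, the base change f_j : X_j ⟶ S_j
of f₀ along S_j ⟶ S_{i₀} is differentially smooth. (The published statement also asserts that f_k is
differentially smooth for every index k over j; that part is a base change and this row does not
restate it.) -/
theorem result {I : Type u} [SmallCategory I] [IsCofiltered I]
    (D : I ⥤ Scheme.{u}) (c : Limits.Cone D) (hc : Limits.IsLimit c)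
    [∀ (i j : I) (f : i ⟶ j), IsAffineHom (D.map f)] (i₀ : I)
    {X₀ : Scheme.{u}} (f₀ : X₀ ⟶ D.obj i₀) [LocallyOfFinitePresentation f₀] [CompactSpace ↥X₀]
    {X : Scheme.{u}} (f : X ⟶ c.pt) (qX : X ⟶ X₀) (hX : IsPullback qX f f₀ (c.π.app i₀)) :
    RegImm.IsRegularImmersion RegImm.Kind.quasi (pullback.diagonal f) ↔
      ∃ (j : I) (φ : j ⟶ i₀) (Xj : Scheme.{u}) (fj : Xj ⟶ D.obj j) (pX : Xj ⟶ X₀),
        IsPullback pX fj f₀ (D.map φ) ∧ RegImm.IsRegularImmersion RegImm.Kind.quasi (pullback.diagonal fj) := by
  rw [DiffSmLimLib.quasi_diagonal_iff_good f₀ f qX (c.π.app i₀) hX]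
  constructor
  · intro h
    let B := RichLib.LimBC.pb (RichLib.LimBC.ofStage D c hc i₀) f₀
    obtain ⟨k, hk⟩ := DiffSmLimLib.exists_stage_good f₀ B fun t =>
      DiffSmLimLib.mem_good_of_map f₀ _ qX hX.isoPullback.inv hX.isoPullback_inv_fst t (h _)
    refine ⟨k.left, k.hom, _, Limits.pullback.snd f₀ (D.map k.hom), Limits.pullback.fst f₀ (D.map k.hom),
      IsPullback.of_hasPullback _ _, ?_⟩
    exact (DiffSmLimLib.quasi_diagonal_iff_good f₀ _ _ _ (IsPullback.of_hasPullback _ _)).2 hk
  · rintro ⟨j, φ, Xj, fj, pX, hj, hq⟩ t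
    refine DiffSmLimLib.mem_good_of_map f₀ qX pX (hj.lift qX (f ≫ c.π.app j) ?_) (hj.lift_fst _ _ _) t
      ((DiffSmLimLib.quasi_diagonal_iff_good f₀ fj pX _ hj).1 hq _)
    rw [Category.assoc, c.w φ, hX.w]

end Groth.Agent.S5946
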