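import Groth.Statements.S5947
import Groth.Agent.OmegaAffLib.AffDer
-- import your own Groth.Agent.* helpers here

set_option autoImplicit false
universe u
open CategoryTheory AlgebraicGeometry TopologicalSpace
open Nrm16

namespace Groth.Agent.S5947

/-- Let A be a commutative ring, B an A-algebra and L a B-module; put S = Spec A, X = Spec B and let F
be the O_X-module associated with L. For an S-derivation D of O_X into F write Γ(D) : B → L for its
effect on global sections (global sections of O_X and of F being identified with B and L by the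
canonical isomorphisms). Then D ↦ Γ(D) is a bijection from the set of S-derivations of O_X into F
onto the set of A-derivations of B into L: every Γ(D) is an A-derivation, and every A-derivation of
B into L is Γ(D) for exactly one D. (The published statement asserts an isomorphism of B-modules; no
module structure is placed on sheaf derivations here, so this row states the bijection.) -/
theorem result (A B : Type u) [CommRing A] [CommRing B] [Algebra A B]
    (L : Type u) [AddCommGroup L] [Module B L] [Module A L] [IsScalarTower A B L] :
    (∀ D : OmegaSh.Der (Spec.map (CommRingCat.ofHom (algebraMap A B))) (tilde (ModuleCat.of (CommRingCat.of B) L)),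
      ∃ δ : Derivation A B L, ∀ t : B, D.app ⊤ ((Scheme.ΓSpecIso (CommRingCat.of B)).inv t) =
        (tilde.isoTop (ModuleCat.of (CommRingCat.of B) L)).hom (δ t)) ∧
    ∀ δ : Derivation A B L,
      ∃! D : OmegaSh.Der (Spec.map (CommRingCat.ofHom (algebraMap A B))) (tilde (ModuleCat.of (CommRingCat.of B) L)),
        ∀ t : B, D.app ⊤ ((Scheme.ΓSpecIso (CommRingCat.of B)).inv t) =
          (tilde.isoTop (ModuleCat.of (CommRingCat.of B) L)).hom (δ t) := by
  let X := Spec (CommRingCat.of B)
  let f := Spec.map (CommRingCat.ofHom (algebraMap A B))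
  let M := ModuleCat.of (CommRingCat.of B) L
  let F := tilde M
  let c := Scheme.ΓSpecIso (CommRingCat.of B)
  have hin : ∀ (b : B) (y : L), (tilde.isoTop M).hom (b • y) =
      (show Γ(F, ⊤) from c.inv b • (show Γ(F, ⊤) from (tilde.isoTop M).hom y)) := fun b y =>
    map_smul (tilde.isoTop M).hom.hom b y
  have hb : Function.Bijective (tilde.isoTop M).hom := ConcreteCategory.bijective_of_isIso _
  have hf : ∀ a : A, f.appTop ((Scheme.ΓSpecIso (CommRingCat.of A)).inv a) = c.inv (algebraMap A B a) := fun a =>
    (congr($(Scheme.ΓSpecIso_inv_naturality (CommRingCat.ofHom (algebraMap A B))) a)).symm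
  constructor
  · intro D
    choose δ hδ using fun t : B => hb.2 (D.app ⊤ (c.inv t))
    have hadd : ∀ s t, δ (s + t) = δ s + δ t := fun s t => hb.1 (by
      rw [hδ, map_add, map_add, ← hδ, ← hδ]
      exact (map_add (tilde.isoTop M).hom.hom _ _).symm)
    have hmul : ∀ s t, δ (s * t) = s • δ t + t • δ s := fun s t => hb.1 (by
      rw [hδ, map_mul, OmegaAffLib.der_mul, ← hδ, ← hδ]
      exact (congrArg₂ (· + ·) (hin s (δ t)).symm (hin t (δ s)).symm).trans
        (map_add (tilde.isoTop M).hom.hom _ _).symm)
    refine ⟨Derivation.mk' { toFun := δ, map_add' := hadd, map_smul' := fun a t => ?_ } hmul, fun t => (hδ t).symm⟩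
    rw [RingHom.id_apply, Algebra.smul_def, hmul, algebra_compatible_smul B a (δ t), add_eq_left]
    have h0 : δ (algebraMap A B a) = 0 := hb.1 (by
      rw [hδ, ← hf a]
      exact (D.d_app (X := Opposite.op ⊤) _).trans (map_zero (tilde.isoTop M).hom.hom).symm)
    rw [h0, smul_zero]
  · intro δ
    let δ' : Γ(X, ⊤) →+ Γ(F, ⊤) :=
      AddMonoidHom.mk' (fun s => (tilde.isoTop M).hom (δ (c.hom s)))
        fun a b => by
          rw [map_add, map_add]
          exact map_add (tilde.isoTop M).hom.hom _ _
    obtain ⟨D, hD⟩ := OmegaAffLib.exists_der_of_top f F δ' (fun a b => by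
        show (tilde.isoTop M).hom (δ (c.hom (a * b))) = _
        rw [map_mul, Derivation.leibniz]
        refine (map_add (tilde.isoTop M).hom.hom _ _).trans (congrArg₂ (· + ·) ?_ ?_)
        · refine (hin _ _).trans ?_
          rw [c.hom_inv_id_apply]
          rfl
        · refine (hin _ _).trans ?_
          rw [c.hom_inv_id_apply]
          rfl)
      (fun s => by
        obtain ⟨a, rfl⟩ := (ConcreteCategory.bijective_of_isIso (Scheme.ΓSpecIso (CommRingCat.of A)).inv).2 s
        show (tilde.isoTop M).hom (δ (c.hom (f.appTop _))) = 0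
        rw [hf a, c.inv_hom_id_apply, Derivation.map_algebraMap]
        exact map_zero (tilde.isoTop M).hom.hom)
    refine ⟨D, fun t => ?_, fun D' hD' => OmegaAffLib.der_top_injective f F (AddMonoidHom.ext fun s => ?_)⟩
    · rw [hD]
      show (tilde.isoTop M).hom (δ (c.hom (c.inv t))) = _
      rw [c.inv_hom_id_apply]
    · show D'.app ⊤ s = D.app ⊤ s
      rw [hD, ← c.hom_inv_id_apply s]
      refine (hD' _).trans ?_
      show _ = (tilde.isoTop M).hom (δ (c.hom (c.inv (c.hom s))))
      rw [c.inv_hom_id_apply]

end Groth.Agent.S5947
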