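import Groth.Statements.S5952
import Groth.Agent.FComplLib.Thicken
import Groth.Agent.KFlatLib.AffinePull
import Groth.Agent.FComplLib.Basic

set_option autoImplicit false
universe u
open CategoryTheory CategoryTheory.Limits AlgebraicGeometry TopologicalSpace Opposite
open Nrm16

namespace Groth.Agent.S5952

theorem hom_ext_pullSect {A B : Scheme.{u}} (g : A ⟶ B) (M : B.Modules) {N : A.Modules}
    (a b : (Scheme.Modules.pullback g).obj M ⟶ N)
    (h : ∀ (U : B.Opens) (m : Γ(M, U)),
      a.app (g ⁻¹ᵁ U) (OmegaSh.pullSect g M U m) = b.app (g ⁻¹ᵁ U) (OmegaSh.pullSect g M U m)) : a = b := by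
  apply ((Scheme.Modules.pullbackPushforwardAdjunction g).homEquiv _ _).injective
  rw [Adjunction.homEquiv_unit, Adjunction.homEquiv_unit]
  ext U m
  exact h U m

theorem comap_one {A B : Scheme.{u}} (g : A ⟶ B) : (1 : B.IdealSheafData).comap g = 1 := by
  rw [Scheme.IdealSheafData.one_eq_top, Scheme.IdealSheafData.one_eq_top]
  exact Scheme.IdealSheafData.comap_top _

theorem eqToIso_subschemeι {A : Scheme.{u}} {I K : A.IdealSheafData} (e : I = K) :
    (eqToIso (congrArg Scheme.IdealSheafData.subscheme e.symm)).hom ≫ I.subschemeι = K.subschemeι := by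
  subst e; simp

theorem app_eq_zero_of_comp {A B C D : Scheme.{u}} {p : A ⟶ B} {i : B ⟶ D} {i' : A ⟶ C} {g : C ⟶ D}
    (e : p ≫ i = i' ≫ g) {V : D.Opens} (a : Γ(D, V)) (h : i.app V a = 0) :
    i'.app (g ⁻¹ᵁ V) (g.app V a) = 0 := by
  have h1 := Scheme.Hom.congr_app e.symm V
  have h2 : (i' ≫ g).app V a = 0 := by
    rw [h1, Scheme.Hom.comp_app]
    show A.presheaf.map _ (p.app _ (i.app V a)) = 0
    rw [h, map_zero, map_zero]
  exact h2


/-- Let f : Y ⟶ X be a closed immersion, v : X' ⟶ X a morphism, Y' a fibre product of Y and X' over X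
with projections u : Y' ⟶ Y and f' : Y' ⟶ X', and n a natural number. Let φ : u^* Gr_n(f) ⟶ Gr_n(f')
be the canonical O_{Y'}-linear map between the n-th graded pieces I^n/I^(n+1) of the ideals of f and
f' (the linearisation of the map induced by v♯ on n-th powers of the ideals). Then φ is an
epimorphism. (The published statement allows f to be any immersion; this row states the case of a
closed immersion.) -/
theorem result {Y X Y' X' : Scheme.{u}} (f : Y ⟶ X) [IsClosedImmersion f]
    (v : X' ⟶ X) (u : Y' ⟶ Y) (f' : Y' ⟶ X') (hsq : IsPullback u f' f v) (n : ℕ)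
    (φ : (Scheme.Modules.pullback u).obj (PrinPart.grMod f n) ⟶ PrinPart.grMod f' n)
    (hφ : PrinPart.IsGrMap f' f v u n φ) :
    Epi φ := by
  haveI : IsClosedImmersion f' := MorphismProperty.of_isPullback hsq ‹_›
  let J := f.ker ^ n
  let J' := f'.ker ^ n
  have hJ : J.comap v = J' := by
    have hk : f'.ker = f.ker.comap v := FComplLib.ker_of_isPullback hsq.flip
    rcases n with _ | k
    · show (f.ker ^ 0).comap v = f'.ker ^ 0
      rw [pow_zero, pow_zero]
      exact comap_one v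
    · show (f.ker ^ (k + 1)).comap v = f'.ker ^ (k + 1)
      rw [FComplLib.comap_pow_succ, hk]
  refine ⟨fun {N} ψ₁ ψ₂ h => ?_⟩
  refine hom_ext_pullSect f' _ _ _ fun U' s => ?_
  let Ns : TopCat.Sheaf AddCommGrpCat Y' := ⟨N.presheaf, N.isSheaf⟩
  refine TopCat.Sheaf.eq_of_locally_eq' Ns
    (fun W : {W : X'.affineOpens // W.1 ≤ U' ∧ ∃ V : X.affineOpens, W.1 ≤ v ⁻¹ᵁ V.1} => f' ⁻¹ᵁ W.1.1)
    (f' ⁻¹ᵁ U') (fun W => homOfLE (f'.preimage_mono W.2.1)) ?_ _ _ ?_
  · intro y hy
    obtain ⟨V, hV, hyV, -⟩ := exists_isAffineOpen_mem_and_subset (x := v (f' y)) (U := (⊤ : X.Opens)) trivial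
    obtain ⟨W, hW, hyW, hle⟩ := exists_isAffineOpen_mem_and_subset (x := f' y) (U := U' ⊓ v ⁻¹ᵁ V) ⟨hy, hyV⟩
    exact Opens.mem_iSup.2 ⟨⟨⟨W, hW⟩, fun z hz => (hle hz).1, ⟨V, hV⟩, fun z hz => (hle hz).2⟩, hyW⟩
  · rintro ⟨W, hWU, V, hWV⟩
    let good : Γ(ClSub.idealMod J', W.1) → Prop := fun t =>
      ψ₁.app (f' ⁻¹ᵁ W.1) (OmegaSh.pullSect f' (ClSub.idealMod J') W.1 t) =
        ψ₂.app (f' ⁻¹ᵁ W.1) (OmegaSh.pullSect f' (ClSub.idealMod J') W.1 t)
    suffices H : ∀ t, good t by
      have hnat : ∀ ψ : PrinPart.grMod f' n ⟶ N, N.presheaf.map (homOfLE (f'.preimage_mono hWU)).op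
          (ψ.app (f' ⁻¹ᵁ U') (OmegaSh.pullSect f' (ClSub.idealMod J') U' s)) =
          ψ.app (f' ⁻¹ᵁ W.1) (OmegaSh.pullSect f' (ClSub.idealMod J') W.1
            ((ClSub.idealMod J').presheaf.map (homOfLE hWU).op s)) := fun ψ =>
        (congr($(ψ.mapPresheaf.naturality (homOfLE (f'.preimage_mono hWU)).op)
          (OmegaSh.pullSect f' (ClSub.idealMod J') U' s))).symm.trans
          (congrArg (ψ.app (f' ⁻¹ᵁ W.1)) (OmegaSh.pullSect_map f' _ hWU s).symm)
      exact (hnat ψ₁).trans ((H _).trans (hnat ψ₂).symm)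
    intro t
    let L : Γ(ClSub.idealMod J', W.1) → Γ(X', W.1) := fun t => OmegaSh.idealSect J' W.1 t
    let S : Submodule Γ(X', W.1) Γ(X', W.1) :=
      { carrier := {y | ∃ t, L t = y ∧ good t}
        zero_mem' := ⟨0, map_zero _, by simp only [good, map_zero]; exact
          (map_zero (ψ₁.app _).hom).trans (map_zero (ψ₂.app _).hom).symm⟩
        add_mem' := by
          rintro _ _ ⟨a, rfl, ha⟩ ⟨b, rfl, hb⟩
          refine ⟨a + b, map_add _ _ _, ?_⟩
          simp only [good, map_add]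
          exact (map_add (ψ₁.app _).hom _ _).trans
            ((congrArg₂ (· + ·) ha hb).trans (map_add (ψ₂.app _).hom _ _).symm)
        smul_mem' := by
          rintro r _ ⟨a, rfl, ha⟩
          refine ⟨r • a, congrArg (OmegaSh.fnSect X' W.1) ((ClSub.idealModι J').app_smul r a), ?_⟩
          have hp : OmegaSh.pullSect f' (ClSub.idealMod J') W.1 (r • a) =
              f'.app W.1 r • OmegaSh.pullSect f' (ClSub.idealMod J') W.1 a :=
            KFlatLib.puSec_smul f' r a
          refine (congrArg (ψ₁.app _) hp).trans ((ψ₁.app_smul _ _).trans ?_)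
          refine Eq.trans ?_ ((congrArg (ψ₂.app _) hp).trans (ψ₂.app_smul _ _)).symm
          exact congrArg (f'.app W.1 r • ·) ha }
    have hgen : (J'.ideal W : Submodule Γ(X', W.1) Γ(X', W.1)) ≤ S := by
      rw [← hJ, Groth.Agent.S4666.ideal_comap_eq J v V W hWV, Ideal.map]
      refine Submodule.span_le.2 ?_
      rintro _ ⟨a, ha, rfl⟩
      have h0 : (ClSub.toSubscheme J).app V.1 (OmegaSh.strSect X V.1 a) = 0 := by
        rw [OmegaSh.toSubscheme_app_strSect]
        have ha' : a ∈ J.ideal V := ha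
        rw [← Scheme.IdealSheafData.ker_subschemeι_app, RingHom.mem_ker] at ha'
        exact ha'
      let w := (eqToIso (congrArg Scheme.IdealSheafData.subscheme hJ.symm)).hom ≫
        (J.comapIso v).hom ≫ pullback.snd _ _
      have hw : w ≫ J.subschemeι = J'.subschemeι ≫ v := by
        simp only [w, Category.assoc, ← pullback.condition]
        rw [Scheme.IdealSheafData.comapIso_hom_fst_assoc, ← Category.assoc, eqToIso_subschemeι hJ]
      have h1 : (ClSub.toSubscheme J').app (v ⁻¹ᵁ V.1) (OmegaSh.strSect X' _ (v.app V.1 a)) = 0 := by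
        rw [OmegaSh.toSubscheme_app_strSect]
        refine app_eq_zero_of_comp hw a ?_
        rw [OmegaSh.toSubscheme_app_strSect] at h0
        exact h0
      let a' := OmegaSh.kerLift (ClSub.toSubscheme J) V.1 (OmegaSh.strSect X V.1 a) h0
      let s' := OmegaSh.kerLift (ClSub.toSubscheme J') (v ⁻¹ᵁ V.1) (OmegaSh.strSect X' _ (v.app V.1 a)) h1
      have ha' : OmegaSh.idealSect J V.1 a' = a :=
        congrArg (OmegaSh.fnSect X V.1) (OmegaSh.ι_kerLift _ _ _ h0)
      have hs' : OmegaSh.idealSect J' (v ⁻¹ᵁ V.1) s' = v.app V.1 a :=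
        congrArg (OmegaSh.fnSect X' _) (OmegaSh.ι_kerLift _ _ _ h1)
      refine ⟨(ClSub.idealMod J').presheaf.map (homOfLE hWV).op s', ?_, ?_⟩
      · show OmegaSh.fnSect X' W.1 ((ClSub.idealModι J').app W.1 _) = _
        refine (congrArg (OmegaSh.fnSect X' W.1)
          (congr($((ClSub.idealModι J').mapPresheaf.naturality (homOfLE hWV).op) s'))).trans ?_
        exact congrArg (X'.presheaf.map (homOfLE hWV).op) hs'
      · have hle : f' ⁻¹ᵁ W.1 ≤ u ⁻¹ᵁ (f ⁻¹ᵁ V.1) := fun y hy => by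
          have := hWV hy
          change (f' ≫ v) y ∈ V.1 at this
          rw [← hsq.w] at this
          exact this
        have key := hφ.2 V.1 a' s' (by rw [hs', ha']) (f' ⁻¹ᵁ W.1) hle (f'.preimage_mono hWV)
        have hmap : OmegaSh.pullSect f' (ClSub.idealMod J') W.1
            ((ClSub.idealMod J').presheaf.map (homOfLE hWV).op s') =
          (PrinPart.grMod f' n).presheaf.map (homOfLE (f'.preimage_mono hWV)).op
            (PrinPart.grSect f' n (v ⁻¹ᵁ V.1) s') := OmegaSh.pullSect_map f' _ hWV s'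
        have hres : ∀ ψ : PrinPart.grMod f' n ⟶ N,
            ψ.app (f' ⁻¹ᵁ W.1) (OmegaSh.pullSect f' (ClSub.idealMod J') W.1
              ((ClSub.idealMod J').presheaf.map (homOfLE hWV).op s')) =
            N.presheaf.map (homOfLE hle).op ((φ ≫ ψ).app (u ⁻¹ᵁ (f ⁻¹ᵁ V.1))
              (OmegaSh.pullSect u (PrinPart.grMod f n) (f ⁻¹ᵁ V.1) (PrinPart.grSect f n V.1 a'))) := fun ψ =>
          (congrArg (ψ.app (f' ⁻¹ᵁ W.1)) (hmap.trans key.symm)).trans
            (congr($(ψ.mapPresheaf.naturality (homOfLE hle).op) _))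
        show ψ₁.app _ _ = ψ₂.app _ _
        rw [hres ψ₁, hres ψ₂, h]
    have ht : L t ∈ J'.ideal W := by
      rw [← Scheme.IdealSheafData.ker_subschemeι_app, RingHom.mem_ker]
      exact congr($(congrArg (fun k => Scheme.Modules.Hom.app k W.1)
        (kernel.condition (ClSub.toSubscheme J'))) t)
    obtain ⟨t', ht', hgood⟩ := hgen ht
    have : t' = t := OmegaSh.idealModι_app_injective _ J' ht'
    exact this ▸ hgood

end Groth.Agent.S5952
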