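import Groth.Statements.S5953
import Groth.Agent.PrinPartLib.GrFlat
import Groth.Agent.CohCmpLib.PullOnComp
import Groth.Agent.FComplLib.Thicken

set_option autoImplicit false
universe u
open CategoryTheory CategoryTheory.Limits AlgebraicGeometry TopologicalSpace Opposite
open Nrm16

namespace Groth.Agent.S5953

/-- Let f : Y ⟶ X be a closed immersion, v : X' ⟶ X a flat morphism, Y' a fibre product of Y and X' over
X with projections u : Y' ⟶ Y and f' : Y' ⟶ X', and n a natural number. Let φ : u^* Gr_n(f) ⟶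
Gr_n(f') be the canonical O_{Y'}-linear map between the n-th graded pieces of the ideals of f and
f'. Then φ is an isomorphism. (The published statement assumes only that v is flat and that f is a
morphism of schemes with surjective comorphism; this row also assumes f a closed immersion, the case
in which the graded pieces are formed here.) -/
theorem result {Y X Y' X' : Scheme.{u}} (f : Y ⟶ X) [IsClosedImmersion f]
    (v : X' ⟶ X) [Flat v] (u : Y' ⟶ Y) (f' : Y' ⟶ X') (hsq : IsPullback u f' f v) (n : ℕ)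
    (φ : (Scheme.Modules.pullback u).obj (PrinPart.grMod f n) ⟶ PrinPart.grMod f' n)
    (hφ : PrinPart.IsGrMap f' f v u n φ) :
    IsIso φ := by
  haveI : IsClosedImmersion f' := MorphismProperty.of_isPullback hsq ‹_›
  let J := f.ker ^ n
  let J' := f'.ker ^ n
  have hJ : J.comap v = J' := by
    have hk : f'.ker = f.ker.comap v := FComplLib.ker_of_isPullback hsq.flip
    rcases n with _ | k
    · show (f.ker ^ 0).comap v = f'.ker ^ 0
      rw [pow_zero, pow_zero, Scheme.IdealSheafData.one_eq_top, Scheme.IdealSheafData.one_eq_top]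
      exact Scheme.IdealSheafData.comap_top _
    · show (f.ker ^ (k + 1)).comap v = f'.ker ^ (k + 1)
      rw [FComplLib.comap_pow_succ, hk]
  obtain ⟨χ, hχ, hχv⟩ := PrinPartLib.exists_idealModBC J v J' hJ
  let M := ClSub.idealMod J
  let c₁ := (Scheme.Modules.pullbackComp u f).hom.app M
  let c₂ := (Scheme.Modules.pullbackCongr hsq.w).hom.app M
  let c₃ := (Scheme.Modules.pullbackComp f' v).inv.app M
  let Φ : (Scheme.Modules.pullback u).obj (PrinPart.grMod f n) ⟶ PrinPart.grMod f' n :=
    (c₁ ≫ c₂ ≫ c₃) ≫ (Scheme.Modules.pullback f').map χ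
  suffices h : φ = Φ by
    rw [h]
    have h1 : IsIso c₁ := inferInstanceAs (IsIso ((Scheme.Modules.pullbackComp u f).hom.app M))
    have h2 : IsIso c₂ := inferInstanceAs (IsIso ((Scheme.Modules.pullbackCongr hsq.w).hom.app M))
    have h3 : IsIso c₃ := inferInstanceAs (IsIso ((Scheme.Modules.pullbackComp f' v).inv.app M))
    have h4 : IsIso ((Scheme.Modules.pullback f').map χ) := @Functor.map_isIso _ _ _ _ _ _ _ χ hχ
    exact IsIso.comp_isIso' (IsIso.comp_isIso' h1 (IsIso.comp_isIso' h2 h3)) h4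
  refine CohCmpLib.hom_ext_puSec₂ _ _ fun U a => ?_
  let s := χ.app (v ⁻¹ᵁ U) (KFlatLib.puSec v a)
  have hle : u ⁻¹ᵁ (f ⁻¹ᵁ U) ≤ f' ⁻¹ᵁ (v ⁻¹ᵁ U) := fun y hy => by
    change (u ≫ f) y ∈ U at hy
    rw [hsq.w] at hy
    exact hy
  have hl := hφ.2 U a s (hχv U a) _ le_rfl hle
  have hid : ∀ (N : Y'.Modules) (W : Y'.Opens) (z : Γ(N, W)),
      N.presheaf.map (homOfLE (le_refl W)).op z = z := fun N W z => by
    rw [show (homOfLE (le_refl W)).op = 𝟙 _ from Subsingleton.elim _ _, N.presheaf.map_id]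
    rfl
  rw [hid] at hl
  refine hl.trans (Eq.symm ?_)
  show ((Scheme.Modules.pullback f').map χ).app _ (c₃.app _ (c₂.app _ (c₁.app _
    (KFlatLib.puSec u (KFlatLib.puSec f a))))) = _
  have e1 : c₁.app (u ⁻¹ᵁ (f ⁻¹ᵁ U)) (KFlatLib.puSec u (KFlatLib.puSec f a)) =
      KFlatLib.puSecLE (u ≫ f) M (le_refl (u ⁻¹ᵁ (f ⁻¹ᵁ U))) a :=
    (CohCmpLib.pullbackComp_puSec u f M a).trans (hid _ _ _).symm
  rw [e1]
  refine (congrArg (fun z => ((Scheme.Modules.pullback f').map χ).app _ (c₃.app _ z))
    (CohCmpLib.pullbackCongr_puSec hsq.w M a le_rfl hle)).trans ?_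
  refine (congrArg (((Scheme.Modules.pullback f').map χ).app _)
    (congr($(c₃.mapPresheaf.naturality (homOfLE hle).op) (KFlatLib.puSec (f' ≫ v) a)))).trans ?_
  refine (congr($(((Scheme.Modules.pullback f').map χ).mapPresheaf.naturality (homOfLE hle).op) _)).trans ?_
  refine congrArg ((PrinPart.grMod f' n).presheaf.map (homOfLE hle).op) ?_
  refine (congrArg (((Scheme.Modules.pullback f').map χ).app _) (CohCmpLib.pullbackComp_inv_puSec f' v M a)).trans ?_
  exact KFlatLib.puSec_natural f' χ (U := v ⁻¹ᵁ U) (KFlatLib.puSec v a)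

end Groth.Agent.S5953
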