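import Groth.Statements.S5954
import Groth.Agent.PrinPartLib.BaseChange
import Groth.Agent.PrinPartLib.Affine
import Groth.Agent.S12131
import Groth.Agent.KFlatLib.QCohPull
import Groth.Agent.CohCmpLib.Bc0

set_option autoImplicit false
universe u
open CategoryTheory CategoryTheory.Limits AlgebraicGeometry TopologicalSpace Opposite
open Nrm16

namespace Groth.Agent.S5954

theorem pullUnit_dn {X S : Scheme.{u}} (f : X ⟶ S) (n : ℕ) (U : X.Opens) (b : Γ(X, U)) :
    (KFlatLib.pullUnitIso (PrinPart.pr2 f n)).hom.app (PrinPart.pr1 f n ⁻¹ᵁ U) (PrinPart.dn f n U b) =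
      PrinPartLib.d2 f n U b := by
  let p := PrinPart.pr2 f n
  have hle := (PrinPart.preimage_pr1 f n U).le
  refine (congr($((KFlatLib.pullUnitIso p).hom.mapPresheaf.naturality (homOfLE hle).op)
    (KFlatLib.puSec p (OmegaSh.strSect X U b)))).trans ?_
  exact congrArg ((PrinPart.nbhd f n).presheaf.map (homOfLE hle).op)
    (CohCmpLib.pullUnitIso_puSec p (OmegaSh.strSect X U b))


/-- Let f : X ⟶ S and g : S' ⟶ S be morphisms and X' a fibre product of X and S' over S with projections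
u : X' ⟶ X and f' : X' ⟶ S'. For every n let φ : u^* P^n_{X/S} ⟶ P^n_{X'/S'} be the canonical
O_{X'}-linear map of sheaves of principal parts of order n, the one sending the pullback of d^n b to
d^n (u♯ b) for every local function b on X. Then φ is an isomorphism. (The published statement also
asserts that the canonical map u^*Ω_{X/S} ⟶ Ω_{X'/S'} of sheaves of differentials compatible with
the universal derivations is bijective; this row states only the assertion on sheaves of principal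
parts.) -/
theorem result {X S X' S' : Scheme.{u}} (f : X ⟶ S) (g : S' ⟶ S)
    (u : X' ⟶ X) (f' : X' ⟶ S') (hsq : IsPullback u f' f g) (n : ℕ)
    (φ : (Scheme.Modules.pullback u).obj (PrinPart.P f n) ⟶ PrinPart.P f' n)
    (hφ : PrinPart.IsPMap f f' u n φ) :
    IsIso φ := by
  obtain ⟨v, hpb, hv2⟩ := PrinPartLib.exists_nbhd_isPullback f f' u g n hsq
  let p := PrinPart.pr2 f n
  let p' := PrinPart.pr2 f' n
  haveI := PrinPartLib.isAffineHom_pr1 f n
  haveI : Coh.IsQCoh (Coh.structureModule X) := QCohLib.isQCoh_unit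
  let P := (Scheme.Modules.pullback p).obj (Coh.structureModule X)
  haveI : Coh.IsQCoh P := KFlatLib.isQCoh_pullback p _
  let bc := CohBC.bc0 (PrinPart.pr1 f n) u (PrinPart.pr1 f' n) v hpb.w P
  have hbc : IsIso bc := Groth.Agent.S12131.result (PrinPart.pr1 f n) u v (PrinPart.pr1 f' n) hpb P
  let ε : (Scheme.Modules.pullback v).obj P ⟶ (Scheme.Modules.pullback p').obj (Coh.structureModule X') :=
    (Scheme.Modules.pullback v).map (KFlatLib.pullUnitIso p).hom ≫ (KFlatLib.pullUnitIso v).hom ≫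
      (KFlatLib.pullUnitIso p').inv
  let Ψ : (Scheme.Modules.pullback u).obj (PrinPart.P f n) ⟶ PrinPart.P f' n :=
    bc ≫ (Scheme.Modules.pushforward (PrinPart.pr1 f' n)).map ε
  suffices hΨ : φ = Ψ by
    rw [hΨ]
    have hε : IsIso ((Scheme.Modules.pushforward (PrinPart.pr1 f' n)).map ε) := inferInstance
    exact @IsIso.comp_isIso _ _ _ _ _ _ _ hbc hε
  apply ((Scheme.Modules.pullbackPushforwardAdjunction u).homEquiv _ _).injective
  refine PrinPartLib.hom_ext f n fun U t => ?_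
  obtain ⟨b, rfl⟩ : ∃ b, OmegaSh.strSect X U b = t := ⟨OmegaSh.fnSect X U t, rfl⟩
  rw [Adjunction.homEquiv_unit, Adjunction.homEquiv_unit]
  show φ.app (u ⁻¹ᵁ U) (OmegaSh.pullSect u (PrinPart.P f n) U (PrinPart.dn f n U b)) =
    Ψ.app (u ⁻¹ᵁ U) (OmegaSh.pullSect u (PrinPart.P f n) U (PrinPart.dn f n U b))
  rw [hφ U b]
  have h1 : bc.app (u ⁻¹ᵁ U) (KFlatLib.puSec u (PrinPart.dn f n U b)) =
      KFlatLib.puSecLE v P (CohCmp.sqLE (PrinPart.pr1 f n) u (PrinPart.pr1 f' n) v hpb.w U)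
        (PrinPart.dn f n U b) := CohCmpLib.bc0_puSec hpb.w P _
  refine Eq.trans ?_ (congrArg (ε.app (PrinPart.pr1 f' n ⁻¹ᵁ (u ⁻¹ᵁ U))) h1).symm
  have hle := CohCmp.sqLE (PrinPart.pr1 f n) u (PrinPart.pr1 f' n) v hpb.w U
  haveI : IsIso ((KFlatLib.pullUnitIso p').hom.mapPresheaf.app (op (PrinPart.pr1 f' n ⁻¹ᵁ (u ⁻¹ᵁ U)))) := by
    haveI : IsIso (KFlatLib.pullUnitIso p').hom.mapPresheaf :=
      inferInstanceAs (IsIso ((Scheme.Modules.toPresheaf _).map (KFlatLib.pullUnitIso p').hom))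
    infer_instance
  apply (ConcreteCategory.bijective_of_isIso ((KFlatLib.pullUnitIso p').hom.mapPresheaf.app
    (op (PrinPart.pr1 f' n ⁻¹ᵁ (u ⁻¹ᵁ U))))).1
  refine (pullUnit_dn f' n (u ⁻¹ᵁ U) (u.app U b)).trans ?_
  show _ = (ε ≫ (KFlatLib.pullUnitIso p').hom).app _ (KFlatLib.puSecLE v P hle (PrinPart.dn f n U b))
  simp only [ε, Category.assoc, Iso.inv_hom_id, Category.comp_id]
  let h := (Scheme.Modules.pullback v).map (KFlatLib.pullUnitIso p).hom ≫ (KFlatLib.pullUnitIso v).hom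
  have h2 : h.app (v ⁻¹ᵁ (PrinPart.pr1 f n ⁻¹ᵁ U)) (KFlatLib.puSec v (PrinPart.dn f n U b)) =
      v.app (PrinPart.pr1 f n ⁻¹ᵁ U) (PrinPartLib.d2 f n U b) := by
    refine (congrArg ((KFlatLib.pullUnitIso v).hom.app _)
      (KFlatLib.puSec_natural v (KFlatLib.pullUnitIso p).hom (U := PrinPart.pr1 f n ⁻¹ᵁ U)
        (PrinPart.dn f n U b))).trans ?_
    refine (CohCmpLib.pullUnitIso_puSec v _).trans ?_
    exact congrArg (v.app _) (pullUnit_dn f n U b)
  refine Eq.trans ?_ ((congrArg ((PrinPart.nbhd f' n).presheaf.map (homOfLE hle).op) h2).symm.trans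
    (congr($(h.mapPresheaf.naturality (homOfLE hle).op) (KFlatLib.puSec v (PrinPart.dn f n U b)))).symm)
  have e : u.app U ≫ PrinPartLib.d2 f' n (u ⁻¹ᵁ U) = PrinPartLib.d2 f n U ≫
      v.app (PrinPart.pr1 f n ⁻¹ᵁ U) ≫ (PrinPart.nbhd f' n).presheaf.map (homOfLE hle).op := by
    simp only [PrinPartLib.d2, Scheme.Hom.app_eq_appLE, Scheme.Hom.appLE_map, Scheme.Hom.appLE_comp_appLE, hv2]
  exact congr($e b)

end Groth.Agent.S5954
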