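import Groth.Statements.S5956
import Mathlib

set_option autoImplicit false
universe u
open CategoryTheory CategoryTheory.Limits AlgebraicGeometry TopologicalSpace Opposite
open Nrm16

namespace Groth.Agent.S5956

/-- Operators through a neighbourhood are operators through a bigger one. -/
theorem aux {X N N' : Scheme.{u}} (w : N' ⟶ N) (p1 p2 : N ⟶ X) (p1' p2' : N' ⟶ X)
    (h1 : w ≫ p1 = p1') (h2 : w ≫ p2 = p2') (hp : ∀ U, p1 ⁻¹ᵁ U ≤ p2 ⁻¹ᵁ U)
    (hp' : ∀ U, p1' ⁻¹ᵁ U ≤ p2' ⁻¹ᵁ U) (F G : X.Modules)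
    (v : (Scheme.Modules.pushforward p1').obj ((Scheme.Modules.pullback p2').obj F) ⟶ G) :
    ∃ v' : (Scheme.Modules.pushforward p1).obj ((Scheme.Modules.pullback p2).obj F) ⟶ G,
      ∀ (U : X.Opens) (t : Γ(F, U)),
        v'.app U (((Scheme.Modules.pullback p2).obj F).presheaf.map (homOfLE (hp U)).op
          (OmegaSh.pullSect p2 F U t)) =
        v.app U (((Scheme.Modules.pullback p2').obj F).presheaf.map (homOfLE (hp' U)).op
          (OmegaSh.pullSect p2' F U t)) := by
  subst h1 h2
  let α : (Scheme.Modules.pullback p2).obj F ⟶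
      (Scheme.Modules.pushforward w).obj ((Scheme.Modules.pullback (w ≫ p2)).obj F) :=
    ((Scheme.Modules.pullbackPushforwardAdjunction p2).homEquiv _ _).symm
      ((Scheme.Modules.pullbackPushforwardAdjunction (w ≫ p2)).unit.app F ≫
        (Scheme.Modules.pushforwardComp w p2).inv.app _)
  have hα : (Scheme.Modules.pullbackPushforwardAdjunction p2).unit.app F ≫
      (Scheme.Modules.pushforward p2).map α =
      (Scheme.Modules.pullbackPushforwardAdjunction (w ≫ p2)).unit.app F ≫
        (Scheme.Modules.pushforwardComp w p2).inv.app _ :=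
    ((Scheme.Modules.pullbackPushforwardAdjunction p2).homEquiv_unit _ _ α).symm.trans
      (Equiv.apply_symm_apply _ _)
  refine ⟨(Scheme.Modules.pushforward p1).map α ≫
    (Scheme.Modules.pushforwardComp w p1).hom.app _ ≫ v, fun U t => congrArg (v.app U) ?_⟩
  have h3 : α.app (p2 ⁻¹ᵁ U) (OmegaSh.pullSect p2 F U t) = OmegaSh.pullSect (w ≫ p2) F U t :=
    congr((($hα).app U) t)
  show α.app (p1 ⁻¹ᵁ U) (((Scheme.Modules.pullback p2).obj F).presheaf.map (homOfLE (hp U)).op
      (OmegaSh.pullSect p2 F U t)) = _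
  exact (congr($(α.mapPresheaf.naturality (homOfLE (hp U)).op) (OmegaSh.pullSect p2 F U t))).trans
    (congrArg _ h3)

/-- Let f : X ⟶ S be a morphism of schemes, F and G two O_X-modules and D : F ⟶ G a differential
operator of order at most n relative to S. Then D is a differential operator of order at most m for
every m ≥ n. -/
theorem result {X S : Scheme.{u}} (f : X ⟶ S) (F G : X.Modules) {n m : ℕ} (h : n ≤ m)
    (D : F.presheaf ⟶ G.presheaf) (hD : PrinPart.IsDiffOpLE f F G n D) :
    PrinPart.IsDiffOpLE f F G m D := by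
  obtain ⟨v, hv⟩ := hD
  let w := PrinPart.infNbhdMap (PrinPart.diagCl f) h
  have hw : w ≫ PrinPart.nbhdι f m = PrinPart.nbhdι f n := PrinPart.infNbhdMap_ι_assoc _ _ _
  obtain ⟨v', hv'⟩ := aux w (PrinPart.pr1 f m) (PrinPart.pr2 f m) (PrinPart.pr1 f n) (PrinPart.pr2 f n)
    (by rw [PrinPart.pr1, PrinPart.pr1, ← Category.assoc, hw])
    (by rw [PrinPart.pr2, PrinPart.pr2, ← Category.assoc, hw])
    (fun U => (PrinPart.preimage_pr1 f m U).le) (fun U => (PrinPart.preimage_pr1 f n U).le) F G v
  exact ⟨v', fun U t => (hv U t).trans (hv' U t).symm⟩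

end Groth.Agent.S5956
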