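import Groth.Statements.S5957
import Groth.Agent.DevissLib.KilledImm
-- import your own Groth.Agent.* helpers here

set_option autoImplicit false
universe u
open CategoryTheory CategoryTheory.Limits AlgebraicGeometry TopologicalSpace Opposite
open Nrm16

namespace Groth.Agent.S5957

lemma isIso_inclusion {Y : Scheme.{u}} {I J : Y.IdealSheafData} (h : J ≤ I) (e : I = J) :
    IsIso (Scheme.IdealSheafData.inclusion h) := by
  subst e
  rw [Scheme.IdealSheafData.inclusion_id]; infer_instance

lemma isIso_toNbhd_zero {X S : Scheme.{u}} (f : X ⟶ S) : IsIso (PrinPart.toNbhd f 0) := by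
  haveI := isIso_inclusion (PrinPart.ker_pow_succ_le (PrinPart.diagCl f) 0) (pow_one _).symm
  change IsIso ((PrinPart.diagCl f).toImage ≫ Scheme.IdealSheafData.inclusion _)
  infer_instance

lemma aux {X N : Scheme.{u}} (p1 p2 : N ⟶ X) (h : p1 = p2) [IsIso p2] (F G : X.Modules)
    (D : F.presheaf ⟶ G.presheaf) (hle : ∀ U : X.Opens, p1 ⁻¹ᵁ U ≤ p2 ⁻¹ᵁ U) :
    (∃ u : (Scheme.Modules.pushforward p1).obj ((Scheme.Modules.pullback p2).obj F) ⟶ G,
      ∀ (U : X.Opens) (t : Γ(F, U)), D.app (op U) t = u.app U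
        (((Scheme.Modules.pullback p2).obj F).presheaf.map (homOfLE (hle U)).op (OmegaSh.pullSect p2 F U t))) ↔
      ∀ (U : X.Opens) (a : Γ(X, U)) (t : Γ(F, U)), D.app (op U) (a • t) = a • D.app (op U) t := by
  subst h
  have hid : ∀ (U : X.Opens) (x : Γ((Scheme.Modules.pullback p1).obj F, p1 ⁻¹ᵁ U)),
      ((Scheme.Modules.pullback p1).obj F).presheaf.map (homOfLE (hle U)).op x = x := fun U x => by
    rw [show (homOfLE (hle U)).op = 𝟙 _ from Subsingleton.elim _ _]
    exact ConcreteCategory.congr_hom (((Scheme.Modules.pullback p1).obj F).presheaf.map_id _) x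
  constructor
  · rintro ⟨u, hu⟩ U a t
    rw [hu, hu, hid, hid]
    exact Scheme.Modules.Hom.app_smul ((Scheme.Modules.pullbackPushforwardAdjunction p1).unit.app F ≫ u) a t
  · intro hD
    haveI := DevissLib.isIso_unit_of_killed p1 (F := F) (fun U r hr m => by
      have : r = 0 := by
        rw [Scheme.Hom.ker_apply, RingHom.mem_ker] at hr
        exact (ConcreteCategory.bijective_of_isIso (p1.app U)).1 (hr.trans (map_zero _).symm)
      rw [this, zero_smul])
    let Dl : F ⟶ G := ⟨PresheafOfModules.homMk (M₁ := F.val) (M₂ := G.val) D (fun U r m => hD U.unop r m)⟩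
    let η := (Scheme.Modules.pullbackPushforwardAdjunction p1).unit.app F
    refine ⟨inv η ≫ Dl, fun U t => ?_⟩
    rw [hid]
    change _ = (inv η ≫ Dl).app U (η.app U t)
    have := congrArg (fun φ : F ⟶ G => φ.app U t) (IsIso.hom_inv_id_assoc η Dl)
    exact this.symm

/-- Let f : X ⟶ S be a morphism of schemes, F and G two O_X-modules and D : F ⟶ G a homomorphism of
sheaves of abelian groups. Then D is a differential operator of order at most 0 relative to S if and
only if D is O_X-linear: D(a·t) = a·D(t) for every open U, every function a on U and every section t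
of F over U. -/
theorem result {X S : Scheme.{u}} (f : X ⟶ S) (F G : X.Modules)
    (D : F.presheaf ⟶ G.presheaf) :
    PrinPart.IsDiffOpLE f F G 0 D ↔
      ∀ (U : X.Opens) (a : Γ(X, U)) (t : Γ(F, U)), D.app (op U) (a • t) = a • D.app (op U) t := by
  haveI : IsIso (PrinPart.toNbhd f 0) := isIso_toNbhd_zero f
  have h12 : PrinPart.pr1 f 0 = PrinPart.pr2 f 0 := by
    rw [← cancel_epi (PrinPart.toNbhd f 0), PrinPart.toNbhd_pr1, PrinPart.toNbhd_pr2]
  haveI : IsIso (PrinPart.pr2 f 0) := by
    have : PrinPart.pr2 f 0 = inv (PrinPart.toNbhd f 0) := by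
      rw [← cancel_epi (PrinPart.toNbhd f 0), PrinPart.toNbhd_pr2, IsIso.hom_inv_id]
    rw [this]; infer_instance
  exact aux (PrinPart.pr1 f 0) (PrinPart.pr2 f 0) h12 F G D (fun U => (PrinPart.preimage_pr1 f 0 U).le)

end Groth.Agent.S5957
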