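import Groth.Statements.S5961
import Groth.Agent.PrinPartLib.Ops

set_option autoImplicit false
universe u
open CategoryTheory CategoryTheory.Limits AlgebraicGeometry TopologicalSpace Opposite
open Nrm16

namespace Groth.Agent.S5961

/-- Let f : X ⟶ S be a morphism of schemes, G an O_X-module and D : O_X ⟶ G a differential operator of
order at most 1 relative to S. Then D can be written in exactly one way as v + d with v : O_X ⟶ G an
O_X-linear map and d an S-derivation of O_X into G. -/
theorem result {X S : Scheme.{u}} (f : X ⟶ S) (G : X.Modules)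
    (D : (Coh.structureModule X).presheaf ⟶ G.presheaf)
    (hD : PrinPart.IsDiffOpLE f (Coh.structureModule X) G 1 D) :
    ∃! p : (Coh.structureModule X ⟶ G) × OmegaSh.Der f G,
      ∀ (U : X.Opens) (a : Γ(X, U)),
        D.app (op U) (OmegaSh.strSect X U a) = p.1.app U (OmegaSh.strSect X U a) + p.2.app U a := by
  have hlin := PrinPartLib.slinear_of_isDiffOpLE f hD
  have halt := PrinPartLib.altVanish_of_isDiffOpLE f hD
  have hone : ∀ {U V : X.Opens} (i : V ≤ U),
      (Coh.structureModule X).presheaf.map (homOfLE i).op (OmegaSh.strSect X U 1) =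
        OmegaSh.strSect X V 1 := fun i => map_one (X.presheaf.map (homOfLE i).op).hom
  let g : ∀ U : X.Opens, Γ(G, U) := fun U => D.app (op U) (OmegaSh.strSect X U 1)
  have hg : ∀ {U V : X.Opens} (i : V ≤ U), G.presheaf.map (homOfLE i).op (g U) = g V := fun {U V} i =>
    (congr($(D.naturality (homOfLE i).op) (OmegaSh.strSect X U 1))).symm.trans
      (congrArg (D.app (op V)) (hone i))
  have hD2 : ∀ (U : X.Opens) (a b : Γ(X, U)), D.app (op U) (OmegaSh.strSect X U (a * b)) =
      a • D.app (op U) (OmegaSh.strSect X U b) + b • D.app (op U) (OmegaSh.strSect X U a) -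
        (a * b) • g U := by
    intro U a b
    have h := halt U ![a, b] (OmegaSh.strSect X U 1)
    rw [show (Finset.univ : Finset (Finset (Fin 2))) = {∅, {0}, {1}, {0, 1}} by decide] at h
    rw [Finset.sum_insert (by decide), Finset.sum_insert (by decide), Finset.sum_insert (by decide),
      Finset.sum_singleton] at h
    have e : ∀ c : Γ(X, U), c • OmegaSh.strSect X U 1 = OmegaSh.strSect X U c := fun c => mul_one c
    simp only [show (∅ : Finset (Fin 2))ᶜ = {0, 1} by decide, show ({0} : Finset (Fin 2))ᶜ = {1} by decide,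
      show ({1} : Finset (Fin 2))ᶜ = {0} by decide, show ({0, 1} : Finset (Fin 2))ᶜ = ∅ by decide,
      Finset.prod_empty, Finset.prod_singleton, Finset.prod_pair (show (0 : Fin 2) ≠ 1 by decide),
      Finset.card_empty, Finset.card_singleton, Finset.card_pair (show (0 : Fin 2) ≠ 1 by decide),
      Matrix.cons_val_zero, Matrix.cons_val_one, pow_zero, pow_one, one_smul, neg_smul, e,
      show (-1 : ℤ) ^ 2 = 1 by norm_num] at h
    rw [← sub_eq_zero]
    refine Eq.trans ?_ h
    simp only [g]
    abel
  let φ : (Coh.structureModule X).presheaf ⟶ G.presheaf :=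
    { app := fun U => AddCommGrpCat.ofHom (AddMonoidHom.mk'
        (fun a : Γ(Coh.structureModule X, U.unop) => OmegaSh.fnSect X U.unop a • g U.unop)
        fun a b => (congrArg (· • g U.unop) (map_add (OmegaSh.fnSect X U.unop) a b)).trans (add_smul _ _ _))
      naturality := fun U V i => by
        ext a
        refine Eq.trans ?_ (Scheme.Modules.map_smul G (homOfLE i.unop.le) (OmegaSh.fnSect X U.unop a) (g U.unop)).symm
        exact congrArg (OmegaSh.fnSect X V.unop ((Coh.structureModule X).presheaf.map i a) • ·)
          (hg i.unop.le).symm }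
  let v : Coh.structureModule X ⟶ G := ⟨PresheafOfModules.homMk (M₁ := (Coh.structureModule X).val)
    (M₂ := G.val) φ (fun U r a => mul_smul (α := Γ(X, U.unop)) r (OmegaSh.fnSect X U.unop a) (g U.unop))⟩
  have hv : ∀ (U : X.Opens) (a : Γ(X, U)), v.app U (OmegaSh.strSect X U a) = a • g U := fun U a => rfl
  have hD3 : ∀ (U : X.Opens) (a b : Γ(X, U)),
      D.app (op U) (OmegaSh.strSect X U (a * b)) - (a * b) • g U =
        a • (D.app (op U) (OmegaSh.strSect X U b) - b • g U) +
          b • (D.app (op U) (OmegaSh.strSect X U a) - a • g U) := by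
    intro U a b
    rw [hD2, smul_sub, smul_sub, ← mul_smul, ← mul_smul, mul_comm b a]
    abel
  have e1 : ∀ (U : X.Opens) (c : Γ(X, U)), c • OmegaSh.strSect X U 1 = OmegaSh.strSect X U c :=
    fun U c => mul_one c
  let d : OmegaSh.Der f G :=
    { d := fun {U} => AddMonoidHom.mk'
        (fun a : Γ(X, U.unop) => D.app U (OmegaSh.strSect X U.unop a) - a • g U.unop)
        fun a b => by
          rw [map_add, map_add, add_smul]
          abel
      d_mul := fun {U} a b => hD3 U.unop a b
      d_map := fun {U V} i a => by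
        show D.app V (OmegaSh.strSect X V.unop (X.presheaf.map i a)) - _ =
          G.presheaf.map i (D.app U (OmegaSh.strSect X U.unop a) - _)
        refine Eq.trans ?_ (map_sub (G.presheaf.map i).hom _ _).symm
        refine congrArg₂ (· - ·) (congr($(D.naturality i) (OmegaSh.strSect X U.unop a))) ?_
        exact ((Scheme.Modules.map_smul G (homOfLE i.unop.le) a (g U.unop)).trans (congrArg (_ • ·) (hg i.unop.le))).symm
      d_app := fun {V} s => by
        show D.app _ (OmegaSh.strSect X _ (f.app V.unop s)) -
          (f.app V.unop s : Γ(X, f ⁻¹ᵁ V.unop)) • g (f ⁻¹ᵁ V.unop) = 0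
        rw [sub_eq_zero]
        have h := hlin V.unop s (f ⁻¹ᵁ V.unop) le_rfl (OmegaSh.strSect X _ 1)
        rw [show (homOfLE (le_refl (f ⁻¹ᵁ V.unop))).op = 𝟙 _ from Subsingleton.elim _ _,
          X.presheaf.map_id] at h
        exact (congrArg (D.app _) (e1 _ _).symm).trans h }
  have hd : ∀ (U : X.Opens) (a : Γ(X, U)),
      d.app U a = D.app (op U) (OmegaSh.strSect X U a) - a • g U := fun U a => rfl
  refine ⟨(v, d), fun U a => by rw [hv, hd]; abel, ?_⟩
  rintro ⟨v', d'⟩ hp
  have h1 : ∀ U, v'.app U (OmegaSh.strSect X U 1) = g U := by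
    intro U
    have h := hp U 1
    have h0 : d'.app U 1 = 0 := by
      have h' := d'.d_mul (X := op U) (1 : Γ(X, U)) (1 : Γ(X, U))
      rw [one_mul, one_smul] at h'
      exact left_eq_add.1 h'
    rw [h0, add_zero] at h
    exact h.symm
  have hva : ∀ (U : X.Opens) (a : Γ(X, U)), v'.app U (OmegaSh.strSect X U a) = a • g U := fun U a =>
    (congrArg (v'.app U) (mul_one a).symm).trans ((v'.app_smul a (OmegaSh.strSect X U 1)).trans
      (congrArg (a • ·) (h1 U)))
  refine Prod.ext (Scheme.Modules.hom_ext _ _ fun U => ?_) (PresheafOfModules.Derivation.ext ?_)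
  · ext a
    exact (hva U a).trans (hv U a).symm
  · funext U
    ext a
    have h := hp U.unop a
    rw [hva] at h
    show d'.app U.unop a = d.app U.unop a
    rw [hd, h]
    abel

end Groth.Agent.S5961
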