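import Groth.Statements.S5963
import Groth.Agent.PrinPartLib.DerBC
import Groth.Agent.ConormalSecLib.Basic
import Groth.Agent.CohCmpLib.PullOnComp
import Groth.Agent.S5952

set_option autoImplicit false
universe u
open CategoryTheory CategoryTheory.Limits AlgebraicGeometry TopologicalSpace Opposite
open Nrm16

namespace Groth.Agent.S5963

theorem exists_idealIso {A : Scheme.{u}} (I J : A.IdealSheafData) (h : I = J) :
    ∃ ι : ClSub.idealMod I ≅ ClSub.idealMod J, ∀ (U : A.Opens) (a : Γ(ClSub.idealMod I, U)),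
      OmegaSh.idealSect J U (ι.hom.app U a) = OmegaSh.idealSect I U a := by
  subst h
  exact ⟨Iso.refl _, fun U a => rfl⟩

theorem smul_push_eq_zero {A B : Scheme.{u}} (i : A ⟶ B) (G : A.Modules) {W : B.Opens} {s : Γ(B, W)}
    (hs : i.app W s = 0) (z : Γ((Scheme.Modules.pushforward i).obj G, W)) : s • z = 0 := by
  show i.app W s • (show Γ(G, i ⁻¹ᵁ W) from z) = 0
  rw [hs, zero_smul]

theorem comap_ker_pow {Y X Y' X' : Scheme.{u}} (f : Y ⟶ X) [IsClosedImmersion f]
    (v : X' ⟶ X) (u : Y' ⟶ Y) (f' : Y' ⟶ X') (hsq : IsPullback u f' f v) :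
    (f.ker ^ 1).comap v = f'.ker ^ 1 := by
  rw [pow_one, pow_one, ← Scheme.IdealSheafData.ker_fst_of_isClosedImmersion,
    ← hsq.flip.isoPullback_hom_fst, Scheme.Hom.ker_comp_of_isIso]

theorem exists_idealLift {A B : Scheme.{u}} {J : A.IdealSheafData} {J' : B.IdealSheafData} (v : B ⟶ A)
    (hJ : J.comap v = J') {U : A.Opens} (a : Γ(ClSub.idealMod J, U)) :
    ∃ s : Γ(ClSub.idealMod J', v ⁻¹ᵁ U),
      OmegaSh.idealSect J' (v ⁻¹ᵁ U) s = v.app U (OmegaSh.idealSect J U a) := by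
  subst hJ
  have w : ((J.comapIso v).hom ≫ pullback.snd _ _) ≫ J.subschemeι = (J.comap v).subschemeι ≫ v := by
    simp only [Category.assoc, ← pullback.condition]
    rw [Scheme.IdealSheafData.comapIso_hom_fst_assoc]
  have h0 : J.subschemeι.app U (OmegaSh.idealSect J U a) = 0 :=
    congr((($(kernel.condition (ClSub.toSubscheme J))).app U) a)
  have h1 : (ClSub.toSubscheme (J.comap v)).app (v ⁻¹ᵁ U)
      (OmegaSh.strSect B _ (v.app U (OmegaSh.idealSect J U a))) = 0 := by
    rw [OmegaSh.toSubscheme_app_strSect]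
    exact Groth.Agent.S5952.app_eq_zero_of_comp w _ h0
  exact ⟨OmegaSh.kerLift _ _ _ h1, congrArg (OmegaSh.fnSect B _) (OmegaSh.ι_kerLift _ _ _ h1)⟩


/-- Let g : X ⟶ Y be a morphism with a section f : Y ⟶ X which is a closed immersion, u : Y' ⟶ Y a
morphism, X' a fibre product of X and Y' over Y with projections v : X' ⟶ X and g' : X' ⟶ Y', and f'
: Y' ⟶ X' the induced section of g' (so f' ≫ g' = 𝟙 and f' ≫ v = u ≫ f). Let φ : u^* Gr_1(f) ⟶
Gr_1(f') be the canonical O_{Y'}-linear map between the conormal sheaves I/I² and I'/I'² of f and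
f'. Then φ is an isomorphism. (The published statement allows any section f, and also identifies,
for every n, the n-th infinitesimal neighbourhood of f', as a scheme over X' and as a scheme affine
over Y', with the base change of the n-th infinitesimal neighbourhood of f along v and along u; this
row assumes f a closed immersion, the case in which the conormal sheaves are formed here, and states
only the assertion on conormal sheaves.) -/
theorem result {X Y X' Y' : Scheme.{u}} (g : X ⟶ Y) (f : Y ⟶ X)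
    [IsClosedImmersion f] (hf : f ≫ g = 𝟙 Y) (u : Y' ⟶ Y) (v : X' ⟶ X) (g' : X' ⟶ Y')
    (hsq : IsPullback v g' g u) (f' : Y' ⟶ X') (hf' : f' ≫ g' = 𝟙 Y') (hf'v : f' ≫ v = u ≫ f)
    (φ : (Scheme.Modules.pullback u).obj (PrinPart.grMod f 1) ⟶ PrinPart.grMod f' 1)
    (hφ : PrinPart.IsGrMap f' f v u 1 φ) :
    IsIso φ := by
  have hsqv : IsPullback u f' f v := by
    have h1 : IsPullback u (f' ≫ g') (f ≫ g) u := by
      rw [hf, hf']
      exact IsPullback.of_vert_isIso ⟨by simp⟩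
    exact IsPullback.of_bot h1 hf'v.symm hsq
  haveI : IsClosedImmersion f' := MorphismProperty.of_isPullback hsqv ‹_›
  haveI : Epi φ := Groth.Agent.S5952.result f v u f' hsqv 1 φ hφ
  haveI : QuasiCompact f := inferInstance
  have hgS : g ≫ f ≫ g = g := by rw [hf, Category.comp_id]
  -- the derivation of a section
  let M₀ := ClSub.idealMod (f.ker ^ 1)
  obtain ⟨ι, hι⟩ := exists_idealIso (f.ker ^ 1) f.ker (pow_one _)
  let ε : Omega.conormal f ≅ PrinPart.grMod f 1 := ((Scheme.Modules.pullback f).mapIso ι).symm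
  let G := (Scheme.Modules.pullback u).obj (PrinPart.grMod f 1)
  let M := (Scheme.Modules.pushforward f').obj G
  let E := CohBC.bc0Adj f v f' u hsqv.w (PrinPart.grMod f 1)
  let k : (Scheme.Modules.pushforward f).obj (Omega.conormal f) ⟶ (Scheme.Modules.pushforward v).obj M :=
    (Scheme.Modules.pushforward f).map ε.hom ≫ E
  let D₁ := ConormalSecLib.secDer f g hf (f := g) hgS
  obtain ⟨D, hDval⟩ : ∃ D : OmegaSh.Der g ((Scheme.Modules.pushforward v).obj M), ∀ (U : X.Opens) (a : Γ(X, U)),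
      D.app U a = k.app U (D₁.app U a) := ⟨D₁.postcomp k.val, fun U a => rfl⟩
  obtain ⟨D', hD'⟩ := PrinPartLib.exists_derExt g u v g' hsq D
  -- the derivation is linear on the ideal
  let I' := f'.ker ^ 1
  have hkill : ∀ (W : X'.Opens) (s : Γ(ClSub.idealMod I', W)), f'.app W (OmegaSh.idealSect I' W s) = 0 := by
    intro W s
    obtain ⟨ι', hι'⟩ := exists_idealIso (f'.ker ^ 1) f'.ker (pow_one _)
    rw [← hι' W s]
    exact ConormalSecLib.app_idealSect f' W _
  have hlin : ∀ (W : X'.Opens) (r : Γ(X', W)) (s : Γ(ClSub.idealMod I', W)),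
      D'.app W (OmegaSh.idealSect I' W (r • s)) = r • D'.app W (OmegaSh.idealSect I' W s) := by
    intro W r s
    rw [show OmegaSh.idealSect I' W (r • s) = r * OmegaSh.idealSect I' W s from
      congrArg (OmegaSh.fnSect X' W) (Scheme.Modules.Hom.app_smul (ClSub.idealModι I') r s),
      OmegaAffLib.der_mul]
    rw [smul_push_eq_zero f' G (hkill W s), add_zero]
  let ψ₀ : ClSub.idealMod I' ⟶ M :=
    ⟨PresheafOfModules.homMk (M₁ := (ClSub.idealMod I').val) (M₂ := M.val)
      { app := fun W => AddCommGrpCat.ofHom ((D'.app W.unop).comp (OmegaSh.idealSect I' W.unop))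
        naturality := fun W W' e => by
          ext s
          show D'.app W'.unop (OmegaSh.idealSect I' W'.unop
            ((ClSub.idealMod I').presheaf.map (homOfLE e.unop.le).op s)) = _
          rw [show OmegaSh.idealSect I' W'.unop ((ClSub.idealMod I').presheaf.map (homOfLE e.unop.le).op s) =
            X'.presheaf.map (homOfLE e.unop.le).op (OmegaSh.idealSect I' W.unop s) from
            congrArg (OmegaSh.fnSect X' W'.unop) (OmegaSh.idealModι_app_map _ I' e.unop.le s)]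
          exact OmegaAffLib.der_rs D' e.unop.le _ }
      (fun W r s => hlin W.unop r s)⟩
  let a' := (Scheme.Modules.pullbackPushforwardAdjunction f').homEquiv (ClSub.idealMod I') G
  let ψ : PrinPart.grMod f' 1 ⟶ G := a'.symm ψ₀
  have hψ : ∀ (W : X'.Opens) (s : Γ(ClSub.idealMod I', W)),
      ψ.app (f' ⁻¹ᵁ W) (PrinPart.grSect f' 1 W s) = D'.app W (OmegaSh.idealSect I' W s) := by
    intro W s
    have h1 := congr(Scheme.Modules.Hom.app $(a'.apply_symm_apply ψ₀) W s)
    rw [show a' (a'.symm ψ₀) = _ from Adjunction.homEquiv_unit _ _ _ _] at h1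
    exact h1
  suffices h : φ ≫ ψ = 𝟙 _ by
    haveI : IsSplitMono φ := IsSplitMono.mk' ⟨ψ, h⟩
    exact isIso_of_epi_of_isSplitMono φ
  refine CohCmpLib.hom_ext_puSec₂ _ _ fun U a => ?_
  obtain ⟨s, hs⟩ := exists_idealLift (J := f.ker ^ 1) (J' := f'.ker ^ 1) v
    (comap_ker_pow f v u f' hsqv) a
  have hle : u ⁻¹ᵁ (f ⁻¹ᵁ U) ≤ f' ⁻¹ᵁ (v ⁻¹ᵁ U) := fun y hy => by
    change (u ≫ f) y ∈ U at hy
    rw [hsqv.w] at hy
    exact hy
  have hge : f' ⁻¹ᵁ (v ⁻¹ᵁ U) ≤ u ⁻¹ᵁ (f ⁻¹ᵁ U) := CohCmp.sqLE f v f' u hsqv.w U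
  have hid : ∀ (N : Y'.Modules) (W : Y'.Opens) (z : Γ(N, W)),
      N.presheaf.map (homOfLE (le_refl W)).op z = z := fun N W z => by
    rw [show (homOfLE (le_refl W)).op = 𝟙 _ from Subsingleton.elim _ _, N.presheaf.map_id]
    rfl
  have hl := hφ.2 U a s hs _ le_rfl hle
  rw [hid] at hl
  have hval : ψ.app (f' ⁻¹ᵁ (v ⁻¹ᵁ U)) (PrinPart.grSect f' 1 (v ⁻¹ᵁ U) s) =
      G.presheaf.map (homOfLE hge).op (KFlatLib.puSec u (KFlatLib.puSec f a)) := by
    rw [hψ, hs, hD', hDval]
    show E.app U (ε.hom.app (f ⁻¹ᵁ U) (D₁.app U (OmegaSh.idealSect (f.ker ^ 1) U a))) = _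
    rw [← hι U a]
    have h1 : D₁.app U (OmegaSh.idealSect f.ker U (ι.hom.app U a)) =
        KFlatLib.puSec f (ι.hom.app U a) := ConormalSecLib.secSect_idealSect f g hf U _
    rw [h1]
    refine (CohCmpLib.bc0Adj_app hsqv.w _ U _).trans ?_
    refine congrArg (G.presheaf.map (homOfLE hge).op) (congrArg (fun z => KFlatLib.puSec u z) ?_)
    show ((Scheme.Modules.pullback f).map ι.inv).app (f ⁻¹ᵁ U) (KFlatLib.puSec f (ι.hom.app U a)) = _
    refine (KFlatLib.puSec_natural f ι.inv _).trans (congrArg (fun z => KFlatLib.puSec f z) ?_)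
    exact congr($(congrArg (fun k => Scheme.Modules.Hom.app k U) ι.hom_inv_id) a)
  show ψ.app (u ⁻¹ᵁ (f ⁻¹ᵁ U)) (φ.app (u ⁻¹ᵁ (f ⁻¹ᵁ U)) (KFlatLib.puSec u (KFlatLib.puSec f a))) =
    KFlatLib.puSec u (KFlatLib.puSec f a)
  refine (congrArg (ψ.app (u ⁻¹ᵁ (f ⁻¹ᵁ U))) hl).trans ?_
  refine (congr($(ψ.mapPresheaf.naturality (homOfLE hle).op) (PrinPart.grSect f' 1 (v ⁻¹ᵁ U) s))).trans ?_
  refine (congrArg (G.presheaf.map (homOfLE hle).op) hval).trans ?_
  rw [← ConcreteCategory.comp_apply, ← Functor.map_comp, ← op_comp, homOfLE_comp]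
  exact hid _ _ _

end Groth.Agent.S5963
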