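import Groth.Statements.S5965
import Groth.Agent.ChevLib.Main

set_option autoImplicit false
universe u
open CategoryTheory CategoryTheory.Limits AlgebraicGeometry TopologicalSpace Opposite
open Nrm16

namespace Groth.Agent.S5965

/-- Let g : X ⟶ Y be a morphism locally of finite type with a section f : Y ⟶ X which is a closed
immersion. Then for every n the n-th infinitesimal neighbourhood of Y in X, mapped to Y through its
inclusion into X followed by g, is finite over Y. (The published statement allows any section f and
says that the structure sheaf of the neighbourhood is a quasi-coherent O_Y-algebra which is an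
O_Y-module of finite type; this row assumes f a closed immersion and states the conclusion as
finiteness of the morphism to Y.) -/
theorem result {X Y : Scheme.{u}} (g : X ⟶ Y) [LocallyOfFiniteType g] (f : Y ⟶ X)
    [IsClosedImmersion f] (hf : f ≫ g = 𝟙 Y) (n : ℕ) :
    IsFinite (PrinPart.infNbhdι f n ≫ g) := by
  let N := PrinPart.infNbhd f n
  let ι : N ⟶ X := PrinPart.infNbhdι f n
  let t : Y ⟶ N := PrinPart.toInfNbhd f n
  let h : N ⟶ Y := ι ≫ g
  have hι : IsClosedImmersion ι := by
    show IsClosedImmersion ((f.ker ^ (n + 1)).subschemeι)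
    infer_instance
  have htι : t ≫ ι = f := PrinPart.toInfNbhd_ι f n
  have hth : t ≫ h = 𝟙 Y := by
    show t ≫ ι ≫ g = 𝟙 Y
    rw [← Category.assoc, htι, hf]
  have : IsClosedImmersion (t ≫ ι) := by rw [htι]; infer_instance
  have ht : IsClosedImmersion t := IsClosedImmersion.of_comp t ι
  have hts : Surjective t := ⟨PrinPart.toInfNbhd_surjective f n⟩
  have : UniversallyClosed (t ≫ h) := by rw [hth]; infer_instance
  have : UniversallyClosed h := UniversallyClosed.of_comp_surjective t h
  have : IsAffineHom h := by
    refine ⟨fun U hU => ?_⟩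
    have hts' : Surjective (t ∣_ (h ⁻¹ᵁ U)) := IsZariskiLocalAtTarget.restrict hts _
    have htc' : IsClosedImmersion (t ∣_ (h ⁻¹ᵁ U)) := IsZariskiLocalAtTarget.restrict ht _
    have hsrc : t ⁻¹ᵁ (h ⁻¹ᵁ U) = U := by
      rw [← Scheme.Hom.comp_preimage, hth]
      rfl
    have haff : IsAffine (t ⁻¹ᵁ (h ⁻¹ᵁ U) : Scheme.{u}) := by rw [hsrc]; exact hU
    exact ChevLib.isAffine_of_surjective_universallyClosed (t ∣_ (h ⁻¹ᵁ U))
  have : IsIntegralHom h :=
    (IsIntegralHom.iff_universallyClosed_and_isAffineHom).2 ⟨inferInstance, inferInstance⟩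
  exact (IsFinite.iff_isIntegralHom_and_locallyOfFiniteType h).2 ⟨inferInstance, inferInstance⟩

end Groth.Agent.S5965
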