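import Groth.Statements.S5966
import Groth.Agent.ModSiteLib.Colimits

-- import your own Groth.Agent.* helpers here

set_option autoImplicit false
universe u
open CategoryTheory CategoryTheory.Limits AlgebraicGeometry TopologicalSpace Opposite
open Nrm16

namespace Groth.Agent.S5966

/-- The preimage functor of an inducing surjection is cocontinuous. -/
lemma isCocontinuous_map_of_isInducing {X Y : TopCat.{u}} (g : X ⟶ Y) (hs : Function.Surjective g)
    (hi : Topology.IsInducing g) :
    (Opens.map g).IsCocontinuous (Opens.grothendieckTopology Y) (Opens.grothendieckTopology X) where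
  cover_lift := by
    intro U S hS y hy
    obtain ⟨x, rfl⟩ := hs y
    obtain ⟨W, i, hW, hxW⟩ := hS x hy
    obtain ⟨V, hV, hVW⟩ := hi.isOpen_iff.1 W.isOpen
    refine ⟨⟨V, hV⟩ ⊓ U, homOfLE inf_le_right, ?_, ?_, hy⟩
    · show S ((Opens.map g).map (homOfLE inf_le_right))
      have hle : (Opens.map g).obj (⟨V, hV⟩ ⊓ U) ≤ W := fun z hz => by
        have : z ∈ g ⁻¹' V := hz.1
        rw [hVW] at this
        exact this
      have := S.downward_closed hW (homOfLE hle)
      convert this using 1; exact Subsingleton.elim _ _
    · have : x ∈ g ⁻¹' V := by rw [hVW]; exact hxW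
      exact this

lemma toInfNbhd_bijective {X S : Scheme.{u}} (f : X ⟶ S) (n : ℕ) :
    Function.Bijective (PrinPart.toNbhd f n).base :=
  ⟨Function.LeftInverse.injective (g := (PrinPart.pr1 f n).base) fun x => by
      rw [← Scheme.Hom.comp_apply, PrinPart.toNbhd_pr1]; rfl,
    PrinPart.toInfNbhd_surjective _ n⟩



/-- Let f : X ⟶ S be a morphism of schemes and n a natural number. The functor F ↦ P^n_{X/S}(F),
pullback along the second projection of the n-th infinitesimal neighbourhood of the diagonal
followed by pushforward along the first, from O_X-modules to O_X-modules, commutes with all small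
colimits (in particular it is right exact). -/
theorem result {X S : Scheme.{u}} (f : X ⟶ S) (n : ℕ) :
    PreservesColimitsOfSize.{u, u}
      ((Scheme.Modules.pullback (PrinPart.pr2 f n)) ⋙ (Scheme.Modules.pushforward (PrinPart.pr1 f n))) := by
  have hb : Function.LeftInverse (PrinPart.pr1 f n).base (PrinPart.toNbhd f n).base := fun x => by
    rw [← Scheme.Hom.comp_apply, PrinPart.toNbhd_pr1]; rfl
  have hb' : Function.RightInverse (PrinPart.pr1 f n).base (PrinPart.toNbhd f n).base :=
    hb.rightInverse_of_surjective (toInfNbhd_bijective f n).2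
  let e : PrinPart.nbhd f n ≃ₜ X :=
    { toFun := (PrinPart.pr1 f n).base
      invFun := (PrinPart.toNbhd f n).base
      left_inv := hb'
      right_inv := hb
      continuous_toFun := (PrinPart.pr1 f n).base.hom.continuous
      continuous_invFun := (PrinPart.toNbhd f n).base.hom.continuous }
  haveI := isCocontinuous_map_of_isInducing (PrinPart.pr1 f n).base e.surjective e.isInducing
  haveI : (Scheme.Modules.pushforward (PrinPart.pr1 f n)).IsLeftAdjoint :=
    ModSiteLib.pushforward_isLeftAdjoint_of_isCocontinuous (Opens.map (PrinPart.pr1 f n).base)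
      (PrinPart.pr1 f n).toRingCatSheafHom
  haveI : PreservesColimitsOfSize.{u, u} (Scheme.Modules.pullback (PrinPart.pr2 f n)) :=
    (Scheme.Modules.pullbackPushforwardAdjunction _).leftAdjoint_preservesColimits
  haveI : PreservesColimitsOfSize.{u, u} (Scheme.Modules.pushforward (PrinPart.pr1 f n)) :=
    (Adjunction.ofIsLeftAdjoint _).leftAdjoint_preservesColimits
  infer_instance


end Groth.Agent.S5966
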