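import Groth.Statements.S5969
import Groth.Agent.PrinPartLib.Gen

set_option autoImplicit false
universe u
open CategoryTheory CategoryTheory.Limits AlgebraicGeometry TopologicalSpace Opposite
open Nrm16

namespace Groth.Agent.S5969

open CategoryTheory AlgebraicGeometry in
theorem pow_le_ker_comp {Y Z : Scheme.{u}} (i : Y ⟶ Z) [QuasiCompact i] (τ : Z ⟶ Z) [IsIso τ]
    (hi : i ≫ τ = i) (k : ℕ) : i.ker ^ k ≤ ((i.ker ^ k).subschemeι ≫ τ).ker := by
  intro W
  let W' : Z.affineOpens := ⟨τ ⁻¹ᵁ W.1, W.2.preimage τ⟩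
  rw [Scheme.Hom.ker_apply]
  have h1 : (i.ker.ideal W).map (τ.app W.1).hom ≤ i.ker.ideal W' := by
    rw [Ideal.map_le_iff_le_comap, Scheme.Hom.ker_apply, Scheme.Hom.ker_apply]
    intro r hr
    rw [Ideal.mem_comap, RingHom.mem_ker]
    rw [RingHom.mem_ker, Scheme.Hom.congr_app hi.symm W.1, Scheme.Hom.comp_app] at hr
    refine (injective_iff_map_eq_zero _).1 (ConcreteCategory.bijective_of_isIso
      (Y.presheaf.map (eqToHom (show i ⁻¹ᵁ W.1 = (i ≫ τ) ⁻¹ᵁ W.1 by rw [hi])).op)).1 _ hr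
  intro r hr
  show τ.app W.1 r ∈ RingHom.ker ((i.ker ^ k).subschemeι.app W'.1).hom
  rw [Scheme.IdealSheafData.ker_subschemeι_app (i.ker ^ k) W']
  have h2 : τ.app W.1 r ∈ ((i.ker ^ k).ideal W).map (τ.app W.1).hom := Ideal.mem_map_of_mem _ hr
  have h3 : ((i.ker ^ k).ideal W).map (τ.app W.1).hom ≤ (i.ker ^ k).ideal W' := by
    simp only [Scheme.IdealSheafData.ideal_pow]
    simp only [Pi.pow_apply]
    rw [Ideal.map_pow]
    exact Ideal.pow_right_mono h1 k
  exact h3 h2


/-- Let f : X ⟶ S be a morphism of schemes and n a natural number. On the order-n infinitesimal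
thickening of the diagonal of f there is an endomorphism σ which is compatible, under the immersion
into X ×_S X, with the symmetry exchanging the two factors; σ is an involution, it exchanges the two
projections to X (so it exchanges the two O_X-algebra structures of P^n_{X/S}) and it fixes the
diagonal section. -/
theorem result {X S : Scheme.{u}} (f : X ⟶ S) (n : ℕ) :
    ∃ σ : PrinPart.nbhd f n ⟶ PrinPart.nbhd f n,
      σ ≫ PrinPart.nbhdι f n = PrinPart.nbhdι f n ≫ (pullbackSymmetry f f).hom ∧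
      σ ≫ σ = 𝟙 (PrinPart.nbhd f n) ∧
      σ ≫ PrinPart.pr1 f n = PrinPart.pr2 f n ∧ σ ≫ PrinPart.pr2 f n = PrinPart.pr1 f n ∧
      PrinPart.toNbhd f n ≫ σ = PrinPart.toNbhd f n := by
  let Δ := pullback.diagonal f
  let C := Δ.coborderRange
  let s := (pullbackSymmetry f f).hom
  have hΔs : Δ ≫ s = Δ := by
    apply pullback.hom_ext <;> simp [Δ, s]
  have hpre : s ⁻¹' (C : Set ↥(pullback f f)) = C := by
    have hr : s ⁻¹' Set.range Δ = Set.range Δ := by
      refine subset_antisymm (fun z hz => ?_) ?_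
      · obtain ⟨x, hx⟩ := hz
        refine ⟨x, s.homeomorph.injective ?_⟩
        show s (Δ x) = s z
        rw [← Scheme.Hom.comp_apply, hΔs, hx]
      · rintro _ ⟨x, rfl⟩
        exact ⟨x, by rw [← Scheme.Hom.comp_apply, hΔs]⟩
    change s ⁻¹' coborder (Set.range Δ) = coborder (Set.range Δ)
    rw [← s.isOpenEmbedding.coborder_preimage, hr]
  let τ : (C : Scheme.{u}) ⟶ C := IsOpenImmersion.lift C.ι (C.ι ≫ s) (by
    rintro _ ⟨z, rfl⟩
    rw [Scheme.Opens.range_ι, Scheme.Hom.comp_apply]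
    exact (hpre.ge z.2 : _))
  have hτ : τ ≫ C.ι = C.ι ≫ s := IsOpenImmersion.lift_fac _ _ _
  have hττ : τ ≫ τ = 𝟙 _ := by
    rw [← cancel_mono C.ι, Category.assoc, hτ, ← Category.assoc, hτ, Category.assoc, Category.id_comp]
    have : s ≫ s = 𝟙 _ := by apply pullback.hom_ext <;> simp [s]
    rw [this, Category.comp_id]
  haveI : IsIso τ := ⟨τ, hττ, hττ⟩
  have hi : PrinPart.diagCl f ≫ τ = PrinPart.diagCl f := by
    rw [← cancel_mono C.ι, Category.assoc, hτ, ← Category.assoc, Scheme.Hom.liftCoborder_ι]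
    exact hΔs
  let ι := PrinPart.infNbhdι (PrinPart.diagCl f) n
  haveI : IsClosedImmersion ι := by
    show IsClosedImmersion (Scheme.IdealSheafData.subschemeι _)
    infer_instance
  let σ := IsClosedImmersion.lift ι (ι ≫ τ) (by
    show Scheme.Hom.ker (Scheme.IdealSheafData.subschemeι _) ≤ _
    rw [Scheme.IdealSheafData.ker_subschemeι]
    exact pow_le_ker_comp (PrinPart.diagCl f) τ hi (n + 1))
  have hσ : σ ≫ ι = ι ≫ τ := IsClosedImmersion.lift_fac _ _ _
  have hσι : σ ≫ PrinPart.nbhdι f n = PrinPart.nbhdι f n ≫ s := by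
    show σ ≫ ι ≫ C.ι = (ι ≫ C.ι) ≫ s
    rw [← Category.assoc, hσ, Category.assoc, hτ, Category.assoc]
  refine ⟨σ, hσι, ?_, ?_, ?_, ?_⟩
  · rw [← cancel_mono ι, Category.assoc, hσ, ← Category.assoc, hσ, Category.assoc, hττ,
      Category.comp_id, Category.id_comp]
  · rw [PrinPart.pr1, ← Category.assoc, hσι, Category.assoc]
    simp [PrinPart.pr2, s]
  · rw [PrinPart.pr2, ← Category.assoc, hσι, Category.assoc]
    simp [PrinPart.pr1, s]
  · rw [← cancel_mono ι, Category.assoc, hσ, ← Category.assoc]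
    show (PrinPart.toInfNbhd (PrinPart.diagCl f) n ≫ PrinPart.infNbhdι (PrinPart.diagCl f) n) ≫ τ =
      PrinPart.toInfNbhd (PrinPart.diagCl f) n ≫ PrinPart.infNbhdι (PrinPart.diagCl f) n
    rw [PrinPart.toInfNbhd_ι, hi]

end Groth.Agent.S5969
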