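import Groth.Statements.S5970
import Groth.Agent.OmegaAffLib.Apps
import Groth.Agent.OmegaAffLib.StalkCrit
import Groth.Agent.SymAlgLib.Funct
import Groth.Agent.SymGenLib.Basic
import Groth.Agent.KFlatLib.QCohPull
-- import your own Groth.Agent.* helpers here

set_option autoImplicit false
universe u
open CategoryTheory CategoryTheory.Limits AlgebraicGeometry TopologicalSpace Opposite
open Nrm16

namespace Groth.Agent.S5970

namespace Aux

open TopologicalSpace Opposite
open CycBdlLib (toF preimage_le univMap)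

variable {S X : Scheme.{u}} {f : X ⟶ S}

theorem span_puSec (f : X ⟶ S) [IsAffineHom f] (M : S.Modules) [Coh.IsQCoh M] {U : S.Opens} (hU : IsAffineOpen U)
    (P : Γ(KFlatLib.pb f M, f ⁻¹ᵁ U) → Prop) (h0 : P 0)
    (hadd : ∀ a b, P a → P b → P (a + b)) (hsmul : ∀ (c : Γ(X, f ⁻¹ᵁ U)) a, P a → P (c • a))
    (hpu : ∀ m : Γ(M, U), P (KFlatLib.puSec f m)) (z : Γ(KFlatLib.pb f M, f ⁻¹ᵁ U)) : P z := by
  let := (f.appLE U (f ⁻¹ᵁ U) le_rfl).hom.toAlgebra
  let := Module.compHom Γ(KFlatLib.pb f M, f ⁻¹ᵁ U) (f.appLE U (f ⁻¹ᵁ U) le_rfl).hom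
  haveI : IsScalarTower Γ(S, U) Γ(X, f ⁻¹ᵁ U) Γ(KFlatLib.pb f M, f ⁻¹ᵁ U) :=
    IsScalarTower.of_algebraMap_smul fun _ _ => rfl
  let ψ : Γ(M, U) →ₗ[Γ(S, U)] Γ(KFlatLib.pb f M, f ⁻¹ᵁ U) :=
    { toFun := KFlatLib.puSecLE f M (le_refl (f ⁻¹ᵁ U))
      map_add' := map_add _
      map_smul' := fun r m => KFlatLib.puSecLE_smul f M le_rfl r m }
  have hbc := KFlatLib.isBaseChange_puSec f M hU (hU.preimage f) (le_refl (f ⁻¹ᵁ U)) (fun _ => rfl) ψ fun _ => rfl
  refine hbc.inductionOn z P h0 (fun m => ?_) (fun c a ha => hsmul c a ha) (fun a b ha hb => hadd a b ha hb)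
  have e : ψ m = KFlatLib.puSec f m := by
    change KFlatLib.puSecLE f M (le_refl _) m = _
    rw [KFlatLib.puSecLE_apply, show homOfLE (le_refl (f ⁻¹ᵁ U)) = 𝟙 _ from rfl, op_id,
      CategoryTheory.Functor.map_id]
    rfl
  rw [e]
  exact hpu m


/-- A map out of the differentials on an affine chart from a derivation on sections. -/
theorem exists_loc' [QuasiSeparated f] {U : X.Opens} (hU : IsAffineOpen U) {V : S.Opens} (hV : IsAffineOpen V)
    (h : U ≤ f ⁻¹ᵁ V) (F : X.Modules) (D : Γ(X, U) → Γ(F, U)) (hadd : ∀ a b, D (a + b) = D a + D b)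
    (hmul : ∀ a b, D (a * b) = a • D b + b • D a) (h0 : ∀ c, D (f.appLE V U h c) = 0) :
    ∃ φ : Γ(Omega.sheaf f, U) →ₗ[Γ(X, U)] Γ(F, U), ∀ b, φ (OmegaSh.dSect f U b) = D b := by
  let der : (OmAff.sectMod F U).Derivation (f.appLE V U h) := ModuleCat.Derivation.mk D hadd hmul h0
  haveI := OmegaAffLib.isIso_toSect f hV hU h
  refine ⟨(inv (OmAff.toSect f V U h) ≫ der.desc).hom, fun b => ?_⟩
  refine Eq.trans ?_ (der.desc_d b)
  rw [← OmAff.toSect_d f V U h b]
  exact congrArg der.desc.hom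
    ((CategoryTheory.asIso (OmAff.toSect f V U h)).toLinearEquiv.symm_apply_apply _)

/-- The derivation defining the inverse. -/
theorem exists_der {E : S.Modules} [Coh.IsQCoh E] {A : RelSpec.QCAlg S} {j : E ⟶ A.toModule}
    (hA : RelSpec.IsSymAlg E A j) {U : S.Opens} (hU : IsAffineOpen U) :
    ∃ D : Γ(A.spec, A.π ⁻¹ᵁ U) → Γ(KFlatLib.pb A.π E, A.π ⁻¹ᵁ U), (∀ a b, D (a + b) = D a + D b) ∧
      (∀ a b, D (a * b) = a • D b + b • D a) ∧ (∀ c, D (A.π.app U c) = 0) ∧
      ∀ m, D ((univMap j).app U m) = KFlatLib.puSec A.π m := by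
  let B := Γ(A.spec, A.π ⁻¹ᵁ U)
  let P := Γ(KFlatLib.pb A.π E, A.π ⁻¹ᵁ U)
  letI : Module Bᵐᵒᵖ P := Module.compHom P ((RingHom.id B).fromOpposite mul_comm)
  haveI : IsCentralScalar B P := ⟨fun r m => rfl⟩
  obtain ⟨Φ, ⟨hΦa, hΦm⟩, -⟩ := SymAlgLib.existsUnique_hom hA hU (R := TrivSqZeroExt B P)
    ((TrivSqZeroExt.inlHom B P).comp (A.π.app U).hom)
    (AddMonoidHom.mk' (fun m => (((univMap j).app U m, KFlatLib.puSec A.π m) : B × P))
      fun m m' => TrivSqZeroExt.ext (map_add ((univMap j).app U).hom m m')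
        (map_add (((Scheme.Modules.pullbackPushforwardAdjunction A.π).unit.app E).app U).hom m m'))
    fun a m => by
      refine TrivSqZeroExt.ext (Scheme.Modules.Hom.app_smul (univMap j) a m) ?_
      show KFlatLib.puSec A.π (a • m) = A.π.app U a • KFlatLib.puSec A.π m +
        (MulOpposite.op (show B from (univMap j).app U m)) • (0 : P)
      rw [smul_zero, add_zero]
      exact Scheme.Modules.Hom.app_smul ((Scheme.Modules.pullbackPushforwardAdjunction A.π).unit.app E) a m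
  let Φ' : B →+* TrivSqZeroExt B P := Φ.comp (A.gammaMap.app (op U)).hom
  have hcu : ∀ m, (A.gammaMap.app (op U)).hom ((univMap j).app U m) = j.app U m := fun m => by
    rw [CycBdlLib.univMap_app]
    exact congr(($(IsIso.inv_hom_id A.gammaMap).app (op U)).hom (j.app U m))
  have hca : ∀ c, (A.gammaMap.app (op U)).hom (A.π.app U c) = A.str.app (op U) c := fun c =>
    congr(($(A.π_c_gammaMap).app (op U)).hom c)
  have hfst : ∀ b, (Φ' b).fst = b := by
    obtain ⟨_, -, hu⟩ := SymAlgLib.existsUnique_hom hA hU (R := B) (A.π.app U).hom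
      (AddMonoidHom.mk' (fun m => (univMap j).app U m) fun m m' => map_add ((univMap j).app U).hom m m')
      fun a m => Scheme.Modules.Hom.app_smul (univMap j) a m
    have e : (TrivSqZeroExt.fstHom B B P).toRingHom.comp Φ = ((toF A).app (op U)).hom := by
      refine (hu _ ⟨fun a => ?_, fun m => ?_⟩).trans (hu _ ⟨fun a => ?_, fun m => ?_⟩).symm
      · exact congrArg TrivSqZeroExt.fst (hΦa a)
      · exact congrArg TrivSqZeroExt.fst (hΦm m)
      · exact congr(($(CycBdlLib.str_toF A).app (op U)).hom a)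
      · exact (CycBdlLib.univMap_app j U m).symm
    intro b
    exact (RingHom.congr_fun e _).trans (congr(($(IsIso.hom_inv_id A.gammaMap).app (op U)).hom b))
  refine ⟨fun b => (Φ' b).snd, fun a b => ?_, fun a b => ?_, fun c => ?_, fun m => ?_⟩
  · simp
  · simp only [map_mul, TrivSqZeroExt.snd_mul, hfst]
    rfl
  · show (Φ _).snd = 0
    rw [hca, hΦa]
    rfl
  · show (Φ _).snd = _
    rw [hcu, hΦm]
    rfl

theorem main {E : S.Modules} [Coh.IsQCoh E] {A : RelSpec.QCAlg S} {j : E ⟶ A.toModule} (hA : RelSpec.IsSymAlg E A j)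
    {Ω' : A.spec.Modules} (d : OmegaSh.Der A.π Ω') (hd : OmegaSh.IsUniversal d)
    (φ : (Scheme.Modules.pullback A.π).obj E ⟶ Ω')
    (hφ : ∀ (U : S.Opens) (t : Γ(E, U)) (t' : Γ(A.spec, A.π ⁻¹ᵁ U)),
      A.gammaMap.app (op U) t' = j.app U t →
        φ.app (A.π ⁻¹ᵁ U) (OmegaSh.pullSect A.π E U t) = d.app (A.π ⁻¹ᵁ U) t') :
    IsIso φ := by
  haveI : IsAffineHom A.π := ⟨fun U hU => by
    rw [A.π_preimage U hU]
    exact isAffineOpen_opensRange _⟩
  obtain ⟨b, hb, -⟩ := OmegaAffLib.isUniversal_dOmega (f := A.π) Ω' d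
  obtain ⟨c, hc, -⟩ := hd _ (OmegaSh.dOmega A.π)
  have hbd : ∀ (W : A.spec.Opens) (x : Γ(A.spec, W)), b.app W (OmegaSh.dSect A.π W x) = d.app W x := fun W x =>
    congrArg (fun D : OmegaSh.Der A.π Ω' => D.app W x) hb
  have hcd : ∀ (W : A.spec.Opens) (x : Γ(A.spec, W)), c.app W (d.app W x) = OmegaSh.dSect A.π W x := fun W x =>
    congrArg (fun D : OmegaSh.Der A.π (Omega.sheaf A.π) => D.app W x) hc
  have hbc : b ≫ c = 𝟙 _ := by
    refine (OmegaAffLib.isUniversal_dOmega (f := A.π) _ (OmegaSh.dOmega A.π)).unique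
      (PresheafOfModules.Derivation.ext ?_) (PresheafOfModules.Derivation.ext ?_)
    · funext W
      ext x
      exact (congrArg (c.app W.unop) (hbd W.unop x)).trans (hcd W.unop x)
    · funext W
      ext x
      rfl
  have hcb : c ≫ b = 𝟙 _ := by
    refine (hd Ω' d).unique (PresheafOfModules.Derivation.ext ?_) (PresheafOfModules.Derivation.ext ?_)
    · funext W
      ext x
      exact (congrArg (b.app W.unop) (hcd W.unop x)).trans (hbd W.unop x)
    · funext W
      ext x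
      rfl
  let ψ : KFlatLib.pb A.π E ⟶ Omega.sheaf A.π := φ ≫ c
  suffices h : IsIso ψ by
    have e : φ = ψ ≫ b := by rw [show ψ ≫ b = φ ≫ c ≫ b from Category.assoc _ _ _, hcb, Category.comp_id]
    haveI : IsIso b := ⟨c, hbc, hcb⟩
    rw [e]
    infer_instance
  haveI : Coh.IsQCoh (KFlatLib.pb A.π E) := KFlatLib.isQCoh_pullback A.π E
  haveI : Coh.IsQCoh (Omega.sheaf A.π) := OmegaAffLib.isQCoh_of_isUniversal (OmegaAffLib.isUniversal_dOmega (f := A.π))
  refine OmegaAffLib.isIso_of_bijective_charts ψ fun x => ?_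
  obtain ⟨U, hU, hxU, -⟩ := exists_isAffineOpen_mem_and_subset (X := S) (x := A.π x) (U := ⊤) trivial
  have hW : IsAffineOpen (A.π ⁻¹ᵁ U) := hU.preimage A.π
  refine ⟨A.π ⁻¹ᵁ U, hW, hxU, ?_⟩
  have hψm : ∀ m, ψ.app (A.π ⁻¹ᵁ U) (KFlatLib.puSec A.π m) =
      OmegaSh.dSect A.π (A.π ⁻¹ᵁ U) ((univMap j).app U m) := fun m => by
    have e1 := hφ U m ((univMap j).app U m) (by
      rw [CycBdlLib.univMap_app]
      exact congr(($(IsIso.inv_hom_id A.gammaMap).app (op U)).hom (j.app U m)))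
    exact (congrArg (c.app (A.π ⁻¹ᵁ U)) e1).trans (hcd _ _)
  obtain ⟨D, hadd, hmul, h0, hDm⟩ := exists_der hA hU
  obtain ⟨G, hG⟩ := exists_loc' (f := A.π) hW hU le_rfl (KFlatLib.pb A.π E) D hadd hmul fun r => by
    rw [← Scheme.Hom.app_eq_appLE]
    exact h0 r
  have hleft : ∀ z, G (ψ.app (A.π ⁻¹ᵁ U) z) = z := by
    refine fun z => span_puSec A.π E hU (fun z => G (ψ.app (A.π ⁻¹ᵁ U) z) = z) ?_ ?_ ?_ ?_ z
    · simp
    · intro a b ha hb; simp [ha, hb]
    · intro r a ha
      rw [Scheme.Modules.Hom.app_smul, map_smul, ha]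
    · intro m
      rw [hψm, hG, hDm]
  refine ⟨fun a a' e => by rw [← hleft a, e, hleft], fun t => ?_⟩
  let R : Submodule Γ(A.spec, A.π ⁻¹ᵁ U) Γ(Omega.sheaf A.π, A.π ⁻¹ᵁ U) :=
    { carrier := Set.range (ψ.app (A.π ⁻¹ᵁ U))
      add_mem' := by rintro _ _ ⟨a, rfl⟩ ⟨b, rfl⟩; exact ⟨a + b, map_add _ a b⟩
      zero_mem' := ⟨0, map_zero _⟩
      smul_mem' := by rintro r _ ⟨a, rfl⟩; exact ⟨r • a, Scheme.Modules.Hom.app_smul ψ r a⟩ }
  have hdC : ∀ r, OmegaSh.dSect A.π (A.π ⁻¹ᵁ U) (A.π.app U r) = 0 := fun r => OmegaSh.dSect_app A.π U r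
  let T : Subring Γ(A.spec, A.π ⁻¹ᵁ U) :=
    { carrier := {y | OmegaSh.dSect A.π (A.π ⁻¹ᵁ U) y ∈ R}
      one_mem' := by
        show _ ∈ R
        rw [← map_one (A.π.app U).hom, hdC]
        exact zero_mem R
      zero_mem' := by
        show _ ∈ R
        rw [← map_zero (A.π.app U).hom, hdC]
        exact zero_mem R
      mul_mem' := fun {y z} hy hz => by
        show _ ∈ R
        rw [OmegaSh.dSect_mul]
        exact add_mem (R.smul_mem _ hz) (R.smul_mem _ hy)
      add_mem' := fun {y z} hy hz => by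
        show _ ∈ R
        rw [OmegaSh.dSect_add]
        exact add_mem hy hz
      neg_mem' := fun {y} hy => by
        show _ ∈ R
        have h2 := OmegaSh.dSect_add A.π (A.π ⁻¹ᵁ U) (-y) y
        rw [neg_add_cancel, ← map_zero (A.π.app U).hom, hdC] at h2
        rw [eq_neg_of_add_eq_zero_left h2.symm]
        exact neg_mem hy }
  have hT : ∀ y, y ∈ T := fun y => by
    have hy : A.gammaMap.app (op U) y ∈ T.comap ((toF A).app (op U)).hom := by
      refine (Subring.closure_le.2 ?_) ((SymGenLib.gen_eq_top A j hA U hU).ge (Subring.mem_top _))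
      rintro _ (⟨r, rfl⟩ | ⟨m, rfl⟩)
      · show (toF A).app (op U) (A.str.app (op U) r) ∈ T
        rw [show (toF A).app (op U) (A.str.app (op U) r) = A.π.app U r from
          congr(($(CycBdlLib.str_toF A).app (op U)).hom r)]
        show _ ∈ R
        rw [hdC]
        exact zero_mem R
      · exact ⟨KFlatLib.puSec A.π m, (hψm m).trans (by rw [CycBdlLib.univMap_app])⟩
    have e : (toF A).app (op U) (A.gammaMap.app (op U) y) = y :=
      congr(($(IsIso.hom_inv_id A.gammaMap).app (op U)).hom y)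
    rw [← e]
    exact hy
  refine (Submodule.span_le (p := R)).2 ?_
    ((OmegaAffLib.span_dSect (f := A.π) ⟨hW, U, hU, le_rfl⟩).ge (Submodule.mem_top (x := t)))
  rintro _ ⟨y, rfl⟩
  exact hT y

end Aux



/-- Let S be a scheme, E a quasi-coherent O_S-module and A its symmetric algebra, given as a
quasi-coherent O_S-algebra with a module map j : E ⟶ A having the universal property; let X = V(E)
be the relative spectrum of A with structure morphism p : X ⟶ S, and let (Ω', d) be a sheaf of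
differentials of X over S (d a universal S-derivation of O_X into Ω'). Let φ : p^*E ⟶ Ω' be an
O_X-linear map such that, whenever a local section t of E over U and a function t' on p⁻¹U
correspond (t' maps to j(t) under the canonical identification of p_*O_X with A), φ sends the
pullback of t to d t'. Then φ is an isomorphism. -/
theorem result {S : Scheme.{u}} (E : S.Modules) (hE : Coh.IsQCoh E)
    (A : RelSpec.QCAlg S) (j : E ⟶ A.toModule) (hA : RelSpec.IsSymAlg E A j)
    (Ω' : A.spec.Modules) (d : OmegaSh.Der A.π Ω') (hd : OmegaSh.IsUniversal d)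
    (φ : (Scheme.Modules.pullback A.π).obj E ⟶ Ω')
    (hφ : ∀ (U : S.Opens) (t : Γ(E, U)) (t' : Γ(A.spec, A.π ⁻¹ᵁ U)),
      A.gammaMap.app (op U) t' = j.app U t →
        φ.app (A.π ⁻¹ᵁ U) (OmegaSh.pullSect A.π E U t) = d.app (A.π ⁻¹ᵁ U) t') :
    IsIso φ := by
  haveI := hE
  exact Aux.main hA d hd φ hφ

end Groth.Agent.S5970
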