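import Groth.Statements.S5972
import Groth.Agent.PrinPartLib.Affine

set_option autoImplicit false
universe u
open CategoryTheory CategoryTheory.Limits AlgebraicGeometry TopologicalSpace Opposite
open Nrm16

namespace Groth.Agent.S5972

/-- Let A → B be a ring homomorphism, X = Spec B, S = Spec A with f : X ⟶ S the induced morphism, and n
a natural number; identify B with the ring of global functions on X through the canonical
isomorphism. If ψ : B ⊗_A B → Γ(X, P^n_{X/S}) is the additive map with ψ(b ⊗ b') = b · d^n(b') for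
all b, b' in B, then ψ is surjective with kernel the (n+1)-st power of the kernel I of the
multiplication map B ⊗_A B → B. -/
theorem result (A B : Type u) [CommRing A] [CommRing B] [Algebra A B] (n : ℕ)
    (ψ : TensorProduct A B B →+
      Γ(PrinPart.P (Spec.map (CommRingCat.ofHom (algebraMap A B))) n, (⊤ : (Spec (CommRingCat.of B)).Opens)))
    (hψ : ∀ b b' : B, ψ (b ⊗ₜ[A] b') =
      (Scheme.ΓSpecIso (CommRingCat.of B)).inv b •
        PrinPart.dn (Spec.map (CommRingCat.ofHom (algebraMap A B))) n ⊤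
          ((Scheme.ΓSpecIso (CommRingCat.of B)).inv b')) :
    Function.Surjective ψ ∧ ψ.ker = (KaehlerDifferential.ideal A B ^ (n + 1)).toAddSubgroup := by
  let φ := CommRingCat.ofHom (algebraMap A B)
  let f := Spec.map φ
  let eA : A ≃+* Γ(Spec (CommRingCat.of A), ⊤) := (Scheme.ΓSpecIso (CommRingCat.of A)).symm.commRingCatIsoToRingEquiv
  let eB : B ≃+* Γ(Spec (CommRingCat.of B), ⊤) := (Scheme.ΓSpecIso (CommRingCat.of B)).symm.commRingCatIsoToRingEquiv
  have hUV : (⊤ : (Spec (CommRingCat.of B)).Opens) ≤ f ⁻¹ᵁ ⊤ := le_top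
  letI : Algebra Γ(Spec (CommRingCat.of A), ⊤) Γ(Spec (CommRingCat.of B), ⊤) :=
    (f.appLE ⊤ ⊤ hUV).hom.toAlgebra
  have hcompat : ∀ a, eB (algebraMap A B a) =
      algebraMap Γ(Spec (CommRingCat.of A), ⊤) Γ(Spec (CommRingCat.of B), ⊤) (eA a) := fun a => by
    show (φ ≫ (Scheme.ΓSpecIso (CommRingCat.of B)).inv) a =
      ((Scheme.ΓSpecIso (CommRingCat.of A)).inv ≫ f.appLE ⊤ ⊤ hUV) a
    rw [Scheme.ΓSpecIso_inv_naturality, show f.appLE ⊤ ⊤ hUV = f.appTop from
      (Scheme.Hom.app_eq_appLE f).symm]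
  obtain ⟨θ, hθs, hθd⟩ := PrinPartLib.exists_fnEquiv f n ⊤
  obtain ⟨j, hj, hjI⟩ := PrinPartLib.exists_tensorEquiv A B _ _ eA eB hcompat (n + 1)
  have hψ' : ∀ b b', θ (ψ (b ⊗ₜ b')) =
      (PrinPart.pr1 f n).app ⊤ (eB b) * PrinPartLib.d2 f n ⊤ (eB b') := fun b b' => by
    rw [hψ]
    exact (hθs _ _).trans (congrArg (_ * ·) (hθd _))
  refine ⟨fun y => ?_, ?_⟩
  · have hU : PrinPartLib.SmallAffine f ⊤ := ⟨isAffineOpen_top _, ⊤, isAffineOpen_top _, hUV⟩
    obtain ⟨z, hz⟩ := PrinPartLib.pairFn_surjective f n hU (θ y)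
    suffices H : ∀ z, ∃ w, θ (ψ w) = PrinPartLib.pairFn f n ⊤ z by
      obtain ⟨w, hw⟩ := H z
      exact ⟨w, θ.injective (hw.trans hz)⟩
    intro z
    induction z with
    | zero => exact ⟨0, by simp only [map_zero]⟩
    | add p q hp hq =>
      obtain ⟨wp, hp⟩ := hp
      obtain ⟨wq, hq⟩ := hq
      exact ⟨wp + wq, by simp only [map_add, hp, hq]⟩
    | tmul b c =>
      refine ⟨eB.symm b ⊗ₜ eB.symm c, ?_⟩
      rw [hψ', PrinPartLib.pairFn_tmul, RingEquiv.apply_symm_apply, RingEquiv.apply_symm_apply]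
  · ext z
    let θ' := (θ.toAddMonoidHom.comp ψ).comp j.symm.toAddEquiv.toAddMonoidHom
    have hθ' : ∀ x y, θ' (x ⊗ₜ y) = (PrinPart.pr1 f n).app ⊤ x * PrinPartLib.d2 f n ⊤ y := fun x y => by
      show θ (ψ (j.symm (x ⊗ₜ y))) = _
      rw [show j.symm (x ⊗ₜ y) = eB.symm x ⊗ₜ[A] eB.symm y from j.symm_apply_eq.2 (by
        rw [hj, RingEquiv.apply_symm_apply, RingEquiv.apply_symm_apply]), hψ',
        RingEquiv.apply_symm_apply, RingEquiv.apply_symm_apply]
    have h := PrinPartLib.pairKer f n (isAffineOpen_top _) (isAffineOpen_top _) hUV θ' hθ' (j z)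
    rw [hjI, show θ' (j z) = θ (ψ z) from congrArg (fun w => θ (ψ w)) (j.symm_apply_apply z),
      EmbeddingLike.map_eq_zero_iff] at h
    exact h

end Groth.Agent.S5972
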