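import Groth.Statements.S5973
import Groth.Agent.PrinPartLib.FP
import Groth.Agent.SweepSix.ConormalSpec
import Groth.Agent.ConsLib.ModLoci

set_option autoImplicit false
universe u
open CategoryTheory CategoryTheory.Limits AlgebraicGeometry TopologicalSpace Opposite
open Nrm16

namespace Groth.Agent.S5973

theorem isCoh_idealMod {X : Scheme.{u}} (J : X.IdealSheafData) (h : ∀ U : X.affineOpens, (J.ideal U).FG) :
    Coh.IsCoh (ClSub.idealMod J) := by
  haveI : Coh.IsQCoh (ClSub.idealMod J) := SweepSix.ConormalSpec.isQCoh_idealMod J
  refine ⟨inferInstance, QCohLib.isFT_of_finite fun p => ?_⟩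
  obtain ⟨U, hU, hpU, -⟩ := exists_isAffineOpen_mem_and_subset (x := p) (U := (⊤ : X.Opens)) trivial
  refine ⟨U, hU, hpU, ?_⟩
  let L : Γ(ClSub.idealMod J, U) →ₗ[Γ(X, U)] Γ(X, U) :=
    { toFun := fun s => OmegaSh.idealSect J U s
      map_add' := fun a b => map_add (OmegaSh.idealSect J U) a b
      map_smul' := fun r a => (congrArg (OmegaSh.fnSect X U) ((ClSub.idealModι J).app_smul r a)) }
  have hinj : Function.Injective L := fun a b hab => OmegaSh.idealModι_app_injective U J hab
  have hrange : LinearMap.range L = J.ideal ⟨U, hU⟩ := by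
    ext x
    constructor
    · rintro ⟨s, rfl⟩
      rw [← Scheme.IdealSheafData.ker_subschemeι_app, RingHom.mem_ker]
      exact congr($(congrArg (fun t => Scheme.Modules.Hom.app t U)
        (kernel.condition (ClSub.toSubscheme J))) s)
    · intro hx
      have h0 : (ClSub.toSubscheme J).app U (OmegaSh.strSect X U x) = 0 := by
        rw [OmegaSh.toSubscheme_app_strSect]
        rw [← Scheme.IdealSheafData.ker_subschemeι_app, RingHom.mem_ker] at hx
        exact hx
      refine ⟨OmegaSh.kerLift _ U (OmegaSh.strSect X U x) h0, ?_⟩
      show OmegaSh.fnSect X U ((ClSub.idealModι J).app U _) = x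
      erw [OmegaSh.ι_kerLift]
      rfl
  haveI : Module.Finite Γ(X, U) (LinearMap.range L) := by
    rw [hrange]
    exact Module.Finite.iff_fg.2 (h ⟨U, hU⟩)
  exact Module.Finite.equiv (LinearEquiv.ofInjective L hinj).symm


/-- Let f : Y ⟶ X be a closed immersion which is locally of finite presentation. Then for every n the
n-th graded piece Gr_n(f) = I^n/I^(n+1) of the ideal of f, as an O_Y-module, is quasi-coherent of
finite type. (The published statement allows any immersion locally of finite presentation; this row
states the case of a closed immersion.) -/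
theorem result {Y X : Scheme.{u}} (f : Y ⟶ X) [IsClosedImmersion f]
    [LocallyOfFinitePresentation f] (n : ℕ) :
    Coh.IsCoh (PrinPart.grMod f n) := by
  refine ConsLib.isCoh_pullback f ?_
  exact isCoh_idealMod (f.ker ^ n) fun U => by
    rw [Scheme.IdealSheafData.ideal_pow]
    exact (PrinPartLib.fg_ker f U).pow

end Groth.Agent.S5973
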