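import Groth.Statements.S5977
import Groth.Agent.PrinPartLib.Gen

set_option autoImplicit false
universe u
open CategoryTheory CategoryTheory.Limits AlgebraicGeometry TopologicalSpace Opposite
open Nrm16

namespace Groth.Agent.S5977

/-- Let f : Y ⟶ Z be a morphism and j : X ⟶ Y a closed immersion, and let φ : j^* P^n_{Y/Z} ⟶ P^n_{X/Z}
be the canonical O_X-linear map of sheaves of principal parts of order n, the one sending the
pullback of d^n b to d^n (j♯ b). Then φ is an epimorphism. (The published statement also identifies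
the kernel of φ as the ideal generated by the pullback of d^n of the ideal of j; this row states the
surjectivity.) -/
theorem result {X Y Z : Scheme.{u}} (f : Y ⟶ Z) (j : X ⟶ Y) [IsClosedImmersion j] (n : ℕ)
    (φ : (Scheme.Modules.pullback j).obj (PrinPart.P f n) ⟶ PrinPart.P (j ≫ f) n)
    (hφ : PrinPart.IsPMap f (j ≫ f) j n φ) :
    Epi φ := by
  refine ⟨fun {G} a b hab => PrinPartLib.hom_ext (j ≫ f) n fun U t => ?_⟩
  have key : ∀ (V : Y.Opens) (s : Γ(Y, V)),
      a.app (j ⁻¹ᵁ V) (PrinPart.dn (j ≫ f) n (j ⁻¹ᵁ V) (j.app V s)) =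
        b.app (j ⁻¹ᵁ V) (PrinPart.dn (j ≫ f) n (j ⁻¹ᵁ V) (j.app V s)) := fun V s => by
    rw [← hφ V s]
    exact congr(($hab).app (j ⁻¹ᵁ V)
      (OmegaSh.pullSect j (PrinPart.P f n) V (PrinPart.dn f n V s)))
  refine TopCat.Sheaf.eq_of_locally_eq' (⟨G.presheaf, G.isSheaf⟩ : TopCat.Sheaf AddCommGrpCat X)
    (fun V : {V : Y.Opens // IsAffineOpen V ∧ j ⁻¹ᵁ V ≤ U} => j ⁻¹ᵁ V.1) U (fun V => homOfLE V.2.2)
    ?_ _ _ ?_
  · intro x hx
    obtain ⟨O, hO, hOU⟩ := j.isClosedEmbedding.isInducing.isOpen_iff.mp U.2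
    obtain ⟨_, ⟨V, hV, rfl⟩, hxV, hle⟩ := Y.isBasis_affineOpens.exists_subset_of_mem_open
      (show j x ∈ O from hOU.ge hx) hO
    exact Opens.mem_iSup.2 ⟨⟨V, hV, fun z hz => hOU.le (hle hz)⟩, hxV⟩
  · rintro ⟨V, hV, hle⟩
    obtain ⟨s, hs⟩ := Scheme.Hom.app_surjective j V hV ((Coh.structureModule X).presheaf.map (homOfLE hle).op t)
    have hnat : ∀ c : PrinPart.P (j ≫ f) n ⟶ G, G.presheaf.map (homOfLE hle).op
        (c.app U (PrinPart.dP (j ≫ f) n (Coh.structureModule X) U t)) =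
        c.app (j ⁻¹ᵁ V) (PrinPart.dn (j ≫ f) n (j ⁻¹ᵁ V) (j.app V s)) := fun c => by
      refine (congr($(c.mapPresheaf.naturality (homOfLE hle).op) _)).symm.trans ?_
      refine congrArg (c.app (j ⁻¹ᵁ V)) ?_
      rw [hs]
      exact (PrinPart.dP_map (j ≫ f) n (Coh.structureModule X) hle t).symm
    exact (hnat a).trans ((key V s).trans (hnat b).symm)

end Groth.Agent.S5977
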