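import Groth.Statements.S5978
import Groth.Agent.PrinPartLib.Ops
import Groth.Agent.OmegaAffLib.Universal

set_option autoImplicit false
universe u
open CategoryTheory CategoryTheory.Limits AlgebraicGeometry TopologicalSpace Opposite
open Nrm16

namespace Groth.Agent.S5978

theorem altVanish_one {X : Scheme.{u}} {F G : X.Modules} (D : F.presheaf ⟶ G.presheaf)
    (h : ∀ (U : X.Opens) (a b : Γ(X, U)) (t : Γ(F, U)),
      D.app (op U) ((a * b) • t) - a • D.app (op U) (b • t) - b • D.app (op U) (a • t) +
        (a * b) • D.app (op U) t = 0) :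
    PrinPartLib.AltVanish 1 D := by
  intro U a t
  rw [show (Finset.univ : Finset (Finset (Fin 2))) = {∅, {0}, {1}, {0, 1}} by decide,
    Finset.sum_insert (by decide), Finset.sum_insert (by decide), Finset.sum_insert (by decide),
    Finset.sum_singleton]
  simp only [show (∅ : Finset (Fin 2))ᶜ = {0, 1} by decide, show ({0} : Finset (Fin 2))ᶜ = {1} by decide,
    show ({1} : Finset (Fin 2))ᶜ = {0} by decide, show ({0, 1} : Finset (Fin 2))ᶜ = ∅ by decide,
    Finset.prod_empty, Finset.prod_singleton, Finset.prod_pair (show (0 : Fin 2) ≠ 1 by decide),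
    Finset.card_empty, Finset.card_singleton, Finset.card_pair (show (0 : Fin 2) ≠ 1 by decide),
    pow_zero, pow_one, one_smul, neg_smul, show (-1 : ℤ) ^ 2 = 1 by norm_num]
  rw [← h U (a 0) (a 1) t]
  abel

theorem omega_hom_ext {X S : Scheme.{u}} {f : X ⟶ S} [QuasiSeparated f] {F : X.Modules}
    {α β : Omega.sheaf f ⟶ F}
    (h : ∀ (U : X.Opens) (s : Γ(X, U)),
      α.app U ((OmegaSh.dOmega f).app U s) = β.app U ((OmegaSh.dOmega f).app U s)) : α = β := by
  obtain ⟨γ, -, hγ⟩ := OmegaAffLib.isUniversal_dOmega (f := f) F ((OmegaSh.dOmega f).postcomp α.val)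
  refine (hγ α rfl).trans (hγ β ?_).symm
  refine PresheafOfModules.Derivation.ext ?_
  funext U
  ext s
  exact (h U.unop s).symm

theorem structure_hom_ext {X : Scheme.{u}} {F : X.Modules} {α β : Coh.structureModule X ⟶ F}
    (h : ∀ (U : X.Opens) (s : Γ(X, U)),
      α.app U (OmegaSh.strSect X U s) = β.app U (OmegaSh.strSect X U s)) : α = β := by
  refine Scheme.Modules.hom_ext _ _ fun U => ?_
  ext s
  exact h U (OmegaSh.fnSect X U s)

theorem coprod_smul {X : Scheme.{u}} {A F : X.Modules} (φ : A ⟶ F) (U : X.Opens) (r : Γ(X, U)) (a : Γ(A, U)) :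
    φ.app U (r • a) = r • φ.app U a := φ.app_smul r a


/-- Let f : X ⟶ S be a quasi-separated morphism, Ω_{X/S} its sheaf of differentials (the conormal sheaf
of the diagonal) with its derivation d, e : O_X ⟶ P^1_{X/S} the O_X-linear map s ↦ s·1 and ι :
Ω_{X/S} ⟶ P^1_{X/S} the O_X-linear map with ι(d s) = d^1 s − s·1 for every local function s. Then
the map O_X ⊕ Ω_{X/S} ⟶ P^1_{X/S} induced by e and ι is an isomorphism of O_X-modules for the left
structure of P^1_{X/S}; in other words Ω_{X/S} is identified with the augmentation ideal of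
P^1_{X/S} and d s = d^1 s − s. (The published text takes this as the definition of Ω_{X/S} for every
f; here Ω_{X/S} is the conormal sheaf of the diagonal, formed for quasi-separated f, and the
identification is stated.) -/
theorem result {X S : Scheme.{u}} (f : X ⟶ S) [QuasiSeparated f]
    (e : Coh.structureModule X ⟶ PrinPart.P f 1)
    (he : ∀ (U : X.Opens) (s : Γ(X, U)), e.app U (OmegaSh.strSect X U s) = s • PrinPart.dn f 1 U 1)
    (ι : Omega.sheaf f ⟶ PrinPart.P f 1)
    (hι : ∀ (U : X.Opens) (s : Γ(X, U)),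
      ι.app U ((OmegaSh.dOmega f).app U s) = PrinPart.dn f 1 U s - s • PrinPart.dn f 1 U 1) :
    IsIso (coprod.desc e ι) := by
  let O := Coh.structureModule X
  let Ω := Omega.sheaf f
  let d := OmegaSh.dOmega f
  let C := O ⨿ Ω
  let inl : O ⟶ C := coprod.inl
  let inr : Ω ⟶ C := coprod.inr
  let Dd : O.presheaf ⟶ C.presheaf :=
    { app := fun U => AddCommGrpCat.ofHom
        (((inr.app U.unop).hom.comp (d.app U.unop)).comp (OmegaSh.fnSect X U.unop))
      naturality := fun U V i => by
        ext s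
        refine (congrArg (inr.app V.unop) (d.d_map i s)).trans ?_
        exact congr($(inr.mapPresheaf.naturality i) (d.d s)) }
  let D : O.presheaf ⟶ C.presheaf := inl.mapPresheaf + Dd
  have hDval : ∀ (U : X.Opens) (s : Γ(X, U)),
      D.app (op U) (OmegaSh.strSect X U s) = inl.app U (OmegaSh.strSect X U s) + inr.app U (d.app U s) :=
    fun U s => rfl
  have hL : ∀ (U : X.Opens) (a b : Γ(X, U)), d.app U (a * b) = a • d.app U b + b • d.app U a :=
    fun U a b => OmegaAffLib.der_mul d U a b
  have hmul : ∀ (U : X.Opens) (a b : Γ(X, U)), a • OmegaSh.strSect X U b = OmegaSh.strSect X U (a * b) :=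
    fun U a b => rfl
  have hD : PrinPart.IsDiffOpLE f O C 1 D := by
    refine (PrinPartLib.isDiffOpLE_iff f).2 ⟨fun V s U hU t => ?_, altVanish_one D fun U a b t => ?_⟩
    · obtain ⟨t, rfl⟩ : ∃ t', OmegaSh.strSect X U t' = t := ⟨OmegaSh.fnSect X U t, rfl⟩
      rw [hmul, hDval, hDval, hL, show d.app U (X.presheaf.map (homOfLE hU).op (f.app V s)) = 0 from ?_,
        smul_zero, add_zero, smul_add, ← coprod_smul, hmul, ← coprod_smul]
      refine (OmegaAffLib.der_rs d hU (f.app V s)).trans ?_
      rw [show d.app (f ⁻¹ᵁ V) (f.app V s) = 0 from d.d_app (X := op V) s]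
      exact map_zero _
    · obtain ⟨t, rfl⟩ : ∃ t', OmegaSh.strSect X U t' = t := ⟨OmegaSh.fnSect X U t, rfl⟩
      simp only [hmul, hDval, smul_add, ← coprod_smul, hL]
      simp only [← mul_assoc, mul_comm b a, smul_add, map_add, ← mul_smul, coprod_smul]
      rw [mul_comm t a, mul_comm t b]
      abel
  obtain ⟨w, hw⟩ := hD
  have hone : ∀ U : X.Opens, d.app U 1 = 0 := fun U => by
    have := hL U 1 1
    rw [one_mul, one_smul] at this
    exact left_eq_add.1 this
  have hw' : ∀ (U : X.Opens) (s : Γ(X, U)), w.app U (PrinPart.dn f 1 U s) =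
      inl.app U (OmegaSh.strSect X U s) + inr.app U (d.app U s) := fun U s => (hw U _).symm.trans (hDval U s)
  have hw1 : ∀ (U : X.Opens) (s : Γ(X, U)), w.app U (s • PrinPart.dn f 1 U 1) =
      inl.app U (OmegaSh.strSect X U s) := fun U s => by
    rw [coprod_smul, hw', hone, map_zero, add_zero, ← coprod_smul, hmul, mul_one]
  refine ⟨⟨w, ?_, ?_⟩⟩
  · refine coprod.hom_ext ?_ ?_
    · rw [coprod.inl_desc_assoc, Category.comp_id]
      refine structure_hom_ext fun U s => ?_
      exact (congrArg (w.app U) (he U s)).trans (hw1 U s)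
    · rw [coprod.inr_desc_assoc, Category.comp_id]
      refine omega_hom_ext fun U s => ?_
      refine (congrArg (w.app U) (hι U s)).trans ((map_sub (w.app U).hom _ _).trans ?_)
      exact (congrArg₂ (· - ·) (hw' U s) (hw1 U s)).trans (add_sub_cancel_left _ _)
  · refine PrinPartLib.hom_ext f 1 fun U t => ?_
    obtain ⟨s, rfl⟩ : ∃ t', OmegaSh.strSect X U t' = t := ⟨OmegaSh.fnSect X U t, rfl⟩
    show (coprod.desc e ι).app U (w.app U (PrinPart.dn f 1 U s)) = PrinPart.dn f 1 U s
    rw [hw']
    refine (map_add ((coprod.desc e ι).app U).hom _ _).trans ?_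
    have h1 := congr(Scheme.Modules.Hom.app $(coprod.inl_desc e ι) U (OmegaSh.strSect X U s))
    have h2 := congr(Scheme.Modules.Hom.app $(coprod.inr_desc e ι) U (d.app U s))
    refine (congrArg₂ (· + ·) (h1.trans (he U s)) (h2.trans (hι U s))).trans ?_
    exact add_sub_cancel _ _

end Groth.Agent.S5978
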