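import Groth.Statements.S5979
import Mathlib.CategoryTheory.Adjunction.FullyFaithful

set_option autoImplicit false
universe u
open CategoryTheory CategoryTheory.Limits AlgebraicGeometry TopologicalSpace Opposite
open Nrm16

namespace Groth.Agent.S5979

open CategoryTheory AlgebraicGeometry in
theorem pushforward_isEquivalence {X Y : Scheme.{u}} (h : X ⟶ Y) [IsIso h] :
    (Scheme.Modules.pushforward h).IsEquivalence :=
  (CategoryTheory.Equivalence.mk (Scheme.Modules.pushforward h) (Scheme.Modules.pushforward (inv h))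
    ((Scheme.Modules.pushforwardId X).symm ≪≫ Scheme.Modules.pushforwardCongr (IsIso.hom_inv_id h).symm ≪≫
      (Scheme.Modules.pushforwardComp h (inv h)).symm)
    (Scheme.Modules.pushforwardComp (inv h) h ≪≫ Scheme.Modules.pushforwardCongr (IsIso.inv_hom_id h) ≪≫
      Scheme.Modules.pushforwardId Y)).isEquivalence_functor

open CategoryTheory AlgebraicGeometry in
theorem bijective_pullSect {X Y : Scheme.{u}} (h : X ⟶ Y) [IsIso h] (M : Y.Modules) (U : Y.Opens) :
    Function.Bijective (OmegaSh.pullSect h M U) := by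
  haveI := pushforward_isEquivalence h
  let adj := Scheme.Modules.pullbackPushforwardAdjunction h
  haveI := adj.isEquivalence_left_of_isEquivalence_right
  haveI : IsIso (adj.unit.app M) := inferInstance
  exact ConcreteCategory.bijective_of_isIso ((adj.unit.app M).app U)

open CategoryTheory AlgebraicGeometry in
theorem isIso_inclusion {X : Scheme.{u}} {I J : X.IdealSheafData} (h : I ≤ J) (h' : J ≤ I) :
    IsIso (Scheme.IdealSheafData.inclusion h) :=
  ⟨Scheme.IdealSheafData.inclusion h', by rw [Scheme.IdealSheafData.inclusion_comp, Scheme.IdealSheafData.inclusion_id],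
    by rw [Scheme.IdealSheafData.inclusion_comp, Scheme.IdealSheafData.inclusion_id]⟩

open CategoryTheory AlgebraicGeometry in
theorem isIso_pr2_zero {X S : Scheme.{u}} (f : X ⟶ S) : IsIso (PrinPart.pr2 f 0) := by
  haveI : IsIso (Scheme.IdealSheafData.inclusion (PrinPart.ker_pow_succ_le (PrinPart.diagCl f) 0)) :=
    isIso_inclusion _ fun U => by
      show (PrinPart.diagCl f).ker.ideal U ≤ (PrinPart.diagCl f).ker.ideal U ^ (0 + 1)
      rw [zero_add, pow_one]
  haveI : IsIso (PrinPart.toNbhd f 0) := by
    unfold PrinPart.toNbhd PrinPart.toInfNbhd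
    infer_instance
  haveI : IsIso (PrinPart.toNbhd f 0 ≫ PrinPart.pr2 f 0) := by rw [PrinPart.toNbhd_pr2]; infer_instance
  exact IsIso.of_isIso_comp_left (PrinPart.toNbhd f 0) (PrinPart.pr2 f 0)

/-- Let f : X ⟶ S be a morphism of schemes and F an O_X-module. For every open U of X the canonical
operator d^0 : Γ(U, F) ⟶ Γ(U, P^0_{X/S}(F)) is bijective; so P^0_{X/S}(F) is identified with F, and
P^0_{X/S} with O_X, through d^0. -/
theorem result {X S : Scheme.{u}} (f : X ⟶ S) (F : X.Modules) (U : X.Opens) :
    Function.Bijective (PrinPart.dP f 0 F U) := by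
  haveI := isIso_pr2_zero f
  let P := (Scheme.Modules.pullback (PrinPart.pr2 f 0)).obj F
  haveI : IsIso (P.presheaf.map (homOfLE (PrinPart.preimage_pr1 f 0 U).le).op) := by
    haveI : IsIso (homOfLE (PrinPart.preimage_pr1 f 0 U).le) :=
      ⟨homOfLE (PrinPart.preimage_pr1 f 0 U).ge, Subsingleton.elim _ _, Subsingleton.elim _ _⟩
    infer_instance
  exact (ConcreteCategory.bijective_of_isIso (P.presheaf.map (homOfLE (PrinPart.preimage_pr1 f 0 U).le).op)).comp
    (bijective_pullSect (PrinPart.pr2 f 0) F U)

end Groth.Agent.S5979
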