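import Groth.Statements.S5981
import Groth.Agent.PrinPartLib.Gen

set_option autoImplicit false
universe u
open CategoryTheory CategoryTheory.Limits AlgebraicGeometry TopologicalSpace Opposite
open Nrm16

namespace Groth.Agent.S5981

/-- Let f : X ⟶ Y and g : Y ⟶ Z be morphisms of schemes and n a natural number, and let φ : (𝟙_X)^*
P^n_{X/Z} ⟶ P^n_{X/Y} be the canonical O_X-linear map of sheaves of principal parts of order n, the
one sending the pullback of d^n b (relative to Z) to d^n b (relative to Y) for every local function
b. Then φ is an epimorphism. (The published statement also describes the kernel as the ideal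
generated by the image of the augmentation ideal of f^* P^n_{Y/Z}; this row states the
surjectivity.) -/
theorem result {X Y Z : Scheme.{u}} (f : X ⟶ Y) (g : Y ⟶ Z) (n : ℕ)
    (φ : (Scheme.Modules.pullback (𝟙 X)).obj (PrinPart.P (f ≫ g) n) ⟶ PrinPart.P f n)
    (hφ : PrinPart.IsPMap (f ≫ g) f (𝟙 X) n φ) :
    Epi φ := by
  refine ⟨fun {G} a b hab => PrinPartLib.hom_ext f n fun U t => ?_⟩
  have hs : PrinPart.dP f n (Coh.structureModule X) U t = PrinPart.dn f n U ((𝟙 X : X ⟶ X).app U t) := rfl
  have h2 := hφ U t
  have key := congr(($hab).app U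
    (OmegaSh.pullSect (𝟙 X) (PrinPart.P (f ≫ g) n) U (PrinPart.dn (f ≫ g) n U t)))
  exact (congrArg (a.app U) h2.symm).trans (key.trans (congrArg (b.app U) h2))

end Groth.Agent.S5981
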