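import Groth.Statements.S5987
import Groth.Agent.SMTLib.CMQuot
import Groth.Agent.CommAlgDim.CM

set_option autoImplicit false
universe u
open EGA418

namespace Groth.Agent.S5987
open IsLocalRing RingTheory.Sequence in
/-- Coset prime avoidance for pairwise incomparable primes. -/
theorem exists_add_notMem {A : Type u} [CommRing A] (S : Set (Ideal A)) (hS : S.Finite)
    (hp : ∀ q ∈ S, q.IsPrime) (hinc : ∀ q ∈ S, ∀ q' ∈ S, q ≤ q' → q = q') (b : A) (J : Ideal A)
    (h : ∀ q ∈ S, b ∈ q → ¬ J ≤ q) : ∃ k ∈ J, ∀ q ∈ S, b + k ∉ q := by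
  classical
  let S₁ := hS.toFinset.filter fun q => b ∈ q
  let S₂ := hS.toFinset.filter fun q => b ∉ q
  let K : Ideal A := J ⊓ S₂.inf id
  have hK : ¬ ((K : Set A) ⊆ ⋃ q ∈ (S₁ : Set (Ideal A)), (q : Set A)) := by
    rw [Ideal.subset_union_prime (f := fun q : Ideal A => q) ⊥ ⊥ (fun q hq _ _ => hp q (by
      simpa [S₁] using (Finset.mem_filter.1 hq).1))]
    rintro ⟨q, hq, hKq⟩
    simp only [S₁, Finset.mem_filter, Set.Finite.mem_toFinset] at hq
    rcases (hp q hq.1).inf_le.1 hKq with h1 | h1
    · exact h q hq.1 hq.2 h1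
    · obtain ⟨q', hq', hle⟩ := ((hp q hq.1).inf_le').1 h1
      simp only [S₂, Finset.mem_filter, Set.Finite.mem_toFinset] at hq'
      exact hq'.2 (hinc q' hq'.1 q hq.1 hle ▸ hq.2)
  obtain ⟨k, hk, hk'⟩ := Set.not_subset.1 hK
  refine ⟨k, hk.1, fun q hq hbk => ?_⟩
  by_cases hb : b ∈ q
  · refine hk' (Set.mem_biUnion (show q ∈ (S₁ : Set (Ideal A)) by simp [S₁, hq, hb]) ?_)
    exact (Ideal.add_mem_iff_right q hb).1 hbk
  · have hkq : k ∈ q := (Finset.inf_le (f := id) (show q ∈ S₂ by simp [S₂, hq, hb])) hk.2
    exact hb ((Ideal.add_mem_iff_left q hkq).1 hbk)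

open IsLocalRing RingTheory.Sequence in
theorem lift_aux {A : Type u} [CommRing A] [IsNoetherianRing A] [IsLocalRing A] (p : Ideal A) [p.IsPrime]
    [LocCoh.IsCohenMacaulayLocalRing (Localization.AtPrime p)] (s : ℕ)
    (hs : ringKrullDim (Localization.AtPrime p) = s) (t : Fin s → Localization.AtPrime p)
    (ht : ∀ i, t i ∈ maximalIdeal (Localization.AtPrime p))
    (hsop : ringKrullDim (Localization.AtPrime p ⧸ Ideal.span (Set.range t)) = 0) :
    ∀ (n : ℕ) (hn : n ≤ s), ∃ x a : Fin n → A, (∀ i, x i ∈ p) ∧ (∀ i, a i ∉ p) ∧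
      ringKrullDim (A ⧸ Ideal.span (Set.range x)) + (n : WithBot ℕ∞) = ringKrullDim A ∧
      (∀ i : Fin n, algebraMap A (Localization.AtPrime p) (x i) -
          algebraMap A (Localization.AtPrime p) (a i) * t (Fin.castLE hn i) ∈
        Ideal.span (t '' {j : Fin s | (j : ℕ) < (i : ℕ)})) ∧
      (Ideal.span (Set.range x)).map (algebraMap A (Localization.AtPrime p)) =
        Ideal.span (t '' {j : Fin s | (j : ℕ) < n}) := by
  intro n
  induction n with
  | zero =>
    intro _
    refine ⟨Fin.elim0, Fin.elim0, fun i => i.elim0, fun i => i.elim0, ?_, fun i => i.elim0, by simp⟩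
    rw [Set.range_eq_empty, Ideal.span_empty, Nat.cast_zero, add_zero]
    exact ringKrullDim_eq_of_ringEquiv (RingEquiv.quotientBot A)
  | succ n ih =>
    intro hn
    obtain ⟨x, a, hxp, hap, hd, hc, hmap⟩ := ih (by omega)
    let R := Localization.AtPrime p
    let T : Ideal R := Ideal.span (t '' {j : Fin s | (j : ℕ) < n})
    let I : Ideal A := Ideal.span (Set.range x)
    let tn : R := t ⟨n, by omega⟩
    have hreg : IsSMulRegular (R ⧸ T) tn := by
      have hR := SMTLib.isCM_of_isCohenMacaulayLocalRing R
      have hlist : Ideal.ofList (List.ofFn t) = Ideal.span (Set.range t) := by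
        rw [Ideal.ofList]; congr 1; ext r; simp [List.mem_ofFn]
      have h1 : IsRegular R (List.ofFn t) := CommAlgDim.isRegular_of_dim hR
        (fun r hr => by obtain ⟨i, rfl⟩ := List.mem_ofFn.1 hr; exact ht i)
        (by rw [hlist, hsop, List.length_ofFn, zero_add]; exact hs.ge)
      have h2 := h1.toIsWeaklyRegular.regular_mod_prev n (by rw [List.length_ofFn]; omega)
      have htake : Ideal.ofList ((List.ofFn t).take n) = T := by
        refine congrArg Ideal.span (Set.ext fun r => ?_)
        simp only [Set.mem_setOf_eq, List.mem_take_iff_getElem, List.getElem_ofFn, List.length_ofFn, Set.mem_image]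
        constructor
        · rintro ⟨i, hi, rfl⟩; exact ⟨⟨i, by omega⟩, by simp at hi ⊢; omega, rfl⟩
        · rintro ⟨j, hj, rfl⟩; exact ⟨j, by simp; omega, rfl⟩
      rw [htake, smul_eq_mul, Ideal.mul_top] at h2
      simpa [tn] using h2
    obtain ⟨⟨b, c⟩, hbc⟩ := IsLocalization.surj p.primeCompl tn
    have hbp : b ∈ p := (IsLocalization.AtPrime.to_map_mem_maximal_iff R p b).1
      (hbc ▸ Ideal.mul_mem_right _ _ (ht _))
    let J : Ideal A := (I.map (algebraMap A R)).comap (algebraMap A R)
    have hav : ∀ q ∈ I.minimalPrimes, b ∈ q → ¬ J ≤ q := by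
      intro q hq hbq hJ
      haveI := hq.isPrime
      have hqJ : q ∈ J.minimalPrimes := by
        refine ⟨⟨hq.isPrime, hJ⟩, fun q' hq' hle => hq.2 ⟨hq'.1, Ideal.le_comap_map.trans hq'.2⟩ hle⟩
      obtain ⟨Q, hQ, hQq⟩ := Ideal.exists_minimalPrimes_comap_eq (algebraMap A R) q hqJ
      haveI := hQ.isPrime
      have hQT : Q ∈ (Module.annihilator R (R ⧸ T)).minimalPrimes := by
        rw [Ideal.annihilator_quotient, show T = I.map (algebraMap A R) from hmap.symm]
        exact hQ
      refine hreg.notMem_of_mem_minimalPrimes hQT ?_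
      have h3 : algebraMap A R b ∈ Q := by rw [← hQq] at hbq; exact hbq
      rw [← hbc] at h3
      exact (Ideal.mul_unit_mem_iff_mem Q (IsLocalization.map_units R c)).1 h3
    obtain ⟨k, hkJ, hk⟩ := exists_add_notMem I.minimalPrimes (I.finite_minimalPrimes_of_isNoetherianRing A)
      (fun q hq => hq.isPrime) (fun q hq q' hq' h => le_antisymm h (hq'.2 hq.1 h)) b J hav
    have hIp : I ≤ p := Ideal.span_le.2 (by rintro _ ⟨i, rfl⟩; exact hxp i)
    have hkp : k ∈ p := by
      refine (IsLocalization.AtPrime.to_map_mem_maximal_iff R p k).1 ((?_ : I.map (algebraMap A R) ≤ maximalIdeal R) hkJ)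
      rw [Ideal.map_le_iff_le_comap]
      exact fun z hz => (IsLocalization.AtPrime.to_map_mem_maximal_iff R p z).2 (hIp hz)
    have hspan : Ideal.span (Set.range (Fin.snoc x (b + k))) = I ⊔ Ideal.span {b + k} := by
      rw [Fin.range_snoc, Ideal.span_insert, sup_comm]
    have hkT : algebraMap A R k ∈ T := by rw [← show I.map (algebraMap A R) = T from hmap]; exact hkJ
    have hnew : algebraMap A R (b + k) - algebraMap A R (c : A) * tn ∈ T := by
      rw [mul_comm, hbc, map_add, add_sub_cancel_left]; exact hkT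
    refine ⟨Fin.snoc x (b + k), Fin.snoc a (c : A), fun i => ?_, fun i => ?_, ?_, fun i => ?_, ?_⟩
    · refine Fin.lastCases ?_ (fun i => ?_) i <;> simp only [Fin.snoc_last, Fin.snoc_castSucc]
      · exact add_mem hbp hkp
      · exact hxp i
    · refine Fin.lastCases ?_ (fun i => ?_) i <;> simp only [Fin.snoc_last, Fin.snoc_castSucc]
      · exact c.2
      · exact hap i
    · have hIm : I ≠ ⊤ := fun h => (Ideal.IsPrime.ne_top ‹p.IsPrime›) (top_le_iff.1 (h ▸ hIp))
      haveI : Nontrivial (A ⧸ I) := Ideal.Quotient.nontrivial_iff.2 hIm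
      haveI : IsLocalRing (A ⧸ I) := .of_surjective' _ Ideal.Quotient.mk_surjective
      let z : A ⧸ I := Ideal.Quotient.mk I (b + k)
      have hz : z ∈ maximalIdeal (A ⧸ I) := by
        haveI : IsLocalHom (Ideal.Quotient.mk I) := IsLocalHom.of_surjective _ Ideal.Quotient.mk_surjective
        exact map_nonunit (Ideal.Quotient.mk I) _ (le_maximalIdeal (Ideal.IsPrime.ne_top ‹_›) (add_mem hbp hkp))
      have hzn : ∀ q ∈ (Module.annihilator (A ⧸ I) (A ⧸ I)).minimalPrimes, z ∉ q := by
        rw [Module.annihilator_eq_bot.2 inferInstance]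
        intro q hq hzq
        refine hk _ ?_ (show b + k ∈ q.comap (Ideal.Quotient.mk I) from hzq)
        rw [Ideal.minimalPrimes_eq_comap]
        exact ⟨q, hq, rfl⟩
      have h4 := Module.supportDim_quotSMulTop_succ_eq_of_notMem_minimalPrimes_of_mem_maximalIdeal hzn hz
      rw [Module.supportDim_self_eq_ringKrullDim] at h4
      have h5 : ringKrullDim (A ⧸ (I ⊔ Ideal.span {b + k})) = Module.supportDim (A ⧸ I) (QuotSMulTop z (A ⧸ I)) := by
        rw [show Module.supportDim (A ⧸ I) (QuotSMulTop z (A ⧸ I)) = _ from Module.supportDim_quotient_eq_ringKrullDim _]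
        refine ringKrullDim_eq_of_ringEquiv ((DoubleQuot.quotQuotEquivQuotSup I _).symm.trans
          (Ideal.quotEquivOfEq ?_))
        rw [Ideal.map_span, Set.image_singleton, ← Submodule.ideal_span_singleton_smul, smul_eq_mul, Ideal.mul_top]
      rw [hspan, h5, Nat.cast_succ, add_comm (n : WithBot ℕ∞) 1, ← add_assoc, h4]
      exact hd
    · refine Fin.lastCases ?_ (fun i => ?_) i <;> simp only [Fin.snoc_last, Fin.snoc_castSucc]
      · exact hnew
      · exact hc i
    · rw [hspan, Ideal.map_sup, show I.map (algebraMap A R) = T from hmap, Ideal.map_span, Set.image_singleton,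
        show {j : Fin s | (j : ℕ) < n + 1} = insert ⟨n, by omega⟩ {j : Fin s | (j : ℕ) < n} by
          ext j; simp [Fin.ext_iff]; omega,
        Set.image_insert_eq, Ideal.span_insert, sup_comm _ T]
      refine le_antisymm (sup_le le_sup_left ?_) (sup_le le_sup_left ?_) <;> rw [Ideal.span_singleton_le_iff_mem]
      · have h7 : algebraMap A R (c : A) * tn ∈ T ⊔ Ideal.span {tn} :=
          Submodule.mem_sup_right (Ideal.mul_mem_left _ _ (Ideal.mem_span_singleton_self _))
        simpa using add_mem (Submodule.mem_sup_left (T := Ideal.span {tn}) hnew) h7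
      · refine (Ideal.unit_mul_mem_iff_mem _ (IsLocalization.map_units R c)).1 ?_
        simpa using sub_mem (Submodule.mem_sup_right (S := T) (Ideal.mem_span_singleton_self (algebraMap A R (b + k))))
          (Submodule.mem_sup_left (T := Ideal.span {algebraMap A R (b + k)}) hnew)

/-- Let A be a Noetherian local ring and p a prime ideal of A such that the local ring A_p is
Cohen–Macaulay, of dimension s; let t_1, …, t_s be a system of parameters of A_p (elements of its
maximal ideal such that A_p/(t_1, …, t_s) has dimension 0). Then there are elements x_1, …, x_s of p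
which form part of a system of parameters of A, in the sense that dim A/(x_1, …, x_s) + s = dim A,
and elements a_1, …, a_s of A outside p, such that for every i the image of x_i in A_p is congruent
to a_i t_i modulo the ideal (t_1, …, t_{i-1}) A_p. (The published statement asks for the image of
x_i to be congruent to t_i itself; this row allows the factor a_i outside p, which is what the
published proof gives, since it first multiplies each t_i by a unit of A_p to bring it into the
image of A. The published form fails already for s = 1: for A the localization of k[X, Y] at (X, Y),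
p = (X) and t_1 = X/Y, the congruence modulo the zero ideal asks for an element of A with image X/Y
in A_p, and there is none.) -/
theorem result (A : Type u) [CommRing A]
    [IsNoetherianRing A] [IsLocalRing A] (p : Ideal A) [p.IsPrime]
    [LocCoh.IsCohenMacaulayLocalRing (Localization.AtPrime p)] (s : ℕ)
    (hs : ringKrullDim (Localization.AtPrime p) = s) (t : Fin s → Localization.AtPrime p)
    (ht : ∀ i, t i ∈ IsLocalRing.maximalIdeal (Localization.AtPrime p))
    (hsop : ringKrullDim (Localization.AtPrime p ⧸ Ideal.span (Set.range t)) = 0) :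
    ∃ x a : Fin s → A, (∀ i, x i ∈ p) ∧ (∀ i, a i ∉ p) ∧
      ringKrullDim (A ⧸ Ideal.span (Set.range x)) + (s : WithBot ℕ∞) = ringKrullDim A ∧
      ∀ i : Fin s, algebraMap A (Localization.AtPrime p) (x i) -
          algebraMap A (Localization.AtPrime p) (a i) * t i ∈
        Ideal.span (t '' {j : Fin s | j < i}) := by
  obtain ⟨x, a, hx, ha, hd, hc, -⟩ := lift_aux p s hs t ht hsop s le_rfl
  exact ⟨x, a, hx, ha, hd, fun i => by simpa using hc i⟩

end Groth.Agent.S5987
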