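import Groth.Statements.S5988
import Groth.Agent.CKaehlerLib.FracDiff
-- import your own Groth.Agent.* helpers here

set_option autoImplicit false
universe u
open scoped TensorProduct
open EGA418

namespace Groth.Agent.S5988

/-- Let k be a field of characteristic p > 0, C a complete Noetherian local k-algebra which is an
integral domain whose residue field is a finite extension of k, n the dimension of C and L a
fraction field of C. Let Υ be the module of imperfection of L over k, namely the kernel of the
canonical map L ⊗_k Ω_k ⟶ Ω_L on absolute differentials. Then Υ is a finite-dimensional L-vector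
space and dim_L Ω_{L/k} ≥ n + dim_L Υ, the dimension of Ω_{L/k} being taken as a cardinal. (The
published statement also asserts that Ω_{L/k} is finite-dimensional; this row does not, since that
fails when k has infinite degree over its subfield of p-th powers: for k = F_p(t_1, t_2, …) and C =
k[[T]] the L-vector space Ω_{L/k} is infinite-dimensional. The published proof establishes exactly
the finiteness of Υ and the inequality, through a power-series subalgebra k[[T_1, …, T_n]] of C over
which C is finite.) -/
theorem result (p : ℕ) [Fact p.Prime]
    (k C L : Type u) [Field k] [CharP k p] [CommRing C] [IsDomain C] [IsNoetherianRing C] [IsLocalRing C]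
    [Algebra k C] [IsAdicComplete (IsLocalRing.maximalIdeal C) C]
    [Module.Finite k (IsLocalRing.ResidueField C)] (n : ℕ) (hn : ringKrullDim C = n)
    [Field L] [Algebra C L] [IsFractionRing C L] [Algebra k L] [IsScalarTower k C L] :
    Module.Finite L (LinearMap.ker (KaehlerDifferential.mapBaseChange ℤ k L)) ∧
      (n : Cardinal.{u}) + Module.rank L (LinearMap.ker (KaehlerDifferential.mapBaseChange ℤ k L)) ≤
        Module.rank L (Ω[L⁄k]) := by
  obtain ⟨hU, hle, -⟩ := CKaehlerLib.fractionField_formula k C L hn
  haveI := hU
  refine ⟨hU, ?_⟩
  by_cases h : Module.Finite L (Ω[L⁄k])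
  · haveI := h
    rw [← Module.finrank_eq_rank, ← Module.finrank_eq_rank]
    exact_mod_cast hle h
  · have h' : Cardinal.aleph0 ≤ Module.rank L (Ω[L⁄k]) := not_lt.1 fun hlt => h (Module.rank_lt_aleph0_iff.1 hlt)
    refine le_trans (le_of_lt ?_) h'
    exact Cardinal.add_lt_aleph0 (Cardinal.natCast_lt_aleph0 (n := n)) (Module.rank_lt_aleph0 L _)

end Groth.Agent.S5988
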