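import Groth.Statements.S5992
import Groth.Agent.CKaehlerLib.PowerFinal
-- import your own Groth.Agent.* helpers here

set_option autoImplicit false
universe u
open scoped TensorProduct
open EGA418

namespace Groth.Agent.S5992

/-- Let k be a field of characteristic exponent p such that k is finite over its subfield k^p (the
Frobenius endomorphism of k is a finite ring map), and A a complete Noetherian local k-algebra which
is an integral domain, not a field, whose residue field is a finite extension of k; let n = dim A.
Then there is a finite purely inseparable extension k' of k such that, A' denoting the reduction of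
k' ⊗_k A modulo its nilradical, A' is a local domain and there is a local k'-algebra homomorphism
from the power series ring k'[[T_1, …, T_n]] to A' which is injective, makes A' a finite algebra,
and is unramified at the zero ideal of A' (so the fraction field of A' is a finite separable
extension of that of k'[[T_1, …, T_n]]). -/
theorem result (p : ℕ) (k A : Type u) [Field k]
    [ExpChar k p] (hk : (frobenius k p).Finite) [CommRing A] [IsDomain A] [IsNoetherianRing A] [IsLocalRing A]
    [Algebra k A] [IsAdicComplete (IsLocalRing.maximalIdeal A) A]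
    [Module.Finite k (IsLocalRing.ResidueField A)] (hA : ¬ IsField A) (n : ℕ) (hn : ringKrullDim A = n) :
    ∃ (k' : Type u) (_ : Field k') (_ : Algebra k k'), Module.Finite k k' ∧ IsPurelyInseparable k k' ∧
      ∃ (_ : IsDomain ((k' ⊗[k] A) ⧸ nilradical (k' ⊗[k] A)))
        (_ : IsLocalRing ((k' ⊗[k] A) ⧸ nilradical (k' ⊗[k] A)))
        (_ : Algebra (MvPowerSeries (Fin n) k') ((k' ⊗[k] A) ⧸ nilradical (k' ⊗[k] A)))
        (_ : IsScalarTower k' (MvPowerSeries (Fin n) k') ((k' ⊗[k] A) ⧸ nilradical (k' ⊗[k] A))),
        IsLocalHom (algebraMap (MvPowerSeries (Fin n) k') ((k' ⊗[k] A) ⧸ nilradical (k' ⊗[k] A))) ∧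
        Function.Injective (algebraMap (MvPowerSeries (Fin n) k') ((k' ⊗[k] A) ⧸ nilradical (k' ⊗[k] A))) ∧
        Module.Finite (MvPowerSeries (Fin n) k') ((k' ⊗[k] A) ⧸ nilradical (k' ⊗[k] A)) ∧
        Algebra.IsUnramifiedAt (MvPowerSeries (Fin n) k') (⊥ : Ideal ((k' ⊗[k] A) ⧸ nilradical (k' ⊗[k] A))) := by
  classical
  obtain ⟨e, hgen⟩ : ∃ e : ℕ, CharZero k ∨ ∃ (_ : Fact p.Prime) (_ : CharP k p) (_ : CharP (FractionRing A) p)
      (x : Fin n → FractionRing A), (∀ i, x i ∈ CKaehlerLib.powField p k (FractionRing A) e) ∧
        ∀ S : Subfield (FractionRing A), (∀ c : k, algebraMap k _ c ∈ S) →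
          (∀ a ∈ CKaehlerLib.powField p k (FractionRing A) e, a ^ p ∈ S) → (∀ i, x i ∈ S) →
          ∀ a ∈ CKaehlerLib.powField p k (FractionRing A) e, a ∈ S := by
    cases ‹ExpChar k p› with
    | zero => exact ⟨0, Or.inl inferInstance⟩
    | prime hp =>
      haveI : Fact p.Prime := ⟨hp⟩
      haveI : CharP (FractionRing A) p :=
        charP_of_injective_algebraMap (algebraMap k (FractionRing A)).injective p
      have hk' : Module.Finite (frobenius k p).fieldRange k :=
        RingHom.finite_algebraMap.1 (RingHom.Finite.of_comp_finite (f := (frobenius k p).rangeRestrictField)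
          (g := (frobenius k p).fieldRange.subtype) hk)
      obtain ⟨e, x, h⟩ := CKaehlerLib.exists_powField_generators p hk' hn (FractionRing A)
      exact ⟨e, Or.inr ⟨inferInstance, inferInstance, inferInstance, x, h⟩⟩
  obtain ⟨k', fk', ak', ι, hι, hfin⟩ := CKaehlerLib.exists_root_field p e k hk
  obtain ⟨hdom, hloc, hnoeth, hcompl, hres, hdim, hfield, φ, hφinj, hφ⟩ :=
    CKaehlerLib.exists_model p e ι hι (A := A)
  refine ⟨k', fk', ak', hfin, CKaehlerLib.isPurelyInseparable_iota p e ι hι, hdom, hloc, ?_⟩
  have hn' := hdim.trans hn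
  rcases hgen with h0 | ⟨hp, hchar, hcharL, x, hx, hgen⟩
  · haveI : CharZero k' := charZero_of_injective_algebraMap (algebraMap k k').injective
    obtain ⟨w, hwinj, hwfin, -⟩ :=
      CKaehlerLib.exists_finite_injective k' ((k' ⊗[k] A) ⧸ nilradical (k' ⊗[k] A)) n hn'
    haveI : IsDomain (MvPowerSeries (Fin n) k') := NoZeroDivisors.to_isDomain _
    letI alg : Algebra (MvPowerSeries (Fin n) k') ((k' ⊗[k] A) ⧸ nilradical (k' ⊗[k] A)) := w.toRingHom.toAlgebra
    haveI : Module.Finite (MvPowerSeries (Fin n) k') ((k' ⊗[k] A) ⧸ nilradical (k' ⊗[k] A)) := hwfin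
    haveI : CharZero (MvPowerSeries (Fin n) k') :=
      charZero_of_injective_algebraMap (R := k') MvPowerSeries.C_injective
    exact ⟨alg, IsScalarTower.of_algebraMap_eq fun c => (w.commutes c).symm,
      (RingHom.finite_algebraMap.2 inferInstance).to_isIntegral.isLocalHom hwinj, hwinj, hwfin,
      CKaehlerLib.isUnramifiedAt_bot _ _ hwinj⟩
  · obtain ⟨ω, hω⟩ := CKaehlerLib.exists_differential_generators (p := p) (e := e) ι (FractionRing A) φ hφinj
      (fun c => by
        show φ (Ideal.Quotient.mk _ (c ⊗ₜ (1 : A))) = _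
        rw [hφ, one_pow, mul_one])
      (fun a => ⟨Ideal.Quotient.mk _ ((1 : k') ⊗ₜ a), by rw [hφ, map_one, map_one, one_mul]⟩)
      (fun w => by
        obtain ⟨z, rfl⟩ := Ideal.Quotient.mk_surjective w
        induction z using TensorProduct.induction_on with
        | zero => rw [map_zero, map_zero, map_zero]; exact zero_mem _
        | tmul c a =>
          rw [hφ, map_mul, map_pow, ← IsScalarTower.algebraMap_apply]
          exact mul_mem (IntermediateField.algebraMap_mem _ _) (CKaehlerLib.pow_mem_powField e _)
        | add a b ha hb => rw [map_add, map_add, map_add]; exact add_mem ha hb)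
      hx hgen
    exact CKaehlerLib.exists_unramified_of_generators (fun h => hA (hfield h)) hn' ω hω

end Groth.Agent.S5992
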