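import Groth.Statements.S5995
import Groth.Agent.SectUnibLib.Basic

set_option autoImplicit false
universe u
open CategoryTheory AlgebraicGeometry
open Unram

namespace Groth.Agent.S5995

/-- Let Y be a reduced scheme whose irreducible components form a locally finite family and all of whose
local rings are geometrically unibranch, f : X ⟶ Y a separated, locally of finite type, formally
unramified morphism, and u : U ⟶ X a section of f over a dense open U of Y which cannot be extended:
whenever v is a section of f over an open V agreeing with u on U ∩ V, V is contained in U (so U is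
the domain of definition of the rational section defined by u). Then the image u(U) is an open and
closed subset of X. -/
theorem result {X Y : Scheme.{u}} [IsReduced Y]
    (hcomp : LocallyFinite (fun Z : ↥(irreducibleComponents ↥Y) => (Z : Set ↥Y)))
    (f : X ⟶ Y) [IsSeparated f] [LocallyOfFiniteType f] [FormallyUnramified f]
    (U : Y.Opens) (hU : Dense (U : Set ↥Y)) (u : (U : Scheme.{u}) ⟶ X) (hu : u ≫ f = U.ι)
    (hY : ∀ y : Y, CAlg2.IsGeomUnibranch (Y.presheaf.stalk y))
    (hmax : ∀ (V : Y.Opens) (v : (V : Scheme.{u}) ⟶ X), v ≫ f = V.ι →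
      Y.homOfLE (inf_le_left : U ⊓ V ≤ U) ≫ u = Y.homOfLE (inf_le_right : U ⊓ V ≤ V) ≫ v → V ≤ U) :
    IsOpen (Set.range u) ∧ IsClosed (Set.range u) := by
  haveI := SectUnibLib.isOpenImmersion_of_section f U u hu
  refine ⟨u.isOpenEmbedding.isOpen_range, ?_⟩
  let w : (U : Scheme.{u}) ⟶ ((f ⁻¹ᵁ U : X.Opens) : Scheme.{u}) := IsOpenImmersion.lift (f ⁻¹ᵁ U).ι u (by
    rintro _ ⟨p, rfl⟩
    rw [Scheme.Opens.range_ι]
    show f (u p) ∈ U
    rw [← Scheme.Hom.comp_apply, hu]
    exact p.2)
  have hwι : w ≫ (f ⁻¹ᵁ U).ι = u := IsOpenImmersion.lift_fac _ _ _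
  have hw : w ≫ (f ∣_ U) = 𝟙 _ := by
    rw [← cancel_mono U.ι, Category.assoc, morphismRestrict_ι, reassoc_of% hwι, hu, Category.id_comp]
  haveI : IsSeparated (f ∣_ U) := MorphismProperty.of_isPullback (isPullback_morphismRestrict f U).flip ‹_›
  haveI : IsClosedImmersion (w ≫ (f ∣_ U)) := by rw [hw]; infer_instance
  haveI : IsClosedImmersion w := IsClosedImmersion.of_comp w (f ∣_ U)
  refine isClosed_of_closure_subset fun z hz => ?_
  obtain ⟨V, v, hzV, hv, hag⟩ := SectUnibLib.exists_extension' hcomp f U hU u hu z (hY _) hz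
  have hzU : f z ∈ U := hmax V v hv hag hzV
  have h1 : (⟨z, hzU⟩ : (f ⁻¹ᵁ U : X.Opens)) ∈ closure (Set.range w) := by
    rw [(f ⁻¹ᵁ U).ι.isOpenEmbedding.isInducing.closure_eq_preimage_closure_image]
    show z ∈ closure (⇑(f ⁻¹ᵁ U).ι '' Set.range ⇑w)
    rw [← Set.range_comp, ← TopCat.coe_comp, ← Scheme.Hom.comp_base, hwι]
    exact hz
  rw [w.isClosedEmbedding.isClosed_range.closure_eq] at h1
  obtain ⟨p, hp⟩ := h1
  exact ⟨p, by rw [← hwι, Scheme.Hom.comp_apply, hp]; rfl⟩

end Groth.Agent.S5995
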