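import Groth.Statements.S5996
import Groth.Agent.SectUnibLib.Basic

set_option autoImplicit false
universe u
open CategoryTheory AlgebraicGeometry
open Unram

namespace Groth.Agent.S5996

/-- Let Y be a reduced scheme whose irreducible components form a locally finite family, f : X ⟶ Y a
separated, locally of finite type, formally unramified morphism such that f(T) is closed in Y for
every closed irreducible subset T of X, and u : U ⟶ X a section of f over a dense open U of Y. Then
for every point y of Y whose local ring is geometrically unibranch there are an open V ∋ y and a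
section v : V ⟶ X of f agreeing with u on U ∩ V: the rational section defined by u is defined at
every geometrically unibranch point. -/
theorem result {X Y : Scheme.{u}} [IsReduced Y]
    (hcomp : LocallyFinite (fun Z : ↥(irreducibleComponents ↥Y) => (Z : Set ↥Y)))
    (f : X ⟶ Y) [IsSeparated f] [LocallyOfFiniteType f] [FormallyUnramified f]
    (U : Y.Opens) (hU : Dense (U : Set ↥Y)) (u : (U : Scheme.{u}) ⟶ X) (hu : u ≫ f = U.ι)
    (hcl : ∀ T : Set ↥X, IsClosed T → IsIrreducible T → IsClosed (f '' T))
    (y : Y) (hy : CAlg2.IsGeomUnibranch (Y.presheaf.stalk y)) :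
    ∃ (V : Y.Opens) (v : (V : Scheme.{u}) ⟶ X), y ∈ V ∧ v ≫ f = V.ι ∧
      Y.homOfLE (inf_le_left : U ⊓ V ≤ U) ≫ u = Y.homOfLE (inf_le_right : U ⊓ V ≤ V) ≫ v := by
  obtain ⟨V₀, hyV₀, hV₀⟩ := SectUnibLib.exists_integral_nbhd hcomp y hy
  haveI := hV₀
  have hη := SectUnibLib.genericPoint_mem V₀ U hU
  set η : Y := V₀.ι (genericPoint ↥(V₀ : Scheme.{u})) with hηdef
  have hT := hcl (closure {u ⟨η, hη⟩}) isClosed_closure isIrreducible_singleton.closure
  have hyT : y ∈ f '' closure {u ⟨η, hη⟩} := by
    have hsp : η ⤳ y := (genericPoint_specializes (α := ↥(V₀ : Scheme.{u})) ⟨y, hyV₀⟩).map V₀.ι.continuous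
    refine hsp.mem_closed hT ⟨_, subset_closure rfl, ?_⟩
    rw [← Scheme.Hom.comp_apply, hu]
    rfl
  obtain ⟨z, hzc, rfl⟩ := hyT
  exact SectUnibLib.exists_extension' hcomp f U hU u hu z hy
    (closure_mono (Set.singleton_subset_iff.2 (Set.mem_range_self _)) hzc)

end Groth.Agent.S5996
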