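import Groth.Statements.S5997
import Groth.Agent.S11763
import Groth.Agent.PnRigidLib.Main
import Groth.Agent.PnCohLib.Twist
import Groth.Agent.PicPnLib.BaseChange
import Groth.Agent.PicPnLib.Rel
import Groth.Agent.FibVanLib.H1Main
import Groth.Agent.FibreIsoLib.Main
import Groth.Agent.H0Lib.IsoLocus
import Groth.Agent.CohCmpLib.CanonApps
import Groth.Agent.CohCmpLib.LiftSection
import Groth.Agent.ProjBunLib.Quot
-- import your own Groth.Agent.* helpers here

set_option autoImplicit false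
set_option linter.style.haveILetI false
set_option backward.isDefEq.respectTransparency false
set_option maxHeartbeats 1000000
set_option maxRecDepth 4000
universe u
open SGA1

namespace Groth.Agent.S5997

open AlgebraicGeometry CategoryTheory CategoryTheory.Limits

theorem twistHH (k : Type u) [Field k] (r : ℕ) :
    Subsingleton (Coh.HH (CohB1.ProjSpace r k) (AlgzLib.O1 r k) 1) :=
  PnCohLib.subsingleton_HH_twist (n := r) (R := k) ((1 : ℕ) : ℤ) 1 (by omega) (by omega)

theorem h2_of_iso (k : Type u) [Field k] (r : ℕ) {Z : Scheme.{u}} (e₀ : Z ≅ CohB1.ProjSpace r k) :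
    Subsingleton (Coh.HH Z (Coh.structureModule Z) 2) := by
  obtain ⟨t0⟩ := PicPnLib.twist_zero r k
  exact FibVanLib.subsingleton_HH_structure_of_iso e₀.symm
    (SerreVanLib.subsingleton_HH_of_iso t0.symm 2
      (PnCohLib.subsingleton_HH_twist (n := r) (R := k) 0 2 (by omega) (by omega)))

theorem exists_fibre (A : Type u) [CommRing A] [IsLocalRing A] (r : ℕ) {X : Scheme.{u}}
    (f : X ⟶ Spec (CommRingCat.of A))
    (e₀ : pullback f (Spec.map (CommRingCat.ofHom (IsLocalRing.residue A))) ≅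
      CohB1.ProjSpace r (IsLocalRing.ResidueField A))
    (he₀ : e₀.hom ≫ CohB1.ProjSpace.toSpec r (IsLocalRing.ResidueField A) = pullback.snd f _) :
    ∃ (s : Spec (CommRingCat.of A)) (_ : s = IsLocalRing.closedPoint A)
      (b : CohB1.ProjSpace r (IsLocalRing.ResidueField A) ⟶ f.fiber s) (_ : IsIso b),
      b ≫ f.fiberι s = e₀.inv ≫ pullback.fst f (Spec.map (CommRingCat.ofHom (IsLocalRing.residue A))) ∧
      IsPullback (b ≫ f.fiberι s) (CohB1.ProjSpace.toSpec r (IsLocalRing.ResidueField A)) f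
        (Spec.map (CommRingCat.ofHom (IsLocalRing.residue A))) := by
  let k := IsLocalRing.ResidueField A
  let res := Spec.map (CommRingCat.ofHom (IsLocalRing.residue A))
  let Pk := CohB1.ProjSpace r k
  -- the closed fibre as a fibre
  let pt := Scheme.SpecToEquivOfField k (Spec (CommRingCat.of A)) res
  have hfac : Spec.map pt.2 ≫ (Spec (CommRingCat.of A)).fromSpecResidueField pt.1 = res :=
    (Scheme.SpecToEquivOfField _ _).symm_apply_apply res
  have hψ0 : Spec.preimage ((Spec (CommRingCat.of A)).fromSpecResidueField pt.1) ≫ pt.2 =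
      CommRingCat.ofHom (IsLocalRing.residue A) := by
    apply Spec.map_injective
    rw [Spec.map_comp, Spec.map_preimage, hfac]
  haveI : IsIso pt.2 := (ConcreteCategory.isIso_iff_bijective _).2 ⟨pt.2.hom.injective, fun a => by
    obtain ⟨b, rfl⟩ := IsLocalRing.residue_surjective a
    exact ⟨_, ConcreteCategory.congr_hom hψ0 b⟩⟩
  have hpt : pt.1 = IsLocalRing.closedPoint A := IsLocalRing.comap_closedPoint (IsLocalRing.residue A)
  let a : pullback f res ⟶ f.fiber pt.1 := pullback.lift (pullback.fst f res) (pullback.snd f res ≫ Spec.map pt.2)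
    (by rw [Category.assoc, hfac]; exact pullback.condition)
  have ha1 : a ≫ f.fiberι pt.1 = pullback.fst f res := pullback.lift_fst ..
  have hsq : IsPullback a (pullback.snd f res) (f.fiberToSpecResidueField pt.1) (Spec.map pt.2) := by
    refine IsPullback.of_right ?_ (pullback.lift_snd ..)
      (IsPullback.of_hasPullback f ((Spec (CommRingCat.of A)).fromSpecResidueField pt.1))
    rw [show a ≫ pullback.fst f _ = pullback.fst f res from ha1, hfac]
    exact IsPullback.of_hasPullback f res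
  haveI : IsIso a := hsq.isIso_fst_of_isIso
  let b : Pk ⟶ f.fiber pt.1 := e₀.inv ≫ a
  let c₁ : Pk ⟶ X := b ≫ f.fiberι pt.1
  have hc₁ : c₁ = e₀.inv ≫ pullback.fst f res := by rw [← ha1]; exact Category.assoc _ _ _
  have hbig : IsPullback c₁ (CohB1.ProjSpace.toSpec r k) f res := by
    rw [hc₁]
    have h := (IsPullback.of_horiz_isIso (fst := e₀.inv) (snd := CohB1.ProjSpace.toSpec r k)
      (f := pullback.snd f res) (g := 𝟙 _) ⟨by rw [← he₀, e₀.inv_hom_id_assoc, Category.comp_id]⟩).paste_horiz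
        (IsPullback.of_hasPullback f res)
    rwa [Category.id_comp] at h
  exact ⟨pt.1, hpt, b, inferInstance, hc₁, hbig⟩

/-- The chosen pullback of the lift. -/
noncomputable def psiIso {X P Z : Scheme.{u}} (fst : Z ⟶ X) (e₀ : Z ≅ P) (c : P ⟶ X) (hc : c = e₀.inv ≫ fst)
    {L : X.Modules} {M : P.Modules} (ψ0 : KFlatLib.pb fst L ≅ KFlatLib.pb e₀.hom M) : KFlatLib.pb c L ≅ M :=
  (Scheme.Modules.pullbackCongr hc).app L ≪≫
    ((Scheme.Modules.pullbackComp e₀.inv fst).app L).symm ≪≫
    (Scheme.Modules.pullback e₀.inv).mapIso ψ0 ≪≫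
    (Scheme.Modules.pullbackComp e₀.inv e₀.hom).app _ ≪≫
    (Scheme.Modules.pullbackCongr e₀.inv_hom_id).app _ ≪≫ (Scheme.Modules.pullbackId _).app _

theorem fiberH_vanish {X S P : Scheme.{u}} (f : X ⟶ S) (s : S) (b : P ⟶ f.fiber s) [IsIso b] {L : X.Modules}
    {M : P.Modules} (ψ : KFlatLib.pb (b ≫ f.fiberι s) L ≅ M) (h : Subsingleton (Coh.HH P M 1)) :
    Subsingleton (CohIII.fiberH f L s 1) :=
  LerayLowLib.subsingleton_HH_of_section b (inv b) (IsIso.inv_hom_id b) _ 1
    (SerreVanLib.subsingleton_HH_of_iso ((Scheme.Modules.pullbackComp b (f.fiberι s)).app L ≪≫ ψ) 1 h)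

theorem exists_sections (A : Type u) [CommRing A] [IsLocalRing A] (r : ℕ) (k : Type u) [CommRing k] {X : Scheme.{u}}
    (f : X ⟶ Spec (CommRingCat.of A)) [IsProper f] (s : Spec (CommRingCat.of A))
    (hs : s = IsLocalRing.closedPoint A) (b : CohB1.ProjSpace r k ⟶ f.fiber s) [IsIso b]
    {L : X.Modules} (hL : PicF.IsInvertible L) [Coh.IsQCoh L]
    (he : Epi (CohBC.bc0 f ((Spec (CommRingCat.of A)).fromSpecResidueField s) (f.fiberToSpecResidueField s)
      (f.fiberι s) (f.fiber_fac s) L))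
    (ψ : KFlatLib.pb (b ≫ f.fiberι s) L ≅ AlgzLib.O1 r k) :
    ∃ v : Fin (r + 1) → Γ(L, ⊤),
      (∀ i, ψ.hom.app ⊤ (KFlatLib.puSec (b ≫ f.fiberι s) (v i)) = AlgzLib.glob (R := k) i) ∧
      ∀ x : X, ∃ i, x ∈ TwistLib.genSet hL (v i) := by
  choose v hv using fun i => PnRigidLib.exists_lift f s hs he b ψ (AlgzLib.glob (R := k) i)
  refine ⟨v, hv, fun x => TopologicalSpace.Opens.mem_iSup.mp ?_⟩
  refine (PnRigidLib.eq_top_of_fibre f (⨆ i, TwistLib.genSet hL (v i)) fun x hx => ?_).ge trivial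
  obtain ⟨z, rfl⟩ : x ∈ Set.range (f.fiberι s) := by rw [f.range_fiberι]; exact hx.trans hs.symm
  obtain ⟨y, rfl⟩ : z ∈ Set.range b := ⟨inv b z, by rw [← Scheme.Hom.comp_apply, IsIso.inv_hom_id]; rfl⟩
  obtain ⟨i, hi⟩ := TopologicalSpace.Opens.mem_iSup.mp
    ((QCohLib.iSup_stdOpen r k).ge (trivial : (y : CohB1.ProjSpace r k) ∈ _))
  refine TopologicalSpace.Opens.mem_iSup.mpr ⟨i, ?_⟩
  have h : y ∈ (b ≫ f.fiberι s) ⁻¹ᵁ TwistLib.genSet hL (v i) := by
    rw [PnRigidLib.preimage_genSet (b ≫ f.fiberι s) hL (PnRigidLib.isInvertible_O1 r k) ψ (v i), hv i,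
      PnRigidLib.genSet_glob]
    exact hi
  exact h

open AlgebraicGeometry CategoryTheory CategoryTheory.Limits in
/-- Suppose A is a Noetherian local ring, complete for its maximal ideal, whose residue field we call k,
and consider a proper flat A-scheme X such that the closed fibre X ×_A k is isomorphic over k to
P^r_k. Then X is isomorphic over A to P^r_A. (For ordinary schemes the published statement leaves
out flatness, yet the proof relies on it; dropping it, P^r_k regarded as an A-scheme via the closed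
point gives a counterexample as soon as A fails to be a field. This row therefore assumes f is
flat.) -/
theorem result (A : Type u) [CommRing A] [IsLocalRing A]
    [IsNoetherianRing A] [IsAdicComplete (IsLocalRing.maximalIdeal A) A] (r : ℕ) {X : Scheme.{u}}
    (f : X ⟶ Spec (CommRingCat.of A)) [IsProper f] [Flat f]
    (e₀ : pullback f (Spec.map (CommRingCat.ofHom (IsLocalRing.residue A))) ≅
      CohB1.ProjSpace r (IsLocalRing.ResidueField A))
    (he₀ : e₀.hom ≫ CohB1.ProjSpace.toSpec r (IsLocalRing.ResidueField A) = pullback.snd f _) :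
    ∃ e : X ≅ CohB1.ProjSpace r A, e.hom ≫ CohB1.ProjSpace.toSpec r A = f := by
  let k := IsLocalRing.ResidueField A
  let res := Spec.map (CommRingCat.ofHom (IsLocalRing.residue A))
  let Pk := CohB1.ProjSpace r k
  obtain ⟨s, hpt, b, hb, hc₁, hbig⟩ := exists_fibre A r f e₀ he₀
  haveI := hb
  let c₁ : Pk ⟶ X := b ≫ f.fiberι s
  obtain ⟨L, hL, ⟨ψ0⟩⟩ := Groth.Agent.S11763.result A f (h2_of_iso k r e₀)
    ((Scheme.Modules.pullback e₀.hom).obj (AlgzLib.O1 r k))
    (AmpleDevLib.isInvertible_pb _ (PnRigidLib.isInvertible_O1 r k))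
  obtain ⟨ψ⟩ : Nonempty (KFlatLib.pb (b ≫ f.fiberι s) L ≅ AlgzLib.O1 r k) :=
    ⟨psiIso _ e₀ (b ≫ f.fiberι s) hc₁ ψ0⟩
  have hfib := fiberH_vanish f s b ψ (twistHH k r)
  haveI : LocallyOfFinitePresentation f := LocallyOfFinitePresentation.iff_locallyOfFiniteType.2 inferInstance
  obtain ⟨hQ, hfp, hfl⟩ := CohCmpLib.rank_one_hyps f ((CohCmpLib.invertible_iff_rank_one L).1 hL)
  haveI := hQ
  have he := CohCmpLib.epi_bc0_of_vanishing_one f hfp hfl s hfib
  obtain ⟨v, hv, hgen⟩ := exists_sections A r k f s hpt b hL he ψ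
  obtain ⟨ρ, hρb, τ, hτ⟩ := AlgzLib.exists_rτ f hL v hgen
  let ρ' : X ⟶ CohB1.ProjSpace r A := ρ
  have hρ : ρ' ≫ CohB1.ProjSpace.toSpec r A = f := hρb
  haveI : IsProper (CohB1.ProjSpace.toSpec r A) := FormalCohLib.isProper_projToSpec r A
  haveI : IsProper ρ' := by
    haveI : IsProper (ρ' ≫ CohB1.ProjSpace.toSpec r A) := by rw [hρ]; infer_instance
    exact IsProper.of_comp ρ' (CohB1.ProjSpace.toSpec r A)
  have hc : (c₁ ≫ ρ') ≫ CohB1.ProjSpace.toSpec r A = CohB1.ProjSpace.toSpec r k ≫ res := by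
    rw [Category.assoc, hρ]
    exact hbig.w
  haveI : IsClosedImmersion (c₁ ≫ ρ') :=
    PnRigidLib.isClosedImmersion_of_coord (IsLocalRing.residue A) IsLocalRing.residue_surjective (c₁ ≫ ρ')
      hc (PnRigidLib.compIso c₁ ρ τ ψ) fun i =>
        (PnRigidLib.compIso_puSec c₁ ρ τ ψ _ _ (hτ i)).trans (hv i)
  haveI := PnRigidLib.exists_iso_fibre r (c₁ ≫ ρ') hc
  haveI : LocallyOfFinitePresentation (ρ' ≫ CohB1.ProjSpace.toSpec r A) := by rw [hρ]; infer_instance
  haveI : Flat (ρ' ≫ CohB1.ProjSpace.toSpec r A) := by rw [hρ]; infer_instance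
  haveI : LocallyOfFinitePresentation (CohB1.ProjSpace.toSpec r A) :=
    LocallyOfFinitePresentation.iff_locallyOfFiniteType.2 inferInstance
  haveI : IsIso ρ' := PnRigidLib.isIso_of_closedFibre ρ' (CohB1.ProjSpace.toSpec r A) (by rw [hρ]; exact hbig)
    (pullback.lift (c₁ ≫ ρ') (CohB1.ProjSpace.toSpec r k) hc) (pullback.lift_fst _ _ _) (pullback.lift_snd _ _ _)
  exact ⟨asIso ρ', hρ⟩

end Groth.Agent.S5997
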