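import Groth.Statements.S5999
import Groth.Agent.Unram17Lib.Jacobian
-- import your own Groth.Agent.* helpers here

set_option autoImplicit false
universe u
open SGA1

namespace Groth.Agent.S5999

open TensorProduct in
/-- Let R be a Noetherian ring, A an R-algebra of finite type, F an element of A, P a prime ideal of
A/(F) and q its preimage in A, and suppose A is smooth over R at q. Then the hypersurface A/(F) is
smooth over R at P if and only if either F is zero in the local ring A_q (F vanishes on a
neighbourhood of q) or the image dF(q) of the differential of F in κ(q) ⊗_A Ω_{A/R} is nonzero. -/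
theorem result
    (R A : Type u) [CommRing R] [CommRing A] [IsNoetherianRing R] [Algebra R A] [Algebra.FiniteType R A]
    (F : A) (P : Ideal (A ⧸ Ideal.span ({F} : Set A))) [P.IsPrime]
    (hX : Algebra.IsSmoothAt R (P.comap (Ideal.Quotient.mk (Ideal.span ({F} : Set A))))) :
    letI q : Ideal A := P.comap (Ideal.Quotient.mk (Ideal.span ({F} : Set A)))
    Algebra.IsSmoothAt R P ↔ algebraMap A (Localization.AtPrime q) F = 0 ∨
      (1 : q.ResidueField) ⊗ₜ[A] KaehlerDifferential.D R A F ≠ 0 := by
  classical
  haveI : IsNoetherianRing A := Algebra.FiniteType.isNoetherianRing R A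
  haveI : Algebra.FormallySmooth R
      (Localization.AtPrime (P.comap (Ideal.Quotient.mk (Ideal.span ({F} : Set A))))) := hX
  rw [Unram17Lib.isSmoothAt_quotient_iff R A _ (IsNoetherian.noetherian _) P]
  let q : Ideal A := P.comap (Ideal.Quotient.mk (Ideal.span ({F} : Set A)))
  have hFq : algebraMap A q.ResidueField F = 0 := Ideal.algebraMap_residueField_eq_zero.mpr (by
    show Ideal.Quotient.mk _ F ∈ P
    rw [Ideal.Quotient.eq_zero_iff_mem.mpr (Ideal.mem_span_singleton_self F)]
    exact zero_mem P)
  constructor
  · rintro ⟨s, hsI, hs, hli⟩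
    by_contra hne
    push Not at hne
    obtain ⟨hF, hd⟩ := hne
    have hd0 : ∀ g ∈ s, (1 : q.ResidueField) ⊗ₜ[A] KaehlerDifferential.D R A g = 0 := fun g hg => by
      obtain ⟨c, rfl⟩ := Ideal.mem_span_singleton'.mp (hsI hg)
      rw [Derivation.leibniz, TensorProduct.tmul_add, TensorProduct.tmul_smul, TensorProduct.tmul_smul, hd,
        smul_zero, zero_add, TensorProduct.smul_tmul', ← Algebra.algebraMap_eq_smul_one, hFq,
        TensorProduct.zero_tmul]
    rcases s.eq_empty_or_nonempty with rfl | ⟨g, hg⟩
    · refine hF ?_
      have h := hs.le (Ideal.mem_map_of_mem _ (Ideal.mem_span_singleton_self F))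
      simpa using h
    · have h0 := hli.ne_zero (⟨g, hg⟩ : ↥s)
      dsimp only at h0
      rw [hd0 g hg] at h0
      exact h0 rfl
  · rintro (hF | hd)
    · refine ⟨∅, by simp, ?_, linearIndependent_empty_type⟩
      rw [Ideal.map_span, Set.image_singleton, hF]
      simp
    · refine ⟨{F}, by simp [Ideal.mem_span_singleton_self], ?_, ?_⟩
      · rw [Ideal.map_span, Finset.coe_singleton]
      · exact Unram17Lib.linearIndependent_singleton_finset (K := q.ResidueField) (fun g : A => (1 : q.ResidueField) ⊗ₜ[A] KaehlerDifferential.D R A g) F hd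

end Groth.Agent.S5999
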