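import Groth.Statements.S6001
import Groth.Agent.CplEtaleLib.Basic
import Groth.Agent.AlgSpLib.ReducedSmooth

set_option autoImplicit false
set_option backward.isDefEq.respectTransparency false
set_option backward.isDefEq.respectTransparency.types false
set_option maxRecDepth 8000
set_option maxHeartbeats 1000000
universe u
open SGA1

namespace Groth.Agent.S6001

/-- Let A be a Noetherian local ring which is analytically reduced (its completion has no nonzero
nilpotents), and let B be the local ring at a prime q, lying over the maximal ideal of A, of an
A-algebra C of finite type that is etale over A at q (an etale local homomorphism A ⟶ B). Then B is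
analytically reduced, and in particular reduced. -/
theorem result (A C : Type u) [CommRing A] [IsLocalRing A]
    [IsNoetherianRing A] [CommRing C] [Algebra A C] [Algebra.FiniteType A C] (q : Ideal C) [q.IsPrime]
    (hq : Ideal.comap (algebraMap A C) q = IsLocalRing.maximalIdeal A) (hC : Algebra.IsEtaleAt A q)
    (hA : IsReduced (AdicCompletion (IsLocalRing.maximalIdeal A) A)) :
    IsReduced (AdicCompletion (IsLocalRing.maximalIdeal (Localization.AtPrime q)) (Localization.AtPrime q)) ∧
      IsReduced (Localization.AtPrime q) := by
  haveI : Algebra.FinitePresentation A C := Algebra.FinitePresentation.of_finiteType.1 inferInstance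
  haveI : IsNoetherianRing C := Algebra.FiniteType.isNoetherianRing A C
  let B := Localization.AtPrime q
  haveI : IsNoetherianRing B := IsLocalization.isNoetherianRing q.primeCompl B inferInstance
  haveI : Algebra.FormallyEtale A B := hC
  haveI : IsLocalHom (algebraMap A B) := ⟨fun a ha => by
    by_contra hn
    rw [IsScalarTower.algebraMap_apply A C B] at ha
    exact (IsLocalization.AtPrime.to_map_mem_maximal_iff B q _).2 (hq.ge hn :) ha⟩
  haveI : Algebra.EssFiniteType C B := Algebra.EssFiniteType.of_isLocalization B q.primeCompl
  haveI : Algebra.EssFiniteType A B := Algebra.EssFiniteType.comp A C B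
  obtain ⟨g, hg, hge⟩ := Algebra.exists_etale_of_isEtaleAt (R := A) q
  haveI : Module.Flat A B := by
    haveI : Algebra.FormallyEtale A B := hC
    let φ : Localization.Away g →+* B := IsLocalization.map (M := Submonoid.powers g) (T := q.primeCompl) B (RingHom.id C)
      (fun x hx => by obtain ⟨n, rfl⟩ := hx; exact fun h => hg ((inferInstance : q.IsPrime).mem_of_pow_mem n h))
    letI := φ.toAlgebra
    haveI : IsScalarTower C (Localization.Away g) B := IsScalarTower.of_algebraMap_eq fun x =>
      (IsLocalization.map_eq (g := RingHom.id C) _ x).symm
    haveI : IsScalarTower A (Localization.Away g) B := IsScalarTower.of_algebraMap_eq fun x => by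
      rw [IsScalarTower.algebraMap_apply A C B, IsScalarTower.algebraMap_apply C (Localization.Away g) B,
        ← IsScalarTower.algebraMap_apply A C (Localization.Away g)]
    haveI : IsLocalization (Algebra.algebraMapSubmonoid (Localization.Away g) q.primeCompl) B :=
      IsLocalization.isLocalization_of_submonoid_le (Localization.Away g) B (Submonoid.powers g) q.primeCompl
        (fun x hx => by obtain ⟨n, rfl⟩ := hx; exact fun h => hg ((inferInstance : q.IsPrime).mem_of_pow_mem n h))
    haveI : Module.Flat (Localization.Away g) B :=
      IsLocalization.flat B (Algebra.algebraMapSubmonoid (Localization.Away g) q.primeCompl)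
    exact Module.Flat.trans A (Localization.Away g) B
  obtain ⟨ψ, hψ⟩ := GeomRedFibLib.exists_cplMap A B
  have het : ψ.Etale := (CplEtaleLib.etale_iff ψ hψ).1
    ⟨inferInstance, Algebra.FormallyUnramified.map_maximalIdeal, inferInstance, inferInstance⟩
  letI := ψ.toAlgebra
  haveI : Algebra.Etale (GeomRedFibLib.Hat A) (GeomRedFibLib.Hat B) := het
  haveI := hA
  have h1 : IsReduced (GeomRedFibLib.Hat B) := AlgSpLib.isReduced_of_etale (GeomRedFibLib.Hat A) (GeomRedFibLib.Hat B)
  refine ⟨h1, ?_⟩
  haveI := h1
  haveI := GeomRedFibLib.faithfullyFlat_hat B
  exact isReduced_of_injective (algebraMap B (GeomRedFibLib.Hat B))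
    (FaithfulSMul.algebraMap_injective B (GeomRedFibLib.Hat B))

end Groth.Agent.S6001
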