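import Groth.Statements.S6002
import Groth.Agent.AffLiftLib.Main
-- import your own Groth.Agent.* helpers here

set_option autoImplicit false
set_option maxHeartbeats 2000000
set_option backward.isDefEq.respectTransparency false
universe u
open SGA1

namespace Groth.Agent.S6002

open AlgebraicGeometry CategoryTheory CategoryTheory.Limits in
/-- Let Y be a locally Noetherian scheme, Y₀ a closed subscheme of Y with the same underlying space (a
closed immersion i : Y₀ ⟶ Y that is surjective on points) and X₀ an affine scheme smooth over Y₀.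
Then there is a smooth Y-scheme X together with a Y₀-isomorphism e : X₀ ≅ X ×_Y Y₀, and X is unique
up to a (non-unique) isomorphism: for every smooth Y-scheme X' with a Y₀-isomorphism e' : X₀ ≅ X'
×_Y Y₀ there is a Y-isomorphism φ : X ≅ X' under which the closed immersion of X₀ into X given by e
corresponds to the one into X' given by e'. -/
theorem result {Y₀ Y X₀ : Scheme.{u}} [IsLocallyNoetherian Y]
    (i : Y₀ ⟶ Y) [IsClosedImmersion i] (hi : Function.Surjective i.base)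
    (f₀ : X₀ ⟶ Y₀) [Smooth f₀] [IsAffine X₀] :
    ∃ (X : Scheme.{u}) (g : X ⟶ Y) (_ : Smooth g) (e : X₀ ≅ pullback g i),
      e.hom ≫ pullback.snd g i = f₀ ∧
      ∀ (X' : Scheme.{u}) (g' : X' ⟶ Y) [Smooth g'] (e' : X₀ ≅ pullback g' i),
        e'.hom ≫ pullback.snd g' i = f₀ →
        ∃ φ : X ≅ X', φ.hom ≫ g' = g ∧
          (e.hom ≫ pullback.fst g i) ≫ φ.hom = e'.hom ≫ pullback.fst g' i := by
  haveI : Surjective i := ⟨hi⟩
  obtain ⟨t, ht⟩ := (isCompact_range (f₀ ≫ i).continuous).elim_finite_subcover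
    (fun V : Y.affineOpens => (V.1 : Set Y)) (fun V => V.1.isOpen) (fun y _ => by
      obtain ⟨V, hV, hy, -⟩ := exists_isAffineOpen_mem_and_subset (X := Y) (x := y) (U := ⊤) trivial
      exact Set.mem_iUnion.2 ⟨⟨V, hV⟩, hy⟩)
  let V : Y.Opens := ⨆ W ∈ t, (W : Y.affineOpens).1
  have hVc : IsCompact (V : Set Y) := by
    simp only [V, TopologicalSpace.Opens.coe_iSup]
    exact t.isCompact_biUnion fun W _ => W.2.isCompact
  haveI : CompactSpace V := isCompact_iff_compactSpace.1 hVc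
  haveI : AlgebraicGeometry.IsNoetherian (V : Scheme.{u}) := ⟨⟩
  have hfV : ∀ x : X₀, (f₀ ≫ i).base x ∈ V := fun x => by
    have h := ht ⟨x, rfl⟩
    simp only [V, TopologicalSpace.Opens.mem_iSup]
    obtain ⟨W, hW, hx⟩ := Set.mem_iUnion₂.1 h
    exact ⟨W, hW, hx⟩
  let g₀ : X₀ ⟶ ↑(i ⁻¹ᵁ V) := IsOpenImmersion.lift (i ⁻¹ᵁ V).ι f₀ (by
    rw [Scheme.Opens.range_ι]; rintro _ ⟨x, rfl⟩; exact hfV x)
  have hg₀ : g₀ ≫ (i ⁻¹ᵁ V).ι = f₀ := IsOpenImmersion.lift_fac _ _ _
  haveI : Smooth g₀ := MorphismProperty.of_isPullback (P := @Smooth)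
    (IsPullback.of_horiz_isIso_mono (fst := 𝟙 X₀) (snd := g₀) (f := f₀) (g := (i ⁻¹ᵁ V).ι)
      ⟨by rw [Category.id_comp, hg₀]⟩) ‹Smooth f₀›
  haveI : IsClosedImmersion (i ∣_ V) := inferInstance
  haveI : Surjective (i ∣_ V) := MorphismProperty.of_isPullback (P := @Surjective)
    (isPullback_morphismRestrict i V).flip ‹_›
  obtain ⟨m, hm⟩ := AffLiftLib.exists_pow_ker_eq_bot (i ∣_ V)
  obtain ⟨X, f, j, hf, hc, hu⟩ := AffLiftLib.hasUniqueLift_pow m (i ∣_ V) hm g₀
  have hbot : IsPullback (i ∣_ V) (i ⁻¹ᵁ V).ι V.ι i := isPullback_morphismRestrict i V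
  have hsq : IsPullback j f₀ (f ≫ V.ι) i := hg₀ ▸ hc.paste_vert hbot
  refine ⟨X, f ≫ V.ι, inferInstance, hsq.isoPullback, hsq.isoPullback_hom_snd, fun X' g' _ e' he' => ?_⟩
  have hsq' : IsPullback (e'.hom ≫ pullback.fst g' i) f₀ g' i :=
    (IsPullback.of_hasPullback g' i).of_iso e'.symm (Iso.refl _) (Iso.refl _) (Iso.refl _)
      (by simp) (by simp [← he']) (by simp) (by simp)
  have hj' : Surjective (e'.hom ≫ pullback.fst g' i) := MorphismProperty.of_isPullback (P := @Surjective)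
    hsq'.flip ‹_›
  have hgV : Set.range g'.base ⊆ Set.range V.ι.base := by
    rw [Scheme.Opens.range_ι]
    rintro _ ⟨z, rfl⟩
    obtain ⟨x, rfl⟩ := (e'.hom ≫ pullback.fst g' i).surjective z
    show ((e'.hom ≫ pullback.fst g' i) ≫ g').base x ∈ V
    rw [hsq'.w]
    exact hfV x
  let g'' := IsOpenImmersion.lift V.ι g' hgV
  have hg'' : g'' ≫ V.ι = g' := IsOpenImmersion.lift_fac _ _ _
  haveI : Smooth g'' := MorphismProperty.of_isPullback (P := @Smooth)
    (IsPullback.of_horiz_isIso_mono (fst := 𝟙 X') (snd := g'') (f := g') (g := V.ι)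
      ⟨by rw [Category.id_comp, hg'']⟩) ‹Smooth g'›
  have hc' : IsPullback (e'.hom ≫ pullback.fst g' i) g₀ g'' (i ∣_ V) := by
    refine IsPullback.of_bot (by rw [hg₀, hg'']; exact hsq') ?_ hbot
    rw [← cancel_mono V.ι, Category.assoc, Category.assoc, hg'', Category.assoc, morphismRestrict_ι, reassoc_of% hg₀]
    simpa using hsq'.w
  obtain ⟨φ, hφ, hφ'⟩ := hu X' g'' _ inferInstance hc'
  refine ⟨φ, by rw [← hg'', ← Category.assoc, hφ'], ?_⟩
  rw [IsPullback.isoPullback_hom_fst, hφ]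

end Groth.Agent.S6002
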