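import Groth.Statements.S6003
import Groth.Agent.TorsFpqcLib.Basic
import Groth.Agent.DescHomLib.Epi
import Groth.Agent.AlgSpLib.Fpqc
import Groth.Agent.AlgSpRegLib.ImmFpqc

set_option autoImplicit false
universe u
open CategoryTheory AlgebraicGeometry
open SGA1
open CategoryTheory.MonoidalCategory CategoryTheory.CartesianMonoidalCategory
open scoped CategoryTheory.MonObj

namespace Groth.Agent.S6003

/-- Let G be an S-group scheme which is flat and quasi-compact over S and let G act on the S-scheme X.
Then X is a principal homogeneous bundle under G (a pseudo-torsor which acquires sections on the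
members of some fpqc covering family of S) if and only if X is formally principal homogeneous (a
pseudo-torsor) and the structure morphism X → S is faithfully flat and quasi-compact. -/
theorem result {S : Scheme.{u}}
    (G X : Over S) [GrpObj G] [Flat G.hom] [QuasiCompact G.hom] (a : AlgGrp.Action G X) :
    NonAbH1.IsTorsorFor Scheme.fpqcPrecoverage a ↔
      (NonAbH1.IsPseudoTorsorSch a ∧ Surjective X.hom ∧ Flat X.hom ∧ QuasiCompact X.hom) := by
  refine ⟨fun h => ?_, fun ⟨hp, hs, hf, hq⟩ => ⟨hp, Presieve.singleton X.hom, ?_, ?_⟩⟩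
  · haveI : Surjective G.hom := ⟨fun s => ⟨(η[G] : 𝟙_ (Over S) ⟶ G).left s, by
      rw [← Scheme.Hom.comp_apply, Over.w]; rfl⟩⟩
    exact ⟨h.1, Groth.Agent.TorsFpqc.property_of_torsor @Surjective a h inferInstance,
      Groth.Agent.TorsFpqc.property_of_torsor @Flat a h inferInstance,
      Groth.Agent.TorsFpqc.property_of_torsor @QuasiCompact a h inferInstance⟩
  · refine Groth.Agent.DescHom.singleton_mem_fpqc X.hom fun V hV =>
      ⟨X.hom ⁻¹ᵁ V, X.hom.isCompact_preimage hV.isCompact, ?_⟩
    rw [Scheme.Hom.coe_preimage, Set.image_preimage_eq _ X.hom.surjective]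
  · rintro _ _ ⟨⟩
    exact ⟨𝟙 X.left, Category.id_comp _⟩

end Groth.Agent.S6003
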