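import Groth.Statements.S6005
import Groth.Agent.TorsVecLib.UnitCocycle
import Groth.Prelude.Def_GmPts
-- import your own Groth.Agent.* helpers here

set_option autoImplicit false
set_option backward.isDefEq.respectTransparency false
set_option linter.all false
universe u
open CategoryTheory AlgebraicGeometry
open SGA1

namespace Groth.Agent.S6005

open CategoryTheory.Limits MonoidalCategory CartesianMonoidalCategory MonObj TensorProduct

section

variable {S : Scheme.{u}} {A : Type u} [CommRing A] (j : Spec (CommRingCat.of A) ⟶ S)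

/-- The function of a point of the multiplicative group on an affine test scheme. -/
noncomputable def fn {C : Type u} [CommRing C] [Algebra A C] (g : TorsVec.testObj j C ⟶ Red.Gm S) : C :=
  (Scheme.ΓSpecIso (CommRingCat.of C)).hom (Red.gmFn g)

theorem isUnit_fn {C : Type u} [CommRing C] [Algebra A C] (g : TorsVec.testObj j C ⟶ Red.Gm S) :
    IsUnit (fn j g) :=
  (GmPts.isUnit_gmFn g).map (Scheme.ΓSpecIso (CommRingCat.of C)).hom.hom

theorem fn_mul {C : Type u} [CommRing C] [Algebra A C] (g g' : TorsVec.testObj j C ⟶ Red.Gm S) :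
    fn j (g * g') = fn j g * fn j g' := by
  unfold fn
  rw [GmPts.gmFn_mul]
  exact map_mul (Scheme.ΓSpecIso (CommRingCat.of C)).hom.hom _ _

theorem fn_injective {C : Type u} [CommRing C] [Algebra A C] :
    Function.Injective (fn j : (TorsVec.testObj j C ⟶ Red.Gm S) → C) := fun g g' h =>
  GmPts.gmFn_injective ((Scheme.ΓSpecIso (CommRingCat.of C)).commRingCatIsoToRingEquiv.injective h)

theorem fn_testMap {C D : Type u} [CommRing C] [Algebra A C] [CommRing D] [Algebra A D] (φ : C →ₐ[A] D)
    (g : TorsVec.testObj j C ⟶ Red.Gm S) : fn j (TorsVec.testMap j φ ≫ g) = φ (fn j g) := by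
  unfold fn
  rw [GmPts.gmFn_comp]
  exact congrArg (fun q => (CommRingCat.Hom.hom q) (Red.gmFn g))
    (Scheme.ΓSpecIso_naturality (CommRingCat.ofHom φ.toRingHom))

theorem exists_fn_eq {C : Type u} [CommRing C] [Algebra A C] (v : Cˣ) :
    ∃ g : TorsVec.testObj j C ⟶ Red.Gm S, fn j g = v := by
  let z : Γ((TorsVec.testObj j C).left, ⊤)ˣ :=
    Units.map ((Scheme.ΓSpecIso (CommRingCat.of C)).inv.hom).toMonoidHom v
  refine ⟨GmPts.ptOfUnit z, ?_⟩
  unfold fn
  rw [GmPts.gmFn_ptOfUnit]
  exact Iso.inv_hom_id_apply (Scheme.ΓSpecIso (CommRingCat.of C)) (v : C)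

theorem exists_section_aux {X : Over S} (a : AlgGrp.Action (Red.Gm S) X)
    {B : Type u} [CommRing B] [Algebra A B] (p : TorsVec.testObj j B ⟶ X)
    (g : TorsVec.testObj j (B ⊗[A] B) ⟶ Red.Gm S)
    (hg : TorsVec.smulPt a g (TorsVec.testMap j TorsVec.insL ≫ p) = TorsVec.testMap j TorsVec.insR ≫ p)
    {A' : Type u} [CommRing A'] [Algebra A A'] {B' : Type u} [CommRing B'] [Algebra A B'] [Algebra A' B']
    [IsScalarTower A A' B'] [Module.FaithfullyFlat A' B'] (κ : B →ₐ[A] B') (m : B)
    (hm : (1 : B) ⊗ₜ[A] m = fn j g * (m ⊗ₜ 1)) (hu : IsUnit (κ m)) :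
    ∃ s : Spec (CommRingCat.of A') ⟶ X.left,
      s ≫ X.hom = Spec.map (CommRingCat.ofHom (algebraMap A A')) ≫ j := by
  let L : B' →ₐ[A] B' ⊗[A'] B' := (TorsVec.insL (A := A') (B := B')).restrictScalars A
  let R : B' →ₐ[A] B' ⊗[A'] B' := (TorsVec.insR (A := A') (B := B')).restrictScalars A
  let φ : B ⊗[A] B →ₐ[A] B' ⊗[A'] B' :=
    Algebra.TensorProduct.lift (L.comp κ) (R.comp κ) fun _ _ => Commute.all _ _
  have eL : φ.comp TorsVec.insL = L.comp κ := Algebra.TensorProduct.lift_comp_includeLeft _ _ _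
  have eR : φ.comp TorsVec.insR = R.comp κ := Algebra.TensorProduct.lift_comp_includeRight' _ _ _
  obtain ⟨v, hv⟩ := hu
  obtain ⟨q, hq⟩ := exists_fn_eq j v⁻¹
  let s := TorsVec.smulPt a q (TorsVec.testMap j κ ≫ p)
  have hs : TorsVec.testMap j L ≫ s = TorsVec.testMap j R ≫ s := by
    have hg' := congrArg (TorsVec.testMap j φ ≫ ·) hg
    simp only [TorsVec.comp_smulPt, TorsVec.testMap_comp_assoc, eL, eR] at hg'
    simp only [s, TorsVec.comp_smulPt, TorsVec.testMap_comp_assoc]
    rw [← hg', ← TorsVec.mul_smulPt]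
    congr 1
    refine fn_injective j ?_
    rw [fn_mul, fn_testMap, fn_testMap, fn_testMap, hq]
    have h1 : R (κ m) = φ (fn j g) * L (κ m) := by
      have := congrArg φ hm
      rw [map_mul] at this
      have e1 : φ (TorsVec.insL m) = L (κ m) := DFunLike.congr_fun eL m
      have e2 : φ (TorsVec.insR m) = R (κ m) := DFunLike.congr_fun eR m
      rw [← e1, ← e2]
      exact this
    rw [← hv] at h1
    calc L (↑v⁻¹ : B') = L (↑v⁻¹ : B') * (R (↑v⁻¹ : B') * R (v : B')) := by
          rw [← map_mul R, Units.inv_mul, map_one, _root_.mul_one]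
      _ = R (↑v⁻¹ : B') * φ (fn j g) * (L (↑v⁻¹ : B') * L (v : B')) := by rw [h1]; ring
      _ = R (↑v⁻¹ : B') * φ (fn j g) := by rw [← map_mul L, Units.inv_mul, map_one, _root_.mul_one]
  let j' := Spec.map (CommRingCat.ofHom (algebraMap A A')) ≫ j
  have hw : s.left ≫ X.hom = Spec.map (CommRingCat.ofHom (algebraMap A' B')) ≫ j' := by
    rw [show s.left ≫ X.hom = Spec.map (CommRingCat.ofHom (algebraMap A B')) ≫ j from Over.w s]
    simp only [j']
    rw [← Spec.map_comp_assoc, ← CommRingCat.ofHom_comp, ← IsScalarTower.algebraMap_eq]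
  exact TorsVec.exists_descend j' (Over.homMk s.left hw : TorsVec.testObj j' B' ⟶ X)
    (by ext1; exact congrArg (fun k : TorsVec.testObj j (B' ⊗[A'] B') ⟶ X => k.left) hs)

theorem exists_sections {X : Over S} (a : AlgGrp.Action (Red.Gm S) X) (h : NonAbH1.IsPseudoTorsorSch a)
    {B : Type u} [CommRing B] [Algebra A B] [Module.FaithfullyFlat A B] (p : TorsVec.testObj j B ⟶ X) :
    ∃ I : Set A, Ideal.span I = ⊤ ∧ ∀ x ∈ I, ∃ s : Spec (CommRingCat.of (Localization.Away x)) ⟶ X.left,
      s ≫ X.hom = Spec.map (CommRingCat.ofHom (algebraMap A (Localization.Away x))) ≫ j := by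
  obtain ⟨g, hg, hc⟩ := TorsVec.exists_cocycle j a h p
  have hc' := congrArg (fn j) hc
  rw [fn_mul, fn_testMap, fn_testMap, fn_testMap] at hc'
  obtain ⟨c, hcv⟩ := isUnit_fn j g
  refine ⟨_, TorsVec.span_splitting_eq_top c (by rw [hcv]; exact hc'), ?_⟩
  rintro x ⟨m, n, hm, hx⟩
  rw [hcv] at hm
  refine exists_section_aux j a p g hg (A' := Localization.Away x) (B' := Localization.Away x ⊗[A] B)
    Algebra.TensorProduct.includeRight m hm ?_
  refine isUnit_of_mul_isUnit_left (y := Algebra.TensorProduct.includeRight n) ?_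
  rw [← map_mul, ← hx, AlgHom.commutes,
    IsScalarTower.algebraMap_apply A (Localization.Away x) (Localization.Away x ⊗[A] B)]
  exact (IsLocalization.Away.algebraMap_isUnit x).map _

end

/-- Every principal homogeneous bundle under the multiplicative group over S (a pseudo-torsor which
acquires sections on the members of some fpqc covering family of S) is locally trivial, i.e. is a
torsor for the Zariski topology: S is covered by open subschemes over which it acquires sections.
(The published statement covers every S-group isomorphic to the general linear group of any rank;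
this row is the rank-one case.) -/
theorem result {S : Scheme.{u}} (X : Over S)
    (a : AlgGrp.Action (Red.Gm S) X) (h : NonAbH1.IsTorsorFor Scheme.fpqcPrecoverage a) :
    NonAbH1.IsTorsorFor Scheme.zariskiPrecoverage a := by
  have key : ∀ U : S.affineOpens, ∃ I : Set Γ(S, U.1), Ideal.span I = ⊤ ∧
      ∀ x ∈ I, ∃ s : Spec (CommRingCat.of (Localization.Away x)) ⟶ X.left,
        s ≫ X.hom = Spec.map (CommRingCat.ofHom (algebraMap Γ(S, U.1) (Localization.Away x))) ≫ U.2.fromSpec := by
    intro U
    obtain ⟨B, _, _, hB, ⟨p⟩⟩ := TorsVec.exists_algebra_point h.2 U.2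
    haveI := hB
    exact exists_sections U.2.fromSpec a h.1 p
  choose I hI hs using key
  refine ⟨h.1, Presieve.ofArrows (fun i : (Σ U : S.affineOpens, I U) => Spec (CommRingCat.of (Localization.Away i.2.1)))
    (fun i => Spec.map (CommRingCat.ofHom (algebraMap Γ(S, i.1.1) (Localization.Away i.2.1))) ≫ i.1.2.fromSpec), ?_, ?_⟩
  · refine (Scheme.ofArrows_mem_precoverage_iff _).2 ⟨fun z => ?_, fun i => ?_⟩
    · obtain ⟨U, hU⟩ := TopologicalSpace.Opens.mem_iSup.1
        (by rw [iSup_affineOpens_eq_top S]; trivial : z ∈ ⨆ U : S.affineOpens, (U.1 : S.Opens))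
      have hz : z ∈ Set.range U.2.fromSpec := by rw [U.2.range_fromSpec]; exact hU
      obtain ⟨y, rfl⟩ := hz
      have hy : y ∈ ⨆ x : I U, PrimeSpectrum.basicOpen (x : Γ(S, U.1)) := by
        rw [PrimeSpectrum.iSup_basicOpen_eq_top_iff.2 (by rw [Subtype.range_val]; exact hI U)]
        trivial
      obtain ⟨x, hx⟩ := TopologicalSpace.Opens.mem_iSup.1 hy
      have : y ∈ Set.range (Spec.map (CommRingCat.ofHom (algebraMap Γ(S, U.1) (Localization.Away x.1)))) :=
        (PrimeSpectrum.localization_away_comap_range (Localization.Away x.1) x.1).ge hx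
      obtain ⟨w, hw⟩ := this
      exact ⟨⟨U, x⟩, w, by rw [← hw]; rfl⟩
    · haveI := IsOpenImmersion.of_isLocalization (S := Localization.Away i.2.1) i.2.1
      change IsOpenImmersion _
      infer_instance
  · rintro S' f ⟨i⟩
    exact hs i.1 i.2.1 i.2.2

end Groth.Agent.S6005
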