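import Groth.Statements.S6006
import Groth.Agent.TorsVecLib.Points
import Groth.Agent.GaGmKerLib.GaPts
import Groth.Agent.WittDescLib.Amitsur
-- import your own Groth.Agent.* helpers here

set_option autoImplicit false
set_option backward.isDefEq.respectTransparency false
set_option linter.all false
universe u
open CategoryTheory AlgebraicGeometry
open SGA1

namespace Groth.Agent.S6006

open CategoryTheory.Limits MonoidalCategory CartesianMonoidalCategory MonObj TensorProduct

section

variable {S : Scheme.{u}} {A : Type u} [CommRing A] (j : Spec (CommRingCat.of A) ⟶ S)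

/-- The function of a point of the additive group on an affine test scheme. -/
noncomputable def fn {C : Type u} [CommRing C] [Algebra A C] (g : TorsVec.testObj j C ⟶ Red.Ga S) : C :=
  (Scheme.ΓSpecIso (CommRingCat.of C)).hom (Red.gaFn g)

theorem fn_mul {C : Type u} [CommRing C] [Algebra A C] (g g' : TorsVec.testObj j C ⟶ Red.Ga S) :
    fn j (g * g') = fn j g + fn j g' := by
  unfold fn
  rw [GaPts.gaFn_mul]
  exact map_add (Scheme.ΓSpecIso (CommRingCat.of C)).hom.hom _ _

theorem fn_injective {C : Type u} [CommRing C] [Algebra A C] :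
    Function.Injective (fn j : (TorsVec.testObj j C ⟶ Red.Ga S) → C) := fun g g' h =>
  GaPts.gaFn_injective ((Scheme.ΓSpecIso (CommRingCat.of C)).commRingCatIsoToRingEquiv.injective h)

theorem fn_testMap {C D : Type u} [CommRing C] [Algebra A C] [CommRing D] [Algebra A D] (φ : C →ₐ[A] D)
    (g : TorsVec.testObj j C ⟶ Red.Ga S) : fn j (TorsVec.testMap j φ ≫ g) = φ (fn j g) := by
  unfold fn
  rw [GaPts.gaFn_comp]
  exact congrArg (fun q => (CommRingCat.Hom.hom q) (Red.gaFn g))
    (Scheme.ΓSpecIso_naturality (CommRingCat.ofHom φ.toRingHom))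

theorem fn_surjective {C : Type u} [CommRing C] [Algebra A C] :
    Function.Surjective (fn j : (TorsVec.testObj j C ⟶ Red.Ga S) → C) := fun c => by
  obtain ⟨z, hz⟩ := (Scheme.ΓSpecIso (CommRingCat.of C)).commRingCatIsoToRingEquiv.surjective c
  exact ⟨GaPts.ptOf (T := TorsVec.testObj j C) z,
    (congrArg (Scheme.ΓSpecIso (CommRingCat.of C)).hom (GaPts.gaFn_ptOf (T := TorsVec.testObj j C) z)).trans hz⟩

theorem exists_section {X : Over S} (a : AlgGrp.Action (Red.Ga S) X) (h : NonAbH1.IsPseudoTorsorSch a)
    {B : Type u} [CommRing B] [Algebra A B] [Module.FaithfullyFlat A B] (p : TorsVec.testObj j B ⟶ X) :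
    ∃ s : Spec (CommRingCat.of A) ⟶ X.left, s ≫ X.hom = j := by
  obtain ⟨g, hg, hc⟩ := TorsVec.exists_cocycle j a h p
  have hc' := congrArg (fn j) hc
  rw [fn_mul, fn_testMap, fn_testMap, fn_testMap] at hc'
  set c := fn j g with hcdef
  have hd : (WittDescLib.d1 A B).lTensor A ((1 : A) ⊗ₜ[A] c) = 0 := by
    rw [LinearMap.lTensor_tmul, WittDescLib.d1_apply]
    have : WittDescLib.g12 A B c + WittDescLib.g23 A B c - WittDescLib.g13 A B c = 0 := by
      rw [sub_eq_zero, add_comm]
      exact hc'
    rw [this, tmul_zero]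
  obtain ⟨y, hy⟩ := (WittDescLib.amitsur_exact A B A _).1 hd
  obtain ⟨f, rfl⟩ : ∃ f : B, (1 : A) ⊗ₜ[A] f = y :=
    ⟨TensorProduct.lid A B y, (TensorProduct.lid A B).symm_apply_apply y⟩
  rw [LinearMap.lTensor_tmul] at hy
  have hcf : WittDescLib.d0 A B f = c := by simpa using congrArg (TensorProduct.lid A (B ⊗[A] B)) hy
  rw [WittDescLib.d0_apply] at hcf
  obtain ⟨q, hq⟩ := fn_surjective j (-f)
  refine TorsVec.exists_descend j (TorsVec.smulPt a q p) ?_
  rw [TorsVec.comp_smulPt, TorsVec.comp_smulPt, ← hg, ← TorsVec.mul_smulPt]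
  congr 1
  refine fn_injective j ?_
  rw [fn_mul, fn_testMap, fn_testMap, hq, ← hcdef, ← hcf]
  simp only [Algebra.TensorProduct.includeLeft_apply, Algebra.TensorProduct.includeRight_apply, neg_tmul, tmul_neg]
  abel

end

/-- Every principal homogeneous bundle under the additive group over S (a pseudo-torsor which acquires
sections on the members of some fpqc covering family of S) is locally trivial, i.e. is a torsor for
the Zariski topology: S is covered by open subschemes over which it acquires sections. -/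
theorem result {S : Scheme.{u}} (X : Over S)
    (a : AlgGrp.Action (Red.Ga S) X) (h : NonAbH1.IsTorsorFor Scheme.fpqcPrecoverage a) :
    NonAbH1.IsTorsorFor Scheme.zariskiPrecoverage a := by
  refine ⟨h.1, Presieve.ofArrows (fun U : S.affineOpens => U.1.toScheme) (fun U => U.1.ι), ?_, ?_⟩
  · exact (S.openCoverOfIsOpenCover (fun U : S.affineOpens => U.1) (iSup_affineOpens_eq_top S)).mem₀
  · rintro S' f ⟨U⟩
    obtain ⟨B, _, _, hB, ⟨p⟩⟩ := TorsVec.exists_algebra_point h.2 U.2
    haveI := hB
    obtain ⟨s, hs⟩ := exists_section U.2.fromSpec a h.1 p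
    refine ⟨U.2.isoSpec.hom ≫ s, ?_⟩
    rw [Category.assoc, hs]
    simp

end Groth.Agent.S6006
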