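import Groth.Statements.S6012
import Groth.Agent.FibLib.Clv
-- import your own Groth.Agent.* helpers here

set_option autoImplicit false
set_option backward.isDefEq.respectTransparency false
set_option backward.isDefEq.respectTransparency.types false
set_option linter.style.haveILetI false
open CategoryTheory
universe v₁ v₂ u₁ u₂
open FibCat FibCat.Cleavage

namespace Groth.Agent.S6012

/-- Let `K` be a cleavage of an arbitrary functor `p : 𝒳 ⥤ 𝒮` (one chosen cartesian lift of every base
morphism at every object over its target; `p` is not assumed fibred). Then `p` is a fibred category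
(composites of cartesian morphisms are cartesian) if and only if, for all composable base morphisms
`g : R ⟶ T` and `f : T ⟶ S`, the comparison natural transformation `c_{f,g}` from `g^* f^*` to
`(fg)^*` determined by `K` is an isomorphism. -/
theorem result (𝒮 : Type u₁) (𝒳 : Type u₂) [Category.{v₁} 𝒮] [Category.{v₂} 𝒳] (p : 𝒳 ⥤ 𝒮) (K : FibCat.Cleavage p) :
    p.IsFibered ↔ ∀ (R S T : 𝒮) (f : T ⟶ S) (g : R ⟶ T), IsIso (K.comp f g) := by
  constructor
  · intro _ R S T f g
    haveI : ∀ a, IsIso ((K.comp f g).app a) := fun a => by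
      haveI hc : p.IsCartesian (g ≫ f) (K.lift (K.obj_proj a.2 f) g ≫ K.lift a.2 f) := inferInstance
      haveI : IsIso (Functor.IsCartesian.map p (g ≫ f) (K.lift a.2 (g ≫ f))
          (K.lift (K.obj_proj a.2 f) g ≫ K.lift a.2 f)) :=
        (Functor.IsCartesian.domainUniqueUpToIso p (g ≫ f) (K.lift a.2 (g ≫ f))
          (K.lift (K.obj_proj a.2 f) g ≫ K.lift a.2 f)).isIso_hom
      exact FibLib.isIso_homMk _
    exact NatIso.isIso_of_isIso_app _
  · intro h
    haveI := K.isPreFibered
    refine { comp := fun {R S T} f g {a b c} φ ψ _ _ => ?_ }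
    have hc : p.obj c = T := IsHomLift.codomain_eq p g ψ
    let c' : p.Fiber T := ⟨c, hc⟩
    let e := Functor.IsCartesian.domainUniqueUpToIso p g (K.lift hc g) ψ
    have he : e.hom ≫ K.lift hc g = ψ := Functor.IsCartesian.fac p g _ ψ
    haveI : p.IsCartesian f (φ ≫ e.hom) := inferInstance
    let e' := Functor.IsCartesian.domainUniqueUpToIso p f (K.lift (K.obj_proj hc g) f) (φ ≫ e.hom)
    have he' : e'.hom ≫ K.lift (K.obj_proj hc g) f = φ ≫ e.hom := Functor.IsCartesian.fac p f _ _
    haveI := h R T S g f
    haveI : IsIso ((K.comp g f).app c') := inferInstance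
    let θ := Functor.Fiber.fiberInclusion.mapIso (asIso ((K.comp g f).app c'))
    haveI : p.IsHomLift (𝟙 R) θ.hom := inferInstanceAs
      (p.IsHomLift (𝟙 R) (Functor.Fiber.fiberInclusion.map ((K.comp g f).app c')))
    haveI : p.IsHomLift (𝟙 R) (e' ≪≫ θ).hom := inferInstanceAs (p.IsHomLift (𝟙 R) (e'.hom ≫ θ.hom))
    have key : φ ≫ ψ = (e' ≪≫ θ).hom ≫ K.lift hc (f ≫ g) := by
      rw [Iso.trans_hom, Category.assoc]
      refine Eq.trans ?_ (congrArg (e'.hom ≫ ·) (FibLib.comp_lift K g f c')).symm
      rw [← Category.assoc, he', Category.assoc, he]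
    rw [key]
    infer_instance

end Groth.Agent.S6012
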