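import Groth.Statements.S6013
import Groth.Agent.FibLib.Clv
-- import your own Groth.Agent.* helpers here

set_option autoImplicit false
set_option backward.isDefEq.respectTransparency false
set_option backward.isDefEq.respectTransparency.types false
set_option linter.style.haveILetI false
open CategoryTheory
universe v₁ v₂ u₁ u₂
open FibCat FibCat.Cleavage

namespace Groth.Agent.S6013

/-- Let `p : 𝒳 ⥤ 𝒮` be a fibred category with a cleavage `K`, and let `f : T ⟶ S` be an isomorphism of
the base. Then the inverse-image functor `f^*` of `K`, from the fibre over `S` to the fibre over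
`T`, is an equivalence of categories. -/
theorem result (𝒮 : Type u₁) (𝒳 : Type u₂) [Category.{v₁} 𝒮] [Category.{v₂} 𝒳] (p : 𝒳 ⥤ 𝒮) [p.IsFibered] (K : FibCat.Cleavage p)
    (S T : 𝒮) (f : T ⟶ S) [IsIso f] : (K.inverseImage f).IsEquivalence := by
  haveI : ∀ {a : 𝒳} (ha : p.obj a = S), IsIso (K.lift ha f) := fun ha =>
    Functor.IsStronglyCartesian.isIso_of_base_isIso p f (K.lift ha f)
  haveI : (K.inverseImage f).Faithful := ⟨fun {a b} φ ψ e => by
    apply Functor.Fiber.hom_ext
    have := congrArg (fun z => Functor.Fiber.fiberInclusion.map z ≫ K.lift b.2 f) e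
    simp only [FibLib.inverseImage_lift] at this
    exact (cancel_epi (K.lift a.2 f)).1 this⟩
  haveI : (K.inverseImage f).Full := ⟨fun {a b} ψ => by
    let φ : a.1 ⟶ b.1 := inv (K.lift a.2 f) ≫ Functor.Fiber.fiberInclusion.map ψ ≫ K.lift b.2 f
    haveI : p.IsHomLift (inv f ≫ 𝟙 T ≫ f) φ := inferInstance
    haveI : p.IsHomLift (𝟙 S) φ := by simpa using this
    refine ⟨Functor.Fiber.homMk p S φ, Functor.Fiber.hom_ext ?_⟩
    apply Functor.IsCartesian.ext p f (K.lift b.2 f)
    rw [FibLib.inverseImage_lift]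
    exact IsIso.hom_inv_id_assoc _ _⟩
  haveI : (K.inverseImage f).EssSurj := ⟨fun b => by
    let x : p.Fiber S := ⟨K.obj b.2 (inv f), K.obj_proj b.2 (inv f)⟩
    haveI : IsIso (K.lift b.2 (inv f)) :=
      Functor.IsStronglyCartesian.isIso_of_base_isIso p (inv f) (K.lift b.2 (inv f))
    let φ : K.obj x.2 f ⟶ b.1 := K.lift x.2 f ≫ K.lift b.2 (inv f)
    haveI : p.IsHomLift (f ≫ inv f) φ := inferInstance
    haveI : p.IsHomLift (𝟙 T) φ := by simpa using this
    haveI := FibLib.isIso_homMk (p := p) (S := T) φ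
    exact ⟨x, ⟨@asIso _ _ _ _ (Functor.Fiber.homMk p T φ) this⟩⟩⟩
  exact { }

end Groth.Agent.S6013
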