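import Groth.Statements.S6019
import Groth.Agent.FibLib.Clv
-- import your own Groth.Agent.* helpers here

set_option autoImplicit false
set_option backward.isDefEq.respectTransparency false
set_option backward.isDefEq.respectTransparency.types false
set_option linter.style.haveILetI false
open CategoryTheory
universe v₁ v₂ u₁ u₂
open FibCat FibCat.Cleavage

namespace Groth.Agent.S6019

/-- A pre-fibred category admits a normalised cleavage: if every base morphism `R ⟶ p(a)` has a
cartesian morphism over it with target `a`, then one cartesian lift can be chosen for every base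
morphism at every object over its target in such a way that the chosen lift of each identity `𝟙 S`
at each object `a` over `S` is the identity of `a` (identities are transport morphisms). -/
theorem result (𝒮 : Type u₁) (𝒳 : Type u₂) [Category.{v₁} 𝒮] [Category.{v₂} 𝒳]
    (p : 𝒳 ⥤ 𝒮) [p.IsPreFibered] : ∃ K : FibCat.Cleavage p, K.IsNormalised := by
  classical
  let P : ∀ {R S : 𝒮} {a : 𝒳}, p.obj a = S → (R ⟶ S) → Type _ := fun {R S a} _ f =>
    Σ' o : 𝒳, {φ : o ⟶ a // p.IsCartesian f φ}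
  have triv : ∀ {R S : 𝒮} {a : 𝒳}, p.obj a = S → ∀ f : R ⟶ S, (∃ e : R = S, f = eqToHom e) →
      p.IsCartesian f (𝟙 a) := by
    rintro R S a ha f ⟨rfl, rfl⟩
    haveI : p.IsHomLift (𝟙 R) (Iso.refl a).hom := IsHomLift.id ha
    haveI : p.IsStronglyCartesian (𝟙 R) (Iso.refl a).hom := Functor.IsStronglyCartesian.of_iso p _ _
    exact inferInstanceAs (p.IsCartesian (𝟙 R) (Iso.refl a).hom)
  let pick : ∀ {R S : 𝒮} {a : 𝒳} (ha : p.obj a = S) (f : R ⟶ S), P ha f := fun {R S a} ha f =>
    if h : ∃ e : R = S, f = eqToHom e then ⟨a, 𝟙 a, triv ha f h⟩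
    else ⟨Functor.IsPreFibered.pullbackObj ha f, Functor.IsPreFibered.pullbackMap ha f, inferInstance⟩
  have cmp : ∀ {S : 𝒮} {a : 𝒳} (x y : Σ' o : 𝒳, {φ : o ⟶ a // p.IsCartesian (𝟙 S) φ}), x = y →
      ∃ h : x.1 = y.1, x.2.1 = eqToHom h ≫ y.2.1 := by
    rintro S a x y rfl
    exact ⟨rfl, by simp⟩
  refine ⟨⟨fun ha f => (pick ha f).1, fun ha f => (pick ha f).2.1, fun ha f => (pick ha f).2.2⟩, fun S a ha => ?_⟩
  obtain ⟨h, hh⟩ := cmp (pick ha (𝟙 S)) ⟨a, 𝟙 a, triv ha _ ⟨rfl, rfl⟩⟩ (dif_pos ⟨rfl, rfl⟩)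
  exact ⟨h, hh.trans (Category.comp_id _)⟩

end Groth.Agent.S6019
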