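import Groth.Statements.S6045
import Groth.Agent.DescLib.Family
-- import your own Groth.Agent.* helpers here

set_option autoImplicit false
open CategoryTheory CategoryTheory.Limits AlgebraicGeometry
universe u
open GrpQ

namespace Groth.Agent.S6045

/-- Open immersions descend along the fpqc topology. For an fpqc covering family `f i : X i ⟶ S` of a
scheme `S`, every descent datum for schemes relative to the family all of whose members `Z i ⟶ X i`
are open immersions is effective. -/
theorem result {S : Scheme.{u}} {ι : Type u} {X : ι → Scheme.{u}}
    (f : ∀ i, X i ⟶ S) (hf : Presieve.ofArrows X f ∈ Scheme.fpqcPrecoverage S)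
    (D : Desc.SchDDFam f) (hD : ∀ i, IsOpenImmersion (D.obj i).hom) :
    D.IsEffective := by
  refine DescLib.isEffective_of_affine_case.{u} @IsOpenImmersion
    (fun m Y V q hq => DescLib.property_sigmaMap @IsOpenImmersion q hq) ?_ hf D hD
  intro X' S' p hX hS hfl hsurj D' hP
  haveI : IsOpenImmersion D'.obj.hom := hP
  haveI : QuasiCompact p := inferInstance
  exact DescLib.effective_of_isOpenImmersion D'

end Groth.Agent.S6045
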