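import Groth.Statements.S6047
import Groth.Agent.ShfQuotLib.Basic
-- import your own Groth.Agent.* helpers here

set_option autoImplicit false
open CategoryTheory CategoryTheory.Limits MonoidalCategory
universe w v₁ u₁
open ShfCat

namespace Groth.Agent.S6047

section helper
open CategoryTheory MonoidalCategory CartesianMonoidalCategory
theorem assoc_whisker {V : Type*} [Category V] [CartesianMonoidalCategory V] {Q : V} (m : Q ⊗ Q ⟶ Q) :
    (α_ Q Q Q).hom ≫ Q ◁ m =
      lift (fst (Q ⊗ Q) Q ≫ fst Q Q) (lift (fst (Q ⊗ Q) Q ≫ snd Q Q) (snd (Q ⊗ Q) Q) ≫ m) := by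
  refine CartesianMonoidalCategory.hom_ext _ _ ?_ ?_
  · simp
  · rw [lift_snd, Category.assoc, whiskerLeft_snd, ← Category.assoc]
    congr 1
    ext <;> simp

theorem whisker_eq_lift {V : Type*} [Category V] [CartesianMonoidalCategory V] {A A' B : V} (f : A ⟶ A') :
    f ▷ B = lift (fst A B ≫ f) (snd A B) := by ext <;> simp

theorem whisker_eq_lift' {V : Type*} [Category V] [CartesianMonoidalCategory V] {A B B' : V} (f : B ⟶ B') :
    A ◁ f = lift (fst A B) (snd A B ≫ f) := by ext <;> simp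

end helper


set_option backward.isDefEq.respectTransparency false in
open MonObj CartesianMonoidalCategory SemiCartesianMonoidalCategory in
/-- Let `u : H ⟶ G` be a monomorphism of sheaves of groups on a site identifying `H` with a normal
subgroup sheaf of `G`. Then the quotient sheaf `G/H` (the coequalizer, in sheaves of sets, of the
projection and the multiplication `G × H ⇉ G`) carries exactly one structure of sheaf of groups for
which the canonical map `G ⟶ G/H` is a homomorphism. Stated for sheaves of sets valued in `Type w`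
whenever sheafification exists; group sheaves are group objects for the cartesian monoidal
structure. -/
theorem result {C : Type u₁} [Category.{v₁} C]
    (J : GrothendieckTopology C) [HasSheafify J (Type w)]
    {H G : Sheaf J (Type w)} [hH : GrpObj H] [hG : GrpObj G] (u : H ⟶ G) [Mono u]
    (hu : @IsMonHom (Sheaf J (Type w)) _ _ H G hH.toMonObj hG.toMonObj u)
    (hn : ∀ (Y : Sheaf J (Type w)) (g : Y ⟶ G) (h : Y ⟶ H), ∃ h' : Y ⟶ H, g * (h ≫ u) * g⁻¹ = h' ≫ u) :
    ∃! str : GrpObj (coequalizer (fst G H) ((G ◁ u) ≫ hG.mul)),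
      @IsMonHom (Sheaf J (Type w)) _ _ G (coequalizer (fst G H) ((G ◁ u) ≫ hG.mul)) hG.toMonObj str.toMonObj
        (coequalizer.π (fst G H) ((G ◁ u) ≫ hG.mul)) := by
  haveI := hu
  let π := coequalizer.π (fst G H) ((G ◁ u) ≫ μ[G])
  have hcoset : ∀ {W : Sheaf J (Type w)} {a b : W ⟶ G}, a ≫ π = b ≫ π → ∃ h : W ⟶ H, b = a * (h ≫ u) :=
    fun h => ShfQuotLib.exists_of_eq u h
  have hconj : ∀ {W : Sheaf J (Type w)} (g : W ⟶ G) (h : W ⟶ H), ∃ h' : W ⟶ H, g⁻¹ * (h ≫ u) * g = h' ≫ u :=
    fun g h => by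
      obtain ⟨h', e⟩ := hn _ g⁻¹ h
      exact ⟨h', by rw [← e, _root_.inv_inv]⟩
  haveI : Epi π := inferInstanceAs (Epi (coequalizer.π (fst G H) ((G ◁ u) ≫ μ[G])))
  obtain ⟨m, hm⟩ := ShfQuotLib.descend (π ⊗ₘ π) (μ[G] ≫ π) fun W a b hab => by
    obtain ⟨h1, h2⟩ := ShfQuotLib.tensor_lifts π π hab
    obtain ⟨x, hx⟩ := hcoset h1
    obtain ⟨y, hy⟩ := hcoset h2
    have ea : ∀ z : W ⟶ G ⊗ G, z ≫ μ[G] = (z ≫ fst G G) * (z ≫ snd G G) := fun z => by
      rw [Hom.mul_def, ← comp_lift, lift_fst_snd, Category.comp_id]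
    obtain ⟨x', hx'⟩ := hconj (a ≫ snd G G) x
    have eb : b ≫ μ[G] = (a ≫ μ[G]) * ((x' * y) ≫ u) := by
      rw [ea, ea, hx, hy, MonObj.mul_comp, ← hx']; group
    rw [← Category.assoc, ← Category.assoc b, eb]
    exact (ShfQuotLib.coset_eq u _ _).symm
  obtain ⟨v, hv⟩ := ShfQuotLib.descend π (ι[G] ≫ π) fun W a b hab => by
    obtain ⟨x, hx⟩ := hcoset hab
    obtain ⟨x', hx'⟩ := hn _ a x⁻¹
    have eb : b ≫ ι[G] = (a ≫ ι[G]) * (x' ≫ u) := by
      rw [← Hom.inv_def, ← Hom.inv_def, hx, ← hx', GrpObj.inv_comp]; group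
    rw [← Category.assoc, ← Category.assoc b, eb]
    exact (ShfQuotLib.coset_eq u _ _).symm
  have hm' : ∀ {W : Sheaf J (Type w)} (a b : W ⟶ G), lift (a ≫ π) (b ≫ π) ≫ m = (a * b) ≫ π := fun a b => by
    rw [← lift_map a b π π, Category.assoc, hm, ← Category.assoc, Hom.mul_def]
  let e : 𝟙_ (Sheaf J (Type w)) ⟶ coequalizer (fst G H) ((G ◁ u) ≫ μ[G]) := η[G] ≫ π
  have hone : ∀ {W : Sheaf J (Type w)} (f : W ⟶ 𝟙_ _), f ≫ e = (1 : W ⟶ G) ≫ π := fun f => by
    rw [Hom.one_def, toUnit_unique f (toUnit _)]; exact (Category.assoc _ _ _).symm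
  let M : MonObj (coequalizer (fst G H) ((G ◁ u) ≫ μ[G])) :=
    { one := e
      mul := m
      one_mul := by
        rw [← cancel_epi (𝟙_ _ ◁ π),
          show e ▷ _ = lift (fst _ _ ≫ e) (snd _ _) from by ext <;> simp,
          ← Category.assoc, comp_lift, ← Category.assoc, whiskerLeft_fst, whiskerLeft_snd, hone, hm',
          _root_.one_mul, leftUnitor_hom, whiskerLeft_snd]
      mul_one := by
        rw [← cancel_epi (π ▷ 𝟙_ _),
          show _ ◁ e = lift (fst _ _) (snd _ _ ≫ e) from by ext <;> simp,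
          ← Category.assoc, comp_lift, ← Category.assoc, whiskerRight_snd, whiskerRight_fst, hone, hm',
          _root_.mul_one, rightUnitor_hom, whiskerRight_fst]
      mul_assoc := by
        have e2 := assoc_whisker m
        rw [← Category.assoc ((α_ _ _ _).hom), e2,
          show m ▷ _ = lift (fst _ _ ≫ m) (snd _ _) from by ext <;> simp,
          ← cancel_epi ((π ⊗ₘ π) ⊗ₘ π)]
        simp only [← Category.assoc, comp_lift, tensorHom_fst, tensorHom_snd]
        simp only [Category.assoc, tensorHom_fst, tensorHom_snd]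
        rw [show fst (G ⊗ G) G ≫ (π ⊗ₘ π) ≫ m = (fst (G ⊗ G) G ≫ μ[G]) ≫ π by rw [hm, Category.assoc]]
        simp only [← Category.assoc]
        rw [hm', hm', hm']
        congr 1
        rw [← _root_.mul_assoc, Hom.mul_def (fst (G ⊗ G) G ≫ fst G G), ← comp_lift, lift_fst_snd,
          Category.comp_id] }
  let str : GrpObj (coequalizer (fst G H) ((G ◁ u) ≫ μ[G])) :=
    { toMonObj := M
      inv := v
      left_inv := by
        show lift v (𝟙 _) ≫ m = toUnit _ ≫ e
        rw [← cancel_epi π, ← Category.assoc, comp_lift, hv, Category.comp_id,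
          show lift (ι[G] ≫ π) π = lift (ι[G] ≫ π) (𝟙 G ≫ π) by rw [Category.id_comp]]
        rw [hm', ← Category.assoc _ (toUnit _), comp_toUnit, hone, GrpObj.inv_eq_inv, inv_mul_cancel]
      right_inv := by
        show lift (𝟙 _) v ≫ m = toUnit _ ≫ e
        rw [← cancel_epi π, ← Category.assoc, comp_lift, hv, Category.comp_id,
          show lift π (ι[G] ≫ π) = lift (𝟙 G ≫ π) (ι[G] ≫ π) by rw [Category.id_comp]]
        rw [hm', ← Category.assoc _ (toUnit _), comp_toUnit, hone, GrpObj.inv_eq_inv, mul_inv_cancel] }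
  refine ⟨str, { one_hom := rfl, mul_hom := hm.symm }, fun str' h' => ?_⟩
  refine GrpObj.ext _ _ ?_
  refine MonObj.ext _ _ ?_
  exact (cancel_epi (π ⊗ₘ π)).1 (h'.mul_hom.symm.trans hm.symm)


end Groth.Agent.S6047
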