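import Groth.Statements.S6048
import Groth.Agent.ShfQuotLib.Basic
-- import your own Groth.Agent.* helpers here

set_option autoImplicit false
open CategoryTheory CategoryTheory.Limits MonoidalCategory
universe w v₁ u₁
open ShfCat

namespace Groth.Agent.S6048

set_option backward.isDefEq.respectTransparency false in
open CartesianMonoidalCategory SemiCartesianMonoidalCategory in
/-- For sheaves of sets on a site with sheafification: let `p₁, p₂ : R ⇉ X` be an equivalence relation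
of sheaves with universally effective quotient `π : X ⟶ X/R` and `Y` a sheaf. (a) A subsheaf `Z ⊆ X
× Y` stable under `R × Y`, covering `Y`, and any two of whose points over the same point of `Y` are
`R`-related, is the pullback of `π` along exactly one `f : Y ⟶ X/R`; (b) every `f : Y ⟶ X/R` arises
in this way. -/
theorem result {C : Type u₁} [Category.{v₁} C]
    (J : GrothendieckTopology C) [HasSheafify J (Type w)]
    {R X : Sheaf J (Type w)} {p₁ p₂ : R ⟶ X}
    (e : UniversallyEffectiveEquivalenceRelation p₁ p₂) (Y : Sheaf J (Type w)) :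
    (∀ (Z : Sheaf J (Type w)) (ι : Z ⟶ X ⊗ Y), Mono ι →
      (∀ (W : Sheaf J (Type w)) (r : W ⟶ R) (y : W ⟶ Y),
        (∃ z : W ⟶ Z, z ≫ ι = lift (r ≫ p₁) y) ↔ (∃ z : W ⟶ Z, z ≫ ι = lift (r ≫ p₂) y)) →
      Epi (ι ≫ snd X Y) →
      (∀ (W : Sheaf J (Type w)) (z₁ z₂ : W ⟶ Z), z₁ ≫ ι ≫ snd X Y = z₂ ≫ ι ≫ snd X Y →
        ∃ r : W ⟶ R, r ≫ p₁ = z₁ ≫ ι ≫ fst X Y ∧ r ≫ p₂ = z₂ ≫ ι ≫ fst X Y) →
      ∃! f : Y ⟶ e.B, IsPullback (ι ≫ fst X Y) (ι ≫ snd X Y) e.π f) ∧
    (∀ f : Y ⟶ e.B, ∃ (Z : Sheaf J (Type w)) (ι : Z ⟶ X ⊗ Y), Mono ι ∧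
      (∀ (W : Sheaf J (Type w)) (r : W ⟶ R) (y : W ⟶ Y),
        (∃ z : W ⟶ Z, z ≫ ι = lift (r ≫ p₁) y) ↔ (∃ z : W ⟶ Z, z ≫ ι = lift (r ≫ p₂) y)) ∧
      Epi (ι ≫ snd X Y) ∧
      (∀ (W : Sheaf J (Type w)) (z₁ z₂ : W ⟶ Z), z₁ ≫ ι ≫ snd X Y = z₂ ≫ ι ≫ snd X Y →
        ∃ r : W ⟶ R, r ≫ p₁ = z₁ ≫ ι ≫ fst X Y ∧ r ≫ p₂ = z₂ ≫ ι ≫ fst X Y) ∧
      IsPullback (ι ≫ fst X Y) (ι ≫ snd X Y) e.π f) := by
  haveI : EffectiveEpi e.π := (MorphismProperty.universally_le _) _ e.universally_effectiveEpi_π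
  refine ⟨fun Z ι hι hst hep hrel => ?_, fun f => ?_⟩
  · haveI := hι
    haveI := hep
    obtain ⟨f, hf⟩ := ShfQuotLib.descend (ι ≫ snd X Y) (ι ≫ fst X Y ≫ e.π) fun W a b hab => by
      obtain ⟨r, h1, h2⟩ := hrel W a b hab
      calc a ≫ ι ≫ fst X Y ≫ e.π = (r ≫ p₁) ≫ e.π := by rw [h1]; simp only [Category.assoc]
        _ = (r ≫ p₂) ≫ e.π := by rw [Category.assoc, Category.assoc, e.isKernelPair.w]
        _ = b ≫ ι ≫ fst X Y ≫ e.π := by rw [h2]; simp only [Category.assoc]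
    have w : (ι ≫ fst X Y) ≫ e.π = (ι ≫ snd X Y) ≫ f := by rw [hf, Category.assoc]
    refine ⟨f, ?_, fun f' h' => ?_⟩
    · have hl : ∀ s : PullbackCone e.π f, ∃ z : s.pt ⟶ Z, z ≫ ι = lift s.fst s.snd := fun s => by
        obtain ⟨W, p, _, z, hz⟩ := ShfQuotLib.exists_lift (ι ≫ snd X Y) s.snd
        have hk : (z ≫ ι ≫ fst X Y) ≫ e.π = (p ≫ s.fst) ≫ e.π := by
          rw [Category.assoc, w, ← Category.assoc, hz, Category.assoc, Category.assoc, s.condition]
        obtain ⟨r, h1, h2⟩ : ∃ r : W ⟶ R, r ≫ p₁ = z ≫ ι ≫ fst X Y ∧ r ≫ p₂ = p ≫ s.fst :=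
          ⟨e.isKernelPair.lift _ _ hk, e.isKernelPair.lift_fst _ _ _, e.isKernelPair.lift_snd _ _ _⟩
        have hzι : z ≫ ι = lift (r ≫ p₁) (p ≫ s.snd) := by
          refine CartesianMonoidalCategory.hom_ext _ _ ?_ ?_
          · rw [lift_fst, h1, Category.assoc]
          · rw [lift_snd, ← hz, Category.assoc]
        obtain ⟨z', hz'⟩ := (hst W r (p ≫ s.snd)).1 ⟨z, hzι⟩
        rw [h2, ← comp_lift] at hz'
        exact ShfQuotLib.mem_of_epi ι p _ z' hz'
      choose l hl using hl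
      refine IsPullback.of_isLimit' ⟨w⟩ (PullbackCone.IsLimit.mk _ l
        (fun s => by rw [← Category.assoc, hl, lift_fst]) (fun s => by rw [← Category.assoc, hl, lift_snd])
        fun s m h1 h2 => ?_)
      rw [← cancel_mono ι, hl]
      refine CartesianMonoidalCategory.hom_ext _ _ ?_ ?_
      · rw [lift_fst, Category.assoc]; exact h1
      · rw [lift_snd, Category.assoc]; exact h2
    · rw [← cancel_epi (ι ≫ snd X Y), hf, ← h'.w, Category.assoc]
  · have key : ∀ {W : Sheaf J (Type w)} (x : W ⟶ X) (y : W ⟶ Y),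
        (∃ z : W ⟶ pullback e.π f, z ≫ lift (pullback.fst e.π f) (pullback.snd e.π f) = lift x y) ↔
          x ≫ e.π = y ≫ f := by
      refine fun x y => ⟨?_, fun h => ⟨pullback.lift x y h, by rw [comp_lift, pullback.lift_fst, pullback.lift_snd]⟩⟩
      rintro ⟨z, hz⟩
      have h1 := hz =≫ fst X Y
      have h2 := hz =≫ snd X Y
      simp only [Category.assoc, lift_fst, lift_snd] at h1 h2
      rw [← h1, ← h2, Category.assoc, Category.assoc, pullback.condition]
    refine ⟨pullback e.π f, lift (pullback.fst e.π f) (pullback.snd e.π f), ⟨fun {W} a b h => ?_⟩,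
      fun W r y => ?_, ?_, fun W z₁ z₂ h => ?_, ?_⟩
    · have h1 := h =≫ fst X Y
      have h2 := h =≫ snd X Y
      simp only [Category.assoc, lift_fst, lift_snd] at h1 h2
      exact pullback.hom_ext h1 h2
    · rw [key, key, Category.assoc, Category.assoc, e.isKernelPair.w]
    · rw [lift_snd]
      exact ShfQuotLib.epi_of_isPullback (IsPullback.of_hasPullback e.π f)
    · simp only [lift_fst, lift_snd] at h ⊢
      have hk : (z₁ ≫ pullback.fst e.π f) ≫ e.π = (z₂ ≫ pullback.fst e.π f) ≫ e.π := by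
        simp only [Category.assoc, pullback.condition]
        rw [← Category.assoc, h, Category.assoc]
      exact ⟨e.isKernelPair.lift _ _ hk, e.isKernelPair.lift_fst _ _ _, e.isKernelPair.lift_snd _ _ _⟩
    · rw [lift_fst, lift_snd]
      exact IsPullback.of_hasPullback e.π f


end Groth.Agent.S6048
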