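import Groth.Statements.S6050
import Groth.Agent.ShfQuotLib.Basic
-- import your own Groth.Agent.* helpers here

set_option autoImplicit false
open CategoryTheory CategoryTheory.Limits MonoidalCategory
universe w v₁ u₁
open ShfCat

namespace Groth.Agent.S6050

section helper
set_option backward.isDefEq.respectTransparency false
open CategoryTheory CategoryTheory.Limits MonoidalCategory CartesianMonoidalCategory MonObj ShfQuotLib

variable {C : Type u₁} [Category.{v₁} C] {J : GrothendieckTopology C} [HasSheafify J (Type w)]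
  {H G Q : Sheaf J (Type w)} [GrpObj G] [GrpObj Q] (π : G ⟶ Q)

omit [GrpObj G] [GrpObj Q] in
theorem mem_pullback_iff (K' : Subobject Q) {W : Sheaf J (Type w)} (g : W ⟶ G) :
    Mem ((Subobject.pullback π).obj K').arrow g ↔ Mem K'.arrow (g ≫ π) := by
  have sq := Subobject.isPullback π K'
  refine ⟨?_, ?_⟩
  · rintro ⟨x, rfl⟩
    exact ⟨x ≫ Subobject.pullbackπ π K', by rw [Category.assoc, sq.w, Category.assoc]⟩
  · rintro ⟨y, hy⟩
    exact ⟨sq.lift y g hy, sq.lift_snd _ _ _⟩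

omit [GrpObj G] [GrpObj Q] in
theorem mem_mk_iff {A B W : Sheaf J (Type w)} (i : A ⟶ B) [Mono i] (g : W ⟶ B) :
    Mem (Subobject.mk i).arrow g ↔ Mem i g := by
  refine ⟨?_, ?_⟩
  · rintro ⟨x, rfl⟩
    exact ⟨x ≫ (Subobject.underlyingIso i).hom, by
      rw [Category.assoc, Subobject.underlyingIso_hom_comp_eq_mk]⟩
  · rintro ⟨x, rfl⟩
    exact ⟨x ≫ (Subobject.underlyingIso i).inv, by rw [Category.assoc, Subobject.underlyingIso_arrow]⟩

variable [IsMonHom π] [Epi π]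

theorem isSubgrp_pullback (K' : Subobject Q) (h : IsSubgrp K'.arrow) :
    IsSubgrp ((Subobject.pullback π).obj K').arrow := by
  refine ⟨fun W => ?_, fun {W g g'} hg hg' => ?_, fun {W g} hg => ?_⟩
  · rw [mem_pullback_iff, MonObj.one_comp]; exact h.one W
  · rw [mem_pullback_iff] at hg hg' ⊢
    rw [MonObj.mul_comp]; exact h.mul hg hg'
  · rw [mem_pullback_iff] at hg ⊢
    rw [GrpObj.inv_comp]; exact h.inv hg

omit [GrpObj G] [GrpObj Q] [IsMonHom π] in
theorem le_of_pullback_eq {K₁ K₂ : Subobject Q}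
    (e : (Subobject.pullback π).obj K₁ = (Subobject.pullback π).obj K₂) : K₁ ≤ K₂ := by
  obtain ⟨W, p, _, a, ha⟩ := exists_lift π K₁.arrow
  have h1 : Mem ((Subobject.pullback π).obj K₁).arrow a := (mem_pullback_iff π K₁ a).2 ⟨p, ha.symm⟩
  rw [e, mem_pullback_iff] at h1
  obtain ⟨y, hy⟩ := h1
  obtain ⟨x, hx⟩ := mem_of_epi K₂.arrow p K₁.arrow y (hy.trans ha)
  exact Subobject.le_of_comm x hx

theorem exists_image (K : Subobject G) (hK : IsSubgrp K.arrow) (u : H ⟶ G) (huK : Mem K.arrow u)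
    (hker : ∀ {W : Sheaf J (Type w)} {a b : W ⟶ G}, a ≫ π = b ≫ π → ∃ h : W ⟶ H, b = a * (h ≫ u)) :
    ∃ K' : Subobject Q, IsSubgrp K'.arrow ∧ (Subobject.pullback π).obj K' = K := by
  let f := K.arrow ≫ π
  let ι' := Sheaf.imageι f
  have hfac : ∀ {W : Sheaf J (Type w)} (a : W ⟶ (K : Sheaf J (Type w))),
      Mem ι' ((a ≫ K.arrow) ≫ π) := fun a =>
    ⟨a ≫ Sheaf.toImage f, by rw [Category.assoc, Category.assoc, Sheaf.toImage_ι]⟩
  have hlift : ∀ {W : Sheaf J (Type w)} {g : W ⟶ Q}, Mem ι' g →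
      ∃ (W' : Sheaf J (Type w)) (p : W' ⟶ W) (_ : Epi p) (a : W' ⟶ (K : Sheaf J (Type w))),
        p ≫ g = (a ≫ K.arrow) ≫ π := by
    rintro W g ⟨y, rfl⟩
    obtain ⟨W', p, hp, a, ha⟩ := exists_lift (Sheaf.toImage f) y
    refine ⟨W', p, hp, a, ?_⟩
    rw [← Category.assoc p, ← ha, Category.assoc, Sheaf.toImage_ι, Category.assoc]
  refine ⟨Subobject.mk ι', ⟨fun W => ?_, fun {W g g'} hg hg' => ?_, fun {W g} hg => ?_⟩, ?_⟩
  · rw [mem_mk_iff]
    obtain ⟨a, ha⟩ := hK.one W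
    have := hfac a
    rwa [ha, MonObj.one_comp] at this
  · rw [mem_mk_iff] at hg hg' ⊢
    obtain ⟨W₁, p₁, _, a, ha⟩ := hlift hg
    obtain ⟨y', hy'⟩ := hg'
    obtain ⟨W₂, p₂, _, a', ha'⟩ := hlift (g := p₁ ≫ g') ⟨p₁ ≫ y', by rw [Category.assoc, hy']⟩
    obtain ⟨x, hx⟩ := hK.mul (⟨p₂ ≫ a, rfl⟩ : Mem K.arrow ((p₂ ≫ a) ≫ K.arrow)) (⟨a', rfl⟩ : Mem K.arrow (a' ≫ K.arrow))
    obtain ⟨y, hy⟩ := hfac x
    refine mem_of_epi ι' (p₂ ≫ p₁) _ y ?_
    rw [hy, hx, MonObj.mul_comp, MonObj.comp_mul, Category.assoc p₂ p₁ g, ha, Category.assoc p₂ p₁ g', ha']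
    simp only [Category.assoc]
  · rw [mem_mk_iff] at hg ⊢
    obtain ⟨W₁, p₁, _, a, ha⟩ := hlift hg
    obtain ⟨x, hx⟩ := hK.inv (⟨a, rfl⟩ : Mem K.arrow (a ≫ K.arrow))
    obtain ⟨y, hy⟩ := hfac x
    refine mem_of_epi ι' p₁ _ y ?_
    rw [hy, hx, GrpObj.inv_comp, ← ha, GrpObj.comp_inv]
  · refine le_antisymm ?_ ?_
    · have h1 : Mem (Subobject.mk ι').arrow (((Subobject.pullback π).obj (Subobject.mk ι')).arrow ≫ π) :=
        (mem_pullback_iff π _ _).1 ⟨𝟙 _, Category.id_comp _⟩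
      rw [mem_mk_iff] at h1
      obtain ⟨W, p, _, a, ha⟩ := hlift h1
      rw [← Category.assoc] at ha
      obtain ⟨h, hh⟩ := hker ha.symm
      obtain ⟨z, hz⟩ := huK
      obtain ⟨x, hx⟩ := hK.mul (⟨a, rfl⟩ : Mem K.arrow (a ≫ K.arrow))
        (⟨h ≫ z, by rw [Category.assoc, hz]⟩ : Mem K.arrow (h ≫ u))
      obtain ⟨x', hx'⟩ := mem_of_epi K.arrow p _ x (hx.trans hh.symm)
      exact Subobject.le_of_comm x' hx'
    · have h1 : Mem ((Subobject.pullback π).obj (Subobject.mk ι')).arrow K.arrow := by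
        rw [mem_pullback_iff, mem_mk_iff]
        simpa using hfac (𝟙 _)
      obtain ⟨x, hx⟩ := h1
      exact Subobject.le_of_comm x hx

theorem normal_iff (K' : Subobject Q) :
    (∀ (Y : Sheaf J (Type w)) (g : Y ⟶ Q) (k : Y ⟶ (K' : Sheaf J (Type w))),
        ∃ k' : Y ⟶ (K' : Sheaf J (Type w)), g * (k ≫ K'.arrow) * g⁻¹ = k' ≫ K'.arrow) ↔
      (∀ (Y : Sheaf J (Type w)) (g : Y ⟶ G)
        (k : Y ⟶ ((Subobject.pullback π).obj K' : Sheaf J (Type w))),
        ∃ k' : Y ⟶ ((Subobject.pullback π).obj K' : Sheaf J (Type w)),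
          g * (k ≫ ((Subobject.pullback π).obj K').arrow) * g⁻¹ = k' ≫ ((Subobject.pullback π).obj K').arrow) := by
  refine ⟨fun h Y g k => ?_, fun h Y g k => ?_⟩
  · obtain ⟨x, hx⟩ := (mem_pullback_iff π K' _).1 (⟨k, rfl⟩ : Mem ((Subobject.pullback π).obj K').arrow _)
    obtain ⟨k', hk'⟩ := h Y (g ≫ π) x
    obtain ⟨y, hy⟩ := (mem_pullback_iff π K' (g * (k ≫ ((Subobject.pullback π).obj K').arrow) * g⁻¹)).2
      ⟨k', by rw [MonObj.mul_comp, MonObj.mul_comp, GrpObj.inv_comp, ← hk', hx]⟩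
    exact ⟨y, hy.symm⟩
  · obtain ⟨W₁, p₁, _, a, ha⟩ := exists_lift π g
    obtain ⟨W₂, p₂, _, b, hb⟩ := exists_lift π (p₁ ≫ k ≫ K'.arrow)
    obtain ⟨x, hx⟩ := (mem_pullback_iff π K' b).2 ⟨p₂ ≫ p₁ ≫ k, by rw [hb]; simp only [Category.assoc]⟩
    obtain ⟨k', hk'⟩ := h W₂ (p₂ ≫ a) x
    obtain ⟨y, hy⟩ := (mem_pullback_iff π K' _).1 (⟨k', hk'.symm⟩ : Mem ((Subobject.pullback π).obj K').arrow _)
    obtain ⟨z, hz⟩ := mem_of_epi K'.arrow (p₂ ≫ p₁) (g * (k ≫ K'.arrow) * g⁻¹) y (by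
      rw [hy, hx, MonObj.mul_comp, MonObj.mul_comp, GrpObj.inv_comp, Category.assoc p₂ a π, ha, hb,
        MonObj.comp_mul, MonObj.comp_mul, GrpObj.comp_inv]
      simp only [Category.assoc])
    exact ⟨z, hz.symm⟩

end helper


set_option backward.isDefEq.respectTransparency false in
open MonObj CartesianMonoidalCategory SemiCartesianMonoidalCategory in
/-- Let `u : H ⟶ G` be a normal subgroup sheaf of a sheaf of groups `G` on a site, `G' = G/H` the
quotient sheaf with its group structure making `π : G ⟶ G'` a homomorphism. Then `K' ↦ K' ×_{G'} G`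
is a bijection from the subgroup sheaves of `G'` onto the subgroup sheaves of `G` containing `H`
(its inverse is `K ↦ K/H`), and normal subgroup sheaves correspond to normal subgroup sheaves.
Stated for sheaves of sets in `Type w` with sheafification; a subgroup sheaf is a subobject
admitting a group structure for which its inclusion is a homomorphism. -/
theorem result {C : Type u₁} [Category.{v₁} C]
    (J : GrothendieckTopology C) [HasSheafify J (Type w)]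
    {H G : Sheaf J (Type w)} [hH : GrpObj H] [hG : GrpObj G] (u : H ⟶ G) [Mono u]
    (hu : @IsMonHom (Sheaf J (Type w)) _ _ H G hH.toMonObj hG.toMonObj u)
    (hn : ∀ (Y : Sheaf J (Type w)) (g : Y ⟶ G) (h : Y ⟶ H), ∃ h' : Y ⟶ H, g * (h ≫ u) * g⁻¹ = h' ≫ u)
    [hQ : GrpObj (coequalizer (fst G H) ((G ◁ u) ≫ hG.mul))]
    (hπ : @IsMonHom (Sheaf J (Type w)) _ _ G (coequalizer (fst G H) ((G ◁ u) ≫ hG.mul)) hG.toMonObj hQ.toMonObj
      (coequalizer.π (fst G H) ((G ◁ u) ≫ hG.mul))) :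
    Set.BijOn (Subobject.pullback (coequalizer.π (fst G H) ((G ◁ u) ≫ hG.mul))).obj
      {K' : Subobject (coequalizer (fst G H) ((G ◁ u) ≫ hG.mul)) |
        ∃ str : GrpObj (K' : Sheaf J (Type w)),
          @IsMonHom (Sheaf J (Type w)) _ _ _ _ str.toMonObj hQ.toMonObj K'.arrow}
      {K : Subobject G | Subobject.mk u ≤ K ∧
        ∃ str : GrpObj (K : Sheaf J (Type w)),
          @IsMonHom (Sheaf J (Type w)) _ _ _ _ str.toMonObj hG.toMonObj K.arrow} ∧
    ∀ (K' : Subobject (coequalizer (fst G H) ((G ◁ u) ≫ hG.mul)))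
      (str' : GrpObj (K' : Sheaf J (Type w)))
      (str : GrpObj ((Subobject.pullback (coequalizer.π (fst G H) ((G ◁ u) ≫ hG.mul))).obj K' : Sheaf J (Type w))),
      @IsMonHom (Sheaf J (Type w)) _ _ _ _ str'.toMonObj hQ.toMonObj K'.arrow →
      @IsMonHom (Sheaf J (Type w)) _ _ _ _ str.toMonObj hG.toMonObj
        ((Subobject.pullback (coequalizer.π (fst G H) ((G ◁ u) ≫ hG.mul))).obj K').arrow →
      ((∀ (Y : Sheaf J (Type w)) (g : Y ⟶ coequalizer (fst G H) ((G ◁ u) ≫ hG.mul))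
          (k : Y ⟶ (K' : Sheaf J (Type w))),
          ∃ k' : Y ⟶ (K' : Sheaf J (Type w)), g * (k ≫ K'.arrow) * g⁻¹ = k' ≫ K'.arrow) ↔
        (∀ (Y : Sheaf J (Type w)) (g : Y ⟶ G)
          (k : Y ⟶ ((Subobject.pullback (coequalizer.π (fst G H) ((G ◁ u) ≫ hG.mul))).obj K' : Sheaf J (Type w))),
          ∃ k' : Y ⟶ ((Subobject.pullback (coequalizer.π (fst G H) ((G ◁ u) ≫ hG.mul))).obj K' : Sheaf J (Type w)),
            g * (k ≫ ((Subobject.pullback (coequalizer.π (fst G H) ((G ◁ u) ≫ hG.mul))).obj K').arrow) * g⁻¹ =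
              k' ≫ ((Subobject.pullback (coequalizer.π (fst G H) ((G ◁ u) ≫ hG.mul))).obj K').arrow)) := by
  haveI := hu
  haveI := hπ
  haveI : Epi (coequalizer.π (fst G H) ((G ◁ u) ≫ μ[G])) := inferInstance
  have hu1 : u ≫ coequalizer.π (fst G H) ((G ◁ u) ≫ μ[G]) = 1 := by
    have e := ShfQuotLib.coset_eq u 1 (𝟙 H)
    rwa [Category.id_comp, _root_.one_mul, MonObj.one_comp] at e
  refine ⟨⟨fun K' hK' => ?_, fun K₁ _ K₂ _ e => ?_, fun K hK => ?_⟩, fun K' _ _ _ _ => normal_iff _ K'⟩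
  · obtain ⟨str, hstr⟩ := hK'
    have hs := ShfQuotLib.isSubgrp_of_str K'.arrow str hstr
    refine ⟨?_, (isSubgrp_pullback _ K' hs).exists_str⟩
    obtain ⟨x, hx⟩ := (mem_pullback_iff (coequalizer.π (fst G H) ((G ◁ u) ≫ μ[G])) K' u).2 (by
      rw [hu1]; exact hs.one H)
    exact Subobject.mk_le_of_comm x hx
  · exact le_antisymm (le_of_pullback_eq _ e) (le_of_pullback_eq _ e.symm)
  · obtain ⟨hle, str, hstr⟩ := hK
    have hs := ShfQuotLib.isSubgrp_of_str K.arrow str hstr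
    have huK : ShfQuotLib.Mem K.arrow u :=
      ⟨(Subobject.underlyingIso u).inv ≫ Subobject.ofLE _ _ hle, by
        rw [Category.assoc, Subobject.ofLE_arrow, Subobject.underlyingIso_arrow]⟩
    obtain ⟨K', hK', e⟩ := exists_image _ K hs u huK (fun h => ShfQuotLib.exists_of_eq u h)
    exact ⟨K', hK'.exists_str, e⟩


end Groth.Agent.S6050
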