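import Groth.Statements.S6051
import Groth.Agent.ShfQuotLib.Basic
-- import your own Groth.Agent.* helpers here

set_option autoImplicit false
open CategoryTheory CategoryTheory.Limits MonoidalCategory
universe w v₁ u₁
open ShfCat

namespace Groth.Agent.S6051


set_option backward.isDefEq.respectTransparency false in
open MonObj CartesianMonoidalCategory SemiCartesianMonoidalCategory in
/-- Let `u : H ⟶ G` be a monomorphism of sheaves of groups on a site and `G/H` the quotient sheaf
(coequalizer in sheaves of sets of the projection and the multiplication `G × H ⇉ G`), with `π : G ⟶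
G/H`. Then `G/H` carries exactly one action of `G` (a unital, associative morphism `G × G/H ⟶ G/H`)
for which `π` is equivariant for the action of `G` on itself by left translations. Stated for
sheaves of sets in `Type w` with sheafification. (The published statement adds that this structure
is functorial in the pair `(G, H)`; that clause is not stated here.) -/
theorem result {C : Type u₁} [Category.{v₁} C]
    (J : GrothendieckTopology C) [HasSheafify J (Type w)]
    {H G : Sheaf J (Type w)} [hH : GrpObj H] [hG : GrpObj G] (u : H ⟶ G) [Mono u]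
    (hu : @IsMonHom (Sheaf J (Type w)) _ _ H G hH.toMonObj hG.toMonObj u) :
    ∃! act : G ⊗ coequalizer (fst G H) ((G ◁ u) ≫ hG.mul) ⟶ coequalizer (fst G H) ((G ◁ u) ≫ hG.mul),
      (hG.one ▷ coequalizer (fst G H) ((G ◁ u) ≫ hG.mul)) ≫ act =
          (λ_ (coequalizer (fst G H) ((G ◁ u) ≫ hG.mul))).hom ∧
        (hG.mul ▷ coequalizer (fst G H) ((G ◁ u) ≫ hG.mul)) ≫ act =
          (α_ G G (coequalizer (fst G H) ((G ◁ u) ≫ hG.mul))).hom ≫ (G ◁ act) ≫ act ∧
        hG.mul ≫ coequalizer.π (fst G H) ((G ◁ u) ≫ hG.mul) =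
          (G ◁ coequalizer.π (fst G H) ((G ◁ u) ≫ hG.mul)) ≫ act := by
  haveI := hu
  let π := coequalizer.π (fst G H) ((G ◁ u) ≫ μ[G])
  haveI : Epi π := inferInstanceAs (Epi (coequalizer.π (fst G H) ((G ◁ u) ≫ μ[G])))
  obtain ⟨act, hact⟩ := ShfQuotLib.descend (𝟙 G ⊗ₘ π) (μ[G] ≫ π) fun W a b hab => by
    obtain ⟨h1, h2⟩ := ShfQuotLib.tensor_lifts (𝟙 G) π hab
    rw [Category.comp_id, Category.comp_id] at h1
    obtain ⟨y, hy⟩ := ShfQuotLib.exists_of_eq u h2
    have ea : ∀ z : W ⟶ G ⊗ G, z ≫ μ[G] = (z ≫ fst G G) * (z ≫ snd G G) := fun z => by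
      rw [Hom.mul_def, ← comp_lift, lift_fst_snd, Category.comp_id]
    have eb : b ≫ μ[G] = (a ≫ μ[G]) * (y ≫ u) := by
      rw [ea, ea, ← h1, hy, _root_.mul_assoc]
    rw [← Category.assoc, ← Category.assoc b, eb]
    exact (ShfQuotLib.coset_eq u _ _).symm
  rw [id_tensorHom] at hact
  refine ⟨act, ⟨?_, ?_, hact.symm⟩, fun act' h' => ?_⟩
  · rw [← cancel_epi (𝟙_ _ ◁ π), ← Category.assoc, whisker_exchange, Category.assoc, hact,
      ← Category.assoc, MonObj.one_mul, leftUnitor_naturality]
  · rw [← cancel_epi ((G ⊗ G) ◁ π), ← Category.assoc, whisker_exchange, Category.assoc, hact,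
      ← Category.assoc, ← Category.assoc ((G ⊗ G) ◁ π), associator_naturality_right, Category.assoc,
      Category.assoc (α_ G G G).hom, ← Category.assoc (G ◁ G ◁ π), ← whiskerLeft_comp, hact, whiskerLeft_comp, Category.assoc, hact,
      MonObj.mul_assoc_assoc]
  · exact (cancel_epi (G ◁ π)).1 (h'.2.2.symm.trans hact.symm)


end Groth.Agent.S6051
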