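import Groth.Statements.S6054
import Groth.Agent.ShfQuotLib.Basic
-- import your own Groth.Agent.* helpers here

set_option autoImplicit false
open CategoryTheory CategoryTheory.Limits MonoidalCategory
universe w v₁ u₁
open ShfCat

namespace Groth.Agent.S6054


set_option backward.isDefEq.respectTransparency false in
open MonObj CartesianMonoidalCategory SemiCartesianMonoidalCategory in
/-- Let `G` be a sheaf of groups on a site, `K ⊆ G` a subgroup sheaf and `H ⊆ K` a subgroup sheaf normal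
in `K`. With `G/H`, `K/H`, `G/K` the quotient sheaves, the right action of `K/H` on `G/H` induced by
multiplication is free, and the canonical map `G/H ⟶ G/K` identifies `G/K` with the quotient
`(G/H)/(K/H)` (it is a coequalizer of the projection and the action). Sheaves of sets in `Type w`
with sheafification; the action and the map `G/H ⟶ G/K` are pinned by their compatibility with `G ×
K ⟶ G ⟶ G/H` and with `G ⟶ G/K`. (The published statement adds that for `K` normal in `G` the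
identification respects the group structures; that clause is not stated.) -/
theorem result {C : Type u₁} [Category.{v₁} C]
    (J : GrothendieckTopology C) [HasSheafify J (Type w)]
    {H K G : Sheaf J (Type w)} [hH : GrpObj H] [hK : GrpObj K] [hG : GrpObj G]
    (h : H ⟶ K) (k : K ⟶ G) [Mono h] [Mono k]
    (hh : @IsMonHom (Sheaf J (Type w)) _ _ H K hH.toMonObj hK.toMonObj h)
    (hk : @IsMonHom (Sheaf J (Type w)) _ _ K G hK.toMonObj hG.toMonObj k)
    (hn : ∀ (Y : Sheaf J (Type w)) (x : Y ⟶ K) (y : Y ⟶ H), ∃ y' : Y ⟶ H, x * (y ≫ h) * x⁻¹ = y' ≫ h)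
    (act : coequalizer (fst G H) ((G ◁ (h ≫ k)) ≫ hG.mul) ⊗ coequalizer (fst K H) ((K ◁ h) ≫ hK.mul) ⟶
      coequalizer (fst G H) ((G ◁ (h ≫ k)) ≫ hG.mul))
    (hact : (coequalizer.π (fst G H) ((G ◁ (h ≫ k)) ≫ hG.mul) ⊗ₘ coequalizer.π (fst K H) ((K ◁ h) ≫ hK.mul)) ≫ act =
      (G ◁ k) ≫ hG.mul ≫ coequalizer.π (fst G H) ((G ◁ (h ≫ k)) ≫ hG.mul))
    (qbar : coequalizer (fst G H) ((G ◁ (h ≫ k)) ≫ hG.mul) ⟶ coequalizer (fst G K) ((G ◁ k) ≫ hG.mul))
    (hq : coequalizer.π (fst G H) ((G ◁ (h ≫ k)) ≫ hG.mul) ≫ qbar = coequalizer.π (fst G K) ((G ◁ k) ≫ hG.mul)) :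
    Mono (lift act (fst _ _)) ∧
    ∃ wq : fst _ _ ≫ qbar = act ≫ qbar, Nonempty (IsColimit (Cofork.ofπ qbar wq)) := by
  haveI := hh
  haveI := hk
  haveI : IsMonHom (h ≫ k) := inferInstance
  let πH := coequalizer.π (fst G H) ((G ◁ (h ≫ k)) ≫ μ[G])
  let πK := coequalizer.π (fst K H) ((K ◁ h) ≫ μ[K])
  let πG := coequalizer.π (fst G K) ((G ◁ k) ≫ μ[G])
  haveI : Epi πH := inferInstanceAs (Epi (coequalizer.π (fst G H) ((G ◁ (h ≫ k)) ≫ μ[G])))
  haveI : Epi πK := inferInstanceAs (Epi (coequalizer.π (fst K H) ((K ◁ h) ≫ μ[K])))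
  haveI : Epi πG := inferInstanceAs (Epi (coequalizer.π (fst G K) ((G ◁ k) ≫ μ[G])))
  haveI : Epi qbar := epi_of_epi_fac hq
  refine ⟨⟨fun {W} z z' hzz => ?_⟩, ?_, ?_⟩
  · obtain ⟨W₁, p₁, _, a₁, ha₁⟩ := ShfQuotLib.exists_lift (πH ⊗ₘ πK) z
    obtain ⟨W₂, p₂, _, a₂, ha₂⟩ := ShfQuotLib.exists_lift (πH ⊗ₘ πK) (p₁ ≫ z')
    rw [← cancel_epi (p₂ ≫ p₁), Category.assoc, Category.assoc, ← ha₁, ← ha₂]
    have hzz' : (p₂ ≫ a₁ ≫ (πH ⊗ₘ πK)) ≫ lift act (fst _ _) = (a₂ ≫ (πH ⊗ₘ πK)) ≫ lift act (fst _ _) := by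
      rw [ha₁, ha₂]; simp only [Category.assoc, hzz]
    have hfst := hzz' =≫ snd _ _
    have hact' := hzz' =≫ fst _ _
    simp only [Category.assoc, lift_fst, lift_snd, tensorHom_fst] at hfst hact'
    rw [hact] at hact'
    simp only [← Category.assoc] at hfst
    obtain ⟨x, hx⟩ := ShfQuotLib.exists_of_eq (h ≫ k) hfst
    have ea : ∀ {T : Sheaf J (Type w)} (t : T ⟶ G ⊗ K),
        t ≫ (G ◁ k) ≫ μ[G] = (t ≫ fst G K) * ((t ≫ snd G K) ≫ k) := fun t => ShfQuotLib.comp_whiskerLeft_mul k t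
    have hact'' : ((p₂ ≫ a₁) ≫ (G ◁ k) ≫ μ[G]) ≫ πH = (a₂ ≫ (G ◁ k) ≫ μ[G]) ≫ πH := by
      simpa only [Category.assoc] using hact'
    obtain ⟨y, hy⟩ := ShfQuotLib.exists_of_eq (h ≫ k) hact''
    rw [ea, ea, hx, _root_.mul_assoc, _root_.mul_assoc] at hy
    have hy' := mul_left_cancel hy
    rw [← Category.assoc x, ← Category.assoc y, ← MonObj.mul_comp, ← MonObj.mul_comp, cancel_mono] at hy'
    obtain ⟨x', hx'⟩ := hn _ ((p₂ ≫ a₁) ≫ snd G K)⁻¹ x⁻¹
    refine CartesianMonoidalCategory.hom_ext _ _ ?_ ?_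
    · simp only [Category.assoc, tensorHom_fst]
      simpa only [Category.assoc] using hfst
    · simp only [Category.assoc, tensorHom_snd]
      simp only [← Category.assoc]
      rw [show a₂ ≫ snd G K = (p₂ ≫ a₁) ≫ snd G K * ((x' * y) ≫ h) from ?_]
      · exact (ShfQuotLib.coset_eq h _ _).symm
      · rw [MonObj.mul_comp, ← hx', GrpObj.inv_comp]
        rw [← inv_mul_eq_iff_eq_mul.2 hy'.symm]
        group
  · rw [← cancel_epi (πH ⊗ₘ πK), ← Category.assoc, tensorHom_fst, Category.assoc, hq,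
      ← Category.assoc (πH ⊗ₘ πK), hact, Category.assoc, Category.assoc, hq]
    exact coequalizer.condition (fst G K) ((G ◁ k) ≫ μ[G])
  · have hd : ∀ s : Cofork (fst (coequalizer (fst G H) ((G ◁ (h ≫ k)) ≫ μ[G]))
        (coequalizer (fst K H) ((K ◁ h) ≫ μ[K]))) act,
        fst G K ≫ πH ≫ s.π = ((G ◁ k) ≫ μ[G]) ≫ πH ≫ s.π := fun s => by
      have e := (πH ⊗ₘ πK) ≫= s.condition
      rw [← Category.assoc, ← Category.assoc, hact, tensorHom_fst] at e
      simpa only [Category.assoc] using e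
    refine ⟨Cofork.IsColimit.mk _ (fun s => coequalizer.desc (πH ≫ s.π) (hd s)) (fun s => ?_) (fun s m hm => ?_)⟩
    · show qbar ≫ _ = _
      rw [← cancel_epi πH, ← Category.assoc, hq, coequalizer.π_desc]
    · rw [← cancel_epi qbar]
      refine hm.trans ?_
      show _ = qbar ≫ _
      rw [← cancel_epi πH, ← Category.assoc, hq, coequalizer.π_desc]


end Groth.Agent.S6054
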