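import Groth.Statements.S6055
import Groth.Agent.ShfQuotLib.Basic
-- import your own Groth.Agent.* helpers here

set_option autoImplicit false
open CategoryTheory CategoryTheory.Limits MonoidalCategory
universe w v₁ u₁
open ShfCat

namespace Groth.Agent.S6055


set_option backward.isDefEq.respectTransparency false in
open MonObj CartesianMonoidalCategory SemiCartesianMonoidalCategory in
/-- Let `G` be a sheaf of groups on a site, `H, L ⊆ G` subgroup sheaves and `π : G ⟶ G/H` the quotient
sheaf map. Then the pair `L × (H ∩ L) ⇉ L` (projection, right multiplication) is the kernel pair of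
`L ⟶ G ⟶ G/H`, so that the image of `L` in `G/H` is the quotient sheaf `L/(H ∩ L)`. Sheaves of sets
in `Type w` with sheafification; `H ∩ L` is the fibre product `H ×_G L`. (The published statement
assumes `H` normal and also identifies this image with `(L·H)/H`; normality is not needed for the
part stated here.) -/
theorem result {C : Type u₁} [Category.{v₁} C]
    (J : GrothendieckTopology C) [HasSheafify J (Type w)]
    {H L G : Sheaf J (Type w)} [hH : GrpObj H] [hL : GrpObj L] [hG : GrpObj G]
    (u : H ⟶ G) (l : L ⟶ G) [Mono u] [Mono l]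
    (hu : @IsMonHom (Sheaf J (Type w)) _ _ H G hH.toMonObj hG.toMonObj u)
    (hl : @IsMonHom (Sheaf J (Type w)) _ _ L G hL.toMonObj hG.toMonObj l) :
    IsKernelPair (l ≫ coequalizer.π (fst G H) ((G ◁ u) ≫ hG.mul))
      (fst L (pullback u l)) ((L ◁ pullback.snd u l) ≫ hL.mul) := by
  haveI := hu
  haveI := hl
  have hp : ∀ {W : Sheaf J (Type w)} (z : W ⟶ L ⊗ pullback u l),
      z ≫ (L ◁ pullback.snd u l) ≫ μ[L] = (z ≫ fst _ _) * ((z ≫ snd _ _) ≫ pullback.snd u l) :=
    fun z => ShfQuotLib.comp_whiskerLeft_mul _ z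
  have w : fst L (pullback u l) ≫ l ≫ coequalizer.π (fst G H) ((G ◁ u) ≫ μ[G]) =
      ((L ◁ pullback.snd u l) ≫ μ[L]) ≫ l ≫ coequalizer.π (fst G H) ((G ◁ u) ≫ μ[G]) := by
    have h := hp (𝟙 (L ⊗ pullback u l))
    rw [Category.id_comp] at h
    rw [h, ← Category.assoc, ← Category.assoc _ l, MonObj.mul_comp]
    simp only [Category.id_comp, Category.assoc, ← pullback.condition]
    rw [← Category.assoc, ← Category.assoc (snd L (pullback u l))]
    exact (ShfQuotLib.coset_eq u _ _).symm
  have hlift : ∀ s : PullbackCone (l ≫ coequalizer.π (fst G H) ((G ◁ u) ≫ μ[G]))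
      (l ≫ coequalizer.π (fst G H) ((G ◁ u) ≫ μ[G])),
      ∃ z : s.pt ⟶ pullback u l, s.snd = s.fst * (z ≫ pullback.snd u l) := fun s => by
    have hs : (s.fst ≫ l) ≫ coequalizer.π (fst G H) ((G ◁ u) ≫ μ[G]) =
        (s.snd ≫ l) ≫ coequalizer.π (fst G H) ((G ◁ u) ≫ μ[G]) := by
      simpa only [Category.assoc] using s.condition
    obtain ⟨h, hh⟩ := ShfQuotLib.exists_of_eq u hs
    refine ⟨pullback.lift h (s.fst⁻¹ * s.snd) ?_, by rw [pullback.lift_snd, mul_inv_cancel_left]⟩
    rw [MonObj.mul_comp, GrpObj.inv_comp, hh, inv_mul_cancel_left]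
  choose z hz using hlift
  refine IsPullback.of_isLimit' ⟨w⟩ (PullbackCone.IsLimit.mk _ (fun s => lift s.fst (z s))
    (fun s => lift_fst _ _) (fun s => by rw [hp, lift_fst, lift_snd, ← hz]) fun s m h₁ h₂ => ?_)
  refine CartesianMonoidalCategory.hom_ext _ _ (h₁.trans (lift_fst _ _).symm) ?_
  rw [lift_snd]
  rw [hp, h₁] at h₂
  have e := mul_left_cancel (h₂.trans (hz s))
  refine pullback.hom_ext ?_ e
  rw [← cancel_mono u]
  simp only [Category.assoc, pullback.condition]
  simp only [← Category.assoc]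
  exact congrArg (· ≫ l) e


end Groth.Agent.S6055
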