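import Groth.Statements.S6057
import Mathlib

set_option autoImplicit false
open CategoryTheory
universe v₁ u₁
open ShfCat

namespace Groth.Agent.S6057
/-- Amalgamation on the total space gives amalgamation for the relative presheaf. -/
theorem aux {C : Type u₁} [Category.{v₁} C] {S : C} {F : Cᵒᵖ ⥤ Type v₁} {φ : F ⟶ yoneda.obj S}
    {T : Over S} (R : Sieve T) (x : Presieve.FamilyOfElements (relPsh φ) (R : Presieve T))
    (hx : x.Compatible) (t : RelSections φ T)
    (ht : ∀ ⦃Z : C⦄ (g : Z ⟶ T.left) (hg : Sieve.overEquiv T R g),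
      F.map g.op t.1 = (x _ ((Sieve.overEquiv_iff R g).1 hg)).1)
    {U : Over S} (f : U ⟶ T) (hf : R f) : (relPsh φ).map f.op t = x f hf := by
  apply Subtype.ext
  let u : Over.mk (f.left ≫ T.hom) ⟶ U := Over.homMk (𝟙 U.left)
  have hf' : R (Over.homMk f.left : Over.mk (f.left ≫ T.hom) ⟶ T) := by
    have : (Over.homMk f.left : Over.mk (f.left ≫ T.hom) ⟶ T) = u ≫ f := by
      ext; simp [u]
    rw [this]
    exact R.downward_closed hf u
  have h := congrArg Subtype.val (hx (𝟙 (Over.mk (f.left ≫ T.hom))) u hf' hf (by ext; simp [u]))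
  refine (ht f.left ((Sieve.overEquiv_iff R f.left).2 hf')).trans ?_
  simpa [relPsh_map_val, u] using h

/-- Let `S` be an object whose representable presheaf is a sheaf for `J` and `φ : F ⟶ h_S` a morphism of
presheaves of sets. The relative presheaf on `C/S` (sections of `F` over `T` lying over the given `T
⟶ S`) is separated (resp. a sheaf) for the induced topology on `C/S` if and only if `F` is separated
(resp. a sheaf). -/
theorem result {C : Type u₁} [Category.{v₁} C] (J : GrothendieckTopology C)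
    {S : C} (hS : Presieve.IsSheaf J (yoneda.obj S)) {F : Cᵒᵖ ⥤ Type v₁} (φ : F ⟶ yoneda.obj S) :
    (Presieve.IsSeparated (J.over S) (ShfCat.relPsh φ) ↔ Presieve.IsSeparated J F) ∧
    (Presieve.IsSheaf (J.over S) (ShfCat.relPsh φ) ↔ Presieve.IsSheaf J F) := by
  have key : ∀ (T : Over S) (R : Sieve T.left) (t t' : RelSections φ T),
      (∀ ⦃Z : C⦄ (g : Z ⟶ T.left), R g → F.map g.op t.1 = F.map g.op t'.1) →
      ∀ ⦃U : Over S⦄ (f : U ⟶ T), ((Sieve.overEquiv T).symm R) f →
        (relPsh φ).map f.op t = (relPsh φ).map f.op t' := by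
    intro T R t t' h U f hf
    exact Subtype.ext (h f.left hf)
  have sepUp : Presieve.IsSeparated J F → Presieve.IsSeparated (J.over S) (relPsh φ) := by
    intro hF T R hR x t t' ht ht'
    refine Subtype.ext ((hF _ ((J.mem_over_iff R).1 hR)).ext ?_)
    intro Z g hg
    have hg' : R (Over.homMk g : Over.mk (g ≫ T.hom) ⟶ T) := (Sieve.overEquiv_iff R g).1 hg
    exact congrArg Subtype.val ((ht _ hg').trans (ht' _ hg').symm)
  have sepDown : Presieve.IsSeparated (J.over S) (relPsh φ) → Presieve.IsSeparated J F := by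
    intro hP X R hR x t t' ht ht'
    have hs : φ.app (Opposite.op X) t = φ.app (Opposite.op X) t' := by
      refine (hS.isSeparated R hR).ext ?_
      intro Z g hg
      rw [← NatTrans.naturality_apply φ g.op t, ← NatTrans.naturality_apply φ g.op t',
        ht g hg, ht' g hg]
    let T : Over S := Over.mk (φ.app (Opposite.op X) t)
    let a : RelSections φ T := ⟨t, rfl⟩
    let a' : RelSections φ T := ⟨t', hs.symm⟩
    have : a = a' := (hP _ (J.overEquiv_symm_mem_over T R hR)).ext
      (key T R a a' fun Z g hg => (ht g hg).trans (ht' g hg).symm)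
    exact congrArg Subtype.val this
  refine ⟨⟨sepDown, sepUp⟩, ?_, ?_⟩
  · intro hP X R hR x hx
    have hsep := sepDown (fun Y R' hR' => (hP R' hR').isSeparatedFor)
    let y : Presieve.FamilyOfElements (yoneda.obj S) (R : Presieve X) :=
      fun Z g hg => φ.app (Opposite.op Z) (x g hg)
    have hy : y.Compatible := by
      intro Y₁ Y₂ Z g₁ g₂ f₁ f₂ h₁ h₂ w
      show (yoneda.obj S).map g₁.op (φ.app _ _) = (yoneda.obj S).map g₂.op (φ.app _ _)
      rw [← NatTrans.naturality_apply φ g₁.op, ← NatTrans.naturality_apply φ g₂.op,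
        hx g₁ g₂ h₁ h₂ w]
    obtain ⟨s, hs, -⟩ := hS R hR y hy
    let T : Over S := Over.mk (show X ⟶ S from s)
    let z : Presieve.FamilyOfElements (relPsh φ) ((Sieve.overEquiv T).symm R : Presieve T) :=
      fun U f hf => ⟨x f.left hf, ((hs f.left hf).symm.trans (Over.w f) : _)⟩
    have hz : z.Compatible := by
      intro Y₁ Y₂ Z g₁ g₂ f₁ f₂ h₁ h₂ w
      exact Subtype.ext (hx g₁.left g₂.left h₁ h₂ (congrArg CommaMorphism.left w))
    obtain ⟨t, ht, -⟩ := hP _ (J.overEquiv_symm_mem_over T R hR) z hz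
    refine ⟨t.1, fun Z g hg => ?_, fun t' ht' => (hsep R hR) x t' t.1 ht' ?_⟩
    · exact congrArg Subtype.val (ht (Over.homMk g : Over.mk (g ≫ T.hom) ⟶ T) hg)
    · intro Z g hg
      exact congrArg Subtype.val (ht (Over.homMk g : Over.mk (g ≫ T.hom) ⟶ T) hg)
  · intro hF T R hR x hx
    have hR' : Sieve.overEquiv T R ∈ J T.left := (J.mem_over_iff R).1 hR
    have hmem : ∀ ⦃Z : C⦄ (g : Z ⟶ T.left), Sieve.overEquiv T R g →
        R (Over.homMk g : Over.mk (g ≫ T.hom) ⟶ T) := fun Z g hg => (Sieve.overEquiv_iff R g).1 hg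
    let x' : Presieve.FamilyOfElements F (Sieve.overEquiv T R : Presieve T.left) :=
      fun Z g hg => (x _ (hmem g hg)).1
    have hx' : x'.Compatible := by
      intro Y₁ Y₂ Z g₁ g₂ f₁ f₂ h₁ h₂ w
      have hw : g₂ ≫ f₂ ≫ T.hom = g₁ ≫ f₁ ≫ T.hom := by
        rw [← Category.assoc, ← w, Category.assoc]
      exact congrArg Subtype.val (hx
        (Over.homMk g₁ : Over.mk (g₁ ≫ f₁ ≫ T.hom) ⟶ Over.mk (f₁ ≫ T.hom))
        (Over.homMk g₂ hw : Over.mk (g₁ ≫ f₁ ≫ T.hom) ⟶ Over.mk (f₂ ≫ T.hom))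
        (hmem f₁ h₁) (hmem f₂ h₂) (by ext; exact w))
    obtain ⟨t, ht, -⟩ := hF _ hR' x' hx'
    have hts : φ.app (Opposite.op T.left) t = T.hom := by
      refine (hS.isSeparated _ hR').ext ?_
      intro Z g hg
      rw [← NatTrans.naturality_apply φ g.op t, ht g hg]
      exact (x _ (hmem g hg)).2
    have ham : x.IsAmalgamation (⟨t, hts⟩ : RelSections φ T) :=
      fun U f hf => aux R x hx ⟨t, hts⟩ (fun Z g hg => ht g hg) f hf
    exact ⟨_, ham, fun t' ht' => sepUp hF.isSeparated R hR x t' _ ht' ham⟩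

end Groth.Agent.S6057
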