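import Groth.Statements.S6058
import Groth.Agent.HomLiftLib.Points

set_option autoImplicit false
universe u
open TensorProduct SGA3b
open SGA3b

namespace Groth.Agent.S6058

/-- Let A be a Noetherian ring, separated and complete for the I-adic topology, and H = Spec C a
commutative affine A-group (C cocommutative) with C flat and of finite type over A, such that the
reduction H₀ = Spec ((A/I) ⊗ C) is an isotrivial (A/I)-group of multiplicative type and such that
for every n > 0 the kernel ₙH = Spec (C/Jₙ) of the n-th power map is finite over A (Jₙ the ideal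
generated by the image of the augmentation ideal under the n-th power endomorphism). Then H is an
isotrivial A-group of multiplicative type. (Affine group schemes over an affine base are taken in
Hopf-algebra form; base change is the tensor product.) -/
theorem result (A : Type u) [CommRing A] [IsNoetherianRing A] (I : Ideal A) [IsAdicComplete I A]
    (C : Type u) [CommRing C] [HopfAlgebra A C] [Coalgebra.IsCocomm A C] [Module.Flat A C] (hft : Algebra.FiniteType A C)
    (h0 : IsIsotrivial (A ⧸ I) ((A ⧸ I) ⊗[A] C))
    (hfin : ∀ n : ℕ, 0 < n → Module.Finite A (C ⧸ torsionIdeal A C n)) :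
    IsIsotrivial A C := by
  classical
  haveI := hft
  haveI : IsNoetherianRing C := Algebra.FiniteType.isNoetherianRing A C
  obtain ⟨F, _, _, φ, s, hF, hflat, hsurj, h1, h2, h3⟩ :=
    Groth.Agent.HomLift.exists_model I hft (fun q _ _ => Module.Flat.trans A C _) h0
  haveI := hflat
  obtain ⟨e, he, hker⟩ := Groth.Agent.HomLift.exists_idempotent_ker φ hsurj (IsNoetherian.noetherian _) h1 h2
  have heI : e ∈ Ideal.map (algebraMap A C) I := by
    have := h3 e ((hker e).2 (Ideal.subset_span rfl))
    rwa [Ideal.smul_top_eq_map, Submodule.restrictScalars_mem] at this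
  obtain ⟨T, _, _, -, -, hff, N, _, ⟨eN⟩⟩ := id hF
  haveI := hff
  obtain ⟨E⟩ := Groth.Agent.DiagHopf.exists_split_of_bialgEquiv eN
  have he0 : e = 0 := Groth.Agent.HomLift.eq_zero_of_torsion φ hsurj he hker E fun n hn => by
    haveI := hfin n hn
    exact Groth.Agent.HomLift.mem_of_finite (IsAdicComplete.le_jacobson_bot I) he heI
  have hinj : Function.Injective φ := (injective_iff_map_eq_zero φ).2 fun x hx => by
    have := (hker x).1 hx
    rw [he0, Ideal.span_singleton_eq_bot.2 rfl] at this
    exact this
  exact Groth.Agent.HomLift.isIsotrivial_of_bialgEquiv (BialgEquiv.ofBijective φ ⟨hinj, hsurj⟩).symm hF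

end Groth.Agent.S6058
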