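import Groth.Statements.S6060
import Groth.Agent.EqNhdLib.Main

set_option autoImplicit false
open CategoryTheory MonoidalCategory CartesianMonoidalCategory MonObj GrpObj AlgebraicGeometry
universe u
open SGA3x

namespace Groth.Agent.S6060

/-- Let G be an S-group, suppose S locally Noetherian or G of finite presentation over S, and let i₁ :
H₁ ⟶ G, i₂ : H₂ ⟶ G be two sub-group-schemes (homomorphisms which are immersions) of multiplicative
type and of finite type. Let s ∈ S be a point such that the fibre (H₁)_s is central in G_s (every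
point of G_s commutes with every point of (H₁)_s) and (H₁)_s = (H₂)_s as subgroups of G_s (an
isomorphism of the fibres compatible with the inclusions). Then there is an open neighbourhood U of
s such that H₁|_U = H₂|_U as subgroups of G|_U. -/
theorem result {S : Scheme.{u}} (G H₁ H₂ : Over S) [GrpObj G] [GrpObj H₁] [GrpObj H₂]
    (hG : IsLocallyNoetherian S ∨ (LocallyOfFinitePresentation G.hom ∧ QuasiCompact G.hom ∧ QuasiSeparated G.hom))
    (h₁ : SGA3x.IsMultTypeFT H₁) (h₂ : SGA3x.IsMultTypeFT H₂)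
    (i₁ : H₁ ⟶ G) [IsMonHom i₁] [IsImmersion i₁.left] (i₂ : H₂ ⟶ G) [IsMonHom i₂] [IsImmersion i₂.left] (s : S)
    (hc : ∀ (X : Over (Spec (S.residueField s))) (g : X ⟶ Red.bc (S.fromSpecResidueField s) G)
      (h : X ⟶ Red.bc (S.fromSpecResidueField s) H₁),
      g * (h ≫ (Over.pullback (S.fromSpecResidueField s)).map i₁) = (h ≫ (Over.pullback (S.fromSpecResidueField s)).map i₁) * g)
    (hs : ∃ ψ : Red.bc (S.fromSpecResidueField s) H₁ ≅ Red.bc (S.fromSpecResidueField s) H₂,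
      ψ.hom ≫ (Over.pullback (S.fromSpecResidueField s)).map i₂ = (Over.pullback (S.fromSpecResidueField s)).map i₁) :
    ∃ U : S.Opens, s ∈ U ∧ ∃ ψ : Red.bc U.ι H₁ ≅ Red.bc U.ι H₂,
      ψ.hom ≫ (Over.pullback U.ι).map i₂ = (Over.pullback U.ι).map i₁ := by
  let κ := S.fromSpecResidueField s
  have hG' := hG.imp_right And.left
  haveI : Mono i₁ := Over.mono_of_mono_left i₁
  haveI : Mono i₂ := Over.mono_of_mono_left i₂
  obtain ⟨hle₁, hle₂⟩ := (Groth.Agent.MultEq.iso_iff κ).1 hs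
  have hc₁ : Groth.Agent.CentLocus.CentAt i₁ κ :=
    (Groth.Agent.CentLocus.centAt_bc_iff i₁ κ).2 fun X g h => (hc X g h).symm
  have hc₂ : Groth.Agent.CentLocus.CentAt i₂ κ := by
    rw [Groth.Agent.CentLocus.centAt_iff] at hc₁ ⊢
    intro Y q hq g h
    obtain ⟨h', hh'⟩ := hle₂ Y q hq h
    rw [← hh']
    exact hc₁ Y q hq g h'
  obtain ⟨U₁, hsU₁, hU₁⟩ := Groth.Agent.EqNhd.exists_nhd_le hG' h₁ h₂ s hle₁ hc₁
  obtain ⟨U₂, hsU₂, hU₂⟩ := Groth.Agent.EqNhd.exists_nhd_le hG' h₂ h₁ s hle₂ hc₂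
  refine ⟨U₁ ⊓ U₂, ⟨hsU₁, hsU₂⟩, (Groth.Agent.MultEq.iso_iff _).2 ⟨?_, ?_⟩⟩
  · rw [← S.homOfLE_ι (inf_le_left : U₁ ⊓ U₂ ≤ U₁)]
    exact hU₁.comp _
  · rw [← S.homOfLE_ι (inf_le_right : U₁ ⊓ U₂ ≤ U₂)]
    exact hU₂.comp _

end Groth.Agent.S6060
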