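import Groth.Statements.S6062
import Groth.Agent.KerMultLib.Kernel
-- import your own Groth.Agent.* helpers here

set_option autoImplicit false
universe u
open TensorProduct SGA3b
open Groth.Agent.TorusField Groth.Agent.DiagHopf
open SGA3b

namespace Groth.Agent.S6062

/-- Let G = Spec A be an R-group of multiplicative type, not necessarily of finite type, H = Spec C an
R-group of multiplicative type and of finite type, u : G ⟶ H a homomorphism given by the bialgebra
map φ : C → A, and J the ideal of the kernel of u (generated by the image under φ of the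
augmentation ideal of C), a Hopf ideal (the instance hypothesis holds automatically for this J).
Then Ker u = Spec (A/J) is of multiplicative type (with locally constant type). (The published
statement also asserts that the quotient of G by Ker u exists, is of multiplicative type and of
finite type and embeds in H, and that the quotient of H by it exists and is of multiplicative type
and of finite type; this row states only that the kernel is of multiplicative type. Affine group
schemes over an affine base are taken in Hopf-algebra form; base change is the tensor product.) -/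
theorem result (R : Type u) [CommRing R] (A : Type u) [CommRing A] [HopfAlgebra R A] (hA : IsMultType R A)
    (C : Type u) [CommRing C] [HopfAlgebra R C] (hC : IsMultType R C) (hCft : Algebra.FiniteType R C) (φ : C →ₐc[R] A)
    (J : Ideal A) [J.IsHopfIdeal R] (hJ : J = Ideal.map φ (RingHom.ker (Bialgebra.counitAlgHom R C))) :
    IsMultType R (A ⧸ J) := by
  classical
  haveI := hCft
  obtain ⟨ι, _, S, _, _, N, _, hfS, hE⟩ := exists_family_split hA
  obtain ⟨κ, _, T, _, _, P, _, hfT, hF⟩ := exists_family_split hC
  haveI := hfS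
  haveI := hfT
  haveI hflS : ∀ i, Module.Flat R (S i) := fun i => Module.Flat.of_retract (LinearMap.single R S i) (LinearMap.proj i)
    (LinearMap.ext fun x => by simp)
  haveI hflT : ∀ i, Module.Flat R (T i) := fun i => Module.Flat.of_retract (LinearMap.single R T i) (LinearMap.proj i)
    (LinearMap.ext fun x => by simp)
  let U : ι × κ → Type u := fun x => S x.1 ⊗[R] T x.2
  haveI hflU : ∀ x, Module.Flat R (U x) := fun x => Module.Flat.instTensorProduct
  obtain ⟨c, hc⟩ := Algebra.FiniteType.out (R := R) (A := C)
  choose E hE' using fun x : ι × κ => exists_split_push (hE x.1).some (Algebra.TensorProduct.includeLeft : S x.1 →ₐ[R] U x)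
  choose F hF' using fun x : ι × κ => exists_split_push (hF (Prod.snd x)).some (Algebra.TensorProduct.includeRight : T x.2 →ₐ[R] U x)
  -- the finitely many characters needed
  let P₀ : ∀ x : ι × κ, Finset (Additive (P x.2)) := fun x => c.biUnion fun a => ((F x).e.repr ((1 : U x) ⊗ₜ[R] a)).support
  let Φ : ∀ x : ι × κ, U x ⊗[R] C →ₐ[U x] U x ⊗[R] A := fun x => KerMult.ext (φ : C →ₐ[R] A)
  -- the pieces
  let co : ∀ x : ι × κ, Additive (P x.2) → Additive (N x.1) →₀ U x := fun x n => (E x).e.repr (Φ x ((F x).e n))
  let κ' : ι × κ → Type u := fun x => ∀ n : P₀ x, (co x n.1).support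
  let f : ∀ y : Σ x, κ' x, U y.1 := fun y => ∏ n : P₀ y.1, co y.1 n.1 (y.2 n).1
  let V : (Σ x, κ' x) → Type u := fun y => Localization.Away (f y)
  haveI hflV : ∀ y, Module.Flat R (V y) := fun y => by
    haveI : Module.Flat (U y.1) (V y) := IsLocalization.flat _ (Submonoid.powers (f y))
    exact Module.Flat.trans R (U y.1) (V y)
  have hcov : ∀ p : PrimeSpectrum R, ∃ y : Σ x, κ' x, p ∈ Set.range (PrimeSpectrum.comap (algebraMap R (V y))) := by
    intro p
    obtain ⟨P', hP'⟩ := PrimeSpectrum.comap_surjective_of_faithfullyFlat (B := Π i, S i) p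
    obtain ⟨⟨i, Ps⟩, rfl⟩ := (PrimeSpectrum.sigmaToPi_bijective S).2 P'
    obtain ⟨Q', hQ'⟩ := PrimeSpectrum.comap_surjective_of_faithfullyFlat (B := Π i, T i) p
    obtain ⟨⟨j, Qt⟩, rfl⟩ := (PrimeSpectrum.sigmaToPi_bijective T).2 Q'
    have hPs : PrimeSpectrum.comap (algebraMap R (S i)) Ps = p := by rw [← hP']; rfl
    have hQt : PrimeSpectrum.comap (algebraMap R (T j)) Qt = p := by rw [← hQ']; rfl
    obtain ⟨W, hW⟩ : p ∈ Set.range (PrimeSpectrum.comap (algebraMap R (U (i, j)))) := by
      obtain ⟨W, hW⟩ := KerMult.exists_comap_tensor (R := R) Ps Qt (hPs.trans hQt.symm)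
      exact ⟨W, hW.trans hPs⟩
    have hne : ∀ n : P₀ (i, j), ∃ m : (co (i, j) n.1).support, co (i, j) n.1 m.1 ∉ W.asIdeal := by
      intro n
      by_contra hall
      push Not at hall
      have h1 := Groth.Agent.TorusField.Split.sum_repr_gl (E (i, j)) (KerMult.isGL_ext φ ((F (i, j)).gl n.1))
      rw [Finsupp.sum] at h1
      exact W.isPrime.ne_top ((Ideal.eq_top_iff_one _).2 (h1 ▸ Ideal.sum_mem _ fun m hm => hall ⟨m, hm⟩))
    choose sel hsel using hne
    refine ⟨⟨(i, j), sel⟩, ?_⟩
    have hfW : f ⟨(i, j), sel⟩ ∉ W.asIdeal := fun h => by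
      obtain ⟨n, -, hn⟩ := W.isPrime.prod_mem_iff.1 h
      exact hsel n hn
    obtain ⟨W', hW'⟩ : W ∈ Set.range (PrimeSpectrum.comap (algebraMap (U (i, j)) (V ⟨(i, j), sel⟩))) := by
      rw [PrimeSpectrum.localization_away_comap_range (V ⟨(i, j), sel⟩) (f ⟨(i, j), sel⟩)]
      exact hfW
    refine ⟨W', ?_⟩
    rw [← hW, ← hW', ← PrimeSpectrum.comap_comp_apply, ← IsScalarTower.algebraMap_eq]
  have hsplit : ∀ y : Σ x, κ' x, ∃ (Q : Type u) (_ : AddCommGroup Q), Nonempty (Split R (A ⧸ J) Q (V y)) := by
    intro y
    let g : U y.1 →ₐ[R] V y := IsScalarTower.toAlgHom R (U y.1) (V y)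
    obtain ⟨E₁, hE₁⟩ := exists_split_push (E y.1) g
    obtain ⟨F₁, hF₁⟩ := exists_split_push (F y.1) g
    let s : Additive (P y.1.2) → Additive (N y.1.1) := fun n => if h : n ∈ P₀ y.1 then (y.2 ⟨n, h⟩).1 else 0
    refine KerMult.exists_split_ker E₁ F₁ φ (P₀ y.1) ?_ s ?_ J hJ
    · rw [eq_top_iff]
      rintro z -
      induction z using TensorProduct.induction_on with
      | zero => exact zero_mem _
      | add a b ha hb => exact add_mem ha hb
      | tmul v a =>
        suffices h : (1 : V y) ⊗ₜ[R] a ∈ Algebra.adjoin (V y) (F₁.e '' (P₀ y.1 : Set _)) by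
          have := Subalgebra.smul_mem _ h v
          rwa [TensorProduct.smul_tmul', smul_eq_mul, mul_one] at this
        have ha : a ∈ Algebra.adjoin R (c : Set C) := by rw [hc]; trivial
        induction ha using Algebra.adjoin_induction with
        | mem a ha =>
          have hrep : F₁.e.repr ((1 : V y) ⊗ₜ[R] a) = ((F y.1).e.repr ((1 : U y.1) ⊗ₜ[R] a)).mapRange g (map_zero g) := by
            ext m
            have := Groth.Agent.DiagHopf.repr_push (F y.1) F₁ g hF₁ ((1 : U y.1) ⊗ₜ[R] a) m
            simpa [push] using this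
          conv => enter [2]; rw [← F₁.e.linearCombination_repr ((1 : V y) ⊗ₜ[R] a)]
          rw [Finsupp.linearCombination_apply, Finsupp.sum]
          refine sum_mem fun m hm => Subalgebra.smul_mem _ (Algebra.subset_adjoin (Set.mem_image_of_mem _ (Finset.mem_coe.2 ?_))) _
          rw [hrep] at hm
          exact Finset.mem_biUnion.2 ⟨a, ha, Finsupp.support_mapRange hm⟩
        | algebraMap r =>
          rw [show (1 : V y) ⊗ₜ[R] algebraMap R C r = algebraMap (V y) (V y ⊗[R] C) (algebraMap R (V y) r) by
            simp [Algebra.algebraMap_eq_smul_one, Algebra.TensorProduct.one_def]]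
          exact Subalgebra.algebraMap_mem _ _
        | add a b _ _ ha hb => rw [TensorProduct.tmul_add]; exact add_mem ha hb
        | mul a b _ _ ha hb =>
          rw [show (1 : V y) ⊗ₜ[R] (a * b) = ((1 : V y) ⊗ₜ[R] a) * ((1 : V y) ⊗ₜ[R] b) by simp]
          exact mul_mem ha hb
    · intro n hn
      simp only [s, dif_pos hn]
      rw [hF₁, ← KerMult.push_ext]
      have hgl := KerMult.isGL_ext φ ((F y.1).gl n)
      set m := (y.2 ⟨n, hn⟩).1
      refine E₁.e.ext_elem fun m' => ?_
      rw [Groth.Agent.DiagHopf.repr_push (E y.1) E₁ g hE₁, Module.Basis.repr_self, Finsupp.single_apply]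
      have hu : IsUnit (g (co y.1 n m)) :=
        isUnit_of_dvd_unit (map_dvd g (Finset.dvd_prod_of_mem (fun k : P₀ y.1 => co y.1 k.1 (y.2 k).1)
          (Finset.mem_univ (⟨n, hn⟩ : P₀ y.1)))) (IsLocalization.Away.algebraMap_isUnit (f y))
      have hid := Groth.Agent.TorusField.Split.repr_idem (E y.1) hgl m m'
      have hid' := congrArg g hid
      rw [map_mul] at hid'
      by_cases hmm : m = m'
      · subst hmm
        rw [if_pos rfl] at hid' ⊢
        exact hu.mul_left_cancel (hid'.trans (_root_.mul_one _).symm)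
      · rw [if_neg hmm, map_zero] at hid'
        rw [if_neg hmm]
        exact hu.mul_right_eq_zero.mp hid'
  choose Q _ hQ using hsplit
  exact KerMult.isMultType_of_family hcov fun y => (hQ y).some

end Groth.Agent.S6062
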