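import Groth.Statements.S6063
-- import your own Groth.Agent.* helpers here

set_option autoImplicit false
set_option backward.isDefEq.respectTransparency false
universe u
open CategoryTheory AlgebraicGeometry
open CategoryTheory.Limits
open TensorProduct
open SGA3x

namespace Groth.Agent.S6063

section Algebra

variable {A : Type u} [CommRing A] (J : Ideal A) (k : ℕ)

/-- Coordinates on `J^k` modulo `J`. -/
noncomputable def lam [Module.Free (A ⧸ J) ((A ⧸ J) ⊗[A] ↥(J ^ k))]
    (l : Module.Free.ChooseBasisIndex (A ⧸ J) ((A ⧸ J) ⊗[A] ↥(J ^ k))) : ↥(J ^ k) →ₗ[A] A ⧸ J :=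
  (((Module.Free.chooseBasis (A ⧸ J) ((A ⧸ J) ⊗[A] ↥(J ^ k))).coord l).restrictScalars A) ∘ₗ
    TensorProduct.mk A (A ⧸ J) ↥(J ^ k) 1

variable (B : Type u) [CommRing B] [Algebra A B]

/-- `A/J → B/JB`. -/
noncomputable def qmap : A ⧸ J →ₐ[A] B ⧸ J.map (algebraMap A B) :=
  Ideal.Quotient.liftₐ J (Algebra.ofId A _) fun a ha => by
    show Ideal.Quotient.mk (J.map (algebraMap A B)) (algebraMap A B a) = 0
    exact Ideal.Quotient.eq_zero_iff_mem.mpr (Ideal.mem_map_of_mem _ ha)

/-- `B ⊗ J^k → B`. -/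
noncomputable def mu : B ⊗[A] ↥(J ^ k) →ₗ[A] B :=
  (TensorProduct.rid A B).toLinearMap ∘ₗ (J ^ k).subtype.lTensor B

lemma mu_tmul (b : B) (j : ↥(J ^ k)) : mu J k B (b ⊗ₜ j) = (j : A) • b := by
  simp [mu]

/-- The coordinates of an element of `B ⊗ J^k`. -/
noncomputable def Lam [Module.Free (A ⧸ J) ((A ⧸ J) ⊗[A] ↥(J ^ k))]
    (l : Module.Free.ChooseBasisIndex (A ⧸ J) ((A ⧸ J) ⊗[A] ↥(J ^ k))) :
    B ⊗[A] ↥(J ^ k) →ₗ[A] B ⧸ J.map (algebraMap A B) :=
  LinearMap.mul' A _ ∘ₗ TensorProduct.map (Ideal.Quotient.mkₐ A (J.map (algebraMap A B))).toLinearMap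
    ((qmap J B).toLinearMap ∘ₗ lam J k l)

lemma Lam_tmul [Module.Free (A ⧸ J) ((A ⧸ J) ⊗[A] ↥(J ^ k))]
    (l : Module.Free.ChooseBasisIndex (A ⧸ J) ((A ⧸ J) ⊗[A] ↥(J ^ k))) (b : B) (j : ↥(J ^ k)) :
    Lam J k B l (b ⊗ₜ j) = Ideal.Quotient.mk _ b * qmap J B (lam J k l j) := by
  simp [Lam]

lemma exists_mu_eq {t : B} (ht : t ∈ (J ^ k).map (algebraMap A B)) : ∃ τ, mu J k B τ = t := by
  rw [Ideal.map, Ideal.span] at ht
  induction ht using Submodule.span_induction with
  | mem x hx =>
    obtain ⟨a, ha, rfl⟩ := hx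
    exact ⟨1 ⊗ₜ ⟨a, ha⟩, by rw [mu_tmul, Algebra.algebraMap_eq_smul_one]⟩
  | zero => exact ⟨0, map_zero _⟩
  | add x y _ _ hx hy =>
    obtain ⟨a, rfl⟩ := hx
    obtain ⟨b, rfl⟩ := hy
    exact ⟨a + b, map_add _ _ _⟩
  | smul c x _ hx =>
    obtain ⟨a, rfl⟩ := hx
    refine ⟨(LinearMap.mulLeft A c).rTensor _ a, ?_⟩
    clear * - a
    induction a using TensorProduct.induction_on with
    | zero => simp
    | tmul b j => simp [mu_tmul]
    | add a b ha hb => simp [map_add, ha, hb, mul_add]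

/-- If all coordinates vanish, one gains a power of `J`. -/
lemma mu_mem [Module.Free (A ⧸ J) ((A ⧸ J) ⊗[A] ↥(J ^ k))] (τ : B ⊗[A] ↥(J ^ k))
    (h : ∀ l, Lam J k B l τ = 0) : mu J k B τ ∈ (J ^ (k + 1)).map (algebraMap A B) := by
  classical
  let e := Module.Free.chooseBasis (A ⧸ J) ((A ⧸ J) ⊗[A] ↥(J ^ k))
  have hsurj : ∀ x : (A ⧸ J) ⊗[A] ↥(J ^ k), ∃ y : ↥(J ^ k), (1 : A ⧸ J) ⊗ₜ[A] y = x := by
    intro x
    obtain ⟨y, hy⟩ := Submodule.Quotient.mk_surjective _ (TensorProduct.quotTensorEquivQuotSMul ↥(J ^ k) J x)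
    exact ⟨y, by rw [← TensorProduct.quotTensorEquivQuotSMul_symm_mk, hy, LinearEquiv.symm_apply_apply]⟩
  choose el hel using fun l => hsurj (e l)
  let Bk := (J ^ (k + 1)).map (algebraMap A B)
  let G : ∀ l, B ⧸ J.map (algebraMap A B) →ₗ[B] B ⧸ Bk := fun l =>
    Submodule.mapQ _ _ (LinearMap.mulLeft B (algebraMap A B (el l : A))) (by
      refine (Ideal.map_le_iff_le_comap (I := J) (K := Submodule.comap _ Bk)).mpr ?_
      intro a ha
      show algebraMap A B (el l : A) * algebraMap A B a ∈ Bk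
      rw [← map_mul]
      exact Ideal.mem_map_of_mem _ (by rw [pow_succ]; exact Ideal.mul_mem_mul (el l).2 ha))
  have key : ∀ σ : B ⊗[A] ↥(J ^ k), ∃ s : Finset _, ∀ s', s ⊆ s' →
      Ideal.Quotient.mk Bk (mu J k B σ) = ∑ l ∈ s', G l (Lam J k B l σ) := by
    intro σ
    induction σ using TensorProduct.induction_on with
    | zero => exact ⟨∅, fun s' _ => by simp⟩
    | add a b ha hb =>
      obtain ⟨s₁, h₁⟩ := ha
      obtain ⟨s₂, h₂⟩ := hb
      refine ⟨s₁ ∪ s₂, fun s' hs' => ?_⟩
      rw [map_add, map_add, h₁ s' (Finset.union_subset_left hs'), h₂ s' (Finset.union_subset_right hs'),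
        ← Finset.sum_add_distrib]
      simp only [map_add]
    | tmul b j =>
      refine ⟨(e.repr ((1 : A ⧸ J) ⊗ₜ[A] j)).support, fun s' hs' => ?_⟩
      choose a ha using fun l => Ideal.Quotient.mk_surjective (lam J k l j)
      have hG : ∀ l, G l (Lam J k B l (b ⊗ₜ j)) =
          Ideal.Quotient.mk Bk (algebraMap A B (a l * (el l : A)) * b) := by
        intro l
        rw [Lam_tmul, ← ha l]
        show G l (Ideal.Quotient.mk _ b * Ideal.Quotient.mk _ (algebraMap A B (a l))) = _
        rw [← map_mul]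
        show Ideal.Quotient.mk Bk (algebraMap A B (el l : A) * (b * algebraMap A B (a l))) = _
        rw [map_mul (algebraMap A B)]
        congr 1
        ring
      rw [Finset.sum_congr rfl (fun l _ => hG l), ← map_sum, mu_tmul, Algebra.smul_def,
        Ideal.Quotient.mk_eq_mk_iff_sub_mem, ← Finset.sum_mul, ← map_sum, ← sub_mul, ← map_sub]
      refine Ideal.mul_mem_right _ _ (Ideal.mem_map_of_mem _ ?_)
      have hd : (1 : A ⧸ J) ⊗ₜ[A] (j - ∑ l ∈ s', a l • el l) = 0 := by
        rw [TensorProduct.tmul_sub, TensorProduct.tmul_sum, sub_eq_zero]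
        conv_lhs => rw [← e.linearCombination_repr ((1 : A ⧸ J) ⊗ₜ[A] j)]
        rw [Finsupp.linearCombination_apply, Finsupp.sum_of_support_subset _ hs' (fun l r => r • e l) (fun l _ => zero_smul _ _)]
        refine Finset.sum_congr rfl fun l _ => ?_
        rw [TensorProduct.tmul_smul, hel, algebra_compatible_smul (A ⧸ J) (a l), Ideal.Quotient.algebraMap_eq, ha]
        rfl
      have hd' := congrArg (TensorProduct.quotTensorEquivQuotSMul ↥(J ^ k) J) hd
      rw [TensorProduct.quotTensorEquivQuotSMul_mk_one_tmul, map_zero, Submodule.Quotient.mk_eq_zero] at hd'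
      have hle : ∀ z : ↥(J ^ k), z ∈ J • (⊤ : Submodule A ↥(J ^ k)) → (z : A) ∈ J ^ (k + 1) := by
        intro z hz
        refine Submodule.smul_induction_on hz ?_ ?_
        · intro r hr n _
          rw [pow_succ']
          exact Ideal.mul_mem_mul hr n.2
        · intro x y hx hy
          exact Ideal.add_mem _ hx hy
      simpa using hle _ hd'
  obtain ⟨s, hs⟩ := key τ
  rw [← Ideal.Quotient.eq_zero_iff_mem, hs s subset_rfl]
  exact Finset.sum_eq_zero fun l _ => by rw [h l, map_zero]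

variable {B} {C : Type u} [CommRing C] [Algebra A C]

lemma mu_natural (φ : B →ₐ[A] C) (τ : B ⊗[A] ↥(J ^ k)) :
    mu J k C (φ.toLinearMap.rTensor _ τ) = φ (mu J k B τ) := by
  induction τ using TensorProduct.induction_on with
  | zero => simp
  | tmul b j => simp [mu_tmul]
  | add a b ha hb => simp [map_add, ha, hb]

lemma Lam_natural [Module.Free (A ⧸ J) ((A ⧸ J) ⊗[A] ↥(J ^ k))] (φ : B →ₐ[A] C)
    (l : Module.Free.ChooseBasisIndex (A ⧸ J) ((A ⧸ J) ⊗[A] ↥(J ^ k))) (τ : B ⊗[A] ↥(J ^ k)) :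
    ∃ b : B, Lam J k B l τ = Ideal.Quotient.mk _ b ∧
      Lam J k C l (φ.toLinearMap.rTensor _ τ) = Ideal.Quotient.mk _ (φ b) := by
  induction τ using TensorProduct.induction_on with
  | zero => exact ⟨0, by simp, by simp⟩
  | tmul b j =>
    obtain ⟨a, ha⟩ := Ideal.Quotient.mk_surjective (lam J k l j)
    refine ⟨b * algebraMap A B a, ?_, ?_⟩
    · rw [Lam_tmul, ← ha, map_mul]; rfl
    · rw [LinearMap.rTensor_tmul, Lam_tmul, ← ha, map_mul, AlgHom.commutes, map_mul]; rfl
  | add a b ha hb =>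
    obtain ⟨x, hx, hx'⟩ := ha
    obtain ⟨y, hy, hy'⟩ := hb
    exact ⟨x + y, by simp [map_add, hx, hy], by simp [map_add, hx', hy']⟩

/-- The inductive step. -/
lemma mem_step [Module.Free (A ⧸ J) ((A ⧸ J) ⊗[A] ↥(J ^ k))] {K : Type u}
    (C : K → Type u) [∀ i, CommRing (C i)] [∀ i, Algebra A (C i)] [∀ i, Module.Flat A (C i)]
    (φ : ∀ i, B →ₐ[A] C i)
    (hdet : ∀ b : B, (∀ i, φ i b ∈ J.map (algebraMap A (C i))) → b ∈ J.map (algebraMap A B))
    {t : B} (ht : t ∈ (J ^ k).map (algebraMap A B)) (h0 : ∀ i, φ i t = 0) :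
    t ∈ (J ^ (k + 1)).map (algebraMap A B) := by
  obtain ⟨τ, rfl⟩ := exists_mu_eq J k B ht
  refine mu_mem J k B τ fun l => ?_
  obtain ⟨b, hb⟩ := Ideal.Quotient.mk_surjective (Lam J k B l τ)
  rw [← hb, Ideal.Quotient.eq_zero_iff_mem]
  refine hdet b fun i => ?_
  obtain ⟨b', hb', hC⟩ := Lam_natural J k (φ i) l τ
  have hz : (φ i).toLinearMap.rTensor ↥(J ^ k) τ = 0 := by
    apply (TensorProduct.rid A (C i)).injective.comp
      (Module.Flat.lTensor_preserves_injective_linearMap (M := C i) (J ^ k).subtype Subtype.val_injective)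
    show mu J k (C i) _ = mu J k (C i) 0
    rw [mu_natural, h0 i, map_zero]
  rw [hz, map_zero, eq_comm, Ideal.Quotient.eq_zero_iff_mem] at hC
  have hbb : φ i (b - b') ∈ J.map (algebraMap A (C i)) := by
    have := Ideal.mem_map_of_mem (φ i).toRingHom (Ideal.Quotient.eq.mp (hb.trans hb'))
    have hc : (φ i).toRingHom.comp (algebraMap A B) = algebraMap A (C i) := (φ i).comp_algebraMap
    rwa [Ideal.map_map, hc] at this
  simpa [map_sub] using Ideal.add_mem _ hbb hC

end Algebra

section Scheme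

variable {A : CommRingCat.{u}}

/-- The structure map on sections. -/
noncomputable abbrev rho {W : Scheme.{u}} (f : W ⟶ Spec A) (U : W.Opens) : A ⟶ Γ(W, U) :=
  (Scheme.ΓSpecIso A).inv ≫ f.appLE ⊤ U (by simp)

lemma rho_comp {W W' : Scheme.{u}} (f : W ⟶ Spec A) (g : W' ⟶ W) (U : W.Opens) (U' : W'.Opens)
    (e : U' ≤ g ⁻¹ᵁ U) : rho f U ≫ g.appLE U U' e = rho (g ≫ f) U' := by
  simp [rho, Scheme.Hom.appLE_comp_appLE]

open CategoryTheory.Limits in
lemma rho_snd_zero {X : Scheme.{u}} (p : X ⟶ Spec A) (J : Ideal A)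
    (U : (pullback p (Spec.map (CommRingCat.ofHom (Ideal.Quotient.mk J)))).Opens) {a : A} (ha : a ∈ J) :
    rho (pullback.fst p (Spec.map (CommRingCat.ofHom (Ideal.Quotient.mk J))) ≫ p) U a = 0 := by
  rw! [pullback.condition]
  rw [rho, ← Scheme.Hom.appLE_comp_appLE _ _ ⊤ ⊤ U (by simp) (by simp)]
  have : (Scheme.ΓSpecIso A).inv ≫ (Spec.map (CommRingCat.ofHom (Ideal.Quotient.mk J))).appLE ⊤ ⊤ (by simp) =
      CommRingCat.ofHom (Ideal.Quotient.mk J) ≫ (Scheme.ΓSpecIso _).inv := by
    rw [Scheme.ΓSpecIso_inv_naturality]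
    simp [Scheme.Hom.appLE]
    rfl
  rw [reassoc_of% this]
  rw [CommRingCat.comp_apply, CommRingCat.comp_apply, CommRingCat.ofHom_apply,
    Ideal.Quotient.eq_zero_iff_mem.mpr ha]
  simp

end Scheme


open CategoryTheory.Limits in
/-- Over an affine base with free successive quotients. Let A be a ring, J a nilpotent ideal of A such
that every quotient J^k/J^(k+1) is a free (A/J)-module, p : X ⟶ Spec A a flat morphism and (v_i :
Z_i ⟶ X) a family of subschemes of X (immersions) with every Z_i flat over Spec A. If the family of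
reductions Z_i ×_A (A/J) ⟶ X ×_A (A/J) is schematically dense, i.e. a section of the structure sheaf
of X ×_A (A/J) over an open subset whose pullback to every member vanishes is zero, then the family
(v_i) is schematically dense in X in the same sense. (The published statement has an arbitrary base
S and a nilpotent quasi-coherent ideal of the structure sheaf whose successive quotients are locally
free modulo the ideal; the assertion is local on S and on X, and this row is the case of an affine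
base with free successive quotients.) -/
theorem result {X : Scheme.{u}} (A : CommRingCat.{u}) (p : X ⟶ Spec A) [Flat p]
    (J : Ideal ↑A) (hJ : IsNilpotent J) (hfree : ∀ k : ℕ, Module.Free (↑A ⧸ J) ((↑A ⧸ J) ⊗[↑A] ↥(J ^ k)))
    {ι : Type u} (Z : ι → Scheme.{u}) (v : ∀ i, Z i ⟶ X) [∀ i, IsImmersion (v i)] [∀ i, Flat (v i ≫ p)]
    (h0 : ∀ (V : (pullback p (Spec.map (CommRingCat.ofHom (Ideal.Quotient.mk J)))).Opens) (t : Γ(pullback p (Spec.map (CommRingCat.ofHom (Ideal.Quotient.mk J))), V)),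
      (∀ i, (pullback.map (v i ≫ p) (Spec.map (CommRingCat.ofHom (Ideal.Quotient.mk J))) p (Spec.map (CommRingCat.ofHom (Ideal.Quotient.mk J))) (v i) (𝟙 _) (𝟙 _)
        (Category.comp_id _) ((Category.comp_id _).trans (Category.id_comp _).symm)).app V t = 0) → t = 0) :
    ∀ (V : X.Opens) (t : Γ(X, V)), (∀ i, (v i).app V t = 0) → t = 0 := by
  intro V t ht
  classical
  let q := Spec.map (CommRingCat.ofHom (Ideal.Quotient.mk J))
  -- the affine case
  have aff : ∀ (U : X.Opens), IsAffineOpen U → ∀ s : Γ(X, U), (∀ i, (v i).app U s = 0) → s = 0 := by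
    intro U hU s hs
    algebraize [(rho p U).hom]
    let K := Σ i, {W : (Z i).Opens // IsAffineOpen W ∧ W ≤ v i ⁻¹ᵁ U}
    let C : K → Type u := fun w => Γ(Z w.1, w.2.1)
    let _ : ∀ w, Algebra A (C w) := fun w => (rho (v w.1 ≫ p) w.2.1).hom.toAlgebra
    have hflat : ∀ w, Module.Flat A (C w) := by
      intro w
      have h1 := Flat.flat_appLE (v w.1 ≫ p) (isAffineOpen_top (Spec A)) w.2.2.1 (by simp)
      exact RingHom.Flat.comp (RingHom.Flat.of_bijective
        (Scheme.ΓSpecIso A).commRingCatIsoToRingEquiv.symm.bijective) h1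
    let φ : ∀ w, Γ(X, U) →ₐ[A] C w := fun w =>
      { (Scheme.Hom.appLE (v w.1) U w.2.1 w.2.2.2).hom with
        commutes' := fun a => congr($(rho_comp p (v w.1) U w.2.1 w.2.2.2) a) }
    have hdet : ∀ b : Γ(X, U), (∀ w, φ w b ∈ J.map (algebraMap A (C w))) →
        b ∈ J.map (algebraMap A Γ(X, U)) := by
      intro b hb
      have hb0 : (pullback.fst p q).app U b = 0 := by
        refine h0 _ _ fun i => ?_
        let vv := pullback.map (v i ≫ p) q p q (v i) (𝟙 _) (𝟙 _)
          (Category.comp_id _) ((Category.comp_id _).trans (Category.id_comp _).symm)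
        let O := vv ⁻¹ᵁ (pullback.fst p q ⁻¹ᵁ U)
        refine TopCat.Sheaf.eq_of_locally_eq' (pullback (v i ≫ p) q).sheaf
          (fun W : {W : (Z i).Opens // IsAffineOpen W ∧ W ≤ v i ⁻¹ᵁ U} => O ⊓ pullback.fst (v i ≫ p) q ⁻¹ᵁ W.1)
          O (fun W => homOfLE inf_le_left) ?_ _ _ fun W => ?_
        · intro y hy
          have hy' : pullback.fst (v i ≫ p) q y ∈ v i ⁻¹ᵁ U := by
            show (pullback.fst (v i ≫ p) q ≫ v i) y ∈ U
            rw [← pullback.lift_fst (f := p) (g := q) (pullback.fst (v i ≫ p) q ≫ v i) _ (by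
              simp [pullback.condition] : (pullback.fst (v i ≫ p) q ≫ v i) ≫ p = pullback.snd _ q ≫ q)]
            have : vv = pullback.lift (pullback.fst (v i ≫ p) q ≫ v i) (pullback.snd _ q)
                (by simp [pullback.condition]) := by
              ext1 <;> simp [vv]
            rw [← this]
            exact hy
          obtain ⟨_, ⟨W, hW, rfl⟩, hyW, hWle⟩ := (Z i).isBasis_affineOpens.exists_subset_of_mem_open hy'
            (v i ⁻¹ᵁ U).isOpen
          exact TopologicalSpace.Opens.mem_iSup.mpr ⟨⟨W, hW, hWle⟩, hy, hyW⟩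
        · show (pullback (v i ≫ p) q).presheaf.map (homOfLE inf_le_left).op
              (vv.app (pullback.fst p q ⁻¹ᵁ U) ((pullback.fst p q).app U b)) =
            (pullback (v i ≫ p) q).presheaf.map (homOfLE inf_le_left).op 0
          rw [map_zero]
          have e : vv ≫ pullback.fst p q = pullback.fst (v i ≫ p) q ≫ v i := by simp [vv]
          have key : ((vv ≫ pullback.fst p q).appLE U (O ⊓ pullback.fst (v i ≫ p) q ⁻¹ᵁ W.1)
              inf_le_left) b = 0 := by
            have hfac : (vv ≫ pullback.fst p q).appLE U (O ⊓ pullback.fst (v i ≫ p) q ⁻¹ᵁ W.1) inf_le_left =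
                (v i).appLE U W.1 W.2.2 ≫ (pullback.fst (v i ≫ p) q).appLE W.1 _ inf_le_right := by
              rw [Scheme.Hom.appLE_comp_appLE]
              congr 1
            rw [hfac, CommRingCat.comp_apply]
            have := hb ⟨i, W⟩
            refine RingHom.mem_ker.mp (Ideal.map_le_iff_le_comap.mpr ?_ this)
            intro a ha
            show (pullback.fst (v i ≫ p) q).appLE W.1 _ _ (rho (v i ≫ p) W.1 a) = 0
            rw [← CommRingCat.comp_apply, rho_comp, rho_snd_zero (v i ≫ p) J _ ha]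
          exact key
      -- test on `Spec (B/JB)`
      let B' := Γ(X, U) ⧸ J.map (algebraMap A Γ(X, U))
      let π : Γ(X, U) ⟶ CommRingCat.of B' := CommRingCat.ofHom (Ideal.Quotient.mk _)
      let θ : CommRingCat.of (A ⧸ J) ⟶ CommRingCat.of B' := CommRingCat.ofHom (qmap J Γ(X, U)).toRingHom
      have hc : (Spec.map π ≫ hU.fromSpec) ≫ p = Spec.map θ ≫ q := by
        have h1 : hU.fromSpec ≫ p = Spec.map (rho p U) := by
          rw [Spec.map_comp]
          have := (isAffineOpen_top (Spec A)).SpecMap_appLE_fromSpec p hU (by simp)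
          rw [← this]
          congr 1
          rw [IsAffineOpen.fromSpec_top, Scheme.isoSpec_Spec]
          simp
        rw [Category.assoc, h1, ← Spec.map_comp, ← Spec.map_comp]
        congr 1
      let r := pullback.lift _ _ hc
      have hπ : π b = 0 := by
        have key : ∀ (F : Spec (CommRingCat.of B') ⟶ X) (_ : F = r ≫ pullback.fst p q)
            (h' : (⊤ : (Spec (CommRingCat.of B')).Opens) ≤ F ⁻¹ᵁ U), F.appLE U ⊤ h' b = 0 := by
          rintro _ rfl h'
          rw [Scheme.Hom.appLE, Scheme.Hom.comp_app]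
          simp [hb0]
        have htop : (⊤ : (Spec (CommRingCat.of B')).Opens) ≤ (Spec.map π ≫ hU.fromSpec) ⁻¹ᵁ U := by
          rw [Scheme.Hom.comp_preimage, hU.fromSpec_preimage_self]
          rfl
        have e1 : (Spec.map π ≫ hU.fromSpec).appLE U ⊤ htop = π ≫ (Scheme.ΓSpecIso _).inv := by
          simp only [Scheme.Hom.appLE, Scheme.Hom.comp_app, hU.fromSpec_app_self, Category.assoc,
            Scheme.Hom.naturality_assoc, ← Functor.map_comp]
          rw [← Category.assoc]
          change ((Scheme.ΓSpecIso Γ(X, U)).inv ≫ (Spec.map π).appTop) ≫ _ = _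
          rw [← Scheme.ΓSpecIso_inv_naturality, Category.assoc]
          refine (congrArg (fun m => π ≫ (Scheme.ΓSpecIso _).inv ≫ m) ?_).trans
            (congrArg (π ≫ ·) (Category.comp_id _))
          exact (congrArg (Spec _).presheaf.map (Subsingleton.elim _ (𝟙 _))).trans ((Spec _).presheaf.map_id _)
        have e2 := key _ (pullback.lift_fst _ _ hc).symm htop
        rw [e1, CommRingCat.comp_apply] at e2
        exact (map_eq_zero_iff _ (Scheme.ΓSpecIso _).commRingCatIsoToRingEquiv.symm.injective).mp e2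
      exact Ideal.Quotient.eq_zero_iff_mem.mp hπ
    have hall : ∀ k, s ∈ (J ^ k).map (algebraMap A Γ(X, U)) := by
      intro k
      induction k with
      | zero => simp [pow_zero, Ideal.one_eq_top, Ideal.map_top]
      | succ k ih =>
        haveI := hfree k
        refine mem_step J k C φ hdet ih fun w => ?_
        show (v w.1).appLE U w.2.1 w.2.2.2 s = 0
        simp [Scheme.Hom.appLE, hs]
    obtain ⟨n, hn⟩ := hJ
    simpa [hn] using hall n
  refine TopCat.Sheaf.eq_of_locally_eq' X.sheaf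
    (fun W : {W : X.Opens // IsAffineOpen W ∧ W ≤ V} => W.1) V (fun W => homOfLE W.2.2) ?_ _ _ fun W => ?_
  · intro y hy
    obtain ⟨_, ⟨W, hW, rfl⟩, hyW, hWle⟩ := X.isBasis_affineOpens.exists_subset_of_mem_open hy V.isOpen
    exact TopologicalSpace.Opens.mem_iSup.mpr ⟨⟨W, hW, hWle⟩, hyW⟩
  · show X.presheaf.map (homOfLE W.2.2).op t = X.presheaf.map (homOfLE W.2.2).op 0
    rw [map_zero]
    refine aff W.1 W.2.1 _ fun i => ?_
    rw [← CommRingCat.comp_apply, Scheme.Hom.naturality, CommRingCat.comp_apply, ht i, map_zero]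

end Groth.Agent.S6063
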