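import Groth.Statements.S6065
import Groth.Agent.WeilResLib.Dense.Torsion
-- import your own Groth.Agent.* helpers here

set_option autoImplicit false
open CategoryTheory MonoidalCategory CartesianMonoidalCategory MonObj GrpObj AlgebraicGeometry
universe u
open SGA3x

namespace Groth.Agent.S6065

open CategoryTheory.Limits in
/-- Let S be a locally Noetherian scheme, H a commutative S-group which is of finite type over S, and E
a nonempty set of integers n > 0 stable under multiplication, such that: a) for every n ∈ E the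
kernel ₙH of the n-th power map of H (the pullback of the unit section along that map) is finite and
flat over S; b) for every s ∈ S the family of fibres (ₙH)_s ⟶ H_s, n ∈ E, is schematically dense in
H_s (a section of the structure sheaf of H_s over an open subset whose pullback to every (ₙH)_s
vanishes is zero). Let Y be a closed subscheme of H. Then the functor on S-schemes whose value at S'
⟶ S is a point when H ×_S S' ⟶ H factors through Y and empty otherwise is representable by a closed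
subscheme T of S; and if S is Noetherian there is n ∈ E such that, for every S' ⟶ S, H ×_S S' ⟶ H
factors through Y if and only if ₙH ×_S S' ⟶ H does. -/
theorem result {S : Scheme.{u}} [IsLocallyNoetherian S]
    (H : Over S) [GrpObj H] [IsCommMonObj H] [LocallyOfFiniteType H.hom] [QuasiCompact H.hom]
    (E : Set ℕ) (hE : E.Nonempty) (hE0 : ∀ n ∈ E, 0 < n) (hEmul : ∀ m ∈ E, ∀ n ∈ E, m * n ∈ E)
    (ha : ∀ n ∈ E, IsFinite ((pullback.snd η[H].left (𝟙 H ^ n : H ⟶ H).left) ≫ H.hom) ∧ Flat ((pullback.snd η[H].left (𝟙 H ^ n : H ⟶ H).left) ≫ H.hom))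
    (hb : ∀ (s : S) (V : (H.hom.fiber s).Opens) (t : Γ(H.hom.fiber s, V)),
      (∀ n ∈ E, (MoreMor.fiberMap (pullback.snd η[H].left (𝟙 H ^ n : H ⟶ H).left) H.hom s).app V t = 0) → t = 0)
    (Y : Scheme.{u}) (y : Y ⟶ H.left) [IsClosedImmersion y] :
    (∃ (T : Scheme.{u}) (t : T ⟶ S), IsClosedImmersion t ∧
      ∀ (S' : Scheme.{u}) (g : S' ⟶ S), (∃ g' : S' ⟶ T, g' ≫ t = g) ↔
        ∃ l : pullback H.hom g ⟶ Y, l ≫ y = pullback.fst H.hom g) ∧
    (AlgebraicGeometry.IsNoetherian S → ∃ n ∈ E, ∀ (S' : Scheme.{u}) (g : S' ⟶ S),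
      (∃ l : pullback H.hom g ⟶ Y, l ≫ y = pullback.fst H.hom g) ↔
        ∃ l : pullback ((pullback.snd η[H].left (𝟙 H ^ n : H ⟶ H).left) ≫ H.hom) g ⟶ Y,
          l ≫ y = pullback.fst ((pullback.snd η[H].left (𝟙 H ^ n : H ⟶ H).left) ≫ H.hom) g ≫ (pullback.snd η[H].left (𝟙 H ^ n : H ⟶ H).left)) := by
  obtain ⟨⟨T, t, htc, ht⟩, h2⟩ := Groth.Agent.WeilRes.exists_closed_of_torsion_dense E hE hEmul ha hb (𝟙 S)
    (CategoryTheory.Limits.pullback.fst H.hom (𝟙 S)) y
  have hX : ∀ {S' : Scheme.{u}} (g : S' ⟶ S), Groth.Agent.WeilRes.InQ H.hom (𝟙 S)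
      (CategoryTheory.Limits.pullback.fst H.hom (𝟙 S)) y g ↔
      ∃ l : CategoryTheory.Limits.pullback H.hom g ⟶ Y, l ≫ y = CategoryTheory.Limits.pullback.fst H.hom g :=
    fun g => by
      simpa only [Category.comp_id] using
        Groth.Agent.WeilRes.inQ_id_iff H.hom (𝟙 H.left) _ (Category.comp_id _).symm y g
  refine ⟨⟨T, t, htc, fun S' g => (ht g).trans (hX g)⟩, fun hS => ?_⟩
  obtain ⟨n, hn, hk⟩ := h2 hS
  refine ⟨n, hn, fun S' g => (hX g).symm.trans ((hk g).trans
    (Groth.Agent.WeilRes.inQ_id_iff _ _ _ ?_ y g))⟩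
  exact CategoryTheory.Limits.pullback.lift_fst _ _ _
end Groth.Agent.S6065
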