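import Groth.Statements.S6066
import Groth.Agent.WeilResLib.Dense.Torsion
-- import your own Groth.Agent.* helpers here

set_option autoImplicit false
open CategoryTheory MonoidalCategory CartesianMonoidalCategory MonObj GrpObj AlgebraicGeometry
universe u
open SGA3x

namespace Groth.Agent.S6066

open CategoryTheory.Limits in
/-- Let S be a locally Noetherian scheme, H a commutative S-group which is of finite type over S, and E
a nonempty set of integers n > 0 stable under multiplication such that a) every kernel ₙH of the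
n-th power map (n ∈ E; the pullback of the unit section along that map) is finite and flat over S
and b) for every s ∈ S the family of fibres (ₙH)_s ⟶ H_s, n ∈ E, is schematically dense in H_s. Let
u : H ⟶ G be a homomorphism into an S-group G locally of finite type over S and k : K ⟶ G a closed
sub-group-scheme. Then the transporter of u into K — the subfunctor of G of those points g, with
values in an S-scheme X, such that for every X' ⟶ X and every X'-valued point h of H the point g
u(h) g⁻¹ lies in K — is representable by a closed subscheme of G; and if the scheme G is Noetherian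
there is n ∈ E such that a point g of G lies in the transporter if and only if g u(h) g⁻¹ lies in K
for all points h of H with h^n = 1. (The published statement is over an arbitrary base S and also
asserts that the transporter is smooth over S when G is smooth, K is smooth or of multiplicative
type and the ₙH, n ∈ E, are of multiplicative type; this row assumes S locally Noetherian, the
setting in which the printed argument through the base G applies, and does not state the smoothness
assertion.) -/
theorem result {S : Scheme.{u}} [IsLocallyNoetherian S]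
    (H : Over S) [GrpObj H] [IsCommMonObj H] [LocallyOfFiniteType H.hom] [QuasiCompact H.hom]
    (E : Set ℕ) (hE : E.Nonempty) (hE0 : ∀ n ∈ E, 0 < n) (hEmul : ∀ m ∈ E, ∀ n ∈ E, m * n ∈ E)
    (ha : ∀ n ∈ E, IsFinite ((pullback.snd η[H].left (𝟙 H ^ n : H ⟶ H).left) ≫ H.hom) ∧ Flat ((pullback.snd η[H].left (𝟙 H ^ n : H ⟶ H).left) ≫ H.hom))
    (hb : ∀ (s : S) (V : (H.hom.fiber s).Opens) (t : Γ(H.hom.fiber s, V)),
      (∀ n ∈ E, (MoreMor.fiberMap (pullback.snd η[H].left (𝟙 H ^ n : H ⟶ H).left) H.hom s).app V t = 0) → t = 0)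
    (G K : Over S) [GrpObj G] [GrpObj K] [LocallyOfFiniteType G.hom] (u : H ⟶ G) [IsMonHom u]
    (k : K ⟶ G) [IsMonHom k] [IsClosedImmersion k.left] :
    (∃ (T : Over S) (j : T ⟶ G), IsClosedImmersion j.left ∧
      ∀ (X : Over S) (g : X ⟶ G), (∃ t : X ⟶ T, t ≫ j = g) ↔
        ∀ (X' : Over S) (x : X' ⟶ X) (h : X' ⟶ H), ∃ κ : X' ⟶ K, (x ≫ g) * (h ≫ u) * (x ≫ g)⁻¹ = κ ≫ k) ∧
    (AlgebraicGeometry.IsNoetherian G.left → ∃ n ∈ E, ∀ (X : Over S) (g : X ⟶ G),
      (∀ (X' : Over S) (x : X' ⟶ X) (h : X' ⟶ H), ∃ κ : X' ⟶ K, (x ≫ g) * (h ≫ u) * (x ≫ g)⁻¹ = κ ≫ k) ↔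
        ∀ (X' : Over S) (x : X' ⟶ X) (h : X' ⟶ H), h ^ n = 1 → ∃ κ : X' ⟶ K, (x ≫ g) * (h ≫ u) * (x ≫ g)⁻¹ = κ ≫ k) := by
  haveI : IsLocallyNoetherian G.left := LocallyOfFiniteType.isLocallyNoetherian G.hom
  let c : H ⊗ G ⟶ G := snd H G * (fst H G ≫ u) * (snd H G)⁻¹
  have hc0 : ∀ {Z : Over S} (a : Z ⟶ H) (t : Z ⟶ G), lift a t ≫ c = t * (a ≫ u) * t⁻¹ := fun a t => by
    simp only [c, MonObj.comp_mul, GrpObj.comp_inv, lift_fst_assoc, lift_snd]
  let q : CategoryTheory.Limits.pullback H.hom G.hom ⟶ G.left := c.left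
  obtain ⟨⟨T, t, htc, ht⟩, h2⟩ := Groth.Agent.WeilRes.exists_closed_of_torsion_dense E hE hEmul ha hb G.hom q k.left
  -- the points of `H` lying over a subscheme `W`
  have key : ∀ (X : Over S) (g : X ⟶ G) (W : Scheme.{u}) (w : W ⟶ H.left),
      Groth.Agent.WeilRes.InQ (w ≫ H.hom) G.hom (Groth.Agent.WeilRes.zb H.hom w G.hom ≫ q) k.left g.left ↔
        ∀ (X' : Over S) (x : X' ⟶ X) (h : X' ⟶ H), (∃ v, v ≫ w = h.left) →
          ∃ κ : X' ⟶ K, (x ≫ g) * (h ≫ u) * (x ≫ g)⁻¹ = κ ≫ k := by
    intro X g W w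
    constructor
    · rintro ⟨l, hl⟩ X' x h ⟨v, hv⟩
      let p : X'.left ⟶ CategoryTheory.Limits.pullback (w ≫ H.hom) (g.left ≫ G.hom) :=
        CategoryTheory.Limits.pullback.lift v x.left (by
          rw [← Category.assoc, hv, Over.w, Over.w, Over.w])
      have h1 : (p ≫ l) ≫ k.left = (lift h (x ≫ g) ≫ c).left := by
        rw [Over.comp_left, Category.assoc, hl, ← Category.assoc, ← Category.assoc]
        refine congrArg (· ≫ q) ?_
        refine CategoryTheory.Limits.pullback.hom_ext ?_ ?_
        · simp only [p, Category.assoc, CategoryTheory.Limits.pullback.lift_fst,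
            CategoryTheory.Limits.pullback.lift_fst_assoc, hv]
          exact (congrArg CommaMorphism.left (lift_fst h (x ≫ g))).symm
        · simp only [p, Category.assoc, CategoryTheory.Limits.pullback.lift_snd, Category.comp_id,
            CategoryTheory.Limits.pullback.lift_snd_assoc]
          exact (congrArg CommaMorphism.left (lift_snd h (x ≫ g))).symm
      refine ⟨Over.homMk (p ≫ l) ?_, ?_⟩
      · rw [← Over.w k, ← Category.assoc, h1, Over.w]
      · rw [← hc0]
        exact Over.OverMorphism.ext h1.symm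
    · intro hall
      let X' : Over S := Over.mk (CategoryTheory.Limits.pullback.snd (w ≫ H.hom) (g.left ≫ G.hom) ≫ X.hom)
      let h : X' ⟶ H := Over.homMk (CategoryTheory.Limits.pullback.fst (w ≫ H.hom) (g.left ≫ G.hom) ≫ w) (by
        show (_ ≫ w) ≫ H.hom = _ ≫ X.hom
        rw [Category.assoc, CategoryTheory.Limits.pullback.condition]; exact congrArg (_ ≫ ·) (Over.w g))
      let x : X' ⟶ X := Over.homMk (CategoryTheory.Limits.pullback.snd (w ≫ H.hom) (g.left ≫ G.hom)) rfl
      obtain ⟨κ, hκ⟩ := hall X' x h ⟨_, rfl⟩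
      refine ⟨κ.left, ?_⟩
      rw [← Over.comp_left, ← hκ, ← hc0, Over.comp_left, ← Category.assoc]
      refine congrArg (· ≫ q) ?_
      refine CategoryTheory.Limits.pullback.hom_ext ?_ ?_
      · simp only [Category.assoc, CategoryTheory.Limits.pullback.lift_fst,
          CategoryTheory.Limits.pullback.lift_fst_assoc]
        exact congrArg CommaMorphism.left (lift_fst h (x ≫ g))
      · simp only [Category.assoc, CategoryTheory.Limits.pullback.lift_snd, Category.comp_id,
          CategoryTheory.Limits.pullback.lift_snd_assoc]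
        exact congrArg CommaMorphism.left (lift_snd h (x ≫ g))
  have hX : ∀ (X : Over S) (g : X ⟶ G), Groth.Agent.WeilRes.InQ H.hom G.hom q k.left g.left ↔
      ∀ (X' : Over S) (x : X' ⟶ X) (h : X' ⟶ H), ∃ κ : X' ⟶ K, (x ≫ g) * (h ≫ u) * (x ≫ g)⁻¹ = κ ≫ k := by
    intro X g
    have h1 := key X g H.left (𝟙 _)
    have h3 : ∀ (f : H.left ⟶ S), f = H.hom → ∀ (q' : CategoryTheory.Limits.pullback f G.hom ⟶ G.left),
        (∀ e : f = H.hom, q' = (CategoryTheory.Limits.pullback.congrHom e rfl).hom ≫ q) →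
        (Groth.Agent.WeilRes.InQ f G.hom q' k.left g.left ↔ Groth.Agent.WeilRes.InQ H.hom G.hom q k.left g.left) := by
      rintro _ rfl q' hq
      rw [hq rfl, CategoryTheory.Limits.pullback.congrHom_hom]
      simp
    refine ((h3 (𝟙 _ ≫ H.hom) (Category.id_comp _) _ fun e => ?_).symm.trans h1).trans
      ⟨fun hh X' x h => hh X' x h ⟨h.left, Category.comp_id _⟩, fun hh X' x h _ => hh X' x h⟩
    refine congrArg (· ≫ q) ?_
    refine CategoryTheory.Limits.pullback.hom_ext ?_ ?_ <;> simp
  refine ⟨⟨Over.mk (t ≫ G.hom), Over.homMk t rfl, htc, fun X g => ?_⟩, fun hG => ?_⟩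
  · rw [← hX, ← ht]
    constructor
    · rintro ⟨x, rfl⟩
      exact ⟨x.left, rfl⟩
    · rintro ⟨g', hg⟩
      exact ⟨Over.homMk g' (by show g' ≫ t ≫ G.hom = X.hom; rw [reassoc_of% hg, Over.w]), Over.OverMorphism.ext hg⟩
  · obtain ⟨n, hn, hk⟩ := h2 hG
    refine ⟨n, hn, fun X g => ((hX X g).symm.trans ((hk g.left).trans (key X g _ _))).trans ?_⟩
    exact forall₃_congr fun X' x h => imp_congr_left (Groth.Agent.WeilRes.pow_eq_one_iff h n).symm
end Groth.Agent.S6066
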