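import Groth.Statements.S6068
import Groth.Agent.TorusFibLib.Open
-- import your own Groth.Agent.* helpers here

set_option autoImplicit false
set_option backward.isDefEq.respectTransparency false
set_option backward.isDefEq.respectTransparency.types false
set_option linter.style.haveILetI false
set_option synthInstance.maxHeartbeats 200000
open CategoryTheory MonoidalCategory CartesianMonoidalCategory MonObj GrpObj AlgebraicGeometry
universe u
open SGA3x

namespace Groth.Agent.S6068

/-- Let S be a locally Noetherian scheme, H an S-group which is flat and of finite presentation over S
(not assumed affine over S) all of whose fibres H_t are connected and affine, and s ∈ S a point such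
that the fibre H_s is a torus over κ(s). Then there is an open neighbourhood U of s such that H|_U
is a torus. (The published statement is for an arbitrary base; this row assumes S locally
Noetherian, the case in which the printed argument is carried out.) -/
theorem result {S : Scheme.{u}} [IsLocallyNoetherian S] (H : Over S) [GrpObj H]
    [Flat H.hom] [LocallyOfFinitePresentation H.hom] [QuasiCompact H.hom] [QuasiSeparated H.hom]
    (hconn : ∀ t : S, ConnectedSpace ↥(Limits.pullback H.hom (S.fromSpecResidueField t)))
    (haff : ∀ t : S, IsAffine (Limits.pullback H.hom (S.fromSpecResidueField t)))
    (s : S) (hs : Red.IsTorus (Red.bc (S.fromSpecResidueField s) H)) :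
    ∃ U : S.Opens, s ∈ U ∧ Red.IsTorus (Red.bc U.ι H) := by
  exact Groth.Agent.TorusFib.exists_nhd_isTorus hconn haff hs

end Groth.Agent.S6068
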