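import Groth.Statements.S6069
import Groth.Agent.MultSubLib.Universal
import Groth.Agent.MultSubLib.Props

set_option autoImplicit false
open CategoryTheory MonoidalCategory CartesianMonoidalCategory MonObj GrpObj AlgebraicGeometry
universe u
open CategoryTheory.Limits
open SGA3x

namespace Groth.Agent.S6069

/-- Let G be an S-group which is affine and of finite presentation over S. Then the functor which to an
S-scheme T assigns the set of subgroup schemes of G ×_S T which are of multiplicative type and
finite over T (homomorphisms which are immersions from a T-group of multiplicative type, finite over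
T) is representable by an S-scheme M every point of which has an open and closed neighbourhood
affine over S: M carries a universal such subgroup K ⟶ G ×_S M, and for every f : T ⟶ S and every
such subgroup K' of G ×_S T there is exactly one S-morphism v : T ⟶ M under which the pull-back of K
equals K' as a subscheme of G ×_S T (compared through their maps to G and to T). Moreover M is
locally of finite presentation over S. (The published statement says that the representing scheme is
affine over S; its argument builds it as the disjoint sum, over the isomorphism types of finite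
commutative groups, of pieces each affine over S, and for G the multiplicative group over a field
that sum has one copy of S for every n ≥ 1 — the subgroups of n-th roots of unity — so it is not
quasi-compact, hence not affine, over S; this row states the piecewise affineness. The published
statement also allows S locally Noetherian with G affine of arbitrary type; its argument that the
subgroup immersions form an open and closed part of the scheme of homomorphisms needs G of finite
presentation — for G an infinite product of copies of the multiplicative group over a field and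
homomorphisms from the group of p-th roots of unity, p prime, the immersions form a part which is
open but not closed — so this row assumes G of finite presentation over S.) -/
theorem result {S : Scheme.{u}} (G : Over S) [GrpObj G] [IsAffineHom G.hom]
    [LocallyOfFinitePresentation G.hom] :
    ∃ (M : Over S) (K : Over M.left) (_ : GrpObj K) (j : K ⟶ Red.bc M.hom G),
      (∀ m : ↥M.left, ∃ U : M.left.Opens, m ∈ U ∧ IsClosed (U : Set ↥M.left) ∧ IsAffineHom (U.ι ≫ M.hom)) ∧ IsMonHom j ∧ IsImmersion j.left ∧ SGA3x.IsMultTypeFT K ∧ IsFinite K.hom ∧
      (∀ (T : Scheme.{u}) (f : T ⟶ S) (K' : Over T) [GrpObj K'] (j' : K' ⟶ Red.bc f G),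
        IsMonHom j' → IsImmersion j'.left → SGA3x.IsMultTypeFT K' → IsFinite K'.hom →
        ∃! v : T ⟶ M.left, v ≫ M.hom = f ∧
          ∃ φ : K'.left ≅ (Red.bc v K).left,
            φ.hom ≫ (Red.bc v K).hom = K'.hom ∧
            φ.hom ≫ ((Over.pullback v).map j).left ≫ pullback.fst (Red.bc M.hom G).hom v ≫ pullback.fst G.hom M.hom =
              j'.left ≫ pullback.fst G.hom f) ∧
      LocallyOfFinitePresentation M.hom := by
  obtain ⟨K, hK, j, V, hj, hjm, he, ⟨eV, heV1, heV2⟩, hV⟩ := MultSubLib.exists_univ G
  have hfin : IsFinite K.hom := MultSubLib.isFinite_univ he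
  haveI := hfin
  haveI : IsSeparated (Red.bc (MultSubLib.MM G).hom G).hom :=
    inferInstanceAs (IsSeparated (pullback.snd G.hom (MultSubLib.MM G).hom))
  have hjl : IsImmersion j.left := by
    haveI := hjm
    haveI : Mono j.left := by
      show Mono ((Over.forget _).map j)
      infer_instance
    haveI : IsFinite (j.left ≫ (Red.bc (MultSubLib.MM G).hom G).hom) := by
      rw [Over.w j]; exact hfin
    haveI : IsFinite j.left := MorphismProperty.of_postcomp (W := @IsFinite) (W' := @IsSeparated) j.left
      (Red.bc (MultSubLib.MM G).hom G).hom inferInstance inferInstance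
    haveI : IsClosedImmersion j.left := (IsClosedImmersion.iff_isFinite_and_mono _).2 ⟨inferInstance, inferInstance⟩
    infer_instance
  refine ⟨MultSubLib.MM G, K, hK, j, MultSubLib.exists_affine_nhd, hj, hjl, MultSubLib.isMultTypeFT_univ he, hfin,
    ?_, MultSubLib.locallyOfFinitePresentation_MM⟩
  intro T f K' _ j' hj' hji' hK' hfin'
  haveI := hj'
  haveI := hfin'
  haveI := hji'
  haveI : Mono j' := Over.mono_of_mono_left _
  let V' : MultSubLib.Tri G.left T :=
    { K := K'.left
      k := K'.hom
      c := j'.left ≫ pullback.fst G.hom f
      mono := fun a b h h' => (cancel_mono j'.left).1 (pullback.hom_ext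
        ((Category.assoc _ _ _).trans (h'.trans (Category.assoc _ _ _).symm))
        ((Category.assoc _ _ _).trans ((congrArg (a ≫ ·) (Over.w j')).trans
          (h.trans ((congrArg (b ≫ ·) (Over.w j')).symm.trans (Category.assoc _ _ _).symm))))) }
  have conv : ∀ v : T ⟶ (MultSubLib.MM G).left, MultSubLib.Tri.Same V' (V.pull v) ↔
      ∃ φ : K'.left ≅ (Red.bc v K).left, φ.hom ≫ (Red.bc v K).hom = K'.hom ∧
        φ.hom ≫ ((Over.pullback v).map j).left ≫ pullback.fst (Red.bc (MultSubLib.MM G).hom G).hom v ≫
          pullback.fst G.hom (MultSubLib.MM G).hom = j'.left ≫ pullback.fst G.hom f := by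
    intro v
    have sq : IsPullback (pullback.fst K.hom v ≫ eV.hom) (pullback.snd K.hom v) V.k v :=
      (IsPullback.of_hasPullback K.hom v).of_iso (Iso.refl _) eV (Iso.refl _) (Iso.refl _)
        (by simp) (by simp) (by simp [heV1]) (by simp)
    let ev : (Red.bc v K).left ≅ (V.pull v).K := sq.isoPullback
    have h1 : ev.hom ≫ (V.pull v).k = (Red.bc v K).hom :=
      (IsPullback.isoPullback_hom_snd _)
    have h2 : ev.hom ≫ (V.pull v).c = ((Over.pullback v).map j).left ≫
        pullback.fst (Red.bc (MultSubLib.MM G).hom G).hom v ≫ pullback.fst G.hom (MultSubLib.MM G).hom := by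
      show ev.hom ≫ pullback.fst V.k v ≫ V.c = _
      rw [ActBC.pullback_map_left_fst_assoc, ← heV2]
      exact (Category.assoc _ _ _).symm.trans ((congrArg (· ≫ V.c) sq.isoPullback_hom_fst).trans (Category.assoc _ _ _))
    constructor
    · rintro ⟨φ, hφ1, hφ2⟩
      refine ⟨φ ≪≫ ev.symm, ?_, ?_⟩
      · rw [Iso.trans_hom, Iso.symm_hom, Category.assoc, ← h1, Iso.inv_hom_id_assoc]
        exact hφ1
      · rw [Iso.trans_hom, Iso.symm_hom, Category.assoc, ← h2, Iso.inv_hom_id_assoc]
        exact hφ2
    · rintro ⟨φ, hφ1, hφ2⟩
      refine ⟨φ ≪≫ ev, ?_, ?_⟩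
      · rw [Iso.trans_hom, Category.assoc, h1]
        exact hφ1
      · rw [Iso.trans_hom, Category.assoc, h2]
        exact hφ2
  obtain ⟨v, hv⟩ := MultSubLib.exists_classifying hV f j' hK' V' ⟨Iso.refl _, Category.id_comp _, Category.id_comp _⟩
  refine ⟨v.left, ⟨Over.w v, (conv v.left).1 hv⟩, fun v' hv' => ?_⟩
  obtain ⟨hw, hφ⟩ := hv'
  have := MultSubLib.eq_of_same hV (X := Over.mk f) (Over.homMk v' hw) v ((((conv v').2 hφ).symm).trans hv)
  exact congrArg CommaMorphism.left this

end Groth.Agent.S6069
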