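import Groth.Statements.S6070
import Groth.Agent.HomCorrLib.SubLift
import Groth.Agent.HomCorrLib.TorsionPts
import Groth.Agent.TransporterLib.SubTop
import Groth.Agent.DiagRepLib.Scheme
import Groth.Agent.S5294

set_option autoImplicit false
set_option backward.isDefEq.respectTransparency false
open CategoryTheory MonoidalCategory CartesianMonoidalCategory MonObj GrpObj AlgebraicGeometry
universe u
open SGA3x

namespace Groth.Agent.S6070

attribute [local instance] CoactBr.braidedAlgSpecOf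

open PowEtCentralLib (inc res adjEquiv adjEquiv_inc)

theorem adjEquiv_comp {S₀ S : Scheme.{u}} (k : S₀ ⟶ S) {A B : Over S} [GrpObj A] [GrpObj B] {Y : Over S₀}
    (a : (Over.map k).obj Y ⟶ A) (f : A ⟶ B) :
    adjEquiv (G := B) k Y (a ≫ f) = adjEquiv (G := A) k Y a ≫ (Over.pullback k).map f :=
  (Over.mapPullbackAdj k).homEquiv_naturality_right a f

/-- Conjugation by a section trivial over a subscheme restricts to the identity. -/
theorem map_conjBy {S₀ S : Scheme.{u}} (k : S₀ ⟶ S) {G : Over S} [GrpObj G] (g : 𝟙_ (Over S) ⟶ G)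
    (hg : toUnit (Over.mk k : Over S) ≫ g = 1) :
    (Over.pullback k).map (AGF.conjBy g (𝟙 G)) = 𝟙 _ := by
  have h1 : inc k G ≫ toUnit G ≫ g = 1 := by
    rw [← Category.assoc, Subsingleton.elim (inc k G ≫ toUnit G)
      ((Over.homMk (Red.bc k G).hom rfl : res k G ⟶ Over.mk k) ≫ toUnit _), Category.assoc, hg, MonObj.comp_one]
  have h2 : inc k G ≫ AGF.conjBy g (𝟙 G) = inc k G := by
    simp only [AGF.conjBy, MonObj.comp_mul, GrpObj.comp_inv, h1, _root_.one_mul, inv_one, _root_.mul_one,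
      Category.comp_id]
  rw [← adjEquiv_inc (H := G) k (AGF.conjBy g (𝟙 G)), h2]
  conv_lhs => rw [← Category.comp_id (inc k G)]
  rw [adjEquiv_inc (H := G) k (𝟙 G), CategoryTheory.Functor.map_id]

/-- In lifting form: what formal smoothness of the morphism H ↦ ₙH of the functor of multiplicative
subgroups means. Let S = Spec R be affine, J a nilpotent ideal of R, S₀ = Spec (R/J), n a natural
number and G an S-group which is smooth over S. Let j₀ : H₀ ⟶ G₀ = G ×_S S₀ be a sub-group-scheme (a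
homomorphism which is an immersion) of multiplicative type (fpqc-locally isomorphic, as a group, to
diagonalisable groups D(M), M allowed to vary and taken in Type 0), and l : L ⟶ G a sub-group-scheme
of multiplicative type whose base change to S₀ is the n-torsion of H₀ inside G₀: a point of G₀
factors through L ×_S S₀ if and only if it is j₀(h) for a point h of H₀ with h^n = 1. Then there is
a sub-group-scheme j : H ⟶ G of multiplicative type whose base change to S₀ coincides with H₀ as a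
subgroup of G₀ (an isomorphism compatible with the maps to G₀) and whose n-torsion is L: a point of
G factors through L if and only if it is j(h) for a point h of H with h^n = 1. -/
theorem result {R : Type u} [CommRing R] (J : Ideal R) (hJ : IsNilpotent J) (n : ℕ)
    (G : Over (Spec (CommRingCat.of R))) [GrpObj G] (hG : Smooth G.hom)
    (H₀ : Over (Spec (CommRingCat.of (R ⧸ J)))) [GrpObj H₀]
    (hH₀ : TwC.Locally (Spec (CommRingCat.of (R ⧸ J))) TwC.Topology.fpqc (fun S' f => ∃ (M : Type) (_ : AddCommGroup M), Nonempty (Grp.mk (Red.bc f H₀) ≅ Grp.mk (Red.DS S' M))))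
    (j₀ : H₀ ⟶ Red.bc (Spec.map (CommRingCat.ofHom (Ideal.Quotient.mk J))) G) [IsMonHom j₀] [IsImmersion j₀.left]
    (L : Over (Spec (CommRingCat.of R))) [GrpObj L] (hL : TwC.Locally (Spec (CommRingCat.of R)) TwC.Topology.fpqc (fun S' f => ∃ (M : Type) (_ : AddCommGroup M), Nonempty (Grp.mk (Red.bc f L) ≅ Grp.mk (Red.DS S' M))))
    (l : L ⟶ G) [IsMonHom l] [IsImmersion l.left]
    (hL0 : ∀ (X : Over (Spec (CommRingCat.of (R ⧸ J)))) (g : X ⟶ Red.bc (Spec.map (CommRingCat.ofHom (Ideal.Quotient.mk J))) G),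
      (∃ y : X ⟶ Red.bc (Spec.map (CommRingCat.ofHom (Ideal.Quotient.mk J))) L, y ≫ (Over.pullback (Spec.map (CommRingCat.ofHom (Ideal.Quotient.mk J)))).map l = g) ↔
        ∃ h : X ⟶ H₀, h ^ n = 1 ∧ h ≫ j₀ = g) :
    ∃ (H : Over (Spec (CommRingCat.of R))) (_ : GrpObj H) (j : H ⟶ G), IsMonHom j ∧ IsImmersion j.left ∧
      TwC.Locally (Spec (CommRingCat.of R)) TwC.Topology.fpqc (fun S' f => ∃ (M : Type) (_ : AddCommGroup M), Nonempty (Grp.mk (Red.bc f H) ≅ Grp.mk (Red.DS S' M))) ∧
      (∃ φ : Red.bc (Spec.map (CommRingCat.ofHom (Ideal.Quotient.mk J))) H ≅ H₀, φ.hom ≫ j₀ = (Over.pullback (Spec.map (CommRingCat.ofHom (Ideal.Quotient.mk J)))).map j) ∧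
      ∀ (X : Over (Spec (CommRingCat.of R))) (g : X ⟶ G),
        (∃ y : X ⟶ L, y ≫ l = g) ↔ ∃ h : X ⟶ H, h ^ n = 1 ∧ h ≫ j = g := by
  haveI := hG
  let k := Spec.map (CommRingCat.ofHom (Ideal.Quotient.mk J))
  obtain ⟨H, _, j, hj, hji, -, hHft, φ, hφm, hφ⟩ := HomCorr.exists_subgroup_lift hJ G H₀ hH₀ j₀
  haveI := hj
  haveI := hji
  haveI := hφm
  have hHloc := Groth.Agent.Transporter.locally_of_isMultTypeFT hHft
  haveI := Groth.Agent.MultEq.isAffineHom_of_isMultTypeFT hHft
  haveI : IsAffine H.left := isAffine_of_isAffineHom H.hom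
  obtain ⟨A, _, _, v, hv, -⟩ := HomCorr.exists_hopf H
  haveI := hv
  have hA := HomCorr.isMultType_of_locally v.hom hHloc
  haveI : Algebra.FiniteType R A := by
    haveI : LocallyOfFiniteType H.hom := by rw [← Over.w j]; infer_instance
    haveI : IsIso v.hom.left := (Over.forget _).map_isIso v.hom
    haveI : LocallyOfFiniteType (CoactBr.sp R A).hom := by rw [← Over.w v.hom]; infer_instance
    have h : (algebraMap R A).FiniteType :=
      (HasRingHomProperty.Spec_iff (P := @LocallyOfFiniteType) (φ := CommRingCat.ofHom (algebraMap R A))).1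
        (inferInstance : LocallyOfFiniteType (CoactBr.sp R A).hom)
    exact RingHom.finiteType_algebraMap.1 h
  obtain ⟨T, _, t, ht, htc, hTft, hT⟩ := HomCorr.exists_torsion_subgroup v.hom hA n
  haveI := ht
  haveI := htc
  haveI : IsImmersion (t ≫ j).left := by rw [Over.comp_left]; infer_instance
  haveI : IsMonHom φ.inv := by
    haveI : IsMonHom (φ : _ ≅ _).hom := hφm
    infer_instance
  obtain ⟨g, hg, ψ, hψ⟩ := Groth.Agent.S5294.result J hJ G T L hG (Groth.Agent.Transporter.locally_of_isMultTypeFT hTft) hL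
    (t ≫ j) l 1 (fun X p => by
      let e : (Over.map k).obj (Over.mk p.left) ≅ X := Over.isoMk (Iso.refl _) (by
        show 𝟙 _ ≫ X.hom = p.left ≫ k
        rw [Category.id_comp]
        exact (Over.w p).symm)
      simp only [MonObj.comp_one, _root_.one_mul, inv_one, _root_.mul_one]
      constructor
      · intro x
        let h₁ := adjEquiv (G := H) k (Over.mk p.left) (e.hom ≫ x ≫ t)
        have hp : h₁ ^ n = 1 := by
          rw [← map_pow, (hT _ _).1 ⟨e.hom ≫ x, Category.assoc _ _ _⟩, map_one]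
        obtain ⟨y₀, hy₀⟩ := (hL0 _ (h₁ ≫ φ.hom ≫ j₀)).2 ⟨h₁ ≫ φ.hom, by
          rw [← MonObj.pow_comp, hp, MonObj.one_comp], Category.assoc _ _ _⟩
        refine ⟨e.inv ≫ (adjEquiv (G := L) k (Over.mk p.left)).symm y₀, ?_⟩
        rw [Category.assoc, Iso.eq_inv_comp]
        apply (adjEquiv (G := G) k (Over.mk p.left)).injective
        rw [adjEquiv_comp k ((adjEquiv (G := L) k (Over.mk p.left)).symm y₀) l, MulEquiv.apply_symm_apply]
        refine Eq.trans ?_ hy₀.symm
        rw [hφ, ← adjEquiv_comp k (e.hom ≫ x ≫ t) j]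
        simp only [Category.assoc]
      · intro y
        obtain ⟨h, hh1, hh2⟩ := (hL0 _ (adjEquiv (G := L) k (Over.mk p.left) (e.hom ≫ y) ≫ (Over.pullback k).map l)).1
          ⟨_, rfl⟩
        have hp : ((adjEquiv (G := H) k (Over.mk p.left)).symm (h ≫ φ.inv)) ^ n = 1 := by
          rw [← map_pow, ← MonObj.pow_comp, hh1, MonObj.one_comp, map_one]
        obtain ⟨x, hx⟩ := (hT _ _).2 hp
        refine ⟨e.inv ≫ x, ?_⟩
        rw [Category.assoc, Iso.eq_inv_comp]
        apply (adjEquiv (G := G) k (Over.mk p.left)).injective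
        rw [← Category.assoc x, hx, adjEquiv_comp k _ j, MulEquiv.apply_symm_apply, ← hφ, Category.assoc,
          Iso.inv_hom_id_assoc, hh2, ← adjEquiv_comp k (e.hom ≫ y) l, Category.assoc])
  haveI := DiagRep.isMonHom_conjBy g
  haveI : IsImmersion (j ≫ AGF.conjBy g (𝟙 G)).left := by
    haveI : IsIso (AGF.conjBy g (𝟙 G)).left := (Over.forget _).map_isIso (AGF.conjBy g (𝟙 G))
    rw [Over.comp_left]; infer_instance
  have hψ' : t ≫ j ≫ AGF.conjBy g (𝟙 G) = ψ.hom ≫ l := by
    rw [← Category.assoc, ← DiagRep.conjBy_eq_comp]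
    exact hψ
  refine ⟨H, inferInstance, j ≫ AGF.conjBy g (𝟙 G), inferInstance, inferInstance, hHloc, ⟨φ, ?_⟩, fun X g' => ⟨?_, ?_⟩⟩
  · rw [Functor.map_comp, map_conjBy k g hg, Category.comp_id, hφ]
  · rintro ⟨y, rfl⟩
    refine ⟨y ≫ ψ.inv ≫ t, (hT _ _).1 ⟨y ≫ ψ.inv, Category.assoc _ _ _⟩, ?_⟩
    simp only [Category.assoc, hψ', Iso.inv_hom_id_assoc]
  · rintro ⟨h, hh1, rfl⟩
    obtain ⟨y, rfl⟩ := (hT _ _).2 hh1
    exact ⟨y ≫ ψ.hom, by simp only [Category.assoc, hψ']⟩

end Groth.Agent.S6070
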