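import Groth.Statements.S6075
import Groth.Agent.GenSubLib.Tuples
-- import your own Groth.Agent.* helpers here

set_option autoImplicit false
set_option backward.isDefEq.respectTransparency false
universe u
open CategoryTheory CategoryTheory.Limits MonoidalCategory CartesianMonoidalCategory MonObj GrpObj AlgebraicGeometry
open SGA3

namespace Groth.Agent.S6075

/-- Let k be an algebraically closed field, G a group scheme locally of finite type over k, X a
geometrically reduced k-scheme locally of finite type, and f : X → G a k-morphism. Consider the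
k-points g of G whose underlying point lies under a word in f: there are a k-scheme T, a point p of
T, n ≥ 0, T-valued points x_1, …, x_n of X and signs such that the T-valued point f(x_1)^{±1} ⋯
f(x_n)^{±1} of G maps p to the point of g. These k-points form exactly the subgroup of G(k)
generated by the k-points of G whose underlying point lies in the image of f. (Words of length zero
are allowed here, so that the unit is on both sides when X is empty; for nonempty X this changes
nothing, while the published statement, with words of positive length only, fails for empty X.) -/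
theorem result (k : Type u) [Field k] [IsAlgClosed k]
    (G X : Over (Spec (CommRingCat.of k))) [GrpObj G] [LocallyOfFiniteType G.hom]
    [LocallyOfFiniteType X.hom] [GeometricallyReduced X.hom] (f : X ⟶ G) :
    {g : 𝟙_ (Over (Spec (CommRingCat.of k))) ⟶ G | ∃ (n : ℕ) (T : Over (Spec (CommRingCat.of k))) (p : T.left) (p₀ : (𝟙_ (Over (Spec (CommRingCat.of k)))).left)
        (x : Fin n → (T ⟶ X)) (ε : Fin n → Bool), ((List.ofFn fun j : Fin n => if ε j then x j ≫ f else (x j ≫ f)⁻¹).prod : T ⟶ G).left.base p = g.left.base p₀} =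
      ((Subgroup.closure {g : 𝟙_ (Over (Spec (CommRingCat.of k))) ⟶ G | ∃ p₀ : (𝟙_ (Over (Spec (CommRingCat.of k)))).left, g.left.base p₀ ∈ Set.range f.left.base} :
        Subgroup (𝟙_ (Over (Spec (CommRingCat.of k))) ⟶ G)) : Set (𝟙_ (Over (Spec (CommRingCat.of k))) ⟶ G)) := by
  classical
  have hW : ∀ l, LocallyOfFiniteType (GenSub.Word X l).hom := by
    intro l
    induction l with
    | nil => exact inferInstanceAs (LocallyOfFiniteType (𝟙 (Spec (CommRingCat.of k))))
    | cons b l ih =>
      haveI := ih
      show LocallyOfFiniteType (Limits.pullback.fst X.hom (GenSub.Word X l).hom ≫ X.hom)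
      haveI : LocallyOfFiniteType (Limits.pullback.fst X.hom (GenSub.Word X l).hom) :=
        MorphismProperty.pullback_fst _ _ inferInstance
      infer_instance
  let W : Subgroup (𝟙_ (Over (Spec (CommRingCat.of k))) ⟶ G) :=
    { carrier := {g | ∃ (l : List Bool) (z : 𝟙_ _ ⟶ GenSub.Word X l), z ≫ GenSub.word f l = g}
      one_mem' := ⟨[], 𝟙 _, by rw [Category.id_comp]; rfl⟩
      mul_mem' := by
        rintro _ _ ⟨l, z, rfl⟩ ⟨l', z', rfl⟩
        obtain ⟨m, hm⟩ := GenSub.exists_word_append f l l'
        exact ⟨l ++ l', lift z z' ≫ m, by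
          rw [Category.assoc, hm, MonObj.comp_mul, lift_fst_assoc, lift_snd_assoc]⟩
      inv_mem' := by
        rintro _ ⟨l, z, rfl⟩
        obtain ⟨l', ρ, hρ⟩ := GenSub.exists_word_inv f l
        exact ⟨l', z ≫ ρ, by rw [Category.assoc, hρ, GrpObj.comp_inv]⟩ }
  refine Set.Subset.antisymm ?_ ?_
  · rintro g ⟨n, T, p, p₀, x, ε, hp⟩
    obtain ⟨z₀, hz₀⟩ := GenSub.exists_tuple f x ε
    haveI := hW (List.ofFn ε)
    obtain ⟨z, rfl⟩ := GenSub.exists_lift_rational (GenSub.word f (List.ofFn ε)) g p₀ (z₀.left.base p) (by
      rw [← hp]; exact congr($(hz₀).left.base p))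
    clear hp hz₀ z₀
    generalize List.ofFn ε = l at z ⊢
    induction l with
    | nil =>
      show z ≫ (1 : _ ⟶ G) ∈ _
      rw [MonObj.comp_one]
      exact one_mem _
    | cons b l ih =>
      show z ≫ ((fst _ _ ≫ GenSub.letter f b) * (snd _ _ ≫ GenSub.word f l)) ∈ _
      rw [MonObj.comp_mul, SetLike.mem_coe]
      haveI := hW l
      refine mul_mem ?_ (by rw [← Category.assoc]; exact ih _)
      rw [← Category.assoc, GenSub.letter_comp]
      have hm : (z ≫ fst _ _) ≫ f ∈ Subgroup.closure {g : 𝟙_ (Over (Spec (CommRingCat.of k))) ⟶ G |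
          ∃ p₀ : (𝟙_ (Over (Spec (CommRingCat.of k)))).left, g.left.base p₀ ∈ Set.range f.left.base} :=
        Subgroup.subset_closure ⟨IsLocalRing.closedPoint k, (z ≫ fst _ _).left.base (IsLocalRing.closedPoint k), rfl⟩
      cases b
      · exact inv_mem hm
      · exact hm
  · have hle : Subgroup.closure {g : 𝟙_ (Over (Spec (CommRingCat.of k))) ⟶ G |
        ∃ p₀ : (𝟙_ (Over (Spec (CommRingCat.of k)))).left, g.left.base p₀ ∈ Set.range f.left.base} ≤ W :=
      (Subgroup.closure_le W).2 fun g hg => by
      obtain ⟨p₀, x, hx⟩ := hg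
      obtain ⟨y, rfl⟩ := GenSub.exists_lift_rational f g p₀ x hx
      obtain ⟨s, hs⟩ := GenSub.exists_eq_word f true
      exact ⟨[true], y ≫ s, by rw [Category.assoc, hs]; rfl⟩
    intro g hg
    obtain ⟨l, z, rfl⟩ := hle hg
    obtain ⟨x, hx⟩ := GenSub.exists_projections f l
    refine ⟨l.length, _, z.left.base (IsLocalRing.closedPoint k), IsLocalRing.closedPoint k, x, l.get, ?_⟩
    show (GenSub.tupleProd f x l.get).left.base _ = _
    rw [hx]; rfl

end Groth.Agent.S6075
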