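import Groth.Statements.S6076
import Groth.Agent.ProConsLib.Top
import Groth.Agent.Unram17Lib.FibreMap
-- import your own Groth.Agent.* helpers here

set_option autoImplicit false
set_option backward.isDefEq.respectTransparency false
universe u
open CategoryTheory CategoryTheory.Limits MonoidalCategory CartesianMonoidalCategory MonObj GrpObj AlgebraicGeometry
open SGA3

attribute [-instance] CategoryTheory.Hom.commGroup

namespace Groth.Agent.S6076

/-- A universal source of tuples of points, locally of finite presentation. -/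
theorem exists_universal {S : Scheme.{u}} (X : Over S) [LocallyOfFinitePresentation X.hom] :
    ∀ n : ℕ, ∃ (W : Over S) (pr : Fin n → (W ⟶ X)), LocallyOfFinitePresentation W.hom ∧
      ∀ (T : Over S) (x : Fin n → (T ⟶ X)), ∃ z : T ⟶ W, ∀ j, z ≫ pr j = x j
  | 0 => ⟨𝟙_ _, Fin.elim0, inferInstanceAs (LocallyOfFinitePresentation (𝟙 S)),
      fun T _ => ⟨toUnit T, fun j => j.elim0⟩⟩
  | n + 1 => by
      obtain ⟨W, pr, hW, h⟩ := exists_universal X n
      haveI := hW
      refine ⟨X ⊗ W, Fin.cases (fst X W) (fun j => snd X W ≫ pr j),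
        inferInstanceAs (LocallyOfFinitePresentation (pullback.fst X.hom W.hom ≫ X.hom)), fun T x => ?_⟩
      obtain ⟨z, hz⟩ := h T (fun j => x j.succ)
      refine ⟨lift (x 0) z, fun j => ?_⟩
      refine Fin.cases ?_ (fun j => ?_) j
      · exact lift_fst _ _
      · show lift (x 0) z ≫ snd X W ≫ pr j = _
        rw [lift_snd_assoc, hz]

/-- Signed products commute with composition. -/
theorem comp_prod {S : Scheme.{u}} {X H : Over S} [GrpObj H] (f : X ⟶ H) {T W : Over S} (z : T ⟶ W) :
    ∀ {n : ℕ} (x : Fin n → (W ⟶ X)) (e : Fin n → Bool),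
      z ≫ (List.ofFn fun j : Fin n => if e j then x j ≫ f else (x j ≫ f)⁻¹).prod =
        (List.ofFn fun j : Fin n => if e j then (z ≫ x j) ≫ f else ((z ≫ x j) ≫ f)⁻¹).prod
  | 0, x, e => by simp [MonObj.comp_one]
  | n + 1, x, e => by
      simp only [List.ofFn_succ, List.prod_cons, MonObj.comp_mul, comp_prod f z (fun j => x j.succ) (fun j => e j.succ)]
      congr 1
      split_ifs <;> simp [GrpObj.comp_inv, Category.assoc]

/-- (iii) ⟹ (iv): let S be a scheme, X an S-scheme which is flat and locally of finite presentation over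
S, H an S-group scheme locally of finite presentation over S with reduced fibres and quasi-compact
underlying space, and f : X → H an S-morphism. Say that a point h of H lies under a word of length n
in f when there are an S-scheme T, a point p of T, T-valued points x_1, …, x_n of X and signs such
that the T-valued point f(x_1)^{±1} ⋯ f(x_n)^{±1} of H maps p to h. If every point of H lies under
some word in f, then there is a natural number n such that every point of H lies under a word of
length at most n. (The published statement concludes with words of one fixed length n and an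
fppf-covering word morphism; for the constant group of order two over a field and f the non-trivial
point, the points under words of length n alternate between the two points of H, so only the bound
on the length is stated here, and the covering assertion is not stated.) -/
theorem result (S : Scheme.{u}) (X H : Over S) [GrpObj H]
    [Flat X.hom] [LocallyOfFinitePresentation X.hom] [LocallyOfFinitePresentation H.hom]
    (hred : ∀ s : S, IsReduced (H.hom.fiber s)) [CompactSpace H.left] (f : X ⟶ H)
    (hsurj : ∀ h : H.left, ∃ (n : ℕ) (T : Over S) (p : T.left) (x : Fin n → (T ⟶ X)) (ε : Fin n → Bool),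
      ((List.ofFn fun j : Fin n => if ε j then x j ≫ f else (x j ≫ f)⁻¹).prod : T ⟶ H).left.base p = h) :
    ∃ n : ℕ, ∀ h : H.left, ∃ (m : ℕ) (_ : m ≤ n) (T : Over S) (p : T.left) (x : Fin m → (T ⟶ X)) (ε : Fin m → Bool),
      ((List.ofFn fun j : Fin m => if ε j then x j ≫ f else (x j ≫ f)⁻¹).prod : T ⟶ H).left.base p = h := by
  classical
  have key : ∀ (V : H.left.Opens), IsAffineOpen V → ∀ h : V.toScheme,
      ∃ (n : ℕ) (C : Set V.toScheme), Topology.IsConstructible C ∧ h ∈ C ∧ ∀ c ∈ C,
        ∃ (T : Over S) (p : T.left) (x : Fin n → (T ⟶ X)) (e : Fin n → Bool),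
          ((List.ofFn fun j : Fin n => if e j then x j ≫ f else (x j ≫ f)⁻¹).prod : T ⟶ H).left.base p = V.ι.base c := by
    intro V hV h
    obtain ⟨n, T, p, x, e, hp⟩ := hsurj (V.ι.base h)
    obtain ⟨W, pr, hW, hz⟩ := exists_universal X n
    obtain ⟨z, hz⟩ := hz T x
    haveI := hW
    let φ : W ⟶ H := (List.ofFn fun j : Fin n => if e j then pr j ≫ f else (pr j ≫ f)⁻¹).prod
    have hφ : φ.left.base (z.left.base p) = V.ι.base h := by
      refine Eq.trans ?_ hp
      have h1 : z ≫ φ = (List.ofFn fun j : Fin n => if e j then x j ≫ f else (x j ≫ f)⁻¹).prod := by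
        simp only [φ, comp_prod f z pr e, hz]
      rw [← h1]
      rfl
    haveI : LocallyOfFinitePresentation (φ.left ≫ H.hom) := by rw [Over.w]; exact hW
    haveI : LocallyOfFinitePresentation φ.left := Unram17Lib.lfp_of_comp_lft φ.left H.hom
    obtain ⟨_, hU, hpU, hUV⟩ := exists_isAffineOpen_mem_and_subset (x := z.left.base p) (U := φ.left ⁻¹ᵁ V) (by
      show φ.left.base (z.left.base p) ∈ V
      rw [hφ]; exact h.2)
    rename_i U
    let g : U.toScheme ⟶ V.toScheme := φ.left.resLE V U hUV
    haveI : IsAffine U.toScheme := hU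
    haveI : IsAffine V.toScheme := hV
    have hg : ∀ c, V.ι.base (g.base c) = φ.left.base (U.ι.base c) := fun c => by
      show (g ≫ V.ι).base c = (U.ι ≫ φ.left).base c
      rw [Scheme.Hom.resLE_comp_ι]
    refine ⟨n, g.base '' Set.univ, g.isConstructible_image Topology.IsConstructible.univ,
      ⟨⟨z.left.base p, hpU⟩, trivial, ?_⟩, ?_⟩
    · exact V.ι.isOpenEmbedding.injective ((hg _).trans hφ)
    · rintro _ ⟨c, -, rfl⟩
      exact ⟨W, U.ι.base c, pr, e, (hg c).symm⟩
  have bound : ∀ (V : H.left.Opens), IsAffineOpen V → ∃ n : ℕ, ∀ h ∈ V,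
      ∃ (m : ℕ) (_ : m ≤ n) (T : Over S) (p : T.left) (x : Fin m → (T ⟶ X)) (e : Fin m → Bool),
        ((List.ofFn fun j : Fin m => if e j then x j ≫ f else (x j ≫ f)⁻¹).prod : T ⟶ H).left.base p = h := by
    intro V hV
    haveI : IsAffine V.toScheme := hV
    choose N C hC hmem hCw using key V hV
    have hcomp : @IsCompact V.toScheme (constructibleTopology V.toScheme) Set.univ := by
      have := Groth.Agent.ProConsLib.compactSpace_cons (X := V.toScheme)
      exact @isCompact_univ _ (constructibleTopology V.toScheme) this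
    obtain ⟨t, ht⟩ := @IsCompact.elim_finite_subcover V.toScheme (constructibleTopology V.toScheme) Set.univ
      V.toScheme hcomp C (fun c => (Groth.Agent.ProConsLib.isClopen_cons_of_isConstructible (hC c)).2)
      (fun c _ => Set.mem_iUnion.2 ⟨c, hmem c⟩)
    refine ⟨t.sup N, fun h hh => ?_⟩
    obtain ⟨c, hc, hcC⟩ := Set.mem_iUnion₂.1 (ht (Set.mem_univ (⟨h, hh⟩ : V.toScheme)))
    obtain ⟨T, p, x, e, hp⟩ := hCw c _ hcC
    exact ⟨N c, Finset.le_sup hc, T, p, x, e, hp⟩
  have hcov : ∀ h : H.left, ∃ V : H.left.Opens, IsAffineOpen V ∧ h ∈ V := fun h => by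
    obtain ⟨V, hV, hh, -⟩ := exists_isAffineOpen_mem_and_subset (x := h) (U := (⊤ : H.left.Opens)) trivial
    exact ⟨V, hV, hh⟩
  choose V hV hmem using hcov
  choose B hB using fun h => bound (V h) (hV h)
  obtain ⟨t, ht⟩ := isCompact_univ.elim_finite_subcover (fun h : H.left => (V h : Set H.left))
    (fun h => (V h).2) (fun h _ => Set.mem_iUnion.2 ⟨h, hmem h⟩)
  refine ⟨t.sup B, fun h => ?_⟩
  obtain ⟨c, hc, hcV⟩ := Set.mem_iUnion₂.1 (ht (Set.mem_univ h))
  obtain ⟨m, hm, rest⟩ := hB c h hcV
  exact ⟨m, hm.trans (Finset.le_sup hc), rest⟩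

end Groth.Agent.S6076
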