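import Groth.Statements.S6077
import Groth.Agent.GenSubLib.Tuples
import Groth.Agent.GenSubLib.Smallest
-- import your own Groth.Agent.* helpers here

set_option autoImplicit false
set_option backward.isDefEq.respectTransparency false
universe u
open CategoryTheory CategoryTheory.Limits MonoidalCategory CartesianMonoidalCategory MonObj GrpObj AlgebraicGeometry
open SGA3

attribute [-instance] CategoryTheory.Hom.commGroup

namespace Groth.Agent.S6077

/-- Let k be an algebraically closed field, G a group scheme locally of finite type over k, X a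
geometrically reduced k-scheme locally of finite type, f : X → G a k-morphism, and h : H → G a
closed subgroup scheme whose underlying set is contained in the image of f. Let i : Γ → G be the
smallest closed subgroup scheme of G through which f factors. Say that a point of G lies under a
word of length n in f when there are a k-scheme T, a point p of T, T-valued points x_1, …, x_n of X
and signs such that f(x_1)^{±1} ⋯ f(x_n)^{±1} maps p to it; let Γ'₀ be the set of k-points of G
whose point lies under some word (of any length n ≥ 0). Suppose that Γ'₀ is covered by finitely many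
left translates a · H(k) of the image of H(k) in G(k), with the a in Γ'₀ (H(k) has finite index in
Γ'₀). Then there is m such that the underlying set of Γ is the set of points of G lying under a word
of length m, and there are finitely many k-points a_1, …, a_r of G such that the underlying set of Γ
is the union of the left translates a_j · H of the underlying set of H. -/
theorem result (k : Type u) [Field k] [IsAlgClosed k]
    (G X H : Over (Spec (CommRingCat.of k))) [GrpObj G] [GrpObj H] [LocallyOfFiniteType G.hom]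
    [LocallyOfFiniteType X.hom] [GeometricallyReduced X.hom] (f : X ⟶ G)
    (h : H ⟶ G) [IsMonHom h] [IsClosedImmersion h.left] (hH : Set.range h.left.base ⊆ Set.range f.left.base)
    (Γ : Over (Spec (CommRingCat.of k))) [GrpObj Γ] (i : Γ ⟶ G) [IsMonHom i] [IsClosedImmersion i.left]
    (hf : ∃ f' : X ⟶ Γ, f' ≫ i = f)
    (hmin : ∀ (Γ' : Over (Spec (CommRingCat.of k))) (_ : GrpObj Γ') (i' : Γ' ⟶ G), IsMonHom i' → IsClosedImmersion i'.left →
        (∃ f'' : X ⟶ Γ', f'' ≫ i' = f) → ∃ j : Γ ⟶ Γ', j ≫ i' = i)
    (hfin : ∃ F : Finset (𝟙_ (Over (Spec (CommRingCat.of k))) ⟶ G),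
      (∀ a ∈ F, ∃ (n : ℕ) (T : Over (Spec (CommRingCat.of k))) (p : T.left) (p₀ : (𝟙_ (Over (Spec (CommRingCat.of k)))).left) (x : Fin n → (T ⟶ X)) (ε : Fin n → Bool),
        ((List.ofFn fun j : Fin n => if ε j then x j ≫ f else (x j ≫ f)⁻¹).prod : T ⟶ G).left.base p = a.left.base p₀) ∧
      ∀ g : 𝟙_ (Over (Spec (CommRingCat.of k))) ⟶ G, (∃ (n : ℕ) (T : Over (Spec (CommRingCat.of k))) (p : T.left) (p₀ : (𝟙_ (Over (Spec (CommRingCat.of k)))).left) (x : Fin n → (T ⟶ X)) (ε : Fin n → Bool),
        ((List.ofFn fun j : Fin n => if ε j then x j ≫ f else (x j ≫ f)⁻¹).prod : T ⟶ G).left.base p = g.left.base p₀) →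
        ∃ a ∈ F, ∃ y : 𝟙_ (Over (Spec (CommRingCat.of k))) ⟶ H, g = a * (y ≫ h)) :
    (∃ m : ℕ, Set.range i.left.base =
      {g : G.left | ∃ (T : Over (Spec (CommRingCat.of k))) (p : T.left) (x : Fin m → (T ⟶ X)) (ε : Fin m → Bool),
        ((List.ofFn fun j : Fin m => if ε j then x j ≫ f else (x j ≫ f)⁻¹).prod : T ⟶ G).left.base p = g}) ∧
    ∃ F : Finset (𝟙_ (Over (Spec (CommRingCat.of k))) ⟶ G), Set.range i.left.base =
      ⋃ a ∈ F, (fun z => ((λ_ G).inv ≫ (a ▷ G) ≫ μ[G]).left.base z) '' Set.range h.left.base := by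
  classical
  let K := Over (Spec (CommRingCat.of k))
  haveI : IsSeparated (𝟙 (Spec (CommRingCat.of k))) := inferInstance
  -- the unit lifts to a rational point of `X`
  obtain ⟨x₀, hx₀⟩ : ∃ x₀ : 𝟙_ K ⟶ X, x₀ ≫ f = 1 := by
    obtain ⟨x, hx⟩ := hH ⟨(1 : 𝟙_ K ⟶ H).left.base (IsLocalRing.closedPoint k), rfl⟩
    refine GenSub.exists_lift_rational f 1 (IsLocalRing.closedPoint k) x ?_
    rw [hx, ← MonObj.one_comp h]
    rfl
  -- padding of words
  have pad : ∀ (l : List Bool) (j : ℕ), Set.range (GenSub.word f l).left.base ⊆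
      Set.range (GenSub.word f (l ++ List.replicate j true)).left.base := by
    intro l j
    obtain ⟨s, hs⟩ := GenSub.exists_eq_word f true
    induction j with
    | zero =>
      rw [List.replicate_zero, List.append_nil]
    | succ j ih =>
      refine ih.trans ?_
      obtain ⟨m, hm⟩ := GenSub.exists_word_append f (l ++ List.replicate j true) [true]
      rw [List.replicate_succ', ← List.append_assoc]
      have e : (lift (𝟙 _) (toUnit (GenSub.Word X (l ++ List.replicate j true)) ≫ x₀ ≫ s) ≫ m) ≫
          GenSub.word f (l ++ List.replicate j true ++ [true]) = GenSub.word f (l ++ List.replicate j true) := by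
        have hl : GenSub.letter f true = f := rfl
        rw [Category.assoc, hm, MonObj.comp_mul, lift_fst_assoc, lift_snd_assoc, Category.id_comp,
          Category.assoc, Category.assoc, hs, hl, hx₀, MonObj.comp_one, _root_.mul_one]
      rw [← e]
      rintro _ ⟨w, rfl⟩
      exact ⟨_, rfl⟩
  obtain ⟨-, -, hr, hv⟩ := GenSub.smallest_props f i hf hmin
  obtain ⟨F, hF, hcov⟩ := hfin
  let t : (𝟙_ K ⟶ G) → (G ⟶ G) := fun a => (λ_ G).inv ≫ (a ▷ G) ≫ μ[G]
  have ht : ∀ (a : 𝟙_ K ⟶ G) {T : K} (y : T ⟶ G), y ≫ t a = (toUnit T ≫ a) * y := by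
    intro a T y
    rw [Hom.mul_def]
    simp only [t, ← Category.assoc]
    congr 1
    ext <;> simp
  let U : Set G.left := ⋃ a ∈ F, (t a).left.base '' Set.range h.left.base
  have htcl : ∀ a ∈ F, IsClosed ((t a).left.base '' Set.range h.left.base) := by
    intro a _
    have hinv : ∀ b c : 𝟙_ K ⟶ G, b * c = 1 → t c ≫ t b = 𝟙 G := by
      intro b c hbc
      have h1 := ht b (t c)
      have h2 := ht c (𝟙 G)
      rw [Category.id_comp] at h2
      rw [h1, h2, ← _root_.mul_assoc, ← MonObj.comp_mul, hbc, MonObj.comp_one, _root_.one_mul]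
    let e : G ≅ G := ⟨t a, t a⁻¹, hinv _ _ (inv_mul_cancel a), hinv _ _ (mul_inv_cancel a)⟩
    haveI : IsIso (t a).left := ((Over.forget _).mapIso e).isIso_hom
    exact (t a).left.homeomorph.isClosedMap _ h.left.isClosedEmbedding.isClosed_range
  have hUcl : IsClosed U := F.finite_toSet.isClosed_biUnion htcl
  have hW : ∀ l, LocallyOfFiniteType (GenSub.Word X l).hom := by
    intro l
    induction l with
    | nil => exact inferInstanceAs (LocallyOfFiniteType (𝟙 (Spec (CommRingCat.of k))))
    | cons b l ih =>
      haveI := ih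
      show LocallyOfFiniteType (Limits.pullback.fst X.hom (GenSub.Word X l).hom ≫ X.hom)
      haveI : LocallyOfFiniteType (Limits.pullback.fst X.hom (GenSub.Word X l).hom) :=
        MorphismProperty.pullback_fst _ _ inferInstance
      infer_instance
  -- every word lands in the translates
  have hsub : ∀ l, Set.range (GenSub.word f l).left.base ⊆ U := by
    intro l
    haveI := hW l
    haveI : JacobsonSpace ↥(GenSub.Word X l).left := LocallyOfFiniteType.jacobsonSpace (GenSub.Word X l).hom
    by_contra hne
    obtain ⟨_, ⟨w, rfl⟩, hw⟩ := Set.not_subset.1 hne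
    obtain ⟨q, hq, hqc⟩ := nonempty_inter_closedPoints (Z := (GenSub.word f l).left.base ⁻¹' Uᶜ)
      ⟨w, hw⟩ (hUcl.isOpen_compl.preimage (GenSub.word f l).left.continuous).isLocallyClosed
    let z : 𝟙_ K ⟶ GenSub.Word X l :=
      Over.homMk (pointOfClosedPoint (GenSub.Word X l).hom q hqc) (pointOfClosedPoint_comp _ q hqc)
    have hz : z.left.base (IsLocalRing.closedPoint k) = q := pointOfClosedPoint_apply _ q hqc _
    obtain ⟨x, hx⟩ := GenSub.exists_projections f l
    obtain ⟨a, ha, y, hy⟩ := hcov (z ≫ GenSub.word f l) ⟨l.length, _, q, IsLocalRing.closedPoint k, x, l.get, by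
      show (GenSub.tupleProd f x l.get).left.base q = _
      rw [hx, ← hz]
      rfl⟩
    refine hq (Set.mem_iUnion₂.2 ⟨a, ha, h.left.base (y.left.base (IsLocalRing.closedPoint k)), ⟨_, rfl⟩, ?_⟩)
    have e : (y ≫ h) ≫ t a = z ≫ GenSub.word f l := by
      rw [ht, hy, toUnit_unique (toUnit (𝟙_ K)) (𝟙 _), Category.id_comp]
    rw [← hz]
    exact congr($(e).left.base (IsLocalRing.closedPoint k))
  have hsub' : Set.range i.left.base ⊆ U := by
    rw [hr]
    exact closure_minimal (Set.iUnion_subset fun l => hsub l.down) hUcl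
  -- every translate lands in words of bounded length
  have hlen : ∀ a ∈ F, ∃ l : List Bool, (t a).left.base '' Set.range h.left.base ⊆
      Set.range (GenSub.word f l).left.base := by
    intro a ha
    obtain ⟨n, T, p, p₀, x, ε, hp⟩ := hF a ha
    obtain ⟨z₀, hz₀⟩ := GenSub.exists_tuple f x ε
    haveI := hW (List.ofFn ε)
    obtain ⟨z, rfl⟩ := GenSub.exists_lift_rational (GenSub.word f (List.ofFn ε)) a p₀ (z₀.left.base p) (by
      rw [← hp]; exact congr($(hz₀).left.base p))
    obtain ⟨m, hm⟩ := GenSub.exists_word_append f (List.ofFn ε) [true]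
    obtain ⟨s, hs⟩ := GenSub.exists_eq_word f true
    refine ⟨List.ofFn ε ++ [true], (Set.image_mono hH).trans ?_⟩
    have hl : GenSub.letter f true = f := rfl
    have e : (lift (toUnit X ≫ z) s ≫ m) ≫ GenSub.word f (List.ofFn ε ++ [true]) =
        f ≫ t (z ≫ GenSub.word f (List.ofFn ε)) := by
      rw [Category.assoc, hm, ht, MonObj.comp_mul, lift_fst_assoc, lift_snd_assoc, hs, hl, Category.assoc]
    rintro _ ⟨_, ⟨w, rfl⟩, rfl⟩
    exact ⟨_, congr($(e).left.base w)⟩
  choose! L hL using hlen
  let m := F.sup fun a => (L a).length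
  have hlem : ∀ a ∈ F, (t a).left.base '' Set.range h.left.base ⊆
      ⋃ l ∈ {l : List Bool | l.length = m}, Set.range (GenSub.word f l).left.base := by
    intro a ha y hy
    refine Set.mem_iUnion₂.2 ⟨L a ++ List.replicate (m - (L a).length) true, ?_, pad _ _ (hL a ha hy)⟩
    have := Finset.le_sup (f := fun a => (L a).length) ha
    simp only [Set.mem_ofPred_eq, List.length_append, List.length_replicate]
    omega
  have hwords : ∀ l, Set.range (GenSub.word f l).left.base ⊆ Set.range i.left.base := fun l => by
    rw [hr]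
    exact (Set.subset_iUnion (fun l : ULift (List Bool) => Set.range (GenSub.word f l.down).left.base) ⟨l⟩).trans
      subset_closure
  refine ⟨⟨m, ?_⟩, F, Set.Subset.antisymm hsub' (Set.iUnion₂_subset fun a ha =>
    (hlem a ha).trans (Set.iUnion₂_subset fun l _ => hwords l))⟩
  refine Eq.trans ?_ (GenSub.lengthSet_eq f m).symm
  exact Set.Subset.antisymm (hsub'.trans (Set.iUnion₂_subset hlem)) (Set.iUnion₂_subset fun l _ => hwords l)

end Groth.Agent.S6077
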