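import Groth.Statements.S6082
import Mathlib
import Groth.Agent.S3021
import Groth.Agent.CosubLib.Sat


-- import your own Groth.Agent.* helpers here

set_option autoImplicit false
universe u
open TensorProduct
open SGA3

namespace Groth.Agent.S6082

/-- Let R be a Noetherian regular ring of Krull dimension at most 2, C a (coassociative, counital)
R-coalgebra which is projective as an R-module, and F a right C-comodule which is finitely generated
as an R-module. Then F is a quotient of a C-comodule which is finitely generated and projective as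
an R-module: there are such a comodule V and a surjective R-linear map V → F compatible with the
coactions. -/
theorem result (R : Type u) [CommRing R] [IsRegularRing R]
    (hdim : ringKrullDim R ≤ 2) (C : Type u) [AddCommGroup C] [Module R C] [Coalgebra R C] [Module.Projective R C]
    (F : Type u) [AddCommGroup F] [Module R F] [HopfRep.Comod R C F] [Module.Finite R F] :
    ∃ (V : Type u) (_ : AddCommGroup V) (_ : Module R V) (_ : HopfRep.Comod R C V) (φ : V →ₗ[R] F),
      Module.Finite R V ∧ Module.Projective R V ∧ Function.Surjective φ ∧ HopfRep.Comod.coact (k := R) (A := C) ∘ₗ φ = φ.rTensor C ∘ₗ HopfRep.Comod.coact (k := R) (A := C) (V := V) := by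
  classical
  obtain ⟨n, h1⟩ := CosubLib.exists_cover (R := R) (C := C) F
  letI instX := CosubLib.cofree (R := R) (C := C) (Fin n → R)
  obtain ⟨W, M, φ, hW, hMfg, hMW, hMφ, hhom, -⟩ := h1
  obtain ⟨V1, hV1, hMV1, hV1min, hV1fg⟩ := Groth.Agent.S3021.result R C ((Fin n → R) ⊗[R] C) M
  have hV1W : V1 ≤ W := hV1min W hW hMW
  haveI : Module.Finite R V1 := Module.Finite.iff_fg.2 (hV1fg hMfg)
  obtain ⟨instV1, hc1⟩ := CosubLib.exists_subComod hV1
  letI := instV1
  have htfX : ∀ a ∈ nonZeroDivisors R, IsSMulRegular ((Fin n → R) ⊗[R] C) a := fun a ha =>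
    Module.Flat.isSMulRegular_of_nonZeroDivisors (R := R) (M := (Fin n → R) ⊗[R] C) ha
  obtain ⟨m, h2⟩ := CosubLib.exists_cover (R := R) (C := C) V1
  letI instX' := CosubLib.cofree (R := R) (C := C) (Fin m → R)
  obtain ⟨W', M', φ', hW', hM'fg, hM'W', hM'φ', hhom', hsat'⟩ := h2
  have hW'sat := hsat' fun a ha u v huv => Subtype.ext (htfX a ha (congrArg Subtype.val huv))
  obtain ⟨V2, hV2, hM'V2, hV2min, hV2fg⟩ := Groth.Agent.S3021.result R C ((Fin m → R) ⊗[R] C) M'
  have hV2W' : V2 ≤ W' := hV2min W' hW' hM'W'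
  let V : Submodule R ((Fin m → R) ⊗[R] C) :=
    { carrier := {x | ∃ a ∈ nonZeroDivisors R, a • x ∈ V2}
      zero_mem' := ⟨1, one_mem _, by simp⟩
      add_mem' := by
        rintro x y ⟨a, ha, hx⟩ ⟨b, hb, hy⟩
        refine ⟨a * b, mul_mem ha hb, ?_⟩
        rw [smul_add]
        refine add_mem ?_ ?_
        · rw [mul_comm, mul_smul]; exact V2.smul_mem b hx
        · rw [mul_smul]; exact V2.smul_mem a hy
      smul_mem' := by
        rintro c x ⟨a, ha, hx⟩
        exact ⟨a, ha, by rw [smul_comm]; exact V2.smul_mem c hx⟩ }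
  have hV2V : V2 ≤ V := fun x hx => ⟨1, one_mem _, by rwa [one_smul]⟩
  have hVW' : V ≤ W' := fun x ⟨a, ha, hx⟩ => hW'sat a ha x (hV2W' hx)
  have hVsub : HopfRep.IsSubcomod (k := R) (A := C) V := fun x hx => by
    obtain ⟨a, ha, hax⟩ := hx
    have hker : LinearMap.ker V.mkQ = V := V.ker_mkQ
    suffices h : HopfRep.Comod.coact (k := R) (A := C) x ∈ LinearMap.range ((LinearMap.ker V.mkQ).subtype.rTensor C) by
      rwa [hker] at h
    refine CosubLib.mem_range_rTensor_ker V.mkQ _ ?_
    obtain ⟨z, hz⟩ := hV2 _ hax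
    have hcomp : V.mkQ ∘ₗ V2.subtype = 0 := LinearMap.ext fun y => (Submodule.Quotient.mk_eq_zero V).2 (hV2V y.2)
    have h0 : a • V.mkQ.rTensor C (HopfRep.Comod.coact (k := R) (A := C) x) = 0 := by
      rw [← map_smul, ← map_smul, ← hz, ← LinearMap.rTensor_comp_apply, hcomp, LinearMap.rTensor_zero, LinearMap.zero_apply]
    have hq : Function.Injective ((a • (LinearMap.id : (((Fin m → R) ⊗[R] C) ⧸ V) →ₗ[R] _)).rTensor C) := by
      refine Module.Flat.rTensor_preserves_injective_linearMap _ ((injective_iff_map_eq_zero _).2 fun y hy => ?_)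
      obtain ⟨y, rfl⟩ := V.mkQ_surjective y
      obtain ⟨b, hb, hby⟩ : a • y ∈ V := (Submodule.Quotient.mk_eq_zero V).1 hy
      refine (Submodule.Quotient.mk_eq_zero V).2 ⟨b * a, mul_mem hb ha, ?_⟩
      rwa [mul_smul]
    refine hq ?_
    rw [map_zero, LinearMap.rTensor_smul, LinearMap.smul_apply, LinearMap.rTensor_id, LinearMap.id_apply, h0]
  obtain ⟨instV, hc⟩ := CosubLib.exists_subComod hVsub
  obtain ⟨hfin, hproj⟩ := CosubLib.saturation_projective hdim V2 V (hV2fg hM'fg) fun x => Iff.rfl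
  refine ⟨V, inferInstance, inferInstance, instV, φ ∘ₗ V1.subtype ∘ₗ φ' ∘ₗ V.subtype, hfin, hproj, ?_, ?_⟩
  · intro v
    obtain ⟨x, hx, rfl⟩ := (hMφ ▸ Submodule.mem_top : v ∈ Submodule.map φ M)
    obtain ⟨y, hy, hyx⟩ := (hM'φ' ▸ Submodule.mem_top : (⟨x, hMV1 hx⟩ : V1) ∈ Submodule.map φ' M')
    exact ⟨⟨y, hV2V (hM'V2 hy)⟩, by simp [hyx]⟩
  · refine LinearMap.ext fun v => ?_
    have e1 := hhom _ (hV1W (φ' v.1).2)
    have e2 := hhom' _ (hVW' v.2)
    have e3 := LinearMap.congr_fun hc1 (φ' v.1)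
    have e4 := LinearMap.congr_fun hc v
    simp only [LinearMap.comp_apply, Submodule.coe_subtype] at e1 e2 e3 e4 ⊢
    rw [e1, ← e3, e2, ← e4, LinearMap.rTensor_comp_apply, LinearMap.rTensor_comp_apply, LinearMap.rTensor_comp_apply]

end Groth.Agent.S6082
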