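import Groth.Statements.S6083
import Mathlib
import Groth.Agent.UOpenLib.AffineSpaceOpen

set_option autoImplicit false
universe u
open CategoryTheory CategoryTheory.Limits MonoidalCategory CartesianMonoidalCategory MonObj GrpObj AlgebraicGeometry
open SGA3

namespace Groth.Agent.S6083

/-- Let f : X → S be a morphism locally of finite presentation, s a point of S, x a point of the fibre
X_s = f⁻¹(s), n the local dimension of X_s at x, q : 𝔸^n_S → S the affine n-space over S and u : X →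
𝔸^n_S a locally quasi-finite morphism with u q = f. Suppose that f is universally open at the
generic point z of an irreducible component Z of X_s which contains x and has dimension n. Then u is
universally open at x. -/
theorem result (X S : Scheme.{u}) (f : X ⟶ S) [LocallyOfFinitePresentation f]
    (s : S) (x : X) (hxs : f.base x = s) (n : ℕ)
    (u : X ⟶ 𝔸(ULift.{u} (Fin n); S)) [LocallyQuasiFinite u] (hu : u ≫ (𝔸(ULift.{u} (Fin n); S) ↘ S) = f)
    (Z : Set ↥(f.base ⁻¹' {s})) (hZ : Z ∈ irreducibleComponents ↥(f.base ⁻¹' {s})) (hxZ : x ∈ (Subtype.val '' Z))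
    (z : X) (hz : z ∈ Subtype.val '' Z ∧ Subtype.val '' Z ⊆ closure {z}) (hopen : EGA43.IsUnivOpenAt f z)
    (hdimZ : topologicalKrullDim ↥Z = n) (hdimx : FlatMor.localDim ↥(f.base ⁻¹' {s}) ⟨x, hxs⟩ = n) :
    EGA43.IsUnivOpenAt u x := by
  obtain ⟨⟨⟨z', hzs⟩, hzZ, rfl⟩, hzcl⟩ := hz
  subst hxs
  simp only [Set.mem_preimage, Set.mem_singleton_iff] at hzs
  have hzx : z' ⤳ x := specializes_iff_mem_closure.mpr (hzcl hxZ)
  have himg : closure {z'} ∩ f.base ⁻¹' {f.base x} = Subtype.val '' Z := by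
    refine Set.Subset.antisymm (fun a ha ↦ ?_) (Set.subset_inter hzcl (Subtype.coe_image_subset _ _))
    have h : (⟨z', hzs⟩ : ↥(f.base ⁻¹' {f.base x})) ⤳ ⟨a, ha.2⟩ :=
      Topology.IsInducing.subtypeVal.specializes_iff.mp (specializes_iff_mem_closure.mpr ha.1)
    exact ⟨⟨a, ha.2⟩, (isClosed_of_mem_irreducibleComponents _ hZ).closure_subset_iff.mpr
      (Set.singleton_subset_iff.mpr hzZ) h.mem_closure, rfl⟩
  have hd : UOpenLib.fibreClosureDim f z' = n := by
    let eH := (Topology.IsEmbedding.subtypeVal.homeomorphImage Z).trans (Homeomorph.setCongr himg.symm)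
    rw [UOpenLib.fibreClosureDim_eq_inter, hzs, ← hdimZ,
      IsHomeomorph.topologicalKrullDim_eq eH eH.isHomeomorph]
  obtain ⟨_, ⟨V, hV, rfl⟩, hxV, -⟩ :=
    S.isBasis_affineOpens.exists_subset_of_mem_open (Set.mem_univ (f.base x)) isOpen_univ
  have hV : IsAffineOpen V := hV
  obtain ⟨_, ⟨U, hU, rfl⟩, hxU, eUV⟩ :=
    X.isBasis_affineOpens.exists_subset_of_mem_open hxV (f ⁻¹ᵁ V).isOpen
  have hU : IsAffineOpen U := hU
  have eUV : U ≤ f ⁻¹ᵁ V := eUV
  let R := Γ(S, V)
  let r := (MvPolynomial.renameEquiv R (Equiv.ulift : ULift.{u} (Fin n) ≃ Fin n)).toRingEquiv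
  let jF : Spec (CommRingCat.of (MvPolynomial (Fin n) R)) ⟶ 𝔸(ULift.{u} (Fin n); S) :=
    Spec.map r.toCommRingCatIso.hom ≫ (AffineSpace.SpecIso (ULift.{u} (Fin n)) R).inv ≫
      AffineSpace.map _ hV.fromSpec
  have : IsOpenImmersion (AffineSpace.map (ULift.{u} (Fin n)) hV.fromSpec) :=
    MorphismProperty.of_isPullback (AffineSpace.isPullback_map (n := ULift.{u} (Fin n)) hV.fromSpec).flip
      inferInstance
  have hjF : jF ≫ (𝔸(ULift.{u} (Fin n); S) ↘ S) = UOpenLib.polyProj R n ≫ hV.fromSpec := by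
    simp only [jF, Category.assoc, AffineSpace.map_over]
    rw [AffineSpace.SpecIso_inv_over_assoc, ← Spec.map_comp_assoc]
    congr 2
    refine CommRingCat.hom_ext (RingHom.ext fun a ↦ ?_)
    exact MvPolynomial.rename_C _ a
  have hrange : Set.range (hU.fromSpec ≫ u).base ⊆ Set.range jF.base := by
    rintro _ ⟨c, rfl⟩
    have hc : f.base (hU.fromSpec.base c) ∈ V := eUV (by
      have h := Set.mem_range_self (f := hU.fromSpec.base) c
      rwa [hU.range_fromSpec] at h)
    rw [← SetLike.mem_coe, ← hV.range_fromSpec] at hc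
    obtain ⟨b, hb⟩ := hc
    obtain ⟨a, ha, -⟩ := UOpenLib.image_fst_snd
      (AffineSpace.isPullback_map (n := ULift.{u} (Fin n)) hV.fromSpec).flip.flip
      (u.base (hU.fromSpec.base c)) b (by
        rw [← Scheme.Hom.comp_apply, hu]; exact hb.symm)
    obtain ⟨a', ha'⟩ : a ∈ Set.range (Spec.map r.toCommRingCatIso.hom ≫
        (AffineSpace.SpecIso (ULift.{u} (Fin n)) R).inv).base :=
      (Scheme.Hom.homeomorph (Spec.map r.toCommRingCatIso.hom ≫
        (AffineSpace.SpecIso (ULift.{u} (Fin n)) R).inv)).surjective a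
    refine ⟨a', ?_⟩
    rw [Scheme.Hom.comp_apply hU.fromSpec u, ← ha, ← ha', ← Scheme.Hom.comp_apply]
    simp only [jF, Category.assoc]
  let l := IsOpenImmersion.lift jF (hU.fromSpec ≫ u) hrange
  have hl : l ≫ jF = hU.fromSpec ≫ u := IsOpenImmersion.lift_fac _ _ _
  obtain ⟨φ, hφl⟩ := Spec.map_surjective l
  have hφ : φ.hom.comp MvPolynomial.C = (f.appLE V U eUV).hom := by
    have h1 : (Spec.map φ ≫ UOpenLib.polyProj R n) ≫ hV.fromSpec =
        Spec.map (f.appLE V U eUV) ≫ hV.fromSpec := by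
      rw [IsAffineOpen.SpecMap_appLE_fromSpec f hV hU eUV, Category.assoc, ← hjF, hφl, reassoc_of% hl, hu]
    rw [cancel_mono, ← Spec.map_comp] at h1
    exact congrArg CommRingCat.Hom.hom (Spec.map_injective h1)
  have hqf : φ.hom.QuasiFinite := by
    have : LocallyQuasiFinite (l ≫ jF) := hl.symm ▸ inferInstance
    have : LocallyQuasiFinite l := .of_comp l jF
    rw [← hφl] at this
    exact HasRingHomProperty.Spec_iff.mp this
  have hfp : (φ.hom.comp MvPolynomial.C).FinitePresentation := by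
    rw [hφ]
    exact HasRingHomProperty.appLE @LocallyOfFinitePresentation f inferInstance ⟨V, hV⟩ ⟨U, hU⟩ eUV
  have hzU : z' ∈ U := hzx.mem_open U.isOpen hxU
  let qx := hU.primeIdealOf ⟨x, hxU⟩
  let qz := hU.primeIdealOf ⟨z', hzU⟩
  have hqz : (hU.fromSpec).base qz = z' := hU.fromSpec_primeIdealOf ⟨z', hzU⟩
  have hgen := UOpenLib.comap_eq_of_le_fibreClosureDim f hV hU eUV φ.hom hφ hqf hzU hd.ge
  let gR := Spec.map φ ≫ UOpenLib.polyProj R n
  have hgR : gR ≫ hV.fromSpec = hU.fromSpec ≫ f := by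
    simp only [gR]
    rw [Category.assoc, ← hjF, hφl, reassoc_of% hl, hu]
  have h1 : EGA43.IsUnivOpenAt (hU.fromSpec ≫ f) qz :=
    UOpenLib.IsUnivOpenAt.comp (UOpenLib.isUnivOpenAt_of_universallyOpen' _ _) (hqz.symm ▸ hopen)
  have sq : IsPullback (𝟙 _) gR (hU.fromSpec ≫ f) hV.fromSpec := by
    refine ⟨⟨by rw [Category.id_comp, hgR]⟩, ⟨PullbackCone.IsLimit.mk _ (fun s ↦ s.fst)
      (fun s ↦ Category.comp_id _) (fun s ↦ ?_) fun s m h1 _ ↦ (Category.comp_id m).symm.trans h1⟩⟩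
    refine (cancel_mono hV.fromSpec).mp ?_
    exact ((Category.assoc s.fst gR hV.fromSpec).trans (congrArg (fun m ↦ s.fst ≫ m) hgR)).trans
      s.condition
  have h2 : EGA43.IsUnivOpenAt gR qz := UOpenLib.IsUnivOpenAt.of_isPullback h1 sq qz rfl
  have h3 := UOpenLib.isUnivOpenAt_polyChart φ.hom hfp hqf qx qz
    ((UOpenLib.primeIdealOf_le_iff hU hzU hxU).mpr hzx) _
    (UOpenLib.comap_primeIdealOf f hV hU eUV φ.hom hφ x hxU)
    (by rw [hgen]; congr 3; exact Subtype.ext hzs) h2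
  have h4 : EGA43.IsUnivOpenAt (Spec.map φ ≫ jF) qx :=
    UOpenLib.IsUnivOpenAt.comp h3 (UOpenLib.isUnivOpenAt_of_universallyOpen' _ _)
  rw [hφl, hl] at h4
  have h5 := UOpenLib.IsUnivOpenAt.of_comp h4
  rwa [show hU.fromSpec.base qx = x from hU.fromSpec_primeIdealOf ⟨x, hxU⟩] at h5

end Groth.Agent.S6083
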