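import Groth.Statements.S6084
import Groth.Agent.AntiAffLib.Smooth
import Groth.Agent.S4091
-- import your own Groth.Agent.* helpers here

set_option autoImplicit false
set_option backward.isDefEq.respectTransparency false
set_option linter.style.haveILetI false
universe u
open CategoryTheory CategoryTheory.Limits MonoidalCategory CartesianMonoidalCategory MonObj GrpObj AlgebraicGeometry
open SGA3

namespace Groth.Agent.S6084

/-- Let k be a perfect field, G a group scheme locally of finite type over k and u : F → G a
homomorphism of k-group schemes which is a closed immersion and surjective on underlying spaces,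
with F reduced (so F is G_red with its group structure). Let p : G → X be a k-morphism which is
flat, surjective and locally of finite presentation and makes the square formed by (f, g) ↦ u(f) ·
g, the second projection F ×_k G → G and p (twice) cartesian (X is the quotient of G by F acting by
left translations). Then X is the spectrum of a finite local k-algebra with residue field k: X is
affine, its underlying space is a single point at which the structure morphism induces an
isomorphism of residue fields, and the ring of global sections of X is finite over k. -/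
theorem result (k : Type u) [Field k] [PerfectField k]
    (F G : Over (Spec (CommRingCat.of k))) [GrpObj F] [GrpObj G] [LocallyOfFiniteType G.hom] [IsReduced F.left]
    (u : F ⟶ G) [IsMonHom u] [IsClosedImmersion u.left] [Surjective u.left]
    (X : Over (Spec (CommRingCat.of k))) (p : G ⟶ X) [Flat p.left] [Surjective p.left] [LocallyOfFinitePresentation p.left]
    (hp : IsPullback ((u ▷ G) ≫ μ[G]) (snd F G) p p) :
    IsAffine X.left ∧ (∃ x : X.left, (Set.univ : Set X.left) = {x} ∧ IsIso (X.hom.residueFieldMap x)) ∧
      ((Scheme.ΓSpecIso (CommRingCat.of k)).inv ≫ X.hom.appTop).hom.Finite := by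
  haveI hsub : Subsingleton X.left := by
    have key : ∀ g : G.left, p.left g = (η[G] ≫ p).left (IsLocalRing.closedPoint k) := fun g => by
      let T : Over (Spec (CommRingCat.of k)) := Over.mk (G.left.fromSpecResidueField g ≫ G.hom)
      let t : T ⟶ G := Over.homMk (G.left.fromSpecResidueField g) rfl
      haveI : IsReduced T.left := inferInstanceAs (IsReduced (Spec (G.left.residueField g)))
      haveI : IsClosedImmersion (pullback.fst t⁻¹.left u.left) :=
        MorphismProperty.pullback_fst _ _ inferInstance
      haveI : Surjective (pullback.fst t⁻¹.left u.left) := MorphismProperty.pullback_fst _ _ inferInstance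
      haveI := isIso_of_isClosedImmersion_of_surjective (pullback.fst t⁻¹.left u.left)
      let l₀ : T.left ⟶ F.left := inv (pullback.fst t⁻¹.left u.left) ≫ pullback.snd _ _
      have hl₀ : l₀ ≫ u.left = t⁻¹.left := by
        simp only [l₀]
        rw [Category.assoc, ← pullback.condition, IsIso.inv_hom_id_assoc]
      let l : T ⟶ F := Over.homMk l₀ (by rw [← Over.w u, ← Category.assoc, hl₀]; exact Over.w _)
      have hl : l ≫ u = t⁻¹ := Over.OverMorphism.ext hl₀
      have h := congrArg (lift l t ≫ ·) hp.w
      rw [← Category.assoc, ← Category.assoc, ← Category.assoc, lift_whiskerRight, lift_snd, hl] at h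
      rw [show lift t⁻¹ t ≫ μ[G] = toUnit T ≫ η[G] by
        rw [← Hom.mul_def, inv_mul_cancel, Hom.one_def], Category.assoc] at h
      let o : T.left := IsLocalRing.closedPoint (G.left.residueField g)
      have ho := congr($(congrArg CommaMorphism.left h) o)
      simp only [Over.comp_left, Scheme.Hom.comp_apply] at ho
      rw [show t.left o = g from G.left.fromSpecResidueField_apply g o,
        show (toUnit T).left o = IsLocalRing.closedPoint k from @Subsingleton.elim (PrimeSpectrum k) _ _ _] at ho
      simpa only [Over.comp_left, Scheme.Hom.comp_apply] using ho.symm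
    refine ⟨fun a b => ?_⟩
    obtain ⟨g, rfl⟩ := p.left.surjective a
    obtain ⟨g', rfl⟩ := p.left.surjective b
    rw [key, key]
  let x₀ : X.left := (η[G] ≫ p).left (IsLocalRing.closedPoint k)
  haveI : Nonempty X.left := ⟨x₀⟩
  haveI hX : IsAffine X.left := AntiAffLib.isAffine_of_subsingleton _
  obtain ⟨V, hV, hxV, -⟩ := exists_isAffineOpen_mem_and_subset (X := G.left)
    (x := η[G].left (IsLocalRing.closedPoint k)) (U := ⊤) trivial
  haveI : IsAffine V.toScheme := hV
  haveI : Nonempty V.toScheme := ⟨⟨_, hxV⟩⟩
  haveI : Surjective (V.ι ≫ p.left) := ⟨fun a => ⟨Classical.arbitrary _, Subsingleton.elim _ _⟩⟩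
  haveI : IsAffineHom (V.ι ≫ p.left) := inferInstance
  haveI : LocallyOfFiniteType ((V.ι ≫ p.left) ≫ X.hom) := by rw [Category.assoc, Over.w p]; infer_instance
  haveI : QuasiCompact ((V.ι ≫ p.left) ≫ X.hom) := by
    haveI : CompactSpace V.toScheme := inferInstance
    exact quasiCompact_of_compactSpace _
  obtain ⟨hlft, -⟩ := (Groth.Agent.S4091.result (V.ι ≫ p.left) X.hom).1 ⟨inferInstance, inferInstance⟩
  refine ⟨hX, ⟨x₀, Set.eq_singleton_iff_unique_mem.2 ⟨trivial, fun a _ => Subsingleton.elim _ _⟩, ?_⟩, ?_⟩
  · let pt₀ : ↥(Spec (CommRingCat.of k)) := IsLocalRing.closedPoint k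
    let s : Spec (CommRingCat.of k) ⟶ X.left := (η[G] ≫ p).left
    have hs : s ≫ X.hom = 𝟙 _ := Over.w (η[G] ≫ p)
    have hiso : IsIso ((s ≫ X.hom).residueFieldMap pt₀) := by
      haveI : IsIso (s ≫ X.hom) := by rw [hs]; infer_instance
      infer_instance
    rw [Scheme.residueFieldMap_comp] at hiso
    have hb := (ConcreteCategory.isIso_iff_bijective _).1 hiso
    have hinj : Function.Injective (s.residueFieldMap pt₀).hom := RingHom.injective _
    show IsIso (X.hom.residueFieldMap (s pt₀))
    refine (ConcreteCategory.isIso_iff_bijective _).2 ⟨RingHom.injective _, fun y => ?_⟩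
    obtain ⟨z, hz⟩ := hb.2 ((s.residueFieldMap pt₀).hom y)
    exact ⟨z, hinj hz⟩
  · have hft : ((Scheme.ΓSpecIso (CommRingCat.of k)).inv ≫ X.hom.appTop).hom.FiniteType := by
      have h1 : X.hom.appTop.hom.FiniteType := (HasRingHomProperty.iff_of_isAffine (P := @LocallyOfFiniteType)).1 hlft
      exact h1.comp (RingHom.FiniteType.of_surjective _
        ((ConcreteCategory.bijective_of_isIso (Scheme.ΓSpecIso (CommRingCat.of k)).inv).2))
    letI := ((Scheme.ΓSpecIso (CommRingCat.of k)).inv ≫ X.hom.appTop).hom.toAlgebra
    haveI : Algebra.FiniteType k Γ(X.left, ⊤) := hft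
    haveI : Subsingleton (PrimeSpectrum Γ(X.left, ⊤)) :=
      X.left.isoSpec.inv.homeomorph.injective.subsingleton
    haveI : Ring.KrullDimLE 0 Γ(X.left, ⊤) := Ring.krullDimLE_zero_iff.2 fun P hP => by
      obtain ⟨M, hM, hPM⟩ := Ideal.exists_le_maximal P hP.ne_top
      have e : (⟨P, hP⟩ : PrimeSpectrum Γ(X.left, ⊤)) = ⟨M, hM.isPrime⟩ := Subsingleton.elim _ _
      rw [show P = M from congrArg PrimeSpectrum.asIdeal e]
      exact hM
    exact (Module.finite_iff_krullDimLE_zero (R := k) (A := Γ(X.left, ⊤))).2 inferInstance
end Groth.Agent.S6084
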