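import Groth.Statements.S6089
import Groth.Agent.S5328
import Groth.Agent.S5336
import Groth.Agent.NeutralSchLib.Artin
import Groth.Agent.FlatLib.FibreFlatScheme
import Groth.Agent.GrpdFieldLib.ClosedSub

set_option autoImplicit false
set_option backward.isDefEq.respectTransparency false
set_option backward.isDefEq.respectTransparency.types false
set_option maxHeartbeats 1000000
set_option synthInstance.maxHeartbeats 400000
universe u
open CategoryTheory CategoryTheory.Limits MonoidalCategory CartesianMonoidalCategory MonObj GrpObj AlgebraicGeometry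
open SGA3 CategoryTheory.Limits

attribute [-instance] CategoryTheory.Hom.commGroup
set_option backward.isDefEq.respectTransparency false
namespace Groth.Agent.S6089

/-- Let k be a perfect field and u : F → G a homomorphism of k-group schemes locally of finite type over
k. Let a : F' → F and b : G' → G be homomorphisms which are closed immersions, surjective on
underlying spaces, with F' and G' reduced (the subgroups F_red and G_red), let p : F → X and q : G →
Y be k-morphisms which are flat, surjective and locally of finite presentation and make the squares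
formed by (f', f) ↦ a(f') · f, the second projection, p, p (and likewise for b, q) cartesian (the
quotients of F and G by the left actions of F_red and G_red), and let v : X → Y satisfy p v = u q.
Then u is flat if and only if (ii) holds: the neutral component of G (the connected component of the
unit point) is contained in the closure of the image under u of the neutral component of F, and v is
flat. -/
theorem result (k : Type u) [Field k] [PerfectField k]
    (F G F' G' : Over (Spec (CommRingCat.of k))) [GrpObj F] [GrpObj G] [GrpObj F'] [GrpObj G']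
    [LocallyOfFiniteType F.hom] [LocallyOfFiniteType G.hom] (u : F ⟶ G) [IsMonHom u]
    [IsReduced F'.left] (a : F' ⟶ F) [IsMonHom a] [IsClosedImmersion a.left] [Surjective a.left]
    [IsReduced G'.left] (b : G' ⟶ G) [IsMonHom b] [IsClosedImmersion b.left] [Surjective b.left]
    (X Y : Over (Spec (CommRingCat.of k))) (p : F ⟶ X) [Flat p.left] [Surjective p.left] [LocallyOfFinitePresentation p.left]
    (hp : IsPullback ((a ▷ F) ≫ μ[F]) (snd F' F) p p)
    (q : G ⟶ Y) [Flat q.left] [Surjective q.left] [LocallyOfFinitePresentation q.left]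
    (hq : IsPullback ((b ▷ G) ≫ μ[G]) (snd G' G) q q)
    (v : X ⟶ Y) (hv : p ≫ v = u ≫ q) :
    Flat u.left ↔
      ((∀ p₀ : (𝟙_ (Over (Spec (CommRingCat.of k)))).left, connectedComponent ((η[G] : (𝟙_ (Over (Spec (CommRingCat.of k)))) ⟶ G).left.base p₀) ⊆
          closure (u.left.base '' connectedComponent ((η[F] : (𝟙_ (Over (Spec (CommRingCat.of k)))) ⟶ F).left.base p₀))) ∧
        Flat v.left) := by
  classical
  haveI : Subsingleton ↥(Spec (CommRingCat.of k)) := inferInstanceAs (Subsingleton (PrimeSpectrum k))
  let pt : ↥(Spec (CommRingCat.of k)) := (IsLocalRing.closedPoint k : PrimeSpectrum k)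
  haveI : Flat F.hom := Groth.Agent.GrpField.flat_field _
  haveI : Flat F'.hom := Groth.Agent.GrpField.flat_field _
  haveI : LocallyOfFinitePresentation F.hom := LocallyOfFinitePresentation.iff_locallyOfFiniteType.2 inferInstance
  haveI : LocallyOfFinitePresentation G.hom := LocallyOfFinitePresentation.iff_locallyOfFiniteType.2 inferInstance
  haveI : LocallyOfFiniteType F'.hom := by rw [← Over.w a]; infer_instance
  constructor
  · intro hu
    refine ⟨fun p₀ => ?_, ?_⟩
    · rw [Subsingleton.elim (α := ↥(Spec (CommRingCat.of k))) p₀ pt]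
      have h1 := NeutralSch.connectedComponent_eq_neutralSet (G := G) pt
      have h2 := NeutralSch.connectedComponent_eq_neutralSet (G := F) pt
      have h3 := (Groth.Agent.S5328.result _ F G u).1 hu
      calc connectedComponent ((η[G] : (𝟙_ (Over (Spec (CommRingCat.of k)))) ⟶ G).left.base pt)
          = SGA3x.neutralSet G := h1
        _ = u.left.base '' SGA3x.neutralSet F := h3.symm
        _ ⊆ closure (u.left.base '' SGA3x.neutralSet F) := subset_closure
        _ = _ := by rw [← h2]; rfl
    · haveI := hu
      haveI : Flat (p.left ≫ v.left) := by rw [← Over.comp_left, hv, Over.comp_left]; infer_instance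
      exact FlatLib.flat_of_flat_surjective_comp p.left v.left
  rintro ⟨hcl, hvf⟩
  haveI := hvf
  -- the homomorphism on reduced subgroups
  obtain ⟨l, hl⟩ := GrpdFieldLib.exists_lift_of_reduced b.left (a ≫ u).left (by
    rw [b.left.surjective.range_eq]; exact Set.subset_univ _)
  let u' : F' ⟶ G' := Over.homMk l (by rw [← Over.w b, ← Category.assoc, hl]; exact Over.w (a ≫ u))
  have hu' : u' ≫ b = a ≫ u := Over.OverMorphism.ext hl
  haveI : Mono b := DiagRep.mono_of_isClosedImmersion b inferInstance
  haveI : IsMonHom (u' ≫ b) := hu' ▸ inferInstance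
  haveI : IsMonHom u' := DiagRep.isMonHom_of_comp_mono u' b
  -- it is flat
  haveI : Flat u'.left := by
    obtain ⟨η', hη', -, hZG⟩ := GrpField.exists_Z0_gen G
    obtain ⟨ξ, hξ, -, hZF⟩ := GrpField.exists_Z0_gen F
    have hcG : connectedComponent (GrpField.unitPt G) = closure {η'} := GrpField.connectedComponent_unit.trans hZG
    have hcF : connectedComponent (GrpField.unitPt F) = closure {ξ} := GrpField.connectedComponent_unit.trans hZF
    have h0 := hcl pt
    rw [show connectedComponent ((η[G] : (𝟙_ (Over (Spec (CommRingCat.of k)))) ⟶ G).left.base pt) = closure {η'} from hcG,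
      show connectedComponent ((η[F] : (𝟙_ (Over (Spec (CommRingCat.of k)))) ⟶ F).left.base pt) = closure {ξ} from hcF] at h0
    have h1 : η' ∈ closure ({u.left ξ} : Set G.left) := by
      refine closure_minimal ?_ isClosed_closure (h0 (subset_closure rfl))
      refine (image_closure_subset_closure_image u.left.continuous).trans ?_
      rw [Set.image_singleton]
    have hy : u.left ξ = η' := hη' _ (specializes_iff_mem_closure.2 h1)
    obtain ⟨x, hx⟩ := a.left.surjective ξ
    have hmax : ∀ z : G'.left, z ⤳ u'.left x → z = u'.left x := by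
      intro z hz
      apply b.left.isClosedEmbedding.injective
      have e : b.left (u'.left x) = η' := by
        rw [← Scheme.Hom.comp_apply, ← Over.comp_left, hu', Over.comp_left, Scheme.Hom.comp_apply, hx, hy]
      rw [e]
      exact hη' _ (e ▸ hz.map b.left.continuous)
    have hF := isField_stalk_of_closure_mem_irreducibleComponents G'.left (u'.left x)
      (FibDimLib.closure_mem_irreducibleComponents_of_max hmax)
    refine Groth.Agent.S5336.result k F' G' u' ⟨x, ?_⟩
    letI := hF.toField
    letI : Algebra (G'.left.presheaf.stalk (u'.left x)) (F'.left.presheaf.stalk x) := (u'.left.stalkMap x).hom.toAlgebra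
    show Module.Flat (G'.left.presheaf.stalk (u'.left x)) (F'.left.presheaf.stalk x)
    infer_instance
  -- the comparison with the quotients
  have hfg : ∀ {A A' : Over (Spec (CommRingCat.of k))} (g : A ⟶ A') (C : Over (Spec (CommRingCat.of k))),
      Flat g.left → Flat (g ▷ C).left := fun g C hg =>
    MorphismProperty.of_isPullback (WeilRes.isPullback_whiskerRight C g).flip hg
  let P := Limits.pullback v q
  let φ : F ⟶ P := pullback.lift p u hv
  have hμ : ((a ▷ F) ≫ μ[F]) = (fst F' F ≫ a) * (snd F' F) := by
    rw [Hom.mul_def, ← lift_whiskerRight, lift_fst_snd, Category.id_comp]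
  have hqw : ∀ (Z : Over (Spec (CommRingCat.of k))) (g : Z ⟶ G') (h : Z ⟶ G), ((g ≫ b) * h) ≫ q = h ≫ q := by
    intro Z g h
    have := congrArg (lift g h ≫ ·) hq.w
    simp only [Category.assoc, lift_snd_assoc, lift_whiskerRight_assoc] at this
    rw [← this, Hom.mul_def, Category.assoc]
  have hA : IsPullback (pullback.lift (snd G' F ≫ p) ((fst G' F ≫ b) * (snd G' F ≫ u))
      (by rw [hqw, Category.assoc, Category.assoc, hv]) : G' ⊗ F ⟶ P) (snd G' F) (pullback.fst v q) p := by
    refine IsPullback.of_right ?_ (by rw [pullback.lift_fst]) (IsPullback.of_hasPullback v q).flip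
    rw [pullback.lift_snd, hv]
    refine ⟨⟨by rw [hqw, Category.assoc]⟩, ⟨PullbackCone.IsLimit.mk _
      (fun s => lift (hq.lift s.fst (s.snd ≫ u) (by rw [Category.assoc]; exact s.condition) ≫ fst G' G) s.snd)
      (fun s => ?_) (fun s => lift_snd _ _) (fun s m h1 h2 => ?_)⟩⟩
    · have e1 := hq.lift_fst s.fst (s.snd ≫ u) (by rw [Category.assoc]; exact s.condition)
      have e2 := hq.lift_snd s.fst (s.snd ≫ u) (by rw [Category.assoc]; exact s.condition)
      simp only [MonObj.comp_mul, lift_fst_assoc, lift_snd_assoc]
      have hb' : ((b ▷ G) ≫ μ[G]) = (fst G' G ≫ b) * (snd G' G) := by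
        rw [Hom.mul_def, ← lift_whiskerRight, lift_fst_snd, Category.id_comp]
      have e3 := (congrArg (hq.lift s.fst (s.snd ≫ u) (by rw [Category.assoc]; exact s.condition) ≫ ·) hb').symm.trans e1
      simp only [MonObj.comp_mul, e2] at e3
      simpa only [Category.assoc] using e3
    · refine CartesianMonoidalCategory.hom_ext _ _ ?_ (h2.trans (lift_snd _ _).symm)
      rw [lift_fst]
      have e : m ≫ (fst G' F ≫ b) * (m ≫ snd G' F ≫ u) = s.fst := by rw [← MonObj.comp_mul]; exact h1
      have hm : lift (m ≫ fst G' F) (s.snd ≫ u) = hq.lift s.fst (s.snd ≫ u) (by rw [Category.assoc]; exact s.condition) := by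
        refine hq.hom_ext ?_ (by rw [lift_snd, hq.lift_snd])
        rw [hq.lift_fst, lift_whiskerRight_assoc, ← Hom.mul_def, Category.assoc, ← e, reassoc_of% h2]
      rw [← hm, lift_fst]
  set c := (pullback.lift (snd G' F ≫ p) ((fst G' F ≫ b) * (snd G' F ≫ u))
      (by rw [hqw, Category.assoc, Category.assoc, hv]) : G' ⊗ F ⟶ P) with hc
  have hp' := hp.map (Over.forget _)
  haveI : Flat ((a ▷ F) ≫ μ[F]).left := MorphismProperty.of_isPullback hp'.flip ‹Flat p.left›
  haveI : Surjective ((a ▷ F) ≫ μ[F]).left := MorphismProperty.of_isPullback hp'.flip ‹Surjective p.left›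
  haveI : Flat c.left := MorphismProperty.of_isPullback (hA.map (Over.forget _)).flip ‹Flat p.left›
  haveI := hfg u' F inferInstance
  have hsq : ((a ▷ F) ≫ μ[F]) ≫ φ = (u' ▷ F) ≫ c := by
    apply pullback.hom_ext
    · simp only [φ, hc, Category.assoc, pullback.lift_fst, whiskerRight_snd_assoc]
      exact (Category.assoc _ _ _).symm.trans hp.w
    · simp only [φ, hc, Category.assoc, pullback.lift_snd, MonObj.comp_mul, whiskerRight_fst_assoc, whiskerRight_snd_assoc]
      rw [← Category.assoc, hμ, MonObj.mul_comp, Category.assoc, hu']
  haveI : Flat (((a ▷ F) ≫ μ[F]).left ≫ φ.left) := by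
    rw [← Over.comp_left, hsq, Over.comp_left]; infer_instance
  haveI : Flat φ.left := FlatLib.flat_of_flat_surjective_comp ((a ▷ F) ≫ μ[F]).left φ.left
  haveI : Flat (pullback.snd v q).left :=
    MorphismProperty.of_isPullback ((IsPullback.of_hasPullback v q).map (Over.forget _)) ‹Flat v.left›
  rw [show u = φ ≫ pullback.snd v q from (pullback.lift_snd _ _ _).symm, Over.comp_left]
  infer_instance

end Groth.Agent.S6089
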