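import Groth.Statements.S6099
import Groth.Agent.RadLib.Radical

set_option autoImplicit false
set_option backward.isDefEq.respectTransparency false
set_option backward.isDefEq.respectTransparency.types false
set_option maxHeartbeats 1000000
set_option synthInstance.maxHeartbeats 400000
open CategoryTheory MonoidalCategory CartesianMonoidalCategory MonObj GrpObj AlgebraicGeometry
universe u
open RedSub

attribute [-instance] CategoryTheory.Hom.commGroup
namespace Groth.Agent.S6099

/-- Second assertion: Let G be a reductive S-group and H ⊆ H' two subgroups of type (R) of G which are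
reductive S-groups, with radicals rad(H) ⟶ Z(H) ⟶ H and rad(H') ⟶ Z(H') ⟶ H' (maximal tori of the
centres). Then rad(H') ⊆ rad(H) as subgroups of G. -/
theorem result {S : Scheme.{u}} {G H H' ZH ZH' R R' : Over S} [GrpObj G] [GrpObj H]
    [GrpObj H'] [GrpObj ZH] [GrpObj ZH'] [GrpObj R] [GrpObj R'] (hG : Red.IsReductive G)
    (i : H ⟶ G) (hi : RedSub.IsTypeR i) (hH : Red.IsReductive H) (i' : H' ⟶ G) (hi' : RedSub.IsTypeR i')
    (hH' : Red.IsReductive H') (k : H ⟶ H') (hk : k ≫ i' = i)
    (jz : ZH ⟶ H) (hZH : Red.IsCentre jz) (r : R ⟶ ZH) (hR : Red.IsMaximalTorus r)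
    (jz' : ZH' ⟶ H') (hZH' : Red.IsCentre jz') (r' : R' ⟶ ZH') (hR' : Red.IsMaximalTorus r') :
    ∃ m : R' ⟶ R, m ≫ r ≫ jz ≫ i = r' ≫ jz' ≫ i' := by
  haveI := hi'.1.1; haveI := hi'.1.2
  haveI : Mono i' := Over.mono_of_mono_left i'
  haveI := hR'.1; haveI := hR'.2.1; haveI := hZH'.1; haveI := hZH'.2.1
  refine RadLib.factor_radical_typeR hG hi hH hZH hR hR'.2.2.1 (r' ≫ jz' ≫ i') fun X x h => ?_
  rw [← hk]
  simp only [← Category.assoc]
  rw [← MonObj.mul_comp, ← MonObj.mul_comp, RadLib.centre_comm hZH' (x ≫ r') (h ≫ k)]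

end Groth.Agent.S6099
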