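import Groth.Statements.S6100
import Groth.Agent.RadLib.Radical

set_option autoImplicit false
set_option backward.isDefEq.respectTransparency false
set_option backward.isDefEq.respectTransparency.types false
set_option maxHeartbeats 1000000
set_option synthInstance.maxHeartbeats 400000
open CategoryTheory MonoidalCategory CartesianMonoidalCategory MonObj GrpObj AlgebraicGeometry
universe u
open RedSub

attribute [-instance] CategoryTheory.Hom.commGroup
namespace Groth.Agent.S6100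

/-- Let G be a reductive S-group, H ⟶ G a subgroup of type (R) which is a reductive S-group, rad(H) ⟶
Z(H) ⟶ H its radical, z : Z ⟶ G the centraliser of rad(H) in G, Z(Z) ⟶ Z the centre of Z and rad(Z)
⟶ Z(Z) a maximal torus. Then H ⊆ Centr_G(rad H), and rad(Centr_G(rad H)) = rad(H) as subgroups of G,
so that rad(H) is a C-critical torus (the radical of its own centraliser). -/
theorem result {S : Scheme.{u}} {G H ZH R Z ZZ RZ : Over S} [GrpObj G] [GrpObj H]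
    [GrpObj ZH] [GrpObj R] [GrpObj Z] [GrpObj ZZ] [GrpObj RZ] (hG : Red.IsReductive G)
    (i : H ⟶ G) (hi : RedSub.IsTypeR i) (hH : Red.IsReductive H)
    (jz : ZH ⟶ H) (hZH : Red.IsCentre jz) (r : R ⟶ ZH) (hR : Red.IsMaximalTorus r)
    (z : Z ⟶ G) (hZ : Red.IsCentralizerOf (r ≫ jz ≫ i) z)
    (jzz : ZZ ⟶ Z) (hZZ : Red.IsCentre jzz) (rz : RZ ⟶ ZZ) (hRZ : Red.IsMaximalTorus rz) :
    (∃ k : H ⟶ Z, k ≫ z = i) ∧ ∃ e : R ≅ RZ, e.hom ≫ rz ≫ jzz ≫ z = r ≫ jz ≫ i := by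
  haveI := hi.1.1; haveI := hi.1.2
  haveI : Mono i := Over.mono_of_mono_left i
  haveI := hR.1; haveI := hR.2.1; haveI := hZH.1; haveI := hZH.2.1
  haveI := hZ.1; haveI := hZ.2.1; haveI := hZZ.1; haveI := hZZ.2.1; haveI := hRZ.1; haveI := hRZ.2.1
  haveI : Mono (r ≫ jz ≫ i) := inferInstance
  have hrc : ∀ (X : Over S) (x : X ⟶ R) (g : X ⟶ H), (x ≫ r ≫ jz ≫ i) * (g ≫ i) = (g ≫ i) * (x ≫ r ≫ jz ≫ i) :=
    fun X x g => by
      simp only [← Category.assoc]
      rw [← MonObj.mul_comp, ← MonObj.mul_comp, RadLib.centre_comm hZH (x ≫ r) g]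
  obtain ⟨k, hk⟩ := (hZ.2.2 H i).2 fun X' x h => (hrc X' h x).symm
  refine ⟨⟨k, hk⟩, ?_⟩
  obtain ⟨b, hb⟩ := RadLib.factor_radical_typeR hG hi hH hZH hR hRZ.2.2.1 (rz ≫ jzz ≫ z) fun X x h => by
    rw [← hk]
    simp only [← Category.assoc]
    rw [← MonObj.mul_comp, ← MonObj.mul_comp, RadLib.centre_comm hZZ (x ≫ rz) (h ≫ k)]
  obtain ⟨c, hc⟩ := (hZ.2.2 R (r ≫ jz ≫ i)).2 fun X' x h => by
    rw [← MonObj.mul_comp, ← MonObj.mul_comp, TorsTuple.commute_torus hR.2.2.1 x h]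
  haveI : IsMonHom (c ≫ z) := by rw [hc]; infer_instance
  haveI : IsMonHom c := DiagRep.isMonHom_of_comp_mono c z
  haveI : Mono (c ≫ z) := by rw [hc]; infer_instance
  haveI : Mono c := mono_of_mono c z
  obtain ⟨a, ha⟩ := RadLib.factor_radical (RadLib.isReductive_centralizer hG (r ≫ jz ≫ i) hR.2.2.1 hZ) hZZ hRZ
    hR.2.2.1 c fun X x g => (cancel_mono z).1 (by
      rw [MonObj.mul_comp, MonObj.mul_comp, Category.assoc, hc]
      have h := (hZ.2.2 X (g ≫ z)).1 ⟨g, rfl⟩ X (𝟙 _) x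
      rw [Category.id_comp] at h
      exact h.symm)
  have ha' : a ≫ rz ≫ jzz ≫ z = r ≫ jz ≫ i := by rw [reassoc_of% ha, hc]
  exact ⟨⟨a, b, (cancel_mono (r ≫ jz ≫ i)).1 (by rw [Category.assoc, hb, ha', Category.id_comp]),
    (cancel_mono (rz ≫ jzz ≫ z)).1 (by rw [Category.assoc, ha', hb, Category.id_comp])⟩, ha'⟩

end Groth.Agent.S6100
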