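import Groth.Statements.S6101
import Groth.Agent.SplitFibLib.ConjTail
import Groth.Agent.SplitFibLib.OrderPos
import Groth.Agent.SplitFibLib.Subgroups

set_option autoImplicit false
open CategoryTheory MonoidalCategory CartesianMonoidalCategory MonObj GrpObj AlgebraicGeometry
universe u
open RedSub

namespace Groth.Agent.S6101

set_option backward.isDefEq.respectTransparency false
set_option maxHeartbeats 1000000

attribute [-instance] CategoryTheory.Hom.commGroup

/-- On points: let G be a split reductive S-group (splitting D with torus T, lattice M and root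
homomorphisms u_a), fix a total order on M compatible with addition, and let a_1 < ⋯ < a_N be the
roots which are positive for it, enumerated increasingly by e. For i + m = N write U_{>i} for the
products u_{a_{i+1}}(y_1) ⋯ u_{a_N}(y_m) of points of G_a, taken in increasing order. Then: U_{>i}
is closed under products and inverses; it is normalised by the points of T and by the points of
U_{>0}; and conjugating a point of U_{>i} by a point of U_{>0} does not change its first factor y_1
(inner automorphisms of U_{>0} act trivially on U_{>i}/U_{>i+1} = U_{a_{i+1}}). -/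
theorem result {S : Scheme.{u}} {G : Over S} [GrpObj G] (D : Red.SplitRed G)
    [LinearOrder D.M] [IsOrderedAddMonoid D.M] {N : ℕ} (e : Fin N → D.idx) (he : Function.Injective e)
    (hrange : ∀ a : D.idx, a ∈ Set.range e ↔ 0 < D.P.root a) (hmono : StrictMono (fun k => D.P.root (e k)))
    (i m : ℕ) (h : i + m = N) :
    (∀ (X : Over S) (y y' : Fin m → (X ⟶ Red.Ga S)), ∃ z : Fin m → (X ⟶ Red.Ga S),
      (List.ofFn (fun k => z k ≫ D.u (e (Fin.cast h (Fin.natAdd i k))))).prod =
        (List.ofFn (fun k => y k ≫ D.u (e (Fin.cast h (Fin.natAdd i k))))).prod *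
          (List.ofFn (fun k => y' k ≫ D.u (e (Fin.cast h (Fin.natAdd i k))))).prod) ∧
    (∀ (X : Over S) (y : Fin m → (X ⟶ Red.Ga S)), ∃ z : Fin m → (X ⟶ Red.Ga S),
      (List.ofFn (fun k => z k ≫ D.u (e (Fin.cast h (Fin.natAdd i k))))).prod =
        ((List.ofFn (fun k => y k ≫ D.u (e (Fin.cast h (Fin.natAdd i k))))).prod)⁻¹) ∧
    (∀ (X : Over S) (t : X ⟶ D.T) (y : Fin m → (X ⟶ Red.Ga S)), ∃ z : Fin m → (X ⟶ Red.Ga S),
      (List.ofFn (fun k => z k ≫ D.u (e (Fin.cast h (Fin.natAdd i k))))).prod =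
        (t ≫ D.i) * (List.ofFn (fun k => y k ≫ D.u (e (Fin.cast h (Fin.natAdd i k))))).prod * (t ≫ D.i)⁻¹) ∧
    (∀ (X : Over S) (x : Fin N → (X ⟶ Red.Ga S)) (y : Fin m → (X ⟶ Red.Ga S)), ∃ z : Fin m → (X ⟶ Red.Ga S),
      (List.ofFn (fun k => z k ≫ D.u (e (Fin.cast h (Fin.natAdd i k))))).prod =
        (List.ofFn (fun k => x k ≫ D.u (e k))).prod *
          (List.ofFn (fun k => y k ≫ D.u (e (Fin.cast h (Fin.natAdd i k))))).prod *
            ((List.ofFn (fun k => x k ≫ D.u (e k))).prod)⁻¹ ∧
      ∀ k : Fin m, (k : ℕ) = 0 → z k = y k) := by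
  subst h
  simp only [Fin.cast_eq_self]
  obtain ⟨f, hf, hflt, b, hb⟩ := SplitFib.exists_orderSides D e hrange hmono
  set et : Fin m → D.idx := fun k => e (Fin.natAdd i k) with het_def
  let eh : Fin i → D.idx := fun k => e (Fin.castAdd m k)
  have hee : Fin.append eh et = e := Fin.append_castAdd_natAdd
  have het : Function.Injective et := he.comp (Fin.natAdd_injective m i)
  have hp : ∀ k, Fin.append eh et k ∈ b.pos := fun k => by rw [hee, hb]; exact Set.mem_range_self k
  have hpt : ∀ k, et k ∈ b.pos := fun k => by rw [hb]; exact Set.mem_range_self _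
  have hfb : ∀ j ∈ b.pos, 0 < f (D.P.root j) := fun j hj => by
    rw [hb] at hj; obtain ⟨k, rfl⟩ := hj; exact hf k
  have hs : SplitCell.IsSatur D (Fin.append eh et) := by
    rw [hee]; exact SplitFib.isSatur_pos D b ⟨he, hb.symm⟩
  have hlt : ∀ r s, f (D.P.root (eh r)) < f (D.P.root (et s)) := fun r s =>
    hflt _ _ (by simp only [Fin.lt_def, Fin.val_castAdd, Fin.val_natAdd]; omega)
  have hst : SplitCell.IsSatur D et := SplitFib.isSatur_tail hs hfb hp hlt
  obtain ⟨grp, hgrp⟩ := SplitCell.exists_grpObj b hst het hpt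
  letI := grp
  haveI := hgrp
  have key : ∀ (X : Over S) (w : X ⟶ RedSub.pow (Red.Ga S) m) (g : X ⟶ G), w ≫ SplitCell.rprod D et = g →
      (List.ofFn fun k => (w ≫ SplitCell.prj S k) ≫ D.u (et k)).prod = g := fun X w g h => by
    rw [← h, SplitCell.prodMap_eq]; simp only [Category.assoc]
  have tk : ∀ (X : Over S) (y : Fin m → (X ⟶ Red.Ga S)),
      (List.ofFn fun k => y k ≫ D.u (et k)).prod = SplitCell.tup y ≫ SplitCell.rprod D et := fun X y => by
    rw [SplitCell.prodMap_eq]; simp only [← Category.assoc, SplitCell.tup_prj]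
  refine ⟨fun X y y' => ⟨fun k => (SplitCell.tup y * SplitCell.tup y') ≫ SplitCell.prj S k, key X _ _ ?_⟩,
    fun X y => ⟨fun k => (SplitCell.tup y)⁻¹ ≫ SplitCell.prj S k, key X _ _ ?_⟩, fun X t y => ?_, fun X x y => ?_⟩
  · rw [MonObj.mul_comp, tk, tk]
  · rw [GrpObj.inv_comp, tk]
  · obtain ⟨x', hx'⟩ := SplitCell.exists_conj (e := et) t (SplitCell.tup y)
    exact ⟨fun k => x' ≫ SplitCell.prj S k, key X _ _ (by rw [tk, hx'])⟩
  · obtain ⟨z, hz, hz0⟩ := SplitFib.conj_tail hs (by rw [hee]; exact he) hp hfb hlt (SplitCell.tup x) (SplitCell.tup y)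
    refine ⟨fun k => z ≫ SplitCell.prj S k, key X _ _ (hz.trans ?_), fun k hk => ?_⟩
    · rw [tk, show (List.ofFn fun k => x k ≫ D.u (e k)).prod = SplitCell.tup x ≫ SplitCell.rprod D (Fin.append eh et) from by
        rw [hee, SplitCell.prodMap_eq]; simp only [← Category.assoc, SplitCell.tup_prj]]
    · show z ≫ _ = _
      rw [hz0 k fun s hs => hflt _ _ (by
        have := Fin.val_ne_of_ne hs
        simp only [Fin.lt_def, Fin.val_natAdd]; omega), SplitCell.tup_prj]

end Groth.Agent.S6101
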