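import Groth.Statements.S6102
import Groth.Agent.SplitFibLib.PolyLaw
import Groth.Agent.SplitFibLib.Subgroups
import Groth.Agent.SplitFibLib.Levels

set_option autoImplicit false
open CategoryTheory MonoidalCategory CartesianMonoidalCategory MonObj GrpObj AlgebraicGeometry
universe u
open RedSub

namespace Groth.Agent.S6102

set_option backward.isDefEq.respectTransparency false
set_option maxHeartbeats 1000000

attribute [-instance] CategoryTheory.Hom.commGroup

/-- Existence, uniqueness and triangular form of the polynomial group law: let G be a split reductive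
S-group (splitting D with root homomorphisms u_a and lattice M), fix a total order on M compatible
with addition, and let a_1 < ⋯ < a_N be the positive roots, enumerated increasingly by e. Then there
is a unique family (Q_k) of polynomials in 2N variables over Γ(S, O_S) expressing the group law in
the coordinates x ↦ u_{a_1}(x_1) ⋯ u_{a_N}(x_N): for points x, y, z of G_a^N one has u(z) = u(x)
u(y) if and only if the coordinate of each z_k is Q_k(x, y); moreover Q_k = x_k + y_k + Q'_k with
Q'_k a polynomial in the x_j, y_j for j < k only. (The further assertion that the coefficients lie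
in the subring generated by the structure constants of the commutator formulas is not stated.) -/
theorem result {S : Scheme.{u}} {G : Over S} [GrpObj G] (D : Red.SplitRed G)
    [LinearOrder D.M] [IsOrderedAddMonoid D.M] {N : ℕ} (e : Fin N → D.idx) (he : Function.Injective e)
    (hrange : ∀ a : D.idx, a ∈ Set.range e ↔ 0 < D.P.root a) (hmono : StrictMono (fun k => D.P.root (e k))) :
    ∃! Q : Fin N → MvPolynomial (Fin N ⊕ Fin N) Γ(S, ⊤),
      (∀ (X : Over S) (x y z : Fin N → (X ⟶ Red.Ga S)),
        (List.ofFn (fun k => z k ≫ D.u (e k))).prod =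
            (List.ofFn (fun k => x k ≫ D.u (e k))).prod * (List.ofFn (fun k => y k ≫ D.u (e k))).prod ↔
          ∀ k, Red.gaFn (z k) = MvPolynomial.eval₂ X.hom.appTop.hom
            (Sum.elim (fun j => Red.gaFn (x j)) (fun j => Red.gaFn (y j))) (Q k)) ∧
      (∀ k : Fin N, ∀ v ∈ (Q k - MvPolynomial.X (Sum.inl k) - MvPolynomial.X (Sum.inr k)).vars,
        Sum.elim (fun j : Fin N => j < k) (fun j : Fin N => j < k) v) := by
  classical
  obtain ⟨f, hf, hflt, b, hb⟩ := SplitFib.exists_orderSides D e hrange hmono
  have hp : ∀ k, e k ∈ b.pos := fun k => by rw [hb]; exact Set.mem_range_self k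
  have hfb : ∀ j ∈ b.pos, 0 < f (D.P.root j) := fun j hj => by
    rw [hb] at hj; obtain ⟨k, rfl⟩ := hj; exact hf k
  have hs : SplitCell.IsSatur D e := SplitFib.isSatur_pos D b ⟨he, hb.symm⟩
  obtain ⟨grp, hgrp⟩ := SplitCell.exists_grpObj b hs he hp
  letI := grp
  haveI := hgrp
  haveI := SplitCell.mono_rprod D b he hp
  choose Q hQ hQw using fun k => SplitFib.exists_poly_law hs he hp hfb k
  have tk : ∀ (X : Over S) (y : Fin N → (X ⟶ Red.Ga S)),
      (List.ofFn fun k => y k ≫ D.u (e k)).prod = SplitCell.tup y ≫ SplitCell.rprod D e := fun X y => by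
    rw [SplitCell.prodMap_eq]; simp only [← Category.assoc, SplitCell.tup_prj]
  have key : ∀ (X : Over S) (x y z : Fin N → (X ⟶ Red.Ga S)),
      (List.ofFn (fun k => z k ≫ D.u (e k))).prod =
          (List.ofFn (fun k => x k ≫ D.u (e k))).prod * (List.ofFn (fun k => y k ≫ D.u (e k))).prod ↔
        ∀ k, Red.gaFn (z k) = Red.gaFn ((SplitCell.tup x * SplitCell.tup y) ≫ SplitCell.prj S k) := by
    intro X x y z
    rw [tk, tk, tk, ← MonObj.mul_comp, cancel_mono]
    refine ⟨fun h k => by rw [← h, SplitCell.tup_prj], fun h => SplitCell.pow_ext fun k => ?_⟩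
    rw [SplitCell.tup_prj]
    exact GaPts.gaFn_injective (h k)
  have heval : ∀ k (X : Over S) (x y : Fin N → (X ⟶ Red.Ga S)),
      Red.gaFn ((SplitCell.tup x * SplitCell.tup y) ≫ SplitCell.prj S k) = MvPolynomial.eval₂ X.hom.appTop.hom
        (Sum.elim (fun j => Red.gaFn (x j)) (fun j => Red.gaFn (y j))) (Q k) := by
    intro k X x y
    refine (hQ k X (fun _ _ => trivial) (Sum.elim x y)).trans ?_
    rw [show (fun j => Red.gaFn (Sum.elim x y j)) = Sum.elim (fun j => Red.gaFn (x j)) (fun j => Red.gaFn (y j)) from
      funext fun j => by cases j <;> rfl]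
    congr 1
    exact congrArg CommRingCat.Hom.hom (Scheme.Hom.appLE_eq_app X.hom)
  refine ⟨Q, ⟨fun X x y z => ?_, fun k v hv => ?_⟩, ?_⟩
  · rw [key]
    exact forall_congr' fun k => by rw [heval]
  · have hlin : ∀ w₀, w₀ = Sum.inl k ∨ w₀ = Sum.inr k → (Q k).coeff (Finsupp.single w₀ 1) = 1 := by
      intro w₀ hw₀
      let X : Over S := Over.mk (𝟙 S)
      let val : Fin N ⊕ Fin N → (X ⟶ Red.Ga S) := fun t => if t = w₀ then GaPts.ptOf 1 else 1
      have hval : ∀ t, t ≠ w₀ → Red.gaFn (val t) = 0 := fun t ht => by
        simp only [val, if_neg ht]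
        rw [← SplitFib.ptOf_zero', GaPts.gaFn_ptOf]
      have hone : ∀ z : Fin N → (X ⟶ Red.Ga S), (∀ j, z j = 1) → SplitCell.tup z = 1 := fun z hz => by
        rw [← cancel_mono (SplitCell.rprod D e), MonObj.one_comp]
        exact SplitFib.rprod_eq_one e _ fun j => by rw [SplitCell.tup_prj, hz]
      have h1 := heval k X (fun j => val (Sum.inl j)) (fun j => val (Sum.inr j))
      rw [show Sum.elim (fun j => Red.gaFn (val (Sum.inl j))) (fun j => Red.gaFn (val (Sum.inr j))) =
        fun t => Red.gaFn (val t) from funext fun t => by cases t <;> rfl] at h1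
      have hl : Red.gaFn ((SplitCell.tup (fun j => val (Sum.inl j)) * SplitCell.tup fun j => val (Sum.inr j)) ≫
          SplitCell.prj S k) = 1 := by
        rcases hw₀ with rfl | rfl
        · rw [hone (fun j => val (Sum.inr j)) (fun j => if_neg (by simp)), _root_.mul_one, SplitCell.tup_prj]
          simp only [val, if_true, GaPts.gaFn_ptOf]
        · rw [hone (fun j => val (Sum.inl j)) (fun j => if_neg (by simp)), _root_.one_mul, SplitCell.tup_prj]
          simp only [val, if_true, GaPts.gaFn_ptOf]
      rw [hl, MvPolynomial.eval₂_eq', Finset.sum_eq_single (Finsupp.single w₀ 1)] at h1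
      · rw [Finset.prod_eq_single w₀ (fun t _ ht => by rw [Finsupp.single_eq_of_ne ht, pow_zero])
          (fun h => absurd (Finset.mem_univ _) h), Finsupp.single_eq_same, pow_one] at h1
        simp only [val, if_true, GaPts.gaFn_ptOf, _root_.mul_one] at h1
        exact h1.symm
      · intro d hd hne
        have hd' := hQw k d (MvPolynomial.mem_support_iff.1 hd)
        obtain ⟨t, ht, htw⟩ : ∃ t, d t ≠ 0 ∧ t ≠ w₀ := by
          by_contra hno
          push Not at hno
          obtain ⟨t, ht⟩ : ∃ t, d t ≠ 0 := by
            by_contra h0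
            push Not at h0
            exact D.P.ne_zero (e k) (by rw [hd']; simp [h0])
          rcases SplitFib.eq_single_or_vars_lt hf hflt hd' ht with h | h | h
          · rw [hno t ht] at h
            rcases hw₀ with rfl | rfl <;> simp at h
          · exact hne (by rw [h, ← hno (Sum.inl k) (by rw [h]; simp)])
          · exact hne (by rw [h, ← hno (Sum.inr k) (by rw [h]; simp)])
        rw [Finset.prod_eq_zero (Finset.mem_univ t) (by rw [hval t htw, zero_pow ht]), mul_zero]
      · intro h
        rw [MvPolynomial.notMem_support_iff.1 h, map_zero, zero_mul]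
    obtain ⟨d, hd, hdv⟩ := (MvPolynomial.mem_vars v).1 hv
    rw [MvPolynomial.mem_support_iff] at hd
    have hne : d ≠ Finsupp.single (Sum.inl k) 1 ∧ d ≠ Finsupp.single (Sum.inr k) 1 := by
      constructor <;> rintro rfl <;> refine hd ?_ <;>
        simp [MvPolynomial.coeff_X, hlin, Finsupp.single_left_inj]
    have hQd : (Q k).coeff d ≠ 0 := fun h0 => hd (by
      simp [MvPolynomial.coeff_X', h0, Ne.symm hne.1, Ne.symm hne.2])
    rcases SplitFib.eq_single_or_vars_lt hf hflt (hQw k d hQd) (Finsupp.mem_support_iff.1 hdv) with h | h | h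
    · cases v <;> exact h
    · exact absurd h hne.1
    · exact absurd h hne.2
  · rintro Q' ⟨h', -⟩
    funext k
    refine SplitFib.IsPolyOn.unique (fun Y h v => ?_) (hQ k)
    refine ((h' Y (v ∘ Sum.inl) (v ∘ Sum.inr) fun j => (SplitCell.tup (v ∘ Sum.inl) * SplitCell.tup (v ∘ Sum.inr)) ≫
      SplitCell.prj S j).1 ((key _ _ _ _).2 fun j => rfl) k).trans ?_
    rw [show Sum.elim (fun j => Red.gaFn ((v ∘ Sum.inl) j)) (fun j => Red.gaFn ((v ∘ Sum.inr) j)) =
      fun t => Red.gaFn (v t) from funext fun t => by cases t <;> rfl]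
    congr 1
    exact congrArg CommRingCat.Hom.hom (Scheme.Hom.appLE_eq_app Y.hom).symm

end Groth.Agent.S6102
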