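import Groth.Statements.S6104
import Groth.Agent.BruhatLib.TorusQuotCell

set_option autoImplicit false
set_option backward.isDefEq.respectTransparency false
set_option maxHeartbeats 1000000
open CategoryTheory MonoidalCategory CartesianMonoidalCategory MonObj GrpObj AlgebraicGeometry
universe u
open RedSub

namespace Groth.Agent.S6104

/-- Let G be a split reductive S-group (splitting D, T ≅ D_S(M), system of simple roots b, big cell Ω =
U⁻ · T · U for enumerations of the negative and positive roots), N = {m | (α*, m) = 0 for all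
coroots}, T' = D_S(M/N) ⊆ T and Ω' = U⁻ · T' · U. For every S-point w of G normalising T there is an
open V_w ⊆ G containing the unit section such that int(w)Ω' ∩ V_w ⊆ Ω': if g is a point of Ω' and
the point w g w⁻¹ of G lies in V_w, then w g w⁻¹ is a point of Ω'. -/
theorem result {S : Scheme.{u}} {G : Over S} [GrpObj G] (D : Red.SplitRed G)
    (b : D.P.Base) {n m : ℕ} (eneg : Fin n → D.idx) (epos : Fin m → D.idx)
    (hneg : RedSub.Enumerates (RedSub.negRoots D.P b) eneg) (hpos : RedSub.Enumerates (RedSub.posRoots D.P b) epos)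
    (N : AddSubgroup D.M) (hN : ∀ x : D.M, x ∈ N ↔ ∀ c : D.idx, D.P.coroot c x = 0)
    (w : 𝟙_ (Over S) ⟶ G)
    (hw : ∀ (X : Over S) (t : X ⟶ D.T), (∃ t' : X ⟶ D.T, (toUnit X ≫ w) * (t ≫ D.i) * (toUnit X ≫ w)⁻¹ = t' ≫ D.i) ∧
      (∃ t' : X ⟶ D.T, (toUnit X ≫ w)⁻¹ * (t ≫ D.i) * (toUnit X ≫ w) = t' ≫ D.i)) :
    ∃ V : Set ↥G.left, IsOpen V ∧ Set.range η[G].left.base ⊆ V ∧
      ∀ (X : Over S) (g : X ⟶ RedSub.pow (Red.Ga S) n ⊗ (Red.DS S (D.M ⧸ N) ⊗ RedSub.pow (Red.Ga S) m)),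
        Set.range ((toUnit X ≫ w) * (g ≫ ((fst _ _ ≫ RedSub.prodMap (Red.Ga S) n (fun k => D.u (eneg k))) *
        ((snd _ _ ≫ fst _ _ ≫ Red.DSmap S (QuotientAddGroup.mk' N) ≫ D.split.inv.hom.hom ≫ D.i) *
          (snd _ _ ≫ snd _ _ ≫ RedSub.prodMap (Red.Ga S) m (fun k => D.u (epos k)))))) * (toUnit X ≫ w)⁻¹).left.base ⊆ V →
        ∃ g' : X ⟶ RedSub.pow (Red.Ga S) n ⊗ (Red.DS S (D.M ⧸ N) ⊗ RedSub.pow (Red.Ga S) m),
          (toUnit X ≫ w) * (g ≫ ((fst _ _ ≫ RedSub.prodMap (Red.Ga S) n (fun k => D.u (eneg k))) *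
        ((snd _ _ ≫ fst _ _ ≫ Red.DSmap S (QuotientAddGroup.mk' N) ≫ D.split.inv.hom.hom ≫ D.i) *
          (snd _ _ ≫ snd _ _ ≫ RedSub.prodMap (Red.Ga S) m (fun k => D.u (epos k)))))) * (toUnit X ≫ w)⁻¹ = g' ≫ ((fst _ _ ≫ RedSub.prodMap (Red.Ga S) n (fun k => D.u (eneg k))) *
        ((snd _ _ ≫ fst _ _ ≫ Red.DSmap S (QuotientAddGroup.mk' N) ≫ D.split.inv.hom.hom ≫ D.i) *
          (snd _ _ ≫ snd _ _ ≫ RedSub.prodMap (Red.Ga S) m (fun k => D.u (epos k))))) := by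
  by_cases hS : Nonempty S
  swap
  · exact ⟨Set.univ, isOpen_univ, Set.subset_univ _, fun X g _ => ⟨g, Bruhat.over_hom_eq hS _ _⟩⟩
  obtain ⟨f, hf, hcf, -⟩ := Bruhat.exists_quotHom D b N (fun x hx c => (hN x).1 hx c) hneg hpos
  haveI := hf
  have hc := SplitCell.isGerm_cell D (SplitCell.sidesOfBase D.P b) hneg hpos
  haveI := hc.open_imm
  refine ⟨Set.range (RedSub.cellMap D eneg epos).left.base, (RedSub.cellMap D eneg epos).left.isOpenEmbedding.isOpen_range, ?_,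
    fun X g hg => ?_⟩
  · obtain ⟨o, ho⟩ := hc.one
    refine (SplitCell.inGerm_iff hc η[G]).1 ⟨o, ?_⟩
    rw [ho, MonObj.one_eq_one]
  · obtain ⟨z, hz⟩ := (SplitCell.inGerm_iff hc _).2 hg
    have hg1 : (g ≫ Bruhat.cell' D N eneg epos) ≫ f = 1 := by
      rw [← Bruhat.cellIncl_comp, Category.assoc, hcf, Bruhat.cellIncl_fQuot]
    rw [Bruhat.cell'] at hg1
    have h1 : z ≫ Bruhat.fQuot D N n m = 1 := by
      rw [← hcf, ← Category.assoc, hz, MonObj.mul_comp, MonObj.mul_comp, GrpObj.inv_comp,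
        show (g ≫ _) ≫ f = 1 from hg1]
      exact mul_inv_eq_one.2 (_root_.mul_one _)
    obtain ⟨g', hg'⟩ := Bruhat.exists_cell'_of_fQuot D N eneg epos z h1
    exact ⟨g', hz.symm.trans hg'⟩

end Groth.Agent.S6104
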