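import Groth.Statements.S6106
import Groth.Agent.RadLib.Radical

set_option autoImplicit false
set_option backward.isDefEq.respectTransparency false
set_option backward.isDefEq.respectTransparency.types false
set_option maxHeartbeats 1000000
set_option synthInstance.maxHeartbeats 400000
open CategoryTheory MonoidalCategory CartesianMonoidalCategory MonObj GrpObj AlgebraicGeometry
universe u
open RedSub

attribute [-instance] CategoryTheory.Hom.commGroup
namespace Groth.Agent.S6106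

/-- Let G be a reductive S-group, q : Q ⟶ G a subtorus, Z = Centr_G(Q), Z(Z) its centre and rad(Z) ⟶
Z(Z) a maximal torus. If q' : Q' ⟶ G is a subtorus containing Q which is C-critical (Q' is the
radical of its centraliser Z': it factors through the centre Z(Z') as a maximal torus of Z(Z')),
then rad(Centr_G(Q)) ⊆ Q' as subgroups of G. Since rad(Centr_G(Q)) contains Q and is itself
C-critical, this says it is the smallest C-critical torus of G containing Q. -/
theorem result {S : Scheme.{u}} {G Q Z ZZ RZ Q' Z' ZZ' : Over S} [GrpObj G]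
    [GrpObj Q] [GrpObj Z] [GrpObj ZZ] [GrpObj RZ] [GrpObj Q'] [GrpObj Z'] [GrpObj ZZ'] (hG : Red.IsReductive G)
    (q : Q ⟶ G) [IsMonHom q] [Mono q] (hQ : Red.IsTorus Q) (z : Z ⟶ G) (hZ : Red.IsCentralizerOf q z)
    (jzz : ZZ ⟶ Z) (hZZ : Red.IsCentre jzz) (rz : RZ ⟶ ZZ) (hRZ : Red.IsMaximalTorus rz)
    (q' : Q' ⟶ G) [IsMonHom q'] [Mono q'] (hQ' : Red.IsTorus Q') (k : Q ⟶ Q') (hk : k ≫ q' = q)
    (z' : Z' ⟶ G) (hZ' : Red.IsCentralizerOf q' z') (jzz' : ZZ' ⟶ Z') (hZZ' : Red.IsCentre jzz')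
    (m' : Q' ⟶ ZZ') (hm' : m' ≫ jzz' ≫ z' = q') (hcrit : Red.IsMaximalTorus m') :
    ∃ l : RZ ⟶ Q', l ≫ q' = rz ≫ jzz ≫ z := by
  haveI := hZ.1; haveI := hZ.2.1; haveI := hZ'.1; haveI := hZ'.2.1
  haveI := hZZ.1; haveI := hZZ.2.1; haveI := hRZ.1; haveI := hRZ.2.1
  obtain ⟨lz, hlz⟩ := (hZ.2.2 Z' z').2 fun X' x h => by
    rw [← hk, ← Category.assoc h k]
    exact (hZ'.2.2 Z' z').1 ⟨𝟙 _, Category.id_comp z'⟩ X' x (h ≫ k)
  have hcomm : ∀ (X : Over S) (x : X ⟶ RZ) (g : X ⟶ Z'),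
      (x ≫ rz ≫ jzz ≫ z) * (g ≫ z') = (g ≫ z') * (x ≫ rz ≫ jzz ≫ z) := fun X x g => by
    rw [← hlz]
    simp only [← Category.assoc]
    rw [← MonObj.mul_comp, ← MonObj.mul_comp, RadLib.centre_comm hZZ (x ≫ rz) (g ≫ lz)]
  obtain ⟨c, hc⟩ := (hZ'.2.2 RZ (rz ≫ jzz ≫ z)).2 fun X' x h => by
    have e : h ≫ q' = (h ≫ m' ≫ jzz') ≫ z' := by rw [← hm']; simp only [Category.assoc]
    rw [e]
    exact hcomm X' x _
  haveI : IsMonHom (c ≫ z') := by rw [hc]; infer_instance
  haveI : IsMonHom c := DiagRep.isMonHom_of_comp_mono c z'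
  haveI : Mono (c ≫ z') := by rw [hc]; infer_instance
  haveI : Mono c := mono_of_mono c z'
  obtain ⟨l, hl⟩ := RadLib.factor_radical (RadLib.isReductive_centralizer hG q' hQ' hZ') hZZ' hcrit hRZ.2.2.1 c
    fun X x g => (cancel_mono z').1 (by
      rw [MonObj.mul_comp, MonObj.mul_comp, Category.assoc, hc]
      exact hcomm X x g)
  exact ⟨l, by rw [← hm', reassoc_of% hl, hc]⟩

end Groth.Agent.S6106
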