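import Groth.Statements.S6108
import Groth.Agent.SplitCellLib.ChevalleyGlobal
import Groth.Agent.SplitFibLib.Subgroups
import Groth.Agent.BruhatLib.Pinned
import Groth.Agent.S5522
import Mathlib.Algebra.Group.Submonoid.Membership
import Mathlib.Algebra.Group.Pi.Lemmas

set_option autoImplicit false
set_option linter.style.haveILetI false
set_option backward.isDefEq.respectTransparency false
set_option maxHeartbeats 1000000
set_option synthInstance.maxHeartbeats 400000
open CategoryTheory MonoidalCategory CartesianMonoidalCategory MonObj GrpObj AlgebraicGeometry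
universe u
open RedSub

attribute [-instance] CategoryTheory.Hom.commGroup

open Groth.Agent.GaPts Groth.Agent SplitCell SplitFib RootSubgrp
open Groth.Agent.RankOne (comp_ptOf eq_ptOf)

namespace Groth.Agent.S6108

/-- An ordered product whose first entries are trivial starts at its first non-trivial entry. -/
theorem prod_update {M : Type*} [Monoid M] : ∀ {N : ℕ} (g : Fin N → M) (k : Fin N), (∀ l, l < k → g l = 1) →
    (List.ofFn g).prod = g k * (List.ofFn (Function.update g k 1)).prod := by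
  intro N
  induction N with
  | zero => exact fun g k => k.elim0
  | succ N ih =>
    intro g k hk
    induction k using Fin.cases with
    | zero =>
      rw [List.ofFn_succ, List.prod_cons, List.ofFn_succ, List.prod_cons, Function.update_self, _root_.one_mul]
      congr 3
    | succ k =>
      have h0 : g 0 = 1 := hk 0 (Fin.succ_pos _)
      rw [List.ofFn_succ, List.prod_cons, List.ofFn_succ, List.prod_cons, h0, _root_.one_mul,
        Function.update_of_ne (Fin.succ_ne_zero k).symm, h0, _root_.one_mul,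
        ih (fun l => g l.succ) k fun l hl => hk _ (Fin.succ_lt_succ_iff.2 hl)]
      congr 3
      funext l
      rcases eq_or_ne l k with rfl | h
      · rw [Function.update_self, Function.update_self]
      · rw [Function.update_of_ne h, Function.update_of_ne ((Fin.succ_injective _).ne h)]

section Pairs

variable {S : Scheme.{u}} {G H : Over S} [GrpObj G] [GrpObj H] (D : Red.SplitRed G) {N : ℕ} (e : Fin N → D.idx)
  (f : Fin N → (Red.Ga S ⟶ H))

/-- The pair of a point in one factor. -/
noncomputable def pr {X : Over S} (l : Fin N) (a : X ⟶ Red.Ga S) : (X ⟶ G) × (X ⟶ H) := (a ≫ D.u (e l), a ≫ f l)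

/-- The pair of coordinates. -/
noncomputable def pp {X : Over S} (z : Fin N → (X ⟶ Red.Ga S)) : (X ⟶ G) × (X ⟶ H) := (List.ofFn fun l => pr D e f l (z l)).prod

theorem pp_eq {X : Over S} (z : Fin N → (X ⟶ Red.Ga S)) :
    pp D e f z = ((List.ofFn fun l => z l ≫ D.u (e l)).prod, (List.ofFn fun l => z l ≫ f l).prod) := by
  refine Prod.ext ?_ ?_
  · refine (map_list_prod (MonoidHom.fst (X ⟶ G) (X ⟶ H)) (List.ofFn fun l => pr D e f l (z l))).trans ?_
    rw [List.map_ofFn]; rfl
  · refine (map_list_prod (MonoidHom.snd (X ⟶ G) (X ⟶ H)) (List.ofFn fun l => pr D e f l (z l))).trans ?_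
    rw [List.map_ofFn]; rfl

/-- The coordinate pairs whose first entries are trivial. -/
def Tail (k : ℕ) (X : Over S) : Set ((X ⟶ G) × (X ⟶ H)) :=
  {p | ∃ z : Fin N → (X ⟶ Red.Ga S), (∀ l : Fin N, (l : ℕ) < k → z l = 1) ∧ p = pp D e f z}

variable (hf : ∀ l, IsMonHom (f l))
include hf

theorem pr_mul {X : Over S} (l : Fin N) (a b : X ⟶ Red.Ga S) : pr D e f l (a * b) = pr D e f l a * pr D e f l b := by
  haveI := hf l
  haveI := SplitCell.isMonHom_u D (e l)
  exact Prod.ext (MonObj.mul_comp a b _) (MonObj.mul_comp a b _)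

theorem pr_one {X : Over S} (l : Fin N) : pr D e f l (1 : X ⟶ Red.Ga S) = 1 := by
  haveI := hf l
  haveI := SplitCell.isMonHom_u D (e l)
  exact Prod.ext (MonObj.one_comp _) (MonObj.one_comp _)

theorem one_mem {k : ℕ} (X : Over S) : (1 : (X ⟶ G) × (X ⟶ H)) ∈ Tail D e f k X := by
  refine ⟨fun _ => 1, fun _ _ => rfl, (List.prod_eq_one fun p hp => ?_).symm⟩
  obtain ⟨l, rfl⟩ := List.mem_ofFn.1 hp
  exact pr_one D e f hf l

theorem pp_split {X : Over S} (z : Fin N → (X ⟶ Red.Ga S)) (k : Fin N) (hz : ∀ l, l < k → z l = 1) :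
    pp D e f z = pr D e f k (z k) * pp D e f (Function.update z k 1) := by
  rw [pp, prod_update (fun l => pr D e f l (z l)) k (fun l hl => by rw [hz l hl, pr_one D e f hf]), pp]
  congr 3
  funext l
  rcases eq_or_ne l k with rfl | h
  · rw [Function.update_self, Function.update_self, pr_one D e f hf]
  · rw [Function.update_of_ne h, Function.update_of_ne h]

theorem pr_mem {k : ℕ} {X : Over S} {l : Fin N} (hl : k ≤ (l : ℕ)) (a : X ⟶ Red.Ga S) :
    pr D e f l a ∈ Tail D e f k X := by
  refine ⟨Function.update (fun _ => 1) l a, fun i hi => Function.update_of_ne (fun h => by omega) _ _, ?_⟩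
  rw [pp_split D e f hf _ l (fun i hi => Function.update_of_ne hi.ne _ _), Function.update_self,
    Function.update_idem, Function.update_eq_self l (fun _ => (1 : X ⟶ Red.Ga S))]
  refine (mul_eq_left.2 (List.prod_eq_one fun p hp => ?_)).symm
  obtain ⟨i, rfl⟩ := List.mem_ofFn.1 hp
  exact pr_one D e f hf i

variable [LinearOrder D.M] [IsOrderedAddMonoid D.M] (he : Function.Injective e)
  (hrange : ∀ a : D.idx, a ∈ Set.range e ↔ 0 < D.P.root a) (hmono : StrictMono fun k => D.P.root (e k))
  (σ : Sides D.P) (hσ : ∀ l, e l ∈ σ.pos)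
  (hR : ∀ (X : Over S) (i j : Fin N), i < j → ∀ (a c : X ⟶ Red.Ga S) (z : Fin N → (X ⟶ Red.Ga S)),
    (List.ofFn (fun k => z k ≫ D.u (e k))).prod = (c ≫ D.u (e j)) * (a ≫ D.u (e i)) * (c ≫ D.u (e j))⁻¹ →
      (List.ofFn (fun k => z k ≫ f k)).prod = (c ≫ f j) * (a ≫ f i) * (c ≫ f j)⁻¹)
include he hrange hmono hσ hR

/-- **The coordinate pairs are closed under products.** -/
theorem mul_mem (k : ℕ) : ∀ (X : Over S) (p q : (X ⟶ G) × (X ⟶ H)), p ∈ Tail D e f k X → q ∈ Tail D e f k X →
    p * q ∈ Tail D e f k X := by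
  classical
  suffices h : ∀ m k, N ≤ k + m → ∀ (X : Over S) (p q : (X ⟶ G) × (X ⟶ H)), p ∈ Tail D e f k X → q ∈ Tail D e f k X →
      p * q ∈ Tail D e f k X from h N k (by omega)
  intro m
  induction m with
  | zero =>
    rintro k hk X p q ⟨z, hz, rfl⟩ hq
    rw [show pp D e f z = 1 from List.prod_eq_one fun p hp => by
      obtain ⟨l, rfl⟩ := List.mem_ofFn.1 hp
      rw [hz l (by omega), pr_one D e f hf], _root_.one_mul]
    exact hq
  | succ m ih =>
    intro k hkm X
    rcases Nat.lt_or_ge k N with hk | hk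
    swap
    · exact ih k (by omega) X
    have hmul := ih (k + 1) (by omega) X
    let C : Submonoid ((X ⟶ G) × (X ⟶ H)) :=
      { carrier := Tail D e f (k + 1) X, one_mem' := one_mem D e f hf X, mul_mem' := fun {p q} => hmul p q }
    let k₀ : Fin N := ⟨k, hk⟩
    -- the pair of a commutator
    have hconj : ∀ (j : Fin N), k₀ < j → ∀ (c b : X ⟶ Red.Ga S),
        (pr D e f k₀ b)⁻¹ * pr D e f j c * pr D e f k₀ b ∈ C := by
      intro j hj c b
      obtain ⟨n, ec, hec⟩ := SplitFib.exists_enumerates {d : D.idx | ∃ p q : ℕ, 1 ≤ p ∧ 1 ≤ q ∧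
        D.P.root d = (p : ℤ) • D.P.root (e j) + (q : ℤ) • D.P.root (e k₀)}
      choose i i' hi hi' hii using fun l => hec.2.subset (Set.mem_range_self l)
      obtain ⟨K, hK, -⟩ := existsUnique_coefficients D σ (hσ j) (hσ k₀) ec i i' hec.1
        (fun l => ⟨hi l, hi' l, hii l⟩) (fun d p q hp hq hd => hec.2.symm.subset ⟨p, q, hp, hq, hd⟩)
      let zc : Fin n → (X ⟶ Red.Ga S) := fun l => ptOf (X.hom.appTop (K l) * Red.gaFn c ^ i l * Red.gaFn b ^ i' l)
      have hg := hK X c b zc fun l => gaFn_ptOf _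
      have hl : ∀ l, ∃ t : Fin N, k₀ < t ∧ e t = ec l := fun l => by
        have h1 : 0 < D.P.root (e j) := (hrange _).1 (Set.mem_range_self j)
        have h2 : 0 < D.P.root (e k₀) := (hrange _).1 (Set.mem_range_self k₀)
        have h3 : D.P.root (e j) ≤ (i l : ℤ) • D.P.root (e j) := by
          rw [natCast_zsmul]; simpa using nsmul_le_nsmul_left h1.le (hi l)
        have h4 : D.P.root (e k₀) ≤ (i' l : ℤ) • D.P.root (e k₀) := by
          rw [natCast_zsmul]; simpa using nsmul_le_nsmul_left h2.le (hi' l)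
        have h5 : D.P.root (e k₀) < D.P.root (ec l) := by
          rw [hii l]
          exact lt_of_lt_of_le (lt_add_of_pos_left _ h1) (add_le_add h3 h4)
        obtain ⟨t, ht⟩ := (hrange (ec l)).2 (h2.trans h5)
        exact ⟨t, hmono.lt_iff_lt.1 (by simpa [ht] using h5), ht⟩
      choose t ht het using hl
      have hpm : (List.ofFn fun l => pr D e f (t l) (zc l)).prod ∈ C := list_prod_mem fun p hp => by
        obtain ⟨l, rfl⟩ := List.mem_ofFn.1 hp
        exact pr_mem D e f hf (Nat.succ_le_of_lt (ht l)) _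
      obtain ⟨w, hw, hweq⟩ := hpm
      have hwu : (List.ofFn fun l => w l ≫ D.u (e l)).prod = gcm D (e j) (e k₀) c b := by
        have h := congrArg (MonoidHom.fst (X ⟶ G) (X ⟶ H)) hweq
        rw [map_list_prod, List.map_ofFn, pp_eq] at h
        rw [hg]
        refine Eq.trans h.symm (congrArg List.prod (congrArg List.ofFn (funext fun l => ?_)))
        show zc l ≫ D.u (e (t l)) = zc l ≫ D.u (ec l)
        rw [het]
      let z := Function.update w k₀ b
      have hwk : w k₀ = 1 := hw k₀ (Nat.lt_succ_self k)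
      have hz : pp D e f z = pr D e f k₀ b * pp D e f w := by
        rw [pp_split D e f hf z k₀ (fun l hl => by
          rw [show z l = w l from Function.update_of_ne hl.ne _ _]; exact hw l (Nat.lt_succ_of_lt hl))]
        simp only [z, Function.update_self, Function.update_idem]
        rw [← hwk, Function.update_eq_self]
      have hz' := hz
      rw [pp_eq, pp_eq] at hz'
      have h1 := congrArg Prod.fst hz'
      have h2 := congrArg Prod.snd hz'
      simp only [Prod.fst_mul, Prod.snd_mul, pr] at h1 h2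
      have h3 := hR X k₀ j hj b c z (by
        rw [h1, hwu, gcm]; group)
      rw [h2] at h3
      have key : pp D e f w * pr D e f j c = (pr D e f k₀ b)⁻¹ * pr D e f j c * pr D e f k₀ b := by
        refine Prod.ext ?_ ?_
        · rw [pp_eq]
          show (List.ofFn fun l => w l ≫ D.u (e l)).prod * (c ≫ D.u (e j)) =
            (b ≫ D.u (e k₀))⁻¹ * (c ≫ D.u (e j)) * (b ≫ D.u (e k₀))
          rw [hwu, gcm]; group
        · rw [pp_eq]
          show (List.ofFn fun l => w l ≫ f l).prod * (c ≫ f j) = (b ≫ f k₀)⁻¹ * (c ≫ f j) * (b ≫ f k₀)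
          rw [eq_inv_mul_iff_mul_eq.2 h3]; group
      rw [← key]
      exact hmul _ _ ⟨w, hw, rfl⟩ (pr_mem D e f hf (Nat.succ_le_of_lt hj) c)
    -- conjugation of the tail
    have hC : ∀ (b : X ⟶ Red.Ga S) (r : (X ⟶ G) × (X ⟶ H)), r ∈ C → (pr D e f k₀ b)⁻¹ * r * pr D e f k₀ b ∈ C := by
      rintro b r ⟨z, hz, rfl⟩
      have hmem : pp D e f z ∈ Submonoid.comap (MulAut.conj (pr D e f k₀ b)⁻¹).toMonoidHom C :=
        list_prod_mem fun p hp => by
          obtain ⟨l, rfl⟩ := List.mem_ofFn.1 hp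
          show (pr D e f k₀ b)⁻¹ * _ * (pr D e f k₀ b)⁻¹⁻¹ ∈ C
          rw [_root_.inv_inv]
          by_cases hl : (l : ℕ) < k + 1
          · rw [hz l hl, pr_one D e f hf, _root_.mul_one, inv_mul_cancel]
            exact C.one_mem
          · exact hconj l (show k < (l : ℕ) by omega) _ _
      have h' : (pr D e f k₀ b)⁻¹ * pp D e f z * (pr D e f k₀ b)⁻¹⁻¹ ∈ C := hmem
      rwa [_root_.inv_inv] at h'
    rintro p q ⟨z, hz, rfl⟩ ⟨y, hy, rfl⟩
    have hsplit : ∀ z : Fin N → (X ⟶ Red.Ga S), (∀ l : Fin N, (l : ℕ) < k → z l = 1) →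
        pp D e f z = pr D e f k₀ (z k₀) * pp D e f (Function.update z k₀ 1) ∧
          ∀ l : Fin N, (l : ℕ) < k + 1 → Function.update z k₀ 1 l = 1 := fun z hz => by
      refine ⟨pp_split D e f hf z k₀ fun l hl => hz l hl, fun l hl => ?_⟩
      rcases eq_or_ne l k₀ with rfl | h
      · exact Function.update_self _ _ _
      · rw [Function.update_of_ne h]
        exact hz l (lt_of_le_of_ne (Nat.le_of_lt_succ hl) fun h' => h (Fin.ext h'))
    obtain ⟨z1, z2⟩ := hsplit z hz
    obtain ⟨y1, y2⟩ := hsplit y hy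
    obtain ⟨w, hw, hweq⟩ := hmul _ _ (hC (y k₀) _ ⟨_, z2, rfl⟩) ⟨_, y2, rfl⟩
    refine ⟨Function.update w k₀ (z k₀ * y k₀), fun l hl => ?_, ?_⟩
    · rw [Function.update_of_ne (fun h => by simp [h, k₀] at hl)]
      exact hw l (Nat.lt_succ_of_lt hl)
    · obtain ⟨w1, -⟩ := hsplit (Function.update w k₀ (z k₀ * y k₀)) fun l hl => by
        rw [Function.update_of_ne (fun h => by simp [h, k₀] at hl)]
        exact hw l (Nat.lt_succ_of_lt hl)
      rw [w1, Function.update_self, Function.update_idem, ← hw k₀ (Nat.lt_succ_self k), Function.update_eq_self,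
        pr_mul D e f hf, ← hweq, z1, y1]
      group

end Pairs


/-- Let G be a split reductive S-group (splitting D with root homomorphisms u_a, lattice M), fix a total
order on M compatible with addition, let a_1 < ⋯ < a_N be the positive roots enumerated increasingly
by e, and let f_1, …, f_N : G_a ⟶ H be homomorphisms into an S-group scheme H. Let F be the map
u_{a_1}(x_1) ⋯ u_{a_N}(x_N) ↦ f_1(x_1) ⋯ f_N(x_N) on points of U = U_{a_1} ⋯ U_{a_N}. Then F is
multiplicative if and only if, for all i < j and all points a, c of G_a, F applied to the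
coordinates of u_{a_j}(c) u_{a_i}(a) u_{a_j}(c)⁻¹ equals f_j(c) f_i(a) f_j(c)⁻¹. (The published
statement allows H to be any group functor over S; this row takes H to be a group scheme over S.) -/
theorem result {S : Scheme.{u}} {G H : Over S} [GrpObj G] [GrpObj H]
    (D : Red.SplitRed G) [LinearOrder D.M] [IsOrderedAddMonoid D.M] {N : ℕ} (e : Fin N → D.idx)
    (he : Function.Injective e) (hrange : ∀ a : D.idx, a ∈ Set.range e ↔ 0 < D.P.root a)
    (hmono : StrictMono (fun k => D.P.root (e k))) (f : Fin N → (Red.Ga S ⟶ H)) (hf : ∀ k, IsMonHom (f k)) :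
    (∀ (X : Over S) (x y z : Fin N → (X ⟶ Red.Ga S)),
      (List.ofFn (fun k => z k ≫ D.u (e k))).prod =
          (List.ofFn (fun k => x k ≫ D.u (e k))).prod * (List.ofFn (fun k => y k ≫ D.u (e k))).prod →
        (List.ofFn (fun k => z k ≫ f k)).prod =
          (List.ofFn (fun k => x k ≫ f k)).prod * (List.ofFn (fun k => y k ≫ f k)).prod) ↔
    (∀ (X : Over S) (i j : Fin N), i < j → ∀ (a c : X ⟶ Red.Ga S) (z : Fin N → (X ⟶ Red.Ga S)),
      (List.ofFn (fun k => z k ≫ D.u (e k))).prod = (c ≫ D.u (e j)) * (a ≫ D.u (e i)) * (c ≫ D.u (e j))⁻¹ →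
        (List.ofFn (fun k => z k ≫ f k)).prod = (c ≫ f j) * (a ≫ f i) * (c ≫ f j)⁻¹) := by
  classical
  rcases isEmpty_or_nonempty S with hS | hS
  · constructor <;> intros <;> exact Bruhat.over_hom_eq (fun h => isEmpty_iff.1 hS h.some) _ _
  obtain ⟨B, hB⟩ := Groth.Agent.S5522.result D {a | 0 < D.P.root a}
    (fun a b c ha hb h => by
      show 0 < D.P.root c
      rw [← h]; exact add_pos ha hb)
    (fun a ha h => by
      have h' : 0 < D.P.root (D.P.reflectionPerm a a) := h
      rw [RootSubgrp.root_neg] at h'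
      exact lt_asymm ha (neg_pos.1 h'))
  let σ := sidesOfBase D.P B
  have hσ : ∀ l, e l ∈ σ.pos := fun l => hB ((hrange _).1 (Set.mem_range_self l))
  haveI : ∀ k, IsMonHom (f k) := hf
  have inj : ∀ {X : Over S} {z z' : Fin N → (X ⟶ Red.Ga S)}, (List.ofFn fun k => z k ≫ D.u (e k)).prod =
      (List.ofFn fun k => z' k ≫ D.u (e k)).prod → z = z' := fun h => prod_injective D σ he hσ h
  constructor
  · intro hF X i j hij a c z hz
    have hu : ∀ k, IsMonHom (D.u (e k)) := fun k => SplitCell.isMonHom_u D (e k)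
    have hmul := mul_mem D e (fun k => D.u (e k)) hu he hrange hmono σ hσ (fun _ _ _ _ _ _ _ h => h) 0 X
    obtain ⟨zj, hzj, ej⟩ := pr_mem (k := 0) D e f hf (Nat.zero_le (j : ℕ)) c
    obtain ⟨zi, hzi, ei⟩ := pr_mem (k := 0) D e f hf (Nat.zero_le (i : ℕ)) a
    obtain ⟨w, -, hw⟩ := hmul _ _ (pr_mem D e _ hu (Nat.zero_le (j : ℕ)) c) (pr_mem D e _ hu (Nat.zero_le (i : ℕ)) a)
    rw [pp_eq] at ej ei hw
    have hw1 : (List.ofFn fun k => w k ≫ D.u (e k)).prod = (c ≫ D.u (e j)) * (a ≫ D.u (e i)) :=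
      (congrArg Prod.fst hw).symm
    have ej1 : c ≫ D.u (e j) = _ := congrArg Prod.fst ej
    have ei1 : a ≫ D.u (e i) = _ := congrArg Prod.fst ei
    have ej2 : c ≫ f j = _ := congrArg Prod.snd ej
    have ei2 : a ≫ f i = _ := congrArg Prod.snd ei
    have g1 : (List.ofFn fun k => w k ≫ f k).prod = (c ≫ f j) * (a ≫ f i) :=
      (hF X zj zi w (hw1.trans (congrArg₂ (· * ·) ej1 ei1))).trans (congrArg₂ (· * ·) ej2.symm ei2.symm)
    have g2 : (List.ofFn fun k => w k ≫ f k).prod = (List.ofFn fun k => z k ≫ f k).prod * (c ≫ f j) :=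
      (hF X z zj w (hw1.trans ((inv_mul_cancel_right _ _).symm.trans (congrArg₂ (· * ·) hz.symm ej1)))).trans
        (congrArg (_ * ·) ej2.symm)
    rw [eq_mul_inv_iff_mul_eq, ← g2, g1]
  · intro hR X x y z hz
    obtain ⟨w, -, hw⟩ := mul_mem D e f hf he hrange hmono σ hσ hR 0 X _ _
      ⟨x, fun l h => absurd h (Nat.not_lt_zero _), rfl⟩ ⟨y, fun l h => absurd h (Nat.not_lt_zero _), rfl⟩
    rw [pp_eq, pp_eq, pp_eq] at hw
    have h1 := congrArg Prod.fst hw
    have h2 := congrArg Prod.snd hw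
    rw [inj (hz.trans h1)]
    exact h2.symm

end Groth.Agent.S6108
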