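import Groth.Statements.S6120
import Mathlib.CategoryTheory.Limits.Shapes.Equalizers
import Mathlib.CategoryTheory.Limits.Shapes.Products
-- import your own Groth.Agent.* helpers here

set_option autoImplicit false
set_option linter.style.haveILetI false
open CategoryTheory CategoryTheory.Limits Opposite
universe w v₁ v₂ u₁ u₂
open SGA4

namespace Groth.Agent.S6120

/-- Let `I` be a category with a family of objects `i α` (`α : A`) such that every binary product `i α ⨯
i β` exists in `I` and every object of `I` admits a morphism to some `i α`. Let `F : Iᵒᵖ ⥤ C` be a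
functor, and assume that `C` has equalizers and that the products `∏ F (i α)` and `∏ F (i α ⨯ i β)`
exist in `C`. Then the limit of `F` exists, the canonical map `lim F ⟶ ∏ F (i α)` is a monomorphism,
and a map `t : T ⟶ ∏ F (i α)` factors through `lim F` exactly when its composites with the two maps
`∏ F (i α) ⇉ ∏ F (i α ⨯ i β)` induced by the two projections agree: `lim F` is the equalizer of that
pair. (The published statement assumes that `C` has all limits of the size of `A`; only equalizers
and the two products named are assumed here, which is what the equalizer construction uses.) -/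
theorem result
    {I : Type u₁} [Category.{v₁} I] {C : Type u₂} [Category.{v₂} C] {A : Type w} (i : A → I)
    [∀ α β, HasBinaryProduct (i α) (i β)]
    (hcov : ∀ j : I, ∃ α, Nonempty (j ⟶ i α))
    (F : Iᵒᵖ ⥤ C) [HasEqualizers C]
    [HasProduct (fun α => F.obj (op (i α)))]
    [HasProduct (fun p : A × A => F.obj (op (i p.1 ⨯ i p.2)))] :
    HasLimit F ∧ ∀ [HasLimit F],
      Mono (Pi.lift (fun α => limit.π F (op (i α)))) ∧
      ∀ (T : C) (t : T ⟶ ∏ᶜ (fun α => F.obj (op (i α)))),
        (∃ s : T ⟶ limit F, s ≫ Pi.lift (fun α => limit.π F (op (i α))) = t) ↔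
        t ≫ Pi.lift (fun p : A × A =>
            Pi.π (fun α => F.obj (op (i α))) p.1 ≫ F.map (prod.fst : i p.1 ⨯ i p.2 ⟶ i p.1).op) =
        t ≫ Pi.lift (fun p : A × A =>
            Pi.π (fun α => F.obj (op (i α))) p.2 ≫ F.map (prod.snd : i p.1 ⨯ i p.2 ⟶ i p.2).op) := by
  choose al f using hcov
  have f' : ∀ j, j ⟶ i (al j) := fun j => (f j).some
  let l₁ := Pi.lift (fun p : A × A =>
    Pi.π (fun α => F.obj (op (i α))) p.1 ≫ F.map (prod.fst : i p.1 ⨯ i p.2 ⟶ i p.1).op)
  let l₂ := Pi.lift (fun p : A × A =>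
    Pi.π (fun α => F.obj (op (i α))) p.2 ≫ F.map (prod.snd : i p.1 ⨯ i p.2 ⟶ i p.2).op)
  have indep : ∀ {T : C} (t : T ⟶ ∏ᶜ fun α => F.obj (op (i α))), t ≫ l₁ = t ≫ l₂ →
      ∀ {j : I} {α β : A} (g : j ⟶ i α) (h : j ⟶ i β),
        t ≫ Pi.π _ α ≫ F.map g.op = t ≫ Pi.π _ β ≫ F.map h.op := by
    intro T t ht j α β g h
    have e := congrArg (· ≫ Pi.π _ (α, β)) ht
    simp only [l₁, l₂, Category.assoc, Pi.lift_π] at e
    rw [show g.op = (prod.fst : i α ⨯ i β ⟶ i α).op ≫ (prod.lift g h).op by rw [← op_comp, prod.lift_fst],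
      show h.op = (prod.snd : i α ⨯ i β ⟶ i β).op ≫ (prod.lift g h).op by rw [← op_comp, prod.lift_snd]]
    simp only [F.map_comp, ← Category.assoc] at e ⊢
    rw [e]
  let cne : Cone F :=
    { pt := equalizer l₁ l₂
      π :=
        { app := fun j => equalizer.ι l₁ l₂ ≫ Pi.π _ (al j.unop) ≫ F.map (f' j.unop).op
          naturality := fun j k g => by
            refine (Category.id_comp _).trans ?_
            rw [Category.assoc, Category.assoc, ← F.map_comp]
            exact indep (equalizer.ι l₁ l₂) (equalizer.condition l₁ l₂) (f' k.unop) (g.unop ≫ f' j.unop) } }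
  have hπ : ∀ α, cne.π.app (op (i α)) = equalizer.ι l₁ l₂ ≫ Pi.π _ α := fun α => by
    refine (indep (equalizer.ι l₁ l₂) (equalizer.condition l₁ l₂) (f' (i α)) (𝟙 (i α))).trans ?_
    rw [op_id, F.map_id, Category.comp_id]
  have hs : ∀ s : Cone F, Pi.lift (fun α => s.π.app (op (i α))) ≫ l₁ =
      Pi.lift (fun α => s.π.app (op (i α))) ≫ l₂ := fun s => by
    refine Pi.hom_ext _ _ fun p => ?_
    simp [l₁, l₂]
  let hl : IsLimit cne :=
    { lift := fun s => equalizer.lift (Pi.lift fun α => s.π.app (op (i α))) (hs s)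
      fac := fun s j => by
        show _ ≫ equalizer.ι l₁ l₂ ≫ _ = _
        rw [equalizer.lift_ι_assoc, Pi.lift_π_assoc]
        exact s.w (f' j.unop).op
      uniq := fun s m hm => by
        refine equalizer.hom_ext ?_
        rw [equalizer.lift_ι]
        refine Pi.hom_ext _ _ fun α => ?_
        rw [Pi.lift_π, ← hm, hπ, Category.assoc] }
  refine ⟨⟨⟨⟨cne, hl⟩⟩⟩, fun {_} => ⟨⟨fun a b e => limit.hom_ext fun j => ?_⟩, fun T t => ⟨?_, fun ht => ?_⟩⟩⟩
  · have := congrArg (· ≫ Pi.π (fun α => F.obj (op (i α))) (al j.unop) ≫ F.map (f' j.unop).op) e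
    simpa [limit.w] using this
  · rintro ⟨s, rfl⟩
    rw [Category.assoc, Category.assoc]
    exact congrArg (s ≫ ·) (hs (limit.cone F))
  · let cT : Cone F :=
      { pt := T
        π :=
          { app := fun j => t ≫ Pi.π _ (al j.unop) ≫ F.map (f' j.unop).op
            naturality := fun j k g => by
              refine (Category.id_comp _).trans ?_
              rw [Category.assoc, Category.assoc, ← F.map_comp]
              exact indep t ht (f' k.unop) (g.unop ≫ f' j.unop) } }
    refine ⟨limit.lift F cT, Pi.hom_ext _ _ fun α => ?_⟩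
    rw [Category.assoc, Pi.lift, limit.lift_π]
    show limit.lift F cT ≫ limit.π F _ = _
    rw [limit.lift_π]
    refine (indep t ht (f' (i α)) (𝟙 (i α))).trans ?_
    rw [op_id, F.map_id, Category.comp_id]

end Groth.Agent.S6120
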