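import Groth.Statements.S6121
import Mathlib.CategoryTheory.FiberedCategory.Fibered
import Mathlib.CategoryTheory.FiberedCategory.Fiber
-- import your own Groth.Agent.* helpers here

set_option autoImplicit false
open CategoryTheory
universe v₁ v₂ u₁ u₂
open SGA4

namespace Groth.Agent.S6121

/-- For a fibered functor `p : E ⥤ B` (every morphism of `B` has a cartesian lift with prescribed
codomain, and cartesian morphisms compose), `p` reflects isomorphisms if and only if every fibre
category of `p` (objects over `b`, morphisms lying over the identity of `b`) is a groupoid. -/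
theorem result
    {B : Type u₁} [Category.{v₁} B] {E : Type u₂} [Category.{v₂} E] (p : E ⥤ B) [p.IsFibered] :
    p.ReflectsIsomorphisms ↔ ∀ b : B, IsGroupoid (p.Fiber b) := by
  refine ⟨fun hp b => ⟨fun {x y} f => ?_⟩, fun h => ⟨fun {X Y} f hf => ?_⟩⟩
  · obtain ⟨f, hf⟩ := f
    haveI := hf
    haveI : IsIso (p.map f) := by
      rw [IsHomLift.fac' p (𝟙 b) f]; infer_instance
    haveI := isIso_of_reflects_iso f p
    exact ⟨⟨inv f, inferInstance⟩, Functor.Fiber.hom_ext (by simp [Functor.Fiber.fiberInclusion]),
      Functor.Fiber.hom_ext (by simp [Functor.Fiber.fiberInclusion])⟩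
  · obtain ⟨Z, φ, hφ⟩ := CategoryTheory.IsPreFibered.exists_isCartesian p (rfl : p.obj Y = _) (p.map f)
    haveI : IsIso φ := Functor.IsStronglyCartesian.isIso_of_base_isIso p (p.map f) φ
    haveI := (h (p.obj X)).all_isIso (Functor.Fiber.homMk p (p.obj X)
      (Functor.IsCartesian.map p (p.map f) φ f))
    have hc : IsIso (Functor.IsCartesian.map p (p.map f) φ f) :=
      inferInstanceAs (IsIso (Functor.Fiber.fiberInclusion.map (Functor.Fiber.homMk p (p.obj X)
        (Functor.IsCartesian.map p (p.map f) φ f))))
    rw [← Functor.IsCartesian.fac p (p.map f) φ f]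
    infer_instance

end Groth.Agent.S6121
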