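import Groth.Statements.S6122
import Mathlib.CategoryTheory.FiberedCategory.Fibered
import Mathlib.CategoryTheory.FiberedCategory.Fiber
-- import your own Groth.Agent.* helpers here

set_option autoImplicit false
open CategoryTheory
universe v₁ v₂ u₁ u₂
open SGA4

namespace Groth.Agent.S6122

/-- For a fibered functor `p : E ⥤ B` (every morphism of `B` has a cartesian lift with prescribed
codomain, and cartesian morphisms compose), `p` is faithful if and only if every fibre category of
`p` (objects over `b`, morphisms lying over the identity of `b`) has at most one morphism between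
any two objects. -/
theorem result
    {B : Type u₁} [Category.{v₁} B] {E : Type u₂} [Category.{v₂} E] (p : E ⥤ B) [p.IsFibered] :
    p.Faithful ↔ ∀ (b : B) (x y : p.Fiber b), Subsingleton (x ⟶ y) := by
  refine ⟨fun hp b x y => ⟨fun f g => ?_⟩, fun h => ⟨fun {X Y} f g e => ?_⟩⟩
  · refine Functor.Fiber.hom_ext (p.map_injective ?_)
    haveI := f.2
    haveI := g.2
    exact (IsHomLift.fac' p (𝟙 b) f.1).trans (IsHomLift.fac' p (𝟙 b) g.1).symm
  · obtain ⟨Z, φ, hφ⟩ := CategoryTheory.IsPreFibered.exists_isCartesian p (rfl : p.obj Y = _) (p.map f)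
    haveI : p.IsHomLift (p.map f) g := e ▸ inferInstanceAs (p.IsHomLift (p.map g) g)
    have := (h (p.obj X) _ _).elim
      (Functor.Fiber.homMk p (p.obj X) (Functor.IsCartesian.map p (p.map f) φ f))
      (Functor.Fiber.homMk p (p.obj X) (Functor.IsCartesian.map p (p.map f) φ g))
    have := congrArg Functor.Fiber.fiberInclusion.map this
    rw [← Functor.IsCartesian.fac p (p.map f) φ f, ← Functor.IsCartesian.fac p (p.map f) φ g]
    exact congrArg (· ≫ φ) this

end Groth.Agent.S6122
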