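import Groth.Statements.S6124
import Mathlib.CategoryTheory.Limits.Shapes.Diagonal
-- import your own Groth.Agent.* helpers here

set_option autoImplicit false
open CategoryTheory CategoryTheory.Limits Opposite
universe w v₁ v₂ u₁ u₂
open SGA4

namespace Groth.Agent.S6124

/-- Let `E` have pullbacks, let `P` be a detecting family of objects of `E` (a morphism `f` is
invertible as soon as every map out of an object of `P` factors uniquely through `f`), and let `φ i
: E ⥤ E' i` be functors preserving pullbacks. Then the `φ i` jointly reflect isomorphisms if and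
only if, for every `X` with `P X` and every subobject `X'` of `X` other than `⊤`, some `φ i` takes
the inclusion `X' ⟶ X` to a morphism that is not invertible. -/
theorem result
    {E : Type u₁} [Category.{v₁} E] [HasPullbacks E] (P : ObjectProperty E) (hP : P.IsDetecting)
    {κ : Type w} {E' : κ → Type u₂} [∀ k, Category.{v₂} (E' k)] (φ : ∀ k, E ⥤ E' k)
    [∀ k, PreservesLimitsOfShape WalkingCospan (φ k)] :
    (∀ ⦃X Y : E⦄ (f : X ⟶ Y), (∀ k, IsIso ((φ k).map f)) → IsIso f) ↔
      ∀ (X : E), P X → ∀ (X' : Subobject X), X' ≠ ⊤ → ∃ k, ¬ IsIso ((φ k).map X'.arrow) := by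
  refine ⟨fun h X hX X' hne => ?_, fun h X Y f hf => ?_⟩
  · by_contra hc
    push Not at hc
    haveI := h X'.arrow hc
    exact hne (Subobject.eq_top_of_isIso_arrow X')
  · have key : ∀ ⦃A B : E⦄ (m : A ⟶ B), Mono m → (∀ k, IsIso ((φ k).map m)) → IsIso m := by
      intro A B m _ hm
      apply hP
      intro T hT t
      have hk : ∀ k, IsIso ((φ k).map (pullback.snd m t)) := fun k =>
        haveI := hm k
        ((IsPullback.of_hasPullback m t).map (φ k)).isIso_snd_of_isIso
      have htop : Subobject.mk (pullback.snd m t) = ⊤ := by
        by_contra hne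
        obtain ⟨k, hk'⟩ := h T hT _ hne
        refine hk' ?_
        haveI := hk k
        rw [← Subobject.underlyingIso_hom_comp_eq_mk, Functor.map_comp]
        infer_instance
      haveI := (Subobject.isIso_iff_mk_eq_top _).2 htop
      exact ⟨inv (pullback.snd m t) ≫ pullback.fst m t, by simp [pullback.condition],
        fun a ha => (cancel_mono m).1 (by simp [pullback.condition, ha])⟩
    haveI : Mono f := by
      refine (pullback.isIso_diagonal_iff f).1 (key _ inferInstance fun k => ?_)
      haveI := hf k
      have sq := (IsPullback.of_hasPullback f f).map (φ k)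
      have := sq.isIso_fst_of_mono
      have e : (φ k).map (pullback.diagonal f) ≫ (φ k).map (pullback.fst f f) = 𝟙 _ := by
        rw [← (φ k).map_comp, pullback.diagonal_fst, (φ k).map_id]
      rw [IsIso.eq_inv_of_inv_hom_id e]; infer_instance
    exact key f inferInstance hf

end Groth.Agent.S6124
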