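import Groth.Statements.S6126
import Mathlib.CategoryTheory.EffectiveEpi.Basic
import Mathlib.CategoryTheory.Preadditive.Injective.Basic
-- import your own Groth.Agent.* helpers here

set_option autoImplicit false
set_option linter.style.haveILetI false
open CategoryTheory CategoryTheory.Limits
universe v₁ u₁
open SGA4

namespace Groth.Agent.S6126

/-- Let `E` be a category with `v₁`-small hom-sets admitting a separating family of objects `G t`
indexed by a `v₁`-small type, in which every object admits a monomorphism into an injective object.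
Assume that each coproduct `G t ⨿ G t` exists and that every morphism out of `G t ⨿ G t` factors as
an effective epimorphism followed by a monomorphism. Then `E` admits a coseparating family of
injective objects indexed by a `v₁`-small type. (The published statement moreover bounds the size of
this family in terms of the hom-sets `Hom (G t', G t ⨿ G t)`; only existence is stated here. The
published statement speaks of generating and cogenerating families; its proof uses and produces
joint faithfulness of maps out of, resp. into, the family, which is the sense taken here.) -/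
theorem result
    {E : Type u₁} [Category.{v₁} E] {ι : Type v₁} (G : ι → E)
    (hG : (ObjectProperty.ofObj G).IsSeparating)
    [EnoughInjectives E] [∀ t, HasBinaryCoproduct (G t) (G t)]
    (hfac : ∀ (t : ι) (X : E) (f : G t ⨿ G t ⟶ X),
      ∃ (Y : E) (e : G t ⨿ G t ⟶ Y) (m : Y ⟶ X), EffectiveEpi e ∧ Mono m ∧ e ≫ m = f) :
    ∃ (κ : Type v₁) (H : κ → E),
      (∀ k, Injective (H k)) ∧ (ObjectProperty.ofObj H).IsCoseparating := by
  classical
  let R := Σ t : ι, Set (Σ s : ι, (G s ⟶ G t ⨿ G t) × (G s ⟶ G t ⨿ G t))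
  let P : R → Prop := fun r => ∃ (Y : E) (e : G r.1 ⨿ G r.1 ⟶ Y), EffectiveEpi e ∧ {p | p.2.1 ≫ e = p.2.2 ≫ e} = r.2
  let H : {r : R // P r} → E := fun r => Injective.under r.2.choose
  refine ⟨{r : R // P r}, H, fun r => inferInstanceAs (Injective (Injective.under _)), fun X Z a b hab => ?_⟩
  refine hG a b fun G' ht h => ?_
  obtain ⟨t⟩ := ht
  obtain ⟨Y, e, m, he, hm, hfm⟩ := hfac t Z (coprod.desc (h ≫ a) (h ≫ b))
  let r : {r : R // P r} := ⟨⟨t, {p | p.2.1 ≫ e = p.2.2 ≫ e}⟩, Y, e, he, rfl⟩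
  obtain ⟨e', he', hrel⟩ := r.2.choose_spec
  have hcompat : ∀ {T : E} (g₁ g₂ : T ⟶ G t ⨿ G t), g₁ ≫ e = g₂ ≫ e → g₁ ≫ e' = g₂ ≫ e' := by
    intro T g₁ g₂ hg
    refine hG _ _ fun G' hs k => ?_
    obtain ⟨s⟩ := hs
    have : (⟨s, k ≫ g₁, k ≫ g₂⟩ : Σ s : ι, (G s ⟶ G t ⨿ G t) × (G s ⟶ G t ⨿ G t)) ∈
        {p | p.2.1 ≫ e = p.2.2 ≫ e} := by simp [hg]
    have h' := (Set.ext_iff.1 hrel _).2 this
    simpa using h'
  let d : Y ⟶ r.2.choose := EffectiveEpi.desc e e' hcompat
  have hcompat' : ∀ {T : E} (g₁ g₂ : T ⟶ G t ⨿ G t), g₁ ≫ e' = g₂ ≫ e' → g₁ ≫ e = g₂ ≫ e := by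
    intro T g₁ g₂ hg
    refine hG _ _ fun G' hs k => ?_
    obtain ⟨s⟩ := hs
    have : (⟨s, k ≫ g₁, k ≫ g₂⟩ : Σ s : ι, (G s ⟶ G t ⨿ G t) × (G s ⟶ G t ⨿ G t)) ∈
        {p | p.2.1 ≫ e' = p.2.2 ≫ e'} := by simp [hg]
    have h' := (Set.ext_iff.1 hrel _).1 this
    simpa [r] using h'
  let d' : r.2.choose ⟶ Y := EffectiveEpi.desc e' e hcompat'
  have hd : d ≫ d' = 𝟙 Y := by
    rw [← cancel_epi e, ← Category.assoc, EffectiveEpi.fac, EffectiveEpi.fac, Category.comp_id]
  haveI : Mono d := mono_of_mono_fac hd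
  let j : Y ⟶ H r := d ≫ Injective.ι r.2.choose
  let q : Z ⟶ H r := Injective.factorThru j m
  have hq : m ≫ q = j := Injective.comp_factorThru j m
  have h₁ : (coprod.inl ≫ e) ≫ j = (coprod.inr ≫ e) ≫ j := by
    rw [Category.assoc, Category.assoc, ← hq, ← Category.assoc e, hfm, coprod.inl_desc_assoc,
      coprod.inr_desc_assoc, Category.assoc, Category.assoc, hab _ (ObjectProperty.ofObj_apply H r) q]
  have h₂ := (cancel_mono j).1 h₁
  have h₃ := congrArg (· ≫ m) h₂
  simpa [hfm, coprod.inl_desc, coprod.inr_desc] using h₃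

end Groth.Agent.S6126
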