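import Groth.Statements.S6128
import Mathlib.CategoryTheory.Sites.LocallyBijective
import Mathlib.CategoryTheory.Sites.Localization
import Mathlib.CategoryTheory.Sites.LeftExact
import Mathlib.CategoryTheory.Functor.KanExtension.Adjunction
-- import your own Groth.Agent.* helpers here

set_option autoImplicit false
set_option linter.style.haveILetI false
open CategoryTheory
universe u
open SGA4

namespace Groth.Agent.S6128

/-- Let `u : C ⥤ C'` be a functor between small sites. If the right Kan extension along `u` of the
underlying presheaf of every sheaf of sets on `C` is a sheaf on `C'`, then `u` is cocontinuous: for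
every object `Y` of `C` and every covering sieve `R` of `u Y`, the sieve of morphisms `g : Z ⟶ Y`
with `u g ∈ R` covers `Y`. -/
theorem result
    {C : Type u} [SmallCategory C] {C' : Type u} [SmallCategory C']
    (J : GrothendieckTopology C) (J' : GrothendieckTopology C') (u : C ⥤ C')
    (h : ∀ G : Sheaf J (Type u), Presheaf.IsSheaf J' ((u.op.ran).obj G.obj)) :
    u.IsCocontinuous J J' := by
  refine ⟨fun {Y R} hR => ?_⟩
  have hW' : J'.W R.functorInclusion := by
    rw [GrothendieckTopology.W_iff_isLocallyBijective]
    refine ⟨⟨fun {X} a b e => ?_⟩, ⟨fun {X} f => ?_⟩⟩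
    · obtain rfl : a = b := Subtype.ext e
      exact J'.superset_covering (fun _ _ _ => rfl) (J'.top_mem _)
    · exact J'.superset_covering (fun V g hg => ⟨⟨g ≫ f, hg⟩, rfl⟩) (J'.pullback_stable f hR)
  have hW : J.W (((Functor.whiskeringLeft Cᵒᵖ C'ᵒᵖ (Type u)).obj u.op).map R.functorInclusion) := by
    intro G hG
    let adj := u.op.ranAdjunction (Type u)
    have hloc := hW' ((u.op.ran).obj G) (h ⟨G, hG⟩)
    let e := fun P => adj.homEquiv P G
    have key : (fun k : _ ⟶ G => ((Functor.whiskeringLeft Cᵒᵖ C'ᵒᵖ (Type u)).obj u.op).map R.functorInclusion ≫ k) =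
        (e _).symm ∘ (fun g => R.functorInclusion ≫ g) ∘ (e _) := by
      funext k
      exact ((adj.homEquiv_naturality_left_symm _ _).trans (congrArg (_ ≫ ·) (Equiv.symm_apply_apply _ _))).symm
    rw [key]
    exact (e _).symm.bijective.comp (hloc.comp (e _).bijective)
  rw [GrothendieckTopology.W_iff_isLocallyBijective] at hW
  haveI := hW.2
  refine J.superset_covering ?_ (Presheaf.imageSieve_mem J
    (((Functor.whiskeringLeft Cᵒᵖ C'ᵒᵖ (Type u)).obj u.op).map R.functorInclusion) (U := Opposite.op Y) (𝟙 (u.obj Y)))
  rintro V g ⟨⟨t, ht⟩, e⟩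
  show R (u.map g)
  have e' : t = u.map g := e.trans (Category.comp_id _)
  rw [← e']
  exact ht

end Groth.Agent.S6128
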