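import Groth.Statements.S6129
import Mathlib.CategoryTheory.Functor.KanExtension.Adjunction
import Mathlib.CategoryTheory.Adjunction.FullyFaithful
import Mathlib.CategoryTheory.Limits.Types.Pullbacks
-- import your own Groth.Agent.* helpers here

set_option autoImplicit false
set_option linter.style.haveILetI false
open CategoryTheory CategoryTheory.Limits
universe u
open SGA4

namespace Groth.Agent.S6129

/-- Let `u : C ⥤ C'` be a faithful functor between small categories such that for every object `X` of
`C` the induced functor on over-categories `C/X ⥤ C'/u X` is full and faithful. Then the left Kan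
extension functor `u_!` on presheaves of sets is faithful, the unit `H ⟶ u^* u_! H` of the
adjunction `u_! ⊣ u^*` is a monomorphism for every presheaf `H`, and for every morphism of
presheaves `α : H ⟶ K` the naturality square of the unit at `α` (with sides `α` and `u^* u_! α`) is
cartesian. (The published statement assumes only the condition on the slice functors, and its proof
uses that `u` is faithful; the slice condition alone does not suffice: for a nontrivial group viewed
as a one-object category mapping to the point every slice functor is an equivalence, while `u_!` is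
the orbit-set functor on `G`-sets, which is not faithful, and the unit `G ⟶ G/G` is not a
monomorphism. So `u` is taken faithful here.) -/
theorem result
    {C : Type u} [SmallCategory C] {C' : Type u} [SmallCategory C'] (u : C ⥤ C') [u.Faithful]
    (hu : ∀ X : C, (Over.post (X := X) u).Full ∧ (Over.post (X := X) u).Faithful) :
    (u.op.lan : (Cᵒᵖ ⥤ Type u) ⥤ (C'ᵒᵖ ⥤ Type u)).Faithful ∧
    (∀ H : Cᵒᵖ ⥤ Type u, Mono ((u.op.lanAdjunction (Type u)).unit.app H)) ∧
    ∀ (H K : Cᵒᵖ ⥤ Type u) (α : H ⟶ K),
      IsPullback ((u.op.lanAdjunction (Type u)).unit.app H) α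
        (((Functor.whiskeringLeft Cᵒᵖ C'ᵒᵖ (Type u)).obj u.op).map (u.op.lan.map α))
        ((u.op.lanAdjunction (Type u)).unit.app K) := by
  classical
  let η := (u.op.lanAdjunction (Type u)).unit
  have key : ∀ (H : Cᵒᵖ ⥤ Type u) (X : C), ∃ r : (u.op.lan.obj H).obj (Opposite.op (u.obj X)) → Option (H.obj (Opposite.op X)),
      (∀ a, r ((η.app H).app _ a) = some a) ∧
      ∀ (j : CostructuredArrow u.op (Opposite.op (u.obj X))) (h : H.obj j.left),
        r ((u.op.lan.obj H).map j.hom ((η.app H).app j.left h)) =
          if p : ∃ l : X ⟶ j.left.unop, u.map l = j.hom.unop then some (H.map p.choose.op h) else none := by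
    intro H X
    let hC := u.op.isPointwiseLeftKanExtensionLeftKanExtensionUnit H (Opposite.op (u.obj X))
    let v : ∀ (j : CostructuredArrow u.op (Opposite.op (u.obj X))), H.obj j.left → Option (H.obj (Opposite.op X)) :=
      fun j h => if p : ∃ l : X ⟶ j.left.unop, u.map l = j.hom.unop then some (H.map p.choose.op h) else none
    have nat : ∀ (j j' : CostructuredArrow u.op (Opposite.op (u.obj X))) (φ : j ⟶ j') (h : H.obj j.left),
        v j' (H.map φ.left h) = v j h := by
      intro j j' φ h
      have hw : j'.hom.unop ≫ u.map φ.left.unop = j.hom.unop :=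
        congrArg Quiver.Hom.unop (CostructuredArrow.w φ)
      by_cases p : ∃ l : X ⟶ j.left.unop, u.map l = j.hom.unop
      · have p' : ∃ l : X ⟶ j'.left.unop, u.map l = j'.hom.unop := by
          obtain ⟨l, hl⟩ := p
          haveI := (hu j.left.unop).1
          let k : (Over.post u).obj (Over.mk l) ⟶ (Over.post u).obj (Over.mk φ.left.unop) :=
            Over.homMk j'.hom.unop (hw.trans hl.symm)
          exact ⟨((Over.post u).preimage k).left, congrArg (fun m => CommaMorphism.left m) ((Over.post u).map_preimage k)⟩
        have e : p.choose = p'.choose ≫ φ.left.unop :=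
          u.map_injective (by rw [p.choose_spec, u.map_comp, p'.choose_spec, hw])
        simp only [v, dif_pos p, dif_pos p']
        rw [e, op_comp, Quiver.Hom.op_unop, FunctorToTypes.map_comp_apply]
      · have p' : ¬ ∃ l : X ⟶ j'.left.unop, u.map l = j'.hom.unop := fun ⟨l, hl⟩ =>
          p ⟨l ≫ φ.left.unop, by rw [u.map_comp, hl, hw]⟩
        simp only [v, dif_neg p, dif_neg p']
    let s : Cocone (CostructuredArrow.proj u.op (Opposite.op (u.obj X)) ⋙ H) :=
      { pt := Option (H.obj (Opposite.op X))
        ι := { app := fun j => ↾(v j), naturality := fun j j' φ => by ext h; exact nat j j' φ h } }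
    have hf : ∀ (j : CostructuredArrow u.op (Opposite.op (u.obj X))) (h : H.obj j.left), hC.desc s ((u.op.lan.obj H).map j.hom ((η.app H).app j.left h)) = v j h :=
      fun j h => by
        refine Eq.trans ?_ (ConcreteCategory.congr_hom (hC.fac s j) h)
        simp only [η, Functor.lanAdjunction_unit]
        rfl
    refine ⟨fun x => hC.desc s x, fun a => ?_, hf⟩
    have h₁ := hf (CostructuredArrow.mk (𝟙 (u.op.obj (Opposite.op X)))) a
    have p : ∃ l : X ⟶ X, u.map l = 𝟙 (u.obj X) := ⟨𝟙 X, u.map_id X⟩
    have e : p.choose = 𝟙 X := u.map_injective (p.choose_spec.trans (u.map_id X).symm)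
    simp only [v] at h₁
    erw [FunctorToTypes.map_id_apply, dif_pos p, e, FunctorToTypes.map_id_apply] at h₁
    exact h₁
  choose r hr₁ hr₂ using key
  have inj : ∀ (H : Cᵒᵖ ⥤ Type u) (X : Cᵒᵖ), Function.Injective ((η.app H).app X) := fun H X a b hab =>
    Option.some_injective _ ((hr₁ H X.unop a).symm.trans ((congrArg (r H X.unop) hab).trans (hr₁ H X.unop b)))
  haveI hm : ∀ H, Mono (η.app H) := fun H => by
    haveI : ∀ X, Mono ((η.app H).app X) := fun X => (mono_iff_injective _).2 (inj H X)
    exact NatTrans.mono_of_mono_app _
  refine ⟨(u.op.lanAdjunction (Type u)).faithful_L_of_mono_unit_app, hm, fun H K α => ?_⟩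
  refine ⟨⟨(η.naturality α).symm⟩, ⟨evaluationJointlyReflectsLimits _ fun X => (isLimitMapConePullbackConeEquiv _ _).symm ?_⟩⟩
  refine ((Types.isPullback_iff _ _ _ _).2 ⟨NatTrans.congr_app (η.naturality α).symm X,
    fun a b h => inj H X h.1, fun x k hxk => ?_⟩).isLimit
  obtain ⟨j, h, rfl⟩ := Types.jointly_surjective_of_isColimit
    (u.op.isPointwiseLeftKanExtensionLeftKanExtensionUnit H (u.op.obj X)) x
  have hx : ((u.op.leftKanExtensionUnit H).app j.left ≫ (u.op.leftKanExtension H).map j.hom) h =
      (u.op.lan.obj H).map j.hom ((η.app H).app j.left h) := by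
    simp only [η, Functor.lanAdjunction_unit]
    rfl
  have h₂ : (u.op.lan.map α).app _ ((u.op.lan.obj H).map j.hom ((η.app H).app j.left h)) =
      (u.op.lan.obj K).map j.hom ((η.app K).app j.left (α.app j.left h)) :=
    (ConcreteCategory.congr_hom ((u.op.lan.map α).naturality j.hom) _).trans
      (congrArg _ (ConcreteCategory.congr_hom (NatTrans.congr_app (η.naturality α) j.left) h).symm)
  have h₃ := (congrArg (r K X.unop) (h₂.symm.trans ((congrArg _ hx.symm).trans hxk))).trans (hr₁ K X.unop k)
  have h₄ := (hr₂ K X.unop j (α.app j.left h)).symm.trans h₃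
  by_cases p : ∃ l : X.unop ⟶ j.left.unop, u.map l = j.hom.unop
  · rw [dif_pos p] at h₄
    refine ⟨H.map p.choose.op h, ?_, ?_⟩
    · refine (ConcreteCategory.congr_hom ((η.app H).naturality p.choose.op) h).trans (Eq.trans ?_ hx.symm)
      show (u.op.lan.obj H).map (u.map p.choose).op _ = _
      rw [p.choose_spec]
      rfl
    · exact (ConcreteCategory.congr_hom (α.naturality p.choose.op) h).trans (Option.some_injective _ h₄)
  · rw [dif_neg p] at h₄
    exact absurd h₄ (Option.some_ne_none k).symm

end Groth.Agent.S6129
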