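import Groth.Statements.S6131
import Groth.Agent.TopLib.SheafCoprod
-- import your own Groth.Agent.* helpers here

set_option autoImplicit false
set_option linter.style.haveILetI false
open CategoryTheory CategoryTheory.Limits
universe u
open SGA4

namespace Groth.Agent.S6131

/-- For a small site `(C, J)` and an object `X` of `C`, the sheaf associated to the presheaf represented
by `X` is an initial object of the category of sheaves of sets if and only if the empty sieve covers
`X`. -/
theorem result
    {C : Type u} [SmallCategory C] (J : GrothendieckTopology C) (X : C) :
    Nonempty (IsInitial ((presheafToSheaf J (Type u)).obj (yoneda.obj X))) ↔ (⊥ : Sieve X) ∈ J X := by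
  rw [TopLib.isInitial_sheafify_iff]
  exact ⟨fun h => h X (𝟙 X), fun h W (g : W ⟶ X) => J.superset_covering
    (fun V u (hu : False) => hu.elim) (J.pullback_stable g h)⟩

end Groth.Agent.S6131
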