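import Groth.Statements.S6137
import Mathlib


set_option autoImplicit false
set_option linter.all false
open CategoryTheory CategoryTheory.Limits
universe v u
open SGA4

namespace Groth.Agent.S6137

/-- Let `C` be a category with `v`-small hom-sets admitting all `v`-small limits, and `F : C ⥤ Type v` a
functor. Then `F` is corepresentable if and only if it is pro-representable (viewed as a presheaf on
`Cᵒᵖ` it is an ind-object, i.e. a small filtered colimit of corepresentable functors) and preserves
all `v`-small limits. -/
theorem result
    {C : Type u} [Category.{v} C] [HasLimitsOfSize.{v, v} C] (F : C ⥤ Type v) :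
    F.IsCorepresentable ↔
      IsIndObject (unopUnop C ⋙ F) ∧ PreservesLimitsOfSize.{v, v} F := by
  constructor
  · intro h
    let e := F.coreprW
    refine ⟨?_, preservesLimits_of_natIso e⟩
    let e' : yoneda.obj (Opposite.op F.coreprX) ≅ unopUnop C ⋙ F :=
      NatIso.ofComponents (fun c => (opEquiv _ _).toIso ≪≫ e.app _) (fun {a b} f => by
        ext g
        exact NatTrans.naturality_apply e.hom f.unop.unop g.unop)
    exact ObjectProperty.prop_of_iso (P := IsIndObject) e' (isIndObject_yoneda _)
  · rintro ⟨⟨⟨P⟩⟩, hF⟩
    haveI := hF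
    let B : P.I → F.Elements := fun i => ⟨(P.F.obj i).unop, (P.ι.app i).app (Opposite.op (P.F.obj i)) (𝟙 _)⟩
    have hB : ∀ A : F.Elements, ∃ i, Nonempty (B i ⟶ A) := by
      rintro ⟨c, x⟩
      obtain ⟨i, g, hg⟩ := Types.jointly_surjective _
        (isColimitOfPreserves ((evaluation _ _).obj (Opposite.op (Opposite.op c))) P.isColimit) x
      refine ⟨i, ⟨CategoryOfElements.homMk _ _ g.unop ?_⟩⟩
      have hn := (NatTrans.naturality_apply (P.ι.app i) g.op (𝟙 (P.F.obj i))).symm
      refine hn.trans (Eq.trans ?_ hg)
      exact congrArg (fun t => (P.ι.app i).app (Opposite.op (Opposite.op c)) t) (Category.comp_id g)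
    haveI : HasProducts.{v} F.Elements := fun J => inferInstance
    haveI : HasWideEqualizers.{v} F.Elements := fun J => inferInstance
    obtain ⟨T, hT⟩ := has_weakly_initial_of_weakly_initial_set_and_hasProducts hB
    haveI := hasInitial_of_weakly_initial_and_hasWideEqualizers hT
    obtain ⟨⟨c₀, x₀⟩, hI⟩ : ∃ e : F.Elements, Nonempty (IsInitial e) := ⟨_, ⟨initialIsInitial⟩⟩
    obtain ⟨hI⟩ := hI
    refine Functor.CorepresentableBy.isCorepresentable (X := c₀)
      { homEquiv := fun {c} =>
          { toFun := fun f => F.map f x₀
            invFun := fun x => (hI.to ⟨c, x⟩).val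
            left_inv := fun f => congrArg Subtype.val
              (hI.hom_ext (hI.to ⟨c, F.map f x₀⟩) (CategoryOfElements.homMk _ _ f rfl))
            right_inv := fun x => (hI.to ⟨c, x⟩).property }
        homEquiv_comp := fun g f => ConcreteCategory.congr_hom (F.map_comp f g) x₀ }

end Groth.Agent.S6137
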