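import Groth.Statements.S6138
import Mathlib.CategoryTheory.Limits.Shapes.RegularMono
import Mathlib.CategoryTheory.Limits.Preserves.Shapes.Equalizers
import Mathlib.CategoryTheory.Limits.Types.Limits
-- import your own Groth.Agent.* helpers here

set_option autoImplicit false
set_option linter.style.haveILetI false
open CategoryTheory CategoryTheory.Limits Opposite
universe v u
open SGA4

namespace Groth.Agent.S6138

/-- Let `C` have coequalizers and pullbacks, let `F` be a presheaf of sets on `C` taking coequalizers of
`C` to equalizers, and let `u ∈ F(X)`, viewed as a morphism `h_X ⟶ F`. Then this morphism is a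
monomorphism (the map `v ↦ F(v)(u)` is injective on `Hom(Y, X)` for every `Y`) if and only if `u` is
minimal: whenever `u = F(p)(u')` for an effective epimorphism `p : X ⟶ X'` and some `u' ∈ F(X')`,
`p` is an isomorphism. (Coequalizers are used for one implication and pullbacks for the other; both
are assumed here.) -/
theorem result
    {C : Type u} [Category.{v} C] [HasCoequalizers C] [HasPullbacks C]
    (F : Cᵒᵖ ⥤ Type v) [PreservesLimitsOfShape WalkingParallelPair F]
    {X : C} (u : F.obj (op X)) :
    (∀ (Y : C) (v v' : Y ⟶ X), F.map v.op u = F.map v'.op u → v = v') ↔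
      ∀ (X' : C) (p : X ⟶ X') (u' : F.obj (op X')),
        EffectiveEpi p → F.map p.op u' = u → IsIso p := by
  constructor
  · intro h X' p u' hp hu
    have hmono : ∀ {T : C} (g₁ g₂ : T ⟶ X), g₁ ≫ p = g₂ ≫ p → g₁ = g₂ := fun g₁ g₂ e => h _ g₁ g₂ (by
      rw [← hu]
      simp only [← FunctorToTypes.map_comp_apply, ← op_comp, e])
    let s := EffectiveEpi.desc p (𝟙 X) fun g₁ g₂ e => by rw [hmono g₁ g₂ e]
    have hs : p ≫ s = 𝟙 X := EffectiveEpi.fac p _ _
    exact ⟨s, hs, by rw [← cancel_epi p, reassoc_of% hs, Category.comp_id]⟩
  · intro hmin Y v v' e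
    let π := coequalizer.π v v'
    obtain ⟨u', hu', -⟩ : ∃! u', F.map π.op u' = u := by
      haveI : PreservesLimitsOfShape WalkingParallelPairᵒᵖ F :=
        preservesLimitsOfShape_of_equiv walkingParallelPairOpEquiv F
      have hl := isLimitOfPreserves F (coequalizerIsCoequalizer v v').op
      obtain ⟨t, ht, huniq⟩ := (Types.isLimit_iff _).1 ⟨hl⟩
        (fun j => match j with
          | ⟨.zero⟩ => F.map v.op u
          | ⟨.one⟩ => u)
        (fun {j k} f => by
          obtain ⟨j⟩ := j
          obtain ⟨k⟩ := k
          obtain ⟨g, rfl⟩ : ∃ g : k ⟶ j, g.op = f := ⟨f.unop, rfl⟩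
          cases g with
          | left => rfl
          | right => exact e.symm
          | id =>
            show F.map ((parallelPair v v').map (𝟙 j)).op _ = _
            simp)
      refine ⟨t, ht (op .one), fun t' ht' => huniq t' fun j => ?_⟩
      obtain ⟨_ | _⟩ := j
      · show F.map (v ≫ π).op t' = F.map v.op u
        rw [op_comp, FunctorToTypes.map_comp_apply, ht']
      · exact ht'
    haveI : EffectiveEpi π := (coequalizerRegular v v').effectiveEpi
    haveI := hmin _ π u' inferInstance hu'
    exact (cancel_mono π).1 (coequalizer.condition v v')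

end Groth.Agent.S6138
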