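import Groth.Statements.S6140
import Groth.Agent.TopLib.CanonicalC
import Groth.Agent.TopLib.CommaGiraud
import Mathlib.CategoryTheory.Sites.EffectiveEpimorphic
-- import your own Groth.Agent.* helpers here

set_option autoImplicit false
set_option linter.style.haveILetI false
open CategoryTheory CategoryTheory.Limits
universe u
open SGA4

namespace Groth.Agent.S6140

/-- Let `C` be a small category with pullbacks, `p₁ p₂ : R ⇉ X` an equivalence relation in `C` admitting
a coequalizer cofork `c`, and `ε` the canonical functor to sheaves of sets for the canonical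
topology of `C`. Then the equivalence relation is effective and universal (`R` is the kernel pair of
the quotient map, which is a coequalizer all of whose base changes are effective epimorphisms) if
and only if `ε` takes `c` to a coequalizer of `ε p₁, ε p₂`. (For a small category every topology has
a small topologically generating family, so both implications of the published statement apply. The
published statement asks only that the quotient map have all base changes; this row assumes that `C`
has all pullbacks.) -/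
theorem result
    {C : Type u} [SmallCategory C] [HasPullbacks C] {R X : C} (p₁ p₂ : R ⟶ X)
    (hR : SGA4.IsEquivRel p₁ p₂) (c : Cofork p₁ p₂) (hc : IsColimit c) :
    SGA4.IsEffectiveUniversalEquivRel p₁ p₂ ↔
      Nonempty (IsColimit ((yoneda ⋙ presheafToSheaf (Sheaf.canonicalTopology C) (Type u)).mapCocone c)) := by
  let J := Sheaf.canonicalTopology C
  let F := yoneda ⋙ presheafToSheaf J (Type u)
  let e₀ : J.yoneda ⋙ 𝟭 _ ≅ F :=
    (Functor.isoWhiskerLeft J.yoneda (asIso (sheafificationAdjunction J (Type u)).counit)).symm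
  haveI : F.Full := Functor.Full.of_iso e₀
  haveI : F.Faithful := Functor.Faithful.of_iso e₀
  haveI : PreservesFiniteLimits F := comp_preservesFiniteLimits _ _
  have cover : ∀ {A B : C} (q : A ⟶ B), (∀ (B' : C) (g : B' ⟶ B), EffectiveEpi (pullback.snd q g)) ↔
      Sieve.ofArrows (fun _ : PUnit.{u + 1} => A) (fun _ => q) ∈ J B := by
    intro A B q
    have hs : ∀ {T : C} (f : T ⟶ B), (Sieve.ofArrows (fun _ : PUnit.{u + 1} => A) (fun _ => q)).pullback f =
        Sieve.generate (Presieve.singleton (pullback.snd q f)) := fun f => by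
      rw [Sieve.ofArrows, Presieve.ofArrows_pUnit, ← Presieve.pullback_singleton, Sieve.pullbackArrows_comm]
    constructor
    · intro h
      refine Sheaf.mem_finestTopology_of_forall_isSheafFor ?_
      rintro P ⟨Z, rfl⟩ T f
      rw [hs, ← Presieve.isSheafFor_iff_generate]
      haveI := h T f
      exact Presieve.IsSheafFor.singleton_of_isRepresentable_of_effectiveEpi _ _
    · intro h B' g
      have h' : Sieve.generate (Presieve.singleton (pullback.snd q g)) ∈ J B' := hs g ▸ J.pullback_stable g h
      exact (Sieve.effectiveEpimorphic_singleton _).1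
        ((Sieve.EffectiveEpimorphic.iff_forall_isSheafFor_yoneda _).2
          fun Z => TopLib.yoneda_isSheaf_canonical Z _ h')
  have surj : ∀ {A B : C} (q : A ⟶ B), Sieve.ofArrows (fun _ : PUnit.{u + 1} => A) (fun _ => q) ∈ J B ↔
      Epi (F.map q) := by
    intro A B q
    rw [← Sheaf.isLocallySurjective_iff_epi]
    show _ ↔ Sheaf.IsLocallySurjective ((presheafToSheaf J (Type u)).map (yoneda.map q))
    rw [Presheaf.isLocallySurjective_presheafToSheaf_map_iff]
    constructor
    · intro h
      constructor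
      intro T (t : T ⟶ B)
      refine J.superset_covering ?_ (J.pullback_stable t h)
      rintro V v ⟨_, a, _, ⟨_⟩, ha⟩
      exact ⟨a, ha⟩
    · intro h
      refine J.superset_covering ?_ (Presheaf.imageSieve_mem J (yoneda.map q) (U := Opposite.op B) (𝟙 B))
      rintro V v ⟨a, ha⟩
      exact ⟨_, a, q, ⟨PUnit.unit⟩, ha.trans (Category.comp_id v)⟩
  constructor
  · rintro ⟨B, π, hpb, hpo, hu⟩
    have hc' : IsColimit (Cofork.ofπ π hpb.w) :=
      Cofork.IsColimit.mk _ (fun s => hpo.desc s.π s.π s.condition) (fun s => hpo.inl_desc _ _ _)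
        fun s m hm => hpo.hom_ext (hm.trans (hpo.inl_desc _ _ _).symm) (hm.trans (hpo.inr_desc _ _ _).symm)
    haveI : Epi (F.map π) := (surj π).1 ((cover π).1 hu)
    haveI := IsRegularEpiCategory.regularEpiOfEpi (F.map π)
    have hk : IsKernelPair (F.map π) (F.map p₁) (F.map p₂) := hpb.map F
    have hF : IsColimit (F.mapCocone (Cofork.ofπ π hpb.w)) :=
      (isColimitMapCoconeCoforkEquiv F hpb.w).symm (hk.toCoequalizer (IsRegularEpi.getStruct _))
    exact ⟨hF.ofIsoColimit ((Cocone.functoriality _ F).mapIso (hc'.uniqueUpToIso hc))⟩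
  · rintro ⟨h⟩
    have hw : p₁ ≫ c.π = p₂ ≫ c.π := c.condition
    have hw' : F.map p₁ ≫ F.map c.π = F.map p₂ ≫ F.map c.π := by rw [← F.map_comp, hw, F.map_comp]
    have hF : IsColimit (Cofork.ofπ (F.map c.π) hw') :=
      isColimitMapCoconeCoforkEquiv F hw (h.ofIsoColimit ((Cocone.functoriality _ F).mapIso (Cofork.isoCoforkOfπ c)))
    haveI : Epi (F.map c.π) := epi_of_isColimit_cofork hF
    obtain ⟨d, hd₁, hd₂⟩ := (hR X).2.refl (𝟙 X)
    have hY : SGA4.IsEquivRel (yoneda.map p₁) (yoneda.map p₂) := by
      intro T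
      refine ⟨fun f g e => ?_, fun a => ?_, ?_, ?_⟩
      · ext W x
        exact (hR W.unop).1 (Prod.ext
          (ConcreteCategory.congr_hom (NatTrans.congr_app (congrArg Prod.fst e) W) x)
          (ConcreteCategory.congr_hom (NatTrans.congr_app (congrArg Prod.snd e) W) x))
      · exact ⟨a ≫ yoneda.map d, by simp [← Functor.map_comp, hd₁], by simp [← Functor.map_comp, hd₂]⟩
      · rintro a b ⟨f, rfl, rfl⟩
        obtain ⟨s, h₁, h₂⟩ := (hR R).2.symm ⟨𝟙 R, Category.id_comp p₁, Category.id_comp p₂⟩
        exact ⟨f ≫ yoneda.map s, by simp [← Functor.map_comp, h₁], by simp [← Functor.map_comp, h₂]⟩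
      · rintro a b e ⟨f, rfl, rfl⟩ ⟨g, hg, rfl⟩
        obtain ⟨t, h₁, h₂⟩ := (hR _).2.trans
          ⟨pullback.fst p₂ p₁, rfl, rfl⟩
          ⟨pullback.snd p₂ p₁, (pullback.condition (f := p₂) (g := p₁)).symm, rfl⟩
        have hp := (IsPullback.of_hasPullback p₂ p₁).map yoneda
        refine ⟨hp.lift f g hg.symm ≫ yoneda.map t, ?_, ?_⟩
        · rw [Category.assoc, ← Functor.map_comp, h₁, Functor.map_comp, hp.lift_fst_assoc]
        · rw [Category.assoc, ← Functor.map_comp, h₂, Functor.map_comp, hp.lift_snd_assoc]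
    obtain ⟨B, π, hpb, hpo, -⟩ :=
      TopLib.sheaf_equiv J (F.obj R) (F.obj X) (F.map p₁) (F.map p₂)
        (TopLib.isEquivRel_map hY (presheafToSheaf J (Type u)))
    refine ⟨c.pt, c.π, IsPullback.of_map F hw ?_, ⟨⟨hw⟩, ⟨PushoutCocone.isColimitAux' _ fun s => ?_⟩⟩,
      (cover c.π).2 ((surj c.π).2 inferInstance)⟩
    · obtain ⟨t, ht⟩ := Cofork.IsColimit.desc' hF π (hpb.w : F.map p₁ ≫ π = F.map p₂ ≫ π)
      let t' : B ⟶ F.obj c.pt := hpo.desc (F.map c.π) (F.map c.π) (by rw [← F.map_comp, hw, F.map_comp])
      have h₁ : t' ≫ t = 𝟙 B := hpo.hom_ext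
        (by rw [hpo.inl_desc_assoc, Category.comp_id]; exact ht)
        (by rw [hpo.inr_desc_assoc, Category.comp_id]; exact ht)
      have h₂ : t ≫ t' = 𝟙 _ := Cofork.IsColimit.hom_ext hF (by
        erw [reassoc_of% ht, hpo.inl_desc, Category.comp_id]
        rfl)
      exact hpb.of_iso (Iso.refl _) (Iso.refl _) (Iso.refl _) ⟨t', t, h₁, h₂⟩
        (by simp) (by simp) (by simp [t']) (by simp [t'])
    · have he : s.inl = s.inr := by
        have := congrArg (d ≫ ·) s.condition
        simp only [reassoc_of% hd₁, reassoc_of% hd₂] at this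
        exact this
      obtain ⟨l, hl⟩ := Cofork.IsColimit.desc' hc s.inl (by rw [s.condition, ← he])
      refine ⟨l, hl, hl.trans he, fun {m} hm _ => Cofork.IsColimit.hom_ext hc (hm.trans hl.symm)⟩

end Groth.Agent.S6140
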