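import Groth.Statements.S6141
import Mathlib.CategoryTheory.Adjunction.Triple
import Mathlib.CategoryTheory.Sites.CoverLifting
import Mathlib.CategoryTheory.Sites.Pullback
-- import your own Groth.Agent.* helpers here

set_option autoImplicit false
set_option linter.style.haveILetI false
open CategoryTheory
universe u
open SGA4

namespace Groth.Agent.S6141

/-- Let `u : C ⥤ C'` be a functor between small sites which is continuous and cocontinuous. If `u` is
full and faithful, then the left adjoint `u_!` of the restriction functor `u^*` on sheaves of sets
is full and faithful. -/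
theorem result
    {C : Type u} [SmallCategory C] {C' : Type u} [SmallCategory C']
    (J : GrothendieckTopology C) (K : GrothendieckTopology C') (u : C ⥤ C')
    [u.IsContinuous J K] [u.IsCocontinuous J K] [u.Full] [u.Faithful] :
    (u.sheafPullback (Type u) J K).Full ∧ (u.sheafPullback (Type u) J K).Faithful := by
  let adj₁ := u.sheafAdjunctionContinuous (Type u) J K
  let adj₂ := u.sheafAdjunctionCocontinuous (Type u) J K
  haveI : ∀ F, IsIso (adj₂.counit.app F) := fun F => by
    haveI : IsIso ((sheafToPresheaf J (Type u)).map (adj₂.counit.app F)) := by
      show IsIso (adj₂.counit.app F).hom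
      rw [u.sheafAdjunctionCocontinuous_counit_app_hom]
      rw [Functor.ranAdjunction_counit]
      haveI : u.op.HasPointwiseRightKanExtension F.obj := inferInstance
      haveI : u.op.Full := inferInstance
      haveI : u.op.Faithful := inferInstance
      haveI h : ∀ X, IsIso ((u.op.ranCounit.app F.obj).app X) := fun X =>
        (u.op.isPointwiseRightKanExtensionRanCounit F.obj (u.op.obj X)).isIso_hom_app
      exact @NatIso.isIso_of_isIso_app _ _ _ _ _ _ _ h
    exact isIso_of_reflects_iso _ (sheafToPresheaf J (Type u))
  haveI : IsIso adj₂.counit := NatIso.isIso_of_isIso_app _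
  let t : Adjunction.Triple (u.sheafPullback (Type u) J K) _ _ := ⟨adj₁, adj₂⟩
  let hF := t.fullyFaithfulEquiv.symm adj₂.fullyFaithfulROfIsIsoCounit
  exact ⟨hF.full, hF.faithful⟩

end Groth.Agent.S6141
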