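import Groth.Statements.S6142
import Mathlib.CategoryTheory.Sites.Pullback
import Mathlib.CategoryTheory.Sites.Canonical
-- import your own Groth.Agent.* helpers here

set_option autoImplicit false
set_option linter.style.haveILetI false
open CategoryTheory
universe u
open SGA4

namespace Groth.Agent.S6142

/-- Let `u : C ⥤ C'` be a continuous and cocontinuous functor between small sites whose topologies are
subcanonical. If the left adjoint `u_!` of the restriction functor `u^*` on sheaves of sets is full
and faithful, then `u` is full and faithful. -/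
theorem result
    {C : Type u} [SmallCategory C] {C' : Type u} [SmallCategory C']
    (J : GrothendieckTopology C) (K : GrothendieckTopology C') [J.Subcanonical] [K.Subcanonical]
    (u : C ⥤ C') [u.IsContinuous J K] [u.IsCocontinuous J K]
    (h : (u.sheafPullback (Type u) J K).Full ∧ (u.sheafPullback (Type u) J K).Faithful) :
    u.Full ∧ u.Faithful := by
  haveI := h.1
  haveI := h.2
  let adj := u.sheafAdjunctionContinuous (Type u) J K
  suffices key : ∀ X Y : C, Function.Bijective fun f : X ⟶ Y => u.map f from
    ⟨⟨fun {X Y} => (key X Y).2⟩, ⟨fun {X Y} => (key X Y).1⟩⟩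
  intro X Y
  let G := K.yoneda.obj (u.obj Y)
  let η : J.yoneda.obj Y ⟶ (u.sheafPushforwardContinuous (Type u) J K).obj G :=
    ⟨{ app := fun W => ↾fun f => u.map f
       naturality := fun W W' g => by ext f; exact u.map_comp _ _ }⟩
  let θ := (adj.homEquiv _ _).symm η
  let e : ∀ T : Sheaf K (Type u), (G ⟶ T) ≃ T.obj.obj (Opposite.op (u.obj Y)) := fun T =>
    (fullyFaithfulSheafToPresheaf K (Type u)).homEquiv.trans CategoryTheory.yonedaEquiv
  let e' : ∀ T : Sheaf K (Type u), (J.yoneda.obj Y ⟶ (u.sheafPushforwardContinuous (Type u) J K).obj T) ≃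
      T.obj.obj (Opposite.op (u.obj Y)) := fun T =>
    (fullyFaithfulSheafToPresheaf J (Type u)).homEquiv.trans CategoryTheory.yonedaEquiv
  haveI : IsIso θ := by
    refine isIso_of_coyoneda_map_bijective θ fun T => ?_
    have hfun : (fun x : G ⟶ T => θ ≫ x) = (adj.homEquiv _ T).symm ∘ (e' T).symm ∘ (e T) := by
      funext g
      apply (adj.homEquiv _ _).injective
      rw [Adjunction.homEquiv_naturality_right]
      simp only [Function.comp_apply, Equiv.apply_symm_apply, θ]
      apply (e' T).injective
      rw [Equiv.apply_symm_apply]
      exact congrArg (g.hom.app _) (u.map_id Y)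
    rw [hfun]
    exact (adj.homEquiv _ _).symm.bijective.comp ((e' T).symm.bijective.comp (e T).bijective)
  have hη : η = adj.unit.app _ ≫ (u.sheafPushforwardContinuous (Type u) J K).map θ := by
    refine Eq.trans ?_ (adj.homEquiv_unit _ _ θ)
    exact ((adj.homEquiv _ _).apply_symm_apply η).symm
  haveI : IsIso η := hη ▸ inferInstance
  haveI : IsIso ((sheafToPresheaf J (Type u)).map η) := inferInstance
  haveI : IsIso (((sheafToPresheaf J (Type u)).map η).app (Opposite.op X)) := inferInstance
  exact (isIso_iff_bijective _).1 this

end Groth.Agent.S6142
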