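import Groth.Statements.S6144
import Mathlib.CategoryTheory.Generator.Basic
import Mathlib.Logic.Small.Set
import Mathlib.CategoryTheory.Limits.Shapes.Diagonal
-- import your own Groth.Agent.* helpers here

set_option autoImplicit false
set_option linter.style.haveILetI false
open CategoryTheory CategoryTheory.Limits
universe w v u
open SGA4

namespace Groth.Agent.S6144

/-- Let `E` be a category with `v`-small hom-sets and pullbacks, admitting a detecting family of objects
indexed by a `v`-small type (maps out of the family jointly reflect isomorphisms). Then every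
detecting family `Y : I → E`, indexed by an arbitrary type, contains a detecting subfamily indexed
by a `v`-small subset of `I`. -/
theorem result
    {E : Type u} [Category.{v} E] [HasPullbacks E] {κ : Type v} (G : κ → E)
    (hG : (ObjectProperty.ofObj G).IsDetecting) {I : Type w} (Y : I → E)
    (hY : (ObjectProperty.ofObj Y).IsDetecting) :
    ∃ J : Set I, Small.{v} J ∧ (ObjectProperty.ofObj (fun j : J => Y j)).IsDetecting := by
  classical
  haveI : WellPowered.{v} E := wellPowered_of_isDetecting hG
  let Idx := Σ k : κ, {S : Subobject (G k) // ∃ (i : I) (g : Y i ⟶ G k), ¬ S.Factors g}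
  haveI : Small.{v} Idx := inferInstance
  let J : Set I := Set.range fun p : Idx => p.2.2.choose
  refine ⟨J, small_range _, ?_⟩
  have key : ∀ {Z W : E} (m : Z ⟶ W) [Mono m],
      (∀ (j : J) (h : Y j ⟶ W), ∃ h', h' ≫ m = h) → IsIso m := by
    intro Z W m _ hm
    refine hG m fun G' hk g => ?_
    obtain ⟨k⟩ := hk
    have hiso : IsIso (pullback.snd m g) := by
      refine hY _ fun Y' hi h => ?_
      obtain ⟨i⟩ := hi
      suffices hfac : (Subobject.mk (pullback.snd m g)).Factors h from
        have ⟨q, hq⟩ := (Subobject.mk_factors_iff _ _).1 hfac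
        ⟨q, hq, fun q' hq' => (cancel_mono (pullback.snd m g)).1 (hq'.trans hq.symm)⟩
      by_contra hcon
      let p : Idx := ⟨k, Subobject.mk (pullback.snd m g), i, h, hcon⟩
      obtain ⟨g₀, hg₀⟩ := p.2.2.choose_spec
      obtain ⟨q, hq⟩ := hm ⟨_, p, rfl⟩ (g₀ ≫ g)
      exact hg₀ ((Subobject.mk_factors_iff _ _).2 ⟨pullback.lift q g₀ hq, pullback.lift_snd _ _ _⟩)
    refine ⟨inv (pullback.snd m g) ≫ pullback.fst m g, by simp [pullback.condition], fun q hq => ?_⟩
    exact (cancel_mono m).1 (hq.trans (by simp [pullback.condition]))
  intro Z W f hf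
  haveI hdiag : IsIso (pullback.diagonal f) := key _ fun j h => by
    refine ⟨h ≫ pullback.fst f f, ?_⟩
    apply pullback.hom_ext
    · simp
    · simp only [Category.assoc, pullback.diagonal_snd, Category.comp_id]
      exact (hf _ (ObjectProperty.ofObj_apply (fun j : J => Y j) j) (h ≫ pullback.fst f f ≫ f)).unique (Category.assoc _ _ _)
        (by rw [Category.assoc, ← pullback.condition])
  haveI : Mono f := (pullback.isIso_diagonal_iff f).1 hdiag
  exact key f fun j h => (hf _ (ObjectProperty.ofObj_apply (fun j : J => Y j) j) h).exists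

end Groth.Agent.S6144
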