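import Groth.Statements.S6149
import Groth.Agent.ModSiteLib.FlatExact
-- import your own Groth.Agent.* helpers here

set_option autoImplicit false
set_option linter.style.haveILetI false
universe u
open CategoryTheory
open ModSite

namespace Groth.Agent.S6149

open CategoryTheory.Limits in
/-- Ringed topos of sheaves on a small site with commutative structure sheaf O: let M be an acyclic
chain complex of flat O-modules with M_i = 0 for i below some bound. Then for every O-module F the
complex M (x)_O F (tensoring termwise with F) is acyclic. The instance binder on the tensor functor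
(it preserves zero morphisms) always holds and is only needed to form the complex. -/
theorem result {C : Type u} [SmallCategory C] {J : GrothendieckTopology C}
    (O : Sheaf J CommRingCat.{u}) (M : ChainComplex (ModSite.Mod O) ℤ) (F : ModSite.Mod O)
    [((ModSite.tensorBi O).flip.obj F).PreservesZeroMorphisms]
    (hb : ∃ i₀ : ℤ, ∀ i, i < i₀ → IsZero (M.X i)) (hM : ∀ i, ModSite.IsFlat (M.X i)) (hac : M.Acyclic) :
    ((((ModSite.tensorBi O).flip.obj F).mapHomologicalComplex (ComplexShape.down ℤ)).obj M).Acyclic := by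
  obtain ⟨i₀, hb⟩ := hb
  let T := (ModSite.tensorBi O).flip.obj F
  let S : ℤ → ShortComplex (ModSite.Mod O) := fun i => ShortComplex.mk (M.iCycles i)
    (M.toCycles i (i - 1)) (by
      rw [← cancel_mono (M.iCycles (i - 1)), Category.assoc, HomologicalComplex.toCycles_i, zero_comp,
        HomologicalComplex.iCycles_d])
  have hepi : ∀ i, Epi (M.toCycles i (i - 1)) := fun i => by
    rw [CategoryTheory.epi_iff_surjective_up_to_refinements]
    intro W a
    have h := (M.exactAt_iff' i (i - 1) (i - 1 - 1) (by simp) (by simp)).1 (hac (i - 1))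
    obtain ⟨W', e, he, y, hy⟩ := h.exact_up_to_refinements (a ≫ M.iCycles (i - 1)) (by
      show (a ≫ M.iCycles (i - 1)) ≫ M.d (i - 1) (i - 1 - 1) = 0
      rw [Category.assoc, HomologicalComplex.iCycles_d, comp_zero])
    refine ⟨W', e, he, y, ?_⟩
    rw [← cancel_mono (M.iCycles (i - 1)), Category.assoc, Category.assoc, HomologicalComplex.toCycles_i]
    exact hy
  have hS : ∀ i, (S i).ShortExact := fun i =>
    { exact := ShortComplex.exact_of_f_is_kernel _
        (KernelFork.IsLimit.ofι' _ _ (fun {W} k hk => ⟨M.liftCycles k (i - 1) (by simp) (by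
          have := congrArg (· ≫ M.iCycles (i - 1)) hk
          simpa [S, Category.assoc] using this), M.liftCycles_i _ _ _ _⟩))
      mono_f := inferInstanceAs (Mono (M.iCycles i))
      epi_g := hepi i }
  have hflat : ∀ i, ModSite.IsFlat (M.cycles i) := by
    have key : ∀ (k : ℕ) (i : ℤ), i < i₀ + k → ModSite.IsFlat (M.cycles i) := by
      intro k
      induction k with
      | zero =>
        intro i hi
        have hz : IsZero (M.cycles i) := (hb i (by omega)).of_mono (M.iCycles i)
        exact _root_.ModSiteLib.isFlat_of_iso O ((hb i (by omega)).iso hz) (hM i)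
      | succ k ih =>
        intro i hi
        exact _root_.ModSiteLib.isFlat_X₁ (hS i) (hM i) (ih (i - 1) (by omega))
    intro i
    exact key ((i - i₀).toNat + 1) i (by omega)
  intro i
  rw [HomologicalComplex.exactAt_iff' _ (i + 1) i (i - 1) (by simp) (by simp)]
  have hT := fun i => _root_.ModSiteLib.shortExact_tensor (hS i) (hflat (i - 1)) F
  haveI : Mono (T.map (M.iCycles (i - 1))) := (hT (i - 1)).mono_f
  haveI : Epi (T.map (M.toCycles (i + 1) i)) := by
    have h : i + 1 - 1 = i := by omega
    have h2 : Epi (T.map (M.toCycles (i + 1) (i + 1 - 1))) := (hT (i + 1)).epi_g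
    rwa [h] at h2
  let S₁ : ShortComplex (ModSite.Mod O) := ShortComplex.mk (T.map (M.d (i + 1) i))
    (T.map (M.toCycles i (i - 1))) (by
      rw [← T.map_comp, show M.d (i + 1) i ≫ M.toCycles i (i - 1) = 0 by
        rw [← cancel_mono (M.iCycles (i - 1)), Category.assoc, HomologicalComplex.toCycles_i,
          HomologicalComplex.d_comp_d, zero_comp], T.map_zero])
  let φ : S₁ ⟶ (S i).map T :=
    { τ₁ := T.map (M.toCycles (i + 1) i)
      τ₂ := 𝟙 _
      τ₃ := 𝟙 _
      comm₁₂ := by
        show T.map _ ≫ T.map (M.iCycles i) = T.map (M.d (i + 1) i) ≫ 𝟙 _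
        rw [← T.map_comp, HomologicalComplex.toCycles_i, Category.comp_id]
      comm₂₃ := (Category.id_comp _).trans (Category.comp_id _).symm }
  haveI : Epi φ.τ₁ := ‹Epi (T.map (M.toCycles (i + 1) i))›
  haveI : IsIso φ.τ₂ := show IsIso (𝟙 _) from inferInstance
  haveI : Mono φ.τ₃ := show Mono (𝟙 _) from inferInstance
  have h₁ : S₁.Exact := (ShortComplex.exact_iff_of_epi_of_isIso_of_mono φ).2 (hT i).exact
  let ψ : S₁ ⟶ ((T.mapHomologicalComplex (ComplexShape.down ℤ)).obj M).sc' (i + 1) i (i - 1) :=
    { τ₁ := 𝟙 _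
      τ₂ := 𝟙 _
      τ₃ := T.map (M.iCycles (i - 1))
      comm₁₂ := (Category.id_comp _).trans (Category.comp_id _).symm
      comm₂₃ := by
        show 𝟙 _ ≫ T.map (M.d i (i - 1)) = T.map _ ≫ T.map (M.iCycles (i - 1))
        rw [← T.map_comp, HomologicalComplex.toCycles_i, Category.id_comp] }
  haveI : Mono ψ.τ₃ := ‹Mono (T.map (M.iCycles (i - 1)))›
  haveI : Epi ψ.τ₁ := show Epi (𝟙 _) from inferInstance
  haveI : IsIso ψ.τ₂ := show IsIso (𝟙 _) from inferInstance
  exact (ShortComplex.exact_iff_of_epi_of_isIso_of_mono ψ).1 h₁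

end Groth.Agent.S6149
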