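import Groth.Statements.S6159
import Groth.Agent.TopLib.CanonicalSheaf
import Mathlib.CategoryTheory.Limits.Preserves.Ulift
import Mathlib.CategoryTheory.Limits.Preserves.Opposites
-- import your own Groth.Agent.* helpers here

set_option autoImplicit false
set_option linter.style.haveILetI false
universe u
open CategoryTheory
open SGA4

namespace Groth.Agent.S6159

open CategoryTheory.Limits in
/-- Sheaf topoi on small sites (C, J), (D, K), each with its canonical topology: a functor f from
sheaves of sets on C to sheaves of sets on D commutes with all u-small colimits if and only if it is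
continuous, i.e. composition with f carries every sheaf of sets for the canonical topology of the
target to a sheaf for the canonical topology of the source. (Continuity is Mathlib's
`Functor.IsContinuous`: on these large sites it tests sheaves with values in the next universe,
`Type (u+1)`, which is the source's choice of a larger universe for the test sheaves; the hom
universe is u. The equivalence of both conditions with f being a left adjoint is a separate result,
not stated here.) -/
theorem result {C D : Type u} [SmallCategory C] [SmallCategory D]
    (J : GrothendieckTopology C) (K : GrothendieckTopology D) (f : Sheaf J (Type u) ⥤ Sheaf K (Type u)) :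
    PreservesColimitsOfSize.{u, u} f ↔
      f.IsContinuous.{u} (Sheaf.canonicalTopology (Sheaf J (Type u))) (Sheaf.canonicalTopology (Sheaf K (Type u))) := by
  constructor
  · intro h
    refine ⟨fun G => ?_⟩
    haveI := TopLib.preservesLimitsOfSize_of_sheaf G.obj ((isSheaf_iff_isSheaf_of_type _ _).1 G.property)
    haveI := preservesLimitsOfSize_op f
    exact TopLib.isSheaf_of_preservesLimitsOfSize (f.op ⋙ G.obj)
  · intro h
    haveI : PreservesLimitsOfSize.{u, u} f.op := by
      refine ⟨fun {T} _ => ⟨fun {D} => ⟨fun {c} hc => ⟨coyonedaJointlyReflectsLimits _ _ fun X => ?_⟩⟩⟩⟩
      let P := coyoneda.obj X ⋙ uliftFunctor.{u + 1, u}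
      let G : Sheaf (Sheaf.canonicalTopology (Sheaf K (Type u))) (Type (u + 1)) :=
        ⟨P, (isSheaf_iff_isSheaf_of_type _ _).2 (TopLib.isSheaf_of_preservesLimitsOfSize P)⟩
      haveI := TopLib.preservesLimitsOfSize_of_sheaf (f.op ⋙ P)
        (Functor.IsContinuous.op_comp_isSheaf_of_types (F := f) G)
      exact isLimitOfReflects uliftFunctor.{u + 1, u} (isLimitOfPreserves (f.op ⋙ P) hc)
    exact preservesColimitsOfSize_of_op f

end Groth.Agent.S6159
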