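import Groth.Statements.S6162
import Groth.Agent.CohLib.Leray

set_option autoImplicit false
universe u
open CategoryTheory
open CohSite

namespace Groth.Agent.S6162

open CategoryTheory.Limits in
/-- Existence form of the Leray spectral sequence; abelian sheaves on small sites: let u : D -> C be a
continuous functor between small sites whose pullback on sheaves of sets is exact (a morphism of
topoi), u_* M = M o u the direct image and R^q u_* its right derived functors. For an abelian sheaf
M on C and an object V of D there is an E_2 spectral sequence of abelian groups, bounded, with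
E_2^{p,q} isomorphic to H^p(V, R^q u_* M) for p, q >= 0 and zero otherwise, together with abutment
data whose filtrations are finite on H^n(u(V), M) (n >= 0; zero for n < 0). The E_2 identifications
and the abutment isomorphisms are asserted to exist only; they are not pinned to the canonical maps
of the construction, so edge maps and low-degree exact sequences are not part of this statement. -/
theorem result {C D : Type u} [SmallCategory C] [SmallCategory D]
    (J : GrothendieckTopology C) (K : GrothendieckTopology D) (u : D ⥤ C) [u.IsContinuous K J]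
    [PreservesFiniteLimits (u.sheafPullback (Type u) K J)] (M : Sheaf J AddCommGrpCat.{u}) (V : D) :
    ∃ (E : E₂CohomologicalSpectralSequence AddCommGrpCat.{u})
      (a : SpSeq.Abutment E (fun n : ℤ =>
        if 0 ≤ n then AddCommGrpCat.of (CohSite.HU M n.toNat (u.obj V)) else AddCommGrpCat.of PUnit.{u + 1})),
      (∀ n, a.IsFinite n) ∧ SpSeq.IsBounded E ∧
      ∀ p q : ℤ, Nonempty ((E.page 2 le_rfl).X (p, q) ≅
        (if 0 ≤ p ∧ 0 ≤ q then AddCommGrpCat.of (CohSite.HU ((CohSite.Rpush J K u q.toNat).obj M) p.toNat V)
         else AddCommGrpCat.of PUnit.{u + 1})) := by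
  letI := HasDerivedCategory.standard (Sheaf K AddCommGrpCat.{u})
  let H : ℤ → AddCommGrpCat.{u} := fun n =>
    if 0 ≤ n then AddCommGrpCat.of (CohSite.HU M n.toNat (u.obj V)) else AddCommGrpCat.of PUnit.{u + 1}
  let Z := (presheafToSheaf K AddCommGrpCat.{u}).obj (yoneda.obj V ⋙ AddCommGrpCat.free.{u})
  let T := CohSite.push J K u
  let R : InjectiveResolution M := injectiveResolution M
  obtain ⟨E, a, h₁, h₂, h₃, h₄⟩ := SpSeqLib.exists_grothendieck_spectralSequence
    (preadditiveCoyoneda.obj (Opposite.op Z)) T
    (fun Q hQ q hq => by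
      haveI := hQ
      obtain ⟨q, rfl⟩ := Nat.exists_eq_succ_of_ne_zero hq.ne'
      haveI : Subsingleton (Abelian.Ext Z (T.obj Q) (q + 1)) :=
        CohLib.subsingleton_HU_push_injective J K u Q V q
      obtain ⟨i⟩ := CohLib.nonempty_rightDerived_coyoneda_iso_ext Z (T.obj Q) (q + 1)
      exact (AddCommGrpCat.isZero_of_subsingleton _).of_iso i)
    M H
    (fun n => by
      obtain ⟨i⟩ := CohLib.nonempty_homology_iso_ext_of_injective R
        (((T ⋙ preadditiveCoyoneda.obj (Opposite.op Z)).mapHomologicalComplex _).obj R.cocomplex)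
        (fun m => show (Z ⟶ T.obj (R.cocomplex.X m)) ≃+ _ from
          (CohLib.secAddEquiv K V (T.obj (R.cocomplex.X m))).trans
            (CohLib.secAddEquiv J (u.obj V) (R.cocomplex.X m)).symm)
        (fun m (x : Z ⟶ T.obj (R.cocomplex.X m)) => (CohLib.secAddEquiv J (u.obj V) _).injective
          (((CohLib.secAddEquiv J (u.obj V) _).apply_symm_apply _).trans
            ((CohLib.secEquiv_comp V (T.map (R.cocomplex.d m (m + 1))) x).trans
              ((CohLib.secEquiv_comp (u.obj V) (R.cocomplex.d m (m + 1)) _).trans
                (congrArg ((R.cocomplex.d m (m + 1)).hom.app (Opposite.op (u.obj V)))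
                  ((CohLib.secAddEquiv J (u.obj V) _).apply_symm_apply _))).symm))) n
      exact ⟨eqToIso (by simp only [H, Int.natCast_nonneg, if_true, Int.toNat_natCast]; rfl) ≪≫ i.symm ≪≫
        (R.isoRightDerivedObj (T ⋙ preadditiveCoyoneda.obj (Opposite.op Z)) n).symm⟩)
    (fun n hn => by
      simp only [H, if_neg (show ¬ 0 ≤ n by lia)]
      exact AddCommGrpCat.isZero_of_subsingleton _)
  refine ⟨E, a, h₁, h₂, fun p q => ?_⟩
  by_cases hpq : 0 ≤ p ∧ 0 ≤ q
  · rw [if_pos hpq]
    obtain ⟨p, rfl⟩ := Int.eq_ofNat_of_zero_le hpq.1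
    obtain ⟨q, rfl⟩ := Int.eq_ofNat_of_zero_le hpq.2
    obtain ⟨i⟩ := CohLib.nonempty_rightDerived_coyoneda_iso_ext Z ((T.rightDerived q).obj M) p
    exact ⟨(h₃ p q).some ≪≫ i⟩
  · rw [if_neg hpq]
    exact ⟨(h₄ p q (by lia)).iso (AddCommGrpCat.isZero_of_subsingleton _)⟩

end Groth.Agent.S6162
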