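import Groth.Statements.S6173
import Mathlib.CategoryTheory.Sites.Point.Conservative
import Mathlib.CategoryTheory.Sites.Point.Map
import Mathlib.CategoryTheory.Sites.Over
-- import your own Groth.Agent.* helpers here

set_option autoImplicit false
set_option linter.style.haveILetI false
universe u
open CategoryTheory
open SGA4

namespace Groth.Agent.S6173

/-- Second assertion (topos of sheaves on a small site (C, J); E/X_i the induced topoi, modelled by the
sites (C/X_i, J/X_i); 'enough points' = a small conservative family of points, equivalently all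
fibre functors together are conservative): if (X_i) is a family of objects covering the final object
and every E/X_i has enough points, then E has enough points. (The first assertion, that E/X inherits
enough points from E, is Mathlib's instance.) -/
theorem result {C : Type u} [SmallCategory C] (J : GrothendieckTopology C) {ι : Type u}
    (X : ι → C) (hX : J.CoversTop X) (h : ∀ i, GrothendieckTopology.HasEnoughPoints.{u} (J.over (X i))) :
    GrothendieckTopology.HasEnoughPoints.{u} J := by
  classical
  choose P hPs hP using fun i => (h i).exists_objectProperty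
  let K := Σ i, Subtype (P i)
  haveI : ∀ i, ObjectProperty.Small.{u} (P i) := hPs
  let Φ : K → GrothendieckTopology.Point.{u} J := fun k =>
    GrothendieckTopology.Point.map.{u} k.2.1 (Over.forget (X k.1)) J
  refine ⟨ObjectProperty.ofObj Φ, inferInstance, ?_⟩
  refine ObjectProperty.IsConservativeFamilyOfPoints.mk' fun Z S hS => ?_
  refine J.transitive (hX Z) S fun W f hf => ?_
  obtain ⟨i, ⟨b⟩⟩ := hf
  have hcov : (Sieve.overEquiv (Over.mk b)).symm (S.pullback f) ∈ J.over (X i) (Over.mk b) := by
    obtain ⟨ι', V, g, hg⟩ := ((Sieve.overEquiv (Over.mk b)).symm (S.pullback f)).exists_eq_ofArrows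
    rw [hg, (hP i).jointly_reflect_ofArrows_mem_of_small]
    intro ψ w
    obtain ⟨Y, g', hg', y, hy⟩ := hS ⟨Φ ⟨i, ψ.obj, ψ.property⟩, ObjectProperty.ofObj_apply Φ _⟩
      (GrothendieckTopology.Point.ofIsCofiltered.fiberMk.{u} (p := CategoryOfElements.π ψ.obj.fiber ⋙ Over.forget (X i))
        (U := (⟨Over.mk b, w⟩ : ψ.obj.fiber.Elements)) f)
    obtain ⟨U, a, rfl⟩ := GrothendieckTopology.Point.ofIsCofiltered.fiberMk_jointly_surjective y
    change (GrothendieckTopology.Point.ofIsCofiltered.fiber (CategoryOfElements.π ψ.obj.fiber ⋙ Over.forget (X i))).map g' _ = _ at hy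
    rw [GrothendieckTopology.Point.ofIsCofiltered.fiber_map_fiberMk] at hy
    let W₀ : ψ.obj.fiber.Elements := ⟨Over.mk b, w⟩
    obtain ⟨M, p, q, -⟩ := IsCofilteredOrEmpty.cone_objs U W₀
    have hy' : GrothendieckTopology.Point.ofIsCofiltered.fiberMk.{u} (p := CategoryOfElements.π ψ.obj.fiber ⋙ Over.forget (X i))
        ((CategoryOfElements.π ψ.obj.fiber ⋙ Over.forget (X i)).map p ≫ a ≫ g') =
        GrothendieckTopology.Point.ofIsCofiltered.fiberMk.{u}
        ((CategoryOfElements.π ψ.obj.fiber ⋙ Over.forget (X i)).map q ≫ f) := by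
      rw [GrothendieckTopology.Point.ofIsCofiltered.fiberMk_map_comp,
        GrothendieckTopology.Point.ofIsCofiltered.fiberMk_map_comp]
      exact hy
    obtain ⟨M', r, hr⟩ := GrothendieckTopology.Point.ofIsCofiltered.exists_of_fiberMk_eq_fiberMk hy'
    have hmem : Sieve.ofArrows V g (r ≫ q).val := by
      rw [← hg]
      change S ((r ≫ q).val.left ≫ f)
      have e : (r ≫ q).val.left ≫ f = (r.val.left ≫ p.val.left ≫ a) ≫ g' := by
        simp only [Functor.comp_map, CategoryOfElements.π_map, Over.forget_map] at hr
        simp only [CategoryOfElements.comp_val, Over.comp_left, Category.assoc]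
        exact hr.symm
      rw [e]
      exact S.downward_closed hg' _
    obtain ⟨j, c, hc⟩ := (Sieve.mem_ofArrows_iff _ _ _).1 hmem
    refine ⟨j, ψ.obj.fiber.map c M'.2, ?_⟩
    rw [← Functor.map_comp_apply, ← hc]
    exact (r ≫ q).2
  rwa [GrothendieckTopology.mem_over_iff, OrderIso.apply_symm_apply] at hcov

end Groth.Agent.S6173
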