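import Groth.Statements.S6176
-- import your own Groth.Agent.* helpers here

set_option autoImplicit false
set_option linter.style.haveILetI false
universe u
open CategoryTheory
open SGA4

namespace Groth.Agent.S6176

open CategoryTheory.Limits in
/-- The clause on products (topos of sheaves of sets on a small site; j : E/U -> E the open embedding
defined by an open U, i.e. a subobject of the final object, so that j_! is the forgetful functor
from objects over U): j_! commutes with products indexed by a nonempty u-small set. (Commutation
with fibre products and cofiltered limits, the other clauses, holds for the forgetful functor of any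
slice.) -/
theorem result {C : Type u} [SmallCategory C] (J : GrothendieckTopology C)
    (U : Sheaf J (Type u)) (hU : SGA4.IsOpen U) (I : Type u) [Nonempty I] :
    PreservesLimitsOfShape (Discrete I) (Over.forget U) := by
  haveI : Mono (terminal.from U) := hU
  obtain ⟨i₀⟩ := ‹Nonempty I›
  constructor
  intro K
  refine preservesLimit_of_preserves_limit_cone (t := limit.cone K) (limit.isLimit K) ?_
  exact
    { lift := fun s => ((limit.isLimit K).lift
        { pt := Over.mk (s.π.app ⟨i₀⟩ ≫ (K.obj ⟨i₀⟩).hom)
          π := Discrete.natTrans fun j => Over.homMk (s.π.app j)
            ((cancel_mono (terminal.from U)).1 (terminal.hom_ext _ _)) }).left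
      fac := fun s j => congrArg CommaMorphism.left ((limit.isLimit K).fac _ j)
      uniq := fun s m hm => by
        refine congrArg CommaMorphism.left ((limit.isLimit K).uniq
          { pt := Over.mk (s.π.app ⟨i₀⟩ ≫ (K.obj ⟨i₀⟩).hom)
            π := Discrete.natTrans fun j => Over.homMk (s.π.app j)
              ((cancel_mono (terminal.from U)).1 (terminal.hom_ext _ _)) }
          (Over.homMk m ((cancel_mono (terminal.from U)).1 (terminal.hom_ext _ _))) fun j => ?_)
        exact Over.OverMorphism.ext (hm j) }

end Groth.Agent.S6176
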