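import Groth.Statements.S6177
import Groth.Agent.TopLib.ClosedCompl
-- import your own Groth.Agent.* helpers here

set_option autoImplicit false
set_option linter.style.haveILetI false
universe u
open CategoryTheory
open SGA4

namespace Groth.Agent.S6177

open CategoryTheory.Limits in
/-- Topos of sheaves of sets on a small site; U an open, i.e. a subobject of the final object; X_CU the
pushout of U <- U x X -> X along the two projections: (ii) <=> (iii): the canonical map X -> X_CU is
an isomorphism if and only if the projection U x X -> U is an isomorphism (X belongs to the closed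
complement of U); and (i) => (iii): if X is isomorphic to Y_CU for some Y then X belongs to the
closed complement of U ((iii) => (i) with Y = X is then immediate from (ii)). -/
theorem result {C : Type u} [SmallCategory C] (J : GrothendieckTopology C)
    (U : Sheaf J (Type u)) (hU : SGA4.IsOpen U) (X : Sheaf J (Type u)) :
    (SGA4.closedCompl U X ↔ IsIso (pushout.inr (prod.fst : U ⨯ X ⟶ U) (prod.snd : U ⨯ X ⟶ X))) ∧
    ((∃ Y : Sheaf J (Type u), Nonempty (X ≅ pushout (prod.fst : U ⨯ Y ⟶ U) (prod.snd : U ⨯ Y ⟶ Y))) →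
      SGA4.closedCompl U X) := by
  let adj := TopLib.clAdj U
  let h := TopLib.isPushout_cl hU X
  have key : IsIso (pushout.inr (prod.fst : U ⨯ X ⟶ U) (prod.snd : U ⨯ X ⟶ X)) ↔
      IsIso (TopLib.clη U X) := by
    rw [← h.inr_isoPushout_hom]
    exact ⟨fun _ => IsIso.of_isIso_comp_right (TopLib.clη U X) h.isoPushout.hom, fun _ => inferInstance⟩
  haveI : (SGA4.closedCompl U).IsClosedUnderIsomorphisms := ⟨fun {A B} e hA => by
    haveI : IsIso (prod.fst : U ⨯ A ⟶ U) := hA
    show IsIso (prod.fst : U ⨯ B ⟶ U)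
    rw [show (prod.fst : U ⨯ B ⟶ U) = prod.map (𝟙 U) e.inv ≫ prod.fst by simp]
    infer_instance⟩
  refine ⟨⟨fun hX => key.2 ?_, fun hX => ?_⟩, fun ⟨Y, ⟨e⟩⟩ => ?_⟩
  · haveI : IsIso (pushout.inr (prod.fst : U ⨯ X ⟶ U) (prod.snd : U ⨯ X ⟶ X)) :=
      haveI : IsIso (prod.fst : U ⨯ X ⟶ U) := hX
      inferInstance
    exact key.1 inferInstance
  · exact ((SGA4.closedCompl U).prop_iff_of_iso (asIso (pushout.inr (prod.fst : U ⨯ X ⟶ U)
      (prod.snd : U ⨯ X ⟶ X)) ≪≫ h.isoPushout.symm)).2 (TopLib.closedCompl_clObj U X)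
  · exact ((SGA4.closedCompl U).prop_iff_of_iso (e ≪≫ (TopLib.isPushout_cl hU Y).isoPushout.symm)).2
      (TopLib.closedCompl_clObj U Y)

end Groth.Agent.S6177
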