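import Groth.Statements.S6182
import Groth.Agent.ToposFinLib.EpsGen
-- import your own Groth.Agent.* helpers here

set_option autoImplicit false
set_option linter.style.haveILetI false
open CategoryTheory CategoryTheory.Limits Opposite
universe u
open ToposFin

namespace Groth.Agent.S6182

/-- Let (C, J) and (D, K) be small sites with fibre products in which every object is quasi-compact, and
G : C -> D a continuous functor whose inverse-image functor on sheaves of sets f^* (the sheaf
pullback along G, from sheaves on C to sheaves on D) preserves finite limits, so that G is a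
morphism of sites and f a morphism of topoi. Then f is coherent: f^* sends quasi-compact objects to
quasi-compact objects and quasi-separated objects to quasi-separated objects. -/
theorem result {C D : Type u} [SmallCategory C] [SmallCategory D]
    [HasPullbacks C] [HasPullbacks D] (J : GrothendieckTopology C) (K : GrothendieckTopology D)
    (hC : ∀ X : C, ToposFin.IsQCSite J X) (hD : ∀ Y : D, ToposFin.IsQCSite K Y)
    (G : C ⥤ D) [Functor.IsContinuous G J K] [PreservesFiniteLimits (G.sheafPullback (Type u) J K)] :
    (∀ X : ToposFin.Sh J, ToposFin.IsQC X → ToposFin.IsQC ((G.sheafPullback (Type u) J K).obj X)) ∧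
      (∀ X : ToposFin.Sh J, ToposFin.IsQS X → ToposFin.IsQS ((G.sheafPullback (Type u) J K).obj X)) := by
  let adj := G.sheafAdjunctionContinuous (Type u) J K
  let e : ∀ X : C, ToposFin.eps K (G.obj X) ≅ (G.sheafPullback (Type u) J K).obj (ToposFin.eps J X) := fun X =>
    Coyoneda.ext _ _
      (fun {T} h => (adj.homEquiv _ T).symm ((ToposFinLib.epsEquiv J X _).symm (ToposFinLib.epsEquiv K (G.obj X) T h)))
      (fun {T} k => (ToposFinLib.epsEquiv K (G.obj X) T).symm (ToposFinLib.epsEquiv J X _ (adj.homEquiv _ T k)))
      (fun {T} f => by
        rw [Equiv.apply_symm_apply, Equiv.apply_symm_apply]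
        exact Equiv.symm_apply_apply _ f)
      (fun {T} f => by
        rw [Equiv.apply_symm_apply]
        exact (congrArg _ (Equiv.symm_apply_apply _ _)).trans (Equiv.symm_apply_apply _ f))
      (fun {T T'} f k => (ToposFinLib.epsEquiv K (G.obj X) T').injective (by
        rw [Equiv.apply_symm_apply, ToposFinLib.epsEquiv_comp K (G.obj X), Equiv.apply_symm_apply,
          Adjunction.homEquiv_naturality_right, ToposFinLib.epsEquiv_comp J X]
        rfl))
  refine ToposFinLib.isCoherentFunctor_of_generators adj (ToposFinLib.hasQCGenerators hD) _ ?_
    (ToposFinLib.eps_generating J) ?_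
  · rintro _ ⟨X, rfl⟩
    exact ToposFinLib.isCoherent_eps hC X
  · rintro _ ⟨X, rfl⟩
    exact ToposFinLib.isCoherent_of_iso (e X) (ToposFinLib.isCoherent_eps hD _)

end Groth.Agent.S6182
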