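import Groth.Statements.S6188
import Groth.Agent.RelFlatLib.LpullStalk

set_option autoImplicit false
set_option backward.isDefEq.respectTransparency false
set_option backward.isDefEq.respectTransparency.types false
universe u
open CategoryTheory CategoryTheory.Limits AlgebraicGeometry
attribute [local instance] HasDerivedCategory.standard
open KSix

namespace Groth.Agent.S6188

/-- Case of schemes: let f : X ⟶ Y and g : Y ⟶ Z be morphisms of schemes with composite h, let m be a
natural number such that f has tor dimension at most m (the structure sheaf of X has tor amplitude
in [-m, 0] relative to f, stalkwise), and let G be a cochain complex of O_Y-modules with tor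
amplitude in [c, d] relative to g (stalkwise flat models placed in [c, d] over the local rings of
Z). Then, the derived pullback Lf^* being assumed to exist, Lf^* G has tor amplitude in [c - m, d]
relative to h: every cochain complex representing it has stalkwise flat models placed in [c - m, d]
over the local rings of Z. (The published statement is for a commutative triangle of ringed topoi in
which X has enough points; this row is the case of schemes, with tor amplitude relative to a
morphism in its stalkwise form.) -/
theorem result {X Y Z : Scheme.{u}} (f : X ⟶ Y) (g : Y ⟶ Z) (h : X ⟶ Z)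
    (w : f ≫ g = h) (m : ℕ) (hf : DerSch.HasTorDimLE f m) [DCoh.HasLpull f]
    (G : CochainComplex Y.Modules ℤ) (c d : ℤ) (hG : DerSch.HasTorAmplitude g c d G) :
    DerSch.HasTorAmplitudeD h (c - m) d ((DCoh.Lpull f).obj (DCoh.toD Y G)) := by
  subst w
  obtain ⟨P, hP, ⟨e⟩⟩ := KFlatLib.exists_good_rep (DCoh.toD Y G)
  refine RelFlatLib.ampD_lpull_of_kflat f (f ≫ g) hP.1 e fun x => ?_
  exact RelFlatLib.amp_res_extCx (g.stalkMap (f.base x)).hom (f.stalkMap x).hom
    (by rw [Scheme.Hom.stalkMap_comp]; rfl) (RelFlatLib.amp_stalk_algebra f x hf)
    (KFlatLib.stalks_isKFlat hP.1 (f x)) (RelFlatLib.ampAt_of_iso g e.symm (hG (f.base x)))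

end Groth.Agent.S6188
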