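import Groth.Statements.S6193
import Groth.Agent.ProjNatLib.AmpPush
import Groth.Agent.RelFlatLib.TorDim
import Groth.Agent.RelFlatLib.RelOpen
import Groth.Agent.DRingLib.PCohMore
import Groth.Agent.RelFlatLib.Absolute

set_option autoImplicit false
set_option backward.isDefEq.respectTransparency false
set_option backward.isDefEq.respectTransparency.types false
set_option maxHeartbeats 1000000
universe u
open CategoryTheory CategoryTheory.Limits AlgebraicGeometry
attribute [local instance] HasDerivedCategory.standard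
open KSix

namespace Groth.Agent.S6193

section Helpers
open Groth.Agent in
/-- A locally bounded stalkwise tor dimension can be placed in an interval `[-n, 0]`. -/
theorem exists_dim_nhd {X Y : Scheme.{u}} (f : X ⟶ Y) (hf : DerSch.LocFiniteTorDim f) (x : X) :
    ∃ (V : X.Opens) (n : ℕ), x ∈ V ∧ ∀ z ∈ V, DerSch.HasTorAmplitudeAt f (-(n : ℤ)) 0 (DerSch.unitCx X) z := by
  obtain ⟨V, d, e, hxV, hV⟩ := hf x
  refine ⟨V, (-d).toNat, hxV, fun z hz => ?_⟩
  letI := (f.stalkMap z).hom.toAlgebra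
  have h := (RelFlatLib.unitAt_iff f z d e).1 (hV z hz)
  exact (RelFlatLib.unitAt_iff f z _ _).2 (RelFlatLib.amp_upper
    (DRingLib.hasTorAmplitudeIn_mono (by omega) le_rfl h)
    (fun i hi => DRingLib.isZero_Hn_inD _ (by omega)))

open Groth.Agent in
/-- An object locally of finite tor dimension has locally bounded stalkwise amplitude. -/
theorem exists_amp_nhd {X : Scheme.{u}} (F : CochainComplex X.Modules ℤ)
    (hE : DCoh.LocHasFiniteTorDim (DCoh.toD X F)) (x : X) :
    ∃ (V : X.Opens) (a b : ℤ), x ∈ V ∧ ∀ z ∈ V, RelFlatLib.AmpD (𝟙 X) a b (DCoh.toD X F) z := by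
  obtain ⟨V, a, b, hxV, hV⟩ := hE x
  refine ⟨V, a, b, hxV, fun z hz => ?_⟩
  exact (RelFlatLib.ampD_id_res_iff V.ι ⟨z, hz⟩ a b _).1 (RelFlatLib.ampD_of_iso (𝟙 _)
    (PerfLib.resDQIso V.ι F).symm ((RelFlatLib.flatAmp_iff_ampD _ _ _).1 (hV F ⟨Iso.refl _⟩) ⟨z, hz⟩))

end Helpers

/-- Let f : X ⟶ Y be quasi-compact, quasi-separated and locally of finite tor dimension (the structure
sheaf of X is locally of finite tor amplitude relative to f, stalkwise), the derived direct image
being assumed to exist, and let E ∈ D(O_X), given by a cochain complex F, have bounded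
quasi-coherent cohomology. If E is locally of finite tor dimension in the absolute sense on X, then
Rf_* E is locally of finite tor dimension in the absolute sense on Y. -/
theorem result {X Y : Scheme.{u}} (f : X ⟶ Y) [QuasiCompact f] [QuasiSeparated f]
    [DCoh.HasRpush f] (hf : DerSch.LocFiniteTorDim f) (F : CochainComplex X.Modules ℤ)
    (hqc : DCoh.IsQCohD (DCoh.toD X F)) (c d : ℤ) [(DCoh.toD X F).IsGE c] [(DCoh.toD X F).IsLE d]
    (hE : DCoh.LocHasFiniteTorDim (DCoh.toD X F)) :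
    DCoh.LocHasFiniteTorDim ((DCoh.Rpush f).obj (DCoh.toD X F)) := by
  refine fun y => ?_
  obtain ⟨W, a, e, hy, hW⟩ := ProjNatLib.exists_amp_rpush_loc f (𝟙 Y) (DCoh.toD X F) hqc (fun x => by
    rw [Category.comp_id]
    obtain ⟨V₁, a, b, hx₁, h₁⟩ := exists_amp_nhd F hE x
    obtain ⟨V₂, n, hx₂, h₂⟩ := exists_dim_nhd f hf x
    refine ⟨V₁ ⊓ V₂, a - n, b, ⟨hx₁, hx₂⟩, fun z hz => ?_⟩
    have h3 := RelFlatLib.ampAt_comp (𝟙 X) f n (h₂ z hz.2)
      ((RelFlatLib.ampD_rep (𝟙 X) (Iso.refl _) z).1 (h₁ z hz.1))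
    exact (RelFlatLib.ampD_rep f (Iso.refl _) z).2 ((Category.id_comp f) ▸ h3)) y
  refine ⟨W, a, e, hy, fun F' hF' => ?_⟩
  obtain ⟨i⟩ := hF'
  refine (RelFlatLib.flatAmp_iff_ampD _ _ _).2 fun w => RelFlatLib.ampD_of_iso (𝟙 _)
    (PerfLib.resDQIso W.ι F') ((RelFlatLib.ampD_id_res_iff W.ι w a e _).2 ?_)
  exact RelFlatLib.ampD_of_iso _ i.symm (hW w.1 w.2)

end Groth.Agent.S6193
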