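import Groth.Statements.S6194
import Groth.Agent.RelFlatLib.OpenAmp
import Groth.Agent.DRingLib.Devissage

set_option autoImplicit false
set_option backward.isDefEq.respectTransparency false
set_option backward.isDefEq.respectTransparency.types false
universe u
open CategoryTheory CategoryTheory.Limits AlgebraicGeometry
attribute [local instance] HasDerivedCategory.standard
open KSix

namespace Groth.Agent.S6194

/-- Let X be a scheme such that, at every point x, every module over the local ring of X at x has finite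
tor dimension (for instance a regular scheme), and let E ∈ D(O_X), given by a cochain complex F,
have bounded cohomology. Then E is pseudo-coherent if and only if E is perfect. (The published
statement is for a ringed topos with enough points; this row is the case of schemes.) -/
theorem result {X : Scheme.{u}}
    (hX : ∀ (x : X) (M : Type u) [AddCommGroup M] [Module (X.presheaf.stalk x) M], DRing.HasFiniteTorDim (X.presheaf.stalk x) M)
    (F : CochainComplex X.Modules ℤ) (c d : ℤ) [(DCoh.toD X F).IsGE c] [(DCoh.toD X F).IsLE d] :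
    (∀ m : ℤ, DCoh.IsPseudoCoherentD m (DCoh.toD X F)) ↔ DCoh.IsPerfect (DCoh.toD X F) := by
  refine ⟨fun hpc => ?_, fun h => RelFlatLib.isPC_of_isPerfect h⟩
  let K := DCoh.toD X F
  refine (PerfLib.isPerfect_iff K).2 fun x => ?_
  let G := DerSch.stalkOver (𝟙 X) x
  let R : Type u := X.presheaf.stalk ((𝟙 X : X ⟶ X).base x)
  let M := G.mapDerivedCategory.obj K
  have hH : ∀ i, Nonempty ((DerivedCategory.homologyFunctor _ i).obj M ≅ G.obj (DCoh.HD K i)) := fun i =>
    ⟨(DerivedCategory.homologyFunctor _ i).mapIso (G.mapDerivedCategoryFactors.app F) ≪≫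
      (DerivedCategory.homologyFunctorFactors _ i).app _ ≪≫ (F.sc i).mapHomologyIso G ≪≫
      G.mapIso ((DerivedCategory.homologyFunctorFactors X.Modules i).app F).symm⟩
  have hz : ∀ i, (i < c ∨ d < i) → IsZero (DCoh.HD K i) := fun i hi =>
    hi.elim (fun h => DerivedCategory.isZero_of_isGE K c i h) (fun h => DerivedCategory.isZero_of_isLE K d i h)
  have hfin : ∀ i, ∃ n : ℕ, DRing.HasTorAmplitudeIn R (-(n : ℤ)) 0
      (Dual.inD R ((DerivedCategory.homologyFunctor (ModuleCat.{u} R) i).obj M)) := fun i => by
    obtain ⟨n, hn⟩ := hX ((𝟙 X : X ⟶ X).base x) ((DerivedCategory.homologyFunctor (ModuleCat.{u} R) i).obj M)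
    exact ⟨n, (DRingLib.hasTorDimLE_iff_amplitude _ n).1 hn⟩
  choose n hn using hfin
  let N := (Finset.Icc c d).sup n
  have hamp : RelFlatLib.AmpD (𝟙 X) (c - N) d K x := by
    refine (DRingLib.devissable_amplitude (c - N) d).of_homology c (d + 1 - c).toNat M (fun i hi => ?_)
      fun i => ?_
    · obtain ⟨e⟩ := hH i
      exact (G.map_isZero (hz i (by omega))).of_iso e
    · by_cases hi : c ≤ i ∧ i ≤ d
      · have hle : n i ≤ N := Finset.le_sup (Finset.mem_Icc.2 hi)
        exact DRingLib.hasTorAmplitudeIn_singleFunctor (a := c - N) (c := d)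
          (DRingLib.hasTorAmplitudeIn_mono (by omega) (by omega) (hn i))
      · obtain ⟨e⟩ := hH i
        exact DRingLib.hasTorAmplitudeIn_of_isZero ((DerivedCategory.singleFunctor _ i).map_isZero
          ((G.map_isZero (hz i (by omega))).of_iso e)) _ _
  obtain ⟨W, hxW, hW⟩ := RelFlatLib.exists_perfect_nhd (hpc _) (fun i hi => hz i (Or.inl (by omega))) hamp
  obtain ⟨V, j, hj, v, hv, hm⟩ := (PerfLib.isPerfect_iff _).1 hW ⟨x, hxW⟩
  obtain ⟨E, hE, ⟨e⟩⟩ := hm
  obtain ⟨e'⟩ := PerfLib.nonempty_resD_comp j W.ι K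
  exact ⟨V, j ≫ W.ι, inferInstance, v, congrArg Subtype.val hv, E, hE, ⟨e' ≪≫ e⟩⟩

end Groth.Agent.S6194
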