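import Groth.Statements.S6195
import Groth.Agent.RelFlatLib.SpreadIso

set_option autoImplicit false
set_option backward.isDefEq.respectTransparency false
set_option backward.isDefEq.respectTransparency.types false
universe u
open CategoryTheory CategoryTheory.Limits AlgebraicGeometry
attribute [local instance] HasDerivedCategory.standard
open KSix

namespace Groth.Agent.S6195

/-- Let X be a scheme, x ∈ X, and E, F cochain complexes of O_X-modules whose images in D(O_X) have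
bounded cohomology and are pseudo-coherent. If the complexes of stalks E_x and F_x are isomorphic in
the derived category of the local ring of X at x, then x has an open neighbourhood U over which the
restrictions of E and F become isomorphic in D(O_U). (The published statement is for a point of a
ringed topos; this row is the case of schemes.) -/
theorem result {X : Scheme.{u}} (x : X)
    (E F : CochainComplex X.Modules ℤ) (c d : ℤ) [(DCoh.toD X E).IsGE c] [(DCoh.toD X E).IsLE d]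
    [(DCoh.toD X F).IsGE c] [(DCoh.toD X F).IsLE d]
    (hE : ∀ m : ℤ, DCoh.IsPseudoCoherentD m (DCoh.toD X E)) (hF : ∀ m : ℤ, DCoh.IsPseudoCoherentD m (DCoh.toD X F))
    (hx : Nonempty (DRing.toD (((DerSch.stalkFunctor X x).mapHomologicalComplex (ComplexShape.up ℤ)).obj E) ≅ DRing.toD (((DerSch.stalkFunctor X x).mapHomologicalComplex (ComplexShape.up ℤ)).obj F))) :
    ∃ U : X.Opens, x ∈ U ∧
      Nonempty (DerivedCategory.Q.obj ((DCoh.restrictCx U).obj E) ≅ DerivedCategory.Q.obj ((DCoh.restrictCx U).obj F)) := by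
  obtain ⟨hx⟩ := hx
  obtain ⟨V₀, j₀, hj₀, v₀, rfl, E₀, α₀, hE₀, hα₀⟩ := (PerfLib.isPC_iff _ _).1 (hE (c - 2)) x
  obtain ⟨W₀, hvW₀, hfree⟩ := KFlatLib.exists_freeBdd_restrict hE₀ v₀
  obtain ⟨⟨a₀, d₀, hv₀⟩, -⟩ := hE₀
  let k := W₀.ι ≫ j₀
  let v : (W₀ : Scheme.{u}) := ⟨v₀, hvW₀⟩
  let P := (PerfLib.resC W₀.ι).obj E₀
  have hPfree : ∀ i, KFlatLib.IsFinFree (P.X i) := fun i => KFlatLib.isFinFree_of_iso
    ((Scheme.Modules.restrictFunctorIsoPullback W₀.ι).app (E₀.X i)).symm (hfree.2 i)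
  have hPb : DCoh.VanishesOutside P a₀ d₀ := fun i hi => (PerfLib.res W₀.ι).map_isZero (hv₀ i hi)
  have hPsp : DCoh.IsStrictlyPerfect P :=
    ⟨⟨a₀, d₀, hPb⟩, fun i => KFlatLib.isFinLocFree_of_isFinFree (hPfree i)⟩
  obtain ⟨cK⟩ := PerfLib.nonempty_resD_comp W₀.ι j₀ (DCoh.toD X E)
  let E' := (PerfLib.resC k).obj E
  let F' := (PerfLib.resC k).obj F
  let α : DCoh.toD _ P ⟶ DCoh.toD _ E' :=
    (PerfLib.resDQIso W₀.ι E₀).inv ≫ (PerfLib.resD W₀.ι).map α₀ ≫ cK.inv ≫ (PerfLib.resDQIso k E).hom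
  have hα : PerfLib.IAE α (c - 2) := (PerfLib.IAE.of_isIso _ _).comp
    ((hα₀.map (PerfLib.res W₀.ι)).comp ((PerfLib.IAE.of_isIso _ _).comp (PerfLib.IAE.of_isIso _ _)))
  let G := DerSch.stalkFunctor (W₀ : Scheme.{u}) v
  let GC := G.mapHomologicalComplex (ComplexShape.up ℤ)
  let Ext := ModuleCat.extendScalars.{u, u, u} (k.stalkMap v).hom
  haveI : Ext.IsEquivalence := RelFlatLib.isEquivalence_extend_stalk k v
  let σ := NatIso.mapHomologicalComplex (RelFlatLib.stalkResExt k v) (ComplexShape.up ℤ)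
  let β : DerivedCategory.Q.obj (GC.obj P) ⟶ DerivedCategory.Q.obj (GC.obj F') :=
    (G.mapDerivedCategoryFactors.app P).inv ≫ G.mapDerivedCategory.map α ≫
      (G.mapDerivedCategoryFactors.app E').hom ≫ DerivedCategory.Q.map (σ.hom.app E) ≫
      (Ext.mapDerivedCategoryFactors.app
        (((DerSch.stalkFunctor X (k v)).mapHomologicalComplex (ComplexShape.up ℤ)).obj E)).inv ≫
      Ext.mapDerivedCategory.map hx.hom ≫
      (Ext.mapDerivedCategoryFactors.app
        (((DerSch.stalkFunctor X (k v)).mapHomologicalComplex (ComplexShape.up ℤ)).obj F)).hom ≫ DerivedCategory.Q.map (σ.inv.app F)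
  have hβ : PerfLib.IAE β (c - 2) := (PerfLib.IAE.of_isIso _ _).comp ((hα.map G).comp
    (PerfLib.IAE.of_isIso _ _))
  have hfr : ∀ i, Module.Free _ ((GC.obj P).X i) := fun i => by
    obtain ⟨n, ⟨e⟩⟩ := hPfree i
    exact Module.Free.of_equiv (G.mapIso e ≪≫ KFlatLib.stalkFreeModIso _ v n).symm.toLinearEquiv
  haveI := DRingLib.isKProjective_of_free (GC.obj P) d₀
    (fun i hi => G.map_isZero (hPb i (Or.inr hi))) hfr
  obtain ⟨ψ, hψ⟩ := DRingLib.Q_map_surjective (GC.obj P) (GC.obj F') β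
  have hψq : ∀ i, c - 2 < i → QuasiIsoAt ψ i := fun i hi => by
    rw [quasiIsoAt_iff_isIso_homologyMap]
    refine (NatIso.isIso_map_iff (DerivedCategory.homologyFunctorFactors _ i) ψ).mp ?_
    exact show IsIso ((DerivedCategory.homologyFunctor _ i).map (DerivedCategory.Q.map ψ)) by
      rw [hψ]; exact hβ.1 i hi
  obtain ⟨W, l, hl, w, hlw, φ, hφ⟩ := RelFlatLib.exists_chain_nhd v P F'
    ⟨⟨a₀, d₀, hPb⟩, hPfree⟩ ψ
  let T := DerivedCategory.Q.mapTriangle.obj (CochainComplex.mappingCone.triangle φ)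
  have hT : T ∈ Pretriangulated.distinguishedTriangles :=
    (DerivedCategory.mem_distTriang_iff _).2 ⟨_, _, φ, ⟨Iso.refl _⟩⟩
  let eFl : DCoh.toD W ((PerfLib.resC l).obj F') ≅
      (PerfLib.resD l).obj ((PerfLib.resD k).obj (DCoh.toD X F)) :=
    (PerfLib.resDQIso l F').symm ≪≫ (PerfLib.resD l).mapIso (PerfLib.resDQIso k F).symm
  have hperf : DCoh.IsPerfect T.obj₁ := (PerfLib.isPerfect_iff _).2 fun z =>
    ⟨W, 𝟙 W, inferInstance, z, rfl, _,
      PerfLib.isStrictlyPerfect_res (𝟙 W) (PerfLib.isStrictlyPerfect_res l hPsp),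
      ⟨PerfLib.resDQIso (𝟙 W) _⟩⟩
  have hC : ∀ m : ℤ, DCoh.IsPseudoCoherentD m T.obj₃ := fun m => PerfLib.isPC_obj₃ T hT m
    (RelFlatLib.isPC_of_isPerfect hperf _)
    (PerfLib.isPC_of_iso eFl.symm (PerfLib.isPC_res (PerfLib.isPC_res (hF m) k) l))
  have hresz : ∀ {Y Z : Scheme.{u}} (j : Z ⟶ Y) [IsOpenImmersion j] (K : DCoh.D Y) (i : ℤ),
      IsZero (DCoh.HD K i) → IsZero (DCoh.HD ((PerfLib.resD j).obj K) i) := fun j _ K i h =>
    ((PerfLib.res j).map_isZero h).of_iso (PerfLib.resHDIso j K i)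
  let N := max d d₀ + 1
  have hz₁ : ∀ i, N ≤ i → IsZero (DCoh.HD T.obj₁ i) := fun i hi => by
    have : max d d₀ < i := by omega
    exact ((HomologicalComplex.exactAt_iff_isZero_homology _ i).1 (HomologicalComplex.ExactAt.of_isZero
      ((PerfLib.res l).map_isZero (hPb i (Or.inr (by omega)))))).of_iso
      ((DerivedCategory.homologyFunctorFactors _ i).app ((PerfLib.resC l).obj P))
  have hz₂ : ∀ i, N ≤ i → IsZero (DCoh.HD T.obj₂ i) := fun i hi =>
    (hresz l _ i (hresz k _ i (DerivedCategory.isZero_of_isLE _ d i (by omega)))).of_iso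
      ((DerivedCategory.homologyFunctor _ i).mapIso eFl)
  have hup : ∀ i, N ≤ i → IsZero (DCoh.HD T.obj₃ i) := (KFlatLib.isoAboveEpiAt_iff T hT N).1
    ⟨fun i hi => ⟨0, (hz₁ i hi.le).eq_of_src _ _, (hz₂ i hi.le).eq_of_src _ _⟩,
      ⟨fun _ _ _ => (hz₂ N le_rfl).eq_of_src _ _⟩⟩
  let Gw := DerSch.stalkFunctor W w
  let GT := Gw.mapDerivedCategory.mapTriangle.obj T
  have hGT : GT ∈ Pretriangulated.distinguishedTriangles := Gw.mapDerivedCategory.map_distinguished T hT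
  have hiso : ∀ i, c - 1 ≤ i → IsIso ((DerivedCategory.homologyFunctor _ i).map GT.mor₁) := fun i hi => by
    have h := hφ i (hψq i (by omega))
    rw [← hlw] at *
    change IsIso ((DerivedCategory.homologyFunctor _ i).map (Gw.mapDerivedCategory.map (DerivedCategory.Q.map φ)))
    refine (NatIso.isIso_map_iff (Functor.isoWhiskerRight Gw.mapDerivedCategoryFactors
      (DerivedCategory.homologyFunctor _ i) ≪≫ Functor.associator _ _ _ ≪≫
      Functor.isoWhiskerLeft _ (DerivedCategory.homologyFunctorFactors _ i)) φ).mpr ?_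
    exact (quasiIsoAt_iff_isIso_homologyMap _ i).1 h
  have hstalk : ∀ i, c - 1 ≤ i → IsZero (Gw.obj (DCoh.HD T.obj₃ i)) := fun i hi => by
    have := hiso i hi
    have := hiso (i + 1) (by omega)
    have h0 : IsZero ((DerivedCategory.homologyFunctor _ i).obj GT.obj₃) :=
      (DerivedCategory.HomologySequence.exact₃ GT hGT i (i + 1) rfl).isZero_X₂
        ((DerivedCategory.HomologySequence.epi_homologyMap_mor₁_iff GT hGT i).mp inferInstance)
        ((DerivedCategory.HomologySequence.mono_homologyMap_mor₁_iff GT hGT i (i + 1) rfl).mp inferInstance)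
    exact h0.of_iso ((Groth.Agent.DerLib.ExactHomology.homologyIso Gw i).app T.obj₃).symm
  obtain ⟨W', hwW', hW'⟩ := RelFlatLib.exists_nhd_acyclicGE hC (c - 1) (N - (c - 1)).toNat
    (fun i hi => hup i (by omega)) hstalk
  let l' := W'.ι
  let T' := (PerfLib.resD l').mapTriangle.obj T
  have hT' : T' ∈ Pretriangulated.distinguishedTriangles := (PerfLib.resD l').map_distinguished T hT
  have hφ' := (KFlatLib.isoAboveEpiAt_iff T' hT' (c - 1)).2 fun i hi => by
    refine IsZero.of_iso ((KFlatLib.isZero_iff_forall_stalk _).2 fun y => ?_)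
      (PerfLib.resHDIso l' T.obj₃ i)
    exact ((ModuleCat.extendScalars.{u, u, u} (l'.stalkMap y).hom).map_isZero
      (hW' i hi (l' y) y.2)).of_iso ((RelFlatLib.stalkResExt l' y).app _)
  haveI : ((PerfLib.resD l').obj ((PerfLib.resD l).obj ((PerfLib.resD k).obj (DCoh.toD X E)))).IsGE c :=
    (DerivedCategory.isGE_iff _ c).2 fun i hi =>
      hresz l' _ i (hresz l _ i (hresz k _ i (DerivedCategory.isZero_of_isGE _ c i hi)))
  haveI : ((PerfLib.resD l').obj ((PerfLib.resD l).obj ((PerfLib.resD k).obj (DCoh.toD X F)))).IsGE c :=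
    (DerivedCategory.isGE_iff _ c).2 fun i hi =>
      hresz l' _ i (hresz l _ i (hresz k _ i (DerivedCategory.isZero_of_isGE _ c i hi)))
  let αE : DCoh.toD _ ((PerfLib.resC l').obj ((PerfLib.resC l).obj P)) ⟶
      (PerfLib.resD l').obj ((PerfLib.resD l).obj ((PerfLib.resD k).obj (DCoh.toD X E))) :=
    (PerfLib.resDQIso l' _).inv ≫ (PerfLib.resD l').map ((PerfLib.resDQIso l P).inv ≫
      (PerfLib.resD l).map (α ≫ (PerfLib.resDQIso k E).inv))
  have hαE : PerfLib.IAE αE (c - 2) := (PerfLib.IAE.of_isIso _ _).comp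
    (PerfLib.IAE.map (PerfLib.res l') ((PerfLib.IAE.of_isIso _ _).comp
      (PerfLib.IAE.map (PerfLib.res l) (hα.comp (PerfLib.IAE.of_isIso _ _)))))
  let αF : DCoh.toD _ ((PerfLib.resC l').obj ((PerfLib.resC l).obj P)) ⟶
      (PerfLib.resD l').obj ((PerfLib.resD l).obj ((PerfLib.resD k).obj (DCoh.toD X F))) :=
    (PerfLib.resDQIso l' _).inv ≫ T'.mor₁ ≫ (PerfLib.resD l').map eFl.hom
  have hαF : PerfLib.IAE αF (c - 1) := (PerfLib.IAE.of_isIso _ _).comp
    (PerfLib.IAE.comp hφ' (PerfLib.IAE.of_isIso _ _))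
  obtain ⟨tE⟩ := RelFlatLib.nonempty_iso_truncGE c αE fun i hi => hαE.1 i (by omega)
  obtain ⟨tF⟩ := RelFlatLib.nonempty_iso_truncGE c αF fun i hi => hαF.1 i (by omega)
  let J := l' ≫ l ≫ k
  obtain ⟨cE⟩ := PerfLib.nonempty_resD_comp l' (l ≫ k) (DCoh.toD X E)
  obtain ⟨cF⟩ := PerfLib.nonempty_resD_comp l' (l ≫ k) (DCoh.toD X F)
  obtain ⟨dE⟩ := PerfLib.nonempty_resD_comp l k (DCoh.toD X E)
  obtain ⟨dF⟩ := PerfLib.nonempty_resD_comp l k (DCoh.toD X F)
  let eJ : (PerfLib.resD J).obj (DCoh.toD X E) ≅ (PerfLib.resD J).obj (DCoh.toD X F) :=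
    cE ≪≫ (PerfLib.resD l').mapIso dE ≪≫ tE.symm ≪≫ tF ≪≫ (PerfLib.resD l').mapIso dF.symm ≪≫ cF.symm
  let r := (Scheme.Hom.isoOpensRange J).inv
  obtain ⟨rE⟩ := PerfLib.nonempty_resD_comp r J (DCoh.toD X E)
  obtain ⟨rF⟩ := PerfLib.nonempty_resD_comp r J (DCoh.toD X F)
  have hr : r ≫ J = J.opensRange.ι := Scheme.Hom.isoOpensRange_inv_comp J
  obtain ⟨gE⟩ := PerfLib.nonempty_resD_congr hr (DCoh.toD X E)
  obtain ⟨gF⟩ := PerfLib.nonempty_resD_congr hr (DCoh.toD X F)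
  refine ⟨J.opensRange, ⟨⟨w, hwW'⟩, ?_⟩, ⟨(PerfLib.resDQIso J.opensRange.ι E).symm ≪≫ gE.symm ≪≫
    rE ≪≫ (PerfLib.resD r).mapIso eJ ≪≫ rF.symm ≪≫ gF ≪≫ PerfLib.resDQIso J.opensRange.ι F⟩⟩
  change j₀ (W₀.ι (l w)) = j₀ v₀
  rw [hlw]
  rfl

end Groth.Agent.S6195
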