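import Groth.Statements.S6197
import Groth.Agent.TorSmooth2Lib.Main

set_option autoImplicit false
set_option backward.isDefEq.respectTransparency false
set_option backward.isDefEq.respectTransparency.types false
set_option maxHeartbeats 1000000
universe u
open CategoryTheory CategoryTheory.Limits AlgebraicGeometry
attribute [local instance] HasDerivedCategory.standard
open KSix

namespace Groth.Agent.S6197

section Helpers
open Groth.Agent in
/-- Absolute amplitude gives amplitude over the base of a flat morphism. -/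
theorem ampAt_of_flat {Y S : Scheme.{u}} (g : Y ⟶ S) [Flat g] {K : CochainComplex Y.Modules ℤ} {a b : ℤ} {y : Y}
    (h : DerSch.HasTorAmplitudeAt (𝟙 Y) a b K y) : DerSch.HasTorAmplitudeAt g a b K y := by
  have hg : DerSch.HasTorAmplitudeAt g (-((0 : ℕ) : ℤ)) 0 (DerSch.unitCx Y) ((𝟙 Y : Y ⟶ Y).base y) := by
    letI := (g.stalkMap ((𝟙 Y : Y ⟶ Y).base y)).hom.toAlgebra
    exact (RelFlatLib.unitAt_iff g _ _ _).2 ((DRingLib.hasTorDimLE_iff_amplitude _ 0).1
      (Dual3Lib.hasTorDimLE_of_FD (n := 0) (Flat.stalkMap g _)))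
  have h' := RelFlatLib.ampAt_comp (𝟙 Y) g 0 hg h
  rw [Nat.cast_zero, sub_zero] at h'
  exact TorSmooth2Lib.ampAt_congr (Category.id_comp g) h'

end Helpers

/-- Let i : X ⟶ X' be a closed immersion, f' : X' ⟶ Y smooth, f = i ≫ f', and F a cochain complex of
O_X-modules. Then F is locally of finite tor amplitude relative to f (stalkwise form) if and only if
the termwise direct image i_* F is locally of finite tor dimension in the absolute sense on X'. -/
theorem result {X X' Y : Scheme.{u}} (i : X ⟶ X')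
    [IsClosedImmersion i] (f' : X' ⟶ Y) [Smooth f'] (F : CochainComplex X.Modules ℤ) :
    DerSch.LocFiniteTorAmplitude (i ≫ f') F ↔
      DCoh.LocHasFiniteTorDim (DCoh.toD X' (((Scheme.Modules.pushforward i).mapHomologicalComplex (ComplexShape.up ℤ)).obj F)) := by
  let P := ((Scheme.Modules.pushforward i).mapHomologicalComplex (ComplexShape.up ℤ)).obj F
  constructor
  · intro hamp y
    obtain ⟨n, V, hyV, hV⟩ := RelFlatLib.exists_smoothRel f' y
    obtain ⟨W₀, a, b, hyW₀, hW₀⟩ : ∃ (W₀ : X'.Opens) (a b : ℤ), y ∈ W₀ ∧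
        ∀ x : X, i x ∈ W₀ → DerSch.HasTorAmplitudeAt (i ≫ f') a b F x := by
      by_cases hy : y ∈ Set.range ⇑i
      · obtain ⟨x, rfl⟩ := hy
        obtain ⟨U, a, b, hxU, hU⟩ := hamp x
        obtain ⟨O, hO, hOU⟩ := i.isClosedEmbedding.isInducing.isOpen_iff.1 U.2
        have hx' : x ∈ ⇑i ⁻¹' O := hOU.symm ▸ hxU
        refine ⟨⟨O, hO⟩, a, b, hx', fun x' hx'' => hU x' ?_⟩
        have h4 : x' ∈ ⇑i ⁻¹' O := hx''
        rwa [hOU] at h4
      · exact ⟨⟨(Set.range ⇑i)ᶜ, i.isClosedEmbedding.isClosed_range.isOpen_compl⟩, 0, 0, hy,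
          fun x hx => absurd ⟨x, rfl⟩ hx⟩
    have hA := TorSmooth2Lib.ampD_push i f' F (V ⊓ W₀) n (a := a) (b := b)
      (fun z hz => ⟨n, V, le_rfl, hz.1, hV⟩) (fun x hx => hW₀ x hx.2)
    refine ⟨V ⊓ W₀, a - n, b, ⟨hyV, hyW₀⟩, fun F' hF' => ?_⟩
    obtain ⟨e⟩ := hF'
    exact (RelFlatLib.flatAmp_iff_ampD _ _ _).2 fun w => RelFlatLib.ampD_of_iso (𝟙 _)
      (PerfLib.resDQIso (V ⊓ W₀).ι F') ((RelFlatLib.ampD_id_res_iff (V ⊓ W₀).ι w _ _ _).2
        (RelFlatLib.ampD_of_iso (𝟙 _) e.symm (hA _ w.2)))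
  · intro h x
    obtain ⟨V, a, b, hxV, hV⟩ := h (i x)
    refine ⟨i ⁻¹ᵁ V, a, b, hxV, fun z hz => ?_⟩
    have h1 : RelFlatLib.AmpD (𝟙 X') a b (DCoh.toD X' P) (i z) :=
      (RelFlatLib.ampD_id_res_iff V.ι ⟨i z, hz⟩ a b _).1 (RelFlatLib.ampD_of_iso (𝟙 _)
        (PerfLib.resDQIso V.ι P).symm ((RelFlatLib.flatAmp_iff_ampD _ _ _).1 (hV P ⟨Iso.refl _⟩) ⟨i z, hz⟩))
    exact (RelFlatLib.ampAt_push_iff i f' z a b F).1
      (ampAt_of_flat f' ((RelFlatLib.ampD_rep (𝟙 X') (Iso.refl _) (i z)).1 h1))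

end Groth.Agent.S6197
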