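import Groth.Statements.S6198
import Mathlib
import Groth.Agent.ProjNatLib.AmpPush
-- import your own Groth.Agent.* helpers here

set_option autoImplicit false
universe u
open CategoryTheory CategoryTheory.Limits AlgebraicGeometry
attribute [local instance] HasDerivedCategory.standard
open KSix

namespace Groth.Agent.S6198

/-- Let S be a scheme, p : X ⟶ S and q : Y ⟶ S with q quasi-compact (Y quasi-compact over S), and f : X
⟶ Y a quasi-compact and quasi-separated morphism with f ≫ q = p (so X too is quasi-compact over S),
the derived direct image being assumed to exist. If F is a cochain complex of O_X-modules whose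
image in D(O_X) has bounded quasi-coherent cohomology and which is locally of finite tor amplitude
relative to p (stalkwise form), then Rf_* F is locally of finite tor amplitude relative to q. -/
theorem result {X Y S : Scheme.{u}} (p : X ⟶ S) (q : Y ⟶ S) (f : X ⟶ Y)
    (w : f ≫ q = p) [QuasiCompact f] [QuasiSeparated f] [QuasiCompact q] [DCoh.HasRpush f]
    (F : CochainComplex X.Modules ℤ) (hqc : DCoh.IsQCohD (DCoh.toD X F)) (c d : ℤ)
    [(DCoh.toD X F).IsGE c] [(DCoh.toD X F).IsLE d] (hF : DerSch.LocFiniteTorAmplitude p F) :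
    DerSch.LocFiniteTorAmplitudeD q ((DCoh.Rpush f).obj (DCoh.toD X F)) := by
  subst w
  intro F' hF' y
  obtain ⟨e⟩ := hF'
  obtain ⟨W, a', c', hy, hW⟩ := ProjNatLib.exists_amp_rpush_loc f q (DCoh.toD X F) hqc (fun x => by
    obtain ⟨V, a, b, hx, hV⟩ := hF x
    exact ⟨V, a, b, hx, fun x' hx' => (RelFlatLib.ampD_rep _ (Iso.refl _) x').2 (hV x' hx')⟩) y
  exact ⟨W, a', c', hy, fun y' hy' => (RelFlatLib.ampD_rep q e y').1 (hW y' hy')⟩

end Groth.Agent.S6198
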