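import Groth.Statements.S6199
import Mathlib
import Groth.Agent.PerfFibreLib.Main
-- import your own Groth.Agent.* helpers here

set_option autoImplicit false
universe u
open CategoryTheory CategoryTheory.Limits AlgebraicGeometry
attribute [local instance] HasDerivedCategory.standard
open KSix

namespace Groth.Agent.S6199

/-- Let X be a scheme, p an integer and E ∈ D⁻(O_X) a (p-1)-pseudo-coherent object. Then, the derived
pullbacks to the points Spec κ(x) ⟶ X being assumed to exist, the function x ↦ dim_{κ(x)} H^p(E ⊗^L
κ(x)) is upper semicontinuous: for every n the set where it is < n is open. (The published statement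
also asserts that this function is constructible; that clause is not stated here.) -/
theorem result (X : Scheme.{u})
    [∀ x : X, DCoh.HasLpull (X.fromSpecResidueField x)] (E : DCoh.D X) (d : ℤ) [E.IsLE d] (p : ℤ)
    (hE : DCoh.IsPseudoCoherentD (p - 1) E) (n : ℕ) :
    IsOpen {x : X | PerfD.betti E x p < n} := by
  refine isOpen_iff_mem_nhds.2 fun x hx => ?_
  obtain ⟨A, j, hj, q₀, M, r, a, b, α, hp, hr, hM, hα⟩ := Groth.Agent.PerfFibreLib.exists_model_pc hE x
  subst hp
  have key : ∀ q, PerfD.betti E (j q) p = Groth.Agent.PerfFibreLib.beta M q p := fun q =>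
    Groth.Agent.PerfFibreLib.betti_eq_beta E j M r a b hr hM α hα q p (by omega)
  have hev := Groth.Agent.PerfFibreLib.eventually_beta_le M r (fun k => (hM k).some) q₀ p
  refine Filter.mem_of_superset
    (j.isOpenEmbedding.isOpenMap.image_mem_nhds (Filter.eventually_iff.1 hev)) ?_
  rintro _ ⟨q, hq, rfl⟩
  have hx' : PerfD.betti E (j q₀) p < n := hx
  rw [key] at hx'
  change PerfD.betti E (j q) p < n
  rw [key]
  exact lt_of_le_of_lt hq hx'

end Groth.Agent.S6199
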