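import Groth.Statements.S6212
import Groth.Agent.RelFlatLib.RelOpen

set_option autoImplicit false
set_option backward.isDefEq.respectTransparency false
set_option backward.isDefEq.respectTransparency.types false
universe u
open CategoryTheory CategoryTheory.Limits AlgebraicGeometry
attribute [local instance] HasDerivedCategory.standard
open KSix

namespace Groth.Agent.S6212

/-- Let f : X ⟶ Y be locally of finite type, F a cochain complex of O_X-modules, a and b integers and x
a point of X. The following are equivalent: (i) on some open neighbourhood U of x, F|_U has perfect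
amplitude in [a, b] relative to U ⟶ Y (pseudo-coherent relative to the morphism in chart form, and
of tor amplitude in [a, b] stalkwise over the local rings of Y); (ii) on some open neighbourhood U
of x, F|_U is (a-1)-pseudo-coherent relative to U ⟶ Y and its cohomology sheaves vanish outside [a,
b], and the complex of stalks F_x over the local ring of Y at f x has tor amplitude in [a, b]. -/
theorem result {X Y : Scheme.{u}} (f : X ⟶ Y)
    [LocallyOfFiniteType f] (F : CochainComplex X.Modules ℤ) (a b : ℤ) (x : X) :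
    (∃ U : X.Opens, x ∈ U ∧ DerSch.HasPerfAmplitudeRel (U.ι ≫ f) a b ((DCoh.restrictCx U).obj F)) ↔
      ((∃ U : X.Opens, x ∈ U ∧
          DerSch.IsPseudoCoherentRel (U.ι ≫ f) (a - 1) (DCoh.toD (U : Scheme.{u}) ((DCoh.restrictCx U).obj F)) ∧
          ∀ i : ℤ, i < a ∨ b < i → IsZero (DCoh.HD (DCoh.toD (U : Scheme.{u}) ((DCoh.restrictCx U).obj F)) i)) ∧
        DerSch.HasTorAmplitudeAt f a b F x) := by
  constructor
  · rintro ⟨U, hxU, hpc, hamp⟩
    exact ⟨⟨U, hxU, hpc (a - 1), fun i hi => (RelFlatLib.isZero_homology_of_ampAt (U.ι ≫ f) hi hamp).of_iso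
      ((DerivedCategory.homologyFunctorFactors _ i).app _)⟩,
      (RelFlatLib.ampAt_restrict_iff f U.ι ⟨x, hxU⟩ a b F).1 (hamp ⟨x, hxU⟩)⟩
  rintro ⟨⟨U, hxU, hrel, hH⟩, hx⟩
  let FU := (DCoh.restrictCx U).obj F
  obtain ⟨X', k, hk, ⟨z₀, hz₀⟩, hpc, hamp⟩ := RelFlatLib.exists_relPerfect_nhd_chart (U.ι ≫ f) FU hrel hH
    (x := (⟨x, hxU⟩ : U)) ((RelFlatLib.ampAt_restrict_iff f U.ι ⟨x, hxU⟩ a b F).2 hx)
  let l := k ≫ U.ι
  let r := (Scheme.Hom.isoOpensRange l).inv
  have hr : r ≫ l = l.opensRange.ι := Scheme.Hom.isoOpensRange_inv_comp l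
  obtain ⟨c₁⟩ := PerfLib.nonempty_resD_comp k U.ι (DCoh.toD X F)
  obtain ⟨c₂⟩ := PerfLib.nonempty_resD_comp r l (DCoh.toD X F)
  obtain ⟨c₃⟩ := PerfLib.nonempty_resD_congr hr (DCoh.toD X F)
  refine ⟨l.opensRange, ⟨z₀, congrArg Subtype.val hz₀⟩, fun m => ?_, fun z => ?_⟩
  · have h1 := RelPCSchLib.rel_res r (k ≫ U.ι ≫ f) (RelPCSchLib.rel_of_iso _
      ((PerfLib.resD k).mapIso (PerfLib.resDQIso U.ι F).symm ≪≫ c₁.symm) (hpc m))
    have he : r ≫ k ≫ U.ι ≫ f = l.opensRange.ι ≫ f := by rw [← hr]; simp [l]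
    rw [he] at h1
    exact RelPCSchLib.rel_of_iso _ (c₂.symm ≪≫ c₃ ≪≫ PerfLib.resDQIso l.opensRange.ι F) h1
  · obtain ⟨w, hw⟩ := z.2
    refine (RelFlatLib.ampAt_restrict_iff f l.opensRange.ι z a b F).2 ?_
    have h2 := (RelFlatLib.ampAt_restrict_iff f U.ι (k w) a b F).1 (hamp w)
    rwa [show U.ι (k w) = l.opensRange.ι z from hw] at h2

end Groth.Agent.S6212
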