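import Groth.Statements.S6213
import Groth.Agent.RelPCSchLib.Flat

set_option autoImplicit false
set_option backward.isDefEq.respectTransparency false
set_option backward.isDefEq.respectTransparency.types false
universe u
open CategoryTheory CategoryTheory.Limits AlgebraicGeometry
attribute [local instance] HasDerivedCategory.standard
open KSix

namespace Groth.Agent.S6213

/-- Let f : X ⟶ Y be locally of finite type and M an O_X-module. Then M placed in degree 0 has perfect
amplitude in [0, 0] relative to f (pseudo-coherent relative to f in chart form and of stalkwise tor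
amplitude in [0, 0] over the local rings of Y) if and only if M is flat over Y at every point of X
and M placed in degree 0 is (-1)-pseudo-coherent relative to f (that is, finitely presented relative
to f). -/
theorem result {X Y : Scheme.{u}} (f : X ⟶ Y)
    [LocallyOfFiniteType f] (M : X.Modules) :
    DerSch.HasPerfAmplitudeRel f 0 0 ((HomologicalComplex.single _ (ComplexShape.up ℤ) 0).obj M) ↔
      (FlatMod.IsFlatOver f M ∧ DerSch.IsPseudoCoherentRel f (-1) (DCoh.toD X ((HomologicalComplex.single _ (ComplexShape.up ℤ) 0).obj M))) := by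
  refine ⟨fun ⟨hpc, hamp⟩ => ⟨RelPCSchLib.isFlatOver_of_torAmplitude f M hamp, hpc (-1)⟩,
    fun ⟨hfl, hfp⟩ => ?_⟩
  let E := (HomologicalComplex.single X.Modules (ComplexShape.up ℤ) 0).obj M
  have hz : ∀ i : ℤ, i ≠ 0 → IsZero (E.X i) := fun i hi =>
    HomologicalComplex.isZero_single_obj_X _ 0 M i hi
  refine ⟨fun m => RelPCSchLib.rel_of_iso f (Iso.refl _)
    (RelPCSchLib.rel_inD_of_flat f M hfl (RelPCSchLib.rel_of_iso f (Iso.refl _) hfp) m),
    RelPCSchLib.hasTorAmplitude_of_flat_terms f E 0 0 (fun i hi => hz i (by omega)) fun i => ?_⟩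
  intro x
  letI := FlatMod.moduleStalkOver f (E.X i) x
  rcases eq_or_ne i 0 with rfl | hi
  · haveI : Module.Flat (Y.presheaf.stalk (f.base x)) ↑((DerSch.stalkOver f x).obj M) := hfl x
    change Module.Flat _ ↑((DerSch.stalkOver f x).obj (E.X 0))
    exact Module.Flat.of_linearEquiv ((DerSch.stalkOver f x).mapIso
      (HomologicalComplex.singleObjXSelf (ComplexShape.up ℤ) 0 M)).toLinearEquiv
  · haveI : Subsingleton ↑((DerSch.stalkOver f x).obj (E.X i)) :=
      ModuleCat.subsingleton_of_isZero ((DerSch.stalkOver f x).map_isZero (hz i hi))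
    change Module.Flat _ ↑((DerSch.stalkOver f x).obj (E.X i))
    infer_instance

end Groth.Agent.S6213
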