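import Groth.Statements.S6214
import Groth.Agent.S6213
import Groth.Agent.RelPCSchLib.LFP
import Groth.Agent.DepthLib.SkOpen

set_option autoImplicit false
set_option backward.isDefEq.respectTransparency false
set_option backward.isDefEq.respectTransparency.types false
universe u
open CategoryTheory CategoryTheory.Limits AlgebraicGeometry
attribute [local instance] HasDerivedCategory.standard
open KSix

namespace Groth.Agent.S6214

/-- A morphism f : X ⟶ Y locally of finite type has perfect dimension at most 0 (O_X placed in degree 0
is pseudo-coherent relative to f in chart form and has stalkwise tor amplitude in [0, 0] over the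
local rings of Y) if and only if f is flat and locally of finite presentation. -/
theorem result {X Y : Scheme.{u}} (f : X ⟶ Y) [LocallyOfFiniteType f] :
    DerSch.HasPerfDimLE f 0 ↔ (Flat f ∧ LocallyOfFinitePresentation f) := by
  refine (Groth.Agent.S6213.result f (Coh.structureModule X)).trans (and_congr ?_
    (RelPCSchLib.nPC_neg_one_iff f))
  exact ⟨fun h => Flat.of_stalkMap _ fun x => (DepthLib.isFlatOverAt_structureModule_iff f x).1 (h x),
    fun h x => (DepthLib.isFlatOverAt_structureModule_iff f x).2 (Flat.stalkMap f x)⟩

end Groth.Agent.S6214
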