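import Groth.Statements.S6217
import Groth.Agent.RelFlatLib.SmoothAmp
import Groth.Agent.RelPCSchLib.Immersion

set_option autoImplicit false
set_option backward.isDefEq.respectTransparency false
set_option backward.isDefEq.respectTransparency.types false
universe u
open CategoryTheory CategoryTheory.Limits AlgebraicGeometry
attribute [local instance] HasDerivedCategory.standard
open KSix

namespace Groth.Agent.S6217

/-- Let i : X ⟶ Y be a closed immersion, g : Y ⟶ S smooth, and F a cochain complex of O_X-modules. Then
F is perfect relative to i ≫ g (pseudo-coherent relative to it in chart form, and locally on X of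
finite stalkwise tor amplitude over the local rings of S) if and only if the termwise direct image
i_* F, which computes Ri_* F, is perfect on Y in the absolute sense. -/
theorem result {X Y S : Scheme.{u}} (i : X ⟶ Y) [IsClosedImmersion i]
    (g : Y ⟶ S) [Smooth g] (F : CochainComplex X.Modules ℤ) :
    DerSch.IsPerfectRel (i ≫ g) F ↔ DCoh.IsPerfect (DCoh.toD Y (((Scheme.Modules.pushforward i).mapHomologicalComplex (ComplexShape.up ℤ)).obj F)) := by
  refine ⟨fun h => RelFlatLib.isPerfect_push i g F
      (fun m => (RelPCSchLib.rel_immersion_comp_iff i g m F).1.1 (h.1 m)) h.2,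
    fun h => ⟨fun m => (RelPCSchLib.rel_immersion_comp_iff i g m F).1.2 (RelFlatLib.isPC_of_isPerfect h m),
      fun x => ?_⟩⟩
  obtain ⟨V, a, b, hx, hV⟩ := RelFlatLib.locAmp_of_isPerfect g h (i x)
  exact ⟨i ⁻¹ᵁ V, a, b, hx, fun x' hx' => (RelFlatLib.ampAt_push_iff i g x' a b F).1 (hV _ hx')⟩

end Groth.Agent.S6217
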