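import Groth.Statements.S6223
import Mathlib
import Groth.Agent.ProjNatLib.AmpPush
import Groth.Agent.ProjNatLib.RelPush
-- import your own Groth.Agent.* helpers here

set_option autoImplicit false
universe u
open CategoryTheory CategoryTheory.Limits AlgebraicGeometry
attribute [local instance] HasDerivedCategory.standard
open KSix

namespace Groth.Agent.S6223

/-- Case of a locally Noetherian base: let S be locally Noetherian, p : X ⟶ S and q : Y ⟶ S locally of
finite type, f : X ⟶ Y proper with f ≫ q = p, and F a cochain complex of O_X-modules whose class in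
D(O_X) has bounded cohomology and which is perfect relative to p (pseudo-coherent relative to p in
chart form, and locally on X of finite stalkwise tor amplitude over the local rings of S). Then,
Rf_* being assumed to exist, Rf_* F is perfect relative to q: every cochain complex representing it
is. -/
theorem result {X Y S : Scheme.{u}} [IsLocallyNoetherian S]
    (p : X ⟶ S) (q : Y ⟶ S) [LocallyOfFiniteType p] [LocallyOfFiniteType q] (f : X ⟶ Y) [IsProper f] (w : f ≫ q = p)
    [DCoh.HasRpush f] (F : CochainComplex X.Modules ℤ) (a b : ℤ) [(DCoh.toD X F).IsGE a] [(DCoh.toD X F).IsLE b]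
    (hF : DerSch.IsPerfectRel p F) :
    ∀ F' : CochainComplex Y.Modules ℤ, Nonempty (DCoh.toD Y F' ≅ (DCoh.Rpush f).obj (DCoh.toD X F)) →
      DerSch.IsPerfectRel q F' := by
  subst w
  intro F' hF'
  obtain ⟨e⟩ := hF'
  refine ⟨fun m => Groth.Agent.RelPCSchLib.rel_of_iso q e.symm (ProjNatLib.rel_rpush_noeth q f _ hF.1 m), fun y => ?_⟩
  obtain ⟨W, a', c', hy, hW⟩ := ProjNatLib.exists_amp_rpush_loc f q (DCoh.toD X F)
    (ProjNatLib.isQCohD_of_rel _ hF.1) (fun x => by
    obtain ⟨V, a, b, hx, hV⟩ := hF.2 x
    exact ⟨V, a, b, hx, fun x' hx' => (RelFlatLib.ampD_rep _ (Iso.refl _) x').2 (hV x' hx')⟩) y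
  exact ⟨W, a', c', hy, fun y' hy' => (RelFlatLib.ampD_rep q e y').1 (hW y' hy')⟩

end Groth.Agent.S6223
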