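import Groth.Statements.S6229
import Mathlib
import Mathlib
import Groth.Agent.LpullPCCompLib.Main
import Groth.Agent.RelFlatLib.LpullStalk
-- import your own Groth.Agent.* helpers here

set_option autoImplicit false
universe u
open CategoryTheory CategoryTheory.Limits AlgebraicGeometry
attribute [local instance] HasDerivedCategory.standard
open KSix

namespace Groth.Agent.S6229

/-- Let f : X ⟶ Y and g : Y ⟶ Z be locally of finite type, m a natural number with f of perfect
dimension at most m (O_X placed in degree 0 is pseudo-coherent relative to f in chart form, with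
stalkwise tor amplitude in [-m, 0] over the local rings of Y), c and d integers, and G a cochain
complex of O_Y-modules with perfect amplitude in [c, d] relative to g. Then, the derived pullback
Lf^* being assumed to exist, Lf^* G has perfect amplitude in [c - m, d] relative to f ≫ g: every
cochain complex representing it does. -/
theorem result {X Y Z : Scheme.{u}} (f : X ⟶ Y) (g : Y ⟶ Z)
    [LocallyOfFiniteType f] [LocallyOfFiniteType g] (m : ℕ) (hf : DerSch.HasPerfDimLE f m) [DCoh.HasLpull f] (c d : ℤ)
    (G : CochainComplex Y.Modules ℤ) (hG : DerSch.HasPerfAmplitudeRel g c d G) :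
    ∀ F' : CochainComplex X.Modules ℤ, Nonempty (DCoh.toD X F' ≅ (DCoh.Lpull f).obj (DCoh.toD Y G)) →
      DerSch.HasPerfAmplitudeRel (f ≫ g) (c - m) d F' := by
  intro F' hF'
  obtain ⟨e⟩ := hF'
  have hq : DCoh.IsQCohD (DCoh.toD Y G) := fun i =>
    RelPCSchLib.isQCoh_HD_of_rel g (hG.1 (i - 1)) i (by omega)
  refine ⟨fun k => RelPCSchLib.rel_of_iso _ e.symm
    (LpullPCCompLib.rel_lpull_comp f g hf.1 k hq (hG.1 k)), ?_⟩
  obtain ⟨P, hP, ⟨eP⟩⟩ := KFlatLib.exists_good_rep (DCoh.toD Y G)
  exact RelFlatLib.ampD_lpull_of_kflat f (f ≫ g) hP.1 eP (fun x =>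
    RelFlatLib.amp_res_extCx (g.stalkMap (f.base x)).hom (f.stalkMap x).hom
      (by rw [Scheme.Hom.stalkMap_comp]; rfl) (RelFlatLib.amp_stalk_algebra f x hf.2)
      (KFlatLib.stalks_isKFlat hP.1 (f x)) (RelFlatLib.ampAt_of_iso g eP.symm (hG.2 (f.base x)))) F' ⟨e⟩

end Groth.Agent.S6229
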