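import Groth.Statements.S6239
import Groth.Prelude.Def_DerSch2

set_option autoImplicit false
set_option backward.isDefEq.respectTransparency false
set_option backward.isDefEq.respectTransparency.types false
universe u
open CategoryTheory CategoryTheory.Limits AlgebraicGeometry
attribute [local instance] HasDerivedCategory.standard
open KSix

namespace Groth.Agent.S6239

/-- Let f : X ⟶ Y be a morphism with X quasi-compact and F a cochain complex of O_X-modules which is
perfect relative to f (pseudo-coherent relative to f in chart form, and locally on X of finite
stalkwise tor amplitude over the local rings of Y). Then F has finite perfect amplitude relative to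
f: one interval [a, b] works at every point of X. -/
theorem result {X Y : Scheme.{u}} [CompactSpace X] (f : X ⟶ Y)
    (F : CochainComplex X.Modules ℤ) (hF : DerSch.IsPerfectRel f F) :
    DerSch.HasFinitePerfAmplitudeRel f F := by
  obtain ⟨hPC, hloc⟩ := hF
  choose V a b hx hV using hloc
  obtain ⟨t, ht⟩ := CompactSpace.elim_nhds_subcover (fun x => (V x : Set X))
    (fun x => (V x).2.mem_nhds (hx x))
  rcases t.eq_empty_or_nonempty with rfl | hne
  · refine ⟨0, 0, hPC, fun x => ?_⟩
    have : x ∈ (⊤ : Set X) := trivial
    rw [← ht] at this
    simp at this
  refine ⟨t.inf' hne a, t.sup' hne b, hPC, fun x => ?_⟩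
  have : x ∈ (⊤ : Set X) := trivial
  rw [← ht] at this
  simp only [Set.mem_iUnion] at this
  obtain ⟨y, hy, hxy⟩ := this
  obtain ⟨E, hE, hfl, hiso⟩ := hV y x hxy
  exact ⟨E, fun i hi => hE i (by
    have h1 := Finset.inf'_le a hy
    have h2 := Finset.le_sup' b hy
    omega), hfl, hiso⟩

end Groth.Agent.S6239
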