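import Groth.Statements.S6240
import Groth.Agent.RelFlatLib.LpullTensorStalk

set_option autoImplicit false
set_option backward.isDefEq.respectTransparency false
set_option backward.isDefEq.respectTransparency.types false
universe u
open CategoryTheory CategoryTheory.Limits AlgebraicGeometry
attribute [local instance] HasDerivedCategory.standard
open KSix

namespace Groth.Agent.S6240

/-- Let f : X ⟶ Y and g : Y ⟶ Z be morphisms of schemes with composite h, F a cochain complex of
O_X-modules with tor amplitude in [a, b] relative to f, and G a cochain complex of O_Y-modules with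
tor amplitude in [c, d] relative to g (both stalkwise: at every point the complex of stalks is
isomorphic, in the derived category of the local ring of the base, to a complex of flat modules
placed in the interval). Then, the derived pullback Lf^* and the derived tensor product with F being
assumed to exist, the object Lf^* G ⊗^L F of D(O_X) has tor amplitude in [a + c, b + d] relative to
h: every cochain complex representing it has stalkwise flat models placed in [a + c, b + d] over the
local rings of Z. (The published statement is for a commutative triangle of ringed topoi in which X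
has enough points, and writes the relative derived tensor product of F and G over Y, defined as F
⊗^L Lf^* G; this row is the case of schemes, with tor amplitude in its stalkwise form and the
derived tensor product taken with F as the fixed right-hand factor.) -/
theorem result {X Y Z : Scheme.{u}} (f : X ⟶ Y) (g : Y ⟶ Z)
    (h : X ⟶ Z) (w : f ≫ g = h) (F : CochainComplex X.Modules ℤ) (a b : ℤ)
    (hF : DerSch.HasTorAmplitude f a b F) (G : CochainComplex Y.Modules ℤ) (c d : ℤ)
    (hG : DerSch.HasTorAmplitude g c d G) [DCoh.HasLpull f] [DCoh.HasLTensorCx F] :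
    DerSch.HasTorAmplitudeD h (a + c) (b + d)
      ((DCoh.LTensorCx F).obj ((DCoh.Lpull f).obj (DCoh.toD Y G))) := by
  subst w
  obtain ⟨P, hP, ⟨eP⟩⟩ := KFlatLib.exists_good_rep (DCoh.toD Y G)
  obtain ⟨eT⟩ := KFlatLib.exists_lTensorCxObjIso F ((KFlatLib.pullCx f).obj P) (KFlatLib.isKFlat_pull f hP.1)
  let T := ((DCoh.tensorCx (X := X)).obj ((KFlatLib.pullCx f).obj P)).obj F
  let eAll : DCoh.toD _ T ≅ (DCoh.LTensorCx F).obj ((DCoh.Lpull f).obj (DCoh.toD Y G)) :=
    eT.symm ≪≫ (DCoh.LTensorCx F).mapIso
      ((KFlatLib.lpullObjIso f P hP.1).symm ≪≫ (DCoh.Lpull f).mapIso eP)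
  intro F' hF'
  obtain ⟨eF'⟩ := hF'
  intro x
  refine RelFlatLib.ampAt_of_iso (f ≫ g) (eAll ≪≫ eF'.symm) ?_
  have h := RelFlatLib.amp_res_ext_tensor (g.stalkMap (f.base x)).hom (f.stalkMap x).hom
    (χ := ((f ≫ g).stalkMap x).hom) (by rw [Scheme.Hom.stalkMap_comp]; rfl) (F := (KFlatLib.stalkCx X x).obj F) (a := a) (b := b) (hF x)
    (KFlatLib.stalks_isKFlat hP.1 (f x)) (RelFlatLib.ampAt_of_iso g eP.symm (hG (f.base x)))
  exact DRingLib.hasTorAmplitudeIn_of_iso (DerivedCategory.Q.mapIso
    (((ModuleCat.restrictScalars.{u} ((f ≫ g).stalkMap x).hom).mapHomologicalComplex (ComplexShape.up ℤ)).mapIso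
      (RelFlatLib.stalkPullTensorIso f x P F).symm)) h

end Groth.Agent.S6240
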