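import Groth.Statements.S6241
import Groth.Agent.RelFlatLib.LpullTensorStalk

set_option autoImplicit false
set_option backward.isDefEq.respectTransparency false
set_option backward.isDefEq.respectTransparency.types false
universe u
open CategoryTheory CategoryTheory.Limits AlgebraicGeometry
attribute [local instance] HasDerivedCategory.standard
open KSix

namespace Groth.Agent.S6241

/-- Let f : X ⟶ Y be a morphism of schemes and F a cochain complex of O_X-modules with bounded above
cohomology and tor amplitude in [m, n] relative to f in the stalkwise sense (at every point x of X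
the complex of stalks F_x is isomorphic, in the derived category of the local ring of Y at f x, to a
complex of flat modules placed in [m, n]). Then for every open V of Y and every O_V-module M, the
derived pullback along the restriction f⁻¹(V) ⟶ V of f and the derived tensor product with the
restriction of F to f⁻¹(V) being assumed to exist, the cohomology sheaves of L(f|)^* M ⊗^L (F
restricted to f⁻¹(V)) vanish outside [m, n]. (The published statement is for a morphism of ringed
topoi whose source has enough points, with V an object of the target topos; this row is the case of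
schemes, V an open subscheme, and the derived tensor product taken with the restriction of F as the
fixed right-hand factor.) -/
theorem result {X Y : Scheme.{u}} (f : X ⟶ Y)
    (F : CochainComplex X.Modules ℤ) (e : ℤ) [(DCoh.toD X F).IsLE e] (m n : ℤ)
    (hF : DerSch.HasTorAmplitude f m n F) (V : Y.Opens) (M : (V : Scheme.{u}).Modules)
    [DCoh.HasLpull (f ∣_ V)] [DCoh.HasLTensorCx ((DCoh.restrictCx (f ⁻¹ᵁ V)).obj F)]
    (i : ℤ) (hi : i < m ∨ n < i) :
    IsZero (DCoh.HD ((DCoh.LTensorCx ((DCoh.restrictCx (f ⁻¹ᵁ V)).obj F)).obj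
      ((DCoh.Lpull (f ∣_ V)).obj (DCoh.inD (V : Scheme.{u}) M))) i) := by
  let U := f ⁻¹ᵁ V
  let g := f ∣_ V
  let F' := (DCoh.restrictCx U).obj F
  obtain ⟨P, hP, ⟨eP⟩⟩ := KFlatLib.exists_good_rep (DCoh.inD (V : Scheme.{u}) M)
  have hK := KFlatLib.isKFlat_pull g hP.1
  obtain ⟨eT⟩ := KFlatLib.exists_lTensorCxObjIso F' ((KFlatLib.pullCx g).obj P) hK
  let T := ((DCoh.tensorCx (X := (U : Scheme.{u}))).obj ((KFlatLib.pullCx g).obj P)).obj F'
  let eAll : DCoh.toD _ T ≅ (DCoh.LTensorCx F').obj ((DCoh.Lpull g).obj (DCoh.inD (V : Scheme.{u}) M)) :=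
    eT.symm ≪≫ (DCoh.LTensorCx F').mapIso
      ((KFlatLib.lpullObjIso g P hP.1).symm ≪≫ (DCoh.Lpull g).mapIso eP)
  refine (?_ : IsZero (T.homology i)).of_iso (((DerivedCategory.homologyFunctor _ i).mapIso eAll).symm ≪≫
    (DerivedCategory.homologyFunctorFactors _ i).app T)
  refine (KFlatLib.isZero_iff_forall_stalk _).2 fun x => ?_
  refine IsZero.of_iso ?_ ((T.sc i).mapHomologyIso (DerSch.stalkFunctor _ x)).symm
  refine IsZero.of_iso ?_ ((HomologicalComplex.homologyFunctor _ (ComplexShape.up ℤ) i).mapIso
    (RelFlatLib.stalkPullTensorIso g x P F'))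
  have hF' : DerSch.HasTorAmplitudeAt g m n F' x :=
    (RelFlatLib.ampAt_target_iff g V.ι x m n F').1 (by
      rw [show g ≫ V.ι = U.ι ≫ f from morphismRestrict_ι f V]
      exact (RelFlatLib.ampAt_restrict_iff f U.ι x m n F).2 (hF _))
  refine RelFlatLib.isZero_homology_tensor_ext (g.stalkMap x).hom (F := (KFlatLib.stalkCx _ x).obj F') (a := m) (b := n) hF' (KFlatLib.stalks_isKFlat hP.1 (g x))
    (c := 0) (d := 0) (fun j hj => ?_) i (by omega)
  have h0 : IsZero (DCoh.HD (DCoh.inD (V : Scheme.{u}) M) j) :=
    hj.elim (fun h => DerivedCategory.isZero_of_isGE _ 0 j h) (fun h => DerivedCategory.isZero_of_isLE _ 0 j h)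
  exact ((DerSch.stalkFunctor _ (g x)).map_isZero (h0.of_iso
    (((DerivedCategory.homologyFunctorFactors _ j).app P).symm ≪≫
      (DerivedCategory.homologyFunctor _ j).mapIso eP))).of_iso
      ((P.sc j).mapHomologyIso (DerSch.stalkFunctor _ (g x)))

end Groth.Agent.S6241
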