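import Groth.Statements.S6242
import Groth.Agent.TorInd2Lib.Main

set_option autoImplicit false
set_option backward.isDefEq.respectTransparency false
set_option backward.isDefEq.respectTransparency.types false
set_option maxHeartbeats 1000000
universe u
open CategoryTheory CategoryTheory.Limits AlgebraicGeometry
attribute [local instance] HasDerivedCategory.standard
open KSix

namespace Groth.Agent.S6242

/-- Flat second factor: let S be a scheme and, for i = 1, 2, f_i : X_i ⟶ Y_i a morphism of S-schemes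
(structure morphisms q_i : Y_i ⟶ S, and X_i over S through f_i ≫ q_i), with X₂ and Y₂ flat over S.
Let X = X₁ ×_S X₂ and Y = Y₁ ×_S Y₂, given by pullback squares, and f : X ⟶ Y the morphism
compatible with the two projections. If f₁ has tor dimension at most n₁ and f₂ has tor dimension at
most n₂ (stalkwise: the local ring of the source at each point is isomorphic, in the derived
category of the local ring of the target, to a complex of flat modules placed in [-n_i, 0]), then f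
has tor dimension at most n₁ + n₂; in particular f has finite tor dimension. (The published
statement assumes only that X₁, X₂ and Y₁, Y₂ are tor-independent over S; this row takes X₂ and Y₂
flat over S, which implies both conditions, and records the bound n₁ + n₂ that the published proof
gives.) -/
theorem result {S X₁ Y₁ X₂ Y₂ X Y : Scheme.{u}} (f₁ : X₁ ⟶ Y₁) (q₁ : Y₁ ⟶ S)
    (f₂ : X₂ ⟶ Y₂) (q₂ : Y₂ ⟶ S) [Flat q₂] [Flat (f₂ ≫ q₂)]
    (pX₁ : X ⟶ X₁) (pX₂ : X ⟶ X₂) (hX : IsPullback pX₁ pX₂ (f₁ ≫ q₁) (f₂ ≫ q₂))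
    (pY₁ : Y ⟶ Y₁) (pY₂ : Y ⟶ Y₂) (hY : IsPullback pY₁ pY₂ q₁ q₂)
    (f : X ⟶ Y) (hf₁ : f ≫ pY₁ = pX₁ ≫ f₁) (hf₂ : f ≫ pY₂ = pX₂ ≫ f₂)
    (n₁ n₂ : ℕ) (h₁ : DerSch.HasTorDimLE f₁ n₁) (h₂ : DerSch.HasTorDimLE f₂ n₂) :
    DerSch.HasTorDimLE f (n₁ + n₂) := by
  let Z := pullback q₁ (f₂ ≫ q₂)
  let z₁ : Z ⟶ Y₁ := pullback.fst q₁ (f₂ ≫ q₂)
  let z₂ : Z ⟶ X₂ := pullback.snd q₁ (f₂ ≫ q₂)
  have hZ : IsPullback z₁ z₂ q₁ (f₂ ≫ q₂) := IsPullback.of_hasPullback _ _
  let g₁ : X ⟶ Z := hZ.lift (pX₁ ≫ f₁) pX₂ (by rw [Category.assoc]; exact hX.w)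
  let h : Z ⟶ Y := hY.lift z₁ (z₂ ≫ f₂) (by rw [Category.assoc]; exact hZ.w)
  haveI : Flat z₁ := MorphismProperty.of_isPullback hZ.flip inferInstance
  have hA : IsPullback pX₁ g₁ f₁ z₁ :=
    (IsPullback.of_right (by rw [hZ.lift_snd]; exact hX.flip) (hZ.lift_fst _ _ _) hZ.flip).flip
  have hB : IsPullback z₂ h f₂ pY₂ :=
    (IsPullback.of_right (by rw [hY.lift_fst]; exact hZ) (hY.lift_snd _ _ _) hY).flip
  have h₁' := TorInd2Lib.hasTorDimLE_flat hA n₁ h₁
  have h₂' := TorInd2Lib.hasTorDimLE_indep hB hY.flip n₂ h₂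
  have hf : g₁ ≫ h = f := hY.hom_ext
    (by rw [Category.assoc, hY.lift_fst, hZ.lift_fst, hf₁])
    (by rw [Category.assoc, hY.lift_snd, ← Category.assoc, hZ.lift_snd, hf₂])
  have h3 := RelFlatLib.amp_comp g₁ h n₂ h₂' h₁'
  rw [hf] at h3
  show DerSch.HasTorAmplitude f _ _ _
  rw [show (-((n₁ + n₂ : ℕ) : ℤ)) = -(n₁ : ℤ) - n₂ by push_cast; ring]
  exact h3

end Groth.Agent.S6242
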