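import Groth.Statements.S6245
import Mathlib
import Groth.Agent.ExactHpLib.Nhd
-- import your own Groth.Agent.* helpers here

set_option autoImplicit false
universe u
open CategoryTheory CategoryTheory.Limits AlgebraicGeometry
attribute [local instance] HasDerivedCategory.standard
open KSix

namespace Groth.Agent.S6245

/-- Let X be a scheme, p an integer, x a point of X and E ∈ D⁻(O_X), given by a cochain complex F, a
p-pseudo-coherent object; let F_x be the complex of stalks of F at x, a complex of modules over the
local ring O_{X,x}. The derived tensor products with F_x and with the restrictions of F to the opens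
of X being assumed to exist: if the functor M ↦ H^p(M ⊗^L F_x) on O_{X,x}-modules is right exact,
then x has an open neighbourhood U such that the functor M ↦ H^p(M ⊗^L (F restricted to U)) from
O_U-modules to O_U-modules is right exact. (The published statement is for a point of a locally
ringed topos and writes the functors as M ↦ H^p(E_x ⊗^L M) and M ↦ H^p(E|_U ⊗^L M); this row is the
case of a scheme, with the derived tensor products taken with the complex as the fixed right-hand
factor.) -/
theorem result {X : Scheme.{u}} (F : CochainComplex X.Modules ℤ)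
    (e : ℤ) [(DCoh.toD X F).IsLE e] (p : ℤ) (hE : DCoh.IsPseudoCoherentD p (DCoh.toD X F)) (x : X)
    [DRing.HasLTensorCx (X.presheaf.stalk x) (((DerSch.stalkFunctor X x).mapHomologicalComplex (ComplexShape.up ℤ)).obj F)]
    [PreservesFiniteColimits (DerivedCategory.singleFunctor (ModuleCat.{u} (X.presheaf.stalk x)) 0 ⋙ DRing.LTensorCx (X.presheaf.stalk x) (((DerSch.stalkFunctor X x).mapHomologicalComplex (ComplexShape.up ℤ)).obj F) ⋙ DerivedCategory.homologyFunctor (ModuleCat.{u} (X.presheaf.stalk x)) p)]
    [∀ U : X.Opens, DCoh.HasLTensorCx ((DCoh.restrictCx U).obj F)] :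
    ∃ U : X.Opens, x ∈ U ∧ PreservesFiniteColimits (DerivedCategory.singleFunctor (U : Scheme.{u}).Modules 0 ⋙ DCoh.LTensorCx ((DCoh.restrictCx U).obj F) ⋙ DerivedCategory.homologyFunctor (U : Scheme.{u}).Modules p) := by
  let P := (KFlatLib.resP X).obj F
  let q : P ⟶ F := (KFlatLib.resψ X).app F
  haveI : QuasiIso q := KFlatLib.quasiIso_resψ F
  have hP : DCoh.IsKFlat P := (KFlatLib.good_resP F).1
  haveI hqx : QuasiIso ((KFlatLib.stalkCx X x).map q) := inferInstance
  obtain ⟨a⟩ := ExactHpLib.nonempty_ring_iso (((DerSch.stalkFunctor X x).mapHomologicalComplex (ComplexShape.up ℤ)).obj F)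
    ((KFlatLib.stalkCx X x).obj P) ((KFlatLib.stalkCx X x).map q) (KFlatLib.stalks_isKFlat hP x) p
  have hf : ∀ n, Module.Flat (X.presheaf.stalk x) (((KFlatLib.stalkCx X x).obj P).X n) :=
    fun n => (KFlatLib.good_resP F).2 n x
  have hl := (ExactHpLib.rightExact_iff_leftExact_succ (ExactHpLib.tN ((KFlatLib.stalkCx X x).obj P))
    (fun S hS => ExactHpLib.shortExact_tN _ hf hS) p).1 (preservesFiniteColimits_of_natIso a)
  obtain ⟨U, hxU, h⟩ := ExactHpLib.exists_nhd_lex F (p + 1) (by rw [add_sub_cancel_right]; exact hE) x P q hP
    (fun n x => (KFlatLib.good_resP F).2 n x) hl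
  refine ⟨U, hxU, ?_⟩
  have h2 := h.2
  rwa [add_sub_cancel_right] at h2

end Groth.Agent.S6245
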