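import Groth.Statements.S6247
import Groth.Agent.SiteExactLib.Main
import Groth.Agent.ModSiteLib.TensorAssoc

open HomologicalComplex

set_option autoImplicit false
set_option backward.isDefEq.respectTransparency false
set_option backward.isDefEq.respectTransparency.types false
universe u
open CategoryTheory CategoryTheory.Limits AlgebraicGeometry
attribute [local instance] HasDerivedCategory.standard
open KSix

namespace Groth.Agent.S6247

/-- One ringed site: let (C, J, O) be a small site with a sheaf of commutative rings O, let E be a
cochain complex of O-modules isomorphic in D(O) to a complex P of flat O-modules which vanishes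
outside [m, n] (E has flat amplitude in [m, n]), and let F be a cochain complex of flat O-modules
which vanishes outside [m', n']. Then, the derived tensor product − ⊗^L_O F being assumed to exist,
E ⊗^L_O F is isomorphic in D(O) to a complex of flat O-modules vanishing outside [m + m', n + n']:
flat amplitudes add, and in particular the derived tensor product of two objects of finite flat
amplitude has finite flat amplitude. (The published statement is for a morphism of ringed topoi f
from S' to S and the external derived tensor product of an object over S' with an object over S,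
flatness meaning exactness of the tensor product functor; this row is the case S' = S with f the
identity, on the topos of sheaves on a small site, with the second factor given by its own flat
model.) -/
theorem result {C : Type u} [SmallCategory C]
    {J : GrothendieckTopology C} (O : Sheaf J CommRingCat.{u}) (E P : CochainComplex (ModSite.Mod O) ℤ)
    (m n : ℤ) (hP : ∀ i : ℤ, ModSite.IsFlat (P.X i)) (hPb : ∀ i : ℤ, i < m ∨ n < i → IsZero (P.X i))
    (eP : DerivedCategory.Q.obj P ≅ DerivedCategory.Q.obj E) (F : CochainComplex (ModSite.Mod O) ℤ)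
    (m' n' : ℤ) (hF : ∀ i : ℤ, ModSite.IsFlat (F.X i)) (hFb : ∀ i : ℤ, i < m' ∨ n' < i → IsZero (F.X i))
    [ModSite.HasLTensorCx F] :
    ∃ G : CochainComplex (ModSite.Mod O) ℤ, (∀ i : ℤ, ModSite.IsFlat (G.X i)) ∧
      (∀ i : ℤ, i < m + m' ∨ n + n' < i → IsZero (G.X i)) ∧
      Nonempty (DerivedCategory.Q.obj G ≅ (ModSite.LTensorCx F).obj (DerivedCategory.Q.obj E)) := by
  let T := ModSite.tensorBi O
  have hT : ∀ M N : ModSite.Mod O, ModSite.IsFlat M → ModSite.IsFlat N →
      ModSite.IsFlat ((T.obj M).obj N) := fun M N hM hN => by
    refine _root_.ModSiteLib.isFlat_of_preservesFiniteLimits ?_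
    haveI := hM.1
    haveI := hN.1
    haveI : PreservesFiniteLimits (T.flip.obj M ⋙ T.flip.obj N) := comp_preservesFiniteLimits _ _
    let e : T.flip.obj M ⋙ T.flip.obj N ≅ T.flip.obj ((T.obj M).obj N) :=
      NatIso.ofComponents (fun X => (((_root_.ModSiteLib.assocBi O).app X).app M).app N)
        (fun {X Y} g => congr_app (congr_app ((_root_.ModSiteLib.assocBi O).hom.naturality g) M) N)
    exact preservesFiniteLimits_of_natIso e
  let G := ((ModSite.tensorCx O).obj P).obj F
  have hFK : ModSite.IsKFlat F := _root_.ModSiteLib.isKFlat_of_bounded_flat (n' - m' + 1).toNat F m'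
    (fun i hi => hFb i (by omega)) hF
  obtain ⟨e⟩ := SiteExactLib.nonempty_lTensorCx_iso_of F F (𝟙 F) inferInstance hFK
  refine ⟨G, fun k => ?_, fun k hk => ?_,
    ⟨(e.app P).symm ≪≫ (ModSite.LTensorCx F).mapIso eP⟩⟩
  · let ι := ULift.{u} {pq : ℤ × ℤ // pq.1 + pq.2 = k}
    let c : Cofan (fun i : ι => (T.obj (P.X i.down.1.1)).obj (F.X i.down.1.2)) :=
      Cofan.mk (G.X k) fun i =>
        ιMapBifunctor P F T (ComplexShape.up ℤ) i.down.1.1 i.down.1.2 k i.down.2
    refine _root_.ModSiteLib.isFlat_cofan _ (fun i => hT _ _ (hP _) (hF _)) c ?_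
    refine mkCofanColimit c
      (fun s => mapBifunctorDesc fun p q h => s.inj ⟨⟨(p, q), h⟩⟩)
      (fun s i => ι_mapBifunctorDesc _ _ _ _)
      (fun s m hm => mapBifunctor.hom_ext fun p q h => ?_)
    exact (hm ⟨⟨(p, q), h⟩⟩).trans (ι_mapBifunctorDesc (fun p q h => s.inj ⟨⟨(p, q), h⟩⟩) p q h).symm
  · refine (IsZero.iff_id_eq_zero _).2 (mapBifunctor.hom_ext fun p q h => ?_)
    have h' : p + q = k := h
    have hz : IsZero ((T.obj (P.X p)).obj (F.X q)) := by
      by_cases hp : p < m ∨ n < p
      · exact (T.flip.obj (F.X q)).map_isZero (hPb p hp)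
      · exact (T.obj (P.X p)).map_isZero (hFb q (by omega))
    exact hz.eq_of_src _ _

end Groth.Agent.S6247
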