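import Groth.Statements.S6249
import Mathlib
import Groth.Agent.SiteExactLib.Main
-- import your own Groth.Agent.* helpers here

set_option autoImplicit false
universe u
open CategoryTheory CategoryTheory.Limits AlgebraicGeometry
attribute [local instance] HasDerivedCategory.standard
open KSix

namespace Groth.Agent.S6249

/-- Let (C, J, O) be a small site with a sheaf of commutative rings O, Mod(O) the category of O-modules,
E ∈ D⁻(O) given by a cochain complex, and p an integer. Then, the derived tensor product − ⊗^L_O E
being assumed to exist, the functor M ↦ H^p(M ⊗^L E) from Mod(O) to Mod(O) is right exact if and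
only if the functor M ↦ H^{p+1}(M ⊗^L E) is left exact. (The published statement is for a
commutative ringed topos and writes E ⊗^L M; this row is the topos of sheaves on a small site, with
the derived tensor product taken with E as the fixed right-hand factor.) -/
theorem result {C : Type u} [SmallCategory C]
    {J : GrothendieckTopology C} (O : Sheaf J CommRingCat.{u}) (E : CochainComplex (ModSite.Mod O) ℤ)
    (e : ℤ) [(DerivedCategory.Q.obj E).IsLE e] (p : ℤ) [ModSite.HasLTensorCx E] :
    PreservesFiniteColimits (DerivedCategory.singleFunctor (ModSite.Mod O) 0 ⋙ ModSite.LTensorCx E ⋙ DerivedCategory.homologyFunctor (ModSite.Mod O) p) ↔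
      PreservesFiniteLimits (DerivedCategory.singleFunctor (ModSite.Mod O) 0 ⋙ ModSite.LTensorCx E ⋙ DerivedCategory.homologyFunctor (ModSite.Mod O) (p + 1)) := by
  letI := HasZeroObject.zero' (CochainComplex (ModSite.Mod O) ℤ)
  let f : (0 : CochainComplex (ModSite.Mod O) ℤ) ⟶ E := 0
  let P' := Groth.Agent.FreeResLib.mid (Groth.Agent.FreeResLib.siteCov O) f
  have hK : ModSite.IsKFlat P' := ModSiteLib.isKFlat_mid f (ModSiteLib.isKFlat_of_isZero (isZero_zero _))
  have hflat : ∀ n, ModSite.IsFlat (P'.X n) := ModSiteLib.isFlat_mid f
    (fun n => ModSiteLib.isFlat_of_isZero ((HomologicalComplex.eval (ModSite.Mod O) (ComplexShape.up ℤ) n).map_isZero (isZero_zero _)))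
  have hr : QuasiIso (Groth.Agent.FreeResLib.midπ (Groth.Agent.FreeResLib.siteCov O) f) :=
    Groth.Agent.FreeResLib.quasiIso_midπ _ f
  obtain ⟨a⟩ := SiteExactLib.nonempty_homology_iso E P' _ hr hK p
  obtain ⟨b⟩ := SiteExactLib.nonempty_homology_iso E P' _ hr hK (p + 1)
  have main := SiteExactLib.rightExact_iff_leftExact_succ (SiteExactLib.gT P')
    (fun S hS => SiteExactLib.shortExact_gT hflat hS) p
  exact ⟨fun h => haveI := main.1 (preservesFiniteColimits_of_natIso a); preservesFiniteLimits_of_natIso b.symm,
    fun h => haveI := main.2 (preservesFiniteLimits_of_natIso b); preservesFiniteColimits_of_natIso a.symm⟩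

end Groth.Agent.S6249
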