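import Groth.Statements.S6252
import Mathlib
import Groth.Agent.ExactHpLib.Model
import Groth.Agent.ExactHpLib.QCat
import Groth.Agent.ProjNatLib.Coh
-- import your own Groth.Agent.* helpers here

set_option autoImplicit false
universe u
open CategoryTheory CategoryTheory.Limits AlgebraicGeometry
attribute [local instance] HasDerivedCategory.standard
open KSix

namespace Groth.Agent.S6252

/-- Let Y be a Noetherian reduced scheme, f : X ⟶ Y a proper morphism, p an integer, and E ∈ D^b(O_X),
given by a cochain complex F, perfect relative to f (pseudo-coherent relative to f in chart form and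
locally on X of finite stalkwise tor amplitude over the local rings of Y). The derived functors
Lf^*, − ⊗^L F and Rf_* and the derived pullbacks to the points Spec κ(y) ⟶ Y being assumed to exist:
if the function y ↦ dim_{κ(y)} H^p(Rf_* E ⊗^L κ(y)) is locally constant on Y, then the functor M ↦
R^p f_*(Lf^* M ⊗^L F) is exact on the full subcategory of quasi-coherent O_Y-modules (preserves
finite limits and finite colimits there). (The published statement is for a proper morphism of
quasi-compact schemes under the finiteness property for proper pseudo-coherent direct images, which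
holds over a Noetherian base; it writes the functor as M ↦ R^p f_*(E ⊗^L Lf^* M), and this row takes
the derived tensor product with F as the fixed right-hand factor.) -/
theorem result {X Y : Scheme.{u}} [IsNoetherian Y]
    [IsReduced Y] (f : X ⟶ Y) [IsProper f] (F : CochainComplex X.Modules ℤ) (a b : ℤ)
    [(DCoh.toD X F).IsGE a] [(DCoh.toD X F).IsLE b] (hF : DerSch.IsPerfectRel f F) (p : ℤ)
    [DCoh.HasLpull f] [DCoh.HasLTensorCx F] [DCoh.HasRpush f]
    [∀ y : Y, DCoh.HasLpull (Y.fromSpecResidueField y)]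
    (hc : IsLocallyConstant (fun y : Y => PerfD.betti ((DCoh.Rpush f).obj (DCoh.toD X F)) y p)) :
    PreservesFiniteLimits ((QCohCat.isQCoh Y).ι ⋙ DerivedCategory.singleFunctor Y.Modules 0 ⋙ DCoh.Lpull f ⋙ DCoh.LTensorCx F ⋙ DCoh.Rpush f ⋙ DerivedCategory.homologyFunctor Y.Modules p) ∧ PreservesFiniteColimits ((QCohCat.isQCoh Y).ι ⋙ DerivedCategory.singleFunctor Y.Modules 0 ⋙ DCoh.Lpull f ⋙ DCoh.LTensorCx F ⋙ DCoh.Rpush f ⋙ DerivedCategory.homologyFunctor Y.Modules p) := by
  obtain ⟨K, ⟨eK⟩⟩ : ∃ K, Nonempty (DCoh.toD Y K ≅ (DCoh.Rpush f).obj (DCoh.toD X F)) :=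
    ⟨_, ⟨DerivedCategory.Q.objObjPreimageIso _⟩⟩
  haveI := KFlatLib.hasLTensorCx K
  haveI : IsLocallyNoetherian X := LocallyOfFiniteType.isLocallyNoetherian f
  have hE : DCoh.IsPseudoCoherentD (p - 1) (DCoh.toD Y K) :=
    Groth.Agent.PerfLib.isPC_of_iso eK.symm (ProjNatLib.isPC_rpush_rel f hF.1 b (p - 1))
  have hcK : IsLocallyConstant (fun y : Y => PerfD.betti (DCoh.toD Y K) y p) :=
    (funext fun y => ProjNatLib.betti_iso eK.symm y p :
      (fun y : Y => PerfD.betti ((DCoh.Rpush f).obj (DCoh.toD X F)) y p) =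
        fun y : Y => PerfD.betti (DCoh.toD Y K) y p) ▸ hc
  obtain ⟨h1, h2⟩ := ExactHpLib.preserves_of_betti K p hE hcK
  obtain ⟨h3, h4⟩ := ExactHpLib.exact_ι Y
  obtain ⟨e⟩ := ProjNatLib.nonempty_iso f F (fun i => (ProjNatLib.isCohD_of_rel f hF.1 i).1) K eK
  let H := DerivedCategory.homologyFunctor Y.Modules p
  let e' : (QCohCat.isQCoh Y).ι ⋙ (DerivedCategory.singleFunctor Y.Modules 0 ⋙ DCoh.LTensorCx K ⋙ H) ≅
      (QCohCat.isQCoh Y).ι ⋙ DerivedCategory.singleFunctor Y.Modules 0 ⋙ DCoh.Lpull f ⋙
        DCoh.LTensorCx F ⋙ DCoh.Rpush f ⋙ H := Functor.isoWhiskerRight e.symm H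
  exact ⟨preservesFiniteLimits_of_natIso e', preservesFiniteColimits_of_natIso e'⟩

end Groth.Agent.S6252
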