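import Groth.Statements.S6254
import Mathlib
import Groth.Agent.SiteExactLib.Main
-- import your own Groth.Agent.* helpers here

set_option autoImplicit false
universe u
open CategoryTheory CategoryTheory.Limits AlgebraicGeometry
attribute [local instance] HasDerivedCategory.standard
open KSix

namespace Groth.Agent.S6254

/-- Let (C, J, O) be a small site with a sheaf of commutative rings O, p an integer, and E a bounded
above cochain complex of FLAT O-modules (termwise zero above some degree). Then, the derived tensor
product − ⊗^L_O E being assumed to exist, the functor M ↦ H^p(M ⊗^L E) from Mod(O) to Mod(O) is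
right exact if and only if the cokernel of the differential E^p ⟶ E^{p+1} is a flat O-module. (The
published statement is for a commutative ringed topos and writes E ⊗^L M; this row is the topos of
sheaves on a small site, with the derived tensor product taken with E as the fixed right-hand
factor.) -/
theorem result {C : Type u} [SmallCategory C]
    {J : GrothendieckTopology C} (O : Sheaf J CommRingCat.{u}) (E : CochainComplex (ModSite.Mod O) ℤ)
    (e : ℤ) (hEb : ∀ i : ℤ, e < i → IsZero (E.X i)) (hEf : ∀ i : ℤ, ModSite.IsFlat (E.X i)) (p : ℤ)
    [ModSite.HasLTensorCx E] :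
    PreservesFiniteColimits (DerivedCategory.singleFunctor (ModSite.Mod O) 0 ⋙ ModSite.LTensorCx E ⋙ DerivedCategory.homologyFunctor (ModSite.Mod O) p) ↔ ModSite.IsFlat (cokernel (E.d p (p + 1))) := by
  have hK : ModSite.IsKFlat E := ModSiteLib.isKFlat_of_boundedAbove_flat E e hEb hEf
  have hr : QuasiIso (𝟙 E) := inferInstance
  obtain ⟨a⟩ := SiteExactLib.nonempty_homology_iso E E _ hr hK p
  obtain ⟨b⟩ := SiteExactLib.nonempty_homology_iso E E _ hr hK (p + 1)
  have main := SiteExactLib.rightExact_iff_leftExact_succ (SiteExactLib.gT E)
    (fun S hS => SiteExactLib.shortExact_gT hEf hS) p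
  rw [← SiteExactLib.leftExact_iff_isFlat E p hEf]
  exact ⟨fun h => main.1 (preservesFiniteColimits_of_natIso a),
    fun h => haveI := main.2 h; preservesFiniteColimits_of_natIso a.symm⟩

end Groth.Agent.S6254
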