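import Groth.Statements.S6257
import Groth.Agent.TorInd2Lib.Main
import Groth.Agent.S6240

set_option autoImplicit false
set_option backward.isDefEq.respectTransparency false
set_option backward.isDefEq.respectTransparency.types false
set_option maxHeartbeats 1000000
universe u
open CategoryTheory CategoryTheory.Limits AlgebraicGeometry
attribute [local instance] HasDerivedCategory.standard
open KSix

namespace Groth.Agent.S6257

/-- Flat second factor: let S be a scheme and, for i = 1, 2, f_i : X_i ⟶ Y_i a morphism of S-schemes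
(structure morphisms q_i : Y_i ⟶ S), with X₂ and Y₂ flat over S; let X = X₁ ×_S X₂ and Y = Y₁ ×_S Y₂
be given by pullback squares, with projections p₁ : X ⟶ X₁, p₂ : X ⟶ X₂, and f : X ⟶ Y the morphism
compatible with the projections. Let E_i be a cochain complex of O_{X_i}-modules with tor amplitude
in [a_i, b_i] relative to f_i (stalkwise: flat models placed in [a_i, b_i] over the local rings of
Y_i). The external derived tensor product E₁ ⊗^L_S E₂ = Lp₁^* E₁ ⊗^L Lp₂^* E₂ is written, the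
derived pullbacks being assumed to exist, as Lp₁^* E₁ ⊗^L K₂ for any cochain complex K₂ representing
Lp₂^* E₂ for which the derived tensor product exists. Then E₁ ⊗^L_S E₂ has tor amplitude in [a₁ +
a₂, b₁ + b₂] relative to f: every cochain complex representing it has stalkwise flat models in that
interval over the local rings of Y. (The published statement assumes only that X₁, X₂ and Y₁, Y₂ are
tor-independent over S; this row takes X₂ and Y₂ flat over S, which implies both conditions.) -/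
theorem result {S X₁ Y₁ X₂ Y₂ X Y : Scheme.{u}} (f₁ : X₁ ⟶ Y₁) (q₁ : Y₁ ⟶ S)
    (f₂ : X₂ ⟶ Y₂) (q₂ : Y₂ ⟶ S) [Flat q₂] [Flat (f₂ ≫ q₂)]
    (pX₁ : X ⟶ X₁) (pX₂ : X ⟶ X₂) (hX : IsPullback pX₁ pX₂ (f₁ ≫ q₁) (f₂ ≫ q₂))
    (pY₁ : Y ⟶ Y₁) (pY₂ : Y ⟶ Y₂) (hY : IsPullback pY₁ pY₂ q₁ q₂)
    (f : X ⟶ Y) (hf₁ : f ≫ pY₁ = pX₁ ≫ f₁) (hf₂ : f ≫ pY₂ = pX₂ ≫ f₂)
    (E₁ : CochainComplex X₁.Modules ℤ) (a₁ b₁ : ℤ) (h₁ : DerSch.HasTorAmplitude f₁ a₁ b₁ E₁)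
    (E₂ : CochainComplex X₂.Modules ℤ) (a₂ b₂ : ℤ) (h₂ : DerSch.HasTorAmplitude f₂ a₂ b₂ E₂)
    [DCoh.HasLpull pX₁] [DCoh.HasLpull pX₂] :
    ∀ (K₂ : CochainComplex X.Modules ℤ) [DCoh.HasLTensorCx K₂],
      Nonempty (DCoh.toD X K₂ ≅ (DCoh.Lpull pX₂).obj (DCoh.toD X₂ E₂)) →
        DerSch.HasTorAmplitudeD f (a₁ + a₂) (b₁ + b₂) ((DCoh.LTensorCx K₂).obj ((DCoh.Lpull pX₁).obj (DCoh.toD X₁ E₁))) := by
  intro K₂ _ hK₂
  obtain ⟨eK⟩ := hK₂
  haveI : DCoh.HasLTensorCx K₂ := inferInstance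
  let Z := pullback (f₁ ≫ q₁) q₂
  let z₁ : Z ⟶ X₁ := pullback.fst (f₁ ≫ q₁) q₂
  let z₂ : Z ⟶ Y₂ := pullback.snd (f₁ ≫ q₁) q₂
  have hZ : IsPullback z₁ z₂ (f₁ ≫ q₁) q₂ := IsPullback.of_hasPullback _ _
  haveI : Flat z₁ := MorphismProperty.of_isPullback hZ.flip inferInstance
  haveI : Flat pY₁ := MorphismProperty.of_isPullback hY.flip inferInstance
  let g : X ⟶ Z := hZ.lift pX₁ (pX₂ ≫ f₂) (by rw [Category.assoc]; exact hX.w)
  let h : Z ⟶ Y := hY.lift (z₁ ≫ f₁) z₂ (by rw [Category.assoc]; exact hZ.w)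
  have hA : IsPullback pX₂ g f₂ z₂ :=
    (IsPullback.of_right (by rw [hZ.lift_fst]; exact hX) (hZ.lift_snd _ _ _) hZ).flip
  have hB : IsPullback z₁ h f₁ pY₁ :=
    (IsPullback.of_right (by rw [hY.lift_snd]; exact hZ.flip) (hY.lift_fst _ _ _) hY.flip).flip
  have hf : g ≫ h = f := hY.hom_ext
    (by rw [Category.assoc, hY.lift_fst, ← Category.assoc, hZ.lift_fst, hf₁])
    (by rw [Category.assoc, hY.lift_snd, hZ.lift_snd, hf₂])
  obtain ⟨P₁, hP₁, ⟨e₁⟩⟩ := KFlatLib.exists_good_rep (DCoh.toD X₁ E₁)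
  obtain ⟨P₂, hP₂, ⟨e₂⟩⟩ := KFlatLib.exists_good_rep (DCoh.toD X₂ E₂)
  have hK : DerSch.HasTorAmplitude g a₂ b₂ K₂ := fun x =>
    RelFlatLib.ampAt_of_iso g ((KFlatLib.lpullObjIso pX₂ P₂ hP₂.1).symm ≪≫ (DCoh.Lpull pX₂).mapIso e₂ ≪≫ eK.symm)
      (TorInd2Lib.ampAt_pull_indep hA hZ.flip hP₂.1 (RelFlatLib.ampAt_of_iso f₂ e₂.symm (h₂ (pX₂.base x))))
  let Q₁ := (KFlatLib.pullCx z₁).obj P₁
  have hQ : DerSch.HasTorAmplitude h a₁ b₁ Q₁ := fun z =>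
    TorInd2Lib.ampAt_pull_flat hB hP₁.1 (RelFlatLib.ampAt_of_iso f₁ e₁.symm (h₁ (z₁.base z)))
  haveI := KFlatLib.hasLpull g
  have main := Groth.Agent.S6240.result g h f hf K₂ a₂ b₂ hK Q₁ a₁ b₁ hQ
  rw [add_comm a₂ a₁, add_comm b₂ b₁] at main
  let e : (DCoh.Lpull g).obj (DCoh.toD Z Q₁) ≅ (DCoh.Lpull pX₁).obj (DCoh.toD X₁ E₁) :=
    KFlatLib.lpullObjIso g Q₁ (KFlatLib.isKFlat_pull z₁ hP₁.1) ≪≫
      DerivedCategory.Q.mapIso ((NatIso.mapHomologicalComplex (Scheme.Modules.pullbackComp g z₁ ≪≫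
        Scheme.Modules.pullbackCongr (hZ.lift_fst _ _ _)) (ComplexShape.up ℤ)).app P₁) ≪≫
      (KFlatLib.lpullObjIso pX₁ P₁ hP₁.1).symm ≪≫ (DCoh.Lpull pX₁).mapIso e₁
  intro F' hF'
  obtain ⟨i⟩ := hF'
  exact main F' ⟨i ≪≫ ((DCoh.LTensorCx K₂).mapIso e).symm⟩

end Groth.Agent.S6257
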