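import Groth.Statements.S6258
import Groth.Agent.TorInd2Lib.Main
import Groth.Agent.RelFlatLib.LpullTensorStalk
import Groth.Agent.Dual3Lib.PerfPush

set_option autoImplicit false
set_option backward.isDefEq.respectTransparency false
set_option backward.isDefEq.respectTransparency.types false
set_option maxHeartbeats 1000000
universe u
open CategoryTheory CategoryTheory.Limits AlgebraicGeometry
attribute [local instance] HasDerivedCategory.standard
open KSix MonoidalCategory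

namespace Groth.Agent.S6258

/-- Flat first factor: let S be a scheme and, for i = 1, 2, f_i : X_i ⟶ Y_i a morphism of S-schemes
(structure morphisms q_i : Y_i ⟶ S), with X₁ and Y₁ flat over S; let X = X₁ ×_S X₂ and Y = Y₁ ×_S Y₂
be given by pullback squares, with projections p₁ : X ⟶ X₁, p₂ : X ⟶ X₂, and f : X ⟶ Y the morphism
compatible with the projections. Let E₁ be a cochain complex of O_{X₁}-modules with tor amplitude in
[a₁, b₁] relative to f₁ (stalkwise flat models over the local rings of Y₁) and E₂ ∈ D(O_{X₂}), given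
by a cochain complex, acyclic outside [a₂, b₂]. The external derived tensor product E₁ ⊗^L_S E₂ =
Lp₁^* E₁ ⊗^L Lp₂^* E₂ is written, the derived pullbacks being assumed to exist, as Lp₁^* E₁ ⊗^L K₂
for any cochain complex K₂ representing Lp₂^* E₂ for which the derived tensor product exists. Then
E₁ ⊗^L_S E₂ is acyclic outside [a₁ + a₂, b₁ + b₂]. (The published statement assumes only that X₁, X₂
and Y₁, Y₂ are tor-independent over S; that is not enough for the lower bound: over the spectrum S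
of a discrete valuation ring with closed point s, take X₁ = Y₁ = s with E₁ the structure sheaf, and
X₂ = Y₂ = S with E₂ the residue field at s in degree 0 — all tor-independence conditions hold since
X₂ = Y₂ = S, yet the external product on X₁ ×_S X₂ = s has nonzero cohomology in degree -1. The
published stalk computation uses that the local rings of Y₁ ×_S Y₂ are flat over those of Y₂; this
row therefore takes X₁ and Y₁ flat over S, which gives that and both tor-independence conditions.) -/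
theorem result {S X₁ Y₁ X₂ Y₂ X Y : Scheme.{u}} (f₁ : X₁ ⟶ Y₁) (q₁ : Y₁ ⟶ S)
    (f₂ : X₂ ⟶ Y₂) (q₂ : Y₂ ⟶ S) [Flat q₁] [Flat (f₁ ≫ q₁)]
    (pX₁ : X ⟶ X₁) (pX₂ : X ⟶ X₂) (hX : IsPullback pX₁ pX₂ (f₁ ≫ q₁) (f₂ ≫ q₂))
    (pY₁ : Y ⟶ Y₁) (pY₂ : Y ⟶ Y₂) (hY : IsPullback pY₁ pY₂ q₁ q₂)
    (f : X ⟶ Y) (hf₁ : f ≫ pY₁ = pX₁ ≫ f₁) (hf₂ : f ≫ pY₂ = pX₂ ≫ f₂)
    (E₁ : CochainComplex X₁.Modules ℤ) (a₁ b₁ : ℤ) (h₁ : DerSch.HasTorAmplitude f₁ a₁ b₁ E₁)
    (E₂ : CochainComplex X₂.Modules ℤ) (a₂ b₂ : ℤ) [(DCoh.toD X₂ E₂).IsGE a₂] [(DCoh.toD X₂ E₂).IsLE b₂]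
    [DCoh.HasLpull pX₁] [DCoh.HasLpull pX₂] :
    ∀ (K₂ : CochainComplex X.Modules ℤ) [DCoh.HasLTensorCx K₂],
      Nonempty (DCoh.toD X K₂ ≅ (DCoh.Lpull pX₂).obj (DCoh.toD X₂ E₂)) →
        (((DCoh.LTensorCx K₂).obj ((DCoh.Lpull pX₁).obj (DCoh.toD X₁ E₁)))).IsGE (a₁ + a₂) ∧ (((DCoh.LTensorCx K₂).obj ((DCoh.Lpull pX₁).obj (DCoh.toD X₁ E₁)))).IsLE (b₁ + b₂) := by
  intro K₂ _ hK₂
  obtain ⟨eK⟩ := hK₂
  obtain ⟨P₁, hP₁, ⟨e₁⟩⟩ := KFlatLib.exists_good_rep (DCoh.toD X₁ E₁)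
  obtain ⟨P₂, hP₂, ⟨e₂⟩⟩ := KFlatLib.exists_good_rep (DCoh.toD X₂ E₂)
  let M := (KFlatLib.pullCx pX₁).obj P₁
  let N := (KFlatLib.pullCx pX₂).obj P₂
  have hM : DCoh.IsKFlat M := KFlatLib.isKFlat_pull pX₁ hP₁.1
  have hamp : DerSch.HasTorAmplitude pX₂ a₁ b₁ M := fun x => by
    have h0 : DerSch.HasTorAmplitudeAt q₁ (-((0 : ℕ) : ℤ)) 0 (DerSch.unitCx Y₁) (f₁.base (pX₁.base x)) := by
      letI := (q₁.stalkMap (f₁.base (pX₁.base x))).hom.toAlgebra
      exact (RelFlatLib.unitAt_iff q₁ _ _ _).2 ((DRingLib.hasTorDimLE_iff_amplitude _ 0).1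
        (Dual3Lib.hasTorDimLE_of_FD (n := 0) (Flat.stalkMap q₁ _)))
    have h1 := RelFlatLib.ampAt_comp f₁ q₁ 0 h0 (RelFlatLib.ampAt_of_iso f₁ e₁.symm (h₁ (pX₁.base x)))
    rw [Nat.cast_zero, sub_zero] at h1
    haveI : Flat ((f₁ ≫ q₁) ≫ 𝟙 S) := by rw [Category.comp_id]; infer_instance
    exact TorInd2Lib.ampAt_pull_indep (p := 𝟙 S) (p' := 𝟙 X₂) (s := f₂ ≫ q₂) hX
      (IsPullback.of_vert_isIso ⟨by simp⟩) hP₁.1 h1
  obtain ⟨eT⟩ := KFlatLib.exists_lTensorCxObjIso K₂ M hM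
  let T := ((DCoh.tensorCx (X := X)).obj M).obj K₂
  let L := (DCoh.LTensorCx K₂).obj ((DCoh.Lpull pX₁).obj (DCoh.toD X₁ E₁))
  let eAll : DCoh.toD X T ≅ L :=
    eT.symm ≪≫ (DCoh.LTensorCx K₂).mapIso
      ((KFlatLib.lpullObjIso pX₁ P₁ hP₁.1).symm ≪≫ (DCoh.Lpull pX₁).mapIso e₁)
  let eN : DCoh.toD X K₂ ≅ DCoh.toD X N :=
    eK ≪≫ (DCoh.Lpull pX₂).mapIso e₂.symm ≪≫ KFlatLib.lpullObjIso pX₂ P₂ hP₂.1
  have hz : ∀ i, (i < a₁ + a₂ ∨ b₁ + b₂ < i) → IsZero ((DerivedCategory.homologyFunctor X.Modules i).obj L) := by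
    intro i hi
    refine (?_ : IsZero (T.homology i)).of_iso (((DerivedCategory.homologyFunctor _ i).mapIso eAll).symm ≪≫
      (DerivedCategory.homologyFunctorFactors _ i).app T)
    refine (KFlatLib.isZero_iff_forall_stalk _).2 fun x => ?_
    refine IsZero.of_iso ?_ ((T.sc i).mapHomologyIso (DerSch.stalkFunctor _ x)).symm
    refine IsZero.of_iso ?_ ((HomologicalComplex.homologyFunctor _ (ComplexShape.up ℤ) i).mapIso
      (KFlatLib.stalkTensorCxIso x M K₂).symm)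
    let s := DerSch.stalkFunctor X x
    let eS : DerivedCategory.Q.obj ((KFlatLib.stalkCx X x).obj K₂) ≅
        DerivedCategory.Q.obj ((KFlatLib.stalkCx X x).obj N) :=
      (s.mapDerivedCategoryFactors.app K₂).symm ≪≫ s.mapDerivedCategory.mapIso eN ≪≫
        s.mapDerivedCategoryFactors.app N
    refine (TwoTermLib.KFlatTrunc.isZero_tensor_iff_of_iso (KFlatLib.stalks_isKFlat hM x) eS i).2 ?_
    refine IsZero.of_iso ?_ ((HomologicalComplex.homologyFunctor _ (ComplexShape.up ℤ) i).mapIso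
      (MonoidalCategory.tensorIso (Iso.refl ((KFlatLib.stalkCx X x).obj M)) (KFlatLib.stalkPullCxIso pX₂ x P₂) ≪≫
        KFlatLib.tensorFlipIso ((KFlatLib.extCx pX₂ x).obj ((KFlatLib.stalkCx X₂ (pX₂.base x)).obj P₂))
          ((KFlatLib.stalkCx X x).obj M)))
    refine RelFlatLib.isZero_homology_tensor_ext (pX₂.stalkMap x).hom (F := (KFlatLib.stalkCx X x).obj M)
      (a := a₁) (b := b₁) (hamp x) (KFlatLib.stalks_isKFlat hP₂.1 (pX₂.base x)) (c := a₂) (d := b₂)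
      (fun j hj => ?_) i hi
    have h0 : IsZero (DCoh.HD (DCoh.toD X₂ E₂) j) :=
      hj.elim (fun h => DerivedCategory.isZero_of_isGE _ a₂ j h) (fun h => DerivedCategory.isZero_of_isLE _ b₂ j h)
    exact ((DerSch.stalkFunctor _ (pX₂.base x)).map_isZero (h0.of_iso
      (((DerivedCategory.homologyFunctorFactors _ j).app P₂).symm ≪≫
        (DerivedCategory.homologyFunctor _ j).mapIso e₂))).of_iso
        ((P₂.sc j).mapHomologyIso (DerSch.stalkFunctor _ (pX₂.base x)))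
  exact ⟨(DerivedCategory.isGE_iff L _).2 fun i hi => hz i (Or.inl hi),
    (DerivedCategory.isLE_iff L _).2 fun i hi => hz i (Or.inr hi)⟩

end Groth.Agent.S6258
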