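import Groth.Statements.S6263
import Mathlib.RingTheory.Support
import Mathlib.LinearAlgebra.TensorProduct.Quotient
import Mathlib.RingTheory.Flat.Basic
import Mathlib.RingTheory.Ideal.MinimalPrime.Localization


-- import your own Groth.Agent.* helpers here

set_option autoImplicit false
universe u
open CAlg

namespace Groth.Agent.S6263

/-- For a ring map R → S and a finite S-module N which is flat as an R-module, generalizations lift
along the map from the support of N (a subset of Spec S) to Spec R: if p ≤ p' are primes of R and q'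
is a prime of S in the support of N whose inverse image in R is p', then some prime q ≤ q' of S lies
in the support of N and has inverse image p. -/
theorem result {R S : Type u} [CommRing R] [CommRing S] [Algebra R S] (N : Type u) [AddCommGroup N] [Module S N] [Module R N] [IsScalarTower R S N] [Module.Finite S N] [Module.Flat R N] (p p' : Ideal R) [p.IsPrime] [p'.IsPrime] (hle : p ≤ p') (q' : PrimeSpectrum S) (hq' : q' ∈ Module.support S N) (hover : q'.asIdeal.under R = p') : ∃ q : PrimeSpectrum S, q ≤ q' ∧ q ∈ Module.support S N ∧ q.asIdeal.under R = p := by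
  classical
  let J : Ideal S := p.map (algebraMap R S)
  let M0 := N ⧸ (J • (⊤ : Submodule S N))
  have hpq : J ≤ q'.asIdeal := Ideal.map_le_iff_le_comap.2 (hle.trans hover.ge)
  have hq0 : q' ∈ Module.support S M0 := by
    rw [Module.support_quotient]
    exact ⟨hq', by simpa [PrimeSpectrum.mem_zeroLocus] using hpq⟩
  rw [Module.mem_support_iff_of_finite] at hq0
  obtain ⟨Q, hQ, hQq⟩ := Ideal.exists_minimalPrimes_le hq0
  have hQp : Q.IsPrime := hQ.1.1
  have hQs : (⟨Q, hQp⟩ : PrimeSpectrum S) ∈ Module.support S M0 := Module.mem_support_iff_of_finite.2 hQ.1.2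
  refine ⟨⟨Q, hQp⟩, hQq, ?_, ?_⟩
  · rw [Module.support_quotient] at hQs
    exact hQs.1
  have hreg : ∀ r ∉ p, ∀ z : M0, r • z = 0 → z = 0 := by
    intro r hr z hz
    obtain ⟨x, rfl⟩ := Submodule.mkQ_surjective (J • (⊤ : Submodule S N)) z
    rw [← algebraMap_smul S r, ← map_smul, algebraMap_smul, Submodule.mkQ_apply, Submodule.Quotient.mk_eq_zero] at hz
    rw [Submodule.mkQ_apply, Submodule.Quotient.mk_eq_zero]
    have h1 : (J • (⊤ : Submodule S N)).restrictScalars R = p • (⊤ : Submodule R N) := by
      rw [show J = p.map (algebraMap R S) from rfl, Ideal.smul_restrictScalars, Submodule.restrictScalars_top]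
    have hz' : r • x ∈ p • (⊤ : Submodule R N) := h1 ▸ hz
    suffices hx : x ∈ p • (⊤ : Submodule R N) from (h1 ▸ hx : x ∈ (J • (⊤ : Submodule S N)).restrictScalars R)
    rw [← Submodule.Quotient.mk_eq_zero] at hz' ⊢
    refine (TensorProduct.tensorQuotEquivQuotSMul N p).symm.injective ?_
    rw [map_zero, TensorProduct.tensorQuotEquivQuotSMul_symm_mk]
    have hz2 := congrArg (TensorProduct.tensorQuotEquivQuotSMul N p).symm hz'
    rw [map_zero, TensorProduct.tensorQuotEquivQuotSMul_symm_mk, TensorProduct.smul_tmul] at hz2
    have hinj : Function.Injective ((LinearMap.lsmul R (R ⧸ p) r).lTensor N) :=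
      Module.Flat.lTensor_preserves_injective_linearMap _ fun a b hab => by
        have h2 : Ideal.Quotient.mk p r * a = Ideal.Quotient.mk p r * b := by
          simpa [Algebra.smul_def] using hab
        exact mul_left_cancel₀ (fun h => hr (Ideal.Quotient.eq_zero_iff_mem.1 h)) h2
    exact hinj (by rw [LinearMap.lTensor_tmul, LinearMap.lsmul_apply, map_zero]; exact hz2)
  refine le_antisymm (fun r hr => ?_) ?_
  · by_contra hrp
    obtain ⟨y, hy, hyx⟩ := Ideal.exists_mul_mem_of_mem_minimalPrimes hQ hr
    refine hy (Module.mem_annihilator.2 fun z => hreg r hrp _ ?_)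
    rw [← algebraMap_smul S r, smul_smul]
    exact Module.mem_annihilator.1 hyx z
  · refine Ideal.map_le_iff_le_comap.1 (le_trans ?_ hQ.1.2)
    intro s hs
    refine Module.mem_annihilator.2 fun z => ?_
    obtain ⟨x, rfl⟩ := Submodule.mkQ_surjective (J • (⊤ : Submodule S N)) z
    rw [← map_smul, Submodule.mkQ_apply, Submodule.Quotient.mk_eq_zero]
    exact Submodule.smul_mem_smul hs Submodule.mem_top

end Groth.Agent.S6263
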