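import Groth.Statements.S6264
import Mathlib.RingTheory.Ideal.HasGoingUp


-- import your own Groth.Agent.* helpers here

set_option autoImplicit false
universe u
open CAlg

namespace Groth.Agent.S6264

/-- Let R → S be a ring map with the going-up property and p a prime of R such that exactly one prime q
of S lies over p. Then the localization S_p of S at the image of R - p is a localization of S at q,
i.e. S_p = S_q. -/
theorem result {R S : Type u} [CommRing R] [CommRing S] [Algebra R S] [Algebra.HasGoingUp R S] (p : Ideal R) [p.IsPrime] (q : Ideal S) [q.IsPrime] [q.LiesOver p] (huniq : ∀ q' : Ideal S, q'.IsPrime → q'.under R = p → q' = q) : IsLocalization.AtPrime (Localization (Algebra.algebraMapSubmonoid S p.primeCompl)) q := by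
  let M := Algebra.algebraMapSubmonoid S p.primeCompl
  have hle : M ≤ q.primeCompl := by
    rintro _ ⟨r, hr, rfl⟩ h
    exact hr (by rw [Ideal.LiesOver.over (P := q) (p := p)]; exact h)
  refine IsLocalization.of_le M q.primeCompl hle fun s hs => ?_
  by_contra hu
  obtain ⟨Q, hQ, hsQ⟩ := exists_max_ideal_of_mem_nonunits hu
  have hP : (Q.under S).IsPrime := inferInstance
  have hdisj : Disjoint (M : Set S) (Q.under S : Set S) := (IsLocalization.isPrime_iff_isPrime_disjoint M _ Q).1 hQ.isPrime |>.2
  have hunder : (Q.under S).under R ≤ p := fun r hr => by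
    by_contra hrp
    exact Set.disjoint_left.1 hdisj ⟨r, hrp, rfl⟩ hr
  obtain ⟨Q', hle', hQ', hQ'p⟩ := Ideal.exists_ideal_ge_liesOver_of_le (Q.under S) hunder
  exact hs ((huniq Q' hQ' hQ'p.over.symm) ▸ hle' hsQ)

end Groth.Agent.S6264
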