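import Groth.Statements.S6266
import Mathlib.LinearAlgebra.Dimension.OrzechProperty
import Mathlib.RingTheory.Nilpotent.Lemmas
import Mathlib.RingTheory.LocalProperties.FinitePresentation
import Mathlib.RingTheory.Spectrum.Prime.FreeLocus


-- import your own Groth.Agent.* helpers here

set_option autoImplicit false
universe u
open scoped TensorProduct
open CAlg

namespace Groth.Agent.S6266

/-- Let R be a reduced ring and M an R-module. Then M is a finite projective R-module if and only if M
is finitely generated and the function on Spec R sending a prime p to the dimension of κ(p) ⊗ M over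
the residue field κ(p) is locally constant for the Zariski topology. -/
theorem result (R : Type u) [CommRing R] [IsReduced R] (M : Type u) [AddCommGroup M] [Module R M] : (Module.Finite R M ∧ Module.Projective R M) ↔ (Module.Finite R M ∧ IsLocallyConstant (fun p : PrimeSpectrum R => Module.finrank p.asIdeal.ResidueField (p.asIdeal.ResidueField ⊗[R] M))) := by
  classical
  constructor
  · rintro ⟨hfin, hproj⟩
    haveI := Module.finitePresentation_of_projective R M
    refine ⟨hfin, ?_⟩
    have h := Module.isLocallyConstant_rankAtStalk (R := R) (M := M)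
    convert h using 1
    funext p
    exact (Module.rankAtStalk_eq p).symm
  · rintro ⟨hfin, hloc⟩
    refine ⟨hfin, ?_⟩
    let s : Set R := {f | Module.Free (Localization (Submonoid.powers f)) (LocalizedModule.Away f M) ∧
      Module.Finite (Localization (Submonoid.powers f)) (LocalizedModule.Away f M)}
    have key : ∀ p : PrimeSpectrum R, ∃ f ∈ s, f ∉ p.asIdeal := by
      intro p
      let κ := p.asIdeal.ResidueField
      obtain ⟨ι, a, ha, hspan, hli⟩ := exists_linearIndependent' κ (fun m : M => (1 : κ) ⊗ₜ[R] m)
      have htop : Submodule.span κ (Set.range fun m : M => (1 : κ) ⊗ₜ[R] m) = ⊤ := by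
        rw [eq_top_iff]
        intro z _
        induction z using TensorProduct.induction_on with
        | zero => exact zero_mem _
        | add x y hx hy => exact add_mem (hx Submodule.mem_top) (hy Submodule.mem_top)
        | tmul c m =>
          rw [← mul_one c, ← smul_eq_mul, ← TensorProduct.smul_tmul']
          exact Submodule.smul_mem _ _ (Submodule.subset_span ⟨m, rfl⟩)
      rw [htop] at hspan
      have : Finite ι := hli.finite
      cases nonempty_fintype ι
      let bas : Module.Basis ι κ (κ ⊗[R] M) := Module.Basis.mk hli (by rw [hspan])
      have hn : Module.finrank κ (κ ⊗[R] M) = Fintype.card ι := Module.finrank_eq_card_basis bas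
      let φ : (ι → R) →ₗ[R] M := Fintype.linearCombination R (fun i => a i)
      have hQ : p ∉ Module.support R (M ⧸ LinearMap.range φ) := by
        rw [Module.mem_support_iff_nontrivial_residueField_tensorProduct, not_nontrivial_iff_subsingleton]
        refine subsingleton_of_forall_eq 0 fun z => ?_
        obtain ⟨w, rfl⟩ := LinearMap.baseChange_surjective (A := κ) (LinearMap.range φ).mkQ_surjective z
        have hw : w ∈ Submodule.span κ (Set.range fun i => (1 : κ) ⊗ₜ[R] a i) := hspan ▸ Submodule.mem_top
        refine Submodule.span_induction ?_ (map_zero _) (fun x y _ _ hx hy => by rw [map_add, hx, hy, add_zero])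
          (fun c x _ hx => by rw [map_smul, hx, smul_zero]) hw
        rintro _ ⟨i, rfl⟩
        rw [LinearMap.baseChange_tmul, Submodule.mkQ_apply, (Submodule.Quotient.mk_eq_zero _).2, TensorProduct.tmul_zero]
        exact ⟨Pi.single i 1, by simp [φ, Fintype.linearCombination_apply_single]⟩
      rw [Module.mem_support_iff_of_finite, SetLike.le_def] at hQ
      push Not at hQ
      obtain ⟨f₀, hf₀, hf₀p⟩ := hQ
      have hopen : IsOpen {x : PrimeSpectrum R | Module.finrank x.asIdeal.ResidueField (x.asIdeal.ResidueField ⊗[R] M) = Module.finrank κ (κ ⊗[R] M)} :=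
        hloc.isOpen_fiber _
      obtain ⟨_, ⟨f₁, rfl⟩, hpf₁, hsub⟩ := PrimeSpectrum.isTopologicalBasis_basic_opens.exists_subset_of_mem_open
        (show p ∈ {x : PrimeSpectrum R | Module.finrank x.asIdeal.ResidueField (x.asIdeal.ResidueField ⊗[R] M) = Module.finrank κ (κ ⊗[R] M)} from rfl) hopen
      let f := f₀ * f₁
      refine ⟨f, ?_, fun h => (p.isPrime.mem_or_mem h).elim hf₀p hpf₁⟩
      have hsur : ∀ m : M, f • m ∈ LinearMap.range φ := fun m => by
        rw [show f = f₁ * f₀ from mul_comm _ _, mul_smul]
        refine Submodule.smul_mem _ _ ((Submodule.Quotient.mk_eq_zero _).1 ?_)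
        rw [Submodule.Quotient.mk_smul]
        exact Module.mem_annihilator.1 hf₀ _
      have hker : ∀ c : ι → R, φ c = 0 → f • c = 0 := by
        intro c hc
        funext i
        refine IsReduced.eq_zero _ (nilpotent_iff_mem_prime.2 fun q0 hq0 => ?_)
        obtain ⟨Q, rfl⟩ : ∃ Q : PrimeSpectrum R, Q.asIdeal = q0 := ⟨⟨q0, hq0⟩, rfl⟩
        show f * c i ∈ Q.asIdeal
        by_cases hfq : f ∈ Q.asIdeal
        · exact Q.asIdeal.mul_mem_right _ hfq
        refine Q.asIdeal.mul_mem_left _ ?_
        let L := Q.asIdeal.ResidueField
        have hmem : Q ∈ (PrimeSpectrum.basicOpen f₁ : Set (PrimeSpectrum R)) :=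
          fun h => hfq (Q.asIdeal.mul_mem_left f₀ h)
        have hrank : Module.finrank L (L ⊗[R] M) = Fintype.card ι := (hsub hmem).trans hn
        have hsp : (⊤ : Submodule L (L ⊗[R] M)) ≤ Submodule.span L (Set.range fun i => (1 : L) ⊗ₜ[R] a i) := by
          intro z _
          induction z using TensorProduct.induction_on with
          | zero => exact zero_mem _
          | add x y hx hy => exact add_mem (hx Submodule.mem_top) (hy Submodule.mem_top)
          | tmul l m =>
            obtain ⟨d, hd⟩ := hsur m
            have hu : algebraMap R L f ≠ 0 := fun h => hfq (Ideal.algebraMap_residueField_eq_zero.1 h)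
            have : l ⊗ₜ[R] m = (l * (algebraMap R L f)⁻¹) • ∑ i, d i • ((1 : L) ⊗ₜ[R] a i) := by
              rw [← Finset.sum_congr rfl fun i _ => TensorProduct.tmul_smul (d i) (1 : L) (a i), ← TensorProduct.tmul_sum,
                show ∑ i, d i • a i = φ d from (Fintype.linearCombination_apply R _ d).symm, hd, TensorProduct.tmul_smul,
                TensorProduct.smul_tmul', TensorProduct.smul_tmul', smul_eq_mul, Algebra.smul_def, mul_one, mul_assoc,
                inv_mul_cancel₀ hu, mul_one]
            rw [this]
            refine Submodule.smul_mem _ _ (sum_mem fun i _ => ?_)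
            rw [← algebraMap_smul L]
            exact Submodule.smul_mem _ _ (Submodule.subset_span ⟨i, rfl⟩)
        have hli' := linearIndependent_of_top_le_span_of_card_eq_finrank hsp hrank.symm
        have h0 := Fintype.linearIndependent_iff.1 hli' (fun i => algebraMap R L (c i)) (by
          simp only [algebraMap_smul, ← TensorProduct.tmul_smul, ← TensorProduct.tmul_sum]
          rw [show ∑ i, c i • a i = φ c from (Fintype.linearCombination_apply R _ c).symm, hc, TensorProduct.tmul_zero]) i
        exact Ideal.algebraMap_residueField_eq_zero.1 h0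
      let S := Submonoid.powers f
      let ψ := LocalizedModule.map S φ
      have hinj : Function.Injective ψ := by
        refine (injective_iff_map_eq_zero _).2 fun z hz => ?_
        induction z using LocalizedModule.induction_on with
        | h c t =>
          rw [LocalizedModule.map_mk, ← LocalizedModule.zero_mk (1 : S), LocalizedModule.mk_eq] at hz
          obtain ⟨u, hu⟩ := hz
          rw [← LocalizedModule.zero_mk (1 : S), LocalizedModule.mk_eq]
          refine ⟨⟨f, Submonoid.mem_powers f⟩ * u, ?_⟩
          simp only [one_smul, smul_zero] at hu ⊢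
          rw [Submonoid.smul_def, ← map_smul] at hu
          rw [mul_smul, Submonoid.smul_def, Submonoid.smul_def]
          exact hker _ hu
      have hsurj : Function.Surjective ψ := by
        intro z
        induction z using LocalizedModule.induction_on with
        | h m t =>
          obtain ⟨c, hc⟩ := hsur m
          refine ⟨LocalizedModule.mk c (⟨f, Submonoid.mem_powers f⟩ * t), ?_⟩
          rw [LocalizedModule.map_mk, hc]
          exact LocalizedModule.mk_cancel_common_left (⟨f, Submonoid.mem_powers f⟩ : S) t m
      haveI : Module.Free (Localization S) (LocalizedModule S (ι → R)) :=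
        Module.free_of_isLocalizedModule S (LocalizedModule.mkLinearMap S (ι → R))
      haveI : Module.Finite (Localization S) (LocalizedModule S (ι → R)) :=
        Module.Finite.of_isLocalizedModule S (LocalizedModule.mkLinearMap S (ι → R))
      exact ⟨Module.Free.of_equiv (LinearEquiv.ofBijective ψ ⟨hinj, hsurj⟩),
        Module.Finite.equiv (LinearEquiv.ofBijective ψ ⟨hinj, hsurj⟩)⟩
    have hspan : Ideal.span s = ⊤ := by
      by_contra h
      obtain ⟨q, hq, hle⟩ := Ideal.exists_le_maximal _ h
      obtain ⟨f, hfs, hfq⟩ := key ⟨q, hq.isPrime⟩
      exact hfq (hle (Ideal.subset_span hfs))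
    haveI : Module.FinitePresentation R M := Module.FinitePresentation.of_localizationSpan s hspan fun f => by
      haveI := f.2.1; haveI := f.2.2
      exact Module.finitePresentation_of_projective _ _
    rw [← Module.freeLocus_eq_univ_iff, Set.eq_univ_iff_forall]
    intro p
    obtain ⟨f, hfs, hfp⟩ := key p
    haveI := hfs.1
    exact Module.basicOpen_subset_freeLocus_iff.2 inferInstance hfp

end Groth.Agent.S6266
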