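import Groth.Statements.S6267
import Mathlib.LinearAlgebra.TensorProduct.Quotient
import Groth.Agent.KFlatLib.CxFlat


-- import your own Groth.Agent.* helpers here

set_option autoImplicit false
universe u
open CAlg

namespace Groth.Agent.S6267

/-- Let R be a ring and f : M → M' a map of R-modules with M' flat. Then f is universally injective
exactly when, for each finitely generated ideal I of R, the induced map M ⊗ R/I → M' ⊗ R/I (that is,
M/IM → M'/IM') is injective. -/
theorem result {R : Type u} [CommRing R] {M M' : Type u} [AddCommGroup M] [Module R M] [AddCommGroup M'] [Module R M'] [Module.Flat R M'] (f : M →ₗ[R] M') : CAlgX.UniversallyInjective R f ↔ ∀ I : Ideal R, I.FG → Function.Injective (f.rTensor (R ⧸ I)) := by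
  refine ⟨fun h I _ => h (R ⧸ I), fun h => ?_⟩
  have hmem : ∀ (I : Ideal R) (x : M), f x ∈ I • (⊤ : Submodule R M') → x ∈ I • (⊤ : Submodule R M) := by
    intro I x hx
    obtain ⟨J, hJ, hJI, hxJ⟩ : ∃ J : Ideal R, J.FG ∧ J ≤ I ∧ f x ∈ J • (⊤ : Submodule R M') := by
      refine Submodule.smul_induction_on hx (fun c hc m _ => ⟨Ideal.span {c}, Submodule.fg_span_singleton c,
          (Ideal.span_singleton_le_iff_mem _).2 hc, Submodule.smul_mem_smul (Ideal.mem_span_singleton_self c) Submodule.mem_top⟩) ?_
      rintro y z ⟨J₁, hf₁, hl₁, hy⟩ ⟨J₂, hf₂, hl₂, hz⟩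
      exact ⟨J₁ ⊔ J₂, Submodule.FG.sup hf₁ hf₂, sup_le hl₁ hl₂, add_mem (Submodule.smul_mono le_sup_left le_rfl hy)
        (Submodule.smul_mono le_sup_right le_rfl hz)⟩
    refine Submodule.smul_mono hJI le_rfl ?_
    rw [← Submodule.Quotient.mk_eq_zero] at hxJ ⊢
    refine (TensorProduct.tensorQuotEquivQuotSMul M J).symm.injective ?_
    rw [map_zero, TensorProduct.tensorQuotEquivQuotSMul_symm_mk]
    refine h J hJ ?_
    rw [map_zero, LinearMap.rTensor_tmul]
    refine (TensorProduct.tensorQuotEquivQuotSMul M' J).injective ?_
    rw [map_zero, ← hxJ, ← TensorProduct.tensorQuotEquivQuotSMul_symm_mk, LinearEquiv.apply_symm_apply]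
  have hinj : Function.Injective f := by
    refine (injective_iff_map_eq_zero _).2 fun x hx => ?_
    have := hmem ⊥ x (by rw [hx]; exact zero_mem _)
    rwa [Submodule.bot_smul, Submodule.mem_bot] at this
  have hex : Function.Exact f (LinearMap.range f).mkQ := LinearMap.exact_map_mkQ_range f
  have hflat : Module.Flat R (M' ⧸ LinearMap.range f) := by
    refine Module.Flat.iff_rTensor_injective.mpr fun {I} hI => ?_
    refine (injective_iff_map_eq_zero _).2 fun z hz => ?_
    obtain ⟨w, rfl⟩ := LinearMap.lTensor_surjective I (Submodule.mkQ_surjective (LinearMap.range f)) z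
    let mu : TensorProduct R I M' →ₗ[R] M' := (TensorProduct.lid R M').toLinearMap.comp (I.subtype.rTensor M')
    let nu : TensorProduct R I M →ₗ[R] M := (TensorProduct.lid R M).toLinearMap.comp (I.subtype.rTensor M)
    have hcomm : ∀ v, mu (f.lTensor I v) = f (nu v) := by
      intro v
      induction v using TensorProduct.induction_on with
      | zero => simp
      | tmul c m => simp [mu, nu]
      | add p q hp hq => simp only [map_add, hp, hq]
    have hcommQ : ∀ v, (LinearMap.range f).mkQ (mu v) =
        TensorProduct.lid R _ (I.subtype.rTensor _ ((LinearMap.range f).mkQ.lTensor I v)) := by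
      intro v
      induction v using TensorProduct.induction_on with
      | zero => simp
      | tmul c m => simp [mu]
      | add p q hp hq => simp only [map_add, hp, hq]
    have h1 : mu w ∈ LinearMap.range f := by
      rw [← Submodule.Quotient.mk_eq_zero, ← Submodule.mkQ_apply, hcommQ, hz, map_zero]
    obtain ⟨x, hx⟩ := h1
    have hxI : f x ∈ I • (⊤ : Submodule R M') := by
      rw [hx]
      clear hz hx
      induction w using TensorProduct.induction_on with
      | zero => rw [map_zero]; exact zero_mem _
      | tmul c m => simp only [mu, LinearMap.comp_apply, LinearMap.rTensor_tmul, LinearEquiv.coe_coe, TensorProduct.lid_tmul]; exact Submodule.smul_mem_smul c.2 Submodule.mem_top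
      | add p q hp hq => rw [map_add]; exact add_mem hp hq
    obtain ⟨v, hv⟩ : ∃ v, nu v = x := Submodule.smul_induction_on (hmem I x hxI)
      (fun c hc m _ => ⟨TensorProduct.tmul R ⟨c, hc⟩ m, by simp [nu]⟩) (fun a b ⟨p, hp⟩ ⟨q, hq⟩ => ⟨p + q, by rw [map_add, hp, hq]⟩)
    have hw : w = f.lTensor I v := by
      refine ((TensorProduct.lid R M').injective.comp
        (Module.Flat.rTensor_preserves_injective_linearMap I.subtype Subtype.val_injective) : Function.Injective mu) ?_
      change mu w = mu _
      rw [hcomm, hv, hx]
    rw [hw, ← LinearMap.comp_apply, ← LinearMap.lTensor_comp, hex.linearMap_comp_eq_zero, LinearMap.lTensor_zero,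
      LinearMap.zero_apply]
  exact fun Q _ _ => KFlatLib.rTensor_injective_of_flat_quotient f _ hinj hex (Submodule.mkQ_surjective _) Q

end Groth.Agent.S6267
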