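import Groth.Statements.S6271
import Mathlib.RingTheory.Finiteness.Cardinality
import Mathlib.RingTheory.Finiteness.Basic
import Mathlib.Algebra.Module.Projective
import Mathlib.LinearAlgebra.TensorProduct.Tower
import Mathlib.RingTheory.TensorProduct.Finite
import Mathlib.LinearAlgebra.Matrix.ToLin
import Mathlib.RingTheory.Noetherian.Nilpotent
import Mathlib.RingTheory.Idempotents


-- import your own Groth.Agent.* helpers here

set_option autoImplicit false
universe u
open scoped TensorProduct
open CAlg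

namespace Groth.Agent.S6271

/-- Let R be a ring, I ⊆ R a locally nilpotent ideal (every element of I is nilpotent) and P̄ a finite
projective R/I-module. Then there is a finite projective R-module P such that P/IP (that is, R/I ⊗
P) is isomorphic to P̄ as an R/I-module. -/
theorem result {R : Type u} [CommRing R] (I : Ideal R) (hI : ∀ x ∈ I, IsNilpotent x) (Pb : Type u) [AddCommGroup Pb] [Module (R ⧸ I) Pb] [Module.Projective (R ⧸ I) Pb] [Module.Finite (R ⧸ I) Pb] : ∃ (P : Type u) (_ : AddCommGroup P) (_ : Module R P), Module.Projective R P ∧ Module.Finite R P ∧ Nonempty (((R ⧸ I) ⊗[R] P) ≃ₗ[R ⧸ I] Pb) := by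
  classical
  obtain ⟨n, π, hπ⟩ := Module.Finite.exists_fin' (R ⧸ I) Pb
  obtain ⟨s, hs⟩ := Module.projective_lifting_property π LinearMap.id hπ
  have hs' : ∀ x, π (s x) = x := fun x => LinearMap.congr_fun hs x
  let eb : Matrix (Fin n) (Fin n) (R ⧸ I) := LinearMap.toMatrix' (s ∘ₗ π)
  have heb : IsIdempotentElem eb := by
    show LinearMap.toMatrix' (s ∘ₗ π) * LinearMap.toMatrix' (s ∘ₗ π) = LinearMap.toMatrix' (s ∘ₗ π)
    rw [← LinearMap.toMatrix'_comp]
    exact congrArg _ (LinearMap.ext fun x => congrArg s (hs' (π x)))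
  have hker : ∀ X ∈ RingHom.ker ((Ideal.Quotient.mk I).mapMatrix : Matrix (Fin n) (Fin n) R →+* Matrix (Fin n) (Fin n) (R ⧸ I)), IsNilpotent X := by
    intro X hX
    have hij : ∀ i j, X i j ∈ I := fun i j => Ideal.Quotient.eq_zero_iff_mem.1 (congrFun (congrFun hX i) j)
    let J : Ideal R := Ideal.span ((Finset.univ.image fun ij : Fin n × Fin n => X ij.1 ij.2 : Finset R) : Set R)
    have hJ : J ≤ nilradical R := Ideal.span_le.2 fun a ha => by
      obtain ⟨⟨i, j⟩, _, rfl⟩ := Finset.mem_image.1 ha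
      exact mem_nilradical.2 (hI _ (hij i j))
    obtain ⟨N, hN⟩ := (Ideal.FG.isNilpotent_iff_le_nilradical ⟨_, rfl⟩).2 hJ
    have hpow : ∀ d i j, (X ^ d) i j ∈ J ^ d := by
      intro d
      induction d with
      | zero => simp
      | succ d ih =>
        intro i j
        rw [pow_succ, pow_succ, Matrix.mul_apply]
        exact sum_mem fun l _ => Ideal.mul_mem_mul (ih i l) (Ideal.subset_span (Finset.mem_image_of_mem (fun ij : Fin n × Fin n => X ij.1 ij.2) (Finset.mem_univ (l, j))))
    exact ⟨N, Matrix.ext fun i j => by have h := hpow N i j; rw [hN] at h; exact Ideal.mem_bot.1 h⟩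
  have hrange : eb ∈ ((Ideal.Quotient.mk I).mapMatrix : Matrix (Fin n) (Fin n) R →+* Matrix (Fin n) (Fin n) (R ⧸ I)).range := by
    choose M hM using fun i j => Ideal.Quotient.mk_surjective (I := I) (eb i j)
    exact ⟨Matrix.of M, Matrix.ext fun i j => hM i j⟩
  obtain ⟨E, hE, hEe⟩ := exists_isIdempotentElem_eq_of_ker_isNilpotent _ hker eb hrange heb
  let e : (Fin n → R) →ₗ[R] (Fin n → R) := Matrix.toLin' E
  have he : ∀ v, e (e v) = e v := fun v => by
    rw [← LinearMap.comp_apply]
    show ((Matrix.toLin' E) ∘ₗ (Matrix.toLin' E)) v = _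
    rw [← Matrix.toLin'_mul, hE.eq]
  let P := LinearMap.range e
  have hPp : Module.Projective R P :=
    Module.Projective.of_split P.subtype e.rangeRestrict (LinearMap.ext fun ⟨x, v, hv⟩ => Subtype.ext (by subst hv; exact he v))
  have hPf : Module.Finite R P := Module.Finite.of_surjective e.rangeRestrict e.surjective_rangeRestrict
  let red : (Fin n → R) →ₗ[R] (Fin n → R ⧸ I) := LinearMap.pi fun i => (Algebra.linearMap R (R ⧸ I)) ∘ₗ LinearMap.proj i
  have hred : ∀ v, red (e v) = s (π (red v)) := by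
    intro v
    have h1 : Matrix.toLin' eb (red v) = s (π (red v)) := by simp [eb]
    rw [← h1, ← hEe]
    funext i
    show Ideal.Quotient.mk I ((Matrix.mulVec E v) i) = Matrix.mulVec (E.map (Ideal.Quotient.mk I)) (red v) i
    exact RingHom.map_mulVec (Ideal.Quotient.mk I) E v i
  letI : Module R Pb := Module.compHom Pb (Ideal.Quotient.mk I)
  have : IsScalarTower R (R ⧸ I) Pb := IsScalarTower.of_algebraMap_smul fun r x => rfl
  let φ := ((π.restrictScalars R) ∘ₗ red ∘ₗ P.subtype).liftBaseChange (R ⧸ I)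
  let eP : (Fin n → R) →ₗ[R] P := e.rangeRestrict
  let ψ : Pb →ₗ[R ⧸ I] (R ⧸ I) ⊗[R] P :=
    (Fintype.linearCombination (R ⧸ I) fun i => (1 : R ⧸ I) ⊗ₜ[R] eP (Pi.single i 1)) ∘ₗ s
  have hψ : ∀ v, (Fintype.linearCombination (R ⧸ I) fun i => (1 : R ⧸ I) ⊗ₜ[R] eP (Pi.single i 1)) (red v) = (1 : R ⧸ I) ⊗ₜ[R] eP v := by
    intro v
    conv_rhs => rw [pi_eq_sum_univ' v, map_sum, TensorProduct.tmul_sum]
    rw [Fintype.linearCombination_apply]
    refine Finset.sum_congr rfl fun i _ => ?_
    rw [map_smul, TensorProduct.tmul_smul]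
    exact algebraMap_smul (R ⧸ I) (v i) _
  have hred2 : ∀ i, red (Pi.single i 1) = Pi.single i (1 : R ⧸ I) := fun i => by
    funext j; by_cases h : j = i <;> simp [red, h]
  refine ⟨P, inferInstance, inferInstance, hPp, hPf, ⟨LinearEquiv.ofLinear φ ψ ?_ ?_⟩⟩
  · refine LinearMap.ext fun x => ?_
    simp only [ψ, LinearMap.comp_apply, Fintype.linearCombination_apply, map_sum, map_smul, LinearMap.id_apply]
    simp only [φ, LinearMap.liftBaseChange_tmul, one_smul, LinearMap.comp_apply, LinearMap.coe_restrictScalars, Submodule.subtype_apply]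
    have : ∀ i, π (red (eP (Pi.single i 1) : Fin n → R)) = π (Pi.single i 1) := fun i => by
      show π (red (e (Pi.single i 1))) = _
      rw [hred, hs', hred2]
    simp only [this, ← map_smul, ← map_sum]
    rw [← pi_eq_sum_univ', hs']
  · refine TensorProduct.AlgebraTensorModule.ext fun a p => ?_
    obtain ⟨v, rfl⟩ := e.surjective_rangeRestrict p
    rw [show a ⊗ₜ[R] e.rangeRestrict v = a • ((1 : R ⧸ I) ⊗ₜ[R] eP v) by rw [TensorProduct.smul_tmul', smul_eq_mul, mul_one], map_smul, LinearMap.id_apply]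
    congr 1
    simp only [ψ, φ, LinearMap.comp_apply, LinearMap.liftBaseChange_tmul, one_smul, LinearMap.coe_restrictScalars, Submodule.subtype_apply]
    show _ = (1 : R ⧸ I) ⊗ₜ[R] eP v
    rw [show red (eP v : Fin n → R) = red (e v) from rfl, hred, hs', ← hred, hψ]
    exact congrArg _ (Subtype.ext (he v))

end Groth.Agent.S6271
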