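import Groth.Statements.S6272
import Mathlib.RingTheory.Ideal.Quotient.Operations
import Mathlib.Algebra.Module.Projective
import Mathlib.Algebra.Module.Torsion.Basic
import Mathlib.LinearAlgebra.TensorProduct.Tower
import Mathlib.LinearAlgebra.Finsupp.LinearCombination
-- import your own Groth.Agent.* helpers here

set_option autoImplicit false
universe u
open scoped TensorProduct
open CAlg

namespace Groth.Agent.S6272

/-- Over a ring R, take two ideals I and J meeting in zero (I ∩ J = 0) and an R-module P. If the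
R/I-module P/IP (that is, R/I ⊗ P) and the R/J-module P/JP (that is, R/J ⊗ P) are both projective,
then P itself is projective over R. -/
theorem result {R : Type u} [CommRing R] (I J : Ideal R) (hIJ : I ⊓ J = ⊥) (P : Type u) [AddCommGroup P] [Module R P] (hI : Module.Projective (R ⧸ I) ((R ⧸ I) ⊗[R] P)) (hJ : Module.Projective (R ⧸ J) ((R ⧸ J) ⊗[R] P)) : Module.Projective R P := by
  classical
  have liftMod : ∀ (J : Ideal R), Module.Projective (R ⧸ J) ((R ⧸ J) ⊗[R] P) →
      ∀ (M N : Type u) [AddCommGroup M] [Module R M] [AddCommGroup N] [Module R N],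
        Module.IsTorsionBySet R M (J : Set R) → ∀ (q : M →ₗ[R] N), Function.Surjective q →
        ∀ f : P →ₗ[R] N, ∃ h : P →ₗ[R] M, q.comp h = f := by
    intro J hJ M N _ _ _ _ hM q hq f
    have hN : Module.IsTorsionBySet R N (J : Set R) := fun n a => by
      obtain ⟨m, rfl⟩ := hq n
      rw [← map_smul, @hM m a, map_zero]
    letI := hM.module
    letI := hN.module
    haveI : IsScalarTower R (R ⧸ J) M := hM.isScalarTower
    haveI : IsScalarTower R (R ⧸ J) N := hN.isScalarTower
    have hsur : Function.Surjective (algebraMap R (R ⧸ J)) := Ideal.Quotient.mk_surjective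
    let q' : M →ₗ[R ⧸ J] N := LinearMap.extendScalarsOfSurjective hsur q
    let f' : (R ⧸ J) ⊗[R] P →ₗ[R ⧸ J] N := TensorProduct.AlgebraTensorModule.lift
      ((LinearMap.toSpanSingleton (R ⧸ J) (P →ₗ[R] N) f))
    obtain ⟨h', hh'⟩ := Module.projective_lifting_property q' f' hq
    refine ⟨(h'.restrictScalars R).comp (TensorProduct.mk R (R ⧸ J) P 1), LinearMap.ext fun x => ?_⟩
    exact (LinearMap.congr_fun hh' (1 ⊗ₜ x)).trans (by simp [f'])
  let F := P →₀ R
  let π : F →ₗ[R] P := Finsupp.linearCombination R id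
  have hπ : Function.Surjective π := fun x => ⟨Finsupp.single x 1, (Finsupp.linearCombination_single R (v := (id : P → P)) 1 x).trans (one_smul R x)⟩
  have htor : ∀ (K : Ideal R) (M : Type u) [AddCommGroup M] [Module R M],
      Module.IsTorsionBySet R (M ⧸ (K • ⊤ : Submodule R M)) (K : Set R) := fun K M _ _ =>
    Module.isTorsionBySet_quotient_ideal_smul M K
  have hq : ∀ K : Ideal R, Function.Surjective (Submodule.mapQ (K • ⊤ : Submodule R F) (K • ⊤ : Submodule R P) π
      (Submodule.smul_top_le_comap_smul_top K π)) := fun K y => by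
    obtain ⟨x, rfl⟩ := Submodule.mkQ_surjective _ y
    obtain ⟨v, rfl⟩ := hπ x
    exact ⟨Submodule.mkQ _ v, rfl⟩
  obtain ⟨s₁, hs₁⟩ := liftMod I hI _ _ (htor I F) _ (hq I) (Submodule.mkQ _)
  obtain ⟨s₂, hs₂⟩ := liftMod J hJ _ _ (htor J F) _ (hq J) (Submodule.mkQ _)
  let FIJ := F ⧸ ((I ⊔ J) • ⊤ : Submodule R F)
  let qI : (F ⧸ (I • ⊤ : Submodule R F)) →ₗ[R] FIJ := Submodule.factor (Submodule.smul_mono_left le_sup_left)
  let qJ : (F ⧸ (J • ⊤ : Submodule R F)) →ₗ[R] FIJ := Submodule.factor (Submodule.smul_mono_left le_sup_right)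
  let KJ : Submodule R (F ⧸ (J • ⊤ : Submodule R F)) := (LinearMap.ker π).map (Submodule.mkQ _)
  let T : Submodule R FIJ := KJ.map qJ
  have hd : ∀ x, qI (s₁ x) - qJ (s₂ x) ∈ T := by
    intro x
    obtain ⟨u, hu⟩ := Submodule.mkQ_surjective _ (s₁ x)
    obtain ⟨v, hv⟩ := Submodule.mkQ_surjective _ (s₂ x)
    have h1 : π u - x ∈ (I • ⊤ : Submodule R P) := by
      have := LinearMap.congr_fun hs₁ x
      rw [LinearMap.comp_apply, ← hu] at this
      exact (Submodule.Quotient.eq _).1 this
    have h2 : π v - x ∈ (J • ⊤ : Submodule R P) := by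
      have := LinearMap.congr_fun hs₂ x
      rw [LinearMap.comp_apply, ← hv] at this
      exact (Submodule.Quotient.eq _).1 this
    have h3 : π (u - v) ∈ (((I ⊔ J) • ⊤ : Submodule R F)).map π := by
      rw [Submodule.map_smul'', Submodule.map_top, LinearMap.range_eq_top.2 hπ, map_sub,
        show π u - π v = (π u - x) - (π v - x) by abel]
      exact Submodule.sub_mem _ (Submodule.smul_mono_left le_sup_left h1) (Submodule.smul_mono_left le_sup_right h2)
    obtain ⟨w, hw, hw'⟩ := h3
    refine ⟨Submodule.mkQ _ (u - v - w), ⟨u - v - w, ?_, rfl⟩, ?_⟩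
    · rw [SetLike.mem_coe, LinearMap.mem_ker, map_sub, hw', sub_self]
    · rw [← hu, ← hv]
      show Submodule.Quotient.mk (u - v - w) = Submodule.Quotient.mk u - Submodule.Quotient.mk v
      rw [← Submodule.Quotient.mk_sub, Submodule.Quotient.eq, sub_sub_cancel_left]
      exact Submodule.neg_mem _ hw
  let qK : KJ →ₗ[R] T := LinearMap.codRestrict T (qJ.comp KJ.subtype) fun k => Submodule.mem_map_of_mem k.2
  obtain ⟨l, hl⟩ := liftMod J hJ KJ T (fun m a => Subtype.ext (@htor J F _ _ m.1 a)) qK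
    (by rintro ⟨_, k, hk, rfl⟩; exact ⟨⟨k, hk⟩, rfl⟩) (LinearMap.codRestrict T (qI.comp s₁ - qJ.comp s₂) hd)
  let s₂' := s₂ + KJ.subtype.comp l
  have hcompat : ∀ x, qI (s₁ x) = qJ (s₂' x) := fun x => by
    have h1 : qJ (l x).1 = qI (s₁ x) - qJ (s₂ x) := congrArg Subtype.val (LinearMap.congr_fun hl x)
    show qI (s₁ x) = qJ (s₂ x + (l x).1)
    rw [map_add, h1, add_sub_cancel]
  let Φ : F →ₗ[R] (F ⧸ (I • ⊤ : Submodule R F)) × (F ⧸ (J • ⊤ : Submodule R F)) :=
    LinearMap.prod (Submodule.mkQ _) (Submodule.mkQ _)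
  have hcoord : ∀ (K : Ideal R) (v : F), v ∈ (K • ⊤ : Submodule R F) → ∀ p, v p ∈ K := fun K v hv p => by
    have hv' : v p ∈ (K • ⊤ : Submodule R F).map (Finsupp.lapply p : F →ₗ[R] R) := ⟨v, hv, rfl⟩
    rw [Submodule.map_smul'', Submodule.map_top] at hv'
    have := (Submodule.smul_mono le_rfl le_top) hv'
    simpa using this
  have hΦ : Function.Injective Φ := LinearMap.ker_eq_bot.1 (LinearMap.ker_eq_bot'.2 fun v hv => by
    have h1 := (Submodule.Quotient.mk_eq_zero _).1 (congrArg Prod.fst hv)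
    have h2 := (Submodule.Quotient.mk_eq_zero _).1 (congrArg Prod.snd hv)
    ext p
    exact (Submodule.mem_bot R).1 (hIJ ▸ ⟨hcoord I v h1 p, hcoord J v h2 p⟩))
  have hmem : ∀ x, (s₁ x, s₂' x) ∈ LinearMap.range Φ := fun x => by
    obtain ⟨u, hu⟩ := Submodule.mkQ_surjective _ (s₁ x)
    obtain ⟨v, hv⟩ := Submodule.mkQ_surjective _ (s₂' x)
    have h : u - v ∈ ((I ⊔ J) • ⊤ : Submodule R F) := by
      have := hcompat x
      rw [← hu, ← hv] at this
      exact (Submodule.Quotient.eq _).1 this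
    rw [Submodule.sup_smul, Submodule.mem_sup] at h
    obtain ⟨a, ha, b, hb, hab⟩ := h
    refine ⟨u - a, Prod.ext ?_ ?_⟩
    · show Submodule.mkQ _ (u - a) = s₁ x
      rw [← hu, map_sub, show Submodule.mkQ (I • ⊤ : Submodule R F) a = 0 from (Submodule.Quotient.mk_eq_zero _).2 ha, sub_zero]
    · show Submodule.mkQ _ (u - a) = s₂' x
      rw [← hv, show u - a = v + b by rw [eq_sub_iff_add_eq] at hab; rw [sub_eq_iff_eq_add, ← hab]; abel, map_add,
        show Submodule.mkQ (J • ⊤ : Submodule R F) b = 0 from (Submodule.Quotient.mk_eq_zero _).2 hb, add_zero]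
  let s : P →ₗ[R] F := (LinearEquiv.ofInjective Φ hΦ).symm.toLinearMap.comp
    (LinearMap.codRestrict (LinearMap.range Φ) (s₁.prod s₂') hmem)
  have hs : ∀ x, Φ (s x) = (s₁ x, s₂' x) := fun x =>
    congrArg Subtype.val ((LinearEquiv.ofInjective Φ hΦ).apply_symm_apply ⟨_, hmem x⟩)
  let L : Submodule R P := (I • ⊤) ⊓ (J • ⊤)
  have hsL : ∀ x, π (s x) - x ∈ L := fun x => by
    refine ⟨?_, ?_⟩
    · have h1 := LinearMap.congr_fun hs₁ x
      rw [LinearMap.comp_apply, show s₁ x = Submodule.mkQ _ (s x) from (congrArg Prod.fst (hs x)).symm] at h1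
      exact (Submodule.Quotient.eq _).1 h1
    · have h1 := LinearMap.congr_fun hs₂ x
      obtain ⟨k, hk, hk'⟩ := (l x).2
      have h2 : s₂ x = Submodule.mkQ _ (s x - k) := by
        rw [map_sub, hk', show Submodule.mkQ _ (s x) = s₂' x from congrArg Prod.snd (hs x)]
        show s₂ x = s₂ x + (l x).1 - (l x).1
        rw [add_sub_cancel_right]
      rw [LinearMap.comp_apply, h2] at h1
      have h3 := (Submodule.Quotient.eq _).1 h1
      rwa [map_sub, LinearMap.mem_ker.1 hk, sub_zero] at h3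
  have hskill : ∀ x ∈ L, s x = 0 := fun x hx => by
    have h1 : s₁ x = 0 := by
      have h := Submodule.mem_map_of_mem (f := s₁) hx.1
      rw [Submodule.map_smul''] at h
      exact (Submodule.mem_bot R).1 ((Submodule.smul_le.2 fun a ha m _ =>
        (Submodule.mem_bot R).2 (@htor I F _ _ m ⟨a, ha⟩)) h)
    have h2 : s₂' x = 0 := by
      have h := Submodule.mem_map_of_mem (f := s₂') hx.2
      rw [Submodule.map_smul''] at h
      exact (Submodule.mem_bot R).1 ((Submodule.smul_le.2 fun a ha m _ =>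
        (Submodule.mem_bot R).2 (@htor J F _ _ m ⟨a, ha⟩)) h)
    exact hΦ ((hs x).trans (by rw [h1, h2, map_zero]; rfl))
  let e : P →ₗ[R] P := LinearMap.id - π.comp s
  have heL : ∀ x, e x ∈ L := fun x => by
    show x - π (s x) ∈ L
    rw [← neg_sub]
    exact L.neg_mem (hsL x)
  have heid : ∀ x ∈ L, e x = x := fun x hx => by
    show x - π (s x) = x
    rw [hskill x hx, map_zero, sub_zero]
  have hL : ∀ K : Ideal R, (∀ x ∈ L, x ∈ (K • ⊤ : Submodule R P)) → L ≤ K • L := fun K hK x hx => by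
    rw [← heid x hx]
    have h := Submodule.mem_map_of_mem (f := e) (hK x hx)
    rw [Submodule.map_smul''] at h
    exact Submodule.smul_mono le_rfl (by rintro _ ⟨y, -, rfl⟩; exact heL y) h
  have hbot : L = ⊥ := by
    refine le_bot_iff.1 ((hL I fun x hx => hx.1).trans ((Submodule.smul_mono le_rfl (hL J fun x hx => hx.2)).trans ?_))
    rw [← Submodule.smul_assoc, smul_eq_mul]
    exact (Submodule.smul_mono (Ideal.mul_le_inf.trans hIJ.le) le_rfl).trans (Submodule.bot_smul _).le
  exact Module.Projective.of_split s π (LinearMap.ext fun x => by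
    have := hsL x
    rwa [hbot, Submodule.mem_bot, sub_eq_zero] at this)

end Groth.Agent.S6272
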