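import Groth.Statements.S6273
import Mathlib.RingTheory.Ideal.Quotient.Operations
import Mathlib.RingTheory.Spectrum.Prime.Topology


-- import your own Groth.Agent.* helpers here

set_option autoImplicit false
universe u
open CAlg

namespace Groth.Agent.S6273

/-- Let R be a ring, S ⊆ R a multiplicative subset and A = S⁻¹R. If the image of Spec(A) → Spec(R) is
closed, then the localization map R → A is surjective; in particular A is isomorphic to R/I for the
ideal I = ker(R → A). -/
theorem result {R : Type u} [CommRing R] (S : Submonoid R) (A : Type u) [CommRing A] [Algebra R A] [IsLocalization S A] (hcl : IsClosed (Set.range (PrimeSpectrum.comap (algebraMap R A)))) : Function.Surjective (algebraMap R A) := by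
  intro a
  obtain ⟨⟨r, s⟩, hrs⟩ := IsLocalization.surj S a
  have hu : IsUnit (Ideal.Quotient.mk (RingHom.ker (algebraMap R A)) (s : R)) := by
    by_contra hnu
    obtain ⟨M, hM, hsM⟩ := exists_max_ideal_of_mem_nonunits (mem_nonunits_iff.2 hnu)
    have : (M.comap (Ideal.Quotient.mk (RingHom.ker (algebraMap R A)))).IsPrime := Ideal.comap_isPrime _ _
    let P : PrimeSpectrum R := ⟨M.comap (Ideal.Quotient.mk (RingHom.ker (algebraMap R A))), this⟩
    have hP : P ∈ closure (Set.range (PrimeSpectrum.comap (algebraMap R A))) := by
      rw [PrimeSpectrum.closure_range_comap, PrimeSpectrum.mem_zeroLocus]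
      intro x hx
      show Ideal.Quotient.mk _ x ∈ M
      rw [Ideal.Quotient.eq_zero_iff_mem.2 hx]
      exact zero_mem _
    rw [hcl.closure_eq, PrimeSpectrum.localization_comap_range A S] at hP
    exact Set.disjoint_left.1 hP s.2 hsM
  obtain ⟨b, hb⟩ := hu.exists_left_inv
  obtain ⟨t, rfl⟩ := Ideal.Quotient.mk_surjective b
  refine ⟨t * r, ?_⟩
  have h1 : algebraMap R A (t * s) = 1 := by
    rw [← map_one (algebraMap R A)]
    rw [← map_mul] at hb
    exact (RingHom.sub_mem_ker_iff _).1 ((Ideal.Quotient.eq).1 (hb.trans (map_one _).symm))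
  rw [map_mul, ← hrs, ← mul_left_comm, ← map_mul, h1, mul_one]

end Groth.Agent.S6273
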