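import Groth.Statements.S6274
import Mathlib.RingTheory.Ideal.Quotient.Operations
import Mathlib.RingTheory.Spectrum.Prime.Topology
import Mathlib.RingTheory.Spectrum.Prime.ConstructibleSet


-- import your own Groth.Agent.* helpers here

set_option autoImplicit false
universe u
open CAlg

namespace Groth.Agent.S6274

/-- Let R be a ring, S ⊆ R a multiplicative subset and A = S⁻¹R, and assume the image of Spec(A) →
Spec(R) is closed. If Spec(R) is a Noetherian topological space (which holds when R is Noetherian)
or S is finitely generated as a monoid, then R is isomorphic to A × R' for some ring R', by an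
isomorphism whose first component is the localization map R → A. -/
theorem result {R : Type u} [CommRing R] (S : Submonoid R) (A : Type u) [CommRing A] [Algebra R A] [IsLocalization S A] (hcl : IsClosed (Set.range (PrimeSpectrum.comap (algebraMap R A)))) (h : TopologicalSpace.NoetherianSpace (PrimeSpectrum R) ∨ S.FG) : ∃ (R' : Type u) (_ : CommRing R') (e : R ≃+* A × R'), ∀ x : R, (e x).1 = algebraMap R A x := by
  classical
  let T := Set.range (PrimeSpectrum.comap (algebraMap R A))
  have hmem : ∀ p : PrimeSpectrum R, p ∈ T ↔ Disjoint (S : Set R) (p.asIdeal : Set R) := fun p => by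
    rw [show T = _ from PrimeSpectrum.localization_comap_range A S]; exact Iff.rfl
  have hgen : StableUnderGeneralization T := fun x y hxy hx =>
    (hmem y).2 (((hmem x).1 hx).mono_right ((PrimeSpectrum.le_iff_specializes y x).2 hxy))
  have hop : IsOpen T := by
    rcases h with h | h
    · haveI := h
      refine PrimeSpectrum.isOpen_of_stableUnderGeneralization_of_isConstructible hgen ?_
      have h1 : Topology.IsConstructible Tᶜ :=
        IsRetrocompact.isConstructible hcl.isOpen_compl (fun U _ _ => TopologicalSpace.NoetherianSpace.isCompact _)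
      simpa using h1.compl
    · obtain ⟨F, hF⟩ := h
      have : T = (PrimeSpectrum.basicOpen (∏ x ∈ F, x) : Set (PrimeSpectrum R)) := by
        ext p
        rw [hmem, SetLike.mem_coe, PrimeSpectrum.mem_basicOpen, Ideal.IsPrime.prod_mem_iff]
        push Not
        constructor
        · exact fun hd x hx => Set.disjoint_left.1 hd (hF ▸ Submonoid.subset_closure hx)
        · intro hd
          refine Set.disjoint_left.2 fun x hx => ?_
          have : S ≤ p.asIdeal.primeCompl := hF ▸ Submonoid.closure_le.2 hd
          exact this hx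
      rw [this]; exact PrimeSpectrum.isOpen_basicOpen
  obtain ⟨e, he, hTe⟩ := PrimeSpectrum.exists_idempotent_basicOpen_eq_of_isClopen (⟨hcl, hop⟩ : IsClopen T)
  let I : Ideal R := Ideal.span {1 - e}
  let J : Ideal R := Ideal.span {e}
  have hcop : IsCoprime I J := Ideal.isCoprime_iff_exists.2 ⟨1 - e, Ideal.mem_span_singleton_self _, e,
    Ideal.mem_span_singleton_self _, by ring⟩
  have hIJ : I ⊓ J = ⊥ := by
    rw [← Ideal.mul_eq_inf_of_coprime ((Ideal.isCoprime_iff_sup_eq).1 hcop), Ideal.span_singleton_mul_span_singleton,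
      show (1 - e) * e = 0 by rw [sub_mul, one_mul, he.eq, sub_self], Ideal.span_singleton_zero]
  have heA : algebraMap R A e = 1 := by
    have hu : IsUnit (algebraMap R A e) := by
      by_contra hu
      obtain ⟨Q, hQ, heQ⟩ := exists_max_ideal_of_mem_nonunits hu
      have : PrimeSpectrum.comap (algebraMap R A) ⟨Q, hQ.isPrime⟩ ∈ (PrimeSpectrum.basicOpen e : Set (PrimeSpectrum R)) :=
        hTe ▸ ⟨_, rfl⟩
      exact this heQ
    exact hu.mul_left_cancel (by rw [← map_mul, he.eq, mul_one])
  have hsunit : ∀ s ∈ S, IsUnit (Ideal.Quotient.mk I s) := by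
    intro s hs
    by_contra hu
    obtain ⟨Q, hQ, hsQ⟩ := exists_max_ideal_of_mem_nonunits hu
    haveI := hQ.isPrime
    let p : PrimeSpectrum R := ⟨Q.comap (Ideal.Quotient.mk I), inferInstance⟩
    have hp : p ∈ T := by
      rw [hTe]
      intro hep
      refine hQ.ne_top ((Ideal.eq_top_iff_one _).2 ?_)
      rw [← show Ideal.Quotient.mk I e = 1 from (Ideal.Quotient.mk_eq_mk_iff_sub_mem _ _).2
        (by rw [← neg_sub]; exact neg_mem (Ideal.mem_span_singleton_self _))]
      exact hep
    exact Set.disjoint_left.1 ((hmem p).1 hp) hs hsQ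
  let ψ : A →+* R ⧸ I := IsLocalization.lift (M := S) (g := Ideal.Quotient.mk I) fun s => hsunit s.1 s.2
  let φ : R ⧸ I →+* A := Ideal.Quotient.lift I (algebraMap R A) fun x hx => by
    obtain ⟨c, rfl⟩ := Ideal.mem_span_singleton'.1 hx
    rw [map_mul, map_sub, map_one, heA, sub_self, mul_zero]
  have h1 : φ.comp ψ = RingHom.id A := IsLocalization.ringHom_ext S (RingHom.ext fun x => by simp [φ, ψ])
  have h2 : ψ.comp φ = RingHom.id _ := Ideal.Quotient.ringHom_ext (RingHom.ext fun x => by simp [φ, ψ])
  let eA : (R ⧸ I) ≃+* A := RingEquiv.ofRingHom φ ψ h1 h2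
  refine ⟨R ⧸ J, inferInstance, (RingEquiv.quotientBot R).symm.trans ((Ideal.quotEquivOfEq hIJ.symm).trans
    ((Ideal.quotientInfEquivQuotientProd I J hcop).trans (RingEquiv.prodCongr eA (RingEquiv.refl _)))), fun x => ?_⟩
  simp [eA, φ]

end Groth.Agent.S6274
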