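import Groth.Statements.S6275


set_option autoImplicit false
universe u
open CAlg

namespace Groth.Agent.S6275

/-- Let R be a Noetherian ring and p ⊆ R a prime. Then there is f ∈ R, f ∉ p, such that R_f → R_p is
injective; equivalently every x ∈ R mapping to zero in R_p maps to zero in R_f. (The cases of a
domain and of a reduced ring with finitely many minimal primes are not included here.) -/
theorem result {R : Type u} [CommRing R] [IsNoetherianRing R] (p : Ideal R) [p.IsPrime] : ∃ f : R, f ∉ p ∧ ∀ x : R, algebraMap R (Localization.AtPrime p) x = 0 → algebraMap R (Localization.Away f) x = 0 := by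
  obtain ⟨s, hs⟩ := IsNoetherian.noetherian (RingHom.ker (algebraMap R (Localization.AtPrime p)))
  choose t ht using fun y : {y // y ∈ s} =>
    (IsLocalization.map_eq_zero_iff p.primeCompl (Localization.AtPrime p) y.1).1
      ((RingHom.mem_ker).1 (hs ▸ Submodule.subset_span y.2))
  let f : R := ∏ y : {y // y ∈ s}, (t y).1
  refine ⟨f, fun hf => ?_, fun x hx => ?_⟩
  · obtain ⟨y, -, hy⟩ := Ideal.IsPrime.prod_mem_iff.1 hf
    exact (t y).2 hy
  · refine (IsLocalization.map_eq_zero_iff (Submonoid.powers f) (Localization.Away f) x).2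
      ⟨⟨f, Submonoid.mem_powers f⟩, ?_⟩
    have hker : RingHom.ker (algebraMap R (Localization.AtPrime p)) ≤ LinearMap.ker (LinearMap.mulLeft R f) := by
      rw [← hs, Submodule.span_le]
      intro y hy
      obtain ⟨c, hc⟩ := Finset.dvd_prod_of_mem (fun y : {y // y ∈ s} => (t y).1) (Finset.mem_univ ⟨y, hy⟩)
      simp only [SetLike.mem_coe, LinearMap.mem_ker, LinearMap.mulLeft_apply, f, hc]
      rw [mul_comm (t ⟨y, hy⟩).1 c, mul_assoc, ht ⟨y, hy⟩, mul_zero]
    exact hker ((RingHom.mem_ker).2 hx)

end Groth.Agent.S6275
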