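import Groth.Statements.S6277
import Mathlib.RingTheory.Ideal.Maps
-- import your own Groth.Agent.* helpers here

set_option autoImplicit false
universe u
open CAlg

namespace Groth.Agent.S6277

/-- Any surjective ring endomorphism of a Noetherian ring is an isomorphism (bijective). -/
theorem result {R : Type u} [CommRing R] [IsNoetherianRing R] (f : R →+* R) (hf : Function.Surjective f) : Function.Bijective f := by
  refine ⟨?_, hf⟩
  let F : ℕ → Ideal R := fun n => (Ideal.comap f)^[n] ⊥
  have hmono : Monotone F := by
    refine monotone_nat_of_le_succ fun n => ?_
    induction n with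
    | zero => exact bot_le
    | succ n ih =>
      simp only [F, Function.iterate_succ_apply'] at ih ⊢
      exact Ideal.comap_mono ih
  obtain ⟨n, hn⟩ := monotone_stabilizes_iff_noetherian.mpr (inferInstanceAs (IsNoetherian R R)) ⟨F, hmono⟩
  have h : ∀ m, F m = F (m + 1) → F 0 = F 1 := by
    intro m
    induction m with
    | zero => exact id
    | succ m ih =>
      intro hm
      apply ih
      apply Ideal.comap_injective_of_surjective f hf
      simpa [F, Function.iterate_succ_apply'] using hm
  have h01 := h n (hn (n + 1) (by omega))
  rw [RingHom.injective_iff_ker_eq_bot, RingHom.ker_eq_comap_bot]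
  exact h01.symm

end Groth.Agent.S6277
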