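import Groth.Statements.S6281
import Mathlib.RingTheory.Flat.FaithfullyFlat.Basic

set_option autoImplicit false
universe u
open CAlg

namespace Groth.Agent.S6281

/-- For an R-algebra S and an S-module M, flatness of S over R follows once M is both flat over R and
faithfully flat over S. -/
theorem result {R S : Type u} [CommRing R] [CommRing S] [Algebra R S] (M : Type u) [AddCommGroup M] [Module S M] [Module R M] [IsScalarTower R S M] [Module.Flat R M] [Module.FaithfullyFlat S M] : Module.Flat R S := by
  rw [Module.Flat.iff_lTensor_preserves_injective_linearMap]
  intro N P _ _ _ _ g hg
  let gS := TensorProduct.AlgebraTensorModule.lTensor S S g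
  have h1 : Function.Injective (gS.lTensor M) := by
    have h2 : Function.Injective (g.lTensor M) := Module.Flat.lTensor_preserves_injective_linearMap g hg
    let eN := TensorProduct.AlgebraTensorModule.cancelBaseChange R S S M N
    let eP := TensorProduct.AlgebraTensorModule.cancelBaseChange R S S M P
    have hc : ∀ z, eP (gS.lTensor M z) = g.lTensor M (eN z) := by
      intro z
      induction z using TensorProduct.induction_on with
      | zero => simp
      | add a b ha hb => rw [map_add, map_add, ha, hb, map_add, map_add]
      | tmul m w =>
        induction w using TensorProduct.induction_on with
        | zero => simp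
        | add a b ha hb => simp only [TensorProduct.tmul_add, map_add, ha, hb]
        | tmul s n => simp [eN, eP, gS]
    intro a b hab
    exact eN.injective (h2 (by rw [← hc, ← hc, hab]))
  exact (Module.FaithfullyFlat.lTensor_injective_iff_injective S M gS).1 h1

end Groth.Agent.S6281
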