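import Groth.Statements.S6282
import Mathlib.RingTheory.Flat.Tensor
import Mathlib.RingTheory.Flat.FaithfullyFlat.Basic


-- import your own Groth.Agent.* helpers here

set_option autoImplicit false
universe u
open scoped TensorProduct
open CAlg

namespace Groth.Agent.S6282

/-- Let S → S' be a homomorphism of R-algebras, M an S-module, and M' = S' ⊗_S M with its induced
R-module structure. (1) When S' is flat over S, R-flatness of M passes to M'. (2) When S' is
faithfully flat over S, M is R-flat exactly when M' is. -/
theorem result {R S S' : Type u} [CommRing R] [CommRing S] [CommRing S'] [Algebra R S] [Algebra R S'] [Algebra S S'] [IsScalarTower R S S'] (M : Type u) [AddCommGroup M] [Module S M] [Module R M] [IsScalarTower R S M] : ([Module.Flat S S'] → Module.Flat R M → Module.Flat R (S' ⊗[S] M)) ∧ ([Module.FaithfullyFlat S S'] → (Module.Flat R M ↔ Module.Flat R (S' ⊗[S] M))) := by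
  -- tensoring an `R`-linear injection with `S' ⊗[S] M`
  have key : ∀ {N P : Type u} [AddCommGroup N] [Module R N] [AddCommGroup P] [Module R P] (f : N →ₗ[R] P),
      Function.Injective (f.lTensor (S' ⊗[S] M)) ↔
        Function.Injective ((TensorProduct.AlgebraTensorModule.lTensor S M f).lTensor S') := by
    intro N P _ _ _ _ f
    let eN := TensorProduct.AlgebraTensorModule.assoc R S S S' M N
    let eP := TensorProduct.AlgebraTensorModule.assoc R S S S' M P
    have : ∀ z, eP (f.lTensor (S' ⊗[S] M) z) = (TensorProduct.AlgebraTensorModule.lTensor S M f).lTensor S' (eN z) := by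
      intro z
      induction z using TensorProduct.induction_on with
      | zero => simp
      | add a b ha hb => simp only [map_add, ha, hb]
      | tmul q n =>
        induction q using TensorProduct.induction_on with
        | zero => simp
        | add a b ha hb => simp only [TensorProduct.add_tmul, map_add, ha, hb]
        | tmul s m => simp [eN, eP]
    constructor
    · intro h a b hab
      obtain ⟨a, rfl⟩ := eN.surjective a
      obtain ⟨b, rfl⟩ := eN.surjective b
      rw [← this, ← this] at hab
      rw [h (eP.injective hab)]
    · intro h a b hab
      exact eN.injective (h (by rw [← this, ← this, hab]))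
  have mp : ∀ [Module.Flat S S'], Module.Flat R M → Module.Flat R (S' ⊗[S] M) := by
    intro _ hM
    rw [Module.Flat.iff_lTensor_injective']
    intro I
    rw [key]
    exact Module.Flat.lTensor_preserves_injective_linearMap (TensorProduct.AlgebraTensorModule.lTensor S M I.subtype)
      (Module.Flat.lTensor_preserves_injective_linearMap (M := M) I.subtype Subtype.val_injective)
  refine ⟨fun {_} => mp, fun {_} => ⟨mp, fun h => ?_⟩⟩
  rw [Module.Flat.iff_lTensor_injective']
  intro I
  have h1 := Module.Flat.lTensor_preserves_injective_linearMap (M := S' ⊗[S] M) I.subtype Subtype.val_injective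
  rw [key, Module.FaithfullyFlat.lTensor_injective_iff_injective] at h1
  exact h1

end Groth.Agent.S6282
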