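import Groth.Statements.S6283
import Mathlib.LinearAlgebra.TensorProduct.Pi
import Mathlib.RingTheory.Flat.Basic


-- import your own Groth.Agent.* helpers here

set_option autoImplicit false
universe u
open scoped TensorProduct
open CAlg

namespace Groth.Agent.S6283

/-- Let R → S be a flat ring map, M an R-module and m ∈ M. Then Ann_R(m)S = Ann_S(1 ⊗ m), the
annihilator in S of the element 1 ⊗ m of S ⊗_R M. If moreover M is a finite R-module then Ann_R(M)S
= Ann_S(S ⊗_R M). -/
theorem result {R S : Type u} [CommRing R] [CommRing S] [Algebra R S] [Module.Flat R S] (M : Type u) [AddCommGroup M] [Module R M] : (∀ m : M, ((Submodule.span R {m}).annihilator).map (algebraMap R S) = (Submodule.span S {(1 : S) ⊗ₜ[R] m}).annihilator) ∧ (Module.Finite R M → (Module.annihilator R M).map (algebraMap R S) = Module.annihilator S (S ⊗[R] M)) := by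
  have key : ∀ (N : Type u) [AddCommGroup N] [Module R N] (v : N),
      Ideal.map (algebraMap R S) (LinearMap.ker (LinearMap.toSpanSingleton R N v)) =
        LinearMap.ker (LinearMap.toSpanSingleton S (S ⊗[R] N) ((1 : S) ⊗ₜ[R] v)) := by
    intro N _ _ v
    let a : Ideal R := LinearMap.ker (LinearMap.toSpanSingleton R N v)
    refine le_antisymm (Ideal.map_le_iff_le_comap.2 fun r hr => ?_) fun s hs => ?_
    · have hr' : r • v = 0 := hr
      show algebraMap R S r • ((1 : S) ⊗ₜ[R] v) = 0
      rw [algebraMap_smul, ← TensorProduct.tmul_smul, hr', TensorProduct.tmul_zero]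
    · have hs' : s • ((1 : S) ⊗ₜ[R] v) = 0 := hs
      have hex := Module.Flat.lTensor_exact S (LinearMap.exact_subtype_ker_map (LinearMap.toSpanSingleton R N v))
      have h0 : (LinearMap.toSpanSingleton R N v).lTensor S (s ⊗ₜ[R] (1 : R)) = 0 := by
        rw [LinearMap.lTensor_tmul, LinearMap.toSpanSingleton_apply, one_smul, ← hs', TensorProduct.smul_tmul', smul_eq_mul, mul_one]
      obtain ⟨w, hw⟩ := (hex _).1 h0
      have h1 : s = TensorProduct.rid R S ((LinearMap.ker (LinearMap.toSpanSingleton R N v)).subtype.lTensor S w) := by
        rw [hw, TensorProduct.rid_tmul, one_smul]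
      rw [h1]
      clear hw h1
      induction w using TensorProduct.induction_on with
      | zero => simp
      | add a b ha hb => simp only [map_add]; exact add_mem ha hb
      | tmul t r =>
        rw [LinearMap.lTensor_tmul, TensorProduct.rid_tmul, Algebra.smul_def]
        exact Ideal.mul_mem_right _ _ (Ideal.mem_map_of_mem _ r.2)
  refine ⟨fun m => ?_, fun hM => ?_⟩
  · rw [show (Submodule.span R {m}).annihilator = LinearMap.ker (LinearMap.toSpanSingleton R M m) by
        ext r; rw [Submodule.mem_annihilator_span_singleton]; rfl,
      show (Submodule.span S {(1 : S) ⊗ₜ[R] m}).annihilator = LinearMap.ker (LinearMap.toSpanSingleton S _ ((1 : S) ⊗ₜ[R] m)) by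
        ext r; rw [Submodule.mem_annihilator_span_singleton]; rfl]
    exact key M m
  · obtain ⟨n, g, hg⟩ := Module.Finite.exists_fin (R := R) (M := M)
    have h1 : Module.annihilator R M = LinearMap.ker (LinearMap.toSpanSingleton R (Fin n → M) g) := by
      ext r
      rw [Module.mem_annihilator, LinearMap.mem_ker, LinearMap.toSpanSingleton_apply, funext_iff]
      refine ⟨fun h i => h _, fun h m => ?_⟩
      induction (hg ▸ Submodule.mem_top : m ∈ Submodule.span R (Set.range g)) using Submodule.span_induction with
      | mem x hx => obtain ⟨i, rfl⟩ := hx; exact h i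
      | zero => exact smul_zero r
      | add a b _ _ ha hb => rw [smul_add, ha, hb, add_zero]
      | smul c a _ ha => rw [smul_comm, ha, smul_zero]
    rw [h1, key]
    ext s
    rw [Module.mem_annihilator, LinearMap.mem_ker, LinearMap.toSpanSingleton_apply,
      ← (TensorProduct.piRight R S S fun _ : Fin n => M).map_eq_zero_iff, map_smul, TensorProduct.piRight_apply, funext_iff]
    simp only [TensorProduct.piRightHom_tmul, Pi.smul_apply, Pi.zero_apply]
    refine ⟨fun h x => ?_, fun h i => h _⟩
    induction x using TensorProduct.induction_on with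
    | zero => exact smul_zero s
    | add a b ha hb => rw [smul_add, ha, hb, add_zero]
    | tmul t m =>
      induction (hg ▸ Submodule.mem_top : m ∈ Submodule.span R (Set.range g)) using Submodule.span_induction with
      | mem x hx =>
        obtain ⟨i, rfl⟩ := hx
        rw [show t ⊗ₜ[R] g i = t • ((1 : S) ⊗ₜ[R] g i) by rw [TensorProduct.smul_tmul', smul_eq_mul, mul_one],
          smul_comm, h i, smul_zero]
      | zero => simp
      | add a b _ _ ha hb => rw [TensorProduct.tmul_add, smul_add, ha, hb, add_zero]
      | smul c a _ ha => rw [TensorProduct.tmul_smul, smul_comm, ha, smul_zero]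

end Groth.Agent.S6283
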