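import Groth.Statements.S6285
import Mathlib.RingTheory.Support
import Mathlib.RingTheory.Spectrum.Prime.Topology
import Mathlib.LinearAlgebra.Matrix.Determinant.Basic
import Mathlib.LinearAlgebra.Matrix.NonsingularInverse

set_option autoImplicit false
universe u
open CAlg

namespace Groth.Agent.S6285

/-- For a ring R and an R-module M of finite presentation, the support Supp(M) is closed in Spec(R), and
its complement in Spec(R) is quasi-compact. -/
theorem result (R : Type u) [CommRing R] (M : Type u) [AddCommGroup M] [Module R M] [Module.FinitePresentation R M] : IsClosed (Module.support R M) ∧ IsCompact (Module.support R M)ᶜ := by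
  refine ⟨by rw [Module.support_eq_zeroLocus]; exact PrimeSpectrum.isClosed_zeroLocus _, ?_⟩
  obtain ⟨n, π, hπ⟩ := Module.Finite.exists_fin' R M
  obtain ⟨s, hs⟩ := Module.FinitePresentation.fg_ker π hπ
  let m := s.card
  let A : Fin m → (Fin n → R) := fun k => (s.equivFin.symm k).1
  have hA : Submodule.span R (Set.range A) = LinearMap.ker π := by
    rw [← hs]
    congr 1
    ext v
    exact ⟨by rintro ⟨k, rfl⟩; exact (s.equivFin.symm k).2,
      fun hv => ⟨s.equivFin ⟨v, hv⟩, by simp [A]⟩⟩
  let D : (Fin n → Fin m) → R := fun e => Matrix.det (Matrix.of fun j => A (e j))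
  suffices h : (Module.support R M)ᶜ = ⋃ e, (PrimeSpectrum.basicOpen (D e) : Set (PrimeSpectrum R)) by
    rw [h]
    exact isCompact_iUnion fun e => PrimeSpectrum.isCompact_basicOpen (D e)
  ext p
  simp only [Set.mem_compl_iff, Module.mem_support_iff_of_finite, Set.mem_iUnion, SetLike.mem_coe,
    PrimeSpectrum.mem_basicOpen]
  constructor
  · intro h
    obtain ⟨t, ht, htp⟩ := SetLike.not_le_iff_exists.1 h
    have hmem : ∀ j : Fin n, t • (Pi.single j 1 : Fin n → R) ∈ Submodule.span R (Set.range A) := by
      intro j
      rw [hA, LinearMap.mem_ker, map_smul]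
      exact Module.mem_annihilator.1 ht _
    choose B hB using fun j => (Submodule.mem_span_range_iff_exists_fun R).1 (hmem j)
    by_contra hall
    push Not at hall
    have h1 : Matrix.det (Matrix.of fun j : Fin n => t • (Pi.single j 1 : Fin n → R)) ∈ p.asIdeal := by
      rw [show (Matrix.of fun j : Fin n => t • (Pi.single j 1 : Fin n → R)) =
        fun j => ∑ k, B j k • A k from funext fun j => (hB j).symm]
      change (Matrix.detRowAlternating (R := R) (n := Fin n)).toMultilinearMap
        (fun j => ∑ k, B j k • A k) ∈ p.asIdeal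
      rw [MultilinearMap.map_sum]
      refine sum_mem fun e _ => ?_
      rw [MultilinearMap.map_smul_univ]
      exact Ideal.mul_mem_left _ _ (hall e)
    have h2 : Matrix.det (Matrix.of fun j : Fin n => t • (Pi.single j 1 : Fin n → R)) = t ^ n := by
      rw [show (Matrix.of fun j : Fin n => t • (Pi.single j 1 : Fin n → R)) =
        Matrix.diagonal fun _ => t by
          ext j k
          simp [Matrix.diagonal, Pi.single_apply, eq_comm], Matrix.det_diagonal]
      simp
    exact htp (p.2.mem_of_pow_mem n (h2 ▸ h1))
  · rintro ⟨e, he⟩ hle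
    refine he (hle (Module.mem_annihilator.2 fun x => ?_))
    obtain ⟨v, rfl⟩ := hπ x
    rw [← map_smul, ← LinearMap.mem_ker, ← hA]
    let Me : Matrix (Fin n) (Fin n) R := Matrix.of fun j => A (e j)
    have : D e • v = Matrix.vecMul (Matrix.vecMul v Me.adjugate) Me := by
      rw [Matrix.vecMul_vecMul, Matrix.adjugate_mul, Matrix.vecMul_smul, Matrix.vecMul_one]
    rw [this, Matrix.vecMul_eq_sum]
    exact Submodule.sum_mem _ fun j _ => Submodule.smul_mem _ _ (Submodule.subset_span ⟨e j, rfl⟩)

end Groth.Agent.S6285
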