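import Groth.Statements.S6286
import Mathlib.LinearAlgebra.Basis.VectorSpace
import Mathlib.LinearAlgebra.FreeModule.Basic
import Mathlib.RingTheory.Nilpotent.Lemmas
import Mathlib.RingTheory.Flat.Basic
import Mathlib.RingTheory.LocalRing.ResidueField.Ideal
import Mathlib.RingTheory.TensorProduct.Basic


-- import your own Groth.Agent.* helpers here

set_option autoImplicit false
universe u
open scoped TensorProduct
open CAlg

namespace Groth.Agent.S6286

/-- Let k be a field, R and S k-algebras, S' ⊆ S a k-subalgebra and f ∈ R ⊗ₖ S', with image f again in R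
⊗ₖ S. Then the images in Spec(R) of Spec((R ⊗ₖ S)_f) and of Spec((R ⊗ₖ S')_f) coincide: a prime p of
R is the contraction of a prime of R ⊗ₖ S not containing f if and only if it is the contraction of a
prime of R ⊗ₖ S' not containing f. -/
theorem result (k : Type u) [Field k] (R S : Type u) [CommRing R] [Algebra k R] [CommRing S] [Algebra k S] (S' : Subalgebra k S) (f : R ⊗[k] S') (p : PrimeSpectrum R) : (∃ q : PrimeSpectrum (R ⊗[k] S), Algebra.TensorProduct.map (AlgHom.id k R) S'.val f ∉ q.asIdeal ∧ q.asIdeal.comap (algebraMap R (R ⊗[k] S)) = p.asIdeal) ↔ (∃ q' : PrimeSpectrum (R ⊗[k] S'), f ∉ q'.asIdeal ∧ q'.asIdeal.comap (algebraMap R (R ⊗[k] S')) = p.asIdeal) := by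
  classical
  let ι : R ⊗[k] S' →ₐ[k] R ⊗[k] S := Algebra.TensorProduct.map (AlgHom.id k R) S'.val
  have hι : ∀ r : R, ι (algebraMap R (R ⊗[k] S') r) = algebraMap R (R ⊗[k] S) r := fun r => by
    simp [ι, Algebra.TensorProduct.algebraMap_apply]
  constructor
  · rintro ⟨q, hf, hq⟩
    refine ⟨⟨q.asIdeal.comap ι.toRingHom, inferInstance⟩, hf, ?_⟩
    rw [← hq]
    ext r
    show ι (algebraMap R (R ⊗[k] S') r) ∈ q.asIdeal ↔ _
    rw [hι]; rfl
  · rintro ⟨q', hf, hq'⟩
    let L := p.asIdeal.ResidueField
    let a : R →ₐ[k] L := IsScalarTower.toAlgHom k R L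
    let g : R ⊗[k] S →ₐ[k] L ⊗[k] S := Algebra.TensorProduct.map a (AlgHom.id k S)
    let g' : R ⊗[k] S' →ₐ[k] L ⊗[k] S' := Algebra.TensorProduct.map a (AlgHom.id k S')
    let j : L ⊗[k] S' →ₐ[k] L ⊗[k] S := Algebra.TensorProduct.map (AlgHom.id k L) S'.val
    have hj : Function.Injective j :=
      Module.Flat.lTensor_preserves_injective_linearMap (M := L) S'.val.toLinearMap Subtype.val_injective
    have hcomm : ∀ z, g (ι z) = j (g' z) := by
      intro z
      induction z using TensorProduct.induction_on with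
      | zero => simp
      | tmul x y => simp [g, g', ι, j]
      | add x y hx hy => simp only [map_add, hx, hy]
    haveI := q'.isPrime
    let L' := q'.asIdeal.ResidueField
    let b : R →+* L' := (algebraMap (R ⊗[k] S') L').comp (algebraMap R (R ⊗[k] S'))
    have hpb : p.asIdeal = q'.asIdeal.comap (algebraMap R (R ⊗[k] S')) := hq'.symm
    let φ : L →ₐ[k] L' :=
      { Ideal.ResidueField.map p.asIdeal q'.asIdeal (algebraMap R (R ⊗[k] S')) hpb with
        commutes' := fun c => by
          show Ideal.ResidueField.map p.asIdeal q'.asIdeal (algebraMap R (R ⊗[k] S')) hpb (algebraMap k L c) = _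
          rw [IsScalarTower.algebraMap_apply k R L, Ideal.ResidueField.map_algebraMap,
            ← IsScalarTower.algebraMap_apply k R (R ⊗[k] S'), ← IsScalarTower.algebraMap_apply] }
    let ψ : L ⊗[k] S' →ₐ[k] L' := Algebra.TensorProduct.lift φ
      ((IsScalarTower.toAlgHom k (R ⊗[k] S') L').comp Algebra.TensorProduct.includeRight) (fun _ _ => mul_comm _ _)
    have hψ : ∀ z, ψ (g' z) = algebraMap (R ⊗[k] S') L' z := by
      intro z
      induction z using TensorProduct.induction_on with
      | zero => simp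
      | add x y hx hy => simp only [map_add, hx, hy]
      | tmul x y =>
        show φ (algebraMap R L x) * algebraMap (R ⊗[k] S') L' ((1 : R) ⊗ₜ y) = _
        rw [show φ (algebraMap R L x) = _ from Ideal.ResidueField.map_algebraMap _ _ _ hpb x, ← map_mul,
          Algebra.TensorProduct.algebraMap_apply, Algebra.algebraMap_self, RingHom.id_apply,
          Algebra.TensorProduct.tmul_mul_tmul, mul_one, one_mul]
    have hnil : ¬ IsNilpotent (g (ι f)) := by
      rintro ⟨n, hn⟩
      rw [hcomm, ← map_pow, map_eq_zero_iff _ hj] at hn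
      have := congrArg ψ hn
      rw [map_pow, hψ, map_zero] at this
      exact hf (Ideal.algebraMap_residueField_eq_zero.1 (pow_eq_zero_iff'.1 this).1)
    rw [nilpotent_iff_mem_prime] at hnil
    push Not at hnil
    obtain ⟨Q, hQ, hQf⟩ := hnil
    refine ⟨⟨Q.comap g.toRingHom, inferInstance⟩, hQf, ?_⟩
    ext r
    show g (algebraMap R (R ⊗[k] S) r) ∈ Q ↔ r ∈ p.asIdeal
    have hg : g (algebraMap R (R ⊗[k] S) r) = algebraMap L (L ⊗[k] S) (algebraMap R L r) := by
      simp [g, a, Algebra.TensorProduct.algebraMap_apply]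
    rw [hg]
    constructor
    · intro h
      by_contra hr
      have h0 : algebraMap R L r ≠ 0 := fun h0 => hr (Ideal.algebraMap_residueField_eq_zero.1 h0)
      exact hQ.ne_top (Ideal.eq_top_of_isUnit_mem _ h (h0.isUnit.map _))
    · intro h
      rw [Ideal.algebraMap_residueField_eq_zero.2 h, map_zero]
      exact zero_mem _

end Groth.Agent.S6286
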