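import Groth.Statements.S6287
import Mathlib.RingTheory.Valuation.ValuationRing
import Mathlib.Algebra.Colimit.Ring


-- import your own Groth.Agent.* helpers here

set_option autoImplicit false
universe u
open CAlg

namespace Groth.Agent.S6287

/-- Let (A_i) be a directed system of valuation rings. Then the colimit A = colim A_i is a valuation
ring (in particular a domain). -/
theorem result {ι : Type u} [Preorder ι] [Nonempty ι] [IsDirected ι (· ≤ ·)] (G : ι → Type u) [∀ i, CommRing (G i)] [∀ i, IsDomain (G i)] [∀ i, ValuationRing (G i)] (f : ∀ i j, i ≤ j → G i →+* G j) [DirectedSystem G fun i j h => f i j h] : ∃ _ : IsDomain (Ring.DirectLimit G fun i j h => f i j h), ValuationRing (Ring.DirectLimit G fun i j h => f i j h) := by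
  have hnt : Nontrivial (Ring.DirectLimit G fun i j h => f i j h) := by
    refine ⟨⟨0, 1, fun h => ?_⟩⟩
    obtain ⟨i⟩ := ‹Nonempty ι›
    obtain ⟨j, hij, hj⟩ := Ring.DirectLimit.of.zero_exact (f' := f) (i := i) (x := 1) (by rw [map_one]; exact h.symm)
    exact one_ne_zero ((map_one (f i j hij)).symm.trans hj)
  have hdom : IsDomain (Ring.DirectLimit G fun i j h => f i j h) := by
    have : NoZeroDivisors (Ring.DirectLimit G fun i j h => f i j h) := ⟨fun {a b} hab => by
      obtain ⟨i, x, rfl⟩ := Ring.DirectLimit.exists_of a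
      obtain ⟨j, y, rfl⟩ := Ring.DirectLimit.exists_of b
      obtain ⟨k, hik, hjk⟩ := exists_ge_ge i j
      rw [← Ring.DirectLimit.of_f hik x, ← Ring.DirectLimit.of_f hjk y, ← map_mul] at hab
      obtain ⟨l, hkl, hl⟩ := Ring.DirectLimit.of.zero_exact (f' := f) hab
      rw [map_mul, mul_eq_zero] at hl
      rcases hl with hl | hl
      · left
        have := congrArg (Ring.DirectLimit.of G (fun i j h => f i j h) l) hl
        rwa [map_zero, Ring.DirectLimit.of_f, Ring.DirectLimit.of_f] at this
      · right
        have := congrArg (Ring.DirectLimit.of G (fun i j h => f i j h) l) hl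
        rwa [map_zero, Ring.DirectLimit.of_f, Ring.DirectLimit.of_f] at this⟩
    exact NoZeroDivisors.to_isDomain _
  refine ⟨hdom, ValuationRing.iff_dvd_total.2 ⟨fun a b => ?_⟩⟩
  obtain ⟨i, x, rfl⟩ := Ring.DirectLimit.exists_of a
  obtain ⟨j, y, rfl⟩ := Ring.DirectLimit.exists_of b
  obtain ⟨k, hik, hjk⟩ := exists_ge_ge i j
  rw [← Ring.DirectLimit.of_f hik x, ← Ring.DirectLimit.of_f hjk y]
  exact (ValuationRing.dvd_total (f i k hik x) (f j k hjk y)).imp (map_dvd _) (map_dvd _)

end Groth.Agent.S6287
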