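import Groth.Statements.S6289


set_option autoImplicit false
universe u
open CAlg

namespace Groth.Agent.S6289

/-- Let A' be a valuation ring with residue field K and A ⊆ K a valuation ring with fraction field K.
Then the subring C of A' consisting of the elements whose residue class lies in A is a valuation
ring. -/
theorem result (A' : Type u) [CommRing A'] [IsDomain A'] [ValuationRing A'] (A : ValuationSubring (IsLocalRing.ResidueField A')) : ValuationRing (A.toSubring.comap (IsLocalRing.residue A')) := by
  rw [ValuationRing.iff_dvd_total]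
  constructor
  intro a b
  suffices key : ∀ (a b : A.toSubring.comap (IsLocalRing.residue A')), (a : A') ∣ b → a ∣ b ∨ b ∣ a by
    rcases (ValuationRing.iff_dvd_total.1 ‹_›).total (a : A') (b : A') with h | h
    · exact key a b h
    · exact (key b a h).symm
  intro a b hab
  obtain ⟨c, hc⟩ := hab
  by_cases hcA : IsLocalRing.residue A' c ∈ A
  · exact Or.inl ⟨⟨c, hcA⟩, Subtype.ext hc⟩
  · have hinv := (A.mem_or_inv_mem (IsLocalRing.residue A' c)).resolve_left hcA
    have hne : IsLocalRing.residue A' c ≠ 0 := fun h => hcA (h ▸ zero_mem A)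
    obtain ⟨u, rfl⟩ : IsUnit c := by
      by_contra hu
      exact hne ((IsLocalRing.residue_eq_zero_iff c).2 hu)
    refine Or.inr ⟨⟨↑u⁻¹, ?_⟩, Subtype.ext ?_⟩
    · change IsLocalRing.residue A' (↑u⁻¹ : A') ∈ A
      rw [map_units_inv]
      exact hinv
    · change (a : A') = b * ↑u⁻¹
      rw [hc, Units.mul_inv_cancel_right]

end Groth.Agent.S6289
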