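import Groth.Statements.S6290
import Mathlib.RingTheory.Filtration

set_option autoImplicit false
universe u
open CAlg

namespace Groth.Agent.S6290

/-- Let R be a Noetherian ring, I ⊆ R an ideal, M a finite R-module and N = ⋂ₙ IⁿM. Then for every prime
p ⊇ I there is f ∈ R, f ∉ p, with N_f = 0, i.e. every element of N is annihilated by some power of
f. -/
theorem result {R : Type u} [CommRing R] [IsNoetherianRing R] (I : Ideal R) (M : Type u) [AddCommGroup M] [Module R M] [Module.Finite R M] (p : Ideal R) [p.IsPrime] (hIp : I ≤ p) : ∃ f : R, f ∉ p ∧ ∀ x ∈ (⨅ n : ℕ, I ^ n • (⊤ : Submodule R M)), ∃ k : ℕ, f ^ k • x = 0 := by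
  classical
  obtain ⟨s, hs⟩ := IsNoetherian.noetherian (⨅ n : ℕ, I ^ n • (⊤ : Submodule R M))
  choose r hr using fun y : {y // y ∈ s} =>
    (Ideal.mem_iInf_smul_pow_eq_bot_iff I (y : M)).1 (hs ▸ Submodule.subset_span y.2)
  let f : R := ∏ y : {y // y ∈ s}, (1 - (r y : R))
  refine ⟨f, fun hf => ?_, fun x hx => ⟨1, ?_⟩⟩
  · obtain ⟨y, -, hy⟩ := Ideal.IsPrime.prod_mem_iff.1 hf
    have := p.add_mem hy (hIp (r y).2)
    rw [sub_add_cancel] at this
    exact Ideal.IsPrime.ne_top ‹_› ((Ideal.eq_top_iff_one p).2 this)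
  · rw [pow_one]
    rw [← hs] at hx
    induction hx using Submodule.span_induction with
    | mem y hy =>
      obtain ⟨c, hc⟩ := Finset.dvd_prod_of_mem (fun y : {y // y ∈ s} => 1 - (r y : R)) (Finset.mem_univ ⟨y, hy⟩)
      simp only [f, hc]
      rw [mul_comm, mul_smul, sub_smul, one_smul, hr ⟨y, hy⟩, sub_self, smul_zero]
    | zero => exact smul_zero f
    | add a b _ _ ha hb => rw [smul_add, ha, hb, add_zero]
    | smul c a _ ha => rw [smul_comm, ha, smul_zero]

end Groth.Agent.S6290
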