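import Groth.Statements.S6291
import Mathlib.RingTheory.LocalRing.MaximalIdeal.Basic
import Mathlib.RingTheory.Jacobson.Ideal
import Mathlib.RingTheory.FiniteLength
import Mathlib.RingTheory.Nakayama

set_option autoImplicit false
universe u
open CAlg

namespace Groth.Agent.S6291

/-- Let R be a local ring with maximal ideal m and M an R-module of finite length. Then mⁿM = 0 for some
n. -/
theorem result {R : Type u} [CommRing R] [IsLocalRing R] (M : Type u) [AddCommGroup M] [Module R M] (hM : IsFiniteLength R M) : ∃ n : ℕ, (IsLocalRing.maximalIdeal R) ^ n • (⊤ : Submodule R M) = ⊥ := by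
  obtain ⟨_, _⟩ := isFiniteLength_iff_isNoetherian_isArtinian.1 hM
  let g : ℕ →o (Submodule R M)ᵒᵈ :=
    { toFun := fun n => OrderDual.toDual ((IsLocalRing.maximalIdeal R) ^ n • (⊤ : Submodule R M))
      monotone' := fun a b hab => Submodule.smul_mono_left (Ideal.pow_le_pow_right hab) }
  obtain ⟨n, hn⟩ := IsArtinian.monotone_stabilizes g
  refine ⟨n, Submodule.eq_bot_of_le_smul_of_le_jacobson_bot (IsLocalRing.maximalIdeal R) _
    (IsNoetherian.noetherian _) ?_ (IsLocalRing.jacobson_eq_maximalIdeal ⊥ bot_ne_top).ge⟩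
  have h : (IsLocalRing.maximalIdeal R) ^ n • (⊤ : Submodule R M) =
      (IsLocalRing.maximalIdeal R) ^ (n + 1) • (⊤ : Submodule R M) := hn (n + 1) n.le_succ
  calc _ = _ := h
    _ ≤ _ := le_of_eq (by rw [pow_succ', ← smul_eq_mul, Submodule.smul_assoc])

end Groth.Agent.S6291
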