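import Groth.Statements.S6293
import Mathlib.LinearAlgebra.Contraction
import Mathlib.Algebra.Module.Projective
import Mathlib.LinearAlgebra.FreeModule.Finite.Basic
import Mathlib.LinearAlgebra.StdBasis

set_option autoImplicit false
universe u
open CAlg

namespace Groth.Agent.S6293

open scoped TensorProduct

/-- Let R be a ring and L, M, N R-modules. If M is finite projective, then the natural map from Hom_R(M,
N) ⊗_R L to Hom_R(M, N ⊗_R L) is bijective. -/
theorem result (R : Type u) [CommRing R] (L M N : Type u) [AddCommGroup L] [Module R L] [AddCommGroup M] [Module R M] [AddCommGroup N] [Module R N] [Module.Finite R M] [Module.Projective R M] : Function.Bijective (TensorProduct.rTensorHomToHomRTensor (RingHom.id R) M N L) := by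
  obtain ⟨n, q, hq⟩ := Module.Finite.exists_fin' R M
  obtain ⟨i, hi⟩ := Module.projective_lifting_property q LinearMap.id hq
  let T := TensorProduct.rTensorHomToHomRTensor (RingHom.id R) M N L
  let TF := TensorProduct.rTensorHomToHomRTensor (RingHom.id R) (Fin n → R) N L
  have hTF : Function.Bijective TF := by
    have e : TF = (rTensorHomEquivHomRTensor R (Fin n → R) N L).toLinearMap :=
      (rTensorHomEquivHomRTensor_toLinearMap R (Fin n → R) N L).symm
    rw [e]
    exact (rTensorHomEquivHomRTensor R (Fin n → R) N L).bijective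
  let Pq : (M →ₗ[R] N) ⊗[R] L →ₗ[R] ((Fin n → R) →ₗ[R] N) ⊗[R] L := (LinearMap.lcomp R N q).rTensor L
  let Pi : ((Fin n → R) →ₗ[R] N) ⊗[R] L →ₗ[R] (M →ₗ[R] N) ⊗[R] L := (LinearMap.lcomp R N i).rTensor L
  have hPq : ∀ z, TF (Pq z) = (T z).comp q := fun z => by
    induction z using TensorProduct.induction_on with
    | zero => simp
    | add a b ha hb => rw [map_add, map_add, ha, hb, map_add, LinearMap.add_comp]
    | tmul f l => ext x; simp [T, TF, Pq]
  have hPi : ∀ z, T (Pi z) = (TF z).comp i := fun z => by
    induction z using TensorProduct.induction_on with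
    | zero => simp
    | add a b ha hb => rw [map_add, map_add, ha, hb, map_add, LinearMap.add_comp]
    | tmul f l => ext x; simp [T, TF, Pi]
  have hid : ∀ z, Pi (Pq z) = z := fun z => by
    rw [← LinearMap.comp_apply, ← LinearMap.rTensor_comp]
    have : (LinearMap.lcomp R N i).comp (LinearMap.lcomp R N q) = LinearMap.id := by
      ext f x
      have := LinearMap.congr_fun hi x
      simp only [LinearMap.comp_apply, LinearMap.id_apply] at this
      simp [this]
    rw [this, LinearMap.rTensor_id, LinearMap.id_apply]
  refine ⟨fun a b hab => ?_, fun g => ?_⟩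
  · rw [← hid a, ← hid b]
    refine congrArg Pi (hTF.1 ?_)
    rw [hPq, hPq]
    exact congrArg (LinearMap.comp · q) hab
  · obtain ⟨ψ, hψ⟩ := hTF.2 (g.comp q)
    refine ⟨Pi ψ, ?_⟩
    change T (Pi ψ) = g
    rw [hPi, hψ, LinearMap.comp_assoc, hi, LinearMap.comp_id]

end Groth.Agent.S6293
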