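import Groth.Statements.S6297
import Mathlib.LinearAlgebra.Matrix.Determinant.Basic
import Mathlib.LinearAlgebra.Matrix.Adjugate


-- import your own Groth.Agent.* helpers here

set_option autoImplicit false
universe u
open CAlg

namespace Groth.Agent.S6297

/-- Let R be a ring, m ≤ n, A an n × m matrix over R and J the ideal generated by the m × m minors of A.
(1) For every f ∈ J there is an m × n matrix B with BA = f · 1. (2) If BA = f · 1 for some m × n
matrix B, then f^m ∈ J. -/
theorem result {R : Type u} [CommRing R] {n m : ℕ} (hmn : m ≤ n) (A : Matrix (Fin n) (Fin m) R) : (∀ f ∈ CAlgX.minorIdeal A m, ∃ B : Matrix (Fin m) (Fin n) R, B * A = f • (1 : Matrix (Fin m) (Fin m) R)) ∧ (∀ (f : R) (B : Matrix (Fin m) (Fin n) R), B * A = f • (1 : Matrix (Fin m) (Fin m) R) → f ^ m ∈ CAlgX.minorIdeal A m) := by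
  classical
  refine ⟨fun f hf => ?_, fun f B hB => ?_⟩
  · induction hf using Submodule.span_induction with
    | mem x hx =>
      obtain ⟨⟨r, c⟩, rfl⟩ := hx
      dsimp only
      by_cases hc : Function.Bijective c
      · have h1 : (A.submatrix r c).det = (Equiv.Perm.sign (Equiv.ofBijective c hc) : R) * (A.submatrix r id).det := by
          rw [← Matrix.det_permute' (Equiv.ofBijective c hc) (A.submatrix r id)]; rfl
        refine ⟨(Equiv.Perm.sign (Equiv.ofBijective c hc) : R) • ((A.submatrix r id).adjugate * (1 : Matrix (Fin n) (Fin n) R).submatrix r id), ?_⟩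
        rw [Matrix.smul_mul, Matrix.mul_assoc, show (1 : Matrix (Fin n) (Fin n) R).submatrix r id * A = A.submatrix r id by
          ext i j; simp [Matrix.mul_apply, Matrix.one_apply], Matrix.adjugate_mul, smul_smul, h1]
      · obtain ⟨i, j, hij, hne⟩ : ∃ i j, c i = c j ∧ i ≠ j := by
          by_contra hcon
          push Not at hcon
          exact hc (Finite.injective_iff_bijective.1 fun i j h => hcon i j h)
        exact ⟨0, by rw [Matrix.det_zero_of_column_eq hne (fun k => by simp [hij]), Matrix.zero_mul, zero_smul]⟩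
    | zero => exact ⟨0, by simp⟩
    | add x y _ _ hx hy =>
      obtain ⟨Bx, hx⟩ := hx; obtain ⟨By, hy⟩ := hy
      exact ⟨Bx + By, by rw [Matrix.add_mul, hx, hy, add_smul]⟩
    | smul c x _ hx =>
      obtain ⟨Bx, hx⟩ := hx
      exact ⟨c • Bx, by rw [Matrix.smul_mul, hx, smul_smul, smul_eq_mul]⟩
  · have h1 : (B * A).det = f ^ m := by rw [hB, Matrix.det_smul, Matrix.det_one, mul_one, Fintype.card_fin]
    have h2 : (B * A).det = ∑ r : Fin m → Fin n, (∏ i, B i (r i)) * (A.submatrix r id).det := by
      have : (B * A) = fun i => ∑ k, B i k • A k := by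
        funext i j; simp [Matrix.mul_apply, Finset.sum_apply]
      show Matrix.detRowAlternating (B * A) = _
      rw [this]
      refine ((Matrix.detRowAlternating : (Fin m → R) [⋀^Fin m]→ₗ[R] R).toMultilinearMap.map_sum fun i k => B i k • A k).trans ?_
      refine Finset.sum_congr rfl fun r _ => ?_
      exact (Matrix.detRowAlternating : (Fin m → R) [⋀^Fin m]→ₗ[R] R).toMultilinearMap.map_smul_univ (fun i => B i (r i)) fun i => A (r i)
    rw [← h1, h2]
    exact sum_mem fun r _ => Ideal.mul_mem_left _ _ (Ideal.subset_span ⟨(r, id), rfl⟩)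

end Groth.Agent.S6297
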