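import Groth.Statements.S6298
import Mathlib.RingTheory.Ideal.Operations
import Mathlib.Data.Set.Finite.Range
import Mathlib.Order.Preorder.Finite


set_option autoImplicit false
universe u
open CAlg

namespace Groth.Agent.S6298

/-- Let R be a ring, x ∈ R, I ⊆ R an ideal and p₁, …, p_r prime ideals such that for each i the coset x
+ I is not contained in p_i. Then there is y ∈ I with x + y ∉ p_i for all i. -/
theorem result {R : Type u} [CommRing R] (x : R) (I : Ideal R) {r : ℕ} (p : Fin r → Ideal R) [∀ i, (p i).IsPrime] (h : ∀ i, ∃ y ∈ I, x + y ∉ p i) : ∃ y ∈ I, ∀ i, x + y ∉ p i := by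
  classical
  let S : Finset (Fin r) := Finset.univ.filter fun i => ∀ j, p i ≤ p j → p j ≤ p i
  have hS : ∀ j, ∃ i ∈ S, p j ≤ p i := fun j => by
    obtain ⟨P, hjP, hPmax⟩ := (Set.finite_range p).exists_le_maximal (Set.mem_range_self j)
    obtain ⟨i, rfl⟩ := hPmax.1
    exact ⟨i, Finset.mem_filter.2 ⟨Finset.mem_univ i,
      fun k hk => hPmax.2 (Set.mem_range_self k) hk⟩, hjP⟩
  let A := S.filter fun i => x ∈ p i
  let B := S.filter fun i => x ∉ p i
  let J : Ideal R := I * ∏ j ∈ B, p j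
  have hJ : ¬ (J : Set R) ⊆ ⋃ i ∈ A, (p i : Set R) := by
    intro hsub
    rcases A.eq_empty_or_nonempty with hA | hA
    · simp [hA, Set.subset_empty_iff] at hsub
      exact Set.Nonempty.ne_empty ⟨0, J.zero_mem⟩ hsub
    obtain ⟨i₀, hi₀⟩ := hA
    obtain ⟨i, hi, hle⟩ := (Ideal.subset_union_prime i₀ i₀ (fun i _ _ _ => inferInstance)).1 hsub
    obtain ⟨hiS, hxi⟩ := Finset.mem_filter.1 hi
    rcases (Ideal.IsPrime.mul_le (inferInstance : (p i).IsPrime)).1 hle with hI | hP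
    · obtain ⟨y, hy, hxy⟩ := h i
      exact hxy ((p i).add_mem hxi (hI hy))
    · obtain ⟨j, hj, hji⟩ := (Ideal.IsPrime.prod_le (inferInstance : (p i).IsPrime)).1 hP
      obtain ⟨hjS, hxj⟩ := Finset.mem_filter.1 hj
      have hij : p i ≤ p j := (Finset.mem_filter.1 hjS).2 i hji
      exact hxj (hij hxi)
  obtain ⟨y, hy, hyA⟩ := Set.not_subset.1 hJ
  refine ⟨y, Ideal.mul_le_left (I := I) (J := ∏ j ∈ B, p j) hy, fun k hk => ?_⟩
  obtain ⟨i, hi, hki⟩ := hS k
  by_cases hxi : x ∈ p i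
  · refine hyA (Set.mem_iUnion₂.2 ⟨i, Finset.mem_filter.2 ⟨hi, hxi⟩, ?_⟩)
    have := (p i).sub_mem (hki hk) hxi
    rwa [add_sub_cancel_left] at this
  · have hiB : i ∈ B := Finset.mem_filter.2 ⟨hi, hxi⟩
    have hle : (∏ j ∈ B, p j) ≤ p i := Ideal.prod_le_inf.trans (Finset.inf_le hiB)
    have hyi : y ∈ p i := hle (Ideal.mul_le_right (I := I) (J := ∏ j ∈ B, p j) hy)
    have := (p i).sub_mem (hki hk) hyi
    rw [add_sub_cancel_right] at this
    exact hxi this

end Groth.Agent.S6298
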