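import Groth.Statements.S6301
import Mathlib.Algebra.Module.Projective
import Mathlib.RingTheory.Flat.EquationalCriterion


-- import your own Groth.Agent.* helpers here

set_option autoImplicit false
universe u
open CAlg

namespace Groth.Agent.S6301

/-- An R-module M is flat exactly when, for every finitely presented R-module P and every surjective
R-module map N → M, the induced map Hom_R(P, N) → Hom_R(P, M) is surjective (modules P, N taken in
the same universe). -/
theorem result {R : Type u} [CommRing R] (M : Type u) [AddCommGroup M] [Module R M] : Module.Flat R M ↔ ∀ (P : Type u) [AddCommGroup P] [Module R P], Module.FinitePresentation R P → ∀ (N : Type u) [AddCommGroup N] [Module R N] (g : N →ₗ[R] M), Function.Surjective g → ∀ h : P →ₗ[R] M, ∃ h' : P →ₗ[R] N, g.comp h' = h := by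
  classical
  constructor
  · intro _ P _ _ _ N _ _ g hg h
    obtain ⟨k, h₂, h₃, e⟩ := Module.Flat.exists_factorization_of_finitePresentation h
    obtain ⟨l, hl⟩ := Module.projective_lifting_property g h₃ hg
    exact ⟨l ∘ₗ h₂, by rw [← LinearMap.comp_assoc, hl, e]⟩
  · intro hlift
    refine Module.Flat.of_forall_exists_factorization fun {l f x} hx => ?_
    let K := Submodule.span R ({f} : Set (Fin l →₀ R))
    have hK : K ≤ LinearMap.ker x := by rw [Submodule.span_le, Set.singleton_subset_iff]; exact hx
    have : Module.FinitePresentation R ((Fin l →₀ R) ⧸ K) :=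
      Module.finitePresentation_of_surjective K.mkQ K.mkQ_surjective (by rw [Submodule.ker_mkQ]; exact Submodule.fg_span_singleton f)
    obtain ⟨h', hh'⟩ := hlift _ this (M →₀ R) (Finsupp.linearCombination R id)
      (Finsupp.linearCombination_surjective R Function.surjective_id) (K.liftQ x hK)
    let t : Finset M := Finset.univ.biUnion fun i : Fin l => (h' (K.mkQ (Finsupp.single i 1))).support
    let e : (t →₀ R) ≃ₗ[R] (Fin t.card →₀ R) := Finsupp.domLCongr t.equivFin
    let res : (M →₀ R) →ₗ[R] (t →₀ R) := Finsupp.lcomapDomain (fun a : t => (a : M)) Subtype.val_injective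
    refine ⟨t.card, e.toLinearMap ∘ₗ res ∘ₗ h' ∘ₗ K.mkQ, (Finsupp.linearCombination R fun a : t => (a : M)) ∘ₗ e.symm.toLinearMap, ?_, ?_⟩
    · refine Finsupp.lhom_ext fun i r => ?_
      rw [show Finsupp.single i r = r • Finsupp.single i 1 by simp, map_smul, map_smul]
      congr 1
      have h1 : x (Finsupp.single i 1) = Finsupp.linearCombination R id (h' (K.mkQ (Finsupp.single i 1))) :=
        (LinearMap.congr_fun hh' (K.mkQ (Finsupp.single i 1))).symm
      simp only [LinearMap.comp_apply, LinearEquiv.coe_coe, LinearEquiv.symm_apply_apply, h1]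
      have hsub : (h' (K.mkQ (Finsupp.single i 1))).support ⊆ t :=
        Finset.subset_biUnion_of_mem (fun i : Fin l => (h' (K.mkQ (Finsupp.single i 1))).support) (Finset.mem_univ i)
      rw [Finsupp.linearCombination_apply, Finsupp.linearCombination_apply, Finsupp.sum_of_support_subset _ hsub _ (by simp),
        Finsupp.sum_fintype _ _ (by simp), ← Finset.sum_coe_sort t]
      rfl
    · have : K.mkQ f = 0 := (Submodule.Quotient.mk_eq_zero _).2 (Submodule.mem_span_singleton_self f)
      simp only [LinearMap.comp_apply, this, map_zero]

end Groth.Agent.S6301
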