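import Groth.Statements.S6302
import Groth.Agent.ProjLib.ML

set_option autoImplicit false
universe u
open CAlg

namespace Groth.Agent.S6302

/-- Let 0 → M₁ → M₂ → M₃ → 0 be a short exact sequence of R-modules with M₃ of finite presentation. If
the sequence is universally exact (its first map is universally injective) then it is split: M₂ → M₃
admits a section. (The converse, split implies universally exact, is elementary and not stated.) -/
theorem result {R : Type u} [CommRing R] {M₁ M₂ M₃ : Type u} [AddCommGroup M₁] [Module R M₁] [AddCommGroup M₂] [Module R M₂] [AddCommGroup M₃] [Module R M₃] [Module.FinitePresentation R M₃] (f : M₁ →ₗ[R] M₂) (g : M₂ →ₗ[R] M₃) (hexact : Function.Exact f g) (hg : Function.Surjective g) (hf : CAlgX.UniversallyInjective R f) : ∃ s : M₃ →ₗ[R] M₂, g.comp s = LinearMap.id := by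
  have hrange : LinearMap.range f = LinearMap.ker g := (LinearMap.exact_iff.1 hexact).symm
  let e : (M₂ ⧸ LinearMap.range f) ≃ₗ[R] M₃ :=
    (Submodule.quotEquivOfEq _ _ hrange).trans (g.quotKerEquivOfSurjective hg)
  have : Module.FinitePresentation R (M₂ ⧸ LinearMap.range f) :=
    Module.FinitePresentation.of_equiv e.symm
  obtain ⟨k, hk⟩ := ProjLib.Dom.exists_factor (f := f) (g := (LinearMap.id : M₁ →ₗ[R] M₁))
    (fun Q _ _ x hx => by rw [hf Q (hx.trans (map_zero _).symm), map_zero])
  have hle : LinearMap.ker g ≤ LinearMap.ker (LinearMap.id - f ∘ₗ k) := by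
    rw [← hrange]
    rintro _ ⟨x, rfl⟩
    have : k (f x) = x := (LinearMap.congr_fun hk x).symm
    simp [this]
  refine ⟨(LinearMap.ker g).liftQ _ hle ∘ₗ (g.quotKerEquivOfSurjective hg).symm.toLinearMap,
    LinearMap.ext fun z => ?_⟩
  obtain ⟨y, rfl⟩ := hg z
  have h1 : (g.quotKerEquivOfSurjective hg).symm (g y) = Submodule.Quotient.mk y := by
    rw [LinearEquiv.symm_apply_eq]; rfl
  simp [h1, hexact.apply_apply_eq_zero]

end Groth.Agent.S6302
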