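import Groth.Statements.S6303
import Mathlib.LinearAlgebra.TensorProduct.Quotient
import Mathlib.RingTheory.Flat.Basic
import Mathlib.LinearAlgebra.TensorProduct.Prod

set_option autoImplicit false
universe u
open CAlg

namespace Groth.Agent.S6303

/-- Let R be a ring, I, J ⊆ R ideals and M a flat R-module. Then IM ∩ JM = (I ∩ J)M. -/
theorem result {R : Type u} [CommRing R] (I J : Ideal R) (M : Type u) [AddCommGroup M] [Module R M] [Module.Flat R M] : (I • (⊤ : Submodule R M)) ⊓ (J • ⊤) = (I ⊓ J) • (⊤ : Submodule R M) := by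
  refine le_antisymm (fun x hx => ?_) (le_inf (Submodule.smul_mono_left inf_le_left)
    (Submodule.smul_mono_left inf_le_right))
  have key : ∀ K : Ideal R, x ∈ K • (⊤ : Submodule R M) ↔ (1 : R ⧸ K) ⊗ₜ[R] x = 0 := fun K => by
    rw [← (TensorProduct.quotTensorEquivQuotSMul M K).map_eq_zero_iff,
      ← map_one (Ideal.Quotient.mk K), TensorProduct.quotTensorEquivQuotSMul_mk_tmul, one_smul,
      Submodule.Quotient.mk_eq_zero]
  let φ : (R ⧸ (I ⊓ J)) →ₗ[R] (R ⧸ I) × (R ⧸ J) :=
    Submodule.liftQ (I ⊓ J : Submodule R R)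
      ((Submodule.mkQ (I : Submodule R R)).prod (Submodule.mkQ (J : Submodule R R))) (fun a ha => by
        rw [LinearMap.mem_ker]
        refine Prod.ext ?_ ?_
        · exact (Submodule.Quotient.mk_eq_zero (I : Submodule R R)).2 ha.1
        · exact (Submodule.Quotient.mk_eq_zero (J : Submodule R R)).2 ha.2)
  have hφ : Function.Injective φ := by
    rw [injective_iff_map_eq_zero]
    intro z hz
    obtain ⟨a, rfl⟩ := Submodule.mkQ_surjective _ z
    have hz' : (Submodule.Quotient.mk a : R ⧸ I) = 0 ∧ (Submodule.Quotient.mk a : R ⧸ J) = 0 :=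
      Prod.mk.inj hz
    exact (Submodule.Quotient.mk_eq_zero _).2
      ⟨(Submodule.Quotient.mk_eq_zero _).1 hz'.1, (Submodule.Quotient.mk_eq_zero _).1 hz'.2⟩
  have hinj := Module.Flat.rTensor_preserves_injective_linearMap (M := M) φ hφ
  rw [key]
  apply hinj
  rw [map_zero]
  apply (TensorProduct.prodLeft R R (R ⧸ I) (R ⧸ J) M).injective
  rw [map_zero]
  exact Prod.ext ((key I).1 hx.1) ((key J).1 hx.2)

end Groth.Agent.S6303
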