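import Groth.Statements.S6305
import Mathlib.RingTheory.LocalRing.Module
import Mathlib.RingTheory.Flat.Equalizer


-- import your own Groth.Agent.* helpers here

set_option autoImplicit false
universe u
open CAlg

namespace Groth.Agent.S6305

/-- An R-module M is flat exactly when every short exact sequence 0 → M₁ → M₂ → M → 0 of R-modules is
universally exact, i.e. its first map M₁ → M₂ is universally injective. -/
theorem result {R : Type u} [CommRing R] (M : Type u) [AddCommGroup M] [Module R M] : Module.Flat R M ↔ ∀ (M₁ M₂ : Type u) [AddCommGroup M₁] [Module R M₁] [AddCommGroup M₂] [Module R M₂] (f : M₁ →ₗ[R] M₂) (g : M₂ →ₗ[R] M), Function.Injective f → Function.Exact f g → Function.Surjective g → CAlgX.UniversallyInjective R f := by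
  constructor
  · intro _ M₁ M₂ _ _ _ _ f g hf he hg Q _ _
    exact (LinearMap.lTensor_inj_iff_rTensor_inj Q f).1 (LinearMap.lTensor_injective_of_exact_of_flat g hg f hf he Q)
  · intro h
    rw [Module.Flat.iff_lTensor_injective']
    intro I
    let π : (M →₀ R) →ₗ[R] M := Finsupp.linearCombination R id
    have hπ : Function.Surjective π := Finsupp.linearCombination_surjective R Function.surjective_id
    have aux : ∀ (M₁ M₂ : Type u) [AddCommGroup M₁] [Module R M₁] [AddCommGroup M₂] [Module R M₂] [Module.Flat R M₂]
        (f : M₁ →ₗ[R] M₂) (g : M₂ →ₗ[R] M), Function.Injective f → Function.Exact f g → Function.Surjective g →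
        Function.Injective (I.subtype.lTensor M) := fun M₁ M₂ _ _ _ _ _ f g hf he hg =>
      lTensor_injective_of_exact_of_exact_of_rTensor_injective he hg (LinearMap.exact_subtype_mkQ I) I.mkQ_surjective
        (h M₁ M₂ f g hf he hg (R ⧸ I)) (Module.Flat.lTensor_preserves_injective_linearMap _ Subtype.val_injective)
    exact aux (LinearMap.ker π) (M →₀ R) (LinearMap.ker π).subtype π Subtype.val_injective (LinearMap.exact_subtype_ker_map π) hπ

end Groth.Agent.S6305
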