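import Groth.Statements.S6306
import Mathlib.RingTheory.Ideal.MinimalPrime.Localization

set_option autoImplicit false
universe u
open CAlg

namespace Groth.Agent.S6306

/-- Let R be a nonzero ring such that every nonzero prime ideal of R contains a non-zerodivisor. Then R
is a domain. -/
theorem result (R : Type u) [CommRing R] [Nontrivial R] (h : ∀ p : Ideal R, p.IsPrime → p ≠ ⊥ → ∃ x ∈ p, x ∈ nonZeroDivisors R) : IsDomain R := by
  obtain ⟨p, hp⟩ := (⊥ : Ideal R).nonempty_minimalPrimes bot_ne_top
  have hbot : p = ⊥ := by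
    by_contra hne
    obtain ⟨x, hx, hx'⟩ := h p hp.isPrime hne
    exact Set.disjoint_left.1 (Ideal.disjoint_nonZeroDivisors_of_mem_minimalPrimes hp) hx hx'
  have hp' : (⊥ : Ideal R).IsPrime := hbot ▸ hp.isPrime
  exact IsDomain.of_bot_isPrime R

end Groth.Agent.S6306
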