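import Groth.Statements.S6307


set_option autoImplicit false
universe u
open CAlg

namespace Groth.Agent.S6307

/-- Let R be a ring, J ⊆ R a principal ideal and I ⊆ J an ideal. Then I = J · (I : J). -/
theorem result {R : Type u} [CommRing R] (I J : Ideal R) (hJ : J.IsPrincipal) (hIJ : I ≤ J) : I = J * I.colon J := by
  obtain ⟨a, ha⟩ := hJ.principal
  have ha : J = Ideal.span {a} := ha
  refine le_antisymm (fun x hx => ?_) ?_
  · obtain ⟨r, rfl⟩ := Ideal.mem_span_singleton'.1 (ha ▸ hIJ hx)
    rw [mul_comm r a]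
    refine Ideal.mul_mem_mul (ha ▸ Ideal.mem_span_singleton_self a) (Submodule.mem_colon.2 fun s hs => ?_)
    obtain ⟨t, rfl⟩ := Ideal.mem_span_singleton'.1 (ha ▸ hs)
    rw [smul_eq_mul, mul_left_comm]
    exact Ideal.mul_mem_left _ t hx
  · rw [Ideal.mul_le]
    intro j hj r hr
    rw [mul_comm]
    exact Submodule.mem_colon.1 hr j hj

end Groth.Agent.S6307
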