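import Groth.Statements.S6308
import Mathlib


-- import your own Groth.Agent.* helpers here

set_option autoImplicit false
universe u
open scoped TensorProduct
open CAlg

namespace Groth.Agent.S6308

/-- Let R be a ring and φ : M → N a map of R-modules with N finite. For a prime p, the localization φ_p
: M_p → N_p is surjective if and only if φ ⊗ κ(p) : M ⊗ κ(p) → N ⊗ κ(p) is surjective; the set U of
such primes is open in Spec(R); and for every f ∈ R with D(f) ⊆ U the map M_f → N_f is surjective. -/
theorem result {R : Type u} [CommRing R] {M N : Type u} [AddCommGroup M] [Module R M] [AddCommGroup N] [Module R N] [Module.Finite R N] (φ : M →ₗ[R] N) : (∀ p : PrimeSpectrum R, Function.Surjective (LocalizedModule.map p.asIdeal.primeCompl φ) ↔ Function.Surjective (φ.lTensor p.asIdeal.ResidueField)) ∧ IsOpen {p : PrimeSpectrum R | Function.Surjective (LocalizedModule.map p.asIdeal.primeCompl φ)} ∧ (∀ f : R, (↑(PrimeSpectrum.basicOpen f) : Set (PrimeSpectrum R)) ⊆ {p : PrimeSpectrum R | Function.Surjective (LocalizedModule.map p.asIdeal.primeCompl φ)} → Function.Surjective (LocalizedModule.map (Submonoid.powers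 f) φ)) := by
  have hex : Function.Exact φ (LinearMap.range φ).mkQ := LinearMap.exact_map_mkQ_range φ
  have hsurj := Submodule.mkQ_surjective (LinearMap.range φ)
  have key : ∀ (S : Submonoid R), Function.Surjective (LocalizedModule.map S φ) ↔
      Subsingleton (LocalizedModule S (N ⧸ LinearMap.range φ)) := by
    intro S
    have h1 := LocalizedModule.map_exact S φ _ hex
    have h2 := LocalizedModule.map_surjective S _ hsurj
    constructor
    · intro h
      refine subsingleton_of_forall_eq 0 fun y => ?_
      obtain ⟨x, rfl⟩ := h2 y
      exact (h1 x).mpr (h x)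
    · intro h x
      exact (h1 x).mp (Subsingleton.elim _ _)
  have key2 : ∀ p : PrimeSpectrum R, Function.Surjective (φ.lTensor p.asIdeal.ResidueField) ↔
      Subsingleton (TensorProduct R p.asIdeal.ResidueField (N ⧸ LinearMap.range φ)) := by
    intro p
    have h1 := lTensor_exact p.asIdeal.ResidueField hex hsurj
    have h2 := LinearMap.lTensor_surjective p.asIdeal.ResidueField hsurj
    constructor
    · intro h
      refine subsingleton_of_forall_eq 0 fun y => ?_
      obtain ⟨x, rfl⟩ := h2 y
      exact (h1 x).mpr (h x)
    · intro h x
      exact (h1 x).mp (Subsingleton.elim _ _)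
  have hset : {p : PrimeSpectrum R | Function.Surjective (LocalizedModule.map p.asIdeal.primeCompl φ)} =
      (Module.support R (N ⧸ LinearMap.range φ))ᶜ := by
    ext p
    rw [Set.mem_setOf_eq, key, Set.mem_compl_iff, Module.mem_support_iff, not_nontrivial_iff_subsingleton]
  refine ⟨fun p => ?_, ?_, fun f hf => ?_⟩
  · rw [key, key2, ← not_nontrivial_iff_subsingleton, ← not_nontrivial_iff_subsingleton,
      ← Module.mem_support_iff, ← Module.mem_support_iff_nontrivial_residueField_tensorProduct]
  · rw [hset]
    exact Module.isClosed_support.isOpen_compl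
  · rw [hset] at hf
    rw [key]
    exact LocalizedModule.subsingleton_iff_disjoint.mpr (Set.subset_compl_iff_disjoint_right.mp hf)

end Groth.Agent.S6308
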