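import Groth.Statements.S6309
import Groth.Agent.SplitLocLib
import Mathlib.RingTheory.LocalProperties.Projective
import Mathlib.RingTheory.Spectrum.Prime.Topology
import Mathlib.RingTheory.Localization.Away.Basic
import Mathlib.RingTheory.Localization.Finiteness
-- import your own Groth.Agent.* helpers here

set_option autoImplicit false
universe u
open scoped TensorProduct
open CAlg

namespace Groth.Agent.S6309

/-- Let R be a ring and φ : P₁ → P₂ a map of finite projective R-modules. The set U of primes p of R
such that φ ⊗ κ(p) is injective is open, and for every f ∈ R with D(f) ⊆ U the map (P₁)_f → (P₂)_f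
is injective and Coker(φ)_f is a finite projective module over R_f. -/
theorem result {R : Type u} [CommRing R] {P₁ P₂ : Type u} [AddCommGroup P₁] [Module R P₁] [AddCommGroup P₂] [Module R P₂] [Module.Finite R P₁] [Module.Projective R P₁] [Module.Finite R P₂] [Module.Projective R P₂] (φ : P₁ →ₗ[R] P₂) : IsOpen {p : PrimeSpectrum R | Function.Injective (φ.lTensor p.asIdeal.ResidueField)} ∧ ∀ f : R, (↑(PrimeSpectrum.basicOpen f) : Set (PrimeSpectrum R)) ⊆ {p : PrimeSpectrum R | Function.Injective (φ.lTensor p.asIdeal.ResidueField)} → Function.Injective (LocalizedModule.map (Submonoid.powers f) φ) ∧ Module.Finite (Localization.Away f) (LocalizedModule (Submonoid.powers f) (P₂ ⧸ LinearMap.range φ)) ∧ Module.Projective (Localization.Away f) (LocalizedModule (Submonoid.powers f) (P₂ ⧸ LinearMap.range φ)) := by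
  classical
  let J : Ideal R :=
    { carrier := {a | ∃ w : P₂ →ₗ[R] P₁, ∀ m, w (φ m) = a • m}
      zero_mem' := ⟨0, fun m => by simp⟩
      add_mem' := by
        rintro a b ⟨w, hw⟩ ⟨w', hw'⟩
        exact ⟨w + w', fun m => by simp [hw, hw', add_smul]⟩
      smul_mem' := by
        rintro c a ⟨w, hw⟩
        exact ⟨c • w, fun m => by simp [hw, smul_smul]⟩ }
  have hU : {p : PrimeSpectrum R | Function.Injective (φ.lTensor p.asIdeal.ResidueField)} = (PrimeSpectrum.zeroLocus (J : Set R))ᶜ := by
    ext p
    simp only [Set.mem_setOf_eq, Set.mem_compl_iff, PrimeSpectrum.mem_zeroLocus, SetLike.coe_subset_coe]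
    constructor
    · intro h
      obtain ⟨a, ha, w, hw⟩ := SplitLocLib.exists_smul_leftInverse p.asIdeal φ h
      exact fun hle => ha (hle ⟨w, hw⟩)
    · intro h
      obtain ⟨a, ⟨w, hw⟩, ha⟩ := SetLike.not_le_iff_exists.1 h
      have he : ∀ x, w.lTensor p.asIdeal.ResidueField (φ.lTensor p.asIdeal.ResidueField x) =
          algebraMap R p.asIdeal.ResidueField a • x := by
        intro x
        rw [← LinearMap.comp_apply, ← LinearMap.lTensor_comp, show w ∘ₗ φ = a • LinearMap.id from LinearMap.ext hw,
          LinearMap.lTensor_smul, LinearMap.smul_apply, LinearMap.lTensor_id, LinearMap.id_apply, algebraMap_smul]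
      intro x y hxy
      have := congrArg (w.lTensor p.asIdeal.ResidueField) hxy
      rw [he, he] at this
      exact smul_right_injective _ (fun h0 => ha (Ideal.algebraMap_residueField_eq_zero.1 h0)) this
  refine ⟨hU ▸ (PrimeSpectrum.isClosed_zeroLocus _).isOpen_compl, fun f hf => ?_⟩
  rw [hU] at hf
  have hrad : f ∈ J.radical := by
    rw [Ideal.radical_eq_sInf, Ideal.mem_sInf]
    rintro q ⟨hq, hqp⟩
    by_contra hfq
    exact hf (show (⟨q, hqp⟩ : PrimeSpectrum R) ∈ PrimeSpectrum.basicOpen f from hfq) hq
  obtain ⟨n, w, hw⟩ := hrad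
  let S := Submonoid.powers f
  have hfn : IsUnit (algebraMap R (Localization S) (f ^ n)) := IsLocalization.map_units _ (⟨f ^ n, n, rfl⟩ : S)
  let g : P₂ →ₗ[R] P₂ := f ^ n • LinearMap.id - φ ∘ₗ w
  let s₀ : (P₂ ⧸ LinearMap.range φ) →ₗ[R] P₂ := (LinearMap.range φ).liftQ g (by
    rintro _ ⟨m, rfl⟩
    simp [g, hw, map_smul])
  have hs₀ : ∀ x, (LinearMap.range φ).mkQ (s₀ x) = f ^ n • x := by
    intro x
    obtain ⟨x, rfl⟩ := Submodule.mkQ_surjective _ x
    show (LinearMap.range φ).mkQ (g x) = _
    simp [g, map_sub]
  refine ⟨fun x y hxy => ?_, ?_, ?_⟩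
  · have he : ∀ z, LocalizedModule.map S w (LocalizedModule.map S φ z) = algebraMap R (Localization S) (f ^ n) • z := by
      intro z
      induction z using LocalizedModule.induction_on with
      | h a s => rw [LocalizedModule.map_mk, LocalizedModule.map_mk, hw, algebraMap_smul, LocalizedModule.smul'_mk]
    exact hfn.smul_left_cancel.1 (by rw [← he, ← he, hxy])
  · exact Module.Finite.of_isLocalizedModule S (LocalizedModule.mkLinearMap S _)
  · refine Module.Projective.of_split ((↑hfn.unit⁻¹ : Localization S) • LocalizedModule.map S s₀) (LocalizedModule.map S (LinearMap.range φ).mkQ) ?_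
    refine LinearMap.ext fun z => ?_
    rw [LinearMap.comp_apply, LinearMap.smul_apply, map_smul, LinearMap.id_apply]
    induction z using LocalizedModule.induction_on with
    | h a s =>
      rw [LocalizedModule.map_mk, LocalizedModule.map_mk, hs₀, ← LocalizedModule.smul'_mk, ← algebraMap_smul (Localization S) (f ^ n), smul_smul]
      rw [IsUnit.val_inv_mul, one_smul]

end Groth.Agent.S6309
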