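import Groth.Statements.S6310
import Mathlib.RingTheory.Polynomial.Tower
import Mathlib.Algebra.Module.LocalizedModule.Submodule
import Mathlib.RingTheory.Finiteness.Basic
import Mathlib.LinearAlgebra.Matrix.Charpoly.LinearMap


-- import your own Groth.Agent.* helpers here

set_option autoImplicit false
universe u
open CAlg

namespace Groth.Agent.S6310

/-- Let R be a ring, S ⊆ R a multiplicative subset, I ⊆ R an ideal and M a finite R-module. If x₁, …,
x_r ∈ M have images generating S⁻¹(M/IM) as an S⁻¹R-module, then there is f ∈ S + I (f = s + i with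
s ∈ S, i ∈ I) such that x₁, …, x_r generate M_f as an R_f-module. -/
theorem result {R : Type u} [CommRing R] (S : Submonoid R) (I : Ideal R) (M : Type u) [AddCommGroup M] [Module R M] [Module.Finite R M] {r : ℕ} (x : Fin r → M) (hx : Submodule.span (Localization S) (Set.range fun j => LocalizedModule.mkLinearMap S (M ⧸ (I • (⊤ : Submodule R M))) (Submodule.Quotient.mk (x j))) = ⊤) : ∃ (s : R) (i : R), s ∈ S ∧ i ∈ I ∧ Submodule.span (Localization.Away (s + i)) (Set.range fun j => LocalizedModule.mkLinearMap (Submonoid.powers (s + i)) M (x j)) = ⊤ := by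
  classical
  let N : Submodule R M := Submodule.span R (Set.range x)
  let Q := M ⧸ N
  let q := N.mkQ
  have hann : ∀ m : M, ∃ s ∈ S, s • m ∈ N ⊔ I • ⊤ := by
    intro m
    let l := LocalizedModule.mkLinearMap S (M ⧸ (I • (⊤ : Submodule R M)))
    let T : Submodule (Localization S) (LocalizedModule S (M ⧸ (I • (⊤ : Submodule R M)))) :=
      Submodule.localized' (Localization S) S l (N.map (Submodule.mkQ _))
    have hle : Submodule.span (Localization S) (Set.range fun j => l (Submodule.Quotient.mk (x j))) ≤ T := by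
      rw [Submodule.span_le]
      rintro _ ⟨j, rfl⟩
      exact ⟨_, ⟨x j, Submodule.subset_span ⟨j, rfl⟩, rfl⟩, 1, by rw [IsLocalizedModule.mk'_one]; rfl⟩
    have hm : l (Submodule.Quotient.mk m) ∈ T := hle (hx ▸ Submodule.mem_top)
    obtain ⟨_, ⟨n, hn, rfl⟩, s, hs⟩ := hm
    rw [IsLocalizedModule.mk'_eq_iff, Submonoid.smul_def, ← map_smul] at hs
    obtain ⟨c, hc⟩ := (IsLocalizedModule.eq_iff_exists S l).1 hs
    refine ⟨(c : R) * s, S.mul_mem c.2 s.2, ?_⟩
    have h1 : ((c : R) • n - ((c : R) * s) • m) ∈ I • (⊤ : Submodule R M) := by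
      rw [← Submodule.Quotient.eq, Submodule.Quotient.mk_smul, Submodule.Quotient.mk_smul, mul_smul]
      exact hc
    rw [show ((c : R) * s) • m = (c : R) • n - ((c : R) • n - ((c : R) * s) • m) by abel]
    exact sub_mem (Submodule.mem_sup_left (N.smul_mem _ hn)) (Submodule.mem_sup_right h1)
  choose s hsS hs using hann
  obtain ⟨G, hG⟩ := (Module.Finite.fg_top : (⊤ : Submodule R M).FG)
  let s0 := ∏ m ∈ G, s m
  have hs0 : ∀ m, s0 • m ∈ N ⊔ I • ⊤ := by
    intro m
    have hm : m ∈ Submodule.span R (G : Set M) := hG ▸ Submodule.mem_top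
    induction hm using Submodule.span_induction with
    | mem a ha =>
      obtain ⟨c, hc⟩ := Finset.dvd_prod_of_mem s ha
      rw [show s0 = c * s a from hc.trans (mul_comm _ _), mul_smul]
      exact Submodule.smul_mem _ _ (hs a)
    | zero => rw [smul_zero]; exact zero_mem _
    | add a b _ _ ha hb => rw [smul_add]; exact add_mem ha hb
    | smul c a _ ha => rw [smul_comm]; exact Submodule.smul_mem _ _ ha
  have hrange : LinearMap.range (LinearMap.lsmul R Q s0) ≤ I • ⊤ := by
    rintro _ ⟨z, rfl⟩
    obtain ⟨m, rfl⟩ := Submodule.mkQ_surjective N z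
    obtain ⟨n, hn, i, hi, hni⟩ := Submodule.mem_sup.1 (hs0 m)
    rw [LinearMap.lsmul_apply, ← map_smul, ← hni, map_add, Submodule.mkQ_apply, (Submodule.Quotient.mk_eq_zero N).2 hn, zero_add]
    have := Submodule.mem_map_of_mem (f := N.mkQ) hi
    rw [Submodule.map_smul''] at this
    exact Submodule.smul_mono le_rfl le_top this
  obtain ⟨p, hp, hdeg, hcoeff, hp0⟩ := LinearMap.exists_monic_and_natDegree_eq_and_coeff_mem_pow_and_aeval_eq_zero R (LinearMap.lsmul R Q s0) I hrange
  let i := p.eval s0 - s0 ^ p.natDegree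
  refine ⟨s0 ^ p.natDegree, i, S.pow_mem (prod_mem fun m _ => hsS m) _, ?_, ?_⟩
  · show p.eval s0 - s0 ^ p.natDegree ∈ I
    rw [Polynomial.eval_eq_sum_range, Finset.sum_range_succ, hp.coeff_natDegree, one_mul, add_sub_cancel_right]
    refine sum_mem fun j hj => Ideal.mul_mem_right _ _ ?_
    exact Ideal.pow_le_self (by have := Finset.mem_range.1 hj; omega) (hcoeff j)
  have hkill : ∀ m : M, p.eval s0 • m ∈ N := by
    intro m
    have h1 : (Polynomial.aeval (LinearMap.lsmul R Q s0) p) = LinearMap.lsmul R Q (p.eval s0) := by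
      rw [show LinearMap.lsmul R Q s0 = algebraMap R (Module.End R Q) s0 from rfl, Polynomial.aeval_algebraMap_apply,
        Polynomial.coe_aeval_eq_eval]
      rfl
    rw [← Submodule.Quotient.mk_eq_zero, Submodule.Quotient.mk_smul]
    exact LinearMap.congr_fun (h1.symm.trans hp0) _
  have hf : s0 ^ p.natDegree + i = p.eval s0 := add_sub_cancel _ _
  rw [hf, eq_top_iff]
  intro z _
  induction z using LocalizedModule.induction_on with
  | h m t =>
    let P := Submonoid.powers (p.eval s0)
    let e : P := ⟨p.eval s0, Submonoid.mem_powers _⟩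
    have hz : LocalizedModule.mk m t = (Localization.mk 1 (e * t)) • LocalizedModule.mkLinearMap P M (p.eval s0 • m) := by
      rw [LocalizedModule.mkLinearMap_apply, LocalizedModule.mk_smul_mk, one_smul, mul_one]
      exact (LocalizedModule.mk_cancel_common_left e t m).symm
    rw [hz]
    refine Submodule.smul_mem _ _ ?_
    have h2 := Submodule.mem_map_of_mem (f := LocalizedModule.mkLinearMap P M) (hkill m)
    rw [Submodule.map_span, ← Set.range_comp] at h2
    exact Submodule.span_subset_span R _ _ h2

end Groth.Agent.S6310
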