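import Groth.Statements.S6311
import Mathlib.RingTheory.Finiteness.Projective
import Mathlib.RingTheory.LocalRing.Module
import Mathlib.Algebra.Homology.ShortComplex.ModuleCat
import Mathlib.LinearAlgebra.Dimension.Constructions
import Mathlib.LinearAlgebra.FreeModule.StrongRankCondition
import Mathlib.LinearAlgebra.FreeModule.Finite.Basic
import Mathlib.Algebra.Module.Projective
-- import your own Groth.Agent.* helpers here

set_option autoImplicit false
universe u
open CategoryTheory
open CAlg

namespace Groth.Agent.S6311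

/-- Let R be a local ring. Then K₀(R), the Grothendieck group of the category of finite projective
R-modules, is isomorphic to ℤ via the rank; precisely, there is an isomorphism K₀(R) ≅ ℤ of abelian
groups sending the class [R] to 1 (such an isomorphism is then unique, K₀(R) being generated by
[R]). -/
theorem result (R : Type u) [CommRing R] [IsLocalRing R] : ∃ e : KZero.K0sub (fun M : ModuleCat.{u} R => Module.Finite R M ∧ Module.Projective R M) ≃+ ℤ, e (KZero.clSub (fun M : ModuleCat.{u} R => Module.Finite R M ∧ Module.Projective R M) (ModuleCat.of R R)) = 1 := by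
  classical
  let P : ObjectProperty (ModuleCat.{u} R) := fun M => Module.Finite R M ∧ Module.Projective R M
  have hfree : ∀ M : ModuleCat.{u} R, P M → Module.Free R M := fun M hM =>
    haveI := hM.1; haveI := hM.2; Module.free_of_flat_of_isLocalRing
  let ψ : FreeAbelianGroup (Subtype P) →+ ℤ := FreeAbelianGroup.lift fun M => (Module.finrank R M.1 : ℤ)
  have hψ : KZero.relSub P ≤ ψ.ker := by
    refine (AddSubgroup.closure_le _).2 ?_
    rintro x ⟨S, h₁, h₂, h₃, hS, rfl⟩
    haveI := h₃.2
    haveI := h₁.1; haveI := h₃.1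
    haveI := hfree _ h₁; haveI := hfree _ h₃
    have hex := (ShortComplex.ShortExact.moduleCat_exact_iff_function_exact S).1 hS.exact
    obtain ⟨σ, hσ⟩ := Module.projective_lifting_property S.g.hom LinearMap.id ((ModuleCat.epi_iff_surjective _).1 hS.epi_g)
    obtain ⟨e, -⟩ := hex.splitSurjectiveEquiv ((ModuleCat.mono_iff_injective _).1 hS.mono_f) ⟨σ, hσ⟩
    show ψ _ = 0
    simp only [ψ, map_sub, FreeAbelianGroup.lift_apply_of]
    rw [e.finrank_eq, Module.finrank_prod]
    push_cast
    ring
  let φ := QuotientAddGroup.lift (KZero.relSub P) ψ hψ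
  have hR : P (ModuleCat.of R R) := ⟨inferInstanceAs (Module.Finite R R), inferInstanceAs (Module.Projective R R)⟩
  let mk : FreeAbelianGroup (Subtype P) →+ KZero.K0sub P := QuotientAddGroup.mk' _
  let c : Subtype P → KZero.K0sub P := fun M => mk (FreeAbelianGroup.of M)
  have hses : ∀ (M₁ M₂ M₃ : Subtype P) (f : M₁.1 ⟶ M₂.1) (g : M₂.1 ⟶ M₃.1) (w : f ≫ g = 0),
      Function.Injective f.hom → Function.Exact f.hom g.hom → Function.Surjective g.hom → c M₂ = c M₁ + c M₃ := by
    intro M₁ M₂ M₃ f g w hf he hg
    have hS : (ShortComplex.mk f g w).ShortExact :=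
      { exact := (ShortComplex.ShortExact.moduleCat_exact_iff_function_exact _).2 he
        mono_f := (ModuleCat.mono_iff_injective _).2 hf
        epi_g := (ModuleCat.epi_iff_surjective _).2 hg }
    have h0 : mk (FreeAbelianGroup.of M₂ - FreeAbelianGroup.of M₁ - FreeAbelianGroup.of M₃) = 0 :=
      (QuotientAddGroup.eq_zero_iff _).2 (AddSubgroup.subset_closure ⟨_, M₁.2, M₂.2, M₃.2, hS, rfl⟩)
    rw [map_sub, map_sub] at h0
    rw [sub_sub, sub_eq_zero] at h0
    exact h0
  have key : ∀ n (M : Subtype P), Module.finrank R M.1 = n → c M = n • c ⟨_, hR⟩ := by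
    intro n
    induction n with
    | zero =>
      intro M hM
      haveI := M.2.1; haveI := hfree _ M.2
      haveI : IsEmpty (Module.Free.ChooseBasisIndex R M.1) :=
        Fintype.card_eq_zero_iff.1 ((Module.finrank_eq_card_chooseBasisIndex R M.1).symm.trans hM)
      haveI : Subsingleton M.1 := (Module.Free.chooseBasis R M.1).repr.toEquiv.subsingleton
      have := hses M M M 0 0 (by simp) (fun a b _ => Subsingleton.elim a b) (fun a => ⟨fun _ => ⟨a, Subsingleton.elim _ _⟩, fun _ => Subsingleton.elim _ _⟩)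
        (fun a => ⟨a, Subsingleton.elim _ _⟩)
      rw [zero_nsmul]
      exact left_eq_add.1 this
    | succ n ih =>
      intro M hM
      haveI := M.2.1; haveI := hfree _ M.2
      let e : M.1 ≃ₗ[R] R × (Fin n → R) := LinearEquiv.ofFinrankEq _ _ (by rw [hM, Module.finrank_prod, Module.finrank_self, Module.finrank_fin_fun, add_comm])
      let M' : Subtype P := ⟨ModuleCat.of R (Fin n → R), inferInstanceAs (Module.Finite R (Fin n → R)), inferInstanceAs (Module.Projective R (Fin n → R))⟩
      have := hses ⟨_, hR⟩ M M' (ModuleCat.ofHom (e.symm.toLinearMap.comp (LinearMap.inl R R (Fin n → R))))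
        (ModuleCat.ofHom ((LinearMap.snd R R (Fin n → R)).comp e.toLinearMap)) (by ext; simp; rfl)
        (e.symm.injective.comp LinearMap.inl_injective)
        (fun a => ⟨fun ha => ⟨(e a).1, e.injective (by
          show e (e.symm ((e a).1, 0)) = e a
          rw [e.apply_symm_apply]; exact Prod.ext rfl (Eq.symm ha))⟩, by rintro ⟨r, rfl⟩; simp⟩)
        (fun b => ⟨e.symm (0, b), by simp⟩)
      rw [this, ih M' (Module.finrank_fin_fun R), succ_nsmul, add_comm]
  refine ⟨AddEquiv.ofBijective φ ⟨(injective_iff_map_eq_zero φ).2 fun x => ?_, fun n => ⟨n • c ⟨_, hR⟩, ?_⟩⟩, ?_⟩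
  · have h : ∀ x, (φ x) • c ⟨_, hR⟩ = x := by
      have : (zmultiplesHom _ (c ⟨_, hR⟩)).comp φ = AddMonoidHom.id _ := QuotientAddGroup.addMonoidHom_ext _ (FreeAbelianGroup.lift_ext _ _ fun M => by
        show ψ (FreeAbelianGroup.of M) • c ⟨_, hR⟩ = c M
        rw [key _ M rfl, FreeAbelianGroup.lift_apply_of, natCast_zsmul])
      exact fun x => DFunLike.congr_fun this x
    intro hx
    rw [← h x, hx, zero_zsmul]
  · rw [map_zsmul]
    show n • ψ (FreeAbelianGroup.of ⟨_, hR⟩) = n
    simp [ψ]
  · show φ _ = 1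
    rw [KZero.clSub, dif_pos hR]
    show ψ (FreeAbelianGroup.of ⟨_, hR⟩) = 1
    simp [ψ]

end Groth.Agent.S6311
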