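import Groth.Statements.S6314
import Mathlib.CategoryTheory.Abelian.LeftDerived
import Mathlib.RingTheory.Flat.Basic
import Mathlib.Algebra.Homology.ShortComplex.ModuleCat
import Mathlib.Algebra.Category.ModuleCat.Projective

set_option autoImplicit false
universe u
open CategoryTheory
open CAlg

namespace Groth.Agent.S6314

/-- Let R be a ring and M a flat R-module. Then Torᵢᴿ(M, N) = 0 for all R-modules N and all i > 0. -/
theorem result (R : Type u) [CommRing R] (M : Type u) [AddCommGroup M] [Module R M] [Module.Flat R M] (N : ModuleCat.{u} R) (i : ℕ) (hi : 0 < i) : Limits.IsZero (((CategoryTheory.Tor (ModuleCat.{u} R) i).obj (ModuleCat.of R M)).obj N) := by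
  obtain ⟨q, rfl⟩ : ∃ q, i = q + 1 := ⟨i - 1, by omega⟩
  let P := CategoryTheory.projectiveResolution N
  let F := (MonoidalCategory.tensoringLeft (ModuleCat.{u} R)).obj (ModuleCat.of R M)
  let K := (F.mapHomologicalComplex (ComplexShape.down ℕ)).obj P.complex
  have h1 : K.ExactAt (q + 1) := by
    have h0 := (P.complex.exactAt_iff' (q + 2) (q + 1) q (by simp [ChainComplex.prev]) (by simp)).1
      (P.complex_exactAt_succ q)
    rw [ShortComplex.ShortExact.moduleCat_exact_iff_function_exact] at h0
    rw [K.exactAt_iff' (q + 2) (q + 1) q (by simp [ChainComplex.prev]) (by simp),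
      ShortComplex.ShortExact.moduleCat_exact_iff_function_exact]
    exact Module.Flat.lTensor_exact M h0
  exact ((K.exactAt_iff_isZero_homology _).1 h1).of_iso (P.isoLeftDerivedObj F (q + 1))

end Groth.Agent.S6314
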