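import Groth.Statements.S6315
import Groth.Agent.TorSESLib.Basic


-- import your own Groth.Agent.* helpers here

set_option autoImplicit false
universe u
open CategoryTheory
open CAlg

namespace Groth.Agent.S6315

/-- Let R be a Noetherian ring and M, N finite R-modules. Then Tor_pᴿ(M, N) is a finite R-module for all
p. -/
theorem result (R : Type u) [CommRing R] [IsNoetherianRing R] (M N : Type u) [AddCommGroup M] [Module R M] [AddCommGroup N] [Module R N] [Module.Finite R M] [Module.Finite R N] (p : ℕ) : Module.Finite R (((CategoryTheory.Tor (ModuleCat.{u} R) p).obj (ModuleCat.of R M)).obj (ModuleCat.of R N)) := by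
  suffices H : ∀ (p : ℕ) (M : ModuleCat.{u} R), Module.Finite R M →
      Module.Finite R (((CategoryTheory.Tor (ModuleCat.{u} R) p).obj M).obj (ModuleCat.of R N)) from
    H p (ModuleCat.of R M) inferInstance
  intro p
  induction p with
  | zero =>
    intro M hM
    have : Limits.PreservesFiniteColimits ((MonoidalCategory.tensoringLeft (ModuleCat.{u} R)).obj M) := by
      change Limits.PreservesFiniteColimits (MonoidalCategory.tensorLeft M)
      infer_instance
    have e := (((MonoidalCategory.tensoringLeft (ModuleCat.{u} R)).obj M).leftDerivedZeroIsoSelf.app (ModuleCat.of R N)).toLinearEquiv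
    have : Module.Finite R (((MonoidalCategory.tensoringLeft (ModuleCat.{u} R)).obj M).obj (ModuleCat.of R N)) :=
      (inferInstance : Module.Finite R (TensorProduct R M N))
    exact Module.Finite.equiv e.symm
  | succ p ih =>
    intro M hM
    obtain ⟨n, π, hπ⟩ := Module.Finite.exists_fin' R M
    have hz : Function.Exact (LinearMap.ker π).subtype π := LinearMap.exact_subtype_ker_map π
    let S : ShortComplex (ModuleCat.{u} R) := ShortComplex.mk (ModuleCat.ofHom (LinearMap.ker π).subtype)
      (ModuleCat.ofHom π) (ModuleCat.hom_ext hz.linearMap_comp_eq_zero)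
    have hS : S.ShortExact :=
      { exact := (ShortComplex.ShortExact.moduleCat_exact_iff_function_exact _).2 hz
        mono_f := (ModuleCat.mono_iff_injective _).2 Subtype.val_injective
        epi_g := (ModuleCat.epi_iff_surjective _).2 hπ }
    have hK := ih (ModuleCat.of R (LinearMap.ker π)) inferInstance
    have hF := TorSESLib.isZero_tor_of_flat (ModuleCat.of R N) (ModuleCat.of R (Fin n → R)) (i := p + 1) (Nat.succ_pos p)
    have hmono := ((TorSESLib.cx_shortExact S (ModuleCat.of R N) hS).homology_exact₃ (p + 1) p (by simp)).mono_g
      ((hF.of_iso (TorSESLib.torIso (ModuleCat.of R N) S.X₂ (p + 1)).symm).eq_of_src _ _)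
    have : Module.Finite R ↑(((TorSESLib.cx S (ModuleCat.of R N)).X₁).homology p) :=
      Module.Finite.equiv (TorSESLib.torIso (ModuleCat.of R N) S.X₁ p).toLinearEquiv
    have hfin : Module.Finite R ↑(((TorSESLib.cx S (ModuleCat.of R N)).X₃).homology (p + 1)) :=
      Module.Finite.of_injective _ ((ModuleCat.mono_iff_injective _).1 hmono)
    exact Module.Finite.of_surjective (hM := hfin) (TorSESLib.torIso (ModuleCat.of R N) M (p + 1)).toLinearEquiv.symm.toLinearMap (LinearEquiv.surjective _)

end Groth.Agent.S6315
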