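import Groth.Statements.S6319
import Mathlib.RingTheory.HopkinsLevitzki
import Mathlib.Algebra.Homology.ShortComplex.ModuleCat
import Mathlib.RingTheory.Artinian.Ring
import Mathlib.RingTheory.FiniteLength
import Mathlib.RingTheory.Length


-- import your own Groth.Agent.* helpers here

set_option autoImplicit false
universe u
open CategoryTheory
open CAlg

namespace Groth.Agent.S6319

/-- Let R be an Artinian local ring. The length function defines a homomorphism of abelian groups
length_R : K'₀(R) → ℤ on the Grothendieck group of finite R-modules, sending the class of a finite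
module M to its (finite) length. -/
theorem result (R : Type u) [CommRing R] [IsArtinianRing R] [IsLocalRing R] : ∃ φ : KZero.K0sub (fun M : ModuleCat.{u} R => Module.Finite R M) →+ ℤ, ∀ (M : ModuleCat.{u} R), Module.Finite R M → (φ (KZero.clSub (fun M : ModuleCat.{u} R => Module.Finite R M) M) : ℤ) = (Module.length R M).toNat := by
  classical
  let P : ObjectProperty (ModuleCat.{u} R) := fun M => Module.Finite R M
  have hfin : ∀ M : ModuleCat.{u} R, P M → Module.length R M ≠ ⊤ := fun M hM => by
    have : Module.Finite R M := hM
    have : IsNoetherianRing R := inferInstance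
    have : IsNoetherian R M := isNoetherian_of_isNoetherianRing_of_finite R M
    exact Module.length_ne_top_iff.2 (isFiniteLength_iff_isNoetherian_isArtinian.2 ⟨inferInstance, inferInstance⟩)
  let ψ : FreeAbelianGroup (Subtype P) →+ ℤ := FreeAbelianGroup.lift fun M => ((Module.length R M.1).toNat : ℤ)
  have hψ : KZero.relSub P ≤ ψ.ker := by
    refine (AddSubgroup.closure_le _).2 ?_
    rintro x ⟨S, h₁, h₂, h₃, hS, rfl⟩
    have hlen := Module.length_eq_add_of_exact S.f.hom S.g.hom ((ModuleCat.mono_iff_injective _).1 hS.mono_f)
      ((ModuleCat.epi_iff_surjective _).1 hS.epi_g) ((ShortComplex.ShortExact.moduleCat_exact_iff_function_exact S).1 hS.exact)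
    show ψ _ = 0
    simp only [ψ, map_sub, FreeAbelianGroup.lift_apply_of]
    rw [hlen, ENat.toNat_add (hfin _ h₁) (hfin _ h₃)]
    push_cast
    ring
  refine ⟨QuotientAddGroup.lift (KZero.relSub P) ψ hψ, fun M hM => ?_⟩
  rw [KZero.clSub, dif_pos hM]
  exact FreeAbelianGroup.lift_apply_of _ _

end Groth.Agent.S6319
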