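import Groth.Statements.S6321
import Mathlib.Algebra.Colimit.Ring
import Mathlib.RingTheory.RingHom.FaithfullyFlat
import Groth.Agent.IndEtLib.Flat


-- import your own Groth.Agent.* helpers here

set_option autoImplicit false
universe u
open CAlg

namespace Groth.Agent.S6321

/-- Let R be a ring and (Sᵢ, φᵢⱼ) a directed system of faithfully flat R-algebras whose transition maps
are R-algebra maps. Then S = colim Sᵢ is a faithfully flat R-algebra: for any index i the composite
R → Sᵢ → S is faithfully flat. -/
theorem result {R : Type u} [CommRing R] {ι : Type u} [Preorder ι] [Nonempty ι] [IsDirected ι (· ≤ ·)] (G : ι → Type u) [∀ i, CommRing (G i)] [∀ i, Algebra R (G i)] (f : ∀ i j, i ≤ j → G i →+* G j) [DirectedSystem G fun i j h => f i j h] (hcompat : ∀ i j (h : i ≤ j), (f i j h).comp (algebraMap R (G i)) = algebraMap R (G j)) (hff : ∀ i, (algebraMap R (G i)).FaithfullyFlat) (i : ι) : ((Ring.DirectLimit.of G (fun i j h => f i j h) i).comp (algebraMap R (G i))).FaithfullyFlat := by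
  classical
  let L := Ring.DirectLimit G (fun i j h => f i j h)
  let of' := fun j => Ring.DirectLimit.of G (fun i j h => f i j h) j
  have hc : ∀ j k (h : j ≤ k), f j k h ∘ algebraMap R (G j) = algebraMap R (G k) := fun j k h => by
    rw [← RingHom.coe_comp, hcompat]
  have hind : ∀ j r, of' j (algebraMap R (G j) r) = of' i (algebraMap R (G i) r) := by
    intro j r
    obtain ⟨k, hjk, hik⟩ := exists_ge_ge j i
    show Ring.DirectLimit.of G _ j _ = Ring.DirectLimit.of G _ i _
    rw [← Ring.DirectLimit.of_f hjk, ← Ring.DirectLimit.of_f hik, show f j k hjk (algebraMap R (G j) r) = _ from congrFun (hc j k hjk) r,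
      show f i k hik (algebraMap R (G i) r) = _ from congrFun (hc i k hik) r]
  letI : Algebra R L := ((of' i).comp (algebraMap R (G i))).toAlgebra
  show Module.FaithfullyFlat R L
  have hsmul : ∀ j (r : R) (x : G j), of' j (r • x) = r • of' j x := fun j r x => by
    rw [Algebra.smul_def, Algebra.smul_def, map_mul, hind]; rfl
  have hlift : ∀ (j : ι) (k : ι) (h : j ≤ k) (r : R) (x : G j), f j k h (r • x) = r • f j k h x := fun j k h r x => by
    rw [Algebra.smul_def, Algebra.smul_def, map_mul, show f j k h (algebraMap R (G j) r) = _ from congrFun (hc j k h) r]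
  haveI : ∀ j, Module.FaithfullyFlat R (G j) := fun j => RingHom.faithfullyFlat_algebraMap_iff.1 (hff j)
  refine Module.FaithfullyFlat.iff_flat_and_ideal_smul_eq_top R L |>.2 ⟨?_, fun I hI => ?_⟩
  · refine IndEtLib.flat_of_lifts fun {l} a x hax => ?_
    choose jf xf hxf using fun t => Ring.DirectLimit.exists_of (x t)
    obtain ⟨j, hj⟩ : ∃ j, ∀ t, jf t ≤ j := by
      obtain ⟨j, hj⟩ := Finset.exists_le (Finset.univ.image jf)
      exact ⟨j, fun t => hj _ (Finset.mem_image_of_mem _ (Finset.mem_univ t))⟩
    let y : Fin l → G j := fun t => f _ _ (hj t) (xf t)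
    have hy : ∀ t, of' j (y t) = x t := fun t => (Ring.DirectLimit.of_f (hj t) _).trans (hxf t)
    have h0 : Ring.DirectLimit.of G (fun i j h => f i j h) j (∑ t, a t • y t) = 0 := by
      show of' j _ = 0
      rw [map_sum, ← hax]
      exact Finset.sum_congr rfl fun t _ => by rw [hsmul, hy]
    obtain ⟨k, hjk, hk⟩ := Ring.DirectLimit.of.zero_exact h0
    refine ⟨R, G k, inferInstance, inferInstance, inferInstance, inferInstance, RingHom.id R,
      (of' k).toAddMonoidHom, fun r z => hsmul k r z, a, fun t => f j k hjk (y t), fun t => rfl,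
      fun t => (Ring.DirectLimit.of_f hjk _).trans (hy t), ?_⟩
    rw [← hk, map_sum]
    exact Finset.sum_congr rfl fun t _ => (hlift j k hjk _ _).symm
  · by_contra hne
    have key : ∀ z ∈ I • (⊤ : Submodule R L), ∃ j, ∃ w ∈ I • (⊤ : Submodule R (G j)), of' j w = z := by
      intro z hz
      refine Submodule.smul_induction_on hz (fun r hr m _ => ?_) ?_
      · obtain ⟨j, x, rfl⟩ := Ring.DirectLimit.exists_of m
        exact ⟨j, r • x, Submodule.smul_mem_smul hr Submodule.mem_top, hsmul j r x⟩
      · rintro _ _ ⟨j, w, hw, rfl⟩ ⟨j', w', hw', rfl⟩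
        obtain ⟨k, hjk, hj'k⟩ := exists_ge_ge j j'
        have hmap : ∀ (a : ι) (h : a ≤ k), ∀ u ∈ I • (⊤ : Submodule R (G a)), f a k h u ∈ I • (⊤ : Submodule R (G k)) := by
          intro a h u hu
          refine Submodule.smul_induction_on hu (fun r hr m _ => ?_) (fun p q hp hq => ?_)
          · rw [hlift]; exact Submodule.smul_mem_smul hr Submodule.mem_top
          · rw [map_add]; exact add_mem hp hq
        refine ⟨k, _, add_mem (hmap j hjk w hw) (hmap j' hj'k w' hw'), ?_⟩
        rw [map_add]
        exact congrArg₂ (· + ·) (Ring.DirectLimit.of_f hjk _) (Ring.DirectLimit.of_f hj'k _)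
    obtain ⟨j, w, hw, h1⟩ := key 1 (by rw [hI]; exact Submodule.mem_top)
    have h0 : Ring.DirectLimit.of G (fun i j h => f i j h) j (w - 1) = 0 := by
      show of' j _ = 0
      rw [map_sub, h1, map_one, sub_self]
    obtain ⟨k, hjk, hk⟩ := Ring.DirectLimit.of.zero_exact h0
    have h1k : (1 : G k) ∈ I • (⊤ : Submodule R (G k)) := by
      rw [map_sub, map_one, sub_eq_zero] at hk
      rw [← hk]
      refine Submodule.smul_induction_on hw (fun r hr m _ => ?_) (fun p q hp hq => ?_)
      · rw [hlift]; exact Submodule.smul_mem_smul hr Submodule.mem_top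
      · rw [map_add]; exact add_mem hp hq
    refine hne ((Module.FaithfullyFlat.iff_flat_and_ideal_smul_eq_top R (G k)).1 inferInstance |>.2 I ?_)
    rw [Ideal.smul_top_eq_map] at h1k ⊢
    rw [(Ideal.eq_top_iff_one _).2 h1k, Submodule.restrictScalars_top]

end Groth.Agent.S6321
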