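import Groth.Statements.S6322
import Mathlib.CategoryTheory.Abelian.Projective.Resolution
import Mathlib.Algebra.Category.ModuleCat.Projective
import Mathlib.Algebra.Category.ModuleCat.Abelian
import Mathlib.Algebra.Homology.ShortComplex.ModuleCat
import Mathlib.Algebra.Homology.SingleHomology
import Mathlib.Algebra.Module.Projective
-- import your own Groth.Agent.* helpers here

set_option autoImplicit false
universe u
open CategoryTheory
open CAlg

namespace Groth.Agent.S6322

/-- Let R be a ring, M → N a map of R-modules, N• → N a resolution (a chain complex with a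
quasi-isomorphism onto N placed in degree 0) and … → F₁ → F₀ → M a complex with every Fᵢ free (F• a
chain complex with an augmentation to M in degree 0, exactness not required). Then (1) there is a
map of complexes F• → N• compatible with M → N through the augmentations, and (2) any two such maps
are homotopic. -/
theorem result (R : Type u) [CommRing R] (M N : ModuleCat.{u} R) (g : M ⟶ N) (F Nc : ChainComplex (ModuleCat.{u} R) ℕ) (hF : ∀ i, Module.Free R (F.X i)) (εF : F ⟶ (ChainComplex.single₀ (ModuleCat.{u} R)).obj M) (εN : Nc ⟶ (ChainComplex.single₀ (ModuleCat.{u} R)).obj N) [QuasiIso εN] : (∃ φ : F ⟶ Nc, φ ≫ εN = εF ≫ (ChainComplex.single₀ (ModuleCat.{u} R)).map g) ∧ ∀ α β : F ⟶ Nc, α ≫ εN = εF ≫ (ChainComplex.single₀ (ModuleCat.{u} R)).map g → β ≫ εN = εF ≫ (ChainComplex.single₀ (ModuleCat.{u} R)).map g → Nonempty (Homotopy α β) := by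
  classical
  haveI : ∀ i, Projective (F.X i) := fun i => by
    haveI := hF i
    exact (IsProjective.iff_projective (F.X i)).1 inferInstance
  have hs : ∀ n, (ShortComplex.mk _ _ (Nc.d_comp_d (n + 2) (n + 1) n)).Exact := fun n =>
    ((HomologicalComplex.exactAt_iff' _ (n + 2) (n + 1) n) (by simp only [ChainComplex.prev]; rfl) (by simp)).1
      ((quasiIsoAt_iff_exactAt' εN (n + 1) (ChainComplex.exactAt_succ_single_obj _ _)).1 inferInstance)
  have hdπ : Nc.d 1 0 ≫ εN.f 0 = 0 := by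
    rw [← εN.comm 1 0, HomologicalComplex.single_obj_d, Limits.comp_zero]
  have h0 := (ShortComplex.quasiIso_iff_of_zeros'
    ((HomologicalComplex.shortComplexFunctor' (ModuleCat.{u} R) (ComplexShape.down ℕ) 1 0 0).map εN)
    (Nc.shape _ _ (by simp)) (by simp; rfl) (by simp; rfl)).1
    ((ChainComplex.quasiIsoAt₀_iff εN).1 inferInstance)
  have hex0 : (ShortComplex.mk _ _ hdπ).Exact := h0.1
  let π0 : Nc.X 0 ⟶ N := εN.f 0
  haveI : Epi π0 := h0.2
  let f0 : F.X 0 ⟶ Nc.X 0 := Projective.factorThru (εF.f 0 ≫ g) π0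
  have hf0 : f0 ≫ π0 = εF.f 0 ≫ g := Projective.factorThru_comp (εF.f 0 ≫ g) π0
  have hd0 : F.d 1 0 ≫ εF.f 0 = 0 := by
    rw [← εF.comm 1 0, HomologicalComplex.single_obj_d, Limits.comp_zero]
  have hk0 : (F.d 1 0 ≫ f0) ≫ εN.f 0 = 0 := by
    show (F.d 1 0 ≫ f0) ≫ π0 = 0
    rw [Category.assoc, hf0]
    erw [← Category.assoc, hd0, Limits.zero_comp]
  let f1 : F.X 1 ⟶ Nc.X 1 := hex0.liftFromProjective (F.d 1 0 ≫ f0) hk0
  have hf1 : f1 ≫ Nc.d 1 0 = F.d 1 0 ≫ f0 := hex0.liftFromProjective_comp _ _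
  refine ⟨⟨ChainComplex.mkHom F Nc f0 f1 hf1 (fun n ⟨a, a', w⟩ =>
    ⟨(hs n).liftFromProjective (F.d (n + 2) (n + 1) ≫ a') (by simp [w]), (hs n).liftFromProjective_comp _ _⟩), ?_⟩, ?_⟩
  · refine HomologicalComplex.to_single_hom_ext ?_
    rw [HomologicalComplex.comp_f, HomologicalComplex.comp_f]
    refine hf0.trans ?_
    simp
  · intro α β hα hβ
    have hz : (α - β) ≫ εN = 0 := by rw [Preadditive.sub_comp, hα, hβ, sub_self]
    have hz0 : (α - β).f 0 ≫ εN.f 0 = 0 := congr_fun (congr_arg HomologicalComplex.Hom.f hz) 0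
    let s0 : F.X 0 ⟶ Nc.X 1 := hex0.liftFromProjective ((α - β).f 0) hz0
    have hs0 : s0 ≫ Nc.d 1 0 = (α - β).f 0 := hex0.liftFromProjective_comp _ _
    have hk1 : ((α - β).f 1 - F.d 1 0 ≫ s0) ≫ Nc.d 1 0 = 0 := by
      rw [Preadditive.sub_comp, Category.assoc, HomologicalComplex.Hom.comm, hs0, sub_self]
    let s1 : F.X 1 ⟶ Nc.X 2 := (hs 0).liftFromProjective _ hk1
    have hs1 : s1 ≫ Nc.d 2 1 = (α - β).f 1 - F.d 1 0 ≫ s0 := (hs 0).liftFromProjective_comp _ _
    exact ⟨Homotopy.equivSubZero.invFun (Homotopy.mkInductive _ s0 hs0.symm s1 (by rw [hs1]; abel)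
      fun n ⟨a, a', w⟩ => ⟨(hs (n + 1)).liftFromProjective ((α - β).f (n + 2) - F.d _ _ ≫ a') (by
        rw [Preadditive.sub_comp, HomologicalComplex.Hom.comm, w, Category.assoc, Preadditive.comp_add, HomologicalComplex.d_comp_d_assoc, Limits.zero_comp, zero_add, sub_self]),
        by rw [(hs (n + 1)).liftFromProjective_comp]; abel⟩)⟩

end Groth.Agent.S6322
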