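import Groth.Statements.S6324
import Mathlib.RingTheory.ReesAlgebra
import Mathlib.RingTheory.IntegralClosure.IsIntegral.Basic
-- import your own Groth.Agent.* helpers here

set_option autoImplicit false
set_option maxHeartbeats 1000000
universe u
open CAlg

namespace Groth.Agent.S6324

/-- Let R → S be a ring map, I ⊆ R an ideal and A = Σ Iⁿtⁿ ⊆ R[t] the Rees algebra of I. For s ∈ S,
being integral over I is equivalent to s·t ∈ S[t] being integral over A (via A ⊆ R[t] → S[t]). -/
theorem result {R S : Type u} [CommRing R] [CommRing S] [Algebra R S] (I : Ideal R) (s : S) : W4stkalgebra1.IsIntegralOverIdeal I s ↔ ((Polynomial.mapRingHom (algebraMap R S)).comp (reesAlgebra I).val.toRingHom).IsIntegralElem (Polynomial.C s * Polynomial.X) := by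
  let F : reesAlgebra I →+* Polynomial S := (Polynomial.mapRingHom (algebraMap R S)).comp (reesAlgebra I).val.toRingHom
  constructor
  · rintro ⟨p, hp, hc, hev⟩
    have hmem : ∀ j : ℕ, j < p.natDegree → Polynomial.monomial (p.natDegree - j) (p.coeff j) ∈ reesAlgebra I :=
      fun j hj => reesAlgebra.monomial_mem.2 (hc j hj)
    let a : Fin p.natDegree → reesAlgebra I := fun j => ⟨_, hmem j j.2⟩
    refine ⟨Polynomial.X ^ p.natDegree + ∑ j : Fin p.natDegree, Polynomial.C (a j) * Polynomial.X ^ (j : ℕ), ?_, ?_⟩
    · exact Polynomial.monic_X_pow_add (Polynomial.degree_sum_fin_lt a)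
    · have h2 : (Polynomial.C : S →+* Polynomial S) (Polynomial.eval₂ (algebraMap R S) s p) * Polynomial.X ^ p.natDegree = 0 := by
        rw [hev, map_zero, zero_mul]
      rw [Polynomial.eval₂_add, Polynomial.eval₂_X_pow, Polynomial.eval₂_finsetSum]
      rw [← h2]
      have hexp : Polynomial.eval₂ (algebraMap R S) s p = s ^ p.natDegree +
          ∑ j : Fin p.natDegree, algebraMap R S (p.coeff j) * s ^ (j : ℕ) := by
        conv_lhs => rw [hp.as_sum]
        rw [Finset.sum_range]
        simp [Polynomial.eval₂_finsetSum]
      rw [hexp, map_add, map_sum, map_pow, add_mul, Finset.sum_mul]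
      congr 1
      · rw [mul_pow]
      · refine Finset.sum_congr rfl fun j _ => ?_
        rw [Polynomial.eval₂_mul, Polynomial.eval₂_C, Polynomial.eval₂_X_pow, map_mul, map_pow]
        show Polynomial.map (algebraMap R S) (Polynomial.monomial (p.natDegree - j) (p.coeff j)) *
          (Polynomial.C s * Polynomial.X) ^ (j : ℕ) = _
        rw [Polynomial.map_monomial, ← Polynomial.C_mul_X_pow_eq_monomial, mul_pow]
        have hx : (Polynomial.X : Polynomial S) ^ p.natDegree = Polynomial.X ^ (p.natDegree - j) * Polynomial.X ^ (j : ℕ) := by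
          rw [← pow_add, Nat.sub_add_cancel j.2.le]
        rw [hx]
        ring
  · rintro ⟨q, hq, hev⟩
    let d := q.natDegree
    rcases subsingleton_or_nontrivial R with hR | hR
    · exact ⟨1, Polynomial.monic_one, fun j hj => by simp at hj,
        (subsingleton_of_zero_eq_one (by rw [← map_zero (algebraMap R S), ← map_one (algebraMap R S), Subsingleton.elim (0 : R) 1]) : Subsingleton S).elim _ _⟩
    let p : Polynomial R := Polynomial.X ^ d +
      ∑ j : Fin d, Polynomial.C ((q.coeff j : Polynomial R).coeff (d - j)) * Polynomial.X ^ (j : ℕ)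
    have hdeg : (∑ j : Fin d, Polynomial.C ((q.coeff j : Polynomial R).coeff (d - j)) * Polynomial.X ^ (j : ℕ)).degree
        < (Polynomial.X ^ d : Polynomial R).degree := by
      rw [Polynomial.degree_X_pow]
      exact Polynomial.degree_sum_fin_lt _
    have hp : p.Monic := (Polynomial.monic_X_pow d).add_of_left hdeg
    have hnd : p.natDegree = d := Polynomial.natDegree_eq_of_degree_eq_some (by
      rw [Polynomial.degree_add_eq_left_of_degree_lt hdeg, Polynomial.degree_X_pow])
    refine ⟨p, hp, fun j hj => ?_, ?_⟩
    · rw [hnd] at hj ⊢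
      have : p.coeff j = (q.coeff j : Polynomial R).coeff (d - j) := by
        rw [Polynomial.coeff_add, Polynomial.coeff_X_pow, if_neg hj.ne, zero_add, Polynomial.finsetSum_coeff,
          Finset.sum_eq_single (⟨j, hj⟩ : Fin d)]
        · simp
        · intro i _ hi
          rw [Polynomial.coeff_C_mul_X_pow, if_neg fun e => hi (Fin.ext e.symm)]
        · exact fun h => absurd (Finset.mem_univ _) h
      rw [this]
      exact (q.coeff j).2 (d - j)
    · have h2 := congrArg (fun P => Polynomial.coeff P d) hev
      rw [hq.as_sum, Finset.sum_range] at h2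
      simp only [Polynomial.eval₂_add, Polynomial.eval₂_X_pow, Polynomial.eval₂_finsetSum, Polynomial.eval₂_mul,
        Polynomial.eval₂_C, Polynomial.coeff_add, Polynomial.finsetSum_coeff, Polynomial.coeff_zero, mul_pow,
        ← map_pow] at h2
      rw [Polynomial.eval₂_add, Polynomial.eval₂_X_pow, Polynomial.eval₂_finsetSum]
      rw [← h2]
      congr 1
      · rw [Polynomial.coeff_mul_X_pow', if_pos le_rfl, Nat.sub_self, Polynomial.coeff_C_zero]
      · refine Finset.sum_congr rfl fun j _ => ?_
        rw [← mul_assoc, Polynomial.coeff_mul_X_pow', if_pos j.2.le, Polynomial.coeff_mul_C,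
          Polynomial.eval₂_mul, Polynomial.eval₂_C, Polynomial.eval₂_X_pow]
        exact congrArg (· * _) (Polynomial.coeff_map (algebraMap R S) _).symm

end Groth.Agent.S6324
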