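import Groth.Statements.S6325
import Mathlib.RingTheory.IntegralClosure.IsIntegralClosure.Basic
import Mathlib.RingTheory.ReesAlgebra


-- import your own Groth.Agent.* helpers here

set_option autoImplicit false
universe u
open CAlg

namespace Groth.Agent.S6325

/-- Let R → S be a ring map and I ⊆ R an ideal. The elements of S integral over I form an R-submodule of
S; moreover, the product s s' is integral over I for any s ∈ S integral over R and any s' ∈ S
integral over I. -/
theorem result {R S : Type u} [CommRing R] [CommRing S] [Algebra R S] (I : Ideal R) : (∃ N : Submodule R S, ∀ s : S, s ∈ N ↔ W4stkalgebra1.IsIntegralOverIdeal I s) ∧ (∀ s s' : S, IsIntegral R s → W4stkalgebra1.IsIntegralOverIdeal I s' → W4stkalgebra1.IsIntegralOverIdeal I (s * s')) := by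
  classical
  let A := ↥(reesAlgebra I)
  letI : Algebra A (Polynomial S) := ((Polynomial.mapRingHom (algebraMap R S)).comp (reesAlgebra I).val.toRingHom).toAlgebra
  have key : ∀ s : S, W4stkalgebra1.IsIntegralOverIdeal I s ↔ IsIntegral A (Polynomial.monomial 1 s) := by
    intro s
    constructor
    · rintro ⟨p, hp, hc, hev⟩
      by_cases hR : Subsingleton R
      · have : Subsingleton S := (algebraMap R S).codomain_trivial
        rw [Subsingleton.elim (Polynomial.monomial 1 s) 0]
        exact isIntegral_zero
      have : Nontrivial R := not_subsingleton_iff_nontrivial.1 hR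
      let a : ℕ → A := fun j => if h : p.coeff j ∈ I ^ (p.natDegree - j) then
        ⟨Polynomial.monomial (p.natDegree - j) (p.coeff j), reesAlgebra.monomial_mem.2 h⟩ else 0
      refine ⟨Polynomial.X ^ p.natDegree + ∑ j ∈ Finset.range p.natDegree, Polynomial.C (a j) * Polynomial.X ^ j,
        Polynomial.monic_X_pow_add ((Polynomial.degree_sum_le _ _).trans_lt ?_), ?_⟩
      · rw [Finset.sup_lt_iff (WithBot.bot_lt_coe _)]
        exact fun j hj => (Polynomial.degree_C_mul_X_pow_le _ _).trans_lt (WithBot.coe_lt_coe.2 (Finset.mem_range.1 hj))
      · rw [Polynomial.eval₂_add, Polynomial.eval₂_X_pow, Polynomial.eval₂_finsetSum]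
        have h1 : ∀ j ∈ Finset.range p.natDegree, Polynomial.eval₂ (algebraMap A (Polynomial S)) (Polynomial.monomial 1 s)
            (Polynomial.C (a j) * Polynomial.X ^ j) = Polynomial.monomial p.natDegree (algebraMap R S (p.coeff j) * s ^ j) := by
          intro j hj
          have hj' := Finset.mem_range.1 hj
          rw [Polynomial.eval₂_mul, Polynomial.eval₂_C, Polynomial.eval₂_X_pow, Polynomial.monomial_pow, one_mul]
          show Polynomial.map (algebraMap R S) ((a j : A) : (Polynomial R)) * _ = _
          simp only [a, dif_pos (hc j hj')]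
          rw [Polynomial.map_monomial, Polynomial.monomial_mul_monomial, Nat.sub_add_cancel hj'.le]
        rw [Finset.sum_congr rfl h1, Polynomial.monomial_pow, one_mul, ← map_sum, ← map_add]
        rw [Polynomial.eval₂_eq_sum_range, Finset.sum_range_succ, hp.coeff_natDegree, map_one, one_mul, add_comm] at hev
        rw [hev, map_zero]
    · rintro ⟨P, hP, hev⟩
      set n := P.natDegree
      let b : ℕ → R := fun j => ((P.coeff j : A) : (Polynomial R)).coeff (n - j)
      have hb : ∀ j, b j ∈ I ^ (n - j) := fun j => (mem_reesAlgebra_iff I _).1 (P.coeff j).2 _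
      by_cases hR : Subsingleton R
      · have : Subsingleton S := (algebraMap R S).codomain_trivial
        exact ⟨1, Polynomial.monic_one, by simp, Subsingleton.elim _ _⟩
      have : Nontrivial R := not_subsingleton_iff_nontrivial.1 hR
      have hdeg : (∑ j ∈ Finset.range n, Polynomial.C (b j) * Polynomial.X ^ j).degree < (n : WithBot ℕ) := by
        refine (Polynomial.degree_sum_le _ _).trans_lt ?_
        rw [Finset.sup_lt_iff (WithBot.bot_lt_coe _)]
        exact fun j hj => (Polynomial.degree_C_mul_X_pow_le _ _).trans_lt (WithBot.coe_lt_coe.2 (Finset.mem_range.1 hj))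
      refine ⟨Polynomial.X ^ n + ∑ j ∈ Finset.range n, Polynomial.C (b j) * Polynomial.X ^ j, Polynomial.monic_X_pow_add hdeg, ?_, ?_⟩
      · intro j hj
        have hn : (Polynomial.X ^ n + ∑ j ∈ Finset.range n, Polynomial.C (b j) * Polynomial.X ^ j).natDegree = n := by
          rw [add_comm]
          exact Polynomial.natDegree_eq_of_degree_eq_some (by rw [Polynomial.degree_add_eq_right_of_degree_lt (by rwa [Polynomial.degree_X_pow]), Polynomial.degree_X_pow])
        rw [hn] at hj ⊢
        rw [Polynomial.coeff_add, Polynomial.coeff_X_pow, if_neg hj.ne, zero_add, Polynomial.finsetSum_coeff,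
          Finset.sum_eq_single j (fun k _ hk => by rw [Polynomial.coeff_C_mul_X_pow, if_neg hk.symm]) (fun h => absurd (Finset.mem_range.2 hj) h),
          Polynomial.coeff_C_mul_X_pow, if_pos rfl]
        exact hb j
      · rw [Polynomial.eval₂_add, Polynomial.eval₂_X_pow, Polynomial.eval₂_finsetSum]
        have h2 := congrArg (fun z : (Polynomial S) => z.coeff n) hev
        rw [Polynomial.eval₂_eq_sum_range, Finset.sum_range_succ, hP.coeff_natDegree, map_one, one_mul] at h2
        simp only [Polynomial.coeff_add, Polynomial.finsetSum_coeff, Polynomial.monomial_pow, one_mul, Polynomial.coeff_zero] at h2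
        rw [Polynomial.coeff_monomial, if_pos rfl, add_comm] at h2
        rw [← h2]
        congr 1
        refine Finset.sum_congr rfl fun j hj => ?_
        have hj' := Finset.mem_range.1 hj
        rw [Polynomial.eval₂_mul, Polynomial.eval₂_C, Polynomial.eval₂_X_pow]
        show _ = (Polynomial.map (algebraMap R S) ((P.coeff j : A) : (Polynomial R)) * _).coeff n
        conv_rhs => rw [show n = (n - j) + j from (Nat.sub_add_cancel hj'.le).symm, Polynomial.coeff_mul_monomial, Polynomial.coeff_map]
  refine ⟨⟨{ carrier := {s | W4stkalgebra1.IsIntegralOverIdeal I s}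
             add_mem' := fun {a b} ha hb => by
               simp only [Set.mem_setOf_eq, key, map_add] at ha hb ⊢; exact ha.add hb
             zero_mem' := by simp only [Set.mem_setOf_eq, key, map_zero]; exact isIntegral_zero
             smul_mem' := fun c a ha => by
               simp only [Set.mem_setOf_eq, key] at ha ⊢
               rw [Algebra.smul_def, ← Polynomial.C_mul_monomial]
               exact IsIntegral.mul (by
                 rw [show Polynomial.C (algebraMap R S c) = algebraMap A (Polynomial S) ⟨Polynomial.C c, (reesAlgebra I).algebraMap_mem c⟩ from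
                   (Polynomial.map_C _).symm]
                 exact isIntegral_algebraMap) ha }, fun s => Iff.rfl⟩, fun s s' hs hs' => ?_⟩
  rw [key] at hs' ⊢
  rw [← Polynomial.C_mul_monomial]
  refine IsIntegral.mul ?_ hs'
  obtain ⟨p, hp, hev⟩ := hs
  refine ⟨p.map (algebraMap R A), hp.map _, ?_⟩
  rw [Polynomial.eval₂_map, show (algebraMap A (Polynomial S)).comp (algebraMap R A) = Polynomial.C.comp (algebraMap R S) from
    RingHom.ext fun r => Polynomial.map_C _, ← Polynomial.hom_eval₂, hev, map_zero]

end Groth.Agent.S6325
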