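import Groth.Statements.S6326
import Mathlib.CategoryTheory.Limits.Types.Filtered


-- import your own Groth.Agent.* helpers here

set_option autoImplicit false
universe u
open CategoryTheory CategoryTheory.Limits
open CAlg

namespace Groth.Agent.S6326

/-- Let R be a ring and N an R-module such that whenever M is the colimit of a filtered diagram (Mᵢ) of
R-modules (indexed by a filtered category in the same universe), the comparison map colim Hom_R(N,
Mᵢ) → Hom_R(N, M) is injective. Then N is finitely generated. (The implication from finite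
generation back to this injectivity also holds; only the characterizing direction is stated here.) -/
theorem result (R : Type u) [CommRing R] (N : Type u) [AddCommGroup N] [Module R N] (h : ∀ (J : Type u) [SmallCategory J] [IsFiltered J] (F : J ⥤ ModuleCat.{u} R), Function.Injective (colimit.post F (coyoneda.obj (Opposite.op (ModuleCat.of R N))))) : Module.Finite R N := by
  classical
  let W : Finset N → Submodule R N := fun s => Submodule.span R (s : Set N)
  let F : Finset N ⥤ ModuleCat.{u} R :=
    { obj := fun s => ModuleCat.of R (N ⧸ W s)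
      map := fun {s t} i => ModuleCat.ofHom (Submodule.factor (Submodule.span_mono (Finset.coe_subset.2 (leOfHom i))))
      map_id := fun s => by ext x; rfl
      map_comp := fun f g => by ext x; rfl }
  have hinj := h (Finset N) F
  let G := coyoneda.obj (Opposite.op (ModuleCat.of R N))
  let π : ∀ s : Finset N, (F ⋙ G).obj s := fun s => ModuleCat.ofHom (W s).mkQ
  have h0 : colimit.ι (F ⋙ G) ∅ (π ∅) = colimit.ι (F ⋙ G) ∅ (0 : ModuleCat.of R N ⟶ F.obj ∅) := by
    apply hinj
    rw [← ConcreteCategory.comp_apply, ← ConcreteCategory.comp_apply, colimit.ι_post]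
    change π ∅ ≫ colimit.ι F ∅ = 0 ≫ colimit.ι F ∅
    rw [zero_comp]
    ext x
    have e := colimit.w F (homOfLE (Finset.empty_subset {x}))
    rw [← e]
    change (colimit.ι F {x}).hom ((W {x}).mkQ x) = 0
    rw [show (W {x}).mkQ x = 0 from (Submodule.Quotient.mk_eq_zero (W {x})).2 (Submodule.subset_span (Finset.mem_coe.2 (Finset.mem_singleton_self x)))]
    exact map_zero _
  obtain ⟨k, f, g, hfg⟩ := (Types.FilteredColimit.colimit_eq_iff (F ⋙ G)).1 h0
  refine ⟨⟨k, eq_top_iff.2 fun x _ => ?_⟩⟩
  have h1 : (π ∅ ≫ F.map f : ModuleCat.of R N ⟶ F.obj k) = (0 : ModuleCat.of R N ⟶ F.obj ∅) ≫ F.map g := hfg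
  have h2 := congrArg (fun φ : ModuleCat.of R N ⟶ F.obj k => φ.hom x) h1
  simp only [ModuleCat.hom_comp, zero_comp, ModuleCat.hom_zero, LinearMap.zero_apply] at h2
  exact (Submodule.Quotient.mk_eq_zero (W k)).1 h2

end Groth.Agent.S6326
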