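import Groth.Statements.S6327
import Mathlib
-- import your own Groth.Agent.* helpers here

set_option autoImplicit false
universe u
open CategoryTheory CategoryTheory.Limits
open CAlg

namespace Groth.Agent.S6327

/-- Let R be a ring and N an R-module such that whenever M is the colimit of a filtered diagram (Mᵢ) of
R-modules (indexed by a filtered category in the same universe), the comparison map colim Hom_R(N,
Mᵢ) → Hom_R(N, M) is bijective. Then N is finitely presented. (The implication from finite
presentation back to this bijectivity also holds; only the characterizing direction is stated here.) -/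
theorem result (R : Type u) [CommRing R] (N : Type u) [AddCommGroup N] [Module R N] (h : ∀ (J : Type u) [SmallCategory J] [IsFiltered J] (F : J ⥤ ModuleCat.{u} R), Function.Bijective (colimit.post F (coyoneda.obj (Opposite.op (ModuleCat.of R N))))) : Module.FinitePresentation R N := by
  classical
  have hfac : ∀ (J : Type u) [SmallCategory J] [IsFiltered J] (F : J ⥤ ModuleCat.{u} R)
      (c : ∀ j, F.obj j →ₗ[R] N) (_ : ∀ {i j} (f : i ⟶ j), (c j).comp (F.map f).hom = c i)
      (_ : ∀ n : N, ∃ j x, c j x = n)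
      (_ : ∀ j x, c j x = 0 → ∃ (k : J) (f : j ⟶ k), (F.map f).hom x = 0),
      ∃ (j : J) (s : N →ₗ[R] F.obj j), (c j).comp s = LinearMap.id := by
    intro J _ _ F c hc hsurj hinj
    let cc : Cocone F :=
      { pt := ModuleCat.of R N
        ι :=
          { app := fun j => ModuleCat.ofHom (c j)
            naturality := fun i j f => by
              ext x
              exact LinearMap.congr_fun (hc f) x } }
    let d := colimit.desc F cc
    have hd : ∀ j x, d ((colimit.ι F j) x) = c j x := fun j x => by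
      rw [← ConcreteCategory.comp_apply, colimit.ι_desc]; rfl
    have hbij : Function.Bijective d := by
      constructor
      · refine (injective_iff_map_eq_zero d.hom).2 fun x hx => ?_
        obtain ⟨j, y, rfl⟩ := Concrete.colimit_exists_rep F x
        obtain ⟨k, f, hf⟩ := hinj j y ((hd j y).symm.trans hx)
        rw [← colimit.w F f, ConcreteCategory.comp_apply, show (F.map f) y = 0 from hf, map_zero]
      · intro n
        obtain ⟨j, x, hx⟩ := hsurj n
        exact ⟨(colimit.ι F j) x, (hd j x).trans hx⟩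
    haveI : IsIso d := (ConcreteCategory.isIso_iff_bijective d).2 hbij
    obtain ⟨z, hz⟩ := (h J F).2 (inv d)
    obtain ⟨j, t, rfl⟩ := Concrete.colimit_exists_rep (F ⋙ coyoneda.obj (Opposite.op (ModuleCat.of R N))) z
    have ht : colimit.post F (coyoneda.obj (Opposite.op (ModuleCat.of R N)))
        ((colimit.ι (F ⋙ coyoneda.obj (Opposite.op (ModuleCat.of R N))) j) t) = t ≫ colimit.ι F j :=
      ConcreteCategory.congr_hom (colimit.ι_post F (coyoneda.obj (Opposite.op (ModuleCat.of R N))) j) t
    have h1 : (t ≫ colimit.ι F j : ModuleCat.of R N ⟶ colimit F) ≫ d = 𝟙 _ := by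
      rw [← IsIso.inv_hom_id d]
      exact congrArg (fun w => w ≫ d) (ht.symm.trans hz)
    rw [Category.assoc, colimit.ι_desc] at h1
    exact ⟨j, t.hom, congrArg ModuleCat.Hom.hom h1⟩
  have hfin : Module.Finite R N := by
    let J := {S : Submodule R N // S.FG}
    haveI : Nonempty J := ⟨⟨⊥, Submodule.fg_bot⟩⟩
    haveI : IsDirectedOrder J := ⟨fun a b => ⟨⟨a.1 ⊔ b.1, a.2.sup b.2⟩, show a.1 ≤ a.1 ⊔ b.1 from le_sup_left,
      show b.1 ≤ a.1 ⊔ b.1 from le_sup_right⟩⟩
    let F : J ⥤ ModuleCat.{u} R :=
      { obj := fun S => ModuleCat.of R S.1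
        map := fun {a b} f => ModuleCat.ofHom (Submodule.inclusion (show a.1 ≤ b.1 from leOfHom f))
        map_id := fun a => by ext x; rfl
        map_comp := fun f g => by ext x; rfl }
    obtain ⟨S, s, hs⟩ := hfac J F (fun S => S.1.subtype) (fun f => by ext x; rfl)
      (fun n => ⟨⟨Submodule.span R {n}, Submodule.fg_span_singleton n⟩, ⟨n, Submodule.mem_span_singleton_self n⟩, rfl⟩)
      (fun S x hx => ⟨S, 𝟙 S, by rw [F.map_id]; exact Subtype.ext hx⟩)
    refine ⟨?_⟩
    have hS : S.1 = ⊤ := eq_top_iff.2 fun n _ => by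
      rw [← show S.1.subtype (s n) = n from LinearMap.congr_fun hs n]
      exact (s n).2
    exact hS ▸ S.2
  obtain ⟨m, p, hp⟩ := Module.Finite.exists_fin' R N
  let J := {K : Submodule R (Fin m → R) // K.FG ∧ K ≤ LinearMap.ker p}
  haveI : Nonempty J := ⟨⟨⊥, Submodule.fg_bot, bot_le⟩⟩
  haveI : IsDirectedOrder J := ⟨fun a b => ⟨⟨a.1 ⊔ b.1, a.2.1.sup b.2.1, sup_le a.2.2 b.2.2⟩,
    show a.1 ≤ a.1 ⊔ b.1 from le_sup_left, show b.1 ≤ a.1 ⊔ b.1 from le_sup_right⟩⟩
  let F : J ⥤ ModuleCat.{u} R :=
    { obj := fun K => ModuleCat.of R ((Fin m → R) ⧸ K.1)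
      map := fun {a b} f => ModuleCat.ofHom (Submodule.factor (show a.1 ≤ b.1 from leOfHom f))
      map_id := fun a => by ext x; rfl
      map_comp := fun f g => by ext x; rfl }
  obtain ⟨K, s, hs⟩ := hfac J F (fun K => K.1.liftQ p K.2.2) (fun f => by ext x; rfl)
    (fun n => by
      obtain ⟨x, rfl⟩ := hp n
      exact ⟨⟨⊥, Submodule.fg_bot, bot_le⟩, Submodule.Quotient.mk x, rfl⟩)
    (fun K x => by
      obtain ⟨y, rfl⟩ := Submodule.Quotient.mk_surjective _ x
      intro hy
      let K' : J := ⟨K.1 ⊔ Submodule.span R {y}, K.2.1.sup (Submodule.fg_span_singleton y),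
        sup_le K.2.2 ((Submodule.span_singleton_le_iff_mem _ _).2 hy)⟩
      exact ⟨K', homOfLE (show K.1 ≤ K'.1 from le_sup_left), (Submodule.Quotient.mk_eq_zero _).2
        (show y ∈ K.1 ⊔ Submodule.span R {y} from le_sup_right (a := K.1) (Submodule.mem_span_singleton_self y))⟩)
  haveI : Module.FinitePresentation R ((Fin m → R) ⧸ K.1) :=
    Module.finitePresentation_of_surjective K.1.mkQ (Submodule.mkQ_surjective _) (by rw [Submodule.ker_mkQ]; exact K.2.1)
  refine Module.finitePresentation_of_surjective (K.1.liftQ p K.2.2) (fun n => ⟨s n, LinearMap.congr_fun hs n⟩) ?_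
  have hker : LinearMap.ker (K.1.liftQ p K.2.2) =
      LinearMap.range ((LinearMap.id : ((Fin m → R) ⧸ K.1) →ₗ[R] _) - s.comp (K.1.liftQ p K.2.2)) := by
    refine le_antisymm (fun x hx => ⟨x, by
      rw [LinearMap.sub_apply, LinearMap.id_apply, LinearMap.comp_apply, LinearMap.mem_ker.1 hx, map_zero, sub_zero]⟩) ?_
    · rintro _ ⟨x, rfl⟩
      rw [LinearMap.mem_ker, LinearMap.sub_apply, map_sub, LinearMap.id_apply, LinearMap.comp_apply,
        show ∀ n, (K.1.liftQ p K.2.2) (s n) = n from fun n => LinearMap.congr_fun hs n, sub_self]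
  rw [hker, LinearMap.range_eq_map]
  exact (Module.Finite.fg_top).map _

end Groth.Agent.S6327
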