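import Groth.Statements.S6328
import Groth.Agent.FPDirLib.SubQuot
import Mathlib


-- import your own Groth.Agent.* helpers here

set_option autoImplicit false
universe u
open CAlg

namespace Groth.Agent.S6328

/-- Every module M over a ring R can be written as the direct limit of a directed system (Mᵢ, μᵢⱼ) of
finitely presented R-modules. -/
theorem result (R : Type u) [CommRing R] (M : Type u) [AddCommGroup M] [Module R M] : ∃ (ι : Type u) (_ : Preorder ι) (_ : IsDirected ι (· ≤ ·)) (_ : Nonempty ι) (_ : DecidableEq ι) (G : ι → Type u) (_ : ∀ i, AddCommGroup (G i)) (_ : ∀ i, Module R (G i)) (f : ∀ i j, i ≤ j → G i →ₗ[R] G j) (_ : DirectedSystem G fun i j h => f i j h), (∀ i, Module.FinitePresentation R (G i)) ∧ Nonempty (Module.DirectLimit G f ≃ₗ[R] M) := by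
  classical
  let π : (M →₀ R) →ₗ[R] M := Finsupp.linearCombination R id
  let ι := {i : Finset M × Submodule R (M →₀ R) // i.2.FG ∧ i.2 ≤ Finsupp.supported R R (i.1 : Set M) ⊓ LinearMap.ker π}
  let F : ι → Submodule R (M →₀ R) := fun i => Finsupp.supported R R (i.1.1 : Set M)
  have hsup : ∀ {a b : Finset M}, a ⊆ b → Finsupp.supported R R (a : Set M) ≤ Finsupp.supported R R (b : Set M) :=
    fun h => Finsupp.supported_mono (Finset.coe_subset.2 h)
  have hF : ∀ {i j : ι}, i ≤ j → F i ≤ F j := fun h => hsup h.1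
  letI iP : Preorder ι := inferInstance
  letI dι : DecidableEq ι := Classical.decEq _
  let G : ι → Type u := fun i => FPDirLib.Q (F i) i.1.2
  letI iA : ∀ i, AddCommGroup (G i) := fun i => inferInstanceAs (AddCommGroup (FPDirLib.Q (F i) i.1.2))
  letI iM : ∀ i, Module R (G i) := fun i => inferInstanceAs (Module R (FPDirLib.Q (F i) i.1.2))
  let f : ∀ i j, i ≤ j → G i →ₗ[R] G j := fun i j h =>
    FPDirLib.trans (hF h) h.2
  have hne : Nonempty ι := ⟨⟨(∅, ⊥), Submodule.fg_bot, bot_le⟩⟩
  have hdirι : IsDirected ι (· ≤ ·) := ⟨fun i j =>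
    ⟨⟨(i.1.1 ∪ j.1.1, i.1.2 ⊔ j.1.2), i.2.1.sup j.2.1, sup_le
      (i.2.2.trans (inf_le_inf_right _ (hsup Finset.subset_union_left)))
      (j.2.2.trans (inf_le_inf_right _ (hsup Finset.subset_union_right)))⟩,
      ⟨Finset.subset_union_left, le_sup_left⟩, ⟨Finset.subset_union_right, le_sup_right⟩⟩⟩
  haveI := hne
  haveI := hdirι
  haveI hsys : DirectedSystem G fun i j h => f i j h :=
    { map_self := fun i x => by obtain ⟨x, rfl⟩ := Submodule.mkQ_surjective _ x; rfl
      map_map := fun i j k _ _ x => by obtain ⟨x, rfl⟩ := Submodule.mkQ_surjective _ x; rfl }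
  let q : ∀ i, G i →ₗ[R] M := fun i => FPDirLib.out π (i.2.2.trans inf_le_right)
  let Φ : Module.DirectLimit G f →ₗ[R] M := Module.DirectLimit.lift R ι G f q (fun i j h x => by
    obtain ⟨x, rfl⟩ := Submodule.mkQ_surjective _ x; rfl)
  refine ⟨ι, iP, hdirι, hne, dι, G, iA, iM, f, hsys, fun i => ?_, ⟨LinearEquiv.ofBijective Φ ⟨?_, ?_⟩⟩⟩
  · let e := Finsupp.supportedEquivFinsupp (R := R) (M := R) ((i.1.1 : Finset M) : Set M)
    haveI : Module.Free R (F i) := Module.Free.of_equiv e.symm
    haveI : Module.Finite R (F i) := Module.Finite.equiv e.symm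
    exact FPDirLib.finitePresentation_Q _ _ i.2.1 (i.2.2.trans inf_le_left)
  · refine (injective_iff_map_eq_zero Φ).2 fun z hz => ?_
    obtain ⟨i, x, rfl⟩ := Module.DirectLimit.exists_of z
    obtain ⟨v, rfl⟩ := Submodule.mkQ_surjective _ x
    have hv : π v = 0 := by
      simp only [Φ, Module.DirectLimit.lift_of] at hz
      exact hz
    let j : ι := ⟨(i.1.1, i.1.2 ⊔ Submodule.span R {(v : M →₀ R)}), i.2.1.sup (Submodule.fg_span_singleton _),
      sup_le i.2.2 ((Submodule.span_singleton_le_iff_mem _ _).2 ⟨v.2, hv⟩)⟩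
    have hij : i ≤ j := ⟨Finset.Subset.refl _, le_sup_left⟩
    rw [← Module.DirectLimit.of_f (hij := hij)]
    have : f i j hij (Submodule.mkQ _ v) = 0 := (Submodule.Quotient.mk_eq_zero _).2
      (Submodule.mem_sup_right (Submodule.mem_span_singleton_self (v : M →₀ R)))
    rw [this, map_zero]
  · intro m
    let i : ι := ⟨({m}, ⊥), Submodule.fg_bot, bot_le⟩
    refine ⟨Module.DirectLimit.of R ι G f i (Submodule.mkQ _ ⟨Finsupp.single m 1, Finsupp.single_mem_supported R 1 (by simp [i])⟩), ?_⟩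
    simp only [Φ, Module.DirectLimit.lift_of]
    show π (Finsupp.single m 1) = m
    simp [π]

end Groth.Agent.S6328
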