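import Groth.Statements.S6329
import Mathlib.RingTheory.Support
import Mathlib.Algebra.Module.LocalizedModule.Exact
import Mathlib.RingTheory.Localization.AtPrime.Basic
import Mathlib.RingTheory.SimpleModule.Basic
import Mathlib.RingTheory.Length


-- import your own Groth.Agent.* helpers here

set_option autoImplicit false
universe u
open CAlg

namespace Groth.Agent.S6329

/-- Let R be a ring, M an R-module and 0 = M₀ ⊂ M₁ ⊂ … ⊂ Mₙ = M a maximal chain of submodules (a
composition series; each Mᵢ/Mᵢ₋₁ is simple, of the form R/mᵢ with mᵢ = (Mᵢ₋₁ : Mᵢ) maximal). Then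
for every maximal ideal m of R the number of indices i with mᵢ = m equals length_{R_m}(M_m). -/
theorem result {R : Type u} [CommRing R] (M : Type u) [AddCommGroup M] [Module R M] (s : CompositionSeries (Submodule R M)) (h0 : s.head = ⊥) (h1 : s.last = ⊤) (m : Ideal R) [m.IsMaximal] : ((Finset.univ.filter fun i : Fin s.length => (s i.castSucc).colon (s i.succ : Set M) = m).card : ℕ∞) = Module.length (Localization.AtPrime m) (LocalizedModule m.primeCompl M) := by
  classical
  let S := m.primeCompl
  let Rm := Localization.AtPrime m
  have htop : Module.length Rm (LocalizedModule S M) = Module.length Rm (LocalizedModule S (s (Fin.last s.length))) := by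
    have e : (s (Fin.last s.length)) ≃ₗ[R] M := (LinearEquiv.ofEq _ _ h1).trans Submodule.topEquiv
    exact (IsLocalizedModule.mapEquiv S
      (LocalizedModule.mkLinearMap S _) (LocalizedModule.mkLinearMap S M) Rm e).length_eq.symm
  have key : ∀ k : Fin (s.length + 1),
      ((Finset.univ.filter fun i : Fin s.length => i.castSucc < k ∧ (s i.castSucc).colon (s i.succ : Set M) = m).card : ℕ∞) =
        Module.length Rm (LocalizedModule S (s k)) := by
    intro k
    induction k using Fin.induction with
    | zero =>
      have h0' : Subsingleton (s 0) := by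
        rw [show s 0 = ⊥ from h0]; infer_instance
      rw [Module.length_eq_zero]
      simp
    | succ i ih =>
      set A := s i.castSucc
      set B := s i.succ
      have hcov : A ⋖ B := s.step i
      let Q := B ⧸ Submodule.comap B.subtype A
      have hQ : IsSimpleModule R Q := (covBy_iff_quot_is_simple hcov.le).1 hcov
      let f : A →ₗ[R] B := Submodule.inclusion hcov.le
      let g : B →ₗ[R] Q := (Submodule.comap B.subtype A).mkQ
      have hfg : Function.Exact f g := by
        rw [LinearMap.exact_iff, Submodule.ker_mkQ, Submodule.range_inclusion]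
      rw [Module.length_eq_add_of_exact (LocalizedModule.map S f) (LocalizedModule.map S g)
        (LocalizedModule.map_injective S f (Submodule.inclusion_injective _))
        (LocalizedModule.map_surjective S g (Submodule.mkQ_surjective _)) (LocalizedModule.map_exact S f g hfg), ← ih]
      obtain ⟨J, hJ, ⟨eJ⟩⟩ := isSimpleModule_iff_quot_maximal.1 hQ
      have hcol : A.colon (B : Set M) = J := by
        have h2 : Module.annihilator R Q = J := by rw [eJ.annihilator_eq, Ideal.annihilator_quotient]
        rw [← h2]
        ext r
        rw [Submodule.mem_colon, Module.mem_annihilator]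
        refine ⟨fun h q => ?_, fun h x hx => ?_⟩
        · obtain ⟨b, rfl⟩ := Submodule.mkQ_surjective _ q
          exact (Submodule.Quotient.mk_eq_zero _).2 (h b b.2)
        · exact (Submodule.Quotient.mk_eq_zero (Submodule.comap B.subtype A) (x := r • (⟨x, hx⟩ : B))).1
            (h ((Submodule.comap B.subtype A).mkQ ⟨x, hx⟩))
      have hstep : Module.length Rm (LocalizedModule S Q) = if J = m then 1 else 0 := by
        have hJQ : ∀ a ∈ J, ∀ q : Q, a • q = 0 := fun a ha q => eJ.injective (by
          obtain ⟨c, hc⟩ := Ideal.Quotient.mk_surjective (eJ q)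
          rw [map_smul, map_zero, ← hc, Algebra.smul_def, Ideal.Quotient.algebraMap_eq, Ideal.Quotient.eq_zero_iff_mem.2 ha, zero_mul])
        split_ifs with hJm
        · subst hJm
          have hid : IsLocalizedModule J.primeCompl (LinearMap.id : Q →ₗ[R] Q) := by
            refine ⟨fun t => (Module.End.isUnit_iff _).2 ?_, fun y => ⟨⟨y, 1⟩, by simp⟩, fun {x y} h => ⟨1, by simpa using h⟩⟩
            obtain ⟨c, a, ha, hca⟩ := Ideal.IsMaximal.exists_inv hJ t.2
            have hinv : ∀ q : Q, c • ((t : R) • q) = q := fun q => by
              conv_rhs => rw [← one_smul R q, ← hca, add_smul, hJQ a ha, add_zero, mul_smul]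
            exact Function.bijective_iff_has_inverse.2 ⟨fun q => c • q, fun q => hinv q,
              fun q => by show (t : R) • c • q = q; rw [smul_comm, hinv]⟩
          let e : LocalizedModule J.primeCompl Q ≃ₗ[R] Q := IsLocalizedModule.iso J.primeCompl (LinearMap.id : Q →ₗ[R] Q)
          have hs2 : IsSimpleModule R (LocalizedModule J.primeCompl Q) := IsSimpleModule.congr e
          have : Nontrivial (LocalizedModule J.primeCompl Q) := IsSimpleModule.nontrivial R _
          rw [Module.length_eq_one_iff, isSimpleModule_iff]
          refine { eq_bot_or_eq_top := fun N => ?_ }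
          refine (eq_bot_or_eq_top (N.restrictScalars R)).imp (fun h => ?_) (fun h => ?_)
          · exact (Submodule.restrictScalars_eq_bot_iff R _ _).1 h
          · exact (Submodule.restrictScalars_eq_top_iff R _ _).1 h
        · rw [Module.length_eq_zero_iff]
          obtain ⟨a, ha, ha'⟩ := SetLike.not_le_iff_exists.1 (fun hle => hJm (hJ.eq_of_le ‹m.IsMaximal›.ne_top hle))
          exact LocalizedModule.subsingleton_iff.2 fun q => ⟨a, ha', hJQ a ha q⟩
      rw [hstep, ← hcol]
      have hset : (Finset.univ.filter fun j : Fin s.length => j.castSucc < i.succ ∧ (s j.castSucc).colon (s j.succ : Set M) = m) =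
          (Finset.univ.filter fun j : Fin s.length => j.castSucc < i.castSucc ∧ (s j.castSucc).colon (s j.succ : Set M) = m) ∪
            (if A.colon (B : Set M) = m then {i} else ∅) := by
        ext j
        simp only [Finset.mem_filter, Finset.mem_univ, true_and, Finset.mem_union, Fin.castSucc_lt_succ_iff, Fin.castSucc_lt_castSucc_iff]
        by_cases hji : j = i
        · subst hji; split_ifs with h <;> simp [A, B, h] <;> exact h
        · split_ifs <;> simp [hji, le_iff_lt_or_eq]
      rw [hset, Finset.card_union_of_disjoint (by split_ifs <;> simp)]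
      split_ifs <;> simp
  rw [htop, ← key]
  congr 2
  ext i
  simp [Fin.castSucc_lt_last]

end Groth.Agent.S6329
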