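import Groth.Statements.S6330
import Mathlib.RingTheory.Support
import Mathlib.RingTheory.LocalRing.Module
import Mathlib.RingTheory.LocalProperties.Projective
import Mathlib.RingTheory.Spectrum.Prime.Topology
import Mathlib.RingTheory.Localization.Away.Basic
import Mathlib.RingTheory.Localization.Finiteness
import Mathlib.Algebra.Module.Projective
-- import your own Groth.Agent.* helpers here

set_option autoImplicit false
universe u
open scoped TensorProduct
open CAlg

namespace Groth.Agent.S6330

/-- Let R be a ring and φ : P₁ → P₂ a map of finite projective R-modules. The set W of primes p of R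
such that φ ⊗ κ(p) is surjective is open, and for every f ∈ R with D(f) ⊆ W the map (P₁)_f → (P₂)_f
is surjective and Ker(φ)_f is a finite projective module over R_f. -/
theorem result {R : Type u} [CommRing R] {P₁ P₂ : Type u} [AddCommGroup P₁] [Module R P₁] [AddCommGroup P₂] [Module R P₂] [Module.Finite R P₁] [Module.Projective R P₁] [Module.Finite R P₂] [Module.Projective R P₂] (φ : P₁ →ₗ[R] P₂) : IsOpen {p : PrimeSpectrum R | Function.Surjective (φ.lTensor p.asIdeal.ResidueField)} ∧ ∀ f : R, (↑(PrimeSpectrum.basicOpen f) : Set (PrimeSpectrum R)) ⊆ {p : PrimeSpectrum R | Function.Surjective (φ.lTensor p.asIdeal.ResidueField)} → Function.Surjective (LocalizedModule.map (Submonoid.powers f) φ) ∧ Module.Finite (Localization.Away f) (LocalizedModule (Submonoid.powers f) (LinearMap.ker φ)) ∧ Module.Projective (Localization.Away f) (LocalizedModule (Submonoid.powers f) (LinearMap.ker φ)) := by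
  classical
  let Q := P₂ ⧸ LinearMap.range φ
  have hW : {p : PrimeSpectrum R | Function.Surjective (φ.lTensor p.asIdeal.ResidueField)} = (Module.support R Q)ᶜ := by
    ext p
    simp only [Set.mem_setOf_eq, Set.mem_compl_iff, Q]
    rw [Module.mem_support_iff_nontrivial_residueField_tensorProduct, not_nontrivial_iff_subsingleton]
    have hex := lTensor_exact p.asIdeal.ResidueField (LinearMap.exact_map_mkQ_range φ) (Submodule.mkQ_surjective _)
    constructor
    · intro h
      refine subsingleton_of_forall_eq 0 fun z => ?_
      obtain ⟨y, rfl⟩ := LinearMap.lTensor_surjective _ (Submodule.mkQ_surjective (LinearMap.range φ)) z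
      exact (hex y).2 (h y)
    · intro h y
      exact (hex y).1 (Subsingleton.elim _ _)
  refine ⟨hW ▸ (Module.support_eq_zeroLocus (R := R) (M := Q) ▸ PrimeSpectrum.isClosed_zeroLocus _).isOpen_compl, fun f hf => ?_⟩
  rw [hW] at hf
  have hrad : f ∈ (Module.annihilator R Q).radical := by
    rw [Ideal.radical_eq_sInf, Ideal.mem_sInf]
    rintro q ⟨hq, hqp⟩
    by_contra hfq
    refine hf (show (⟨q, hqp⟩ : PrimeSpectrum R) ∈ PrimeSpectrum.basicOpen f from hfq) ?_
    rw [Module.support_eq_zeroLocus]
    exact (PrimeSpectrum.mem_zeroLocus _ _).2 hq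
  obtain ⟨n, hn⟩ := hrad
  have hmem : ∀ y, f ^ n • y ∈ LinearMap.range φ := fun y => by
    rw [← Submodule.Quotient.mk_eq_zero, Submodule.Quotient.mk_smul]
    exact Module.mem_annihilator.1 hn _
  obtain ⟨s, hs⟩ := Module.projective_lifting_property φ.rangeRestrict ((f ^ n • LinearMap.id (R := R) (M := P₂)).codRestrict _ hmem)
    φ.surjective_rangeRestrict
  have hs' : ∀ y, φ (s y) = f ^ n • y := fun y => congrArg Subtype.val (LinearMap.congr_fun hs y)
  let S := Submonoid.powers f
  have hfn : IsUnit (algebraMap R (Localization S) (f ^ n)) := IsLocalization.map_units _ (⟨f ^ n, n, rfl⟩ : S)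
  let r : P₁ →ₗ[R] LinearMap.ker φ := (f ^ n • LinearMap.id - s ∘ₗ φ).codRestrict _ (fun x => by simp [hs'])
  have hr : ∀ x : LinearMap.ker φ, r x.1 = f ^ n • x := fun x => Subtype.ext (by
    simp [r, show φ x.1 = 0 from x.2])
  have hsplit : ((↑hfn.unit⁻¹ : Localization S) • LocalizedModule.map S r) ∘ₗ LocalizedModule.map S (LinearMap.ker φ).subtype = LinearMap.id := by
    refine LinearMap.ext fun z => ?_
    rw [LinearMap.comp_apply, LinearMap.smul_apply, LinearMap.id_apply]
    induction z using LocalizedModule.induction_on with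
    | h a t =>
      rw [LocalizedModule.map_mk, LocalizedModule.map_mk, Submodule.subtype_apply, hr, ← LocalizedModule.smul'_mk, ← algebraMap_smul (Localization S) (f ^ n), smul_smul]
      rw [IsUnit.val_inv_mul, one_smul]
  haveI : Module.Finite (Localization S) (LocalizedModule S P₁) := Module.Finite.of_isLocalizedModule S (LocalizedModule.mkLinearMap S _)
  refine ⟨fun y => ⟨(↑hfn.unit⁻¹ : Localization S) • LocalizedModule.map S s y, ?_⟩, ?_, Module.Projective.of_split _ _ hsplit⟩
  · rw [map_smul]
    induction y using LocalizedModule.induction_on with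
    | h a t =>
      rw [LocalizedModule.map_mk, LocalizedModule.map_mk, hs', ← LocalizedModule.smul'_mk, ← algebraMap_smul (Localization S) (f ^ n), smul_smul]
      rw [IsUnit.val_inv_mul, one_smul]
  · exact Module.Finite.of_surjective ((↑hfn.unit⁻¹ : Localization S) • LocalizedModule.map S r) (fun z => ⟨LocalizedModule.map S (LinearMap.ker φ).subtype z, LinearMap.congr_fun hsplit z⟩)

end Groth.Agent.S6330
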