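import Groth.Statements.S6331
import Mathlib.RingTheory.Ideal.Quotient.Basic
import Mathlib.Dynamics.Newton


-- import your own Groth.Agent.* helpers here

set_option autoImplicit false
universe u
open CAlg

namespace Groth.Agent.S6331

/-- Let R be a ring, I ⊆ R an ideal all of whose elements are nilpotent, and n ≥ 1 an integer whose
image in R/I is invertible. Then (1) raising to the n-th power is a bijection of the subset 1 + I of
R onto itself: for every y ∈ I there is exactly one x ∈ I with (1 + x)ⁿ = 1 + y; (2) a unit u of R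
has an n-th root in R exactly when the residue class of u has an n-th root in R/I. -/
theorem result {R : Type u} [CommRing R] (I : Ideal R) (hI : ∀ x ∈ I, IsNilpotent x) (n : ℕ) (hn : 1 ≤ n) (hinv : IsUnit ((n : ℕ) : R ⧸ I)) : (∀ y ∈ I, ∃! x : R, x ∈ I ∧ (1 + x) ^ n = 1 + y) ∧ (∀ u : Rˣ, (∃ v : R, v ^ n = (u : R)) ↔ ∃ w : R ⧸ I, w ^ n = Ideal.Quotient.mk I (u : R)) := by
  have hnU : IsUnit (n : R) := by
    obtain ⟨v, hv⟩ := isUnit_iff_exists_inv.1 hinv
    obtain ⟨v, rfl⟩ := Ideal.Quotient.mk_surjective v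
    have h1 : IsNilpotent ((n : R) * v - 1) := hI _ ((Ideal.Quotient.eq_zero_iff_mem).1 (by simp [hv]))
    have h2 := h1.isUnit_add_one
    rw [sub_add_cancel] at h2
    exact isUnit_of_mul_isUnit_left h2
  have newton : ∀ a c : R, IsNilpotent (a ^ n - c) → IsUnit a → ∃! r, IsNilpotent (a - r) ∧ r ^ n = c := by
    intro a c h ha
    have := Polynomial.existsUnique_nilpotent_sub_and_aeval_eq_zero (R := R) (P := Polynomial.X ^ n - Polynomial.C c) (x := a)
      (by simpa using h) (by simpa [Polynomial.derivative_X_pow] using hnU.mul (ha.pow (n - 1)))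
    simpa [sub_eq_zero] using this
  refine ⟨fun y hy => ?_, fun u => ⟨fun ⟨v, hv⟩ => ⟨Ideal.Quotient.mk I v, by rw [← map_pow, hv]⟩, ?_⟩⟩
  · obtain ⟨r, ⟨hr, hrn⟩, huniq⟩ := newton 1 (1 + y) (by simpa using (hI y hy).neg) isUnit_one
    refine ⟨r - 1, ⟨?_, by simpa using hrn⟩, fun z ⟨hz, hzn⟩ => ?_⟩
    · have hx : IsNilpotent (r - 1) := by simpa using hr.neg
      have hsum : (∑ i ∈ Finset.range n, r ^ i) * (r - 1) = y := by rw [geom_sum_mul, hrn, add_sub_cancel_left]
      have hu : IsUnit (∑ i ∈ Finset.range n, r ^ i) := by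
        have : IsNilpotent (∑ i ∈ Finset.range n, (r ^ i - 1)) :=
          isNilpotent_sum fun i _ => by rw [← geom_sum_mul r i]; exact Commute.isNilpotent_mul_left (Commute.all _ _) hx
        rw [Finset.sum_sub_distrib, Finset.sum_const, Finset.card_range, nsmul_one] at this
        simpa using this.isUnit_add_right_of_commute hnU (Commute.all _ _)
      exact (I.mul_unit_mem_iff_mem hu).1 (by rw [mul_comm, hsum]; exact hy)
    · rw [← huniq (1 + z) ⟨by simpa using (hI z hz).neg, hzn⟩, add_sub_cancel_left]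
  · rintro ⟨w, hw⟩
    obtain ⟨w, rfl⟩ := Ideal.Quotient.mk_surjective w
    rw [← map_pow, Ideal.Quotient.eq] at hw
    have hwu : IsUnit w := by
      have := (hI _ hw).isUnit_add_right_of_commute u.isUnit (Commute.all _ _)
      rw [sub_add_cancel] at this
      exact (isUnit_pow_iff (by omega : n ≠ 0)).1 this
    obtain ⟨r, ⟨_, hr⟩, -⟩ := newton w u (hI _ hw) hwu
    exact ⟨r, hr⟩

end Groth.Agent.S6331
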