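import Groth.Statements.S6333
import Groth.Agent.FieldsMiscLib.Basic

set_option autoImplicit false
universe u
open Fields

namespace Groth.Agent.S6333

/-- For a finitely generated field extension K/k, the algebraic closure of k inside K is a finite
extension of k. -/
theorem result {k K : Type u} [Field k] [Field K] [Algebra k K]
    (hfg : (⊤ : IntermediateField k K).FG) :
    FiniteDimensional k (algebraicClosure k K) := by
  exact FieldsMiscLib.algebraicClosure_finite_of_fg hfg

end Groth.Agent.S6333
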