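import Groth.Statements.S6337
import Groth.Agent.ProjLib.MLOps

set_option autoImplicit false
universe u
open CAlg

namespace Groth.Agent.S6337

/-- A direct sum of modules is Mittag-Leffler if and only if each summand is Mittag-Leffler. -/
theorem result (R : Type u) [CommRing R] {ι : Type u} (M : ι → Type u)
    [∀ i, AddCommGroup (M i)] [∀ i, Module R (M i)] :
    CAlg.IsMittagLeffler R (DirectSum ι M) ↔ ∀ i, CAlg.IsMittagLeffler R (M i) := by
  classical
  refine ⟨fun h i => ProjLib.IsMittagLeffler.of_retract h (DirectSum.lof R ι M i)
    (DirectSum.component R ι M i) (LinearMap.ext fun x => by simp), ProjLib.isMittagLeffler_directSum M⟩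

end Groth.Agent.S6337
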