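import Groth.Statements.S6350
import Mathlib

-- import your own Groth.Agent.* helpers here

set_option autoImplicit false
universe u
open scoped TensorProduct
open CAlg

namespace Groth.Agent.S6350

/-- Let (R, m) be a local ring with nilpotent maximal ideal and M a flat R-module. A family of elements
of M is a basis of M over R if and only if its image is a basis of the R/m-vector space M/mM = R/m ⊗
M. -/
theorem result (R : Type u) [CommRing R] [IsLocalRing R]
    (hnil : IsNilpotent (IsLocalRing.maximalIdeal R)) (M : Type u) [AddCommGroup M] [Module R M] [Module.Flat R M]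
    {A : Type u} (x : A → M) :
    (LinearIndependent R x ∧ Submodule.span R (Set.range x) = ⊤) ↔
      (LinearIndependent (R ⧸ IsLocalRing.maximalIdeal R)
          (fun a => (1 : R ⧸ IsLocalRing.maximalIdeal R) ⊗ₜ[R] x a) ∧
        Submodule.span (R ⧸ IsLocalRing.maximalIdeal R)
          (Set.range fun a => (1 : R ⧸ IsLocalRing.maximalIdeal R) ⊗ₜ[R] x a) = ⊤) := by
  classical
  let m := IsLocalRing.maximalIdeal R
  let S := Submodule.span R (Set.range x)
  constructor
  · rintro ⟨hli, hsp⟩
    let b := (Module.Basis.mk hli hsp.ge).baseChange (R ⧸ IsLocalRing.maximalIdeal R)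
    have e : ∀ a, b a = (1 : R ⧸ IsLocalRing.maximalIdeal R) ⊗ₜ[R] x a := fun a => by simp [b]
    refine ⟨?_, ?_⟩
    · simpa [funext e] using b.linearIndependent
    · have := b.span_eq
      rwa [show Set.range b = Set.range fun a => (1 : R ⧸ IsLocalRing.maximalIdeal R) ⊗ₜ[R] x a from congrArg Set.range (funext e)] at this
  · rintro ⟨hli, hsp⟩
    refine ⟨Module.IsLocalRing.linearIndependent_of_flat x hli, ?_⟩
    let q := (TensorProduct.quotTensorEquivQuotSMul M m).toLinearMap
    have h1 : Submodule.span R (Set.range fun a => (1 : R ⧸ m) ⊗ₜ[R] x a) = ⊤ := by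
      rw [← Submodule.restrictScalars_span R (R ⧸ m) Ideal.Quotient.mk_surjective, hsp, Submodule.restrictScalars_top]
    have h2 : S ⊔ m • (⊤ : Submodule R M) = ⊤ := by
      have h3 : (S.map (Submodule.mkQ (m • (⊤ : Submodule R M)))) = ⊤ := by
        rw [show S.map (Submodule.mkQ (m • (⊤ : Submodule R M))) = (Submodule.span R (Set.range fun a => (1 : R ⧸ m) ⊗ₜ[R] x a)).map q by
          rw [Submodule.map_span, Submodule.map_span, ← Set.range_comp, ← Set.range_comp]
          congr 2
          funext a
          simp [q]]
        rw [h1, Submodule.map_top]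
        exact LinearMap.range_eq_top.2 (TensorProduct.quotTensorEquivQuotSMul M m).surjective
      rw [sup_comm, ← Submodule.comap_map_mkQ, h3, Submodule.comap_top]
    have key : ∀ n : ℕ, (⊤ : Submodule R M) ≤ S ⊔ m ^ n • ⊤ := by
      intro n
      induction n with
      | zero => simp
      | succ n ih =>
        refine ih.trans (sup_le le_sup_left ?_)
        rw [← h2, Submodule.smul_sup, ← Submodule.mul_smul, ← pow_succ, h2]
        exact sup_le (Submodule.smul_le_right.trans le_sup_left) le_sup_right
    obtain ⟨n, hn⟩ := hnil
    exact top_le_iff.1 ((key n).trans (by rw [hn, Ideal.zero_eq_bot, Submodule.bot_smul, sup_bot_eq]))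

end Groth.Agent.S6350
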