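import Groth.Statements.S6351
import Groth.Agent.FlatCrit.Basic
import Groth.Agent.KFlatLib.CxFlat
import Mathlib.LinearAlgebra.TensorProduct.Quotient


-- import your own Groth.Agent.* helpers here

set_option autoImplicit false
universe u
open scoped TensorProduct
open CAlg

namespace Groth.Agent.S6351

/-- Let I be a nilpotent ideal of a commutative ring R and M an R-module with Tor_1^R(R/I, M) = 0, i.e.
I ⊗_R M → M injective. If a family of elements of M maps to a basis of the R/I-module M/IM = R/I ⊗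
M, then it is a basis of M over R. -/
theorem result (R : Type u) [CommRing R] (I : Ideal R)
    (hI : IsNilpotent I) (M : Type u) [AddCommGroup M] [Module R M]
    (htor : Function.Injective ((Submodule.subtype I).rTensor M)) {A : Type u} (x : A → M)
    (hli : LinearIndependent (R ⧸ I) (fun a => (1 : R ⧸ I) ⊗ₜ[R] x a))
    (hsp : Submodule.span (R ⧸ I) (Set.range fun a => (1 : R ⧸ I) ⊗ₜ[R] x a) = ⊤) :
    LinearIndependent R x ∧ Submodule.span R (Set.range x) = ⊤ := by
  classical
  obtain ⟨n, hn⟩ := hI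
  have hflatI : Module.Flat (R ⧸ I) ((R ⧸ I) ⊗[R] M) := Module.Flat.of_linearEquiv
    (Module.Basis.mk hli hsp.ge).repr
  have h1 : Function.Injective (LinearMap.lTensor M (I : Submodule R R).subtype) := by
    rw [LinearMap.lTensor_inj_iff_rTensor_inj]; exact htor
  haveI : Module.Flat R M := Module.Flat.iff_lTensor_injective'.2 fun K =>
    FlatCrit.injective_of_pow_smul_le h1 hflatI n K (by rw [hn, Submodule.zero_eq_bot, Submodule.bot_smul]; exact bot_le)
  have hnak : ∀ {P : Type u} [AddCommGroup P] [Module R P] (N : Submodule R P), ⊤ ≤ N ⊔ I • ⊤ → N = ⊤ := by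
    intro P _ _ N h
    have hk : ∀ k : ℕ, ⊤ ≤ N ⊔ I ^ k • (⊤ : Submodule R P) := by
      intro k
      induction k with
      | zero => rw [pow_zero, Ideal.one_eq_top, Submodule.top_smul]; exact le_sup_right
      | succ k ih =>
        refine h.trans (sup_le le_sup_left ?_)
        refine (Submodule.smul_mono le_rfl ih).trans ?_
        rw [Submodule.smul_sup, ← mul_smul, ← pow_succ']
        exact sup_le_sup_right Submodule.smul_le_right _
    have h2 := hk n
    rw [hn, Submodule.zero_eq_bot, Submodule.bot_smul, sup_bot_eq] at h2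
    exact top_le_iff.1 h2
  have hzero : ∀ {P : Type u} [AddCommGroup P] [Module R P], (⊤ : Submodule R P) ≤ ⊥ ⊔ I • ⊤ → ∀ y : P, y = 0 := by
    intro P _ _ h y
    have h2 := hnak (⊥ : Submodule R P) h
    exact (Submodule.mem_bot R).1 (h2.symm ▸ Submodule.mem_top)
  let e := TensorProduct.quotTensorEquivQuotSMul M I
  have hspan : Submodule.span R (Set.range x) = ⊤ := by
    refine hnak _ fun m _ => ?_
    have hm : (1 : R ⧸ I) ⊗ₜ[R] m ∈ Submodule.span (R ⧸ I) (Set.range fun a => (1 : R ⧸ I) ⊗ₜ[R] x a) := hsp ▸ Submodule.mem_top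
    have hall : ∀ w ∈ Submodule.span (R ⧸ I) (Set.range fun a => (1 : R ⧸ I) ⊗ₜ[R] x a),
        ∃ v ∈ Submodule.span R (Set.range x), w = (1 : R ⧸ I) ⊗ₜ[R] v := by
      intro w hw
      induction hw using Submodule.span_induction with
      | mem y hy => obtain ⟨a, rfl⟩ := hy; exact ⟨x a, Submodule.subset_span ⟨a, rfl⟩, rfl⟩
      | zero => exact ⟨0, zero_mem _, (TensorProduct.tmul_zero _ _).symm⟩
      | add y z _ _ hy hz =>
        obtain ⟨v, hv, rfl⟩ := hy; obtain ⟨v', hv', rfl⟩ := hz
        exact ⟨v + v', add_mem hv hv', (TensorProduct.tmul_add _ _ _).symm⟩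
      | smul c y _ hy =>
        obtain ⟨v, hv, rfl⟩ := hy
        obtain ⟨c, rfl⟩ := Ideal.Quotient.mk_surjective c
        exact ⟨c • v, Submodule.smul_mem _ _ hv, by rw [TensorProduct.tmul_smul, ← Ideal.Quotient.algebraMap_eq, algebraMap_smul]⟩
    obtain ⟨v, hv, hmv⟩ := hall _ hm
    have h3 := congrArg e hmv
    simp only [e, ← map_one (Ideal.Quotient.mk I)] at h3
    rw [TensorProduct.quotTensorEquivQuotSMul_mk_tmul (r := (1 : R)) (I := I) (x := m), TensorProduct.quotTensorEquivQuotSMul_mk_tmul (r := (1 : R)) (I := I) (x := v),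
      one_smul, one_smul, Submodule.Quotient.eq] at h3
    rw [← add_sub_cancel v m]
    exact Submodule.add_mem_sup hv h3
  refine ⟨?_, hspan⟩
  let φ : (A →₀ R) →ₗ[R] M := Finsupp.linearCombination R x
  have hφ : Function.Surjective φ := LinearMap.range_eq_top.1 (by rw [Finsupp.range_linearCombination, hspan])
  let N := LinearMap.ker φ
  have hinj := KFlatLib.rTensor_injective_of_flat_quotient (K := N) (B := A →₀ R) (Q := M) N.subtype φ N.injective_subtype (LinearMap.exact_subtype_ker_map φ) hφ (R ⧸ I)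
  show Function.Injective φ
  rw [← LinearMap.ker_eq_bot]
  suffices hN : (⊤ : Submodule R N) ≤ ⊥ ⊔ I • ⊤ by
    exact (Submodule.eq_bot_iff _).2 fun v hv => congrArg Subtype.val (hzero (P := N) hN ⟨v, hv⟩)
  rw [bot_sup_eq]
  intro v _
  refine ((Submodule.Quotient.mk_eq_zero (M := ↥N) (x := v) (I • ⊤))).1 ?_
  refine (TensorProduct.tensorQuotEquivQuotSMul N I).symm.injective ?_
  rw [map_zero, TensorProduct.tensorQuotEquivQuotSMul_symm_mk]
  refine hinj ?_
  rw [map_zero, LinearMap.rTensor_tmul]
  have hv : ∑ a ∈ (v : A →₀ R).support, (Ideal.Quotient.mk I ((v : A →₀ R) a)) • ((1 : R ⧸ I) ⊗ₜ[R] x a) = 0 := by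
    simp only [← Ideal.Quotient.algebraMap_eq, algebraMap_smul, ← TensorProduct.tmul_smul, ← TensorProduct.tmul_sum]
    rw [show ∑ a ∈ (v : A →₀ R).support, (v : A →₀ R) a • x a = φ v from (Finsupp.linearCombination_apply R _).symm, LinearMap.mem_ker.1 v.2,
      TensorProduct.tmul_zero]
  have hcoef := linearIndependent_iff'.1 hli _ _ hv
  rw [show N.subtype v = ∑ a ∈ (v : A →₀ R).support, (v : A →₀ R) a • Finsupp.single a (1 : R) by
    simp only [Finsupp.smul_single, smul_eq_mul, mul_one]; exact (v : A →₀ R).sum_single.symm, TensorProduct.sum_tmul]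
  refine Finset.sum_eq_zero fun a ha => ?_
  rw [TensorProduct.smul_tmul, Algebra.smul_def, mul_one, Ideal.Quotient.algebraMap_eq, hcoef a ha, TensorProduct.tmul_zero]

end Groth.Agent.S6351
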