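import Groth.Statements.S6352
import Groth.Agent.S6384
import Groth.Agent.FlatBCLib.Basic


-- import your own Groth.Agent.* helpers here

set_option autoImplicit false
universe u
open scoped TensorProduct
open CAlg

namespace Groth.Agent.S6352

/-- Let R → R' be an injective ring map, I ⊆ R a nilpotent ideal and M an R-module. Then flatness of M
over R follows from flatness of M/IM over R/I together with flatness of R' ⊗_R M over R'. -/
theorem result (R R' : Type u) [CommRing R] [CommRing R']
    [Algebra R R'] (hinj : Function.Injective (algebraMap R R')) (I : Ideal R) (hI : IsNilpotent I)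
    (M : Type u) [AddCommGroup M] [Module R M] [Module.Flat (R ⧸ I) ((R ⧸ I) ⊗[R] M)]
    [Module.Flat R' (R' ⊗[R] M)] : Module.Flat R M := by
  obtain ⟨N, hN⟩ := hI
  have step : ∀ k : ℕ, ∃ J : Ideal R, Module.Flat (R ⧸ J) ((R ⧸ J) ⊗[R] M) ∧
      J.map (algebraMap R R') ≤ (I.map (algebraMap R R')) ^ (2 ^ k) := by
    intro k
    induction k with
    | zero => exact ⟨I, inferInstance, by simp⟩
    | succ k ih =>
      obtain ⟨J, hJ, hle⟩ := ih
      refine ⟨((J ^ 2).map (algebraMap R R')).comap (algebraMap R R'),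
        Groth.Agent.S6384.result R R' J M, Ideal.map_comap_le.trans ?_⟩
      rw [Ideal.map_pow, show 2 ^ (k + 1) = 2 ^ k * 2 from pow_succ 2 k, pow_mul]
      exact Ideal.pow_right_mono hle 2
  obtain ⟨J, hJ, hle⟩ := step N
  have h0 : J = ⊥ := by
    have h1 : (I.map (algebraMap R R')) ^ (2 ^ N) = ⊥ := by
      rw [← Ideal.map_pow, show I ^ (2 ^ N) = ⊥ from le_bot_iff.1 ((Ideal.pow_le_pow_right Nat.lt_two_pow_self.le).trans hN.le),
        Ideal.map_bot]
    rw [h1, le_bot_iff, Ideal.map_eq_bot_iff_le_ker, (RingHom.injective_iff_ker_eq_bot _).1 hinj, le_bot_iff] at hle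
    exact hle
  subst h0
  refine Module.Flat.iff_rTensor_injective'.mpr fun b => ?_
  exact FlatBCLib.rTensor_injective_of_smul_eq_zero (M := M) (I := ⊥)
    (fun r hr x => by rw [(Ideal.mem_bot.1 hr), zero_smul]) (fun r hr x => by rw [(Ideal.mem_bot.1 hr), zero_smul])
    b.subtype b.injective_subtype

end Groth.Agent.S6352
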