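import Groth.Statements.S6353
import Mathlib


-- import your own Groth.Agent.* helpers here

set_option autoImplicit false
universe u
open CAlg

namespace Groth.Agent.S6353

open PrimeSpectrum in
/-- For a commutative ring R, I ↦ V(I) is a bijection between pure ideals (R/I flat over R) and closed
subsets of Spec R stable under generalization. Stated here as: V(I) is stable under generalization
for I pure, and every closed generalization-stable subset is V(I) for some pure I (injectivity on
pure ideals being the standard fact that pure ideals with the same zero locus coincide). -/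
theorem result (R : Type u) [CommRing R] :
    (∀ I : Ideal R, I.Pure → StableUnderGeneralization (zeroLocus (I : Set R))) ∧
      ∀ Z : Set (PrimeSpectrum R), IsClosed Z → StableUnderGeneralization Z →
        ∃ I : Ideal R, I.Pure ∧ zeroLocus (I : Set R) = Z := by
  refine ⟨fun I hI x y hyx hx a ha => ?_, fun Z hZ hgen => ?_⟩
  · have hker := Ideal.le_ker_atPrime_of_forall_exists_eq_mul (fun z hz => @Ideal.exists_eq_mul_of_pure R _ I hI z hz) (p := x.asIdeal) (hle := hx) ha
    obtain ⟨⟨s, hs⟩, hsa⟩ := (IsLocalization.map_eq_zero_iff x.asIdeal.primeCompl _ a).1 hker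
    exact (y.isPrime.mem_or_mem (show s * a ∈ y.asIdeal by rw [show s * a = 0 from hsa]; exact zero_mem _)).resolve_left fun h => hs ((PrimeSpectrum.le_iff_specializes y x).2 hyx h)
  · let I : Ideal R :=
      { carrier := {a | ∀ p ∈ Z, ∃ t, t ∉ p.asIdeal ∧ t * a = 0}
        zero_mem' := fun p _ => ⟨1, fun h => p.isPrime.ne_top ((Ideal.eq_top_iff_one _).2 h), mul_zero _⟩
        add_mem' := fun {a b} ha hb p hp => by
          obtain ⟨t, ht, e⟩ := ha p hp
          obtain ⟨t', ht', e'⟩ := hb p hp
          exact ⟨t * t', fun h => (p.isPrime.mem_or_mem h).elim ht ht', by linear_combination t' * e + t * e'⟩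
        smul_mem' := fun r a ha p hp => by
          obtain ⟨t, ht, e⟩ := ha p hp
          exact ⟨t, ht, by rw [smul_eq_mul, mul_left_comm, e, mul_zero]⟩ }
    obtain ⟨J, rfl⟩ := (isClosed_iff_zeroLocus_ideal Z).1 hZ
    have hpow : ∀ s ∈ J, ∃ N : ℕ, s ^ N ∈ I := by
      intro s hs
      let U : ℕ → Set (PrimeSpectrum R) := fun n => {p | ∃ t, t ∉ p.asIdeal ∧ t * s ^ n = 0}
      have hU : ∀ n, IsOpen (U n) := by
        intro n
        have : U n = ⋃ t : {t : R // t * s ^ n = 0}, (basicOpen t.1 : Set (PrimeSpectrum R)) := by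
          ext p; simp only [U, Set.mem_ofPred_eq, Set.mem_iUnion]; constructor
          · rintro ⟨t, h1, h2⟩; exact ⟨⟨t, h2⟩, h1⟩
          · rintro ⟨⟨t, h2⟩, h1⟩; exact ⟨t, h1, h2⟩
        rw [this]
        exact isOpen_iUnion fun t => (basicOpen t.1).isOpen
      have hcov : zeroLocus (J : Set R) ⊆ ⋃ n, U n := by
        intro p hp
        have hnil : IsNilpotent (algebraMap R (Localization.AtPrime p.asIdeal) s) := by
          rw [nilpotent_iff_mem_prime]
          intro Q hQ
          have hle : (Q.comap (algebraMap R (Localization.AtPrime p.asIdeal))) ≤ p.asIdeal := by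
            intro r hr
            by_contra hrp
            exact hQ.ne_top (Ideal.eq_top_of_isUnit_mem _ hr (IsLocalization.map_units (Localization.AtPrime p.asIdeal) (⟨r, hrp⟩ : p.asIdeal.primeCompl)))
          exact hgen ((PrimeSpectrum.le_iff_specializes ⟨_, Ideal.comap_isPrime _ Q⟩ p).1 hle) hp hs
        obtain ⟨n, hn⟩ := hnil
        rw [← map_pow] at hn
        obtain ⟨⟨t, ht⟩, e⟩ := (IsLocalization.map_eq_zero_iff p.asIdeal.primeCompl _ _).1 hn
        exact Set.mem_iUnion.2 ⟨n, t, ht, e⟩
      obtain ⟨N, hN⟩ := hZ.isCompact.elim_directed_cover U hU hcov (Monotone.directed_le fun m n hmn p ⟨t, ht, e⟩ =>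
        ⟨t, ht, by rw [← Nat.add_sub_cancel' hmn, pow_add, ← mul_assoc, e, zero_mul]⟩)
      exact ⟨N, fun p hp => hN hp⟩
    have hZI : zeroLocus (I : Set R) = zeroLocus (J : Set R) := by
      ext p
      refine ⟨fun h => ?_, fun h a ha => ?_⟩
      · intro s hs
        obtain ⟨N, hN⟩ := hpow s hs
        exact p.isPrime.mem_of_pow_mem N (h hN)
      · obtain ⟨t, ht, e⟩ := ha p h
        exact (p.isPrime.mem_or_mem (show t * a ∈ p.asIdeal by rw [e]; exact zero_mem _)).resolve_left ht
    refine ⟨I, Ideal.Pure.of_inf_eq_mul I fun J' _ => ?_, hZI⟩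
    refine le_antisymm (fun x hx => ?_) Ideal.mul_le_inf
    have htop : (⊥ : Ideal R).colon {x} ⊔ J = ⊤ := by
      by_contra hne
      obtain ⟨m, hm, hle⟩ := Ideal.exists_le_maximal _ hne
      obtain ⟨t, ht, e⟩ := hx.1 ⟨m, hm.isPrime⟩ ((le_sup_right).trans hle)
      exact ht (hle (Ideal.mem_sup_left (Submodule.mem_colon_singleton.2 (by simpa using e))))
    obtain ⟨a, ha, s, hs, e⟩ := Submodule.mem_sup.1 ((Ideal.eq_top_iff_one _).1 htop)
    have ha' : a * x = 0 := by simpa using Submodule.mem_colon_singleton.1 ha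
    have hxs : ∀ n : ℕ, x = s ^ n * x := by
      intro n
      induction n with
      | zero => simp
      | succ n ih => rw [pow_succ, mul_assoc, show s * x = x by linear_combination x * e - ha', ← ih]
    obtain ⟨N, hN⟩ := hpow s hs
    rw [hxs N]
    exact Ideal.mul_mem_mul hN hx.2

end Groth.Agent.S6353
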