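import Groth.Statements.S6355
import Mathlib.Tactic.LinearCombination
import Mathlib.RingTheory.LocalProperties.Projective
import Mathlib.RingTheory.LocalProperties.FinitePresentation
import Mathlib.RingTheory.Spectrum.Prime.FreeLocus


-- import your own Groth.Agent.* helpers here

set_option autoImplicit false
universe u
open CAlg

namespace Groth.Agent.S6355

/-- For a commutative ring R the following are equivalent: (1) every subset of Spec R which is closed
and stable under generalization is open; (2) every finite flat R-module is finite locally free, i.e.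
(for finite modules) projective. -/
theorem result (R : Type u) [CommRing R] :
    (∀ Z : Set (PrimeSpectrum R), IsClosed Z → StableUnderGeneralization Z → IsOpen Z) ↔
      ∀ (M : Type u) [AddCommGroup M] [Module R M], Module.Finite R M → Module.Flat R M →
        Module.Projective R M := by
  classical
  constructor
  · intro hZ M _ _ _ _
    have hfree : ∀ q : PrimeSpectrum R,
        Module.Free (Localization.AtPrime q.asIdeal) (LocalizedModule q.asIdeal.primeCompl M) :=
      fun q => Module.free_of_flat_of_isLocalRing
    -- near `p`, `rank p` elements generate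
    have hgen : ∀ p : PrimeSpectrum R, ∃ g : (Fin (Module.rankAtStalk M p) → R) →ₗ[R] M, ∃ h ∉ p.asIdeal,
        ∀ m, ∃ y, g y = h • m := by
      intro p
      let b := Module.finBasis (Localization.AtPrime p.asIdeal) (LocalizedModule p.asIdeal.primeCompl M)
      have hb : ∀ i, ∃ m : M, ∃ s : p.asIdeal.primeCompl, b i = LocalizedModule.mk m s := fun i => by
        induction b i using LocalizedModule.induction_on with
        | h m s => exact ⟨m, s, rfl⟩
      choose m s hms using hb
      let g : (Fin (Module.rankAtStalk M p) → R) →ₗ[R] M := Fintype.linearCombination R m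
      have key : ∀ x : M, ∃ t ∉ p.asIdeal, t • x ∈ LinearMap.range g := by
        intro x
        have hrepr := b.sum_repr (LocalizedModule.mkLinearMap p.asIdeal.primeCompl M x)
        have hmem : ∀ z : LocalizedModule p.asIdeal.primeCompl M,
            z ∈ Submodule.span (Localization.AtPrime p.asIdeal) (Set.range b) →
            z ∈ Submodule.localized' (Localization.AtPrime p.asIdeal) p.asIdeal.primeCompl
              (LocalizedModule.mkLinearMap p.asIdeal.primeCompl M) (LinearMap.range g) := by
          intro z hz
          refine (Submodule.span_le.2 ?_) hz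
          rintro _ ⟨i, rfl⟩
          rw [hms i]
          exact ⟨m i, ⟨Pi.single i 1, by simp [g, Fintype.linearCombination_apply_single]⟩, s i,
            by rw [IsLocalizedModule.mk_eq_mk']⟩
        obtain ⟨w, hw, t, ht⟩ := hmem (LocalizedModule.mkLinearMap p.asIdeal.primeCompl M x)
          (b.span_eq ▸ Submodule.mem_top)
        rw [IsLocalizedModule.mk'_eq_iff, Submonoid.smul_def, ← map_smul,
          IsLocalizedModule.eq_iff_exists p.asIdeal.primeCompl] at ht
        obtain ⟨c, hc⟩ := ht
        refine ⟨c * t, fun h => (p.isPrime.mem_or_mem h).elim c.2 t.2, ?_⟩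
        rw [mul_smul]
        show (c : R) • (t : R) • x ∈ _
        rw [← Submonoid.smul_def, ← hc]
        exact Submodule.smul_mem _ _ hw
      obtain ⟨S, hS⟩ := (Module.Finite.fg_top (R := R) (M := M))
      choose t ht ht' using key
      refine ⟨g, ∏ x ∈ S, t x, fun hmem => ?_, fun x => ?_⟩
      · obtain ⟨i, -, hi⟩ := p.isPrime.prod_mem_iff.1 hmem
        exact ht i hi
      · suffices ⊤ ≤ (LinearMap.range g).comap ((∏ x ∈ S, t x) • (LinearMap.id : M →ₗ[R] M)) from
          this (Submodule.mem_top (x := x))
        rw [← hS, Submodule.span_le]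
        intro y hy
        obtain ⟨r, hr⟩ := Finset.dvd_prod_of_mem t hy
        show (∏ x ∈ S, t x) • y ∈ LinearMap.range g
        rw [hr, mul_comm, mul_smul]
        exact Submodule.smul_mem _ _ (ht' y)
    have hsurjloc : ∀ (n : ℕ) (g : (Fin n → R) →ₗ[R] M) (h : R), (∀ m, ∃ y, g y = h • m) →
        ∀ q : PrimeSpectrum R, h ∉ q.asIdeal →
          Function.Surjective (LocalizedModule.map q.asIdeal.primeCompl g) := by
      intro n g h hg q hq z
      induction z using LocalizedModule.induction_on with
      | h m s =>
        obtain ⟨y, hy⟩ := hg m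
        refine ⟨LocalizedModule.mk y (⟨h, hq⟩ * s), ?_⟩
        rw [LocalizedModule.map_mk, hy]
        refine LocalizedModule.mk_eq.2 ⟨1, ?_⟩
        simp [Submonoid.smul_def, smul_smul, mul_comm]
    have hrankle : ∀ p : PrimeSpectrum R, ∀ h : R,
        (∃ g : (Fin (Module.rankAtStalk M p) → R) →ₗ[R] M, ∀ m, ∃ y, g y = h • m) →
        ∀ q : PrimeSpectrum R, h ∉ q.asIdeal → Module.rankAtStalk M q ≤ Module.rankAtStalk M p := by
      rintro p h ⟨g, hg⟩ q hq
      have h1 := LinearMap.finrank_range_le (LocalizedModule.map q.asIdeal.primeCompl g)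
      have hs := hsurjloc _ g h hg q hq
      rw [LinearMap.range_eq_top.2 hs, finrank_top] at h1
      refine h1.trans (le_of_eq ?_)
      have : Module.rankAtStalk (Fin (Module.rankAtStalk M p) → R) q = Module.rankAtStalk M p := by
        have : Nontrivial R := ⟨0, 1, fun h => q.isPrime.ne_top ((Ideal.eq_top_iff_one _).2 (h ▸ zero_mem q.asIdeal))⟩
        rw [Module.rankAtStalk_eq_finrank_of_free]; simp
      exact this
    have hopen : ∀ n, IsOpen {q : PrimeSpectrum R | n ≤ Module.rankAtStalk M q} := fun n => by
      refine hZ _ ?_ ?_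
      · refine isOpen_compl_iff.1 (isOpen_iff_forall_mem_open.2 fun p hp => ?_)
        obtain ⟨g, h, hh, hg⟩ := hgen p
        simp only [Set.mem_compl_iff, Set.mem_setOf_eq, not_le] at hp
        refine ⟨PrimeSpectrum.basicOpen h, fun q hq => ?_, (PrimeSpectrum.basicOpen h).isOpen, hh⟩
        simp only [Set.mem_compl_iff, Set.mem_setOf_eq, not_le]
        exact (hrankle p h ⟨g, hg⟩ q hq).trans_lt hp
      · intro x y hxy hx
        rw [Set.mem_setOf_eq] at hx ⊢
        rwa [Module.rankAtStalk_eq_of_le_of_finite_of_flat M ((PrimeSpectrum.le_iff_specializes y x).2 hxy)]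
    -- local freeness
    have hlocal : ∀ p : PrimeSpectrum R, ∃ h ∉ p.asIdeal,
        Module.FinitePresentation (Localization.Away h) (LocalizedModule.Away h M) := by
      intro p
      obtain ⟨g, h₀, hh₀, hg⟩ := hgen p
      obtain ⟨_, ⟨_, ⟨c, rfl⟩, rfl⟩, hpc, hc⟩ := PrimeSpectrum.isBasis_basic_opens.exists_subset_of_mem_open
        (show p ∈ {q | Module.rankAtStalk M p ≤ Module.rankAtStalk M q} by simp) (hopen _)
      let h := h₀ * c
      refine ⟨h, fun hh => (p.isPrime.mem_or_mem hh).elim hh₀ hpc, ?_⟩
      have hbij : Function.Bijective (LocalizedModule.map (Submonoid.powers h) g) := by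
        refine ⟨?_, fun z => ?_⟩
        · rw [injective_iff_map_eq_zero]
          intro z hz
          induction z using LocalizedModule.induction_on with
          | h y s =>
            rw [LocalizedModule.map_mk] at hz
            obtain ⟨⟨u, hu⟩, hu'⟩ := LocalizedModule.mk_eq.1 (hz.trans (LocalizedModule.zero_mk s).symm)
            simp only [smul_zero, Submonoid.smul_def] at hu'
            have hker : g (u • (s : R) • y) = 0 := by rw [map_smul, map_smul]; exact hu'
            let w := u • (s : R) • y
            have hzero : ∀ q : PrimeSpectrum R, h ∉ q.asIdeal → ∀ i, ∃ t ∉ q.asIdeal, t * w i = 0 := by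
              intro q hq i
              have hq₀ : h₀ ∉ q.asIdeal := fun hh => hq (q.asIdeal.mul_mem_right _ hh)
              have hqc : c ∉ q.asIdeal := fun hh => hq (q.asIdeal.mul_mem_left _ hh)
              have heq : Module.rankAtStalk M q = Module.rankAtStalk M p :=
                le_antisymm (hrankle p h₀ ⟨g, hg⟩ q hq₀) (hc hqc)
              let gq := LocalizedModule.map q.asIdeal.primeCompl g
              have hsq : Function.Surjective gq := hsurjloc _ g h₀ hg q hq₀
              have : Module.Free (Localization.AtPrime q.asIdeal)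
                  (LocalizedModule q.asIdeal.primeCompl (Fin (Module.rankAtStalk M p) → R)) :=
                Module.free_of_isLocalizedModule q.asIdeal.primeCompl (LocalizedModule.mkLinearMap _ _)
              obtain ⟨e⟩ : Nonempty (LocalizedModule q.asIdeal.primeCompl M ≃ₗ[Localization.AtPrime q.asIdeal]
                  LocalizedModule q.asIdeal.primeCompl (Fin (Module.rankAtStalk M p) → R)) := by
                refine ⟨LinearEquiv.ofFinrankEq _ _ ?_⟩
                have : Nontrivial R := ⟨0, 1, fun h => q.isPrime.ne_top ((Ideal.eq_top_iff_one _).2 (h ▸ zero_mem q.asIdeal))⟩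
                have h2 : Module.rankAtStalk (Fin (Module.rankAtStalk M p) → R) q =
                    Module.rankAtStalk M p := by
                  rw [Module.rankAtStalk_eq_finrank_of_free]; simp
                exact heq.trans h2.symm
              have hinj : Function.Injective (e.toLinearMap ∘ₗ gq) :=
                OrzechProperty.injective_of_surjective_endomorphism _ (e.surjective.comp hsq)
              have hw0 : LocalizedModule.mkLinearMap q.asIdeal.primeCompl _ w = 0 := hinj (by
                rw [map_zero, LinearMap.comp_apply, LocalizedModule.mkLinearMap_apply]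
                show e (LocalizedModule.map q.asIdeal.primeCompl g _) = 0
                rw [LocalizedModule.map_mk, hker, LocalizedModule.zero_mk, map_zero])
              obtain ⟨t, ht⟩ := (IsLocalizedModule.eq_zero_iff q.asIdeal.primeCompl _).1 hw0
              exact ⟨t, t.2, by simpa [Submonoid.smul_def] using congrFun ht i⟩
            have hrad : ∀ i, h ∈ (Submodule.annihilator (Submodule.span R {w i})).radical := by
              intro i
              rw [Ideal.radical_eq_sInf, Ideal.mem_sInf]
              rintro J ⟨hJ, hJp⟩
              by_contra hh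
              obtain ⟨t, ht, ht0⟩ := hzero ⟨J, hJp⟩ hh i
              exact ht (hJ ((Submodule.mem_annihilator_span_singleton _ _).2 (by simpa using ht0)))
            choose N hN using hrad
            obtain ⟨a, ha⟩ := (Submonoid.mem_powers_iff u h).1 hu
            obtain ⟨b, hb⟩ := (Submonoid.mem_powers_iff (s : R) h).1 s.2
            rw [← LocalizedModule.zero_mk s]
            refine LocalizedModule.mk_eq.2 ⟨⟨h ^ (∑ i, N i) * u, mul_mem (pow_mem (Submonoid.mem_powers h) _) hu⟩, ?_⟩
            simp only [smul_zero, Submonoid.smul_def]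
            rw [mul_smul]
            show h ^ (∑ i, N i) • w = 0
            funext i
            obtain ⟨d, hd⟩ := pow_dvd_pow h (Finset.single_le_sum (f := N) (fun _ _ => Nat.zero_le _) (Finset.mem_univ i))
            have := (Submodule.mem_annihilator_span_singleton _ _).1 (hN i)
            simp only [Pi.smul_apply, hd, mul_comm (h ^ N i) d, mul_smul, this, smul_zero, Pi.zero_apply]
        · induction z using LocalizedModule.induction_on with
          | h m s =>
            obtain ⟨y, hy⟩ := hg m
            refine ⟨LocalizedModule.mk (c • y) (⟨h, Submonoid.mem_powers h⟩ * s), ?_⟩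
            rw [LocalizedModule.map_mk, map_smul, hy]
            refine LocalizedModule.mk_eq.2 ⟨1, ?_⟩
            simp [Submonoid.smul_def, smul_smul, h, mul_comm, mul_left_comm]
      have : Module.Free (Localization.Away h) (LocalizedModule.Away h (Fin (Module.rankAtStalk M p) → R)) :=
        Module.free_of_isLocalizedModule (Submonoid.powers h) (LocalizedModule.mkLinearMap _ _)
      exact Module.FinitePresentation.of_equiv (LinearEquiv.ofBijective _ hbij)
    choose hh hh1 hh2 using hlocal
    have hspan : Ideal.span (Set.range hh) = ⊤ := by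
      by_contra hne
      obtain ⟨J, hJ, hle⟩ := Ideal.exists_le_maximal _ hne
      exact hh1 ⟨J, hJ.isPrime⟩ (hle (Ideal.subset_span ⟨_, rfl⟩))
    have : Module.FinitePresentation R M :=
      Module.FinitePresentation.of_localizationSpan _ hspan (by rintro ⟨_, p, rfl⟩; exact hh2 p)
    exact Module.projective_of_localization_maximal fun I hI => by
      have := hfree ⟨I, hI.isPrime⟩
      exact Module.Projective.of_free
  · intro hproj Z hcl hgen
    let J : Ideal R :=
      { carrier := {x | ∀ p ∈ Z, ∃ s ∉ p.asIdeal, s * x = 0}
        add_mem' := fun {x y} hx hy p hp => by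
          obtain ⟨s, hs, hsx⟩ := hx p hp
          obtain ⟨t, ht, hty⟩ := hy p hp
          exact ⟨s * t, fun h => (p.isPrime.mem_or_mem h).elim hs ht, by
            linear_combination t * hsx + s * hty⟩
        zero_mem' := fun p _ => ⟨1, fun h => p.isPrime.ne_top ((Ideal.eq_top_iff_one _).2 h), by simp⟩
        smul_mem' := fun c x hx p hp => by
          obtain ⟨s, hs, hsx⟩ := hx p hp
          exact ⟨s, hs, by rw [smul_eq_mul]; linear_combination c * hsx⟩ }
    have hsep : ∀ p q : PrimeSpectrum R, p ∉ Z → q ∈ Z → ∃ a b : R, a ∉ p.asIdeal ∧ b ∉ q.asIdeal ∧ b * a = 0 := by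
      intro p q hp hq
      by_contra hno
      push Not at hno
      let S := p.asIdeal.primeCompl ⊔ q.asIdeal.primeCompl
      have h0 : Disjoint ((⊥ : Ideal R) : Set R) (S : Set R) := by
        rw [Set.disjoint_left]
        intro z hz hzS
        obtain ⟨a, ha, b, hb, hab⟩ := Submonoid.mem_sup.1 hzS
        exact hno a b ha hb (by rw [mul_comm, hab]; exact hz)
      obtain ⟨r, hrp, -, hr⟩ := Ideal.exists_le_prime_disjoint _ _ h0
      have hr1 : (⟨r, hrp⟩ : PrimeSpectrum R) ≤ p := fun z hz => by_contra fun h =>
        Set.disjoint_left.1 hr hz ((le_sup_left : p.asIdeal.primeCompl ≤ S) h)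
      have hr2 : (⟨r, hrp⟩ : PrimeSpectrum R) ≤ q := fun z hz => by_contra fun h =>
        Set.disjoint_left.1 hr hz ((le_sup_right : q.asIdeal.primeCompl ≤ S) h)
      have hrZ : (⟨r, hrp⟩ : PrimeSpectrum R) ∈ Z := hgen ((PrimeSpectrum.le_iff_specializes _ _).1 hr2) hq
      exact hp (((PrimeSpectrum.le_iff_specializes _ _).1 hr1).mem_closed hcl hrZ)
    have hVJ : ∀ p : PrimeSpectrum R, p ∉ Z → ∃ x ∈ J, x ∉ p.asIdeal := by
      intro p hp
      choose a b ha hb hab using fun q : Z => hsep p q.1 hp q.2
      obtain ⟨T, hT⟩ := hcl.isCompact.elim_finite_subcover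
        (fun q : Z => (PrimeSpectrum.basicOpen (b q) : Set (PrimeSpectrum R)))
        (fun q => (PrimeSpectrum.basicOpen (b q)).isOpen)
        (fun q hq => Set.mem_iUnion.2 ⟨⟨q, hq⟩, hb ⟨q, hq⟩⟩)
      refine ⟨∏ i ∈ T, a i, fun q hq => ?_, fun h => ?_⟩
      · obtain ⟨i, hi, hqi⟩ := Set.mem_iUnion₂.1 (hT hq)
        exact ⟨b i, hqi, by rw [← Finset.mul_prod_erase T a hi, ← mul_assoc, hab, zero_mul]⟩
      · obtain ⟨i, -, hi⟩ := p.isPrime.prod_mem_iff.1 h
        exact ha i hi
    have hpure : ∀ x ∈ J, ∃ y ∈ J, y * x = x := by
      intro x hx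
      have htop : J ⊔ Submodule.annihilator (Submodule.span R {x}) = ⊤ := by
        by_contra hne
        obtain ⟨m, hm, hle⟩ := Ideal.exists_le_maximal _ hne
        by_cases hmZ : (⟨m, hm.isPrime⟩ : PrimeSpectrum R) ∈ Z
        · obtain ⟨s, hs, hsx⟩ := hx _ hmZ
          exact hs (hle (Ideal.mem_sup_right ((Submodule.mem_annihilator_span_singleton _ _).2
            (by simpa using hsx))))
        · obtain ⟨y, hy, hym⟩ := hVJ _ hmZ
          exact hym (hle (Ideal.mem_sup_left hy))
      obtain ⟨y, hy, z, hz, hyz⟩ := Submodule.mem_sup.1 ((Ideal.eq_top_iff_one _).1 htop)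
      have hzx : z * x = 0 := (Submodule.mem_annihilator_span_singleton _ _).1 hz
      exact ⟨y, hy, by linear_combination x * hyz - hzx⟩
    have : Module.Flat R (R ⧸ J) := by
      rw [Module.Flat.iff_lTensor_injective]
      intro K _
      rw [injective_iff_map_eq_zero]
      intro t ht
      have hrep : ∀ t : TensorProduct R (R ⧸ J) K, ∃ k : K, (Ideal.Quotient.mk J 1) ⊗ₜ[R] k = t := by
        intro t
        induction t using TensorProduct.induction_on with
        | zero => exact ⟨0, TensorProduct.tmul_zero _ _⟩
        | tmul u k =>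
          obtain ⟨u, rfl⟩ := Ideal.Quotient.mk_surjective u
          exact ⟨u • k, by
            rw [← TensorProduct.smul_tmul, Algebra.smul_def, Ideal.Quotient.algebraMap_eq, ← map_mul, mul_one]⟩
        | add a b iha ihb =>
          obtain ⟨u, hu⟩ := iha
          obtain ⟨v, hv⟩ := ihb
          exact ⟨u + v, by rw [TensorProduct.tmul_add, hu, hv]⟩
      obtain ⟨k, rfl⟩ := hrep t
      have hk : (k : R) ∈ J := by
        have := congrArg (TensorProduct.rid R (R ⧸ J)) ht
        rwa [map_zero, LinearMap.lTensor_tmul, TensorProduct.rid_tmul, Algebra.smul_def,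
          Ideal.Quotient.algebraMap_eq, map_one, mul_one, Submodule.coe_subtype,
          Ideal.Quotient.eq_zero_iff_mem] at this
      obtain ⟨y, hy, hyk⟩ := hpure _ hk
      rw [show k = y • k from Subtype.ext hyk.symm, ← TensorProduct.smul_tmul, Algebra.smul_def,
        Ideal.Quotient.algebraMap_eq, Ideal.Quotient.eq_zero_iff_mem.2 hy, zero_mul, TensorProduct.zero_tmul]
    have := hproj (R ⧸ J) inferInstance this
    obtain ⟨σ, hσ⟩ := Module.projective_lifting_property (Submodule.mkQ J) LinearMap.id
      (Submodule.mkQ_surjective J)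
    let e := σ (Submodule.Quotient.mk 1)
    have he : e - 1 ∈ J := (Submodule.Quotient.eq J).1 (LinearMap.congr_fun hσ _)
    have heJ : ∀ x ∈ J, x * e = 0 := fun x hx => by
      rw [← smul_eq_mul, ← map_smul, ← Submodule.Quotient.mk_smul, smul_eq_mul, mul_one,
        (Submodule.Quotient.mk_eq_zero J).2 hx, map_zero]
    have : Z = (PrimeSpectrum.basicOpen e : Set (PrimeSpectrum R)) := by
      ext p
      constructor
      · intro hp hmem
        obtain ⟨s, hs, hse⟩ := he p hp |> fun h => h
        exact hs (by
          have h1 : s = s * e := by linear_combination -hse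
          rw [h1]; exact Ideal.mul_mem_left _ _ hmem)
      · intro hp
        by_contra hpZ
        obtain ⟨x, hx, hxp⟩ := hVJ p hpZ
        exact hxp ((p.isPrime.mem_or_mem (by rw [heJ x hx]; exact zero_mem _)).resolve_right hp)
    rw [this]
    exact (PrimeSpectrum.basicOpen e).isOpen

end Groth.Agent.S6355
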