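import Groth.Statements.S6356
import Groth.Agent.ProjLib.ML

set_option autoImplicit false
universe u
open scoped TensorProduct
open CAlg

namespace Groth.Agent.S6356

/-- An R-module M is Mittag-Leffler if and only if for every finitely presented module P and every
linear map f : P → M there exist a finitely presented module Q and a linear map g : P → Q such that
f and g dominate each other, i.e. for every module N the maps f ⊗ id_N and g ⊗ id_N have the same
kernel. -/
theorem result (R : Type u) [CommRing R] (M : Type u)
    [AddCommGroup M] [Module R M] :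
    CAlg.IsMittagLeffler R M ↔
      ∀ (P : Type u) [AddCommGroup P] [Module R P] [Module.FinitePresentation R P] (f : P →ₗ[R] M),
        ∃ (Q : Type u) (_ : AddCommGroup Q) (_ : Module R Q) (_ : Module.FinitePresentation R Q) (g : P →ₗ[R] Q),
          ∀ (N : Type u) [AddCommGroup N] [Module R N],
            LinearMap.ker (f.rTensor N) = LinearMap.ker (g.rTensor N) := by
  refine ⟨fun hM P _ _ _ f => ?_, fun h => ProjLib.isMittagLeffler_of_dom fun n f => ?_⟩
  · obtain ⟨Q, _, _, g, hQ, h1, h2⟩ := ProjLib.dom_both_of_factor hM f
    exact ⟨Q, _, _, hQ, g, (ProjLib.dom_and_iff_ker_eq f g).1 ⟨h1, h2⟩⟩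
  · obtain ⟨Q, _, _, hQ, g, hg⟩ := h (Fin n → R) f
    exact ⟨Q, _, _, g, hQ, (ProjLib.dom_and_iff_ker_eq f g).2 hg⟩

end Groth.Agent.S6356
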