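import Groth.Statements.S6367
import Mathlib.Algebra.Module.FinitePresentation
import Mathlib.RingTheory.Finiteness.Basic
import Mathlib.LinearAlgebra.Isomorphisms
-- import your own Groth.Agent.* helpers here

set_option autoImplicit false
universe u
open CAlg

namespace Groth.Agent.S6367

/-- Let 0 → M₁ → M₂ → M₃ → 0 be a short exact sequence of R-modules (f injective, g surjective, image of
f = kernel of g). If M₁ and M₃ are coherent — finitely generated with every finitely generated
submodule finitely presented — then so is M₂. -/
theorem result (R : Type u) [CommRing R] {M₁ M₂ M₃ : Type u}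
    [AddCommGroup M₁] [Module R M₁] [AddCommGroup M₂] [Module R M₂] [AddCommGroup M₃] [Module R M₃]
    (f : M₁ →ₗ[R] M₂) (g : M₂ →ₗ[R] M₃) (hf : Function.Injective f) (hg : Function.Surjective g)
    (hfg : LinearMap.range f = LinearMap.ker g)
    (h₁ : (Module.Finite R M₁ ∧ ∀ N : Submodule R M₁, N.FG → Module.FinitePresentation R N))
    (h₃ : (Module.Finite R M₃ ∧ ∀ N : Submodule R M₃, N.FG → Module.FinitePresentation R N)) :
    (Module.Finite R M₂ ∧ ∀ N : Submodule R M₂, N.FG → Module.FinitePresentation R N) := by
  haveI := h₁.1
  haveI := h₃.1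
  have hex : Function.Exact f g := LinearMap.exact_iff.2 hfg.symm
  haveI : Module.Finite R M₂ := Module.Finite.of_exact hex hg
  refine ⟨inferInstance, fun N hN => ?_⟩
  haveI : Module.Finite R N := Module.Finite.iff_fg.2 hN
  let g' : N →ₗ[R] LinearMap.range (g.comp N.subtype) := (g.comp N.subtype).rangeRestrict
  haveI : Module.FinitePresentation R (LinearMap.range (g.comp N.subtype)) :=
    h₃.2 _ (LinearMap.range_eq_map (g.comp N.subtype) ▸ Submodule.FG.map _ Module.Finite.fg_top)
  have hsurj : Function.Surjective g' := LinearMap.surjective_rangeRestrict _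
  have hker : (LinearMap.ker g').FG := Module.FinitePresentation.fg_ker g' hsurj
  let ι : LinearMap.ker g' →ₗ[R] M₁ := (LinearEquiv.ofInjective f hf).symm.toLinearMap.comp
    (LinearMap.codRestrict (LinearMap.range f) (N.subtype.comp (LinearMap.ker g').subtype) fun x => by
      rw [hfg, LinearMap.mem_ker]
      exact congrArg Subtype.val (LinearMap.mem_ker.1 x.2))
  have hι : Function.Injective ι := (LinearEquiv.ofInjective f hf).symm.injective.comp fun a b e =>
    Subtype.ext (Subtype.ext (congrArg Subtype.val e :))
  haveI : Module.Finite R (LinearMap.ker g') := Module.Finite.iff_fg.2 hker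
  haveI : Module.FinitePresentation R (LinearMap.range ι) :=
    h₁.2 _ (LinearMap.range_eq_map ι ▸ Submodule.FG.map _ Module.Finite.fg_top)
  haveI : Module.FinitePresentation R (LinearMap.ker g') :=
    Module.FinitePresentation.of_equiv (LinearEquiv.ofInjective ι hι).symm
  exact Module.finitePresentation_of_ker g' hsurj

end Groth.Agent.S6367
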