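import Groth.Statements.S6368
import Groth.Agent.ProjLib.Descent

set_option autoImplicit false
universe u
open scoped TensorProduct
open CAlg

namespace Groth.Agent.S6368
open TensorProduct

/-- Let R → S be faithfully flat and M an R-module. If the S-module S ⊗_R M is countably generated then
M is countably generated. -/
theorem result (R S : Type u) [CommRing R] [CommRing S] [Algebra R S]
    [Module.FaithfullyFlat R S] (M : Type u) [AddCommGroup M] [Module R M]
    (h : CAlg.IsCountablyGenerated S (S ⊗[R] M)) : CAlg.IsCountablyGenerated R M := by
  obtain ⟨s, hs, hspan⟩ := h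
  choose T hT using fun t : S ⊗[R] M => ProjLib.exists_finset_mem_baseChange t
  refine ⟨⋃ t ∈ s, (↑(T t) : Set M), hs.biUnion fun t _ => (T t).countable_toSet, ?_⟩
  rw [eq_top_iff, ← Submodule.baseChange_le_iff (A := S), Submodule.baseChange_top, ← hspan,
    Submodule.span_le]
  intro t ht
  exact Submodule.baseChange_mono S
    (Submodule.span_mono (Set.subset_biUnion_of_mem (u := fun t => (↑(T t) : Set M)) ht)) (hT t)

end Groth.Agent.S6368
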