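import Groth.Statements.S6369
import Mathlib.RingTheory.DedekindDomain.Ideal.Basic


set_option autoImplicit false
universe u
open CAlg

namespace Groth.Agent.S6369
open scoped nonZeroDivisors

/-- An ideal is invertible in the integral sense. -/
def Inv {A : Type u} [CommRing A] (q : Ideal A) : Prop :=
  ∃ (J : Ideal A) (c : A), c ≠ 0 ∧ q * J = Ideal.span {c}

theorem Inv.cancel {A : Type u} [CommRing A] [IsDomain A] {q X Y : Ideal A} (hq : Inv q)
    (h : q * X = q * Y) : X = Y := by
  obtain ⟨J, c, hc, hJ⟩ := hq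
  apply (Ideal.span_singleton_mul_right_inj hc).1
  rw [← hJ, mul_comm q J, mul_assoc, mul_assoc, h]

theorem inv_of_mem {A : Type u} [CommRing A] {s : Multiset (Ideal A)} {c : A} (hc : c ≠ 0)
    (hs : s.prod = Ideal.span {c}) {p : Ideal A} (hp : p ∈ s) : Inv p :=
  ⟨(s.erase p).prod, c, hc, by rw [← Multiset.prod_cons, Multiset.cons_erase hp, hs]⟩

theorem Inv.mul {A : Type u} [CommRing A] [IsDomain A] {p q : Ideal A} (hp : Inv p) (hq : Inv q) :
    Inv (p * q) := by
  obtain ⟨J, c, hc, hJ⟩ := hp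
  obtain ⟨J', c', hc', hJ'⟩ := hq
  exact ⟨J * J', c * c', mul_ne_zero hc hc', by
    rw [mul_mul_mul_comm, hJ, hJ', Ideal.span_singleton_mul_span_singleton]⟩

theorem inv_prod {A : Type u} [CommRing A] [IsDomain A] (s : Multiset (Ideal A))
    (h : ∀ p ∈ s, Inv p) : Inv s.prod := by
  induction s using Multiset.induction with
  | empty => exact ⟨⊤, 1, one_ne_zero, by simp [Ideal.one_eq_top]⟩
  | cons a s ih =>
    rw [Multiset.prod_cons]
    exact (h a (Multiset.mem_cons_self a s)).mul (ih fun p hp => h p (Multiset.mem_cons_of_mem hp))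

/-- Factorisations into invertible primes are unique. -/
theorem unique_of_inv {A : Type u} [CommRing A] [IsDomain A] :
    ∀ (n : ℕ) (s t : Multiset (Ideal A)), s.card = n → (∀ p ∈ s, p.IsPrime ∧ Inv p) →
      (∀ p ∈ t, p.IsPrime) → s.prod = t.prod → s = t := by
  intro n
  induction n with
  | zero =>
    intro s t hn _ ht he
    obtain rfl := Multiset.card_eq_zero.1 hn
    symm
    rw [Multiset.eq_zero_iff_forall_notMem]
    intro q hq
    have h1 : t.prod ≤ q := Ideal.multiset_prod_le_inf.trans (Multiset.inf_le hq)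
    rw [← he, Multiset.prod_zero, Ideal.one_eq_top] at h1
    exact (ht q hq).ne_top (top_le_iff.1 h1)
  | succ n ih =>
    intro s t hn hs ht he
    classical
    have hne : s.toFinset.Nonempty := by
      rw [Multiset.toFinset_nonempty]
      intro h0
      rw [h0, Multiset.card_zero] at hn
      omega
    obtain ⟨p, hp⟩ := s.toFinset.exists_minimal hne
    have hps : p ∈ s := Multiset.mem_toFinset.1 hp.1
    have h1 : t.prod ≤ p := he ▸ Ideal.multiset_prod_le_inf.trans (Multiset.inf_le hps)
    obtain ⟨q, hqt, hqp⟩ := ((hs p hps).1.multiset_prod_le).1 h1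
    have h2 : s.prod ≤ q := he.symm ▸ Ideal.multiset_prod_le_inf.trans (Multiset.inf_le hqt)
    obtain ⟨p', hp's, hp'q⟩ := ((ht q hqt).multiset_prod_le).1 h2
    have hpq : q = p := le_antisymm hqp
      ((hp.2 (Multiset.mem_toFinset.2 hp's) (hp'q.trans hqp)).trans hp'q)
    subst hpq
    rw [← Multiset.cons_erase hps, ← Multiset.cons_erase hqt, Multiset.prod_cons,
      Multiset.prod_cons] at he
    have := ih (s.erase q) (t.erase q) (by rw [Multiset.card_erase_of_mem hps, hn]; rfl)
      (fun x hx => hs x (Multiset.mem_of_mem_erase hx))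
      (fun x hx => ht x (Multiset.mem_of_mem_erase hx)) ((hs q hps).2.cancel he)
    rw [← Multiset.cons_erase hps, this, Multiset.cons_erase hqt]

/-- In a domain where nonzero ideals are products of primes, invertible primes are maximal. -/
theorem isMaximal_of_inv {R : Type u} [CommRing R] [IsDomain R]
    (hex : ∀ I : Ideal R, I ≠ ⊥ → ∃ s : Multiset (Ideal R), (∀ p ∈ s, p.IsPrime) ∧ s.prod = I)
    {p : Ideal R} [p.IsPrime] (hp0 : p ≠ ⊥) (hp : Inv p) : p.IsMaximal := by
  obtain ⟨M, hM, hpM⟩ := Ideal.exists_le_maximal p (Ideal.IsPrime.ne_top ‹_›)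
  suffices M ≤ p from (le_antisymm hpM this) ▸ hM
  intro a haM
  by_contra hap
  let f := Ideal.Quotient.mk p
  let T := p ⊔ Ideal.span {a}
  have hbot : ∀ b : R, p ⊔ Ideal.span {b} ≠ ⊥ := fun b hb => hp0 (le_bot_iff.1 (le_sup_left.trans hb.le))
  obtain ⟨sP, hsP, heP⟩ := hex T (hbot a)
  obtain ⟨sQ, hsQ, heQ⟩ := hex _ (hbot (a * a))
  have hfa : f a ≠ 0 := fun h => hap (Ideal.Quotient.eq_zero_iff_mem.1 h)
  have hge : ∀ {b : R} {s : Multiset (Ideal R)}, s.prod = p ⊔ Ideal.span {b} → ∀ q ∈ s, p ≤ q :=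
    fun hb q hq => le_sup_left.trans (hb.ge.trans (Ideal.multiset_prod_le_inf.trans
      (Multiset.inf_le hq)))
  have hcm : ∀ q : Ideal R, p ≤ q → Ideal.comap f (Ideal.map f q) = q := fun q hq => by
    rw [Ideal.comap_map_of_surjective f Ideal.Quotient.mk_surjective, ← RingHom.ker_eq_comap_bot,
      Ideal.mk_ker, sup_eq_left.2 hq]
  have hmap : ∀ (b : R) (s : Multiset (Ideal R)), s.prod = p ⊔ Ideal.span {b} →
      (s.map (Ideal.map f)).prod = Ideal.span {f b} := fun b s hb => by
    have hm : (s.map (Ideal.mapHom f)).prod = Ideal.mapHom f s.prod := (map_multiset_prod _ s).symm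
    have : Ideal.map f p = ⊥ := Ideal.map_quotient_self p
    calc (s.map (Ideal.map f)).prod = Ideal.map f s.prod := hm
      _ = _ := by rw [hb, Ideal.map_sup, this, bot_sup_eq, Ideal.map_span, Set.image_singleton]
  have hprime : ∀ (b : R) (s : Multiset (Ideal R)), s.prod = p ⊔ Ideal.span {b} →
      (∀ q ∈ s, q.IsPrime) → ∀ q' ∈ s.map (Ideal.map f), q'.IsPrime := by
    intro b s hb hs q' hq'
    obtain ⟨q, hq, rfl⟩ := Multiset.mem_map.1 hq'
    have := hs q hq
    exact Ideal.map_isPrime_of_surjective Ideal.Quotient.mk_surjective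
      ((Ideal.mk_ker).trans_le (hge hb q hq))
  have hkey : (sP + sP).map (Ideal.map f) = sQ.map (Ideal.map f) := by
    have h1 : ((sP + sP).map (Ideal.map f)).prod = Ideal.span {f (a * a)} := by
      rw [Multiset.map_add, Multiset.prod_add, hmap a sP heP,
        Ideal.span_singleton_mul_span_singleton, ← map_mul]
    refine unique_of_inv _ _ _ rfl (fun q hq => ⟨?_, ?_⟩) (hprime _ sQ heQ hsQ)
      (h1.trans (hmap _ sQ heQ).symm)
    · rw [Multiset.map_add, Multiset.mem_add, or_self] at hq
      exact hprime a sP heP hsP q hq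
    · exact inv_of_mem (by rw [map_mul]; exact mul_ne_zero hfa hfa) h1 hq
  have hPQ : sP + sP = sQ := by
    have := congrArg (Multiset.map (Ideal.comap f)) hkey
    rwa [Multiset.map_map, Multiset.map_map, Function.comp_def,
      Multiset.map_congr rfl (fun q hq => hcm q ?_), Multiset.map_id',
      Multiset.map_congr rfl (fun q hq => hcm q (hge heQ q hq)), Multiset.map_id'] at this
    rw [Multiset.mem_add, or_self] at hq
    exact hge heP q hq
  have hTT : T * T = p ⊔ Ideal.span {a * a} := by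
    rw [← heP, ← Multiset.prod_add, hPQ, heQ]
  have hT : p * T = p * ⊤ := by
    refine le_antisymm (Ideal.mul_mono_right le_top) ?_
    rw [Ideal.mul_top]
    intro x hx
    have h2 : T * T ≤ p * T ⊔ Ideal.span {a * a} := by
      rw [← Ideal.span_singleton_mul_span_singleton]
      calc T * T = p * T ⊔ Ideal.span {a} * T := Ideal.sup_mul p (Ideal.span {a}) T
        _ ≤ _ := sup_le le_sup_left (by
          rw [show T = p ⊔ Ideal.span {a} from rfl, Ideal.mul_sup]
          exact sup_le ((mul_comm _ _).trans_le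
            ((Ideal.mul_mono_right le_sup_right).trans le_sup_left)) le_sup_right)
    obtain ⟨y, hy, z, hz, rfl⟩ := Submodule.mem_sup.1 (h2 (hTT.ge (Ideal.mem_sup_left hx)))
    obtain ⟨r, rfl⟩ := Ideal.mem_span_singleton'.1 hz
    have hyp : y ∈ p := (Ideal.mul_le_left : p * T ≤ p) hy
    have hr : r * (a * a) ∈ p := by simpa using p.sub_mem hx hyp
    have hrp : r ∈ p := ((Ideal.IsPrime.mem_or_mem ‹p.IsPrime› hr).resolve_right
      fun h => hap ((Ideal.IsPrime.mem_or_mem ‹p.IsPrime› h).elim id id))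
    exact add_mem hy (Ideal.mul_mem_mul hrp
      (Ideal.mul_mem_left _ _ (Ideal.mem_sup_right (Ideal.mem_span_singleton_self a))))
  have : T = ⊤ := hp.cancel hT
  exact hM.ne_top (top_le_iff.1 (this.ge.trans (sup_le hpM ((Ideal.span_singleton_le_iff_mem _).2 haM))))


/-- (1) ⇒ (3): let R be a domain such that every nonzero ideal is a product of nonzero prime ideals,
uniquely up to permutation of the factors. Then R is Noetherian, integrally closed and of dimension
at most one, i.e. a Dedekind domain in the Noetherian sense. (The converse and the description by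
discrete valuation rings at maximal ideals are the standard equivalences.) -/
theorem result (R : Type u) [CommRing R] [IsDomain R]
    (h : ∀ I : Ideal R, I ≠ ⊥ → ∃! s : Multiset (Ideal R), (∀ p ∈ s, p.IsPrime ∧ p ≠ ⊥) ∧ s.prod = I) :
    IsDedekindDomain R := by
  have hex : ∀ I : Ideal R, I ≠ ⊥ →
      ∃ s : Multiset (Ideal R), (∀ p ∈ s, p.IsPrime) ∧ s.prod = I := fun I hI =>
    let ⟨s, ⟨hs, he⟩, _⟩ := h I hI
    ⟨s, fun p hp => (hs p hp).1, he⟩
  have hprime : ∀ P : Ideal R, P.IsPrime → P ≠ ⊥ → Inv P := by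
    intro P hP hP0
    obtain ⟨c, hcP, hc⟩ := Submodule.exists_mem_ne_zero_of_ne_bot hP0
    have hc' : Ideal.span {c} ≠ ⊥ := by rwa [Ne, Ideal.span_singleton_eq_bot]
    obtain ⟨s, hs, he⟩ := hex _ hc'
    obtain ⟨p, hps, hpP⟩ :=
      hP.multiset_prod_le.1 (he.le.trans ((Ideal.span_singleton_le_iff_mem _).2 hcP))
    have := hs p hps
    have hp0 : p ≠ ⊥ := fun h0 => hc' (le_bot_iff.1 ((he.ge.trans
      (Ideal.multiset_prod_le_inf.trans (Multiset.inf_le hps))).trans h0.le))
    have hinv : Inv p := inv_of_mem hc he hps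
    have hmax := isMaximal_of_inv hex hp0 hinv
    exact (hmax.eq_of_le hP.ne_top hpP) ▸ hinv
  have hall : ∀ I : Ideal R, I ≠ ⊥ → Inv I := by
    intro I hI
    obtain ⟨s, ⟨hs, he⟩, -⟩ := h I hI
    exact he ▸ inv_prod s fun p hp => hprime p (hs p hp).1 (hs p hp).2
  refine (isDedekindDomain_iff_mul_inv_cancel (K := FractionRing R)).2 fun I hI => ?_
  rw [FractionalIdeal.mul_inv_cancel_iff]
  obtain ⟨a, J, ha, rfl⟩ := FractionalIdeal.exists_eq_spanSingleton_mul I
  have hJ0 : J ≠ ⊥ := by
    rintro rfl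
    apply hI
    simp
  obtain ⟨J', c, hc, hJ'⟩ := hall J hJ0
  refine ⟨FractionalIdeal.spanSingleton _ (algebraMap R (FractionRing R) a * (algebraMap R (FractionRing R) c)⁻¹) *
    (J' : FractionalIdeal R⁰ (FractionRing R)), ?_⟩
  rw [mul_mul_mul_comm, FractionalIdeal.spanSingleton_mul_spanSingleton,
    ← FractionalIdeal.coeIdeal_mul, hJ', FractionalIdeal.coeIdeal_span_singleton,
    FractionalIdeal.spanSingleton_mul_spanSingleton, ← FractionalIdeal.spanSingleton_one]
  congr 1
  have ha' : algebraMap R (FractionRing R) a ≠ 0 := by simpa using ha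
  have hc' : algebraMap R (FractionRing R) c ≠ 0 := by simpa using hc
  field_simp

end Groth.Agent.S6369
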