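import Groth.Statements.S6371
import Mathlib.RingTheory.LocalProperties.Submodule
import Mathlib.RingTheory.Localization.BaseChange
import Mathlib.Algebra.Algebra.Epi


-- import your own Groth.Agent.* helpers here

set_option autoImplicit false
universe u
open CAlg

open TensorProduct
namespace Groth.Agent.S6371

/-- A ring map R → S is an epimorphism of rings if and only if for every prime p of R the localized map
R_p → S_p is an epimorphism, where S_p is S localized at the image of R ∖ p. -/
theorem result (R S : Type u) [CommRing R] [CommRing S] [Algebra R S] :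
    Algebra.IsEpi R S ↔ ∀ (p : Ideal R) [p.IsPrime],
      Algebra.IsEpi (Localization.AtPrime p) (Localization (Algebra.algebraMapSubmonoid S p.primeCompl)) := by
  classical
  have hiff : ∀ (p : Ideal R) [p.IsPrime],
      Algebra.IsEpi (Localization.AtPrime p) (Localization (Algebra.algebraMapSubmonoid S p.primeCompl)) ↔
        ∀ a : S, (1 : Localization (Algebra.algebraMapSubmonoid S p.primeCompl)) ⊗ₜ[R]
          algebraMap S (Localization (Algebra.algebraMapSubmonoid S p.primeCompl)) a =
          algebraMap S (Localization (Algebra.algebraMapSubmonoid S p.primeCompl)) a ⊗ₜ[R] 1 := by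
    intro p _
    set Sp := Localization (Algebra.algebraMapSubmonoid S p.primeCompl)
    let e := IsLocalization.moduleTensorEquiv p.primeCompl (Localization.AtPrime p) Sp Sp
    rw [Algebra.isEpi_iff_forall_one_tmul_eq]
    constructor
    · intro h a
      have h1 := congrArg e (h (algebraMap S Sp a))
      exact h1
    · intro h z
      apply e.injective
      have h2 : (1 : Sp) ⊗ₜ[R] z = z ⊗ₜ[R] 1 := by
        obtain ⟨⟨a, u⟩, rfl⟩ := IsLocalization.mk'_surjective (Algebra.algebraMapSubmonoid S p.primeCompl) z
        have hu := IsLocalization.map_units Sp u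
        have hu' : IsUnit ((1 : Sp) ⊗ₜ[R] algebraMap S Sp u) :=
          hu.map (Algebra.TensorProduct.includeRight : Sp →ₐ[R] Sp ⊗[R] Sp)
        apply hu'.mul_left_injective
        show _ * _ = _ * _
        rw [Algebra.TensorProduct.tmul_mul_tmul, one_mul, IsLocalization.mk'_spec, h a]
        conv_rhs => rw [h (u : S), Algebra.TensorProduct.tmul_mul_tmul, IsLocalization.mk'_spec, one_mul]
      exact h2
  constructor
  · intro h p _
    refine (hiff p).2 fun a => ?_
    have h1 := congrArg (Algebra.TensorProduct.map (IsScalarTower.toAlgHom R S (Localization (Algebra.algebraMapSubmonoid S p.primeCompl)))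
      (IsScalarTower.toAlgHom R S (Localization (Algebra.algebraMapSubmonoid S p.primeCompl))))
      ((Algebra.isEpi_iff_forall_one_tmul_eq R S).1 h a)
    simpa using h1
  · intro h
    refine (Algebra.isEpi_iff_forall_one_tmul_eq R S).2 fun a => sub_eq_zero.1 ?_
    refine Module.eq_zero_of_localization_maximal
      (fun P hP => Localization (Algebra.algebraMapSubmonoid S P.primeCompl) ⊗[R]
        Localization (Algebra.algebraMapSubmonoid S P.primeCompl))
      (fun P hP => TensorProduct.map
        (IsScalarTower.toAlgHom R S (Localization (Algebra.algebraMapSubmonoid S P.primeCompl))).toLinearMap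
        (IsScalarTower.toAlgHom R S (Localization (Algebra.algebraMapSubmonoid S P.primeCompl))).toLinearMap) _ ?_
    intro P hP
    rw [map_sub, sub_eq_zero]
    simpa using (hiff P).1 (h P) a

end Groth.Agent.S6371
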