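import Groth.Statements.S6372
import Mathlib.RingTheory.Flat.FaithfullyFlat.Basic
import Mathlib.Algebra.Algebra.Epi

set_option autoImplicit false
universe u
open CAlg

namespace Groth.Agent.S6372

theorem bijective_of_ff (R S : Type u) [CommRing R] [CommRing S] [Algebra R S]
    [Module.FaithfullyFlat R S] [Algebra.IsEpi R S] : Function.Bijective (algebraMap R S) := by
  let f := Algebra.linearMap R S
  let μ : TensorProduct R S S →ₗ[R] S := TensorProduct.lift (LinearMap.mul R S)
  have hμ : Function.Injective μ := Algebra.IsEpi.injective_lift_mul
  have hid : ∀ z, μ (f.lTensor S z) = TensorProduct.rid R S z := fun z => by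
    induction z using TensorProduct.induction_on with
    | zero => simp
    | add a b ha hb => rw [map_add, map_add, ha, hb, map_add]
    | tmul s r => simp [μ, f, Algebra.smul_def, mul_comm]
  refine ⟨(Module.FaithfullyFlat.lTensor_injective_iff_injective R S f).1 fun a b hab => ?_,
    (Module.FaithfullyFlat.lTensor_surjective_iff_surjective R S f).1 fun y => ?_⟩
  · exact (TensorProduct.rid R S).injective (by rw [← hid, ← hid, hab])
  · exact ⟨(TensorProduct.rid R S).symm (μ y), hμ (by rw [hid, LinearEquiv.apply_symm_apply])⟩

/-- A faithfully flat epimorphism of rings is an isomorphism: if R → S is faithfully flat and an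
epimorphism in the category of rings then it is bijective. -/
theorem result (R S : Type u) [CommRing R] [CommRing S] [Algebra R S]
    [Module.FaithfullyFlat R S] [Algebra.IsEpi R S] : Function.Bijective (algebraMap R S) := by
  exact bijective_of_ff R S

end Groth.Agent.S6372
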