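import Groth.Statements.S6374
import Mathlib.LinearAlgebra.Dual.Lemmas
import Mathlib.RingTheory.LocalRing.ResidueField.Fiber
import Mathlib.Algebra.Algebra.Epi


-- import your own Groth.Agent.* helpers here

set_option autoImplicit false
universe u
open CAlg

namespace Groth.Agent.S6374

/-- For an epimorphism of rings R → S, the induced map Spec S → Spec R is injective and induces trivial
residue field extensions; stated in the form the proof gives: for every prime p of R the fibre ring
S ⊗_R κ(p) is either zero or κ(p) → S ⊗_R κ(p) is bijective, together with injectivity of Spec S →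
Spec R. -/
theorem result (R S : Type u) [CommRing R] [CommRing S] [Algebra R S]
    [Algebra.IsEpi R S] :
    Function.Injective (PrimeSpectrum.comap (algebraMap R S)) ∧
      ∀ (p : Ideal R) [p.IsPrime],
        Subsingleton (p.Fiber S) ∨ Function.Bijective (algebraMap p.ResidueField (p.Fiber S)) := by
  have hfib : ∀ (p : Ideal R) [p.IsPrime], Subsingleton (p.Fiber S) ∨ Function.Bijective (algebraMap p.ResidueField (p.Fiber S)) := by
    intro p _
    rcases subsingleton_or_nontrivial (p.Fiber S) with h | h
    · exact Or.inl h
    refine Or.inr ⟨(algebraMap p.ResidueField (p.Fiber S)).injective, fun a => ?_⟩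
    have hepi : ∀ z : p.Fiber S, (1 : p.Fiber S) ⊗ₜ[p.ResidueField] z = z ⊗ₜ[p.ResidueField] 1 := by
      intro z
      induction z using TensorProduct.induction_on with
      | zero => simp
      | add u v hu hv => rw [TensorProduct.tmul_add, TensorProduct.add_tmul, hu, hv]
      | tmul x s =>
        let ι : S →ₐ[R] p.Fiber S := Algebra.TensorProduct.includeRight
        let B : S →ₗ[R] S →ₗ[R] TensorProduct p.ResidueField (p.Fiber S) (p.Fiber S) :=
          LinearMap.mk₂ R (fun u v => ι u ⊗ₜ[p.ResidueField] ι v)
            (fun u u' v => by rw [map_add, TensorProduct.add_tmul])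
            (fun c u v => by rw [map_smul, TensorProduct.smul_tmul'])
            (fun u v v' => by rw [map_add, TensorProduct.tmul_add])
            (fun c u v => by rw [map_smul, TensorProduct.tmul_smul])
        have h1 := congrArg (TensorProduct.lift B) ((Algebra.isEpi_iff_forall_one_tmul_eq R S).1 inferInstance s)
        simp only [TensorProduct.lift.tmul, B, LinearMap.mk₂_apply, map_one] at h1
        have hxs : x ⊗ₜ[R] s = x • ι s := by simp [ι, TensorProduct.smul_tmul', smul_eq_mul]
        rw [hxs, TensorProduct.tmul_smul, h1, TensorProduct.smul_tmul']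
    by_contra hcon
    have hnm : a ∉ Submodule.span p.ResidueField {(1 : p.Fiber S)} := fun hmem => by
      obtain ⟨c, hc⟩ := Submodule.mem_span_singleton.1 hmem
      exact hcon ⟨c, by rw [Algebra.algebraMap_eq_smul_one, hc]⟩
    obtain ⟨f, hfa, hf⟩ := Submodule.exists_dual_map_eq_bot_of_notMem hnm inferInstance
    have hf1 : f 1 = 0 := by
      have : f 1 ∈ Submodule.map f (Submodule.span p.ResidueField {(1 : p.Fiber S)}) :=
        Submodule.mem_map_of_mem (Submodule.mem_span_singleton_self _)
      rwa [hf, Submodule.mem_bot] at this
    have h2 := congrArg (fun z => TensorProduct.rid p.ResidueField (p.Fiber S) (f.lTensor (p.Fiber S) z)) (hepi a)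
    simp only [LinearMap.lTensor_tmul, TensorProduct.rid_tmul, hf1, zero_smul, smul_eq_zero, hfa, false_or] at h2
    exact one_ne_zero h2
  refine ⟨fun q q' he => ?_, hfib⟩
  set p := PrimeSpectrum.comap (algebraMap R S) q with hp
  have hsub : Subsingleton (PrimeSpectrum (p.asIdeal.Fiber S)) := by
    rcases hfib p.asIdeal with h | h
    · exact ⟨fun a => absurd (Subsingleton.elim a.asIdeal ⊤) a.2.ne_top⟩
    · exact (PrimeSpectrum.comapEquiv (RingEquiv.ofBijective _ h)).toEquiv.symm.subsingleton
  exact congrArg Subtype.val ((PrimeSpectrum.preimageEquivFiber R S p).injective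
    (@Subsingleton.elim _ hsub (PrimeSpectrum.preimageEquivFiber R S p ⟨q, rfl⟩) (PrimeSpectrum.preimageEquivFiber R S p ⟨q', he.symm⟩)))

end Groth.Agent.S6374
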