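import Groth.Statements.S6375
import Mathlib.Algebra.Algebra.Epi
import Mathlib.LinearAlgebra.TensorProduct.RightExactness
import Mathlib.LinearAlgebra.DirectSum.Finsupp
import Mathlib.LinearAlgebra.Finsupp.LinearCombination
import Mathlib.SetTheory.Cardinal.Arithmetic
import Mathlib.SetTheory.Cardinal.Pigeonhole
-- import your own Groth.Agent.* helpers here

set_option autoImplicit false
universe u
open CAlg

namespace Groth.Agent.S6375

/-- For an infinite source ring: if R → S is an epimorphism of rings with R infinite, then |S| ≤ |R| as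
cardinals. (For finite R the published statement also asserts |S| ≤ |R|, but its proof only gives
that S is countable and omits the rest, so that case is not included.) -/
theorem result (R S : Type u) [CommRing R] [CommRing S] [Algebra R S] [Algebra.IsEpi R S]
    [Infinite R] : Cardinal.mk S ≤ Cardinal.mk R := by
  classical
  let f : R →+* S := algebraMap R S
  let D := Σ nm : ℕ × ℕ, (Fin nm.1 → Fin nm.2 → R) × (Fin nm.2 → R) × (Fin nm.1 → R)
  let W : S → D → Prop := fun s d => ∃ (P : Fin d.1.1 → S) (Q : Fin d.1.2 → S),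
    (∀ y, ∑ j, P j * f (d.2.1 j y) = f (d.2.2.1 y)) ∧ (∀ j, ∑ y, f (d.2.1 j y) * Q y = f (d.2.2.2 j)) ∧
      s = ∑ j, P j * f (d.2.2.2 j)
  have huniq : ∀ s t d, W s d → W t d → s = t := by
    rintro s t d ⟨P, Q, hP, hQ, rfl⟩ ⟨P', Q', hP', hQ', rfl⟩
    have key : ∀ P : Fin d.1.1 → S, (∀ y, ∑ j, P j * f (d.2.1 j y) = f (d.2.2.1 y)) →
        ∑ j, P j * f (d.2.2.2 j) = ∑ y, f (d.2.2.1 y) * Q y := fun P hP => by
      simp only [← hQ, ← hP, Finset.mul_sum, Finset.sum_mul]
      rw [Finset.sum_comm]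
      simp [mul_assoc]
    rw [key P hP, key P' hP']
  have hex : ∀ s, ∃ d, W s d := by
    intro s
    by_cases hs : s = 1
    · subst hs
      exact ⟨⟨(1, 1), fun _ _ => 1, fun _ => 1, fun _ => 1⟩, fun _ => 1, fun _ => 1, by simp, by simp, by simp⟩
    let g : (S →₀ R) →ₗ[R] S := Finsupp.linearCombination R id
    have hg : Function.Surjective g := fun x => ⟨Finsupp.single x 1, by simp [g]⟩
    have hz : LinearMap.lTensor S g (s ⊗ₜ[R] Finsupp.single 1 1 - (1 : S) ⊗ₜ[R] Finsupp.single s 1) = 0 := by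
      simp [g, ((Algebra.isEpi_iff_forall_one_tmul_eq R S).mp inferInstance s).symm]
    obtain ⟨w, hw⟩ := (lTensor_exact (M := LinearMap.ker g) (N := S →₀ R) (P := S) S (LinearMap.exact_subtype_ker_map g) hg _).mp hz
    obtain ⟨J, hJ⟩ := TensorProduct.exists_finset w
    have hc : ∀ y, ∑ a ∈ J, a.1 * f ((a.2 : S →₀ R) y) = (if 1 = y then s else 0) - (if s = y then 1 else 0) := fun y => by
      have := congrArg (fun z => TensorProduct.finsuppScalarRight R R S S z y) hw
      simp only [hJ, map_sum, map_sub, LinearMap.lTensor_tmul, Finsupp.coe_sub, Pi.sub_apply, Finsupp.coe_finsetSum, Finset.sum_apply,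
        TensorProduct.finsuppScalarRight_apply_tmul_apply, Finsupp.single_apply, Submodule.coe_subtype, ite_smul, one_smul, zero_smul] at this
      simpa [Algebra.smul_def, mul_comm] using this
    let Y : Finset S := (insert s (J.biUnion fun a => (a.2 : S →₀ R).support)).erase 1
    have hk : ∀ a ∈ J, ∑ y ∈ Y, f ((a.2 : S →₀ R) y) * y = - f ((a.2 : S →₀ R) 1) := fun a ha => by
      have h0 := LinearMap.mem_ker.mp a.2.2
      rw [Finsupp.linearCombination_apply, Finsupp.sum] at h0
      rw [eq_neg_iff_add_eq_zero, add_comm, ← mul_one (f ((a.2 : S →₀ R) 1)),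
        ← Finset.sum_insert (f := fun y => f ((a.2 : S →₀ R) y) * y) (Finset.notMem_erase _ _)]
      rw [← h0]
      refine (Finset.sum_subset ?_ ?_).symm.trans (Finset.sum_congr rfl fun y _ => by simp [Algebra.smul_def, f])
      · intro y hy
        rw [Finset.mem_insert, Finset.mem_erase]
        by_cases h1 : y = 1
        · exact Or.inl h1
        · exact Or.inr ⟨h1, Finset.mem_insert_of_mem (Finset.mem_biUnion.mpr ⟨a, ha, hy⟩)⟩
      · intro y _ hy
        simp [Finsupp.notMem_support_iff.mp hy]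
    let eJ := J.equivFin
    let eY := Y.equivFin
    refine ⟨⟨(J.card, Y.card), fun j y => ((eJ.symm j).1.2 : S →₀ R) (eY.symm y).1,
      fun y => if s = (eY.symm y).1 then 1 else 0, fun j => -((eJ.symm j).1.2 : S →₀ R) 1⟩,
      fun j => -(eJ.symm j).1.1, fun y => (eY.symm y).1, fun y => ?_, fun j => ?_, ?_⟩
    · show ∑ j, -(eJ.symm j).1.1 * f (((eJ.symm j).1.2 : S →₀ R) (eY.symm y).1) = f (if s = (eY.symm y).1 then 1 else 0)
      have h := hc (eY.symm y).1
      rw [if_neg (fun e => (Finset.mem_erase.mp (eY.symm y).2).1 e.symm)] at h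
      rw [Equiv.sum_comp eJ.symm (fun a : J => -a.1.1 * f ((a.1.2 : S →₀ R) (eY.symm y).1)),
        Finset.sum_coe_sort J (fun a => -a.1 * f ((a.2 : S →₀ R) (eY.symm y).1))]
      simp only [neg_mul, Finset.sum_neg_distrib, h, zero_sub, neg_neg, apply_ite f, map_one, map_zero]
    · show ∑ y, f (((eJ.symm j).1.2 : S →₀ R) (eY.symm y).1) * (eY.symm y).1 = f (-((eJ.symm j).1.2 : S →₀ R) 1)
      rw [Equiv.sum_comp eY.symm (fun y : Y => f (((eJ.symm j).1.2 : S →₀ R) y.1) * y.1),
        Finset.sum_coe_sort Y (fun y => f (((eJ.symm j).1.2 : S →₀ R) y) * y), hk _ (eJ.symm j).2, map_neg]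
    · show s = ∑ j, -(eJ.symm j).1.1 * f (-((eJ.symm j).1.2 : S →₀ R) 1)
      rw [Equiv.sum_comp eJ.symm (fun a : J => -a.1.1 * f (-(a.1.2 : S →₀ R) 1)),
        Finset.sum_coe_sort J (fun a => -a.1 * f (-(a.2 : S →₀ R) 1))]
      simp [hc, hs]
  choose d hd using hex
  refine (Cardinal.mk_le_of_injective (f := d) fun s t h => huniq s t (d s) (hd s) (h ▸ hd t)).trans ?_
  have hR := Cardinal.aleph0_le_mk R
  have hfin : ∀ (ι : Type) [Fintype ι], Cardinal.mk (ι → R) ≤ Cardinal.mk R := fun ι _ => by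
    rw [Cardinal.mk_arrow, Cardinal.mk_fintype ι, Cardinal.lift_natCast, Cardinal.lift_uzero, Cardinal.power_natCast]
    exact Cardinal.power_nat_le hR
  show Cardinal.mk D ≤ _
  rw [Cardinal.mk_sigma]
  refine (Cardinal.sum_le_sum _ (fun _ => Cardinal.mk R) fun nm => ?_).trans ?_
  · rw [Cardinal.mk_prod, Cardinal.mk_prod, Cardinal.lift_id, Cardinal.lift_id, Cardinal.lift_id, Cardinal.lift_id]
    refine Cardinal.mul_le_of_le hR ?_ (Cardinal.mul_le_of_le hR (hfin _) (hfin _))
    rw [Cardinal.mk_congr (Equiv.curry (Fin nm.1) (Fin nm.2) R).symm]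
    exact hfin _
  · rw [Cardinal.sum_const]
    simp only [Cardinal.lift_id, Cardinal.mk_eq_aleph0, Cardinal.lift_aleph0, Cardinal.lift_uzero]
    exact Cardinal.mul_le_of_le hR hR le_rfl

end Groth.Agent.S6375
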