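import Groth.Statements.S6378
import Groth.Agent.TorSESLib.Basic
import Mathlib.RingTheory.FiniteLength
import Mathlib.RingTheory.SimpleModule.Basic
-- import your own Groth.Agent.* helpers here

set_option autoImplicit false
universe u
open CategoryTheory
open CAlg

namespace Groth.Agent.S6378

/-- Let (R, m, κ) be a local ring and M an R-module with Tor_1^R(κ, M) = 0. Then Tor_1^R(N, M) = 0 for
every finite length R-module N. -/
theorem result (R : Type u) [CommRing R] [IsLocalRing R]
    (M : Type u) [AddCommGroup M] [Module R M]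
    (h : Limits.IsZero (((CategoryTheory.Tor (ModuleCat.{u} R) 1).obj (ModuleCat.of R (IsLocalRing.ResidueField R))).obj (ModuleCat.of R M)))
    (N : Type u) [AddCommGroup N] [Module R N] (hN : IsFiniteLength R N) :
    Limits.IsZero (((CategoryTheory.Tor (ModuleCat.{u} R) 1).obj (ModuleCat.of R N)).obj (ModuleCat.of R M)) := by
  induction hN with
  | @of_subsingleton N _ _ _ =>
    haveI : Module.Flat R (ModuleCat.of R N) := inferInstanceAs (Module.Flat R N)
    exact TorSESLib.isZero_tor_of_flat _ (ModuleCat.of R N) (i := 1) Nat.one_pos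
  | @of_simple_quotient N _ _ N' hsimp hN' ih =>
    let S : CategoryTheory.ShortComplex (ModuleCat.{u} R) := CategoryTheory.ShortComplex.mk (ModuleCat.ofHom N'.subtype)
      (ModuleCat.ofHom N'.mkQ) (ModuleCat.hom_ext (LinearMap.exact_subtype_mkQ N').linearMap_comp_eq_zero)
    have hS : S.ShortExact :=
      { exact := (CategoryTheory.ShortComplex.ShortExact.moduleCat_exact_iff_function_exact _).2 (LinearMap.exact_subtype_mkQ N')
        mono_f := (ModuleCat.mono_iff_injective _).2 Subtype.val_injective
        epi_g := (ModuleCat.epi_iff_surjective _).2 N'.mkQ_surjective }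
    refine TorSESLib.isZero_tor_middle S _ hS 1 ih ?_
    obtain ⟨m, hm, ⟨e⟩⟩ := isSimpleModule_iff_quot_maximal.1 hsimp
    obtain rfl := IsLocalRing.eq_maximalIdeal hm
    exact h.of_iso (((CategoryTheory.Tor (ModuleCat.{u} R) 1).mapIso e.toModuleIso).app (ModuleCat.of R M))

end Groth.Agent.S6378
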