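import Groth.Statements.S6381
import Groth.Agent.GonfLib.Finite
import Mathlib.RingTheory.LocalRing.ResidueField.Ideal

set_option autoImplicit false
universe u
open CAlg

namespace Groth.Agent.S6381

/-- Let R be a ring, p ⊆ R a prime and L a finite extension of the residue field κ(p). Then one can find
a ring map R → S, with S finite free over R, for which q = pS is a prime of S and the residue field
κ(q) is isomorphic to L over κ(p) (stated as a ring isomorphism κ(q) ≅ L compatible with the maps
from R, which determines compatibility with κ(p)). -/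
theorem result (R : Type u) [CommRing R] (p : Ideal R) [p.IsPrime]
    (L : Type u) [Field L] [Algebra p.ResidueField L] [FiniteDimensional p.ResidueField L]
    [Algebra R L] [IsScalarTower R p.ResidueField L] :
    ∃ (S : Type u) (_ : CommRing S) (_ : Algebra R S) (_ : Module.Finite R S) (_ : Module.Free R S)
      (_ : (p.map (algebraMap R S)).IsPrime)
      (e : (p.map (algebraMap R S)).ResidueField ≃+* L),
      ∀ r : R, e (algebraMap R (p.map (algebraMap R S)).ResidueField r) = algebraMap R L r := by
  obtain ⟨S, _, _, hfin, hfree, φ, hφ, hq⟩ := GonfLib.exists_finite_free (R := R) (L := L)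
    p.ResidueField (fun x => by
      obtain ⟨r, s, hs, hx⟩ := IsFractionRing.div_surjective (R ⧸ p) x
      obtain ⟨r, rfl⟩ := Ideal.Quotient.mk_surjective r
      obtain ⟨s, rfl⟩ := Ideal.Quotient.mk_surjective s
      have hs0 : algebraMap R p.ResidueField s ≠ 0 := fun h0 => by
        rw [Ideal.algebraMap_residueField_eq_zero, ← Ideal.Quotient.eq_zero_iff_mem] at h0
        exact nonZeroDivisors.ne_zero hs h0
      exact ⟨r, s, hs0, by rw [← hx]; exact div_mul_cancel₀ _ hs0⟩)
  have hk : RingHom.ker (algebraMap R L) = p := by
    rw [IsScalarTower.algebraMap_eq R p.ResidueField L,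
      RingHom.ker_comp_of_injective _ (algebraMap p.ResidueField L).injective]
    exact Ideal.ker_algebraMap_residueField p
  rw [hk] at hφ
  have hP : (p.map (algebraMap R S)).IsPrime := hφ ▸ RingHom.ker_isPrime _
  have hP2 : (p.map (algebraMap R S)).primeCompl ≤ Submonoid.comap φ.toRingHom (IsUnit.submonoid L) :=
    fun t ht => IsUnit.mk0 _ fun h0 => ht (by rw [← hφ]; exact h0)
  let f := Ideal.ResidueField.lift (p.map (algebraMap R S)) φ.toRingHom (le_of_eq hφ.symm) hP2
  have hbij : Function.Bijective f := by
    refine ⟨f.injective, fun x => ?_⟩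
    obtain ⟨s, t, ht, hx⟩ := hq x
    refine ⟨algebraMap S _ s / algebraMap S _ t, ?_⟩
    rw [map_div₀, Ideal.ResidueField.lift_algebraMap, Ideal.ResidueField.lift_algebraMap]
    exact (eq_div_iff ht).2 hx |>.symm
  refine ⟨S, inferInstance, inferInstance, hfin, hfree, hP, RingEquiv.ofBijective f hbij, fun r => ?_⟩
  show f (algebraMap R _ r) = _
  rw [IsScalarTower.algebraMap_apply R S (p.map (algebraMap R S)).ResidueField,
    Ideal.ResidueField.lift_algebraMap]
  exact φ.commutes r

end Groth.Agent.S6381
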