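import Groth.Statements.S6382
import Mathlib.RingTheory.TensorProduct.Finite
import Mathlib.RingTheory.IsTensorProduct
import Mathlib.RingTheory.LocalRing.RingHom.Basic
import Groth.Agent.FlatCrit.Basic


-- import your own Groth.Agent.* helpers here

set_option autoImplicit false
universe u
open CAlg

namespace Groth.Agent.S6382

/-- Consider a commutative square of local rings and local homomorphisms R → S, R → R', S → S', R' → S',
and a finite S-module M. Assume the maps R → R' and S → S' are flat, M is flat over R, the maximal
ideal of R generates the maximal ideal of R', and R', S' are Noetherian. Then M' = M ⊗_S S' (any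
base change of M along S → S') is flat over R'. -/
theorem result (R S R' S' : Type u) [CommRing R] [CommRing S]
    [CommRing R'] [CommRing S'] [IsLocalRing R] [IsLocalRing S] [IsLocalRing R'] [IsLocalRing S']
    [Algebra R S] [Algebra R R'] [Algebra S S'] [Algebra R' S'] [Algebra R S']
    [IsScalarTower R S S'] [IsScalarTower R R' S']
    [IsLocalHom (algebraMap R S)] [IsLocalHom (algebraMap R R')] [IsLocalHom (algebraMap S S')]
    [IsLocalHom (algebraMap R' S')] [Module.Flat R R'] [Module.Flat S S']
    [IsNoetherianRing R'] [IsNoetherianRing S']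
    (hm : (IsLocalRing.maximalIdeal R).map (algebraMap R R') = IsLocalRing.maximalIdeal R')
    (M : Type u) [AddCommGroup M] [Module S M] [Module R M] [IsScalarTower R S M] [Module.Finite S M]
    [Module.Flat R M]
    (M' : Type u) [AddCommGroup M'] [Module S' M'] [Module S M'] [IsScalarTower S S' M'] [Module R' M']
    [IsScalarTower R' S' M'] (j : M →ₗ[S] M') (hj : IsBaseChange S' j) :
    Module.Flat R' M' := by
  let := Module.compHom M' (algebraMap R R')
  have : IsScalarTower R R' M' := IsScalarTower.of_algebraMap_smul fun _ _ => rfl
  have : IsScalarTower R S M' := IsScalarTower.of_algebraMap_smul fun r x => by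
    rw [← IsScalarTower.algebraMap_smul R' r x, ← IsScalarTower.algebraMap_smul S' (algebraMap R R' r) x,
      ← IsScalarTower.algebraMap_smul S' (algebraMap R S r) x, ← IsScalarTower.algebraMap_apply,
      ← IsScalarTower.algebraMap_apply]
  have : Module.Finite S' M' := Module.Finite.equiv hj.equiv
  let m := IsLocalRing.maximalIdeal R
  -- `M' ⊗[R] m → M'` is injective
  have hinj : Function.Injective ((TensorProduct.rid R M').toLinearMap ∘ₗ m.subtype.lTensor M') := by
    have h0 : Function.Injective ((m.subtype.lTensor M).restrictScalars R) :=
      Module.Flat.lTensor_preserves_injective_linearMap _ Subtype.val_injective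
    let fS : TensorProduct R M m →ₗ[S] TensorProduct R M R :=
      TensorProduct.AlgebraTensorModule.lTensor S M m.subtype
    have h1 : Function.Injective (fS.lTensor S') :=
      Module.Flat.lTensor_preserves_injective_linearMap fS h0
    let e1 : TensorProduct R M' m ≃ₗ[S] TensorProduct S S' (TensorProduct R M m) :=
      TensorProduct.AlgebraTensorModule.congr (hj.equiv.restrictScalars S).symm (LinearEquiv.refl R m) ≪≫ₗ
        (TensorProduct.AlgebraTensorModule.assoc R S S S' M m)
    let e2 : TensorProduct R M' R ≃ₗ[S] TensorProduct S S' (TensorProduct R M R) :=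
      TensorProduct.AlgebraTensorModule.congr (hj.equiv.restrictScalars S).symm (LinearEquiv.refl R R) ≪≫ₗ
        (TensorProduct.AlgebraTensorModule.assoc R S S S' M R)
    have hc : ∀ z, e2 (m.subtype.lTensor M' z) = fS.lTensor S' (e1 z) := by
      intro z
      induction z using TensorProduct.induction_on with
      | zero => simp
      | tmul x y =>
        obtain ⟨w, rfl⟩ := (hj.equiv.restrictScalars S).surjective x
        simp only [e1, e2, LinearEquiv.trans_apply, TensorProduct.AlgebraTensorModule.congr_tmul,
          LinearMap.lTensor_tmul, LinearEquiv.symm_apply_apply]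
        induction w using TensorProduct.induction_on with
        | zero => simp
        | tmul s v => simp [fS]
        | add a b ha hb => simp only [TensorProduct.add_tmul, map_add, ha, hb]
      | add a b ha hb => simp only [map_add, ha, hb]
    refine (TensorProduct.rid R M').injective.comp fun a b hab => e1.injective (h1 ?_)
    rw [← hc, ← hc, hab]
  let I := IsLocalRing.maximalIdeal R'
  have hmem : ∀ y : m, algebraMap R R' y ∈ I := fun y => hm.le (Ideal.mem_map_of_mem _ y.2)
  let inc : m →ₗ[R] I :=
    { toFun := fun y => ⟨algebraMap R R' y, hmem y⟩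
      map_add' := fun a b => Subtype.ext (by simp)
      map_smul' := fun a b => Subtype.ext (by simp [Algebra.smul_def]) }
  let g : TensorProduct R M' m →ₗ[R] TensorProduct R' M' I :=
    TensorProduct.lift (((TensorProduct.mk R' M' I).restrictScalars₁₂ R R).compl₂ inc)
  have hg : Function.Surjective g := by
    intro t
    induction t using TensorProduct.induction_on with
    | zero => exact ⟨0, map_zero g⟩
    | tmul x y =>
      obtain ⟨y, hy⟩ := y
      have hspan : I = Submodule.span R' ((algebraMap R R') '' (m : Set R)) := hm.symm
      have hy' := hy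
      rw [hspan] at hy'
      suffices ∀ x : M', ∃ u, g u = x ⊗ₜ[R'] (⟨y, hy⟩ : I) from this x
      clear x
      induction hy' using Submodule.span_induction with
      | mem z hz =>
        obtain ⟨z, hz, rfl⟩ := hz
        exact fun x => ⟨x ⊗ₜ[R] ⟨z, hz⟩, rfl⟩
      | zero => exact fun x => ⟨0, by rw [map_zero]; exact (TensorProduct.tmul_zero _ x).symm⟩
      | add z w hz hw iz iw =>
        intro x
        obtain ⟨u, hu⟩ := iz (hspan ▸ hz) x
        obtain ⟨v, hv⟩ := iw (hspan ▸ hw) x
        exact ⟨u + v, by rw [map_add, hu, hv, ← TensorProduct.tmul_add]; rfl⟩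
      | smul c z hz iz =>
        intro x
        obtain ⟨u, hu⟩ := iz (hspan ▸ hz) (c • x)
        exact ⟨u, by rw [hu, TensorProduct.smul_tmul]; rfl⟩
    | add a b ha hb =>
      obtain ⟨u, rfl⟩ := ha
      obtain ⟨v, rfl⟩ := hb
      exact ⟨u + v, map_add g u v⟩
  have hcomp : ∀ u, TensorProduct.rid R' M' (I.subtype.lTensor M' (g u)) =
      TensorProduct.rid R M' (m.subtype.lTensor M' u) := by
    intro u
    induction u using TensorProduct.induction_on with
    | zero => simp
    | tmul x y => simp [g, inc, IsScalarTower.algebraMap_smul]
    | add a b ha hb => simp only [map_add, ha, hb]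
  refine FlatCrit.flat_of_injective_of_flat_quotient (S := S') I ?_ ?_ ?_
  · refine (Ideal.map_le_iff_le_comap.2 ?_).trans (IsLocalRing.maximalIdeal_le_jacobson _)
    intro z hz
    exact map_nonunit (algebraMap R' S') z hz
  · rw [← LinearMap.ker_eq_bot, eq_bot_iff]
    intro t ht
    obtain ⟨u, rfl⟩ := hg t
    have : TensorProduct.rid R M' (m.subtype.lTensor M' u) = 0 := by
      rw [← hcomp, LinearMap.mem_ker.1 ht, map_zero]
    rw [(hinj (this.trans (by simp)) : u = 0), map_zero]
    exact zero_mem _
  · let := Ideal.Quotient.field I
    infer_instance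

end Groth.Agent.S6382
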