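import Groth.Statements.S6383
import Groth.Agent.ProjLib.Descent

set_option autoImplicit false
universe u
open scoped TensorProduct
open CAlg

namespace Groth.Agent.S6383
open TensorProduct

/-- For a ring map R → S and an R-module M whose base change S ⊗_R M is an internal direct sum of
countably generated S-submodules Q_i (i ∈ I), every countably generated submodule N ≤ M can be
enlarged to a countably generated submodule N' ≤ M, together with a subset I' ⊆ I, so that the
S-span of the image 1 ⊗ N' inside S ⊗_R M equals the sum of the Q_i over i ∈ I'. -/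
theorem result (R S : Type u) [CommRing R] [CommRing S] [Algebra R S]
    (M : Type u) [AddCommGroup M] [Module R M] {I : Type u} [DecidableEq I] (Q : I → Submodule S (S ⊗[R] M))
    (hQ : DirectSum.IsInternal Q) (hQc : ∀ i, ∃ t : Set (S ⊗[R] M), t.Countable ∧ Submodule.span S t = Q i)
    (N : Submodule R M) (hN : ∃ s : Set M, s.Countable ∧ Submodule.span R s = N) :
    ∃ (N' : Submodule R M) (I' : Set I), N ≤ N' ∧ (∃ s : Set M, s.Countable ∧ Submodule.span R s = N') ∧
      Submodule.span S ((TensorProduct.mk R S M 1) '' (N' : Set M)) = ⨆ i ∈ I', Q i := by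
  classical
  choose s hs hspan using hQc
  obtain ⟨s₀, hs₀, hspan₀⟩ := hN
  have htop := hQ.submodule_iSup_eq_top
  choose T hT using fun t : S ⊗[R] M => ProjLib.exists_finset_mem_baseChange t
  choose σ hσ using fun m : M => ProjLib.exists_finset_mem_NS Q htop ((1 : S) ⊗ₜ[R] m)
  let gens : I → Set M := fun i => ⋃ t ∈ s i, (↑(T t) : Set M)
  let D : I → Set I := fun i => ⋃ m ∈ gens i, (↑(σ m) : Set I)
  let A : ℕ → Set I := fun n => Nat.rec (⋃ m ∈ s₀, (↑(σ m) : Set I))
    (fun _ S => S ∪ ⋃ i ∈ S, D i) n
  have hgens : ∀ i, (gens i).Countable := fun i =>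
    (hs i).biUnion fun t _ => (T t).countable_toSet
  have hAc : ∀ n, (A n).Countable := fun n => by
    induction n with
    | zero => exact hs₀.biUnion fun m _ => (σ m).countable_toSet
    | succ n ih => exact ih.union (ih.biUnion fun i _ =>
        (hgens i).biUnion fun m _ => (σ m).countable_toSet)
  let I' := ⋃ n, A n
  let G : Set M := s₀ ∪ ⋃ i ∈ I', gens i
  have hG : ∀ m ∈ G, (1 : S) ⊗ₜ[R] m ∈ ⨆ i ∈ I', Q i := by
    intro m hm
    refine ProjLib.NS_mono Q ?_ (hσ m)
    rcases hm with hm | hm
    · exact (Set.subset_biUnion_of_mem (u := fun m => (↑(σ m) : Set I)) hm).trans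
        (Set.subset_iUnion A 0)
    · obtain ⟨i, hi, hmi⟩ := Set.mem_iUnion₂.1 hm
      obtain ⟨n, hn⟩ := Set.mem_iUnion.1 hi
      exact fun j hj => Set.mem_iUnion.2 ⟨n + 1,
        Or.inr (Set.mem_biUnion hn (Set.mem_biUnion hmi hj))⟩
  refine ⟨Submodule.span R G, I', ?_, ⟨G, hs₀.union
    ((Set.countable_iUnion hAc).biUnion fun i _ => hgens i), rfl⟩, ?_⟩
  · rw [← hspan₀]
    exact Submodule.span_mono Set.subset_union_left
  · rw [← Submodule.map_coe, ← Submodule.baseChange_eq_span]
    refine le_antisymm (ProjLib.baseChange_le_of_le_pre (Submodule.span_le.2 hG))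
      (iSup₂_le fun i hi => ?_)
    rw [← hspan i, Submodule.span_le]
    intro t ht
    refine Submodule.baseChange_mono S (Submodule.span_mono ?_) (hT t)
    exact fun m hm => Or.inr (Set.mem_biUnion hi (Set.mem_biUnion ht hm))

end Groth.Agent.S6383
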