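import Groth.Statements.S6385
import Groth.Agent.CommAlgDim.Integral
import Mathlib
-- import your own Groth.Agent.* helpers here

set_option autoImplicit false
universe u
open CAlg

namespace Groth.Agent.S6385
set_option linter.all false

/-- Let k be a field, S a finite type k-algebra, q a prime of S and x the corresponding point of X =
Spec S. Then there is g ∈ S, g ∉ q, such that dim S_g equals dim_x X — the minimum of dim S_{g'}
over all g' ∉ q — and, writing d for this dimension, a finite injective k-algebra map from the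
polynomial ring k[y_1, ..., y_d] to S_g. -/
theorem result (k S : Type u) [Field k] [CommRing S] [Algebra k S]
    [Algebra.FiniteType k S] (q : Ideal S) [q.IsPrime] :
    ∃ (g : S) (d : ℕ), g ∉ q ∧ ringKrullDim (Localization.Away g) = d ∧
      (∀ g' : S, g' ∉ q → ringKrullDim (Localization.Away g) ≤ ringKrullDim (Localization.Away g')) ∧
      ∃ φ : MvPolynomial (Fin d) k →ₐ[k] Localization.Away g, Function.Injective φ ∧ φ.toRingHom.Finite := by
  classical
  have key : ∀ g' : S, g' ∉ q → ∃ s : ℕ, ringKrullDim (Localization.Away g') = s ∧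
      ∃ φ : MvPolynomial (Fin s) k →ₐ[k] Localization.Away g', Function.Injective φ ∧ φ.toRingHom.Finite := by
    intro g' hg'
    haveI : Nontrivial (Localization.Away g') := by
      by_contra hn
      haveI := not_nontrivial_iff_subsingleton.1 hn
      obtain ⟨⟨_, n, rfl⟩, hn⟩ := (IsLocalization.eq_iff_exists (Submonoid.powers g')
        (Localization.Away g')).1 (Subsingleton.elim (algebraMap S _ (1 : S)) (algebraMap S _ 0))
      simp only [mul_one, mul_zero] at hn
      exact hg' (Ideal.IsPrime.mem_of_pow_mem inferInstance n (by rw [hn]; exact q.zero_mem))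
    obtain ⟨s, φ, hinj, hfin⟩ := exists_finite_inj_algHom_of_fg k (Localization.Away g')
    refine ⟨s, ?_, φ, hinj, hfin⟩
    letI := φ.toRingHom.toAlgebra
    haveI : Module.Finite (MvPolynomial (Fin s) k) (Localization.Away g') := hfin
    rw [CommAlgDim.ringKrullDim_eq_of_integral (MvPolynomial (Fin s) k) (Localization.Away g') hinj,
      MvPolynomial.ringKrullDim_of_isNoetherianRing, ringKrullDim_eq_zero_of_field]
    simp
  have h1 : (1 : S) ∉ q := fun h => Ideal.IsPrime.ne_top inferInstance ((Ideal.eq_top_iff_one q).2 h)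
  have hne : ∃ s : ℕ, ∃ g' : S, g' ∉ q ∧ ringKrullDim (Localization.Away g') = s :=
    ⟨_, 1, h1, (key 1 h1).choose_spec.1⟩
  obtain ⟨g, hg, hgd⟩ := Nat.find_spec hne
  obtain ⟨s, hs, φ, hφ⟩ := key g hg
  refine ⟨g, s, hg, hs, fun g' hg' => ?_, φ, hφ⟩
  obtain ⟨t, ht, -⟩ := key g' hg'
  rw [hgd, ht]
  exact_mod_cast Nat.find_min' hne ⟨g', hg', ht⟩

end Groth.Agent.S6385
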