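import Groth.Statements.S6386
import Mathlib.SetTheory.Cardinal.Arithmetic
import Mathlib.RingTheory.Flat.EquationalCriterion
import Mathlib.Algebra.FreeAlgebra.Cardinality


-- import your own Groth.Agent.* helpers here

set_option autoImplicit false
universe u
open CAlg

namespace Groth.Agent.S6386

/-- The key step of its proof: let A be a ring, κ = max(|A|, ℵ₀), and B a flat A-algebra. Then every
A-subalgebra E ⊆ B with at most κ elements lies inside a flat A-subalgebra B' ⊆ B with at most κ
elements. Consequently B is the filtered colimit (union) of its flat A-subalgebras of cardinality at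
most κ. -/
theorem result (A B : Type u) [CommRing A] [CommRing B] [Algebra A B]
    [Module.Flat A B] (E : Subalgebra A B) (hE : Cardinal.mk E ≤ max (Cardinal.mk A) Cardinal.aleph0) :
    ∃ B' : Subalgebra A B, E ≤ B' ∧ Module.Flat A B' ∧ Cardinal.mk B' ≤ max (Cardinal.mk A) Cardinal.aleph0 := by
  classical
  let κ := max (Cardinal.mk A) Cardinal.aleph0
  have hω : Cardinal.aleph0 ≤ κ := le_max_right _ _
  have hA : Cardinal.mk A ≤ κ := le_max_left _ _
  have hstep : ∀ F : Subalgebra A B, Cardinal.mk F ≤ κ → ∃ G : Subalgebra A B, F ≤ G ∧ Cardinal.mk G ≤ κ ∧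
      ∀ {l : ℕ} (f : Fin l → A) (x : Fin l → F), ∑ i, f i • (x i : B) = 0 →
        ∃ (k : ℕ) (a : Fin l → Fin k → A) (y : Fin k → G), (∀ i, (x i : B) = ∑ j, a i j • (y j : B)) ∧
          ∀ j, ∑ i, f i * a i j = 0 := by
    intro F hF
    have hex : ∀ r : List (A × F), ∃ T : Finset B, (∑ i : Fin r.length, (r.get i).1 • ((r.get i).2 : B)) = 0 →
        ∃ (k : ℕ) (a : Fin r.length → Fin k → A) (y : Fin k → B), (∀ j, y j ∈ T) ∧
          (∀ i, ((r.get i).2 : B) = ∑ j, a i j • y j) ∧ ∀ j, ∑ i, (r.get i).1 * a i j = 0 := by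
      intro r
      by_cases h : (∑ i : Fin r.length, (r.get i).1 • ((r.get i).2 : B)) = 0
      · obtain ⟨k, a, y, h1, h2⟩ := Module.Flat.isTrivialRelation_of_sum_smul_eq_zero h
        exact ⟨Finset.univ.image y, fun _ => ⟨k, a, y, fun j => Finset.mem_image_of_mem _ (Finset.mem_univ j), h1, h2⟩⟩
      · exact ⟨∅, fun h' => absurd h' h⟩
    choose T hT using hex
    let s : Set B := (F : Set B) ∪ ⋃ r : List (A × F), (T r : Set B)
    refine ⟨Algebra.adjoin A s, fun b hb => Algebra.subset_adjoin (Or.inl hb), ?_, ?_⟩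
    · refine (Algebra.cardinalMk_adjoin_le A s).trans (max_le (max_le hA ?_) hω)
      refine (Cardinal.mk_union_le _ _).trans (Cardinal.add_le_of_le hω hF ?_)
      refine (Cardinal.mk_iUnion_le _).trans ((mul_le_mul' ((Cardinal.mk_list_le_max _).trans (max_le hω ?_))
        (ciSup_le' fun r => ((T r).finite_toSet.lt_aleph0).le.trans hω)).trans (Cardinal.mul_eq_self hω).le)
      rw [Cardinal.mk_prod, Cardinal.lift_id, Cardinal.lift_id]
      exact (mul_le_mul' hA hF).trans (Cardinal.mul_eq_self hω).le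
    · intro l f x hfx
      let r : List (A × F) := List.ofFn fun i => (f i, x i)
      have hl : r.length = l := List.length_ofFn
      have hget : ∀ i : Fin r.length, r.get i = (f (Fin.cast hl i), x (Fin.cast hl i)) := fun i => List.get_ofFn _ i
      obtain ⟨k, a, y, hy, h1, h2⟩ := hT r (by
        rw [← hfx]
        refine Fintype.sum_equiv (finCongr hl) _ _ fun i => ?_
        rw [hget]; rfl)
      refine ⟨k, fun i j => a (Fin.cast hl.symm i) j, fun j => ⟨y j, Algebra.subset_adjoin (Or.inr (Set.mem_iUnion.2 ⟨r, hy j⟩))⟩, fun i => ?_, fun j => ?_⟩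
      · have := h1 (Fin.cast hl.symm i)
        rw [hget] at this
        simpa using this
      · rw [← h2 j]
        refine (Fintype.sum_equiv (finCongr hl) _ _ fun i => ?_).symm
        rw [hget]; simp
  choose G hG1 hG2 hG3 using hstep
  let seq : ℕ → {F : Subalgebra A B // Cardinal.mk F ≤ κ} := fun n => Nat.rec ⟨E, hE⟩ (fun _ F => ⟨G F.1 F.2, hG2 F.1 F.2⟩) n
  have hmono : Monotone fun n => (seq n).1 := monotone_nat_of_le_succ fun n => hG1 (seq n).1 (seq n).2
  have hdir : Directed (· ≤ ·) fun n => (seq n).1 := hmono.directed_le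
  let B' : Subalgebra A B := ⨆ n, (seq n).1
  have hcoe : (B' : Set B) = ⋃ n, ((seq n).1 : Set B) := Subalgebra.coe_iSup_of_directed hdir
  refine ⟨B', le_iSup (fun n => (seq n).1) 0, ?_, ?_⟩
  · refine Module.Flat.of_forall_isTrivialRelation fun {l f x} hfx => ?_
    have hmem : ∀ i, ∃ n, (x i : B) ∈ (seq n).1 := fun i => by
      have := (x i).2
      rw [← SetLike.mem_coe, hcoe, Set.mem_iUnion] at this
      exact this
    choose m hm using hmem
    let N := Finset.univ.sup m
    have hxN : ∀ i, (x i : B) ∈ (seq N).1 := fun i => hmono (Finset.le_sup (Finset.mem_univ i)) (hm i)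
    have h0 : ∑ i, f i • (x i : B) = 0 := by
      have := congrArg (fun z : B' => (z : B)) hfx
      simpa using this
    obtain ⟨k, a, y, h1, h2⟩ := hG3 (seq N).1 (seq N).2 f (fun i => ⟨x i, hxN i⟩) h0
    refine ⟨k, a, fun j => ⟨y j, (le_iSup (fun n => (seq n).1) (N + 1)) (y j).2⟩, fun i => Subtype.ext ?_, h2⟩
    simpa using h1 i
  · show Cardinal.mk (B' : Set B) ≤ κ
    rw [hcoe]
    rw [show (⋃ n, ((seq n).1 : Set B)) = ⋃ m : ULift.{u} ℕ, ((seq m.down).1 : Set B) from by ext z; simp]
    refine (Cardinal.mk_iUnion_le _).trans ?_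
    refine (mul_le_mul' ?_ (ciSup_le' fun n : ULift.{u} ℕ => (seq n.down).2)).trans (Cardinal.mul_eq_self hω).le
    exact Cardinal.mk_le_aleph0.trans hω

end Groth.Agent.S6386
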