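import Groth.Statements.S6387
import Groth.Agent.FlatLib.InjFibre
-- import your own Groth.Agent.* helpers here

set_option autoImplicit false
universe u
open CategoryTheory
open CAlg

namespace Groth.Agent.S6387

section
open TensorProduct
variable {R S : Type u} [CommRing R] [CommRing S] [IsLocalRing R] [IsLocalRing S] [IsNoetherianRing S]
  [Algebra R S] [IsLocalHom (algebraMap R S)]

theorem mem_map_smul_iff {M : Type u} [AddCommGroup M] [Module R M] [Module S M] [IsScalarTower R S M]
    (J : Ideal R) (x : M) :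
    x ∈ (J.map (algebraMap R S)) • (⊤ : Submodule S M) ↔ x ∈ J • (⊤ : Submodule R M) := by
  constructor
  · intro hx
    refine Submodule.smul_induction_on hx (fun s hs y _ => ?_) fun y z => Submodule.add_mem _
    induction hs using Submodule.span_induction generalizing y with
    | mem s hs =>
      obtain ⟨r, hr, rfl⟩ := hs
      rw [algebraMap_smul]
      exact Submodule.smul_mem_smul hr trivial
    | zero => rw [zero_smul]; exact Submodule.zero_mem _
    | add a b _ _ iha ihb => rw [add_smul]; exact Submodule.add_mem _ (iha y trivial) (ihb y trivial)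
    | smul c a _ iha => rw [smul_eq_mul, mul_comm, mul_smul]; exact iha _ trivial
  · intro hx
    refine Submodule.smul_induction_on hx (fun r hr y _ => ?_) fun y z => Submodule.add_mem _
    rw [← algebraMap_smul S r y]
    exact Submodule.smul_mem_smul (Ideal.mem_map_of_mem _ hr) trivial

theorem step {A B C : Type u} [AddCommGroup A] [Module S A] [AddCommGroup B] [Module R B] [Module S B]
    [IsScalarTower R S B] [Module.Finite S B] [AddCommGroup C] [Module R C] [Module S C]
    [IsScalarTower R S C] [Module.Flat R C] (f : A →ₗ[S] B) (g : B →ₗ[S] C) (hfg : ∀ a, g (f a) = 0)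
    (h : ∀ x, g x ∈ IsLocalRing.maximalIdeal R • (⊤ : Submodule R C) →
      ∃ a, x - f a ∈ IsLocalRing.maximalIdeal R • (⊤ : Submodule R B)) :
    (∀ x, g x = 0 → x ∈ LinearMap.range f) ∧ Module.Flat R (C ⧸ LinearMap.range g) := by
  let u : (B ⧸ LinearMap.range f) →ₗ[S] C := (LinearMap.range f).liftQ g (by
    rintro _ ⟨a, rfl⟩; exact hfg a)
  have hinj : Function.Injective ((u.restrictScalars R).lTensor (IsLocalRing.ResidueField R)) := by
    refine (injective_iff_map_eq_zero _).2 fun z hz => ?_
    let e1 := TensorProduct.quotTensorEquivQuotSMul (B ⧸ LinearMap.range f) (IsLocalRing.maximalIdeal R)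
    let e2 := TensorProduct.quotTensorEquivQuotSMul C (IsLocalRing.maximalIdeal R)
    obtain ⟨q, rfl⟩ : ∃ q : B ⧸ LinearMap.range f, (Submodule.Quotient.mk (1 : R) :
        R ⧸ IsLocalRing.maximalIdeal R) ⊗ₜ[R] q = z := by
      obtain ⟨q, hq⟩ := Submodule.Quotient.mk_surjective _ (e1 z)
      refine ⟨q, e1.injective ?_⟩
      rw [← hq]
      exact (TensorProduct.quotTensorEquivQuotSMul_mk_tmul _ 1 q).trans (by rw [one_smul])
    obtain ⟨x, rfl⟩ := Submodule.Quotient.mk_surjective _ q
    have hz' : (Ideal.Quotient.mk (IsLocalRing.maximalIdeal R) 1) ⊗ₜ[R] g x = 0 := hz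
    have h2 := congrArg e2 hz'
    rw [map_zero] at h2
    have h3 : g x ∈ IsLocalRing.maximalIdeal R • (⊤ : Submodule R C) := by
      rw [show e2 ((Ideal.Quotient.mk (IsLocalRing.maximalIdeal R) 1) ⊗ₜ[R] g x) =
        Submodule.Quotient.mk ((1 : R) • g x) from TensorProduct.quotTensorEquivQuotSMul_mk_tmul _ 1 (g x),
        one_smul, Submodule.Quotient.mk_eq_zero] at h2
      exact h2
    obtain ⟨a, ha⟩ := h x h3
    refine e1.map_eq_zero_iff.1 ?_
    refine (TensorProduct.quotTensorEquivQuotSMul_mk_tmul _ 1 _).trans ?_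
    rw [one_smul, Submodule.Quotient.mk_eq_zero]
    have hm : ((LinearMap.range f).mkQ.restrictScalars R) (x - f a) ∈ Submodule.map
        ((LinearMap.range f).mkQ.restrictScalars R) (IsLocalRing.maximalIdeal R • (⊤ : Submodule R B)) :=
      ⟨_, ha, rfl⟩
    rw [Submodule.map_smul''] at hm
    have hfa : (LinearMap.range f).mkQ (f a) = 0 := (Submodule.Quotient.mk_eq_zero _).2 ⟨a, rfl⟩
    have e : ((LinearMap.range f).mkQ.restrictScalars R) (x - f a) = Submodule.Quotient.mk x := by
      show (LinearMap.range f).mkQ (x - f a) = _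
      rw [map_sub, hfa, sub_zero]; rfl
    rw [e] at hm
    exact Submodule.smul_mono le_rfl le_top hm
  obtain ⟨h1, h2⟩ := FlatLib.injective_and_flat_coker S (u.restrictScalars R) hinj
  refine ⟨fun x hx => (Submodule.Quotient.mk_eq_zero _).1 (h1 (show u (Submodule.Quotient.mk x) = u 0 by
    rw [map_zero]; exact hx)), ?_⟩
  haveI := h2
  have hr : LinearMap.range (u.restrictScalars R) = (LinearMap.range g).restrictScalars R := by
    ext c
    constructor
    · rintro ⟨q, rfl⟩
      obtain ⟨x, rfl⟩ := Submodule.Quotient.mk_surjective _ q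
      exact ⟨x, rfl⟩
    · rintro ⟨x, rfl⟩
      exact ⟨Submodule.Quotient.mk x, rfl⟩
  exact Module.Flat.of_linearEquiv ((Submodule.Quotient.restrictScalarsEquiv R (LinearMap.range g)).symm.trans
    (Submodule.quotEquivOfEq _ _ hr.symm))

end

open TensorProduct in
theorem main {R S : Type u} [CommRing R] [CommRing S] [IsLocalRing R] [IsLocalRing S] [IsNoetherianRing S]
    [Algebra R S] [IsLocalHom (algebraMap R S)] (C : ChainComplex (ModuleCat.{u} S) ℕ) (i j k : ℕ)
    (hij : (ComplexShape.down ℕ).Rel i j) (hjk : (ComplexShape.down ℕ).Rel j k)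
    (hfin : Module.Finite S (C.X j))
    (hflat : Module.Flat R ((ModuleCat.restrictScalars (algebraMap R S)).obj (C.X k)))
    (hex : (((MonoidalCategory.tensorLeft
        (ModuleCat.of S (S ⧸ (IsLocalRing.maximalIdeal R).map (algebraMap R S)))).mapHomologicalComplex
        (ComplexShape.down ℕ)).obj C).ExactAt j) :
    C.ExactAt j ∧
      Module.Flat R ((ModuleCat.restrictScalars (algebraMap R S)).obj (ModuleCat.of S (C.X k ⧸ LinearMap.range (C.d j k).hom))) := by
  letI : Module R (C.X j) := Module.compHom _ (algebraMap R S)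
  haveI : IsScalarTower R S (C.X j) := ⟨fun r s x => by
    show (r • s) • x = algebraMap R S r • (s • x)
    rw [smul_smul, Algebra.smul_def]⟩
  letI : Module R (C.X k) := Module.compHom _ (algebraMap R S)
  haveI : IsScalarTower R S (C.X k) := ⟨fun r s x => by
    show (r • s) • x = algebraMap R S r • (s • x)
    rw [smul_smul, Algebra.smul_def]⟩
  haveI : Module.Flat R (C.X k) := hflat
  have hprev : (ComplexShape.down ℕ).prev j = i := (ComplexShape.down ℕ).prev_eq' hij
  have hnext : (ComplexShape.down ℕ).next j = k := (ComplexShape.down ℕ).next_eq' hjk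
  rw [HomologicalComplex.exactAt_iff' _ i j k hprev hnext, ShortComplex.moduleCat_exact_iff] at hex
  have h := step (R := R) (C.d i j).hom (C.d j k).hom
    (fun a => congrArg (fun φ => φ.hom a) (C.d_comp_d i j k)) fun x hx => by
      rw [← mem_map_smul_iff (S := S)] at hx
      let J := (IsLocalRing.maximalIdeal R).map (algebraMap R S)
      have h0 : (Ideal.Quotient.mk J 1) ⊗ₜ[S] (C.d j k).hom x = 0 := by
        refine (TensorProduct.quotTensorEquivQuotSMul (C.X k) J).injective ?_
        rw [map_zero, TensorProduct.quotTensorEquivQuotSMul_mk_tmul, one_smul, Submodule.Quotient.mk_eq_zero]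
        exact hx
      obtain ⟨z, hz⟩ := hex ((Ideal.Quotient.mk J 1) ⊗ₜ[S] x) h0
      obtain ⟨y, hy⟩ : ∃ y : C.X i, (Ideal.Quotient.mk J 1) ⊗ₜ[S] y = z := by
        obtain ⟨y, hy⟩ := Submodule.Quotient.mk_surjective _ (TensorProduct.quotTensorEquivQuotSMul (C.X i) J z)
        refine ⟨y, (TensorProduct.quotTensorEquivQuotSMul (C.X i) J).injective ?_⟩
        rw [TensorProduct.quotTensorEquivQuotSMul_mk_tmul, one_smul]
        exact hy
      subst hy
      refine ⟨y, (mem_map_smul_iff (S := S) _ _).1 ?_⟩
      have hz' : (Ideal.Quotient.mk J 1) ⊗ₜ[S] (C.d i j).hom y =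
          (Ideal.Quotient.mk J 1) ⊗ₜ[S] x := hz
      have h3 := congrArg (TensorProduct.quotTensorEquivQuotSMul (C.X j) J) hz'.symm
      rw [TensorProduct.quotTensorEquivQuotSMul_mk_tmul, TensorProduct.quotTensorEquivQuotSMul_mk_tmul,
        one_smul, one_smul, Submodule.Quotient.eq] at h3
      exact h3
  refine ⟨?_, h.2⟩
  rw [HomologicalComplex.exactAt_iff' _ i j k hprev hnext, ShortComplex.moduleCat_exact_iff]
  exact h.1

/-- Let R and S be Noetherian local rings, R → S a local ring map, and m the maximal ideal of R. Take a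
bounded complex F_e → … → F_1 → F_0 of finitely generated S-modules, zero to the left of F_e (a
chain complex C with C_j = 0 for j > e) such that every F_j is flat over R and the complex 0 →
F_e/mF_e → … → F_0/mF_0 (C tensored over S with S/mS) is exact at F_e, …, F_1. Then 0 → F_e → … →
F_0 is exact at F_e, …, F_1 and the cokernel of F_1 → F_0 (the homology of C in degree 0) is flat
over R. -/
theorem result {R S : Type u} [CommRing R] [CommRing S]
    [IsLocalRing R] [IsLocalRing S] [IsNoetherianRing R] [IsNoetherianRing S] [Algebra R S]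
    [IsLocalHom (algebraMap R S)] (C : ChainComplex (ModuleCat.{u} S) ℕ) (e : ℕ)
    (hzero : ∀ j, e < j → Limits.IsZero (C.X j)) (hfin : ∀ j, Module.Finite S (C.X j))
    (hflat : ∀ j, Module.Flat R ((ModuleCat.restrictScalars (algebraMap R S)).obj (C.X j)))
    (hex : ∀ j, 1 ≤ j → j ≤ e →
      (((MonoidalCategory.tensorLeft
          (ModuleCat.of S (S ⧸ (IsLocalRing.maximalIdeal R).map (algebraMap R S)))).mapHomologicalComplex
          (ComplexShape.down ℕ)).obj C).ExactAt j) :
    (∀ j, 1 ≤ j → j ≤ e → C.ExactAt j) ∧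
      Module.Flat R ((ModuleCat.restrictScalars (algebraMap R S)).obj (C.homology 0)) := by
  refine ⟨fun j h1 h2 => ?_, ?_⟩
  · obtain ⟨k, rfl⟩ : ∃ k, j = k + 1 := ⟨j - 1, by omega⟩
    exact (main C (k + 2) (k + 1) k rfl rfl (hfin _) (hflat _) (hex _ h1 h2)).1
  · haveI : IsIso (C.homologyι 0) := C.isIso_homologyι 0 _ rfl (C.shape _ _ (by simp))
    let η : C.homology 0 ≅ ModuleCat.of S (C.X 0 ⧸ LinearMap.range (C.d 1 0).hom) :=
      asIso (C.homologyι 0) ≪≫ (C.opcyclesIsCokernel 1 0 (by simp)).coconePointUniqueUpToIso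
        (ModuleCat.cokernelIsColimit (C.d 1 0))
    refine @Module.Flat.of_linearEquiv _ _ _ _ _ _ _ _ ?_
      ((ModuleCat.restrictScalars (algebraMap R S)).mapIso η).toLinearEquiv
    rcases Nat.eq_zero_or_pos e with he | he
    · subst he
      have hd : (C.d 1 0) = 0 := (hzero 1 Nat.zero_lt_one).eq_of_src _ _
      haveI := hflat 0
      exact Module.Flat.of_linearEquiv (((ModuleCat.restrictScalars (algebraMap R S)).mapIso
        ((Submodule.quotEquivOfEqBot (LinearMap.range (C.d 1 0).hom) (by
          rw [hd]; simp)).toModuleIso)).toLinearEquiv)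
    · exact (main C 2 1 0 rfl rfl (hfin _) (hflat _) (hex 1 le_rfl he)).2

end Groth.Agent.S6387
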