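import Groth.Statements.S6388
import Groth.Agent.ProjLib.ML

set_option autoImplicit false
universe u
open CAlg

namespace Groth.Agent.S6388
open TensorProduct

/-- Let f : M → N and g : M → M' be maps of R-modules and let N' be their pushout, realised as the
quotient of M' × N by the submodule of elements (g x, -f x). Then g dominates f — for every module Q
the kernel of f ⊗ id_Q is contained in the kernel of g ⊗ id_Q — if and only if the canonical map M'
→ N' is universally injective. -/
theorem result (R : Type u) [CommRing R] {M N M' : Type u}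
    [AddCommGroup M] [Module R M] [AddCommGroup N] [Module R N] [AddCommGroup M'] [Module R M']
    (f : M →ₗ[R] N) (g : M →ₗ[R] M') :
    (∀ (Q : Type u) [AddCommGroup Q] [Module R Q], LinearMap.ker (f.rTensor Q) ≤ LinearMap.ker (g.rTensor Q)) ↔
      CAlgX.UniversallyInjective R
        ((LinearMap.range (g.prod (-f))).mkQ ∘ₗ LinearMap.inl R M' N) := by
  have key : ∀ (Q : Type u) [AddCommGroup Q] [Module R Q] (z : M' ⊗[R] Q),
      ((LinearMap.range (g.prod (-f))).mkQ ∘ₗ LinearMap.inl R M' N).rTensor Q z = 0 ↔
        ∃ x, f.rTensor Q x = 0 ∧ g.rTensor Q x = z := by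
    intro Q _ _ z
    have h1 : ∀ x, (LinearMap.fst R M' N).rTensor Q ((g.prod (-f)).rTensor Q x) = g.rTensor Q x :=
      fun x => by rw [← LinearMap.comp_apply, ← LinearMap.rTensor_comp]; rfl
    have h2 : ∀ x, (LinearMap.snd R M' N).rTensor Q ((g.prod (-f)).rTensor Q x) = -(f.rTensor Q x) :=
      fun x => by
        rw [← LinearMap.comp_apply, ← LinearMap.rTensor_comp, LinearMap.snd_prod,
          LinearMap.rTensor_neg, LinearMap.neg_apply]
    have h3 : ∀ w, w = (LinearMap.inl R M' N).rTensor Q ((LinearMap.fst R M' N).rTensor Q w) +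
        (LinearMap.inr R M' N).rTensor Q ((LinearMap.snd R M' N).rTensor Q w) := fun w => by
      induction w using TensorProduct.induction_on with
      | zero => simp
      | tmul p q =>
        simp only [LinearMap.rTensor_tmul, ← TensorProduct.add_tmul]
        congr 1
        ext <;> simp
      | add a b ha hb =>
        simp only [map_add]
        rw [add_add_add_comm, ← ha, ← hb]
    have hex : Function.Exact (g.prod (-f)) (LinearMap.range (g.prod (-f))).mkQ :=
      LinearMap.exact_iff.2 (Submodule.ker_mkQ _)
    rw [LinearMap.rTensor_comp, LinearMap.comp_apply,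
      rTensor_exact Q hex (Submodule.mkQ_surjective _)]
    constructor
    · rintro ⟨x, hx⟩
      refine ⟨x, ?_, ?_⟩
      · have := congrArg ((LinearMap.snd R M' N).rTensor Q) hx
        rw [h2, ← LinearMap.comp_apply, ← LinearMap.rTensor_comp, LinearMap.snd_comp_inl,
          LinearMap.rTensor_zero] at this
        simpa using this
      · have := congrArg ((LinearMap.fst R M' N).rTensor Q) hx
        rwa [h1, ← LinearMap.comp_apply, ← LinearMap.rTensor_comp, LinearMap.fst_comp_inl,
          LinearMap.rTensor_id_apply] at this
    · rintro ⟨x, hfx, rfl⟩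
      refine ⟨x, ?_⟩
      rw [h3 ((g.prod (-f)).rTensor Q x), h1, h2, hfx, neg_zero, map_zero, add_zero]
  constructor
  · intro h Q _ _
    rw [← LinearMap.ker_eq_bot, LinearMap.ker_eq_bot']
    intro z hz
    obtain ⟨x, hfx, rfl⟩ := (key Q z).1 hz
    exact h Q hfx
  · intro h Q _ _ x hx
    exact h Q (((key Q _).2 ⟨x, hx, rfl⟩).trans (map_zero _).symm)

end Groth.Agent.S6388
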