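import Groth.Statements.S6389
import Mathlib
-- import your own Groth.Agent.* helpers here

set_option autoImplicit false
universe u
open CAlg

namespace Groth.Agent.S6389

/-- Let (M_s)_{s ∈ S} be a direct sum dévissage of an R-module M: an increasing family of submodules
indexed by a well-ordered set S with M_s = ⋃_{t<s} M_t at every index s that is not a successor (in
particular the first term is 0), ⋃_s M_s = M, and M_s a direct summand of M_t whenever t is the
successor of s. Then M is isomorphic to the direct sum, over the successor steps s ⋖ t, of the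
quotients M_t/M_s (existence of an isomorphism; the map in the source depends on chosen
complements). -/
theorem result (R : Type u) [CommRing R] (M : Type u)
    [AddCommGroup M] [Module R M] (S : Type u) [LinearOrder S] [WellFoundedLT S] (Mf : S → Submodule R M)
    (hmono : Monotone Mf) :
    (∀ s : S, Order.IsSuccPrelimit s → Mf s = ⨆ t : {t : S // t < s}, Mf t.1) →
      (⨆ s, Mf s) = ⊤ →
      (∀ s t : S, s ⋖ t → ∃ C : Submodule R M, Mf s ⊓ C = ⊥ ∧ Mf s ⊔ C = Mf t) →
      Nonempty (M ≃ₗ[R] DirectSum {p : S × S // p.1 ⋖ p.2}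
        fun p => ↥(Mf p.1.2) ⧸ Submodule.comap (Mf p.1.2).subtype (Mf p.1.1)) := by
  classical
  intro hlim htop hcov
  choose C hC1 hC2 using fun p : {p : S × S // p.1 ⋖ p.2} => hcov p.1.1 p.1.2 p.2
  let e : ∀ p : {p : S × S // p.1 ⋖ p.2},
      (↥(Mf p.1.2) ⧸ Submodule.comap (Mf p.1.2).subtype (Mf p.1.1)) ≃ₗ[R] ↥(C p) := fun p =>
    (Submodule.quotientEquivOfIsCompl _ (Submodule.comap (Mf p.1.2).subtype (C p)) ⟨by
        rw [disjoint_iff, ← Submodule.comap_inf, hC1 p, Submodule.comap_bot, Submodule.ker_subtype],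
      by
        rw [codisjoint_iff, eq_top_iff]
        rintro ⟨x, hx⟩ -
        obtain ⟨y, hy, z, hz, rfl⟩ := Submodule.mem_sup.1 ((hC2 p).ge hx)
        exact Submodule.mem_sup.2 ⟨⟨y, hC2 p ▸ Submodule.mem_sup_left hy⟩, hy,
          ⟨z, hC2 p ▸ Submodule.mem_sup_right hz⟩, hz, rfl⟩⟩).trans
      (Submodule.comapSubtypeEquivOfLe ((hC2 p) ▸ le_sup_right))
  have hspan : iSup C = ⊤ := by
    rw [eq_top_iff, ← htop]
    refine iSup_le fun t => ?_
    induction t using WellFoundedLT.induction with
    | ind t ih =>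
      by_cases ht : Order.IsSuccPrelimit t
      · rw [hlim t ht]
        exact iSup_le fun s => ih s.1 s.2
      · obtain ⟨s, hs⟩ := Order.not_isSuccPrelimit_iff_exists_covBy.1 ht
        rw [← hC2 ⟨(s, t), hs⟩]
        exact sup_le (ih s hs.lt) (le_iSup C ⟨(s, t), hs⟩)
  have key : ∀ (F : Finset {p : S × S // p.1 ⋖ p.2}) (c : ∀ p, C p),
      ∑ p ∈ F, (c p : M) = 0 → ∀ p ∈ F, c p = 0 := by
    intro F
    induction F using Finset.induction_on_max_value (fun p : {p : S × S // p.1 ⋖ p.2} => p.1.2) with
    | empty => simp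
    | insert p F hp hmax ih =>
      intro c hsum
      rw [Finset.sum_insert hp] at hsum
      have hrest : ∑ q ∈ F, (c q : M) ∈ Mf p.1.1 := by
        refine Submodule.sum_mem _ fun q hq => ?_
        have hlt : q.1.2 < p.1.2 := lt_of_le_of_ne (hmax q hq) fun he => by
          refine hp ?_
          have : q = p := Subtype.ext (Prod.ext (CovBy.unique_left (he ▸ q.2) p.2) he)
          exact this ▸ hq
        have hle : q.1.2 ≤ p.1.1 := le_of_not_gt fun hlt' => p.2.2 hlt' hlt
        exact hmono hle ((hC2 q).le (Submodule.mem_sup_right (c q).2))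
      have h0 : (c p : M) ∈ Mf p.1.1 ⊓ C p := ⟨by
        rw [eq_neg_of_add_eq_zero_left hsum]; exact Submodule.neg_mem _ hrest, (c p).2⟩
      rw [hC1 p, Submodule.mem_bot] at h0
      rw [h0, zero_add] at hsum
      intro q hq
      rcases Finset.mem_insert.1 hq with rfl | hq
      · exact Subtype.ext h0
      · exact ih c hsum q hq
  have hinj : Function.Injective (DirectSum.coeLinearMap C) := by
    rw [← LinearMap.ker_eq_bot, LinearMap.ker_eq_bot']
    intro v hv
    apply DFinsupp.ext
    intro p
    by_cases hp : p ∈ DFinsupp.support v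
    · refine key (DFinsupp.support v) (fun q => v q) ?_ p hp
      rw [← hv, DirectSum.coeLinearMap_eq_dfinsuppSum, DFinsupp.sum]
    · simpa using hp
  have hint : DirectSum.IsInternal C :=
    ⟨hinj, (LinearMap.range_eq_top (f := DirectSum.coeLinearMap C)).1 (DirectSum.range_coeLinearMap.trans hspan)⟩
  exact ⟨((LinearEquiv.ofBijective (DirectSum.coeLinearMap C) hint).symm).trans
    (DirectSum.congrLinearEquiv fun p => (e p).symm)⟩

end Groth.Agent.S6389
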