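import Groth.Statements.S6390
import Mathlib.LinearAlgebra.DFinsupp
import Mathlib.Algebra.DirectSum.Module
import Mathlib.Order.SuccPred.Limit
import Mathlib.SetTheory.Cardinal.Order
import Mathlib.Order.WithBot
import Mathlib.Data.Finset.Max

set_option autoImplicit false
set_option backward.isDefEq.respectTransparency false
set_option backward.isDefEq.respectTransparency.types false
universe u
open scoped Classical
open CAlg

namespace Groth.Agent.S6390

/-- A surjective image of a countably generated module is countably generated. -/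
lemma cg_of_surjective {R : Type u} [CommRing R] {X Y : Type u} [AddCommGroup X] [Module R X]
    [AddCommGroup Y] [Module R Y] (φ : X →ₗ[R] Y) (hφ : Function.Surjective φ)
    (h : CAlg.IsCountablyGenerated R X) : CAlg.IsCountablyGenerated R Y := by
  obtain ⟨s, hs, hspan⟩ := h
  exact ⟨φ '' s, hs.image _, by
    rw [Submodule.span_image, hspan, Submodule.map_top, LinearMap.range_eq_top.2 hφ]⟩

/-- A complement is isomorphic to the quotient. -/
lemma cg_quotient_iff {R : Type u} [CommRing R] {M : Type u} [AddCommGroup M] [Module R M]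
    {A B C : Submodule R M} (hd : A ⊓ C = ⊥) (hs : A ⊔ C = B) :
    CAlg.IsCountablyGenerated R (↥B ⧸ Submodule.comap B.subtype A) ↔
      CAlg.IsCountablyGenerated R C := by
  have hCB : C ≤ B := hs ▸ le_sup_right
  let φ : C →ₗ[R] (↥B ⧸ Submodule.comap B.subtype A) :=
    (Submodule.comap B.subtype A).mkQ ∘ₗ Submodule.inclusion hCB
  have hsurj : Function.Surjective φ := fun q => by
    obtain ⟨b, rfl⟩ := Submodule.Quotient.mk_surjective _ q
    obtain ⟨a, ha, c, hc, hac⟩ := Submodule.mem_sup.1 (hs.ge b.2)
    refine ⟨⟨c, hc⟩, (Submodule.Quotient.eq _).2 ?_⟩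
    show (c : M) - (b : M) ∈ A
    rw [← hac, sub_add_cancel_right]
    exact neg_mem ha
  have hinj : Function.Injective φ := (injective_iff_map_eq_zero φ).2 fun c hc => by
    refine Subtype.ext ((Submodule.mem_bot R).1 (hd ▸ Submodule.mem_inf.2 ⟨?_, c.2⟩))
    have h0 : Submodule.Quotient.mk (p := Submodule.comap B.subtype A) (Submodule.inclusion hCB c) = 0 := hc
    exact (Submodule.Quotient.mk_eq_zero (Submodule.comap B.subtype A)).1 h0
  let e := LinearEquiv.ofBijective φ ⟨hinj, hsurj⟩
  exact ⟨fun h => cg_of_surjective e.symm.toLinearMap e.symm.surjective h,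
    fun h => cg_of_surjective e.toLinearMap e.surjective h⟩

/-- An R-module M is a direct sum of countably generated modules if and only if it admits a Kaplansky
dévissage, i.e. an increasing family of submodules (M_s) indexed by a well-ordered set S with M_s =
⋃_{t<s} M_t at non-successor indices (so the first term is 0), ⋃_s M_s = M, and, whenever t is the
successor of s, M_s a direct summand of M_t with M_t/M_s countably generated. -/
theorem result (R : Type u) [CommRing R] (M : Type u)
    [AddCommGroup M] [Module R M] :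
    (∃ (ι : Type u) (N : ι → Submodule R M), DirectSum.IsInternal N ∧ ∀ i, CAlg.IsCountablyGenerated R (N i)) ↔
      ∃ (S : Type u) (_ : LinearOrder S) (_ : WellFoundedLT S) (Mf : S → Submodule R M), Monotone Mf ∧
        (∀ s : S, Order.IsSuccPrelimit s → Mf s = ⨆ t : {t : S // t < s}, Mf t.1) ∧
        (⨆ s, Mf s) = ⊤ ∧
        (∀ s t : S, s ⋖ t → ∃ C : Submodule R M, Mf s ⊓ C = ⊥ ∧ Mf s ⊔ C = Mf t ∧
          CAlg.IsCountablyGenerated R (↥(Mf t) ⧸ Submodule.comap (Mf t).subtype (Mf s))) := by
  classical
  constructor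
  · rintro ⟨ι, N, hN, hcg⟩
    have hsup := hN.submodule_iSup_eq_top
    have hind := hN.submodule_iSupIndep
    letI : LinearOrder ι := IsWellOrder.linearOrder WellOrderingRel
    haveI : WellFoundedLT ι := ⟨WellOrderingRel.isWellOrder.wf⟩
    let Mf : WithTop ι → Submodule R M := fun s => ⨆ (i : ι) (_ : (i : WithTop ι) < s), N i
    have hle : ∀ {s : WithTop ι} {i : ι}, (i : WithTop ι) < s → N i ≤ Mf s := fun h =>
      le_iSup₂ (f := fun (i : ι) (_ : (i : WithTop ι) < _) => N i) _ h
    have hmono : Monotone Mf := fun s t hst => iSup₂_le fun i hi => hle (hi.trans_le hst)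
    refine ⟨WithTop ι, inferInstance, inferInstance, Mf, hmono, fun s hs => ?_, ?_, fun s t hst => ?_⟩
    · refine le_antisymm (iSup₂_le fun i hi => ?_) (iSup_le fun t => hmono t.2.le)
      obtain ⟨t, hit, hts⟩ := (not_covBy_iff hi).1 (hs i)
      exact le_iSup_of_le ⟨t, hts⟩ (hle hit)
    · refine eq_top_iff.2 ?_
      rw [← hsup]
      exact iSup_le fun i => le_iSup_of_le ⊤ (hle (WithTop.coe_lt_top i))
    · obtain ⟨i, rfl⟩ : ∃ i : ι, (i : WithTop ι) = s :=
        WithTop.ne_top_iff_exists.1 (fun h => not_top_lt (h ▸ hst.lt))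
      have h1 : Mf t = Mf i ⊔ N i := by
        refine le_antisymm (iSup₂_le fun j hj => ?_) (sup_le (hmono hst.lt.le) (hle hst.lt))
        rcases (hst.wcovBy.le_of_lt hj).lt_or_eq with h | h
        · exact le_sup_of_le_left (hle h)
        · rw [WithTop.coe_inj.1 h]; exact le_sup_right
      have h2 : Mf i ⊓ N i = ⊥ := by
        rw [← disjoint_iff]
        refine (hind i).symm.mono_left (iSup₂_le fun j hj => ?_)
        exact le_iSup₂_of_le j (WithTop.coe_lt_coe.1 hj).ne le_rfl
      exact ⟨N i, h2, h1.symm, (cg_quotient_iff h2 h1.symm).2 (hcg i)⟩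
  · rintro ⟨S, _, _, Mf, hmono, hlim, htop, hstep⟩
    let ι := {s : S // ∃ t, s ⋖ t}
    choose C hC1 hC2 hC3 using fun s : ι => hstep s.1 _ s.2.choose_spec
    refine ⟨ι, C, ?_, fun s => (cg_quotient_iff (hC1 s) (hC2 s)).1 (hC3 s)⟩
    have hle : ∀ {s : ι} {t : S}, s.1 < t → C s ≤ Mf t := fun {s t} h =>
      le_sup_right.trans ((hC2 s).le.trans (hmono (s.2.choose_spec.wcovBy.ge_of_gt h)))
    suffices hh : iSupIndep C ∧ iSup C = ⊤ by
      convert DirectSum.isInternal_submodule_of_iSupIndep_of_iSup_eq_top hh.1 hh.2
    refine ⟨?_, ?_⟩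
    · rw [iSupIndep_iff_finsetSum_eq_zero_imp_eq_zero]
      intro T
      induction T using Finset.induction_on_max with
      | empty => simp
      | insert a T ha ih =>
        intro v hv hsum
        have haT : a ∉ T := fun h => lt_irrefl _ (ha a h)
        rw [Finset.sum_insert haT] at hsum
        have hsum' : ∑ j ∈ T, v j ∈ Mf a.1 := Submodule.sum_mem _ fun j hj =>
          hle (ha j hj) (hv j (Finset.mem_insert_of_mem hj))
        have hva : v a = 0 := by
          refine (Submodule.mem_bot R).1 ((hC1 a) ▸ Submodule.mem_inf.2 ⟨?_, hv a (Finset.mem_insert_self _ _)⟩)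
          rw [eq_neg_of_add_eq_zero_left hsum]
          exact neg_mem hsum'
        intro j hj
        rw [hva, zero_add] at hsum
        rcases Finset.mem_insert.1 hj with rfl | hj
        · exact hva
        · exact ih v (fun i hi => hv i (Finset.mem_insert_of_mem hi)) hsum j hj
    · refine eq_top_iff.2 ?_
      rw [← htop]
      refine iSup_le fun t => ?_
      induction t using WellFoundedLT.induction with
      | _ t ih =>
        by_cases ht : Order.IsSuccPrelimit t
        · rw [hlim t ht]
          exact iSup_le fun s => ih s.1 s.2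
        · obtain ⟨s, hs⟩ := Order.not_isSuccPrelimit_iff_exists_covBy.1 ht
          let s' : ι := ⟨s, t, hs⟩
          have : t = s'.2.choose := hs.unique_right s'.2.choose_spec
          rw [this, ← hC2 s']
          exact sup_le (ih s hs.lt) (le_iSup C s')

end Groth.Agent.S6390
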