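import Groth.Statements.S6391
import Groth.Agent.IndEtHensPtLib.Basic
-- import your own Groth.Agent.* helpers here

set_option autoImplicit false
universe u
open CAlg

namespace Groth.Agent.S6391

/-- Let R be a ring, S and S' henselian local rings which are filtered colimits of étale R-algebras, and
K a field together with R-algebra maps S → K and S' → K identifying K with the residue field of each
(surjective with kernel the maximal ideal). Then exactly one isomorphism of R-algebras S → S'
commutes with the two maps to K. -/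
theorem result (R S S' K : Type u) [CommRing R]
    [CommRing S] [CommRing S'] [Field K] [HenselianLocalRing S] [HenselianLocalRing S']
    [Algebra R S] [Algebra R S'] [Algebra R K] (hS : EtPBC.IsIndEtale R S) (hS' : EtPBC.IsIndEtale R S')
    (u : S →ₐ[R] K) (u' : S' →ₐ[R] K) (hu : Function.Surjective u) (hu' : Function.Surjective u')
    (hku : RingHom.ker u.toRingHom = IsLocalRing.maximalIdeal S)
    (hku' : RingHom.ker u'.toRingHom = IsLocalRing.maximalIdeal S') :
    ∃! e : S ≃ₐ[R] S', u'.comp (e : S →ₐ[R] S') = u := by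
  have h' : HenselianRing S' (RingHom.ker u'.toRingHom) := by rw [hku']; infer_instance
  have h : HenselianRing S (RingHom.ker u.toRingHom) := by rw [hku]; infer_instance
  obtain ⟨φ, hφ, hφu⟩ := IndEtHensPtLib.existsUnique_algHom hS u' hu' u
  obtain ⟨ψ, hψ, -⟩ := IndEtHensPtLib.existsUnique_algHom hS' u hu u'
  obtain ⟨a, -, ha⟩ := IndEtHensPtLib.existsUnique_algHom hS u hu u
  obtain ⟨b, -, hb⟩ := IndEtHensPtLib.existsUnique_algHom hS' u' hu' u'
  have h1 : ψ.comp φ = AlgHom.id R S :=
    (ha _ (by show u.comp (ψ.comp φ) = u; rw [← AlgHom.comp_assoc, hψ, hφ])).trans (ha _ (AlgHom.comp_id u)).symm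
  have h2 : φ.comp ψ = AlgHom.id R S' :=
    (hb _ (by show u'.comp (φ.comp ψ) = u'; rw [← AlgHom.comp_assoc, hφ, hψ])).trans (hb _ (AlgHom.comp_id u')).symm
  exact ⟨AlgEquiv.ofAlgHom φ ψ h2 h1, hφ, fun e he =>
    AlgEquiv.ext fun x => AlgHom.congr_fun (hφu e he) x⟩

end Groth.Agent.S6391
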