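import Groth.Statements.S6392
import Groth.Agent.ProjLib.MLColim

set_option autoImplicit false
universe u
open CAlg

namespace Groth.Agent.S6392

/-- Suppose M is the colimit of finitely presented R-modules G_i along a directed system over a nonempty
directed index set (transition maps f_ij), and M is both Mittag-Leffler and countably generated.
Then some countable directed subset I' of the indices already computes M: the canonical map from the
colimit of the G_i with i ∈ I' to M is bijective. -/
theorem result (R : Type u) [CommRing R]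
    {ι : Type u} [Preorder ι] [IsDirected ι (· ≤ ·)] [Nonempty ι] [DecidableEq ι] (G : ι → Type u)
    [∀ i, AddCommGroup (G i)] [∀ i, Module R (G i)] [∀ i, Module.FinitePresentation R (G i)]
    (f : ∀ i j, i ≤ j → G i →ₗ[R] G j) [DirectedSystem G fun i j h => f i j h]
    (hML : CAlg.IsMittagLeffler R (Module.DirectLimit G f))
    (hc : CAlg.IsCountablyGenerated R (Module.DirectLimit G f)) :
    ∃ I' : Set ι, I'.Countable ∧ DirectedOn (· ≤ ·) I' ∧
      Function.Bijective (Module.DirectLimit.lift R I' (fun i : I' => G i.1)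
        (fun (i j : I') (h : i ≤ j) => f i.1 j.1 h)
        (fun i : I' => Module.DirectLimit.of R ι G f i.1)
        (fun (i j : I') (h : i ≤ j) (x : G i.1) => Module.DirectLimit.of_f)) := by
  classical
  have : IsDirectedOrder ι := ‹IsDirected ι (· ≤ ·)›
  obtain ⟨s, hs, hspan⟩ := hc
  obtain ⟨I', h1, h2, h3, h4, h5⟩ := ProjLib.exists_countable_subsystem hML s hs
  refine ⟨I', h1, h2, ?_, ?_⟩
  · have : IsDirectedOrder I' := ⟨h2.directed_val⟩
    have : Nonempty I' := h3.to_subtype
    have : DirectedSystem (fun i : I' => G i.1) (fun i j h => f i.1 j.1 h) :=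
      ⟨fun i x => DirectedSystem.map_self (f := fun i j h => f i j h) x,
        fun _ _ _ hij hjk x => DirectedSystem.map_map (f := fun i j h => f i j h) hij hjk x⟩
    rw [← LinearMap.ker_eq_bot, LinearMap.ker_eq_bot']
    intro z hz
    obtain ⟨i, x, rfl⟩ := Module.DirectLimit.exists_of z
    rw [Module.DirectLimit.lift_of] at hz
    obtain ⟨j, hj, hij, h0⟩ := h5 i.1 i.2 x hz
    rw [← Module.DirectLimit.of_f (j := (⟨j, hj⟩ : I')) (hij := (hij : i ≤ ⟨j, hj⟩)), h0, map_zero]
  · rw [← LinearMap.range_eq_top, eq_top_iff, ← hspan, Submodule.span_le]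
    intro z hz
    obtain ⟨i, hi, x, rfl⟩ := h4 z hz
    exact ⟨Module.DirectLimit.of R I' (fun i : I' => G i.1) (fun i j h => f i.1 j.1 h) ⟨i, hi⟩ x,
      Module.DirectLimit.lift_of _ _ _⟩

end Groth.Agent.S6392
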