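import Groth.Statements.S6397
import Groth.Agent.FibLib.Basic

set_option autoImplicit false
open CategoryTheory
universe v u
open FibCat

namespace Groth.Agent.S6397

/-- A functor `G` over `C` between categories fibred in groupoids is fully faithful if and only if each
induced functor of fibre categories `𝒳_U ⥤ 𝒴_U` is fully faithful. -/
theorem result {C : Type u} [Category.{v} C] {𝒳 𝒴 : BasedCategory.{v, max u v} C} (G : 𝒳 ⥤ᵇ 𝒴) (h𝒳 : FibCat.IsFibGrpd 𝒳.p) (h𝒴 : FibCat.IsFibGrpd 𝒴.p) :
    (G.toFunctor.Full ∧ G.toFunctor.Faithful) ↔ ∀ U : C, (FibCat.fiberFunctor G U).Full ∧ (FibCat.fiberFunctor G U).Faithful := by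
  have hP := FibLib.preservesStronglyCartesian_of_isFibGrpd G
  refine ⟨fun ⟨_, _⟩ U => ⟨FibLib.fiberFunctor_full G U, FibLib.fiberFunctor_faithful G U⟩, fun h => ?_⟩
  exact ⟨FibLib.full_of_fiber G hP (fun U => (h U).1), FibLib.faithful_of_fiber G hP (fun U => (h U).2)⟩

end Groth.Agent.S6397
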