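import Groth.Statements.S6398
import Groth.Agent.FibLib.Basic

set_option autoImplicit false
open CategoryTheory
universe v u
open FibCat

namespace Groth.Agent.S6398

/-- A functor `G` over `C` between categories fibred in groupoids is an equivalence of categories if and
only if each induced functor of fibre categories `𝒳_U ⥤ 𝒴_U` is an equivalence of categories. -/
theorem result {C : Type u} [Category.{v} C] {𝒳 𝒴 : BasedCategory.{v, max u v} C} (G : 𝒳 ⥤ᵇ 𝒴) (h𝒳 : FibCat.IsFibGrpd 𝒳.p) (h𝒴 : FibCat.IsFibGrpd 𝒴.p) :
    G.toFunctor.IsEquivalence ↔ ∀ U : C, (FibCat.fiberFunctor G U).IsEquivalence := by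
  refine ⟨fun _ U => FibLib.fiberFunctor_isEquivalence (FibLib.isEquivOver_of_isEquivalence_of_isFibered G) U, fun h => ?_⟩
  exact FibLib.isEquivalence_of_isEquivOver
    (FibLib.isEquivOver_of_fiber G (FibLib.preservesStronglyCartesian_of_isFibGrpd G) h)

end Groth.Agent.S6398
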