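import Groth.Statements.S6405
import Groth.Agent.FibLib.Fp

set_option autoImplicit false
open CategoryTheory
universe v u
open FibCat

namespace Groth.Agent.S6405

/-- (2) ⇒ (1): if `𝒳` is fibred in groupoids over `C` and the canonical functor `I_𝒳 ⟶ 𝒳` from its
inertia is an equivalence over `C`, then `𝒳` is fibred in setoids. (The published statement is an
equivalence; this row states only that the inertia condition implies that `𝒳` is fibred in setoids.) -/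
theorem result {C : Type u} [Category.{v} C] {𝒳 : BasedCategory.{v, max u v} C} (h𝒳 : FibCat.IsFibGrpd 𝒳.p)
    (h : FibCat.IsEquivOver (FibCat.inertiaToBase (FibCat.toSelf 𝒳))) : FibCat.IsFibSetoid 𝒳.p := by
  refine ⟨h𝒳, fun U a b => ⟨fun φ ψ => ?_⟩⟩
  haveI := FibLib.isEquivalence_of_isEquivOver h
  haveI := FibLib.isGroupoid_fiber 𝒳.p U
  let α : a ≅ a := asIso φ ≪≫ (asIso ψ).symm
  let α' : a.1 ≅ a.1 := Functor.Fiber.fiberInclusion.mapIso α
  have hα : (FibCat.toSelf 𝒳).map α'.hom = 𝟙 ((FibCat.toSelf 𝒳).obj a.1) := by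
    haveI : 𝒳.p.IsHomLift (𝟙 U) α'.hom := α.hom.2
    change 𝒳.p.map α'.hom = 𝟙 (𝒳.p.obj a.1)
    rw [IsHomLift.fac' 𝒳.p (𝟙 U) α'.hom]
    simp
  let x₀ : FibCat.InertiaObj (FibCat.toSelf 𝒳) := (FibCat.inertiaNeutral _).obj a.1
  let x₁ : FibCat.InertiaObj (FibCat.toSelf 𝒳) := ⟨a.1, α', hα⟩
  obtain ⟨m, hm⟩ := (FibCat.inertiaToBase (FibCat.toSelf 𝒳)).toFunctor.map_surjective
    (X := x₀) (Y := x₁) (𝟙 a.1)
  have hc : 𝟙 a.1 ≫ m.hom = m.hom ≫ α'.hom := m.comm
  have hm' : m.hom = 𝟙 a.1 := hm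
  rw [hm'] at hc
  simp only [Category.id_comp] at hc
  have h1 : α.hom = 𝟙 a := Subtype.ext ((Category.id_comp α'.hom).symm.trans hc.symm)
  simpa [α] using h1 =≫ ψ

end Groth.Agent.S6405
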