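import Groth.Statements.S6413
import Groth.Agent.FibLib.Fp

set_option autoImplicit false
open CategoryTheory
universe v u
open FibCat

namespace Groth.Agent.S6413

/-- For `𝒳, 𝒴` fibred in groupoids over `C` and `F : 𝒳 ⟶ 𝒴` over `C`, the projection `𝒳 ×_{F, 𝒴, id} 𝒴 ⟶
𝒴` is a category fibred in groupoids over `𝒴`. -/
theorem result {C : Type u} [Category.{v} C] {𝒳 𝒴 : BasedCategory.{v, max u v} C} (h𝒳 : FibCat.IsFibGrpd 𝒳.p) (h𝒴 : FibCat.IsFibGrpd 𝒴.p) (F : 𝒳 ⥤ᵇ 𝒴) :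
    FibCat.IsFibGrpd (FibCat.fpSnd F (BasedFunctor.id 𝒴)).toFunctor := by
  haveI := FibLib.isFibGrpd_fp (F := F) (G := BasedFunctor.id 𝒴)
  refine FibLib.isFibGrpd_based (FibCat.fpSnd F (BasedFunctor.id 𝒴)) (fun x w d hd => ?_)
  haveI hd' : 𝒴.p.IsHomLift (𝟙 (𝒳.p.obj x.obj.fst)) d.hom := hd
  haveI : 𝒴.p.IsHomLift (𝟙 (𝒳.p.obj x.obj.fst)) x.obj.iso.hom := x.property
  let e : F.obj x.obj.fst ≅ w := x.obj.iso ≪≫ d.symm
  let x' : (FibCat.fp F (BasedFunctor.id 𝒴)).obj := FibLib.fpObj x.obj.fst w e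
    (by
      have hi : 𝒴.p.IsHomLift (𝟙 (𝒳.p.obj x.obj.fst)) d.inv :=
        @IsHomLift.lift_id_inv _ _ _ _ 𝒴.p _ _ _ d hd'
      exact @IsHomLift.comp_of_lift_id _ _ _ _ 𝒴.p (𝒳.p.obj x.obj.fst) _ _ _ x.obj.iso.hom d.inv
        x.property hi)
  let m : x' ⟶ x := FibLib.fpHom (𝟙 x.obj.fst) d.hom (by
    change F.map (𝟙 x.obj.fst) ≫ x.obj.iso.hom = (x.obj.iso.hom ≫ d.inv) ≫ d.hom
    rw [Category.assoc]
    erw [Iso.inv_hom_id, Category.comp_id]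
    rw [F.toFunctor.map_id, Category.id_comp])
  exact ⟨x', m, IsHomLift.map (FibCat.fpSnd F (BasedFunctor.id 𝒴)).toFunctor m⟩

end Groth.Agent.S6413
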