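import Groth.Statements.S6417
-- import your own Groth.Agent.* helpers here

set_option autoImplicit false
set_option linter.style.haveILetI false
open CategoryTheory CategoryTheory.Limits
universe v₁ u₁ v₂ u₂
open FibCat

namespace Groth.Agent.S6417

/-- For `p : 𝒮 ⥤ C`, a strongly cartesian `φ : x ⟶ y`, any `ψ : z ⟶ y`, and a strongly cartesian `a : w
⟶ z` lying over the second projection of `p x ×_{p y} p z`, the object `w` is a fibre product `x ×_y
z`: there is `b : w ⟶ x` over the first projection with `(b, a)` a pullback square. -/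
theorem result {𝒮 : Type u₁} [Category.{v₁} 𝒮] {C : Type u₂} [Category.{v₂} C] (p : 𝒮 ⥤ C) {x y z w : 𝒮} (φ : x ⟶ y) (ψ : z ⟶ y)
    [p.IsStronglyCartesian (p.map φ) φ] [HasPullback (p.map φ) (p.map ψ)] (a : w ⟶ z)
    [p.IsStronglyCartesian (pullback.snd (p.map φ) (p.map ψ)) a] :
    ∃ b : w ⟶ x, p.IsHomLift (pullback.fst (p.map φ) (p.map ψ)) b ∧ IsPullback b a φ ψ := by
  haveI : p.IsHomLift (pullback.snd (p.map φ) (p.map ψ) ≫ p.map ψ) (a ≫ ψ) := inferInstance
  let b := Functor.IsStronglyCartesian.map p (p.map φ) φ (pullback.condition (f := p.map φ) (g := p.map ψ)).symm (a ≫ ψ)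
  have hb : b ≫ φ = a ≫ ψ := Functor.IsStronglyCartesian.fac p (p.map φ) φ _ (a ≫ ψ)
  have hw : p.obj w = pullback (p.map φ) (p.map ψ) := IsHomLift.domain_eq p (pullback.snd (p.map φ) (p.map ψ)) a
  have pb : p.map b = eqToHom hw ≫ pullback.fst (p.map φ) (p.map ψ) := by
    simpa using IsHomLift.fac' p (pullback.fst (p.map φ) (p.map ψ)) b
  have pa : p.map a = eqToHom hw ≫ pullback.snd (p.map φ) (p.map ψ) := by
    simpa using IsHomLift.fac' p (pullback.snd (p.map φ) (p.map ψ)) a
  refine ⟨b, inferInstance, ⟨hb⟩, ⟨PullbackCone.IsLimit.mk hb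
    (fun s => Functor.IsStronglyCartesian.map p (pullback.snd (p.map φ) (p.map ψ)) a
      (pullback.lift_snd (p.map s.fst) (p.map s.snd) (by rw [← p.map_comp, s.condition, p.map_comp])).symm s.snd)
    (fun s => ?_) (fun s => Functor.IsStronglyCartesian.fac p _ a _ _) (fun s m h₁ h₂ => ?_)⟩⟩
  · haveI : p.IsHomLift (p.map s.fst) s.fst := inferInstance
    have hg : p.map s.fst = pullback.lift (p.map s.fst) (p.map s.snd)
        (by rw [← p.map_comp, s.condition, p.map_comp]) ≫ pullback.fst (p.map φ) (p.map ψ) :=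
      (pullback.lift_fst _ _ _).symm
    let m := Functor.IsStronglyCartesian.map p (pullback.snd (p.map φ) (p.map ψ)) a
      (pullback.lift_snd (p.map s.fst) (p.map s.snd) (by rw [← p.map_comp, s.condition, p.map_comp])).symm s.snd
    haveI : p.IsHomLift (p.map s.fst) (m ≫ b) := by rw [hg]; infer_instance
    exact Functor.IsStronglyCartesian.ext p (p.map φ) φ (p.map s.fst) (show (m ≫ b) ≫ φ = s.fst ≫ φ by
      rw [Category.assoc, hb, ← Category.assoc, Functor.IsStronglyCartesian.fac, s.condition])
  · have hg : pullback.lift (p.map s.fst) (p.map s.snd) (by rw [← p.map_comp, s.condition, p.map_comp]) =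
        p.map m ≫ eqToHom hw := by
      apply pullback.hom_ext
      · rw [pullback.lift_fst, Category.assoc, ← pb, ← p.map_comp, h₁]
      · rw [pullback.lift_snd, Category.assoc, ← pa, ← p.map_comp, h₂]
    haveI : p.IsHomLift (pullback.lift (p.map s.fst) (p.map s.snd) (by rw [← p.map_comp, s.condition, p.map_comp])) m := by
      rw [hg]; infer_instance
    exact Functor.IsStronglyCartesian.map_uniq p (pullback.snd (p.map φ) (p.map ψ)) a _ s.snd m h₂

end Groth.Agent.S6417
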