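import Groth.Statements.S6421
-- import your own Groth.Agent.* helpers here

set_option autoImplicit false
set_option backward.isDefEq.respectTransparency false
set_option backward.isDefEq.respectTransparency.types false
set_option linter.style.haveILetI false
open CategoryTheory CategoryTheory.Limits
universe v u
open FibCat

namespace Groth.Agent.S6421

/-- For a 2-commutative morphism of cospans of categories whose outer functors `X ⥤ A`, `Y ⥤ B` are
fully faithful and whose middle functor `Z ⥤ C` is faithful, the induced functor `X ×_Z Y ⥤ A ×_C B`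
is fully faithful. -/
theorem result {X Y Z A B C : Type u} [Category.{v} X] [Category.{v} Y] [Category.{v} Z] [Category.{v} A] [Category.{v} B] [Category.{v} C] {H : X ⥤ Z} {I : Y ⥤ Z} {F : A ⥤ C} {G : B ⥤ C} (ψ : CatCospanTransform H I F G) [ψ.left.Full] [ψ.left.Faithful] [ψ.right.Full] [ψ.right.Faithful] [ψ.base.Faithful] :
    (FibCat.categoricalPullbackMap ψ).Full ∧ (FibCat.categoricalPullbackMap ψ).Faithful := by
  have hiso : ∀ x : CategoricalPullback H I, ((FibCat.categoricalPullbackMap ψ).obj x).iso.hom =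
      ψ.squareLeft.iso.inv.app x.fst ≫ ψ.base.map x.iso.hom ≫ ψ.squareRight.iso.hom.app x.snd := fun x => by
    simp [FibCat.categoricalPullbackMap] <;> rfl
  haveI hfull : (FibCat.categoricalPullbackMap ψ).Full := ⟨fun {x y} m => by
    obtain ⟨a, ha⟩ := ψ.left.map_surjective (m.fst : ψ.left.obj x.fst ⟶ ψ.left.obj y.fst)
    obtain ⟨b, hb⟩ := ψ.right.map_surjective (m.snd : ψ.right.obj x.snd ⟶ ψ.right.obj y.snd)
    refine ⟨⟨a, b, ψ.base.map_injective ?_⟩, CategoricalPullback.hom_ext ha hb⟩
    have hw : F.map (ψ.left.map a) ≫ (ψ.squareLeft.iso.inv.app y.fst ≫ ψ.base.map y.iso.hom ≫ ψ.squareRight.iso.hom.app y.snd) =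
        (ψ.squareLeft.iso.inv.app x.fst ≫ ψ.base.map x.iso.hom ≫ ψ.squareRight.iso.hom.app x.snd) ≫ G.map (ψ.right.map b) := by
      rw [← hiso, ← hiso, ha, hb]
      exact m.w
    have n₁ : F.map (ψ.left.map a) ≫ ψ.squareLeft.iso.inv.app y.fst = ψ.squareLeft.iso.inv.app x.fst ≫ ψ.base.map (H.map a) :=
      ψ.squareLeft.iso.inv.naturality a
    have n₂ : ψ.base.map (I.map b) ≫ ψ.squareRight.iso.hom.app y.snd = ψ.squareRight.iso.hom.app x.snd ≫ G.map (ψ.right.map b) :=
      ψ.squareRight.iso.hom.naturality b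
    simp only [Category.assoc] at hw
    rw [reassoc_of% n₁, ← n₂] at hw
    apply (cancel_mono (ψ.squareRight.iso.hom.app y.snd)).1
    simp only [Functor.map_comp, Category.assoc]
    exact (cancel_epi _).1 hw⟩
  haveI hfaith : (FibCat.categoricalPullbackMap ψ).Faithful := ⟨fun {x y} f g h =>
    CategoricalPullback.hom_ext (ψ.left.map_injective (congrArg (fun m => CategoricalPullback.Hom.fst m) h))
      (ψ.right.map_injective (congrArg (fun m => CategoricalPullback.Hom.snd m) h))⟩
  exact ⟨hfull, hfaith⟩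

end Groth.Agent.S6421
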