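import Groth.Statements.S6423
import Mathlib.Data.Set.Card
import Mathlib.Data.Fintype.Sigma
-- import your own Groth.Agent.* helpers here

set_option autoImplicit false
open CategoryTheory CategoryTheory.Limits
universe v u
open CatLim

namespace Groth.Agent.S6423

section
variable {C : Type u} [Category.{v} C] {J : Type} [SmallCategory J] (F : J ⥤ C)

/-- A universal family for a set `S` of objects and a predicate `E` on arrows. -/
private structure Uni (S : Set J) (E : ∀ a b : J, (a ⟶ b) → Prop) where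
  X : C
  π : ∀ s, s ∈ S → (X ⟶ F.obj s)
  mem : ∀ a b (f : a ⟶ b), E a b f → a ∈ S ∧ b ∈ S
  w : ∀ a b (f : a ⟶ b) (ha : a ∈ S) (hb : b ∈ S), E a b f → π a ha ≫ F.map f = π b hb
  lift : ∀ {T : C} (t : ∀ s, s ∈ S → (T ⟶ F.obj s)),
    (∀ a b (f : a ⟶ b) (ha : a ∈ S) (hb : b ∈ S), E a b f → t a ha ≫ F.map f = t b hb) →
      ∃! m : T ⟶ X, ∀ s hs, m ≫ π s hs = t s hs

private lemma exists_uni [HasPullbacks C] [Finite J] [IsConnected J] :
    ∃ E, Nonempty (Uni F (Set.univ : Set J) E) := by
  classical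
  obtain ⟨j0⟩ : Nonempty J := IsConnected.is_nonempty
  suffices h : ∀ n : ℕ, ∃ S : Set J, j0 ∈ S ∧ (n < S.ncard ∨ S = Set.univ) ∧ ∃ E, Nonempty (Uni F S E) by
    obtain ⟨S, -, hS | rfl, hU⟩ := h (Nat.card J)
    · exact absurd (Set.ncard_le_card S) (by omega)
    · exact hU
  intro n
  induction n with
  | zero =>
    refine ⟨{j0}, rfl, Or.inl (by simp), fun _ _ _ => False,
      ⟨⟨F.obj j0, fun s hs => eqToHom (by rw [show s = j0 from hs]), fun _ _ _ h => h.elim,
        fun _ _ _ _ _ h => h.elim, fun {T} t _ => ⟨t j0 rfl, ?_, ?_⟩⟩⟩⟩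
    · intro s hs
      obtain rfl : s = j0 := hs
      simp
    · intro m hm
      simpa using hm j0 rfl
  | succ n ih =>
    obtain ⟨S, hj0, hS, E, ⟨U⟩⟩ := ih
    by_cases huniv : S = Set.univ
    · exact ⟨S, hj0, Or.inr huniv, E, ⟨U⟩⟩
    have hS := hS.resolve_right huniv
    obtain ⟨a, b, ha, hb, hf⟩ : ∃ a b, a ∈ S ∧ b ∉ S ∧ (Nonempty (a ⟶ b) ∨ Nonempty (b ⟶ a)) := by
      by_contra! h
      apply huniv
      refine Set.eq_univ_of_forall fun j => induct_on_objects S hj0 (fun {p q} f => ⟨fun hp => ?_, fun hq => ?_⟩) j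
      · by_contra hq
        exact (h p q hp hq).1.false f
      · by_contra hp
        exact (h q p hq hp).2.false f
    have hnm : ∀ p ∈ S, p ≠ b := fun p hp h => hb (h ▸ hp)
    have hcard : n + 1 < (insert b S).ncard := by
      rw [Set.ncard_insert_of_notMem hb (Set.toFinite S)]; omega
    rcases hf with ⟨⟨f⟩⟩ | ⟨⟨f⟩⟩
    · let E' : ∀ p q : J, (p ⟶ q) → Prop := fun p q g =>
        E p q g ∨ ∃ (hp : a = p) (hq : b = q), g = eqToHom hp.symm ≫ f ≫ eqToHom hq
      refine ⟨insert b S, Or.inr hj0, Or.inl hcard, E', ⟨⟨U.X,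
        fun s hs => if h : s ∈ S then U.π s h else
          U.π a ha ≫ F.map f ≫ eqToHom (by rw [(hs.resolve_right h : s = b)]), ?_, ?_, ?_⟩⟩⟩
      · rintro p q g (h | ⟨rfl, rfl, -⟩)
        · exact ⟨Or.inr (U.mem p q g h).1, Or.inr (U.mem p q g h).2⟩
        · exact ⟨Or.inr ha, Or.inl rfl⟩
      · rintro p q g hp hq (h | ⟨rfl, rfl, rfl⟩)
        · obtain ⟨h1, h2⟩ := U.mem p q g h
          simp only [dif_pos h1, dif_pos h2]
          exact U.w p q g h1 h2 h
        · simp [ha, hb]
      · intro T t ht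
        obtain ⟨m, hm, hu⟩ := U.lift (fun s hs => t s (Or.inr hs))
          (fun p q g hp hq h => ht p q g (Or.inr hp) (Or.inr hq) (Or.inl h))
        refine ⟨m, fun s hs => ?_, fun m' hm' => hu m' fun s hs => ?_⟩
        · by_cases h : s ∈ S
          · simp only [dif_pos h]; exact hm s h
          · obtain rfl : s = b := hs.resolve_right h
            simp only [dif_neg h, eqToHom_refl, Category.comp_id, reassoc_of% (hm a ha)]
            exact ht a s f (Or.inr ha) (Or.inl rfl) (Or.inr ⟨rfl, rfl, by simp⟩)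
        · simpa [hs] using hm' s (Or.inr hs)
    · let E' : ∀ p q : J, (p ⟶ q) → Prop := fun p q g =>
        E p q g ∨ ∃ (hp : b = p) (hq : a = q), g = eqToHom hp.symm ≫ f ≫ eqToHom hq
      refine ⟨insert b S, Or.inr hj0, Or.inl hcard, E', ⟨⟨pullback (U.π a ha) (F.map f),
        fun s hs => if h : s ∈ S then pullback.fst _ _ ≫ U.π s h else
          pullback.snd _ _ ≫ eqToHom (by rw [(hs.resolve_right h : s = b)]), ?_, ?_, ?_⟩⟩⟩
      · rintro p q g (h | ⟨rfl, rfl, -⟩)
        · exact ⟨Or.inr (U.mem p q g h).1, Or.inr (U.mem p q g h).2⟩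
        · exact ⟨Or.inl rfl, Or.inr ha⟩
      · rintro p q g hp hq (h | ⟨rfl, rfl, rfl⟩)
        · obtain ⟨h1, h2⟩ := U.mem p q g h
          simp only [dif_pos h1, dif_pos h2, Category.assoc, U.w p q g h1 h2 h]
        · simp [ha, hb, pullback.condition]
      · intro T t ht
        obtain ⟨m, hm, hu⟩ := U.lift (fun s hs => t s (Or.inr hs))
          (fun p q g hp hq h => ht p q g (Or.inr hp) (Or.inr hq) (Or.inl h))
        have hc : m ≫ U.π a ha = t b (Or.inl rfl) ≫ F.map f := by
          rw [hm a ha]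
          exact (ht b a f (Or.inl rfl) (Or.inr ha) (Or.inr ⟨rfl, rfl, by simp⟩)).symm
        refine ⟨pullback.lift m (t b (Or.inl rfl)) hc, fun s hs => ?_, fun m' hm' => pullback.hom_ext ?_ ?_⟩
        · by_cases h : s ∈ S
          · simp only [dif_pos h]
            exact (pullback.lift_fst_assoc _ _ _ _).trans (hm s h)
          · obtain rfl : s = b := hs.resolve_right h
            simp only [dif_neg h, eqToHom_refl, Category.comp_id]
            exact pullback.lift_snd _ _ _
        · rw [pullback.lift_fst]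
          refine hu _ fun s hs => ?_
          simpa [hs] using hm' s (Or.inr hs)
        · rw [pullback.lift_snd]
          simpa [hb] using hm' b (Or.inl rfl)

private lemma add_arrow [HasEqualizers C] {E : ∀ a b : J, (a ⟶ b) → Prop} (U : Uni F Set.univ E)
    (a b : J) (f : a ⟶ b) :
    ∃ E' : ∀ a b : J, (a ⟶ b) → Prop, (∀ p q g, E p q g → E' p q g) ∧ E' a b f ∧
      Nonempty (Uni F Set.univ E') := by
  refine ⟨fun p q g => E p q g ∨ ∃ (hp : a = p) (hq : b = q), g = eqToHom hp.symm ≫ f ≫ eqToHom hq,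
    fun _ _ _ h => Or.inl h, Or.inr ⟨rfl, rfl, by simp⟩,
    ⟨⟨equalizer (U.π a trivial ≫ F.map f) (U.π b trivial), fun s hs => equalizer.ι _ _ ≫ U.π s hs,
      fun _ _ _ _ => ⟨trivial, trivial⟩, ?_, ?_⟩⟩⟩
  · rintro p q g hp hq (h | ⟨rfl, rfl, rfl⟩)
    · rw [Category.assoc, U.w p q g hp hq h]
    · simpa using equalizer.condition (U.π a trivial ≫ F.map f) (U.π b trivial)
  · intro T t ht
    obtain ⟨m, hm, hu⟩ := U.lift t (fun p q g hp hq h => ht p q g hp hq (Or.inl h))
    have hc : m ≫ U.π a trivial ≫ F.map f = m ≫ U.π b trivial := by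
      exact (Category.assoc _ _ _).symm.trans (((congrArg (· ≫ F.map f) (hm a trivial)).trans
        (ht a b f trivial trivial (Or.inr ⟨rfl, rfl, by simp⟩))).trans (hm b trivial).symm)
    refine ⟨equalizer.lift m hc, fun s hs => by simp [hm], fun m' hm' => equalizer.hom_ext ?_⟩
    rw [equalizer.lift_ι]
    exact hu _ fun s hs => by rw [Category.assoc]; exact hm' s hs

private lemma hasLimit_aux [HasPullbacks C] [HasEqualizers C] [Finite J] [Finite (Σ a b : J, a ⟶ b)]
    [IsConnected J] : HasLimit F := by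
  classical
  have := Fintype.ofFinite (Σ a b : J, a ⟶ b)
  have h : ∀ A : Finset (Σ a b : J, a ⟶ b), ∃ E : ∀ a b : J, (a ⟶ b) → Prop,
      (∀ x ∈ A, E x.1 x.2.1 x.2.2) ∧ Nonempty (Uni F Set.univ E) := by
    intro A
    induction A using Finset.induction_on with
    | empty => obtain ⟨E, hE⟩ := exists_uni F; exact ⟨E, by simp, hE⟩
    | @insert x A hx ih =>
      obtain ⟨E, hA, ⟨U⟩⟩ := ih
      obtain ⟨E', hle, hx', hU'⟩ := add_arrow F U x.1 x.2.1 x.2.2
      refine ⟨E', fun y hy => ?_, hU'⟩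
      rcases Finset.mem_insert.1 hy with rfl | hy
      · exact hx'
      · exact hle _ _ _ (hA y hy)
  obtain ⟨E, hE, ⟨U⟩⟩ := h Finset.univ
  exact ⟨⟨⟨⟨U.X,
      { app := fun j => U.π j trivial
        naturality := fun p q g => by
          simpa using (U.w p q g trivial trivial (hE ⟨p, q, g⟩ (Finset.mem_univ _))).symm }⟩,
    { lift := fun s => (U.lift (fun j _ => s.π.app j) (fun p q g _ _ _ => s.w g)).choose
      fac := fun s j => (U.lift (fun j _ => s.π.app j) (fun p q g _ _ _ => s.w g)).choose_spec.1 j trivial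
      uniq := fun s m hm => (U.lift (fun j _ => s.π.app j) (fun p q g _ _ _ => s.w g)).choose_spec.2 m
        (fun j _ => hm j) }⟩⟩⟩

end

/-- (2) ⇒ (1): a category with equalizers and fibre products has all finite connected limits. -/
theorem result {C : Type u} [Category.{v} C] [HasEqualizers C] [HasPullbacks C]
    (J : Type) [SmallCategory J] [FinCategory J] [IsConnected J] : HasLimitsOfShape J C := by
  exact ⟨fun F => hasLimit_aux F⟩

end Groth.Agent.S6423
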