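import Groth.Statements.S6424
import Mathlib.CategoryTheory.Limits.Constructions.FiniteProductsOfBinaryProducts
import Mathlib.CategoryTheory.Limits.Constructions.LimitsOfProductsAndEqualizers
-- import your own Groth.Agent.* helpers here

set_option autoImplicit false
open CategoryTheory CategoryTheory.Limits
universe v u
open CatLim

namespace Groth.Agent.S6424

/-- (2) ⇒ (1): a category with products of pairs and equalizers has all finite nonempty limits. -/
theorem result {C : Type u} [Category.{v} C] [HasBinaryProducts C] [HasEqualizers C]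
    (J : Type) [SmallCategory J] [FinCategory J] [Nonempty J] : HasLimitsOfShape J C := by
  have hfin : ∀ (n : ℕ) (f : Fin (n + 1) → C), HasProduct f := by
    intro n
    induction n with
    | zero =>
      intro f
      haveI : Subsingleton (Fin (0 + 1)) := inferInstanceAs (Subsingleton (Fin 1))
      exact HasLimit.mk ⟨Fan.mk (f 0) (fun i => eqToHom (by rw [Subsingleton.elim i 0])),
        Fan.IsLimit.mk _ (fun s => s.proj 0)
          (fun s j => by
            obtain rfl : j = 0 := Subsingleton.elim j 0
            simp)
          (fun s m hm => by simpa using hm 0)⟩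
    | succ k ih =>
      intro f
      haveI := ih (fun i => f i.succ)
      exact HasLimit.mk ⟨_, extendFanIsLimit f (limit.isLimit _) (limit.isLimit _)⟩
  have hprod : ∀ (ι : Type) [Fintype ι] [Nonempty ι] (f : ι → C), HasProduct f := by
    intro ι _ _ f
    obtain ⟨k, hk⟩ : ∃ k, Fintype.card ι = k + 1 :=
      ⟨Fintype.card ι - 1, (Nat.succ_pred_eq_of_pos Fintype.card_pos).symm⟩
    let e : ι ≃ Fin (k + 1) := (Fintype.equivFin ι).trans (finCongr hk)
    haveI := hfin k (fun i => f (e.symm i))
    exact hasProduct_of_equiv_of_iso (fun i => f (e.symm i)) f e (fun j => eqToIso (by simp))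
  haveI : Nonempty (Σ p : J × J, p.1 ⟶ p.2) :=
    ⟨⟨(Classical.arbitrary J, Classical.arbitrary J), 𝟙 _⟩⟩
  refine ⟨fun F => ?_⟩
  haveI := hprod J F.obj
  haveI := hprod (Σ p : J × J, p.1 ⟶ p.2) (fun f => F.obj f.1.2)
  exact hasLimit_of_equalizer_and_product F

end Groth.Agent.S6424
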