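import Groth.Statements.S6425
import Mathlib


-- import your own Groth.Agent.* helpers here

set_option autoImplicit false
open CategoryTheory CategoryTheory.Limits
universe v
open CatLim

namespace Groth.Agent.S6425

/-- Over an index category in which any two objects map to a common object, the comparison map `colim (M
× N) → colim M × colim N` for diagrams of sets is surjective. -/
theorem result {I : Type v} [SmallCategory I]
    (hI : ∀ x y : I, ∃ (z : I) (_ : x ⟶ z) (_ : y ⟶ z), True) (M N : I ⥤ Type v) :
    Function.Surjective (prodComparison (colim : (I ⥤ Type v) ⥤ Type v) M N) := by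
  intro w
  set a := (Limits.prod.fst : colim.obj M ⨯ colim.obj N ⟶ _) w with ha
  set b := (Limits.prod.snd : colim.obj M ⨯ colim.obj N ⟶ _) w with hb
  obtain ⟨x, m, hm⟩ := Limits.Types.jointly_surjective' a
  obtain ⟨y, n, hn⟩ := Limits.Types.jointly_surjective' b
  obtain ⟨z, f, g, -⟩ := hI x y
  let e := PreservesLimitPair.iso ((evaluation I (Type v)).obj z) M N
  let p : (M ⨯ N).obj z := e.inv ((Limits.Types.binaryProductIso (M.obj z) (N.obj z)).inv (M.map f m, N.map g n))
  refine ⟨colimit.ι (M ⨯ N) z p, ?_⟩
  have h1 : (Limits.prod.fst : M ⨯ N ⟶ M).app z p = M.map f m := by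
    have := ConcreteCategory.congr_hom
      (PreservesLimitPair.iso_inv_fst ((evaluation I (Type v)).obj z) M N)
      ((Limits.Types.binaryProductIso (M.obj z) (N.obj z)).inv (M.map f m, N.map g n))
    refine this.trans ?_
    simp
  have h2 : (Limits.prod.snd : M ⨯ N ⟶ N).app z p = N.map g n := by
    have := ConcreteCategory.congr_hom
      (PreservesLimitPair.iso_inv_snd ((evaluation I (Type v)).obj z) M N)
      ((Limits.Types.binaryProductIso (M.obj z) (N.obj z)).inv (M.map f m, N.map g n))
    refine this.trans ?_
    simp
  have c1 := ConcreteCategory.congr_hom (prodComparison_fst (F := (colim : (I ⥤ Type v) ⥤ Type v)) (A := M) (B := N))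
    (colimit.ι (M ⨯ N) z p)
  have c2 := ConcreteCategory.congr_hom (prodComparison_snd (F := (colim : (I ⥤ Type v) ⥤ Type v)) (A := M) (B := N))
    (colimit.ι (M ⨯ N) z p)
  have d1 := ConcreteCategory.congr_hom (colimit.ι_map (Limits.prod.fst : M ⨯ N ⟶ M) z) p
  have d2 := ConcreteCategory.congr_hom (colimit.ι_map (Limits.prod.snd : M ⨯ N ⟶ N) z) p
  have w1 := ConcreteCategory.congr_hom (colimit.w M f) m
  have w2 := ConcreteCategory.congr_hom (colimit.w N g) n
  apply (Limits.Types.binaryProductIso _ _).toEquiv.injective
  refine Prod.ext ?_ ?_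
  · show ((Limits.Types.binaryProductIso _ _).hom _).1 = ((Limits.Types.binaryProductIso _ _).hom _).1
    simp only [Limits.Types.binaryProductIso_hom_comp_fst_apply]
    refine c1.trans (d1.trans ?_)
    rw [ConcreteCategory.comp_apply, h1]
    exact w1.trans hm
  · show ((Limits.Types.binaryProductIso _ _).hom _).2 = ((Limits.Types.binaryProductIso _ _).hom _).2
    simp only [Limits.Types.binaryProductIso_hom_comp_snd_apply]
    refine c2.trans (d2.trans ?_)
    rw [ConcreteCategory.comp_apply, h2]
    exact w2.trans hn

end Groth.Agent.S6425
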