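import Groth.Statements.S6426
import Mathlib


-- import your own Groth.Agent.* helpers here

set_option autoImplicit false
open CategoryTheory CategoryTheory.Limits
universe v
open CatLim

namespace Groth.Agent.S6426

/-- Over a nonempty index category in which any two objects map to a common object, the set-theoretic
colimit of a diagram of abelian groups surjects onto its colimit in abelian groups. (The published
statement does not require the index category to be nonempty; this row assumes it, because for the
empty index category the colimit of sets is empty while the colimit of abelian groups is the zero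
group.) -/
theorem result {I : Type v} [SmallCategory I] [Nonempty I]
    (hI : ∀ x y : I, ∃ (z : I) (_ : x ⟶ z) (_ : y ⟶ z), True) (M : I ⥤ AddCommGrpCat.{v}) :
    Function.Surjective (colimit.post M (forget AddCommGrpCat.{v})) := by
  intro x
  have : ∃ (i : I) (m : M.obj i), colimit.ι M i m = x := by
    let H : AddSubgroup (colimit M : AddCommGrpCat.{v}) :=
      { carrier := {y | ∃ (i : I) (m : M.obj i), colimit.ι M i m = y}
        zero_mem' := ⟨Classical.arbitrary I, 0, map_zero _⟩
        neg_mem' := by rintro _ ⟨i, m, rfl⟩; exact ⟨i, -m, map_neg _ _⟩
        add_mem' := by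
          rintro _ _ ⟨i, m, rfl⟩ ⟨j, m', rfl⟩
          obtain ⟨z, a, b, -⟩ := hI i j
          exact ⟨z, M.map a m + M.map b m', by
            rw [map_add, colimit.w_apply, colimit.w_apply]⟩ }
    by_contra hx
    have hq : (AddCommGrpCat.ofHom (QuotientAddGroup.mk' H) : colimit M ⟶ AddCommGrpCat.of ((colimit M : AddCommGrpCat.{v}) ⧸ H)) = 0 := by
      refine colimit.hom_ext fun i => ?_
      ext m
      exact (QuotientAddGroup.eq_zero_iff _).2 ⟨i, m, rfl⟩
    exact hx ((QuotientAddGroup.eq_zero_iff _).1 (ConcreteCategory.congr_hom hq x))
  obtain ⟨i, m, rfl⟩ := this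
  exact ⟨colimit.ι (M ⋙ forget AddCommGrpCat.{v}) i m, ConcreteCategory.congr_hom (colimit.ι_post M (forget AddCommGrpCat.{v}) i) m⟩

end Groth.Agent.S6426
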