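import Groth.Statements.S6427
import Mathlib


-- import your own Groth.Agent.* helpers here

set_option autoImplicit false
open CategoryTheory CategoryTheory.Limits
universe v
open CatLim

namespace Groth.Agent.S6427

/-- Over an index category in which every pair of morphisms with common source can be completed to a
commutative square, colimits of sets preserve injective morphisms of diagrams. -/
theorem result {I : Type v} [SmallCategory I]
    (hI : ∀ ⦃x y z : I⦄ (f : x ⟶ y) (g : x ⟶ z), ∃ (w : I) (f' : y ⟶ w) (g' : z ⟶ w), f ≫ f' = g ≫ g')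
    {M N : I ⥤ Type v} (φ : M ⟶ N) (hφ : ∀ i, Function.Injective (φ.app i)) :
    Function.Injective (colimMap φ) := by
  let R : ∀ (F : I ⥤ Type v), (Σ i, F.obj i) → (Σ i, F.obj i) → Prop := fun F a b =>
    ∃ (k : I) (f : a.1 ⟶ k) (g : b.1 ⟶ k), F.map f a.2 = F.map g b.2
  have key : ∀ (F : I ⥤ Type v) (a b), Relation.EqvGen F.ColimitTypeRel a b → R F a b := by
    intro F a b h
    induction h with
    | rel a b h =>
      obtain ⟨f, hf⟩ := h
      exact ⟨b.1, f, 𝟙 _, by rw [FunctorToTypes.map_id_apply]; exact hf.symm⟩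
    | refl a => exact ⟨a.1, 𝟙 _, 𝟙 _, rfl⟩
    | symm a b _ h => obtain ⟨k, f, g, e⟩ := h; exact ⟨k, g, f, e.symm⟩
    | trans a b c _ _ h1 h2 =>
      obtain ⟨k, f, g, e⟩ := h1
      obtain ⟨k', f', g', e'⟩ := h2
      obtain ⟨w, u, u', hu⟩ := hI g f'
      refine ⟨w, f ≫ u, g' ≫ u', ?_⟩
      rw [FunctorToTypes.map_comp_apply, e, ← FunctorToTypes.map_comp_apply, hu,
        FunctorToTypes.map_comp_apply, e', ← FunctorToTypes.map_comp_apply]
  intro x y hxy
  obtain ⟨i, a, rfl⟩ := Limits.Types.jointly_surjective' x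
  obtain ⟨j, b, rfl⟩ := Limits.Types.jointly_surjective' y
  have h1 := ConcreteCategory.congr_hom (ι_colimMap φ i) a
  have h2 := ConcreteCategory.congr_hom (ι_colimMap φ j) b
  obtain ⟨k, f, g, e⟩ := key N _ _ (Limits.Types.colimit_eq (h1.symm.trans (hxy.trans h2)))
  have e' : M.map f a = M.map g b := hφ k (by
    rw [NatTrans.naturality_apply, NatTrans.naturality_apply]; exact e)
  have w1 := ConcreteCategory.congr_hom (colimit.w M f) a
  have w2 := ConcreteCategory.congr_hom (colimit.w M g) b
  exact w1.symm.trans ((congrArg (fun z => colimit.ι M k z) e').trans w2)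

end Groth.Agent.S6427
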