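import Groth.Statements.S6428
import Mathlib


set_option autoImplicit false
set_option linter.all false
open CategoryTheory CategoryTheory.Limits
universe v₁ u₁ v₂ u₂ v₃ u₃
open CatLim

namespace Groth.Agent.S6428

/-- If `F : I ⥤ I'` has connected fibre categories and is surjective on morphisms, then for every
diagram `M : I' ⥤ C` the colimit of `F ⋙ M` exists if and only if that of `M` does, and the
canonical comparison between them is then an isomorphism. -/
theorem result {I : Type u₁} [Category.{v₁} I] {I' : Type u₂} [Category.{v₂} I'] {C : Type u₃} [Category.{v₃} C] (F : I ⥤ I')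
    (h1 : ∀ x' : I', IsConnected (F.Fiber x'))
    (h2 : ∀ ⦃x' y' : I'⦄ (α' : x' ⟶ y'), ∃ (x y : I) (hx : F.obj x = x') (hy : F.obj y = y') (α : x ⟶ y), F.map α = eqToHom hx ≫ α' ≫ eqToHom hy.symm)
    (M : I' ⥤ C) :
    (HasColimit (F ⋙ M) ↔ HasColimit M) ∧ ∀ [HasColimit (F ⋙ M)] [HasColimit M], IsIso (colimit.pre M F) := by
  haveI : F.Final := ⟨fun d => by
    let T (x' : I') (φ : d ⟶ x') : F.Fiber x' ⥤ StructuredArrow d F :=
      { obj := fun a => StructuredArrow.mk (φ ≫ eqToHom a.2.symm)
        map := fun {a b} g => StructuredArrow.homMk g.1 (by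
          have := g.2
          have h := IsHomLift.fac' F (𝟙 x') g.1
          simp only [StructuredArrow.mk_hom_eq_self]
          rw [h]
          simp) }
    have hzig : ∀ (x' : I') (φ : d ⟶ x') (a b : F.Fiber x'), Zigzag ((T x' φ).obj a) ((T x' φ).obj b) := by
      intro x' φ a b
      haveI := h1 x'
      exact zigzag_obj_of_zigzag (T x' φ) (isPreconnected_zigzag a b)
    have hbase : ∀ g : StructuredArrow d F, ∃ a : F.Fiber d, Zigzag ((T d (𝟙 d)).obj a) g := by
      intro g
      obtain ⟨x, y, hx, hy, α, hα⟩ := h2 g.hom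
      refine ⟨⟨x, hx⟩, (Zigzag.of_hom (j₂ := (T _ g.hom).obj ⟨y, hy⟩) (StructuredArrow.homMk α ?_)).trans ?_⟩
      · simp [T, hα]
      · refine (hzig _ g.hom ⟨y, hy⟩ ⟨g.right, rfl⟩).trans (Zigzag.of_hom (StructuredArrow.homMk (𝟙 g.right) ?_))
        simp [T]
    haveI : Nonempty (StructuredArrow d F) := by
      haveI := h1 d
      exact ⟨(T d (𝟙 d)).obj (Classical.arbitrary (F.Fiber d))⟩
    refine zigzag_isConnected fun g g' => ?_
    obtain ⟨a, ha⟩ := hbase g
    obtain ⟨b, hb⟩ := hbase g'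
    exact ((Zigzag.of_inv (𝟙 g)).trans (Std.Symm.symm _ _ ha)).trans ((hzig d (𝟙 d) a b).trans hb)⟩
  refine ⟨⟨fun h => Functor.Final.hasColimit_of_comp F, fun h => inferInstance⟩, fun {_ _} => ?_⟩
  infer_instance

end Groth.Agent.S6428
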