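import Groth.Statements.S6429
-- import your own Groth.Agent.* helpers here

set_option autoImplicit false
open CategoryTheory CategoryTheory.MonoidalCategory
universe v u
open MonCat

namespace Groth.Agent.S6429

/-- An object `X` of a monoidal category is invertible (some `X'` has `X ⊗ X' ≅ 𝟙` and `X' ⊗ X ≅ 𝟙`) if
and only if tensoring on the left by `X` is an equivalence, if and only if tensoring on the right by
`X` is an equivalence. -/
theorem result {C : Type u} [Category.{v} C] [MonoidalCategory C] (X : C) :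
    ((tensorLeft X).IsEquivalence ↔ ∃ X' : C, Nonempty (X ⊗ X' ≅ 𝟙_ C) ∧ Nonempty (X' ⊗ X ≅ 𝟙_ C)) ∧
      ((tensorRight X).IsEquivalence ↔ ∃ X' : C, Nonempty (X ⊗ X' ≅ 𝟙_ C) ∧ Nonempty (X' ⊗ X ≅ 𝟙_ C)) := by
  refine ⟨⟨fun h => ?_, fun ⟨X', ⟨a⟩, ⟨b⟩⟩ => ?_⟩, ⟨fun h => ?_, fun ⟨X', ⟨a⟩, ⟨b⟩⟩ => ?_⟩⟩
  · let X' := (tensorLeft X).inv.obj (𝟙_ C)
    let a : X ⊗ X' ≅ 𝟙_ C := (tensorLeft X).asEquivalence.counitIso.app (𝟙_ C)
    refine ⟨X', ⟨a⟩, ⟨(tensorLeft X).preimageIso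
      ((α_ X X' X).symm ≪≫ whiskerRightIso a X ≪≫ λ_ X ≪≫ (ρ_ X).symm)⟩⟩
  · exact (CategoryTheory.Equivalence.mk (tensorLeft X) (tensorLeft X')
      (NatIso.ofComponents (fun Y => (λ_ Y).symm ≪≫ whiskerRightIso b.symm Y ≪≫ α_ X' X Y) (fun f => by simp; rw [← associator_naturality_right, ← whisker_exchange_assoc, ← leftUnitor_inv_naturality_assoc]))
      (NatIso.ofComponents (fun Y => (α_ X X' Y).symm ≪≫ whiskerRightIso a Y ≪≫ λ_ Y) (fun f => by simp; rw [associator_inv_naturality_right_assoc, whisker_exchange_assoc, leftUnitor_naturality]))).isEquivalence_functor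
  · let X' := (tensorRight X).inv.obj (𝟙_ C)
    let b : X' ⊗ X ≅ 𝟙_ C := (tensorRight X).asEquivalence.counitIso.app (𝟙_ C)
    refine ⟨X', ⟨(tensorRight X).preimageIso
      (α_ X X' X ≪≫ whiskerLeftIso X b ≪≫ ρ_ X ≪≫ (λ_ X).symm)⟩, ⟨b⟩⟩
  · exact (CategoryTheory.Equivalence.mk (tensorRight X) (tensorRight X')
      (NatIso.ofComponents (fun Y => (ρ_ Y).symm ≪≫ whiskerLeftIso Y a.symm ≪≫ (α_ Y X X').symm) (fun f => by simp; rw [← associator_inv_naturality_left, whisker_exchange_assoc, ← rightUnitor_inv_naturality_assoc]))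
      (NatIso.ofComponents (fun Y => α_ Y X' X ≪≫ whiskerLeftIso Y b ≪≫ ρ_ Y) (fun f => by simp; rw [associator_naturality_left_assoc, ← whisker_exchange_assoc, rightUnitor_naturality]))).isEquivalence_functor

end Groth.Agent.S6429
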