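import Groth.Statements.S6432
import Groth.Agent.FibLib.Split
-- import your own Groth.Agent.* helpers here

set_option autoImplicit false
set_option backward.isDefEq.respectTransparency false
set_option backward.isDefEq.respectTransparency.types false
set_option linter.style.haveILetI false
open CategoryTheory
universe v u
open FibCat

namespace Groth.Agent.S6432

/-- Every category fibred in groupoids over `C` is equivalent over `C` to the Grothendieck construction
of a strict functor `Cᵒᵖ ⥤ Cat` with groupoid values. -/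
theorem result {C : Type u} [Category.{v} C] (𝒳 : BasedCategory.{v, max u v} C) (h𝒳 : FibCat.IsFibGrpd 𝒳.p) :
    ∃ (F : Cᵒᵖ ⥤ Cat.{v, max u v}) (_ : ∀ U : Cᵒᵖ, IsGroupoid (F.obj U))
      (E : 𝒳 ⥤ᵇ BasedCategory.ofFunctor (Pseudofunctor.CoGrothendieck.forget F.toPseudofunctor')),
      FibCat.IsEquivOver E := by
  haveI : 𝒳.p.IsFibered := Functor.IsFibered.of_exists_isStronglyCartesian fun a R f => by
    obtain ⟨b, φ, hφ⟩ := h𝒳.exists_lift f
    refine ⟨b, φ, ?_⟩
    have hd := IsHomLift.domain_eq 𝒳.p f φ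
    subst hd
    rw [IsHomLift.eq_of_isHomLift 𝒳.p f φ]
    exact h𝒳.isStronglyCartesian φ
  let K := FibCat.Cleavage.ofIsPreFibered 𝒳.p
  refine ⟨FibLib.Spl.F K, fun U => ⟨fun {A B} χ => ?_⟩, FibLib.Spl.Eb 𝒳 K, FibLib.Spl.Gb 𝒳 K,
    ⟨FibLib.Spl.unitIso 𝒳 K⟩, ⟨FibLib.Spl.counitIso 𝒳 K⟩⟩
  let k := FibLib.Spl.arr K (show (A : FibLib.Spl.Fib K U.unop) ⟶ B from χ)
  haveI := h𝒳.isStronglyCartesian k
  haveI : 𝒳.p.IsHomLift (𝟙 U.unop) k := inferInstance
  haveI : IsIso (𝒳.p.map k) := by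
    rw [IsHomLift.fac' 𝒳.p (𝟙 U.unop) k]
    infer_instance
  haveI : IsIso k := Functor.IsStronglyCartesian.isIso_of_base_isIso 𝒳.p (𝒳.p.map k) k
  let kinv : FibLib.Spl.dom K (B : FibLib.Spl.Fib K U.unop) ⟶ FibLib.Spl.dom K A :=
    Functor.Fiber.homMk 𝒳.p U.unop (inv k)
  exact ⟨kinv, Functor.Fiber.hom_ext (IsIso.hom_inv_id k), Functor.Fiber.hom_ext (IsIso.inv_hom_id k)⟩

end Groth.Agent.S6432
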