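import Groth.Statements.S6434
import Mathlib
-- import your own Groth.Agent.* helpers here

set_option autoImplicit false
open CategoryTheory
universe v u v' u'
open CatLoc

namespace Groth.Agent.S6434

/-- The localization functor at a left multiplicative system commutes with finite colimits. -/
theorem result {C : Type u} [Category.{v} C] {D : Type u'} [Category.{v'} D] (W : MorphismProperty C) (L : C ⥤ D) [L.IsLocalization W] [W.HasLeftCalculusOfFractions] :
    Limits.PreservesFiniteColimits L := by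
  classical
  have hW := Localization.inverts L W
  haveI := Localization.essSurj L W
  have hrep : ∀ {J : Type} (S : Finset J) (x : J → C) (y : C) (φ : ∀ j, L.obj (x j) ⟶ L.obj y),
      ∃ (y' : C) (s : y ⟶ y') (_ : W s), ∀ j ∈ S, ∃ f : x j ⟶ y', φ j ≫ L.map s = L.map f := by
    intro J S x y φ
    induction S using Finset.induction with
    | empty => exact ⟨y, 𝟙 y, W.id_mem y, fun j hj => by simp at hj⟩
    | insert a S _ ih =>
      obtain ⟨y₁, s₁, hs₁, h₁⟩ := ih
      obtain ⟨α, hα⟩ := Localization.exists_leftFraction L W (φ a ≫ L.map s₁)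
      refine ⟨α.Y', s₁ ≫ α.s, W.comp_mem _ _ hs₁ α.hs, fun j hj => ?_⟩
      rcases Finset.mem_insert.1 hj with rfl | hj
      · refine ⟨α.f, ?_⟩
        rw [L.map_comp, ← Category.assoc, hα, MorphismProperty.LeftFraction.map_comp_map_s]
      · obtain ⟨f, hf⟩ := h₁ j hj
        exact ⟨f ≫ α.s, by rw [L.map_comp, ← Category.assoc, hf, L.map_comp]⟩
  have heq : ∀ {J : Type} (S : Finset J) (x : J → C) (y : C) (f g : ∀ j, x j ⟶ y),
      (∀ j ∈ S, L.map (f j) = L.map (g j)) →
      ∃ (y' : C) (t : y ⟶ y') (_ : W t), ∀ j ∈ S, f j ≫ t = g j ≫ t := by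
    intro J S x y f g h
    induction S using Finset.induction with
    | empty => exact ⟨y, 𝟙 y, W.id_mem y, fun j hj => by simp at hj⟩
    | insert a S _ ih =>
      obtain ⟨y₁, t₁, ht₁, h₁⟩ := ih fun j hj => h j (Finset.mem_insert_of_mem hj)
      obtain ⟨y₂, t₂, ht₂, h₂⟩ := (W.map_eq_iff_postcomp L (f a ≫ t₁) (g a ≫ t₁)).1 (by
        rw [L.map_comp, L.map_comp, h a (Finset.mem_insert_self _ _)])
      refine ⟨y₂, t₁ ≫ t₂, W.comp_mem _ _ ht₁ ht₂, fun j hj => ?_⟩
      rcases Finset.mem_insert.1 hj with rfl | hj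
      · simpa using h₂
      · rw [← Category.assoc, h₁ j hj, Category.assoc]
  refine ⟨fun J _ _ => ⟨fun {F} => ⟨fun {c} hc => ⟨?_⟩⟩⟩⟩
  haveI : Fintype J := FinCategory.fintypeObj
  have huniq : ∀ {y : C} (m₁ m₂ : L.obj c.pt ⟶ L.obj y),
      (∀ j, L.map (c.ι.app j) ≫ m₁ = L.map (c.ι.app j) ≫ m₂) → m₁ = m₂ := by
    intro y m₁ m₂ h
    obtain ⟨y', s, hs, hf⟩ := hrep (J := Bool) Finset.univ (fun _ => c.pt) y (fun b => if b then m₁ else m₂)
    obtain ⟨f₁, hf₁⟩ := hf true (Finset.mem_univ _)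
    obtain ⟨f₂, hf₂⟩ := hf false (Finset.mem_univ _)
    simp only [if_true, Bool.false_eq_true, if_false] at hf₁ hf₂
    obtain ⟨y'', t, ht, ht'⟩ := heq Finset.univ F.obj y' (fun j => c.ι.app j ≫ f₁) (fun j => c.ι.app j ≫ f₂)
      (fun j _ => by rw [L.map_comp, L.map_comp, ← hf₁, ← hf₂, reassoc_of% h j])
    have hft : f₁ ≫ t = f₂ ≫ t := hc.hom_ext fun j => by
      have := ht' j (Finset.mem_univ j)
      simpa using this
    haveI := hW s hs
    haveI := hW t ht
    rw [← cancel_mono (L.map s), hf₁, hf₂, ← cancel_mono (L.map t), ← L.map_comp, ← L.map_comp, hft]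
  refine Limits.IsColimit.ofExistsUnique fun t => ?_
  let y := L.objPreimage t.pt
  let e : L.obj y ≅ t.pt := L.objObjPreimageIso t.pt
  obtain ⟨y', s, hs, hf⟩ := hrep (J := J) Finset.univ F.obj y (fun j => t.ι.app j ≫ e.inv)
  choose f hf using fun j => hf j (Finset.mem_univ j)
  haveI := hW s hs
  haveI : Fintype (Σ p : J × J, p.1 ⟶ p.2) := by
    haveI : ∀ p : J × J, Fintype (p.1 ⟶ p.2) := fun p => FinCategory.fintypeHom p.1 p.2
    infer_instance
  obtain ⟨y'', u, hu, hu'⟩ := heq (Finset.univ : Finset (Σ p : J × J, p.1 ⟶ p.2)) (fun a => F.obj a.1.1) y'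
    (fun a => F.map a.2 ≫ f a.1.2) (fun a => f a.1.1) (fun a _ => by
      rw [L.map_comp, ← hf, ← hf, ← Category.assoc, ← Category.assoc]
      congr 2
      exact t.w a.2)
  haveI := hW u hu
  let cc : Limits.Cocone F :=
    { pt := y''
      ι :=
        { app := fun j => f j ≫ u
          naturality := by
            intro i j g
            have := hu' ⟨(i, j), g⟩ (Finset.mem_univ _)
            simpa using this } }
  let d : c.pt ⟶ y'' := hc.desc cc
  haveI hsu' : IsIso (L.map (s ≫ u)) := hW _ (W.comp_mem _ _ hs hu)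
  have hd : ∀ j, L.map (c.ι.app j) ≫ (L.map d ≫ inv (L.map (s ≫ u)) ≫ e.hom) = t.ι.app j := by
    intro j
    rw [← Category.assoc (L.map (c.ι.app j)), ← L.map_comp]
    rw [show c.ι.app j ≫ d = f j ≫ u from hc.fac _ j, L.map_comp, ← hf]
    have hsu : L.map s ≫ L.map u = L.map (s ≫ u) := (L.map_comp s u).symm
    rw [Category.assoc, Category.assoc, reassoc_of% hsu, IsIso.hom_inv_id_assoc, Category.assoc,
      e.inv_hom_id]; exact Category.comp_id _
  refine ⟨L.map d ≫ inv (L.map (s ≫ u)) ≫ e.hom, hd, fun m hm => ?_⟩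
  rw [← cancel_mono e.inv]
  refine huniq _ _ fun j => ?_
  rw [← Category.assoc, ← Category.assoc (L.map (c.ι.app j))]
  exact congrArg (· ≫ e.inv) ((hm j).trans (hd j).symm)

end Groth.Agent.S6434
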