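import Groth.Statements.S6435
import Mathlib


-- import your own Groth.Agent.* helpers here

set_option autoImplicit false
open CategoryTheory
universe v u v' u'
open CatLoc

namespace Groth.Agent.S6435

/-- For a multiplicative system `W` (left and right calculus of fractions) with localization functor
`L`, a morphism `f` becomes an isomorphism under `L` if and only if `g ∘ f ∈ W` and `f ∘ h ∈ W` for
some `g, h`. -/
theorem result {C : Type u} [Category.{v} C] {D : Type u'} [Category.{v'} D] (W : MorphismProperty C) (L : C ⥤ D) [L.IsLocalization W] [W.HasLeftCalculusOfFractions] [W.HasRightCalculusOfFractions]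
    {X Y : C} (f : X ⟶ Y) :
    IsIso (L.map f) ↔ ∃ (Z Z' : C) (g : Y ⟶ Z) (h : Z' ⟶ X), W (f ≫ g) ∧ W (h ≫ f) := by
  constructor
  · intro hiso
    obtain ⟨φ, hφ⟩ := Localization.exists_leftFraction L W (inv (L.map f))
    obtain ⟨ψ, hψ⟩ := Localization.exists_rightFraction L W (inv (L.map f))
    haveI := Localization.inverts L W φ.s φ.hs
    haveI := Localization.inverts L W ψ.s ψ.hs
    have h1 : L.map (f ≫ φ.f) = L.map φ.s := by
      have : inv (L.map f) ≫ L.map φ.s = L.map φ.f := by rw [hφ, φ.map_comp_map_s]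
      rw [L.map_comp, ← this, IsIso.hom_inv_id_assoc]
    have h2 : L.map (ψ.f ≫ f) = L.map ψ.s := by
      have : L.map ψ.s ≫ inv (L.map f) = L.map ψ.f := by rw [hψ, ψ.map_s_comp_map]
      rw [L.map_comp, ← this, Category.assoc, IsIso.inv_hom_id, Category.comp_id]
    obtain ⟨Z, t, ht, e1⟩ := (MorphismProperty.map_eq_iff_postcomp L W _ _).1 h1
    obtain ⟨Z', t', ht', e2⟩ := (MorphismProperty.map_eq_iff_precomp L W _ _).1 h2
    refine ⟨Z, Z', φ.f ≫ t, t' ≫ ψ.f, ?_, ?_⟩
    · rw [← Category.assoc, e1]; exact W.comp_mem _ _ φ.hs ht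
    · rw [Category.assoc, e2]; exact W.comp_mem _ _ ht' ψ.hs
  · rintro ⟨Z, Z', g, h, hg, hh⟩
    haveI i1 : IsIso (L.map f ≫ L.map g) := L.map_comp f g ▸ Localization.inverts L W _ hg
    haveI i2 : IsIso (L.map h ≫ L.map f) := L.map_comp h f ▸ Localization.inverts L W _ hh
    haveI : IsSplitMono (L.map f) := ⟨⟨⟨L.map g ≫ inv (L.map f ≫ L.map g), by rw [← Category.assoc, IsIso.hom_inv_id]⟩⟩⟩
    haveI : IsSplitEpi (L.map f) := ⟨⟨⟨inv (L.map h ≫ L.map f) ≫ L.map h, by rw [Category.assoc, IsIso.inv_hom_id]⟩⟩⟩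
    exact isIso_of_mono_of_isSplitEpi _

end Groth.Agent.S6435
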