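import Groth.Statements.S6438
import Mathlib
import Mathlib
-- import your own Groth.Agent.* helpers here

set_option autoImplicit false
open CategoryTheory
universe v u
open CatLim

namespace Groth.Agent.S6438

/-- A category with finitely many objects whose morphisms are generated under composition by finitely
many of them receives a functor from a finite category which is both final and initial, the finite
category being connected (resp. nonempty) exactly when the given one is. (The published statement
says that limits and colimits of every diagram are computed after restriction along the functor;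
this is expressed here through finality and initiality.) -/
theorem result {I : Type u} [Category.{v} I] [Finite I]
    (gen : Finset (Σ x y : I, x ⟶ y))
    (hgen : ∀ P : MorphismProperty I, P.IsMultiplicative → (∀ a ∈ gen, P a.2.2) → P = ⊤) :
    ∃ (J : Type) (_ : SmallCategory J) (_ : FinCategory J) (F : J ⥤ I),
      F.Final ∧ F.Initial ∧ (IsConnected J ↔ IsConnected I) ∧ (Nonempty J ↔ Nonempty I) := by
  open CategoryTheory CategoryTheory.Limits in
  classical
  let eI := Finite.equivFin I
  let m := Fintype.card gen
  let eG := Fintype.equivFin gen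
  let sh : CategoryTheory.Limits.MultispanShape.{0, 0} :=
    { L := Fin m
      R := Fin (Nat.card I)
      fst := fun k => eI (eG.symm k).1.1
      snd := fun k => eI (eG.symm k).1.2.1 }
  let idx : CategoryTheory.Limits.MultispanIndex sh I :=
    { left := fun k => (eG.symm k).1.1
      right := fun r => eI.symm r
      fst := fun k => eqToHom (eI.symm_apply_apply _).symm
      snd := fun k => (eG.symm k).1.2.2 ≫ eqToHom (eI.symm_apply_apply _).symm }
  let F : CategoryTheory.Limits.WalkingMultispan sh ⥤ I := idx.multispan
  have hfinal : F.Final := ⟨fun c => by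
    let ob : ∀ (x : I), (c ⟶ x) → StructuredArrow c F := fun x h =>
      StructuredArrow.mk (Y := (CategoryTheory.Limits.WalkingMultispan.right (eI x) : CategoryTheory.Limits.WalkingMultispan sh)) (h ≫ eqToHom (eI.symm_apply_apply x).symm)
    let P : MorphismProperty I := fun x y g => ∀ h : c ⟶ x, Zigzag (ob x h) (ob y (h ≫ g))
    haveI : P.IsMultiplicative :=
      { id_mem := fun x h => by rw [Category.comp_id]
        comp_mem := fun f g hf hg h => (hf h).trans (by rw [← Category.assoc]; exact hg _) }
    have hP : P = ⊤ := hgen P inferInstance fun a ha h => by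
      obtain ⟨k, hk⟩ := eG.symm.surjective ⟨a, ha⟩
      obtain rfl : a = (eG.symm k).1 := by rw [hk]
      let l : StructuredArrow c F := StructuredArrow.mk (Y := (CategoryTheory.Limits.WalkingMultispan.left k : CategoryTheory.Limits.WalkingMultispan sh)) h
      exact (Zigzag.of_inv (StructuredArrow.homMk (f := l) (f' := ob _ h) (CategoryTheory.Limits.WalkingMultispan.Hom.fst (J := sh) k) rfl)).trans
        (Zigzag.of_hom (StructuredArrow.homMk (f := l) (f' := ob _ (h ≫ (eG.symm k).1.2.2)) (CategoryTheory.Limits.WalkingMultispan.Hom.snd (J := sh) k) (Category.assoc h _ _).symm))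
    haveI : Nonempty (StructuredArrow c F) := ⟨ob c (𝟙 c)⟩
    refine zigzag_isConnected fun A B => ?_
    suffices ∀ A : StructuredArrow c F, Zigzag (ob c (𝟙 c)) A from (this A).symm.trans (this B)
    intro A
    have hob : ∀ (x : I) (h : c ⟶ x), Zigzag (ob c (𝟙 c)) (ob x h) := fun x h => by
      have h1 := (hP ▸ trivial : P h) (𝟙 c)
      rwa [Category.id_comp] at h1
    obtain ⟨o, h, rfl⟩ := StructuredArrow.mk_surjective A
    cases o with
    | left k =>
      exact (hob _ h).trans (Zigzag.of_inv (StructuredArrow.homMk (f := StructuredArrow.mk (Y := (CategoryTheory.Limits.WalkingMultispan.left k : CategoryTheory.Limits.WalkingMultispan sh)) h)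
        (CategoryTheory.Limits.WalkingMultispan.Hom.fst (J := sh) k) rfl))
    | right r =>
      obtain ⟨x, rfl⟩ := eI.surjective r
      have h2 := hob x (h ≫ eqToHom (eI.symm_apply_apply x))
      have e : ob x (h ≫ eqToHom (eI.symm_apply_apply x)) = StructuredArrow.mk (Y := (CategoryTheory.Limits.WalkingMultispan.right (eI x) : CategoryTheory.Limits.WalkingMultispan sh)) h := by
        simp [ob, F]
      rwa [e] at h2⟩
  have hinit : F.Initial := ⟨fun c => by
    let ob : ∀ (x : I), (x ⟶ c) → CostructuredArrow F c := fun x h =>
      CostructuredArrow.mk (Y := (CategoryTheory.Limits.WalkingMultispan.right (eI x) : CategoryTheory.Limits.WalkingMultispan sh)) (eqToHom (eI.symm_apply_apply x) ≫ h)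
    let P : MorphismProperty I := fun x y g => ∀ h : y ⟶ c, Zigzag (ob x (g ≫ h)) (ob y h)
    haveI : P.IsMultiplicative :=
      { id_mem := fun x h => by rw [Category.id_comp]
        comp_mem := fun f g hf hg h => (by rw [Category.assoc]; exact hf _ : Zigzag _ (ob _ (g ≫ h))).trans (hg h) }
    have hP : P = ⊤ := hgen P inferInstance fun a ha h => by
      obtain ⟨k, hk⟩ := eG.symm.surjective ⟨a, ha⟩
      obtain rfl : a = (eG.symm k).1 := by rw [hk]
      let l : CostructuredArrow F c := CostructuredArrow.mk (Y := (CategoryTheory.Limits.WalkingMultispan.left k : CategoryTheory.Limits.WalkingMultispan sh)) ((eG.symm k).1.2.2 ≫ h)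
      exact (Zigzag.of_inv (CostructuredArrow.homMk (f := l) (f' := ob _ ((eG.symm k).1.2.2 ≫ h)) (CategoryTheory.Limits.WalkingMultispan.Hom.fst (J := sh) k) (by simp [l, ob, F, idx]))).trans
        (Zigzag.of_hom (CostructuredArrow.homMk (f := l) (f' := ob _ h) (CategoryTheory.Limits.WalkingMultispan.Hom.snd (J := sh) k) (by simp [l, ob, F, idx])))
    haveI : Nonempty (CostructuredArrow F c) := ⟨ob c (𝟙 c)⟩
    refine zigzag_isConnected fun A B => ?_
    suffices ∀ A : CostructuredArrow F c, Zigzag (ob c (𝟙 c)) A from (this A).symm.trans (this B)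
    intro A
    have hob : ∀ (x : I) (h : x ⟶ c), Zigzag (ob c (𝟙 c)) (ob x h) := fun x h => by
      have h1 := (hP ▸ trivial : P h) (𝟙 c)
      rw [Category.comp_id] at h1
      exact h1.symm
    obtain ⟨o, h, rfl⟩ := CostructuredArrow.mk_surjective A
    cases o with
    | left k =>
      have h1 := hob (eG.symm k).1.2.1
      obtain ⟨h', rfl⟩ : ∃ h', h = h' := ⟨h, rfl⟩
      obtain ⟨r, e⟩ : ∃ r, r = (eG.symm k).1.1 := ⟨_, rfl⟩
      exact (hob _ h).trans (Zigzag.of_inv (CostructuredArrow.homMk (f := CostructuredArrow.mk (Y := (CategoryTheory.Limits.WalkingMultispan.left k : CategoryTheory.Limits.WalkingMultispan sh)) h)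
        (CategoryTheory.Limits.WalkingMultispan.Hom.fst (J := sh) k) (by simp [ob, F, idx])))
    | right r =>
      obtain ⟨x, rfl⟩ := eI.surjective r
      have h2 := hob x (eqToHom (eI.symm_apply_apply x).symm ≫ h)
      have e : ob x (eqToHom (eI.symm_apply_apply x).symm ≫ h) = CostructuredArrow.mk (Y := (CategoryTheory.Limits.WalkingMultispan.right (eI x) : CategoryTheory.Limits.WalkingMultispan sh)) h := by
        simp [ob, F]
      rwa [e] at h2⟩
  refine ⟨CategoryTheory.Limits.WalkingMultispan sh, inferInstance, inferInstance, F, hfinal, hinit, ?_, ?_⟩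
  · exact Functor.isConnected_iff_of_final F
  · exact ⟨fun ⟨o⟩ => ⟨F.obj o⟩, fun ⟨x⟩ => ⟨.right (eI x)⟩⟩

end Groth.Agent.S6438
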