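import Groth.Statements.S6439
import Groth.Agent.FibLib.Setoid

set_option autoImplicit false
open CategoryTheory
universe v u
open FibCat

namespace Groth.Agent.S6439

/-- For categories fibred in groupoids over `C` and equivalences `φ : 𝒮₁ ⟶ 𝒮₂`, `ψ : 𝒮₃ ⟶ 𝒮₄` over `C`,
the functor `α ↦ ψ ∘ α ∘ φ` between the categories of functors over `C` is an equivalence of
categories. -/
theorem result {C : Type u} [Category.{v} C] {𝒮₁ 𝒮₂ 𝒮₃ 𝒮₄ : BasedCategory.{v, max u v} C}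
    (h₁ : FibCat.IsFibGrpd 𝒮₁.p) (h₂ : FibCat.IsFibGrpd 𝒮₂.p) (h₃ : FibCat.IsFibGrpd 𝒮₃.p) (h₄ : FibCat.IsFibGrpd 𝒮₄.p)
    (φ : 𝒮₁ ⟶ 𝒮₂) (ψ : 𝒮₃ ⟶ 𝒮₄) (hφ : FibCat.IsEquivOver φ) (hψ : FibCat.IsEquivOver ψ) :
    (Bicategory.precomp 𝒮₃ φ ⋙ Bicategory.postcomp 𝒮₁ ψ).IsEquivalence := by
  have hpre : (Bicategory.precomp 𝒮₃ φ).IsEquivalence := by
    obtain ⟨φ', ⟨η⟩, ⟨ε⟩⟩ := hφ
    let η' : φ ≫ φ' ≅ 𝟙 𝒮₁ := η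
    let ε' : φ' ≫ φ ≅ 𝟙 𝒮₂ := ε
    exact (CategoryTheory.Equivalence.mk (Bicategory.precomp 𝒮₃ φ) (Bicategory.precomp 𝒮₃ φ')
      ((Bicategory.leftUnitorNatIso _ _).symm ≪≫ (Bicategory.precomposing _ _ 𝒮₃).mapIso ε'.symm ≪≫
        Bicategory.associatorNatIsoRight φ' φ 𝒮₃)
      ((Bicategory.associatorNatIsoRight φ φ' 𝒮₃).symm ≪≫ (Bicategory.precomposing _ _ 𝒮₃).mapIso η' ≪≫
        Bicategory.leftUnitorNatIso _ _)).isEquivalence_functor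
  have hpost : (Bicategory.postcomp 𝒮₁ ψ).IsEquivalence := by
    obtain ⟨ψ', ⟨η⟩, ⟨ε⟩⟩ := hψ
    let η' : ψ ≫ ψ' ≅ 𝟙 𝒮₃ := η
    let ε' : ψ' ≫ ψ ≅ 𝟙 𝒮₄ := ε
    exact (CategoryTheory.Equivalence.mk (Bicategory.postcomp 𝒮₁ ψ) (Bicategory.postcomp 𝒮₁ ψ')
      ((Bicategory.rightUnitorNatIso _ _).symm ≪≫ (Bicategory.postcomposing 𝒮₁ _ _).mapIso η'.symm ≪≫
        (Bicategory.associatorNatIsoLeft 𝒮₁ ψ ψ').symm)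
      (Bicategory.associatorNatIsoLeft 𝒮₁ ψ' ψ ≪≫ (Bicategory.postcomposing 𝒮₁ _ _).mapIso ε' ≪≫
        Bicategory.rightUnitorNatIso _ _)).isEquivalence_functor
  infer_instance

end Groth.Agent.S6439
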