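import Groth.Statements.S6442
import Mathlib


set_option autoImplicit false
set_option linter.all false
open CategoryTheory CategoryTheory.Limits Opposite
universe u
open SiteMisc

namespace Groth.Agent.S6442

/-- An object `U` of a site is weakly contractible, i.e. for every covering sieve `S` the sheafified map
`(∐_{V → U ∈ S} h_V)^# ⟶ h_U^#` has a section, if and only if taking sections over `U` turns
epimorphisms of sheaves of sets into surjections. (Coverings are taken as covering sieves; the
coproduct is formed in presheaves and then sheafified.) -/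
theorem result {C : Type u} [SmallCategory C] (J : GrothendieckTopology C) (U : C) :
    (∀ S : Sieve U, S ∈ J U →
      IsSplitEpi ((presheafToSheaf J (Type u)).map
        (Sigma.desc (fun i : (Σ V : C, {f : V ⟶ U // S f}) => yoneda.map i.2.1) :
          (∐ fun i : (Σ V : C, {f : V ⟶ U // S f}) => yoneda.obj i.1) ⟶ yoneda.obj U))) ↔
    ∀ (F G : Sheaf J (Type u)) (φ : F ⟶ G), Epi φ → Function.Surjective (φ.hom.app (op U)) := by
  classical
  let adj := sheafificationAdjunction J (Type u)
  constructor
  · intro h F G φ hφ y
    haveI : Sheaf.IsLocallySurjective φ := (Sheaf.isLocallySurjective_iff_epi φ).2 hφ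
    have hS : Presheaf.imageSieve φ.hom y ∈ J U := Presheaf.imageSieve_mem J φ.hom y
    let S := Presheaf.imageSieve φ.hom y
    have hx : ∀ i : (Σ V : C, {f : V ⟶ U // S f}), ∃ x : F.obj.obj (op i.1), φ.hom.app (op i.1) x = G.obj.map i.2.1.op y :=
      fun i => i.2.2
    choose x hx using hx
    obtain ⟨⟨σ, hσ⟩⟩ := (h S hS).exists_splitEpi
    let a := (adj.homEquiv _ F).symm (Sigma.desc (fun i : (Σ V : C, {f : V ⟶ U // S f}) => yonedaEquiv.symm (x i)))
    let b := (adj.homEquiv _ G).symm (yonedaEquiv.symm y)
    have hab : a ≫ φ = (presheafToSheaf J (Type u)).map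
        (Sigma.desc (fun i : (Σ V : C, {f : V ⟶ U // S f}) => yoneda.map i.2.1)) ≫ b := by
      apply (adj.homEquiv _ G).injective
      rw [Adjunction.homEquiv_naturality_right, Adjunction.homEquiv_naturality_left]
      simp only [a, b, Equiv.apply_symm_apply]
      apply Sigma.hom_ext
      intro i
      simp only [Sigma.ι_desc_assoc]
      apply yonedaEquiv.injective
      rw [yonedaEquiv_comp, Equiv.apply_symm_apply]
      refine (hx i).trans ?_
      refine Eq.trans ?_ (yonedaEquiv_naturality (yonedaEquiv.symm y) i.2.1)
      rw [Equiv.apply_symm_apply]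
    have hb : (σ ≫ a) ≫ φ = b := by
      rw [Category.assoc, hab, ← Category.assoc, hσ, Category.id_comp]
    refine ⟨yonedaEquiv (adj.homEquiv _ F (σ ≫ a)), ?_⟩
    have h2 : adj.homEquiv _ F (σ ≫ a) ≫ φ.hom = yonedaEquiv.symm y := by
      have := congrArg (adj.homEquiv _ G) hb
      rw [Adjunction.homEquiv_naturality_right] at this
      simp only [b, Equiv.apply_symm_apply] at this
      exact this
    have h3 := congrArg yonedaEquiv h2
    rw [yonedaEquiv_comp, Equiv.apply_symm_apply] at h3
    exact h3
  · intro h S hS
    let ψ : (∐ fun i : (Σ V : C, {f : V ⟶ U // S f}) => yoneda.obj i.1) ⟶ yoneda.obj U :=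
      Sigma.desc (fun i : (Σ V : C, {f : V ⟶ U // S f}) => yoneda.map i.2.1)
    haveI hepi : Epi ((presheafToSheaf J (Type u)).map ψ) := by
      constructor
      intro G a b hab
      apply (adj.homEquiv _ G).injective
      apply yonedaEquiv.injective
      have hab' := congrArg (adj.homEquiv _ G) hab
      rw [Adjunction.homEquiv_naturality_left, Adjunction.homEquiv_naturality_left] at hab'
      refine ((isSheaf_iff_isSheaf_of_type J G.obj).1 G.property S hS).isSeparatedFor.ext fun V f hf => ?_
      have h4 := congrArg (fun t => yonedaEquiv (Sigma.ι (fun i : (Σ V : C, {f : V ⟶ U // S f}) => yoneda.obj i.1) ⟨V, f, hf⟩ ≫ t)) hab'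
      simp only [ψ, Sigma.ι_desc_assoc] at h4
      exact ((yonedaEquiv_naturality _ f).trans h4).trans (yonedaEquiv_naturality _ f).symm
    obtain ⟨s, hs⟩ := h _ _ ((presheafToSheaf J (Type u)).map ψ) hepi (yonedaEquiv (adj.unit.app (yoneda.obj U)))
    refine IsSplitEpi.mk' ⟨(adj.homEquiv _ _).symm (yonedaEquiv.symm s), ?_⟩
    apply (adj.homEquiv _ _).injective
    rw [Adjunction.homEquiv_naturality_right, Equiv.apply_symm_apply, Adjunction.homEquiv_id]
    apply yonedaEquiv.injective
    refine Eq.trans ?_ hs
    exact (yonedaEquiv_comp _ _).trans (congrArg _ (Equiv.apply_symm_apply _ _))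

end Groth.Agent.S6442
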