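import Groth.Statements.S6443
import Groth.Agent.FibLib.Setoid
import Groth.Agent.FibLib.Rep

set_option autoImplicit false
open CategoryTheory
universe v u
open FibCat

namespace Groth.Agent.S6443

/-- If a category `𝒮` fibred in groupoids over `C` is represented by `X` via `j : 𝒮 ⟶ C/X` and by `X'`
via `j' : 𝒮 ⟶ C/X'` (equivalences over `C`), then there is an isomorphism `X' ≅ X` under which `j'`
becomes 2-isomorphic to `j` over `C`. -/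
theorem result {C : Type u} [Category.{v} C] {𝒮 : BasedCategory.{v, max u v} C} (h𝒮 : FibCat.IsFibGrpd 𝒮.p)
    {X X' : C} (j : 𝒮 ⥤ᵇ FibCat.overCat X) (j' : 𝒮 ⥤ᵇ FibCat.overCat X') (hj : FibCat.IsEquivOver j) (hj' : FibCat.IsEquivOver j') :
    ∃ e : X' ≅ X, Nonempty (BasedFunctor.comp j' (⟨Over.map e.hom, Over.mapForget_eq e.hom⟩ : FibCat.overCat X' ⥤ᵇ FibCat.overCat X) ≅ j) := by
  obtain ⟨k, ⟨η⟩, ⟨ε⟩⟩ := hj
  obtain ⟨k', ⟨η'⟩, ⟨ε'⟩⟩ := hj'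
  let G : FibCat.overCat X' ⥤ᵇ FibCat.overCat X := BasedFunctor.comp k' j
  let G' : FibCat.overCat X ⥤ᵇ FibCat.overCat X' := BasedFunctor.comp k j'
  obtain ⟨f, ⟨a⟩⟩ := FibLib.exists_iso_overMap G
  obtain ⟨g, ⟨b⟩⟩ := FibLib.exists_iso_overMap G'
  have e₁ : Nonempty (BasedFunctor.comp G G' ≅ BasedFunctor.id _) :=
    ⟨(FibLib.whiskerRightIso' (FibLib.whiskerLeftIso' k' η) j') ≪≫ ε'⟩
  have e₂ : Nonempty (BasedFunctor.comp G' G ≅ BasedFunctor.id _) :=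
    ⟨(FibLib.whiskerRightIso' (FibLib.whiskerLeftIso' k η') j) ≪≫ ε⟩
  have cmp : ∀ {A B D : C} (u : A ⟶ B) (v : B ⟶ D),
      Nonempty (FibLib.overMap (u ≫ v) ≅ BasedFunctor.comp (FibLib.overMap u) (FibLib.overMap v)) :=
    fun {A B D} u v => FibLib.nonempty_iso_of_vert _ _ (Over.isoMk (Iso.refl _) (by
      change 𝟙 A ≫ (𝟙 A ≫ u) ≫ v = 𝟙 A ≫ (u ≫ v)
      simp))
      (IsHomLift.of_fac' _ _ _ rfl rfl (by
        change 𝟙 A = 𝟙 A ≫ 𝟙 A ≫ 𝟙 A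
        simp))
  have idd : ∀ (A : C), Nonempty (FibLib.overMap (𝟙 A) ≅ BasedFunctor.id (FibCat.overCat A)) :=
    fun A => FibLib.nonempty_iso_of_vert _ _ (Over.isoMk (Iso.refl _) (by
      change 𝟙 A ≫ 𝟙 A = 𝟙 A ≫ 𝟙 A
      rfl))
      (IsHomLift.of_fac' _ _ _ rfl rfl (by
        change 𝟙 A = 𝟙 A ≫ 𝟙 A ≫ 𝟙 A
        simp))
  have h₁ : f ≫ g = 𝟙 X' := by
    obtain ⟨c⟩ := cmp f g
    obtain ⟨i⟩ := idd X'
    obtain ⟨e⟩ := e₁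
    exact FibLib.overMap_iso_inj (c ≪≫ (FibLib.whiskerRightIso' a.symm _) ≪≫
      (FibLib.whiskerLeftIso' G b.symm) ≪≫ e ≪≫ i.symm)
  have h₂ : g ≫ f = 𝟙 X := by
    obtain ⟨c⟩ := cmp g f
    obtain ⟨i⟩ := idd X
    obtain ⟨e⟩ := e₂
    exact FibLib.overMap_iso_inj (c ≪≫ (FibLib.whiskerRightIso' b.symm _) ≪≫
      (FibLib.whiskerLeftIso' G' a.symm) ≪≫ e ≪≫ i.symm)
  refine ⟨⟨f, g, h₁, h₂⟩, ⟨?_⟩⟩
  exact FibLib.whiskerLeftIso' j' a.symm ≪≫ FibLib.whiskerRightIso' η' j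

end Groth.Agent.S6443
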