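import Groth.Statements.S6447
-- import your own Groth.Agent.* helpers here

set_option autoImplicit false
set_option backward.isDefEq.respectTransparency false
set_option backward.isDefEq.respectTransparency.types false
set_option maxHeartbeats 800000
set_option linter.style.haveILetI false
open CategoryTheory CategoryTheory.Limits
universe v u
open FibCat

namespace Groth.Agent.S6447

/-- For a 2-fibre product `U = X ×_Y V` of categories, the square formed by `U ⟶ X`, the diagonals `U ⟶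
U ×_V U`, `X ⟶ X ×_Y X` and the induced functor `U ×_V U ⟶ X ×_Y X` is 2-cartesian. (The filling
2-isomorphism is the one whose two components at every object are identities; it exists and is
unique with that property.) -/
theorem result {X Y V : Type u} [Category.{v} X] [Category.{v} Y] [Category.{v} V] (p : X ⥤ Y) (q : V ⥤ Y) :
    ∃ e, (∀ u, (e.hom.app u).fst = 𝟙 _ ∧ (e.hom.app u).snd = 𝟙 _) ∧ FibCat.IsTwoCart
      (CategoricalPullback.π₁ p q)
      ((CategoricalPullback.CatCommSqOver.toFunctorToCategoricalPullback (CategoricalPullback.π₂ p q) (CategoricalPullback.π₂ p q) (CategoricalPullback p q)).obj ⟨𝟭 _, 𝟭 _, Iso.refl _⟩)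
      ((CategoricalPullback.CatCommSqOver.toFunctorToCategoricalPullback p p X).obj ⟨𝟭 _, 𝟭 _, Iso.refl _⟩)
      (FibCat.categoricalPullbackMap (⟨CategoricalPullback.π₁ p q, q, CategoricalPullback.π₁ p q, ⟨(CatCommSq.iso (CategoricalPullback.π₁ p q) (CategoricalPullback.π₂ p q) p q).symm⟩, ⟨(CatCommSq.iso (CategoricalPullback.π₁ p q) (CategoricalPullback.π₂ p q) p q).symm⟩⟩ : CatCospanTransform (CategoricalPullback.π₂ p q) (CategoricalPullback.π₂ p q) p p))
      e := by
  let π₁ := CategoricalPullback.π₁ p q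
  let π₂ := CategoricalPullback.π₂ p q
  let ΔU := (CategoricalPullback.CatCommSqOver.toFunctorToCategoricalPullback π₂ π₂ (CategoricalPullback p q)).obj
    ⟨𝟭 _, 𝟭 _, Iso.refl _⟩
  let ΔX := (CategoricalPullback.CatCommSqOver.toFunctorToCategoricalPullback p p X).obj ⟨𝟭 _, 𝟭 _, Iso.refl _⟩
  let ψ : CatCospanTransform π₂ π₂ p p := ⟨π₁, q, π₁, ⟨(CatCommSq.iso π₁ π₂ p q).symm⟩, ⟨(CatCommSq.iso π₁ π₂ p q).symm⟩⟩
  let M := FibCat.categoricalPullbackMap ψ
  have hM : ∀ w, (M.obj w).iso.hom = w.fst.iso.hom ≫ q.map w.iso.hom ≫ w.snd.iso.inv := fun w => by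
    simp [M, ψ, π₁, π₂, FibCat.categoricalPullbackMap] <;> rfl
  let e : π₁ ⋙ ΔX ≅ ΔU ⋙ M := NatIso.ofComponents
    (fun u => CategoricalPullback.mkIso (Iso.refl u.fst) (Iso.refl u.fst) (by
      have h₀ : (ΔX.obj u.fst).iso.hom = 𝟙 _ := rfl
      have h₁ : (M.obj (ΔU.obj u)).iso.hom = u.iso.hom ≫ q.map (𝟙 _) ≫ u.iso.inv := hM (ΔU.obj u)
      dsimp
      erw [h₀, h₁, p.map_id, q.map_id, Category.id_comp, Category.id_comp, Category.id_comp, Iso.hom_inv_id]
      rfl))
    (fun {u u'} f => CategoricalPullback.hom_ext ((Category.comp_id f.fst).trans (Category.id_comp f.fst).symm)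
      ((Category.comp_id f.fst).trans (Category.id_comp f.fst).symm))
  refine ⟨e, fun u => ⟨rfl, rfl⟩, ?_⟩
  let Cmp := (CategoricalPullback.CatCommSqOver.toFunctorToCategoricalPullback ΔX M (CategoricalPullback p q)).obj
    ⟨π₁, ΔU, e⟩
  have hfaith : Cmp.Faithful := ⟨fun {u u'} f g h =>
    congrArg (fun m => CategoricalPullback.Hom.fst (CategoricalPullback.Hom.snd m)) h⟩
  have hfull : Cmp.Full := ⟨fun {u u'} m => by
    have h₁ : (m.fst : u.fst ⟶ u'.fst) = m.snd.fst.fst := by
      have := congrArg (fun z => CategoricalPullback.Hom.fst z) m.w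
      change m.fst ≫ 𝟙 u'.fst = 𝟙 u.fst ≫ m.snd.fst.fst at this
      exact (Category.comp_id _).symm.trans (this.trans (Category.id_comp _))
    have h₂ : (m.fst : u.fst ⟶ u'.fst) = m.snd.snd.fst := by
      have := congrArg (fun z => CategoricalPullback.Hom.snd z) m.w
      change m.fst ≫ 𝟙 u'.fst = 𝟙 u.fst ≫ m.snd.snd.fst at this
      exact (Category.comp_id _).symm.trans (this.trans (Category.id_comp _))
    have h₃ : (m.snd.fst.snd : u.snd ⟶ u'.snd) = m.snd.snd.snd := by
      have := m.snd.w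
      change m.snd.fst.snd ≫ 𝟙 u'.snd = 𝟙 u.snd ≫ m.snd.snd.snd at this
      exact (Category.comp_id _).symm.trans (this.trans (Category.id_comp _))
    exact ⟨m.snd.fst, CategoricalPullback.hom_ext h₁.symm
      (CategoricalPullback.hom_ext rfl (CategoricalPullback.hom_ext (h₁.symm.trans h₂) h₃))⟩⟩
  have hess : Cmp.EssSurj := ⟨fun z => by
    obtain ⟨x, ⟨u₁, u₂, α⟩, γ⟩ := z
    let g₁ : x ≅ u₁.fst := (CategoricalPullback.π₁ p p).mapIso γ
    let g₂ : x ≅ u₂.fst := (CategoricalPullback.π₂ p p).mapIso γ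
    have hγ : p.map g₁.hom ≫ u₁.iso.hom ≫ q.map α.hom ≫ u₂.iso.inv = p.map g₂.hom := by
      have := γ.hom.w
      rw [hM] at this
      simp [ΔX, g₁, g₂] at this ⊢
      exact this.trans (Category.id_comp _)
    let β : u₁ ≅ u₂ := CategoricalPullback.mkIso (g₁.symm ≪≫ g₂) α (by
      simp only [Iso.trans_hom, Iso.symm_hom, Functor.map_comp, ← hγ, Category.assoc, Iso.inv_hom_id, Category.comp_id]
      rw [← p.map_comp_assoc, Iso.inv_hom_id, p.map_id, Category.id_comp])
    refine ⟨u₁, ⟨CategoricalPullback.mkIso g₁.symm (CategoricalPullback.mkIso (Iso.refl u₁) β ?_) ?_⟩⟩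
    · simp [β, Cmp, ΔU, π₂]
      rfl
    · refine CategoricalPullback.hom_ext ?_ ?_
      · show γ.inv.fst ≫ γ.hom.fst = 𝟙 u₁.fst ≫ 𝟙 u₁.fst
        exact (congrArg (fun m => CategoricalPullback.Hom.fst m) γ.inv_hom_id).trans (Category.comp_id _).symm
      · show γ.inv.fst ≫ γ.hom.snd = 𝟙 u₁.fst ≫ γ.inv.fst ≫ γ.hom.snd
        exact (Category.id_comp _).symm⟩
  exact { }

end Groth.Agent.S6447
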