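import Groth.Statements.S6448
import Mathlib


-- import your own Groth.Agent.* helpers here

set_option autoImplicit false
open CategoryTheory
universe v u
open CatLim

namespace Groth.Agent.S6448

/-- In a category where spans complete to commutative squares and parallel pairs are coequalized by a
later arrow, every connected component is filtered (so the category is a disjoint union of filtered
categories). -/
theorem result {I : Type u} [Category.{v} I]
    (h1 : ∀ ⦃w x y : I⦄ (a : w ⟶ x) (b : w ⟶ y), ∃ (z : I) (c : x ⟶ z) (d : y ⟶ z), a ≫ c = b ≫ d)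
    (h2 : ∀ ⦃x y : I⦄ (a b : x ⟶ y), ∃ (z : I) (c : y ⟶ z), a ≫ c = b ≫ c)
    (j : ConnectedComponents I) : IsFiltered j.Component := by
  classical
  have key : ∀ x y : I, Zigzag x y → ∃ z : I, Nonempty (x ⟶ z) ∧ Nonempty (y ⟶ z) := by
    intro x y hxy
    induction hxy with
    | refl => exact ⟨x, ⟨𝟙 _⟩, ⟨𝟙 _⟩⟩
    | tail _ hbc ih =>
      obtain ⟨z, ⟨a⟩, ⟨b⟩⟩ := ih
      rcases hbc with ⟨⟨f⟩⟩ | ⟨⟨f⟩⟩
      · obtain ⟨w, c, d, -⟩ := h1 b f
        exact ⟨w, ⟨a ≫ c⟩, ⟨d⟩⟩
      · exact ⟨z, ⟨a⟩, ⟨f ≫ b⟩⟩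
  have : IsFilteredOrEmpty j.Component :=
    { cocone_objs := fun X Y => by
        obtain ⟨z, ⟨a⟩, ⟨b⟩⟩ := key X.obj Y.obj (Quotient.exact (X.property.trans Y.property.symm))
        have hz : CategoryTheory.ConnectedComponents.mk z = j := (Quotient.sound (Zigzag.of_inv a)).trans X.property
        exact ⟨⟨z, hz⟩, ObjectProperty.homMk a, ObjectProperty.homMk b, trivial⟩
      cocone_maps := fun X Y f g => by
        obtain ⟨z, c, hc⟩ := h2 f.hom g.hom
        have hz : CategoryTheory.ConnectedComponents.mk z = j := (Quotient.sound (Zigzag.of_inv c)).trans Y.property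
        exact ⟨⟨z, hz⟩, ObjectProperty.homMk c, InducedCategory.hom_ext hc⟩ }
  exact { nonempty := inferInstance }

end Groth.Agent.S6448
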