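import Groth.Statements.S6453
import Groth.Agent.IntMultRegLib.Geom

set_option autoImplicit false
set_option backward.isDefEq.respectTransparency false
set_option backward.isDefEq.respectTransparency.types false
universe u
open CategoryTheory AlgebraicGeometry
attribute [local instance] HasDerivedCategory.standard
open IntMult

namespace Groth.Agent.S6453

/-- Suppose the ideal of V in O_{X,ξ} is generated by a single nonzerodivisor g (c = 1: V is an
effective Cartier divisor at ξ). Then e(X, V·W, Z) = length_{O_{X,ξ}}(O_{W,ξ}/g O_{W,ξ}), i.e. the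
length of O_{X,ξ}/(I_{W,ξ} + (g)). Here X is a nonsingular variety over an algebraically closed
field K (smooth, separated, quasi-compact, integral), V and W are closed subvarieties given by
quasi-coherent ideal sheaves with integral subschemes, of dimensions r and s with dim X = n,
intersecting properly, and ξ is the generic point of an irreducible component Z of V ∩ W (a point of
V ∩ W maximal under specialization); e(X, V·W, Z) = IntMult.mult is the alternating sum of lengths
of Tor over O_{X,ξ}, and O_{W,ξ} = O_{X,ξ}/I_{W,ξ}. -/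
theorem result (K : Type u) [Field K] [IsAlgClosed K] (X : Scheme.{u}) (f : X ⟶ Spec (CommRingCat.of K)) [Smooth f] [IsSeparated f] [QuasiCompact f] [IsIntegral X] (IV IW : X.IdealSheafData) [IsIntegral IV.subscheme] [IsIntegral IW.subscheme] (n r s : ℕ) (hn : topologicalKrullDim X = n) (hr : topologicalKrullDim IV.support = r) (hs : topologicalKrullDim IW.support = s) (hprop : IntMult.ProperInt (IV.support : Set X) (IW.support : Set X) n r s) (ξ : X) (hξV : ξ ∈ IV.support) (hξW : ξ ∈ IW.support) (hmax : ∀ ξ' : X, ξ' ∈ IV.support → ξ' ∈ IW.support → ξ' ⤳ ξ → ξ' = ξ) (g : ↑(X.presheaf.stalk ξ)) (hg : IntMult.stalkIdeal IV ξ = Ideal.span {g}) (hreg : IsSMulRegular (↑(X.presheaf.stalk ξ)) g) : (IntMult.mult IV IW ξ : ℤ) = (Module.length (X.presheaf.stalk ξ) (↑(X.presheaf.stalk ξ) ⧸ (IntMult.stalkIdeal IW ξ ⊔ Ideal.span {g}))).toNat := by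
  haveI : IsLocallyNoetherian X := LocallyOfFiniteType.isLocallyNoetherian f
  let J := IntMult.stalkIdeal IW ξ
  haveI : J.IsPrime := SDivLib.stalkIdeal_isPrime hξW
  have hgm : g ∈ IsLocalRing.maximalIdeal ↑(X.presheaf.stalk ξ) :=
    IntMultRegLib.le_maximalIdeal_of_mem IV hξV (hg ▸ Ideal.mem_span_singleton_self g)
  have hw : RingTheory.Sequence.IsWeaklyRegular ↑(X.presheaf.stalk ξ) [g] :=
    (RingTheory.Sequence.isWeaklyRegular_cons_iff _ g []).2 ⟨hreg, RingTheory.Sequence.IsWeaklyRegular.nil _ _⟩
  have hR : RingTheory.Sequence.IsRegular ↑(X.presheaf.stalk ξ) [g] :=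
    (IsLocalRing.isRegular_iff_isWeaklyRegular_of_subset_maximalIdeal (fun r hr => by
      rw [List.mem_singleton.1 hr]; exact hgm)).2 hw
  have hl : List.ofFn ![g] = [g] := by simp [List.ofFn_succ]
  have hs1 : Ideal.span (Set.range ![g]) = Ideal.span {g} := by simp
  have hdim := IntMultRegLib.le_dim_quotient f IV IW n r s hn hr hs hprop ξ hξV hξW ![g]
    (hg.trans hs1.symm) (hl.symm ▸ hR)
  have hgJ : g ∉ J := by
    intro hgJ
    haveI hJ : J.IsMaximal := IntMultRegLib.isMaximal_of_le IV IW ξ hmax ⟨J, inferInstance⟩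
      (sup_le le_rfl (hg.symm ▸ (Ideal.span_singleton_le_iff_mem J).2 hgJ))
    rw [ringKrullDim_eq_zero_of_isField ((Ideal.Quotient.maximal_ideal_iff_isField_quotient J).1 hJ)] at hdim
    norm_num at hdim
  have hM : RingTheory.Sequence.IsWeaklyRegular (↑(X.presheaf.stalk ξ) ⧸ J) (List.ofFn ![g]).reverse := by
    rw [hl, List.reverse_singleton]
    refine (RingTheory.Sequence.isWeaklyRegular_cons_iff _ g []).2 ⟨?_, RingTheory.Sequence.IsWeaklyRegular.nil _ _⟩
    intro a b hab
    have hab : Ideal.Quotient.mk J g * a = Ideal.Quotient.mk J g * b := by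
      simpa [Algebra.smul_def] using hab
    exact mul_left_cancel₀ (fun h => hgJ (Ideal.Quotient.eq_zero_iff_mem.1 h)) hab
  rw [IntMult.mult, hg, ← hs1]
  exact IntMultRegLib.chi_eq_length ![g] (hl.symm ▸ hw) J hM

end Groth.Agent.S6453
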