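import Groth.Statements.S6458
import Mathlib
import Groth.Agent.CycLimLib.Dim
-- import your own Groth.Agent.* helpers here

set_option autoImplicit false
universe u
open CategoryTheory AlgebraicGeometry
open Cyc

namespace Groth.Agent.S6458

/-- Let X be integral with generic point η and ξ the generic point of an irreducible component of an
effective Cartier divisor on X; locally: g ∈ 𝔪_ξ ⊂ O_{X,ξ} is nonzero and O_{X,ξ}/(g) is
zero-dimensional. Then dim_δ of the closure of ξ is dim_δ(X) − 1, i.e. δ(ξ) = δ(η) − 1. Here a pair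
(X, δ) with Cyc.IsSetup plays the role of a scheme locally of finite type over the base (S, δ) (X
locally Noetherian with universally catenary local rings, δ a dimension function). -/
theorem result (X : Scheme.{u}) [IsIntegral X] (δ : X → ℤ) (hX : Cyc.IsSetup X δ) (ξ : X) (g : ↑(X.presheaf.stalk ξ)) (hg0 : g ≠ 0) (hgm : g ∈ IsLocalRing.maximalIdeal (X.presheaf.stalk ξ)) (hdim : ringKrullDim (↑(X.presheaf.stalk ξ) ⧸ Ideal.span {g}) = 0) : δ ξ = δ (genericPoint X) - 1 := by
  haveI := hX.1
  have hle : ringKrullDim (X.presheaf.stalk ξ) ≤ 1 := by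
    haveI : Ring.KrullDimLE 0 (X.presheaf.stalk ξ ⧸ Ideal.span {g}) := Ring.krullDimLE_iff.2 hdim.le
    have hmin : IsLocalRing.maximalIdeal (X.presheaf.stalk ξ) ∈ (Ideal.span {g}).minimalPrimes := by
      refine ⟨⟨(IsLocalRing.maximalIdeal.isMaximal _).isPrime, (Ideal.span_singleton_le_iff_mem _).2 hgm⟩,
        fun Q hQ hQm => le_of_eq ?_⟩
      haveI := hQ.1
      haveI : (Q.map (Ideal.Quotient.mk (Ideal.span {g}))).IsPrime :=
        Ideal.map_isPrime_of_surjective Ideal.Quotient.mk_surjective (by rw [Ideal.mk_ker]; exact hQ.2)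
      have h2 := Ideal.comap_isMaximal_of_surjective (Ideal.Quotient.mk (Ideal.span {g}))
        Ideal.Quotient.mk_surjective (K := Q.map (Ideal.Quotient.mk (Ideal.span {g})))
      rw [Ideal.comap_map_of_surjective _ Ideal.Quotient.mk_surjective, ← RingHom.ker_eq_comap_bot, Ideal.mk_ker,
        sup_eq_left.mpr hQ.2] at h2
      exact (IsLocalRing.eq_maximalIdeal h2).symm
    rw [← IsLocalRing.maximalIdeal_height_eq_ringKrullDim]
    exact_mod_cast Ideal.height_le_one_of_isPrincipal_of_mem_minimalPrimes _ _ hmin
  obtain ⟨n, hn⟩ := EquidimLib.exists_dimBetween_eq_nat (genericPoint_specializes ξ)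
  have h0 : 1 ≤ n := by
    have h := EquidimLib.one_le_dimBetween (genericPoint_specializes ξ) fun he => by
      subst he
      exact hg0 ((Submodule.eq_bot_iff _).1 (IsLocalRing.isField_iff_maximalIdeal_eq.1
        (Field.toIsField X.functionField)) g hgm)
    rw [hn] at h
    exact_mod_cast h
  have h1 : n ≤ 1 := by
    have h := (EquidimLib.dimBetween_le_stalk (genericPoint X) ξ).trans hle
    rw [hn] at h
    exact_mod_cast h
  have := CycLimLib.delta_eq_add hX (genericPoint_specializes ξ) hn
  omega

end Groth.Agent.S6458
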