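import Groth.Statements.S6459
import Mathlib
-- import your own Groth.Agent.* helpers here

set_option autoImplicit false
universe u
open CategoryTheory AlgebraicGeometry
open Cyc

namespace Groth.Agent.S6459

/-- (b) ⇔ (c): let X be integral with generic point η and Z ⊂ X an integral closed subscheme with
generic point ξ. Then Z has codimension 1 in X (the local ring O_{X,ξ} is one-dimensional; Z is a
prime divisor) if and only if dim_δ(Z) = dim_δ(X) − 1. Here a pair (X, δ) with Cyc.IsSetup plays the
role of a scheme locally of finite type over the base (S, δ) (X locally Noetherian with universally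
catenary local rings, δ a dimension function). -/
theorem result (X : Scheme.{u}) [IsIntegral X] (δ : X → ℤ) (hX : Cyc.IsSetup X δ) (ξ : X) : ringKrullDim ↑(X.presheaf.stalk ξ) = 1 ↔ δ ξ = δ (genericPoint X) - 1 := by
  haveI := hX.1
  have hη : ∀ z : X, genericPoint X ⤳ z := genericPoint_specializes
  obtain ⟨Q, hQ⟩ := (Scheme.range_fromSpecStalk (X := X) (x := ξ)).ge (hη ξ)
  let B : PrimeSpectrum (X.presheaf.stalk ξ) := ⟨⊥, Ideal.isPrime_bot⟩
  have hB : X.fromSpecStalk ξ B = genericPoint X := by
    have h1 : B ⤳ Q := (PrimeSpectrum.le_iff_specializes B Q).1 bot_le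
    have h2 := h1.map (X.fromSpecStalk ξ).continuous
    rw [hQ] at h2
    exact (h2.antisymm (hη _)).eq
  have hinj := (X.fromSpecStalk ξ).isEmbedding.injective
  have hfield : ξ = genericPoint X ↔ IsField (X.presheaf.stalk ξ) := by
    rw [IsLocalRing.isField_iff_maximalIdeal_eq]
    refine ⟨fun h => congrArg PrimeSpectrum.asIdeal
      (hinj (Scheme.fromSpecStalk_closedPoint.trans (h.trans hB.symm)) : IsLocalRing.closedPoint _ = B), fun h => ?_⟩
    have h2 : IsLocalRing.closedPoint _ = B := PrimeSpectrum.ext h
    exact Scheme.fromSpecStalk_closedPoint.symm.trans ((congrArg (X.fromSpecStalk ξ) h2).trans hB)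
  constructor
  · intro h
    have hne : ξ ≠ genericPoint X := fun he => by
      rw [ringKrullDim_eq_zero_of_isField (hfield.1 he)] at h
      exact zero_ne_one h
    haveI : Ring.KrullDimLE 1 (X.presheaf.stalk ξ) := Ring.krullDimLE_iff.2 h.le
    have h1 := (hX.2.2 _ ξ (hη ξ) hne.symm).2 fun z _ hz => by
      obtain ⟨P, hP⟩ := (Scheme.range_fromSpecStalk (X := X) (x := ξ)).ge hz
      by_cases hP0 : P.asIdeal = ⊥
      · left
        rw [← hP, show P = B from PrimeSpectrum.ext hP0, hB]
      · right
        rw [← hP, show P = IsLocalRing.closedPoint _ from PrimeSpectrum.ext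
          (IsLocalRing.eq_maximalIdeal (P.isPrime.isMaximal_of_ne_bot hP0))]
        exact Scheme.fromSpecStalk_closedPoint
    omega
  · intro h
    have hne : ξ ≠ genericPoint X := fun he => by
      rw [he] at h
      omega
    haveI : Ring.KrullDimLE 1 (X.presheaf.stalk ξ) := Ring.KrullDimLE.mk₁' fun P hP0 hP => by
      have hz : X.fromSpecStalk ξ ⟨P, hP⟩ ⤳ ξ := (Scheme.range_fromSpecStalk (X := X) (x := ξ)).le ⟨_, rfl⟩
      by_contra hmax
      have h1 : X.fromSpecStalk ξ ⟨P, hP⟩ ≠ ξ := fun he => hmax (by
        rw [show P = IsLocalRing.maximalIdeal _ from congrArg PrimeSpectrum.asIdeal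
          (hinj (he.trans Scheme.fromSpecStalk_closedPoint.symm))]
        exact IsLocalRing.maximalIdeal.isMaximal _)
      have h2 : genericPoint X ≠ X.fromSpecStalk ξ ⟨P, hP⟩ := fun he =>
        hP0 (congrArg PrimeSpectrum.asIdeal (hinj (he.symm.trans hB.symm)))
      have h3 := (hX.2.2 _ _ hz h1).1
      have h4 := (hX.2.2 _ _ (hη _) h2).1
      omega
    refine le_antisymm (Ring.krullDimLE_iff.1 inferInstance) ?_
    by_contra hlt
    rw [not_le] at hlt
    haveI : Ring.KrullDimLE 0 (X.presheaf.stalk ξ) :=
      Ring.krullDimLE_iff.2 (by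
        revert hlt
        generalize ringKrullDim (X.presheaf.stalk ξ) = d
        intro hlt
        induction d using WithBot.recBotCoe with
        | bot => exact bot_le
        | coe d =>
          rw [WithBot.coe_lt_one, ENat.lt_one_iff_eq_zero] at hlt
          simp [hlt])
    exact hne (hfield.2 Ring.KrullDimLE.isField_of_isDomain)

end Groth.Agent.S6459
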