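import Groth.Statements.S6461
import Mathlib
import Groth.Agent.CycLimLib.Dim
import Groth.Agent.CatLib.CM
-- import your own Groth.Agent.* helpers here

set_option autoImplicit false
universe u
open CategoryTheory AlgebraicGeometry
open Cyc

namespace Groth.Agent.S6461

/-- If all local rings of X are Cohen–Macaulay then every x ∈ X has an open neighbourhood U and an
integer n with δ(ξ) = n for every generic point ξ of an irreducible component of U (every point of U
maximal under specialization). Here a pair (X, δ) with Cyc.IsSetup plays the role of a scheme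
locally of finite type over the base (S, δ) (X locally Noetherian with universally catenary local
rings, δ a dimension function). -/
theorem result (X : Scheme.{u}) (δ : X → ℤ) (hX : Cyc.IsSetup X δ) (hCM : ∀ x : X, LocCoh.IsCohenMacaulayLocalRing ↑(X.presheaf.stalk x)) (x : X) : ∃ (U : X.Opens) (n : ℤ), x ∈ U ∧ ∀ ξ : X, ξ ∈ U → (∀ ξ' : X, ξ' ⤳ ξ → ξ' = ξ) → δ ξ = n := by
  haveI := hX.1
  obtain ⟨U, hxU, hU⟩ := CycLimLib.exists_open_maximal_through x
  obtain ⟨d, hd⟩ := EquidimLib.exists_stalk_dim_eq_nat x
  refine ⟨U, δ x + d, hxU, fun ξ hξU hξ => ?_⟩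
  have hξx := hU ξ hξU hξ
  obtain ⟨P, hP⟩ := EquidimLib.exists_stalkPt hξx
  have hP0 : P.asIdeal.height = 0 := by
    refine Ideal.height_eq_zero_iff.mpr ⟨⟨P.2, bot_le⟩, fun Q hQ hle => ?_⟩
    let q : PrimeSpectrum (X.presheaf.stalk x) := ⟨Q, hQ.1⟩
    have h := EquidimLib.specializes_stalkPt (x := x) (show q ≤ P from hle)
    rw [hP] at h
    exact (congrArg PrimeSpectrum.asIdeal
      (EquidimLib.stalkPt_injective x ((hξ _ h).trans hP.symm) : q = P)).ge
  haveI := hCM x
  have h := CatLib.ringKrullDim_quotient_add_height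
    (SMTLib.isCM_of_isCohenMacaulayLocalRing (X.presheaf.stalk x)) P.asIdeal
  rw [hP0, WithBot.coe_zero, add_zero, EquidimLib.stalk_quotient_dim_eq, hP, hd] at h
  exact CycLimLib.delta_eq_add hX hξx h

end Groth.Agent.S6461
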