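import Groth.Statements.S6462
import Mathlib
import Groth.Agent.CycLimLib.Dim
import Groth.Agent.JacDimLib.Main
import Groth.Agent.JacDimLib.Embedding
import Groth.Agent.DevissLib.ClosedImm
-- import your own Groth.Agent.* helpers here

set_option autoImplicit false
universe u
open CategoryTheory AlgebraicGeometry
open Cyc

namespace Groth.Agent.S6462

/-- Assume in addition that X is Jacobson and δ(x) = 0 for every closed point x. For a point ξ of X with
closure Z (an integral closed subscheme whose generic point is ξ) one then has δ(ξ) = dim Z = dim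
O_{Z,z} for every closed point z of Z; here Z is the closure of ξ and O_{Z,z} = O_{X,z}/𝔭_ξ
(Cyc.LocQuot). (The published statement takes X locally of finite type over a Jacobson base with δ
zero on the base's closed points; this row assumes instead that X is Jacobson and δ vanishes on the
closed points of X, which follows from the published hypotheses.) Here a pair (X, δ) with
Cyc.IsSetup plays the role of a scheme locally of finite type over the base (S, δ) (X locally
Noetherian with universally catenary local rings, δ a dimension function). -/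
theorem result (X : Scheme.{u}) [JacobsonSpace X] (δ : X → ℤ) (hX : Cyc.IsSetup X δ) (h0 : ∀ x : X, IsClosed ({x} : Set X) → δ x = 0) (ξ : X) : (topologicalKrullDim ↥(closure ({ξ} : Set X)) = ((δ ξ).toNat : WithBot ℕ∞) ∧ 0 ≤ δ ξ) ∧ ∀ (z : X) (h : ξ ⤳ z), IsClosed ({z} : Set X) → ringKrullDim (Cyc.LocQuot z ξ h) = ((δ ξ).toNat : WithBot ℕ∞) := by
  haveI := hX.1
  have key : ∀ z : X, ξ ⤳ z → IsClosed ({z} : Set X) → EquidimLib.dimBetween ξ z = ((δ ξ).toNat : WithBot ℕ∞) ∧ 0 ≤ δ ξ := by
    intro z hz hc
    obtain ⟨n, hn⟩ := EquidimLib.exists_dimBetween_eq_nat hz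
    have := CycLimLib.delta_eq_add hX hz hn
    rw [h0 z hc] at this
    refine ⟨?_, by omega⟩
    rw [hn, this]
    simp
  obtain ⟨z₀, hz₀, hc₀⟩ := JacDimLib.exists_closed_specialization ξ
  refine ⟨⟨?_, (key z₀ hz₀ hc₀).2⟩, fun z h hc => ?_⟩
  · obtain ⟨Z, i, hi, hZ, hr⟩ := DevissLib.exists_integral_closed (isClosed_closure (s := ({ξ} : Set X)))
      isIrreducible_singleton.closure
    haveI := hi
    haveI := hZ
    haveI := LocallyOfFiniteType.jacobsonSpace i
    rw [← hr]
    have e : topologicalKrullDim Z = topologicalKrullDim ↥(Set.range i) :=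
      IsHomeomorph.topologicalKrullDim_eq _ i.isEmbedding.toHomeomorph.isHomeomorph
    rw [← e]
    haveI : IsLocallyNoetherian Z := LocallyOfFiniteType.isLocallyNoetherian i
    refine JacDimLib.dim_eq_of_closed fun w hw => ?_
    have hwc : IsClosed ({i w} : Set X) := by
      rw [← Set.image_singleton]
      exact i.isClosedEmbedding.isClosedMap _ hw
    have hξw : ξ ⤳ i w := specializes_iff_mem_closure.2 (hr.le ⟨w, rfl⟩)
    obtain ⟨a, ha⟩ := hr.ge (subset_closure rfl : ξ ∈ closure {ξ})
    subst ha
    rw [← CycLimLib.dimBetween_eq_stalk (ξ := a) (x := w) fun v _ => i.isEmbedding.isInducing.specializes_iff.1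
        (specializes_iff_mem_closure.2 (hr.le ⟨v, rfl⟩)),
      ← JacDimLib.dimBetween_map i i.isEmbedding fun v hv _ => hr.ge (specializes_iff_mem_closure.1 hv)]
    exact (key _ hξw hwc).1
  · rw [← (key z h hc).1]
    let P : PrimeSpectrum (X.presheaf.stalk z) :=
      PrimeSpectrum.comap (X.presheaf.stalkSpecializes h).hom (IsLocalRing.closedPoint (X.presheaf.stalk ξ))
    have hP : EquidimLib.stalkPt z P = ξ := by
      show (Spec.map (X.presheaf.stalkSpecializes h) ≫ X.fromSpecStalk z) (IsLocalRing.closedPoint _) = ξ
      rw [Scheme.SpecMap_stalkSpecializes_fromSpecStalk]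
      exact Scheme.fromSpecStalk_closedPoint
    have hker : RingHom.ker (Cyc.specMap z ξ h) = P.asIdeal := by
      ext a
      show X.residue ξ (X.presheaf.stalkSpecializes h a) = 0 ↔ _
      exact IsLocalRing.residue_eq_zero_iff _
    have h3 := EquidimLib.stalk_quotient_dim_eq z P
    rw [hP] at h3
    rw [← h3]
    exact ringKrullDim_eq_of_ringEquiv (Ideal.quotEquivOfEq hker)

end Groth.Agent.S6462
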