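import Groth.Statements.S6463
import Groth.Agent.CohCmpLib.PicApps
import Groth.Agent.AbSchLib.Flat
import Groth.Agent.S2502

set_option autoImplicit false
universe u
open CategoryTheory CategoryTheory.Limits AlgebraicGeometry
open PicF

namespace Groth.Agent.S6463

/-- For a field k and a smooth projective curve X over k that has a k-rational point σ, the conditions
under which the Picard functor is computed through the section are met: f : X → Spec k is flat,
proper and of finite presentation with a section, and O_T → f_{T,*} O_{X_T} is an isomorphism for
every scheme T over k. Only the last assertion is stated (the others are part of the hypotheses or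
immediate): for every t : T → Spec k, the sheaf map of the base change X ×_k T → T is an
isomorphism. Proper replaces projective (they agree for curves over a field). -/
theorem result (k : Type u) [Field k] (X : Scheme.{u}) (f : X ⟶ Spec (CommRingCat.of k)) (hX : Curve.IsSmoothProperCurve k X f) (σ : Spec (CommRingCat.of k) ⟶ X) (hσ : σ ≫ f = 𝟙 (Spec (CommRingCat.of k))) (T : Scheme.{u}) (t : T ⟶ Spec (CommRingCat.of k)) : IsIso (pullback.snd f t).c := by
  obtain ⟨hp, hs, hint, -⟩ := hX
  have := AbSchLib.geometricallyReduced_of_smooth f
  have : GeometricallyConnected (σ ≫ f) := by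
    rw [hσ]
    exact ⟨fun K _ x Z a b h => by
      have : IsIso b := h.isIso_snd_of_isIso
      have : IrreducibleSpace (Spec (CommRingCat.of K)) := inferInstance
      exact (Scheme.homeoOfIso (asIso b)).symm.surjective.connectedSpace (Scheme.homeoOfIso (asIso b)).symm.continuous⟩
  have : GeometricallyConnected f := Groth.Agent.S2502.result σ f
  have h0 : ∀ y, Module.finrank ((Spec (CommRingCat.of k)).residueField y) Γ(f.fiber y, ⊤) = 1 := fun y => by
    have : IsIso (f.fiberToSpecResidueField y).appTop :=
      H0Lib.H0Fib.of_geometrically f ((Spec (CommRingCat.of k)).residueField y) ((Spec (CommRingCat.of k)).fromSpecResidueField y)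
    exact CohCmpLib.finrank_global_of_isIso f y
  have := (CohCmpLib.isIso_unitToPush f h0).2.2 (IsPullback.of_hasPullback f t)
  have : ∀ U, IsIso ((pullback.snd f t).c.app U) := fun U => CohCmpLib.isIso_app_of_unitToPush (pullback.snd f t) U.unop
  exact NatIso.isIso_of_isIso_app _

end Groth.Agent.S6463
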