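import Groth.Statements.S6465
import Mathlib
import Groth.Agent.CycGysLib.Basic
import Groth.Agent.CycPushLib.Vanish
import Groth.Agent.AmpleDevLib.Pull
-- import your own Groth.Agent.* helpers here

set_option autoImplicit false
universe u
open CategoryTheory AlgebraicGeometry
open Cyc

namespace Groth.Agent.S6465

/-- Let (L, s, i : D → X) be a triple defining a Gysin map. Then i^* i_* : CH_k(D) → CH_{k−1}(D) sends
the class of a k-cycle α on D to c_1(L|_D) ∩ α: the (k − 1)-cycle i^*(i_* α) is rationally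
equivalent on D to c_1(i^*L) ∩ α computed with any nonzero rational sections. Here i : D → X is the
zero scheme of a global section s of the invertible module L (Cyc.IsZeroSchemeOf), the Gysin map i^*
: Z_{k+1}(X) → CH_k(D) is computed on coefficient functions as c_1(L) ∩ − with the rational sections
taken to be s where it is nonzero and a nonzero fallback elsewhere (Cyc.gysinChoice), restricted to
the points of D, and classes on D are compared up to rational equivalence on D for the restricted
dimension function; (X, δ) with Cyc.IsSetup stands for a scheme locally of finite type over the base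
(S, δ). -/
theorem result (X D : Scheme.{u}) (δ : X → ℤ) (hX : Cyc.IsSetup X δ) (L : X.Modules) (hL : PicF.IsInvertible L) (s : L.presheaf.obj (Opposite.op ⊤)) (i : D ⟶ X) [IsClosedImmersion i] (hD : Cyc.IsZeroSchemeOf i L s) (k : ℤ) (α : AlgebraicCycle D ℤ) (hα : α ∈ Cyc.Zk D (fun d => δ (i d)) k) (w : (ξ : X) → Cyc.secFibre L ξ) (hw : ∀ ξ, w ξ ≠ 0) (t : (d : D) → Cyc.secFibre ((Scheme.Modules.pullback i).obj L) d) (ht : ∀ d, t d ≠ 0) (ζ₁ ζ₂ : AlgebraicCycle D ℤ) (h₁ : ∀ d, ζ₁ d = Cyc.c1CapFun δ L ⇑(AlgebraicCycle.map i (fun d => δ (i d)) δ α) (Cyc.gysinChoice L s w) (i d)) (h₂ : ⇑ζ₂ = Cyc.c1CapFun (fun d => δ (i d)) ((Scheme.Modules.pullback i).obj L) ⇑α t) : Cyc.RatEquiv (fun d => δ (i d)) (k - 1) ζ₁ ζ₂ := by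
    classical
    obtain ⟨hD', hcompat⟩ := CycPushLib.setup_of_closedImmersion i hX
    haveI := hX.1
    let a : AlgebraicCycle X ℤ := AlgebraicCycle.map i (fun d => δ (i d)) δ α
    have hout : ∀ x, x ∉ Set.range i → a x = 0 := fun x hx =>
      finsum_mem_eq_zero_of_forall_eq_zero fun z hz => absurd ⟨z, hz⟩ hx
    have hin : ∀ d, a (i d) = α d := by
      intro d
      show ∑ᶠ z ∈ i ⁻¹' {i d}, α z * ((AlgebraicCycle.mapCoeff i (fun d => δ (i d)) δ z : ℕ) : ℤ) = α d
      rw [show i ⁻¹' {i d} = {d} from Set.ext fun z => ⟨fun h => i.isClosedEmbedding.injective h, fun h => congrArg i h⟩,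
        finsum_mem_singleton, AlgebraicCycle.mapCoeff, if_pos rfl,
        CycPushLib.residueDegree_eq_one_of_preimmersion, Nat.cast_one, mul_one]
    have hu := CycGysLib.gysinChoice_ne_zero s hw
    refine CycC1Lib.ratEquiv_c1Cap hD' (AmpleDevLib.isInvertible_pb i hL) α ?_
      (fun d => CycC1Lib.pbFib_ne_zero i hL (hu (i d))) ht ζ₁ ζ₂ ?_ h₂
    · rwa [sub_add_cancel]
    · funext d
      rw [h₁ d, CycGysLib.c1CapFun_restrict i hX hL a hout hu d]
      simp only [hin]

end Groth.Agent.S6465
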