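import Groth.Statements.S6467
import Mathlib
import Groth.Agent.CycDegLib.Periodic
-- import your own Groth.Agent.* helpers here

set_option autoImplicit false
universe u
open CategoryTheory AlgebraicGeometry
open Cyc

namespace Groth.Agent.S6467

/-- Let F be a coherent O_X-module with dim_δ Supp(F) ≤ k + 1 and φ, ψ : F → F with φ ∘ ψ = 0 = ψ ∘ φ (a
2-periodic complex) whose cohomology sheaves H^0 = ker ψ / im φ and H^1 = ker φ / im ψ (for the
complex … → F →^φ F →^ψ F →^φ F → …) are supported in δ-dimension ≤ k. Then [H^0]_k ∼_rat [H^1]_k as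
k-cycles on X (for any cycles with these coefficient functions, Cyc.sheafFun). Support conditions
are phrased through nontrivial stalks. Here a pair (X, δ) with Cyc.IsSetup plays the role of a
scheme locally of finite type over the base (S, δ) (X locally Noetherian with universally catenary
local rings, δ a dimension function). -/
theorem result (X : Scheme.{u}) (δ : X → ℤ) (hX : Cyc.IsSetup X δ) (k : ℤ) (F : X.Modules) (hF : Coh.IsCoh F) (hdim : ∀ x : X, Nontrivial (F.presheaf.stalk x) → δ x ≤ k + 1) (φ ψ : F ⟶ F) (hφψ : φ ≫ ψ = 0) (hψφ : ψ ≫ φ = 0) (h0 : ∀ x : X, Nontrivial ((ShortComplex.mk φ ψ hφψ).homology.presheaf.stalk x) → δ x ≤ k) (h1 : ∀ x : X, Nontrivial ((ShortComplex.mk ψ φ hψφ).homology.presheaf.stalk x) → δ x ≤ k) (γ₀ γ₁ : AlgebraicCycle X ℤ) (hγ₀ : ⇑γ₀ = Cyc.sheafFun δ k (ShortComplex.mk φ ψ hφψ).homology) (hγ₁ : ⇑γ₁ = Cyc.sheafFun δ k (ShortComplex.mk ψ φ hψφ).homology) : Cyc.RatEquiv δ k γ₀ γ₁ := by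
  haveI := hX.1
  have hP : CycK0Lib.P (fun x => δ x ≤ k + 1) F := CycK0Lib.P.mk hF fun x hx => hdim x (CycK0Lib.nontrivial_iff_mem.2 hx)
  have hH0 := CycDegLib.P_homology φ ψ hφψ hP h0
  have hH1 := CycDegLib.P_homology ψ φ hψφ hP h1
  have key := CycDegLib.homology_eq (CycK0Lib.addOn_toK0CohQuot δ (k + 1) (k - 1)) φ ψ hφψ hψφ hP
  refine CycDegLib.ratEquivZero_of_mem hX ((ChowOps.zk X δ k).sub_mem ?_ ?_) ?_
  · intro x hx
    rw [hγ₀]
    exact if_neg hx
  · intro x hx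
    rw [hγ₁]
    exact if_neg hx
  · show ⇑γ₀ - ⇑γ₁ ∈ _
    rw [hγ₀, hγ₁]
    exact CycDegLib.sub_mem_principal hX hH0 hH1 key

end Groth.Agent.S6467
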