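import Groth.Statements.S6468
import Mathlib
import Groth.Agent.CycDegLib.Class
-- import your own Groth.Agent.* helpers here

set_option autoImplicit false
universe u
open CategoryTheory AlgebraicGeometry
open Cyc

namespace Groth.Agent.S6468

/-- The map CH_k(X) → K_0(Coh_{≤k+1}(X)/Coh_{≤k−1}(X)) is a bijection onto its image B_k(X); the content
beyond well-definedness is: if a k-cycle α = Σ n_Z [Z] has [⊕_{n_Z>0} O_Z^{n_Z}] = [⊕_{n_Z<0}
O_Z^{−n_Z}] in K_0(Coh_{≤k+1}(X)/Coh_{≤k−1}(X)) then α ∼_rat 0. K_0 of the Serre quotient is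
modelled as K_0(Coh_{≤k+1}) modulo the classes of Coh_{≤k−1} (Cyc.K0CohQuot), O_Z is the
pushed-forward structure sheaf of the reduced closure of the generic point (Cyc.cycleSheafPos/Neg).
Here a pair (X, δ) with Cyc.IsSetup plays the role of a scheme locally of finite type over the base
(S, δ) (X locally Noetherian with universally catenary local rings, δ a dimension function). -/
theorem result (X : Scheme.{u}) (δ : X → ℤ) (hX : Cyc.IsSetup X δ) (k : ℤ) (α : AlgebraicCycle X ℤ) (hα : α ∈ Cyc.Zk X δ k) (h : Cyc.toK0CohQuot δ (k + 1) (k - 1) (Cyc.cycleSheafPos ⇑α) = Cyc.toK0CohQuot δ (k + 1) (k - 1) (Cyc.cycleSheafNeg ⇑α)) : Cyc.RatEquivZero δ k α := by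
  haveI := hX.1
  obtain ⟨hp, ep⟩ := CycK0Lib.cycleSheafPos_spec hX α hα
  obtain ⟨hn, en⟩ := CycK0Lib.cycleSheafNeg_spec hX α hα
  refine CycDegLib.ratEquivZero_of_mem hX hα ?_
  have e : Cyc.sheafFun δ k (Cyc.cycleSheafPos ⇑α) - Cyc.sheafFun δ k (Cyc.cycleSheafNeg ⇑α) = ⇑α := by
    funext y
    rw [Pi.sub_apply, ep y, en y]
    omega
  rw [← e]
  exact CycDegLib.sub_mem_principal hX hp hn h

end Groth.Agent.S6468
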