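import Groth.Statements.S6473
import Groth.Agent.DiagTorLib.CutDim

set_option autoImplicit false
set_option backward.isDefEq.respectTransparency false
set_option backward.isDefEq.respectTransparency.types false
universe u
open CategoryTheory CategoryTheory.Limits AlgebraicGeometry
open IntMult CategoryTheory.Limits

namespace Groth.Agent.S6473
theorem exists_generic {α : Type*} [TopologicalSpace α] [QuasiSober α] [T0Space α] (T : Set α)
    (hT : T ∈ irreducibleComponents α) :
    ∃ t, closure ({t} : Set α) = T ∧ ∀ t', t' ⤳ t → t' = t := by
  have hi : IsIrreducible T := hT.1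
  have hc : IsClosed T := isClosed_of_mem_irreducibleComponents T hT
  have hg : IsGenericPoint hi.genericPoint T := by
    have := hi.isGenericPoint_genericPoint_closure
    rwa [hc.closure_eq] at this
  refine ⟨hi.genericPoint, hg, fun t' ht' => ?_⟩
  have hle : T ⊆ closure {t'} := by
    rw [← hg]
    exact closure_minimal (Set.singleton_subset_iff.2 ht'.mem_closure) isClosed_closure
  have h2 : IsGenericPoint t' T :=
    Set.Subset.antisymm (hT.2 isIrreducible_singleton.closure hle) hle
  exact h2.eq hg

theorem dim_closure_image {α β : Type*} [TopologicalSpace α] [TopologicalSpace β] (j : α → β)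
    (hj : Topology.IsClosedEmbedding j) (a : α) :
    topologicalKrullDim ↥(closure ({j a} : Set β)) = topologicalKrullDim ↥(closure ({a} : Set α)) := by
  have h : closure ({j a} : Set β) = j '' closure {a} := by
    rw [← hj.closure_image_eq, Set.image_singleton]
  rw [h]
  let e := hj.isEmbedding.homeomorphImage (closure {a})
  exact (IsHomeomorph.topologicalKrullDim_eq e e.isHomeomorph).symm


/-- Let f : X → Y be a morphism of varieties over K which is a regular immersion of codimension c, and Z
⊂ Y a closed subvariety of dimension d. Then each irreducible component T of f⁻¹(Z) = X ×_Y Z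
satisfies dim T ≥ d − c; stated as d ≤ dim T + c. Varieties: integral, separated, of finite type
over the algebraically closed field K. (The published statement takes f to be a closed immersion,
regular immersions being closed there; this row allows any immersion cut out, locally on Y where it
is closed, by a regular sequence of length c, the bound being local on Y. The published statement
also has a second part, for local complete intersection morphisms of a given relative dimension,
which this row does not state.) -/
theorem result (K : Type u) [Field K] [IsAlgClosed K] (X Y Z : Scheme.{u}) (gX : X ⟶ Spec (CommRingCat.of K)) (gY : Y ⟶ Spec (CommRingCat.of K)) [IsSeparated gX] [LocallyOfFiniteType gX] [QuasiCompact gX] [IsIntegral X] [IsSeparated gY] [LocallyOfFiniteType gY] [QuasiCompact gY] [IsIntegral Y] (f : X ⟶ Y) (hf : f ≫ gY = gX) (c : ℕ) (hreg : RegImm.IsRegularImmersionOfCodim RegImm.Kind.regular c f) (ι : Z ⟶ Y) [IsClosedImmersion ι] [IsIntegral Z] (d : ℕ) (hd : topologicalKrullDim Z = d) (T : Set ↥(pullback f ι)) (hT : T ∈ irreducibleComponents ↥(pullback f ι)) : ((d : ℕ) : WithBot ℕ∞)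 ≤ topologicalKrullDim ↥T + c := by
  haveI : IsImmersion f := hreg.1
  haveI : IsImmersion (pullback.snd f ι) := MorphismProperty.pullback_snd _ _ hreg.1
  obtain ⟨τ, hτ, hτmax⟩ := exists_generic T hT
  obtain ⟨U, hxU, hcl, rs, hlen, -, hker⟩ := hreg.2 (pullback.fst f ι τ)
  haveI : IsLocallyNoetherian Z := LocallyOfFiniteType.isLocallyNoetherian (ι ≫ gY)
  have hzx : ι (pullback.snd f ι τ) = f (pullback.fst f ι τ) :=
    (congrArg (fun φ : pullback f ι ⟶ Y => φ τ) pullback.condition).symm
  have h1 := DiagTorLib.stalk_dim_le_of_max f ι (pullback.snd f ι τ) (pullback.fst f ι τ) hzx U hxU hcl rs hker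
    (fun z' hz' hr => by
      obtain ⟨τ', rfl⟩ : z' ∈ Set.range (pullback.snd f ι) := by rw [Scheme.Pullback.range_snd]; exact hr
      rw [hτmax τ' ((pullback.snd f ι).isEmbedding.isInducing.specializes_iff.1 hz')])
  rw [hlen] at h1
  have hZ := IntMultRegLib.dim_eq (ι ≫ gY) (pullback.snd f ι τ)
  rw [hd, ← DiagTorLib.fibreClosureDim_comp_immersion (pullback.snd f ι) (ι ≫ gY) τ,
    IntMultRegLib.fibreClosureDim_eq, hτ] at hZ
  rw [hZ]
  exact add_le_add le_rfl h1

end Groth.Agent.S6473
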