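import Groth.Statements.S6476
import Groth.Agent.CycAlgLib.EndoQuot
-- import your own Groth.Agent.* helpers here

set_option autoImplicit false
universe u v
open CycAlg

namespace Groth.Agent.S6476


/-- Let A be a Noetherian local ring, M a finite A-module of dimension 1, and φ, ψ : M → M injective
with φ(ψ(M)) = ψ(φ(M)) (e.g. φ, ψ commute). Then length_A(M/φψM) is finite and (M/φψM, φ, ψ) is an
exact (2, 1)-periodic complex; here φ', ψ' denote the endomorphisms of M/φψM induced by φ and ψ, and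
exactness says both cohomology modules (CycAlg.perH) are trivial. -/
theorem result {A : Type u} [CommRing A] [IsNoetherianRing A] [IsLocalRing A] {M : Type v} [AddCommGroup M] [Module A M] [Module.Finite A M] (hdim : Module.supportDim A M = 1) (φ ψ : M →ₗ[A] M) (hφ : Function.Injective φ) (hψ : Function.Injective ψ) (hcomm : Submodule.map φ (LinearMap.range ψ) = Submodule.map ψ (LinearMap.range φ)) (φ' ψ' : (M ⧸ LinearMap.range (φ ∘ₗ ψ)) →ₗ[A] (M ⧸ LinearMap.range (φ ∘ₗ ψ))) (hφ' : φ' ∘ₗ (LinearMap.range (φ ∘ₗ ψ)).mkQ = (LinearMap.range (φ ∘ₗ ψ)).mkQ ∘ₗ φ) (hψ' : ψ' ∘ₗ (LinearMap.range (φ ∘ₗ ψ)).mkQ = (LinearMap.range (φ ∘ₗ ψ)).mkQ ∘ₗ ψ) : Module.length A (M ⧸ LinearMap.range (φ ∘ₗ ψ)) < ⊤ ∧ CycAlg.IsPeriodic φ' ψ' ∧ Subsingleton (CycAlg.perH φ' ψ') ∧ Subsingleton (CycAlg.perH ψ' φ') := by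
  have hN : LinearMap.range (φ ∘ₗ ψ) = LinearMap.range (ψ ∘ₗ φ) := by
    rw [LinearMap.range_comp, LinearMap.range_comp, hcomm]
  have hinj : Function.Injective (φ ∘ₗ ψ : M →ₗ[A] M) := hφ.comp hψ
  refine ⟨CycAlgLib.length_lt_top_of_supportDim_nonpos
    (CycAlgLib.supportDim_quot_range_nonpos hdim.le _ hinj), ?_, ?_, ?_⟩
  · constructor
    · refine Submodule.linearMap_qext _ (LinearMap.ext fun x => ?_)
      rw [LinearMap.comp_assoc, hψ', ← LinearMap.comp_assoc, hφ']
      simpa [Submodule.Quotient.mk_eq_zero] using ⟨x, rfl⟩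
    · refine Submodule.linearMap_qext _ (LinearMap.ext fun x => ?_)
      rw [LinearMap.comp_assoc, hφ', ← LinearMap.comp_assoc, hψ']
      simp only [LinearMap.comp_apply, Submodule.mkQ_apply, LinearMap.zero_comp, LinearMap.zero_apply,
        Submodule.Quotient.mk_eq_zero]
      rw [hN]
      exact ⟨x, rfl⟩
  all_goals
    rw [CycAlg.perH, Submodule.Quotient.subsingleton_iff, Submodule.submoduleOf_eq_top]
    intro y hy
    obtain ⟨x, rfl⟩ := Submodule.mkQ_surjective _ y
    rw [LinearMap.mem_ker] at hy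
  · rw [← LinearMap.comp_apply, hφ', LinearMap.comp_apply, Submodule.mkQ_apply,
      Submodule.Quotient.mk_eq_zero] at hy
    obtain ⟨z, hz⟩ := hy
    obtain rfl : ψ z = x := hφ hz
    exact ⟨Submodule.Quotient.mk z, congrArg (fun f => f z) hψ'⟩
  · rw [← LinearMap.comp_apply, hψ', LinearMap.comp_apply, Submodule.mkQ_apply,
      Submodule.Quotient.mk_eq_zero, hN] at hy
    obtain ⟨z, hz⟩ := hy
    obtain rfl : φ z = x := hψ hz
    exact ⟨Submodule.Quotient.mk z, congrArg (fun f => f z) hφ'⟩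


end Groth.Agent.S6476
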