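import Groth.Statements.S6478
import Mathlib
import Groth.Agent.CycLimLib.Gen
-- import your own Groth.Agent.* helpers here

set_option autoImplicit false
universe u
open CategoryTheory AlgebraicGeometry
open CategoryTheory.Limits
open Cyc

namespace Groth.Agent.S6478

/-- Let f : Y → X be flat, locally of finite type, of relative dimension r, Y' = Y ×_X X' with f' : Y' →
X' and q : Y' → Y, δY, δY' the induced dimension functions (q again has shift c at generic points of
its fibres). Then f' is flat of relative dimension r and (f')^* ∘ g^* = g^* ∘ f^* on k-cycles,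
coefficientwise. Setting: p : X' → X is flat (not necessarily of finite type), (X, δ) and (X', δ')
satisfy Cyc.IsSetup, and δ'(x') = δ(p x') + c whenever x' is maximal under generalization inside its
fibre p⁻¹(p x'); g^* : Z_k(X) → Z_{k+c}(X') is the coefficientwise flat pullback Cyc.pullFun p δ' δ
c. (The published statement takes X′ = X ×_S S′ and Y′ = Y ×_S S′ for a flat S′ → S, with X and Y
locally of finite type over S, and also records the same square on Chow groups, which follows; this
row allows any flat p : X′ → X with the shift condition and states the cycle-level square.) -/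
theorem result (X X' Y : Scheme.{u}) (f : Y ⟶ X) (p : X' ⟶ X) [Flat f] [LocallyOfFiniteType f] [Flat p] (r : ℕ) (hr : Cyc.HasRelDim f r) (δ : X → ℤ) (δ' : X' → ℤ) (δY : Y → ℤ) (δY' : ↥(pullback f p) → ℤ) (hX : Cyc.IsSetup X δ) (hX' : Cyc.IsSetup X' δ') (hY : Cyc.IsSetup Y δY) (hf : Cyc.DeltaCompat f δY δ) (hf' : Cyc.DeltaCompat (pullback.snd f p) δY' δ') (c : ℤ) (hc : ∀ x' : X', (∀ y, p y = p x' → y ⤳ x' → y = x') → δ' x' = δ (p x') + c) (hcY : ∀ y' : ↥(pullback f p), (∀ y, pullback.fst f p y = pullback.fst f p y' → y ⤳ y' → y = y') → δY' y' = δY (pullback.fst f p y') + c) (k : ℤ) (α : AlgebraicCycle X ℤ) (hα : α ∈ Cyc.Zk X δ k) : Cyc.HasRelDim (pullback.snd f p) r ∧ Cyc.pullFun (pullback.snd f p) δY' δ' r (Cyc.pullFun p δ' δ c ⇑α) = Cyc.pullFun (pullback.fst f p) δY' δY c (Cyc.pullFun f δY δ r ⇑α) := by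
  haveI := hX.1
  haveI := hX'.1
  haveI := hY.1
  have hr' : Cyc.HasRelDim (pullback.snd f p) r :=
    FibDimLib.hasRelDim_baseChange (IsPullback.of_hasPullback f p) hr
  haveI : IsLocallyNoetherian (pullback f p) := LocallyOfFiniteType.isLocallyNoetherian (pullback.snd f p)
  refine ⟨hr', funext fun y => ?_⟩
  have hpt : p (pullback.snd f p y) = f (pullback.fst f p y) := by
    rw [← Scheme.Hom.comp_apply, ← Scheme.Hom.comp_apply, pullback.condition]
  have hiff : (δY' y = δ' (pullback.snd f p y) + r ∧ δ' (pullback.snd f p y) = δ (p (pullback.snd f p y)) + c) ↔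
      (δY' y = δY (pullback.fst f p y) + c ∧ δY (pullback.fst f p y) = δ (f (pullback.fst f p y)) + r) := by
    constructor
    · rintro ⟨h1, h2⟩
      have h := (CycLimLib.isGen_comp_iff (pullback.snd f p) p y).2
        ⟨CycLimLib.isGen_of_relDim (pullback.snd f p) hf' hr' h1,
          CycLimLib.isGen_of_delta p δ' (fun z => δ z + c) hX'.2.2 hc h2⟩
      rw [← pullback.condition] at h
      obtain ⟨hq, hqy⟩ := (CycLimLib.isGen_comp_iff (pullback.fst f p) f y).1 h
      exact ⟨hcY y hq, CycLimLib.delta_eq_of_gen f hf hr hqy⟩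
    · rintro ⟨h1, h2⟩
      obtain ⟨z, hzx, hfz, hz⟩ := CycLimLib.exists_gen p (pullback.snd f p y)
      have h3 : δ' (pullback.snd f p y) ≤ δ (p (pullback.snd f p y)) + c := by
        have h4 := hc z hz
        rw [hfz] at h4
        rcases eq_or_ne z (pullback.snd f p y) with h | h
        · rw [← h4, h]
        · rw [← h4]
          exact (hX'.2.2 z _ hzx h).1.le
      have h5 := CycLimLib.delta_le (pullback.snd f p) hf' hr' y
      rw [hpt] at h3 ⊢
      constructor <;> omega
  simp only [Cyc.pullFun]
  have hlen := CycLimLib.length_fibIdeal_comp (pullback.snd f p) p y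
  rw [← pullback.condition, CycLimLib.length_fibIdeal_comp (pullback.fst f p) f y] at hlen
  have hlen' := congrArg (fun t : ℕ∞ => (t.toNat : ℤ)) hlen
  simp only [ENat.toNat_mul, Nat.cast_mul] at hlen'
  by_cases hL : δY' y = δ' (pullback.snd f p y) + r ∧ δ' (pullback.snd f p y) = δ (p (pullback.snd f p y)) + c
  · obtain ⟨h1, h2⟩ := hiff.1 hL
    rw [if_pos hL.1, if_pos hL.2, if_pos h1, if_pos h2, mul_assoc, mul_assoc]
    exact congrArg₂ (fun a b : ℤ => a * b) (congrArg α hpt) hlen'.symm
  · have hR := mt hiff.2 hL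
    rw [not_and] at hL hR
    by_cases a1 : δY' y = δ' (pullback.snd f p y) + r
    · rw [if_pos a1, if_neg (hL a1), zero_mul]
      by_cases b1 : δY' y = δY (pullback.fst f p y) + c
      · rw [if_pos b1, if_neg (hR b1), zero_mul]
      · rw [if_neg b1]
    · rw [if_neg a1]
      by_cases b1 : δY' y = δY (pullback.fst f p y) + c
      · rw [if_pos b1, if_neg (hR b1), zero_mul]
      · rw [if_neg b1]

end Groth.Agent.S6478
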