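import Groth.Statements.S6479
import Mathlib
import Groth.Agent.CycLimLib.Basic
-- import your own Groth.Agent.* helpers here

set_option autoImplicit false
universe u
open CategoryTheory AlgebraicGeometry
open CategoryTheory.Limits
open Cyc

namespace Groth.Agent.S6479

/-- Let p : X' → X and p' : X'' → X' be flat with shifts c and c' on the dimension functions at generic
points of fibre components. Then the composite p' ≫ p has shift c + c' at generic points of its
fibre components, and g^* followed by (g')^* is (g ∘ g')^* on k-cycles: Cyc.pullFun (p' ≫ p) δ'' δ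
(c + c') α = Cyc.pullFun p' δ'' δ' c' (Cyc.pullFun p δ' δ c α). Setting: p : X' → X is flat (not
necessarily of finite type), (X, δ) and (X', δ') satisfy Cyc.IsSetup, and δ'(x') = δ(p x') + c
whenever x' is maximal under generalization inside its fibre p⁻¹(p x'); g^* : Z_k(X) → Z_{k+c}(X')
is the coefficientwise flat pullback Cyc.pullFun p δ' δ c. (The published statement takes both maps
to be base changes along flat S″ → S′ → S of one scheme locally of finite type over S, and has a
third part, the same composition on Chow groups, which follows; this row allows any two flat maps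
with the shift conditions.) -/
theorem result (X X' X'' : Scheme.{u}) (p : X' ⟶ X) (p' : X'' ⟶ X') [Flat p] [Flat p'] (δ : X → ℤ) (δ' : X' → ℤ) (δ'' : X'' → ℤ) (hX : Cyc.IsSetup X δ) (hX' : Cyc.IsSetup X' δ') (hX'' : Cyc.IsSetup X'' δ'') (c c' : ℤ) (hc : ∀ x' : X', (∀ y, p y = p x' → y ⤳ x' → y = x') → δ' x' = δ (p x') + c) (hc' : ∀ x'' : X'', (∀ y, p' y = p' x'' → y ⤳ x'' → y = x'') → δ'' x'' = δ' (p' x'') + c') (k : ℤ) (α : AlgebraicCycle X ℤ) (hα : α ∈ Cyc.Zk X δ k) : (∀ x'' : X'', (∀ y, (p' ≫ p) y = (p' ≫ p) x'' → y ⤳ x'' → y = x'') → δ'' x'' = δ ((p' ≫ p) x'') + (c + c')) ∧ Cyc.pullFun (p' ≫ p) δ'' δ (c + c') ⇑α = Cyc.pullFun p' δ'' δ' c' (Cyc.pullFun p δ' δ c ⇑α) := by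
  haveI := hX'.1
  haveI := hX''.1
  have hsh : ∀ x'' : X'', CycLimLib.IsGen (p' ≫ p) x'' → δ'' x'' = δ ((p' ≫ p) x'') + (c + c') := fun x h => by
    obtain ⟨h1, h2⟩ := (CycLimLib.isGen_comp_iff p' p x).1 h
    rw [hc' x h1, hc _ h2]
    show _ = δ (p (p' x)) + (c + c')
    ring
  refine ⟨hsh, funext fun x => ?_⟩
  simp only [Cyc.pullFun]
  by_cases h : δ'' x = δ ((p' ≫ p) x) + (c + c')
  · have hg := (CycLimLib.isGen_comp_iff p' p x).1
      (CycLimLib.isGen_of_delta (p' ≫ p) δ'' (fun z => δ z + (c + c')) hX''.2.2 hsh h)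
    rw [if_pos h, if_pos (hc' x hg.1), if_pos (hc _ hg.2)]
    show α (p (p' x)) * _ = α (p (p' x)) * _ * _
    rw [show Module.length (X''.presheaf.stalk x) (X''.presheaf.stalk x ⧸ Ideal.map ((p' ≫ p).stalkMap x).hom
        (IsLocalRing.maximalIdeal (X.presheaf.stalk ((p' ≫ p) x)))) = _ from CycLimLib.length_fibIdeal_comp p' p x,
      ENat.toNat_mul, Nat.cast_mul, mul_assoc]
  · rw [if_neg h]
    split_ifs with h1 h2
    · exact absurd (by rw [h1, h2]; show _ = δ (p (p' x)) + (c + c'); ring) h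
    · rw [zero_mul]
    · rfl

end Groth.Agent.S6479
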