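import Groth.Statements.S6480
import Mathlib
import Groth.Agent.S1833
-- import your own Groth.Agent.* helpers here

set_option autoImplicit false
universe u
open CycAlg Pointwise

namespace Groth.Agent.S6480

/-- Let A be a Noetherian local ring of dimension 1, a, b ∈ A nonzerodivisors, A without embedded
primes, M a finite A-module without embedded associated primes and with Supp(M) = Spec(A). Put I =
{x ∈ A | x·(a/b) ∈ A}, and write 𝔮_1, …, 𝔮_t for the minimal prime ideals of A. The conclusion is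
that M contains (a/b)IM, and that the difference length_A(M/(a/b)IM) minus length_A(M/IM) equals the
sum over i of length_{A_{𝔮_i}}(M_{𝔮_i}) multiplied by ord_{A/𝔮_i}(a/b). Encoding: I is the ideal
quotient (bA : aA); '(a/b)IM ⊂ M' is aIM ⊆ bM; (a/b)IM is the submodule of m with bm ∈ aIM (b acts
injectively on M); ord_{A/𝔮}(a/b) is CycAlg.ordFrac on κ(𝔮) = Frac(A/𝔮); lengths are truncated to ℕ
(they are finite here). -/
theorem result {A : Type u} [CommRing A] [IsNoetherianRing A] [IsLocalRing A] (hA : ringKrullDim A = 1) {M : Type u} [AddCommGroup M] [Module A M] [Module.Finite A M] (a b : A) (ha : a ∈ nonZeroDivisors A) (hb : b ∈ nonZeroDivisors A) (hAemb : ∀ p ∈ associatedPrimes A A, p ∈ minimalPrimes A) (hMemb : ∀ p ∈ associatedPrimes A M, p ∈ minimalPrimes A) (hsupp : Module.support A M = Set.univ) (I : Ideal A) (hI : I = (Ideal.span {b}).colon (Ideal.span {a})) (P : Submodule A M) (hP : P = Submodule.comap (LinearMap.lsmul A M b) ((Ideal.span {a} * I) • (⊤ : Submodule A M)))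 : (Ideal.span {a} * I) • (⊤ : Submodule A M) ≤ LinearMap.range (LinearMap.lsmul A M b) ∧ ((Module.length A (M ⧸ P)).toNat : ℤ) - ((Module.length A (M ⧸ I • (⊤ : Submodule A M))).toNat : ℤ) = ∑ᶠ (q : PrimeSpectrum A) (_ : q.asIdeal ∈ minimalPrimes A), ((Module.length (Localization.AtPrime q.asIdeal) (LocalizedModule q.asIdeal.primeCompl M)).toNat : ℤ) * CycAlg.ordFrac (A ⧸ q.asIdeal) q.asIdeal.ResidueField (algebraMap A q.asIdeal.ResidueField a / algebraMap A q.asIdeal.ResidueField b) := by
  classical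
  skip
  haveI : Ring.KrullDimLE 1 A := Ring.krullDimLE_iff.2 (le_of_eq hA)
  have hdim : Module.supportDim A M ≤ 1 := le_trans (Module.supportDim_le_ringKrullDim A M) (le_of_eq hA)
  -- nonzerodivisors act injectively
  have hreg : ∀ c : A, c ∈ nonZeroDivisors A → Function.Injective (LinearMap.lsmul A M c) := by
    intro c hc
    rw [← LinearMap.ker_eq_bot, eq_bot_iff]
    intro x hx
    rw [Submodule.mem_bot]
    by_contra hx0
    obtain ⟨p, hp, hxp⟩ := exists_le_isAssociatedPrime_of_isNoetherianRing A x hx0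
    have hcp : c ∈ p := hxp (by rw [Submodule.mem_colon_singleton, Submodule.mem_bot]; exact hx)
    exact Set.disjoint_left.1 (Ideal.disjoint_nonZeroDivisors_of_mem_minimalPrimes (hMemb p hp)) hcp hc
  have hsmul : ∀ (c : A), LinearMap.range (LinearMap.lsmul A M c) = c • (⊤ : Submodule A M) := fun c => by
    ext m
    rw [Submodule.mem_smul_pointwise_iff_exists]
    simp [LinearMap.mem_range]
  -- the minimal primes
  haveI := (minimalPrimes.finite_of_isNoetherianRing A).fintype
  have hne_max : ∀ q : PrimeSpectrum A, q.asIdeal ∈ minimalPrimes A ↔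
      q ∈ Module.support A M ∧ q.asIdeal ≠ IsLocalRing.maximalIdeal A := by
    intro q
    rw [hsupp]
    constructor
    · intro hq
      refine ⟨trivial, fun e => ?_⟩
      have h0 : Ring.KrullDimLE 0 A := Ring.KrullDimLE.mk₀ fun P hP => by
        have := hP.ne_top
        rw [le_antisymm (IsLocalRing.le_maximalIdeal this) (e ▸ hq.2 ⟨hP, bot_le⟩ (e ▸ IsLocalRing.le_maximalIdeal this))]
        exact IsLocalRing.maximalIdeal.isMaximal A
      have := (Ring.krullDimLE_iff.1 h0)
      rw [hA] at this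
      exact absurd this (by norm_num)
    · rintro ⟨-, hne⟩
      rcases Ring.krullDimLE_one_iff.1 inferInstance q.asIdeal q.2 with h | h
      · exact h
      · exact absurd (IsLocalRing.eq_maximalIdeal h) hne
  let T : Finset (PrimeSpectrum A) := (Finset.univ : Finset (minimalPrimes A)).map
    ⟨fun p => ⟨p.1, p.2.1.1⟩, fun p p' h => Subtype.ext (congrArg PrimeSpectrum.asIdeal h)⟩
  have hT : ∀ q : PrimeSpectrum A, q ∈ T ↔ q.asIdeal ∈ minimalPrimes A := by
    intro q
    constructor
    · intro h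
      obtain ⟨p, -, rfl⟩ := Finset.mem_map.1 h
      exact p.2
    · intro h
      exact Finset.mem_map.2 ⟨⟨q.asIdeal, h⟩, Finset.mem_univ _, rfl⟩
  -- local data
  have hord : ∀ q ∈ T, ∀ c ∈ nonZeroDivisors A, Ideal.Quotient.mk q.asIdeal c ≠ 0 ∧
      Ring.ord (A ⧸ q.asIdeal) (Ideal.Quotient.mk q.asIdeal c) ≠ ⊤ := by
    intro q hq c hc
    have h0 : Ideal.Quotient.mk q.asIdeal c ≠ 0 := fun e =>
      Set.disjoint_left.1 (Ideal.disjoint_nonZeroDivisors_of_mem_minimalPrimes ((hT q).1 hq))
        (Ideal.Quotient.eq_zero_iff_mem.1 e) hc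
    haveI : Ring.KrullDimLE 1 (A ⧸ q.asIdeal) := Ring.krullDimLE_iff.2
      ((ringKrullDim_quotient_le q.asIdeal).trans (Ring.krullDimLE_iff.1 inferInstance))
    exact ⟨h0, Ring.ord_ne_top (mem_nonZeroDivisors_of_ne_zero h0)⟩
  let ℓ : PrimeSpectrum A → ℕ∞ := fun q =>
    Module.length (Localization.AtPrime q.asIdeal) (LocalizedModule q.asIdeal.primeCompl M)
  have hℓ : ∀ q ∈ T, ℓ q ≠ ⊤ := by
    intro q hq
    haveI : Ring.KrullDimLE 0 (Localization.AtPrime q.asIdeal) :=
      Ring.KrullDimLE.of_isLocalization q.asIdeal ((hT q).1 hq) (Localization.AtPrime q.asIdeal)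
    haveI : IsArtinianRing (Localization.AtPrime q.asIdeal) := isArtinianRing_iff_krullDimLE_zero.2 inferInstance
    haveI : Module.Finite (Localization.AtPrime q.asIdeal) (LocalizedModule q.asIdeal.primeCompl M) :=
      Module.Finite.of_isLocalizedModule q.asIdeal.primeCompl (LocalizedModule.mkLinearMap q.asIdeal.primeCompl M)
    exact Module.length_ne_top
  -- the length modulo a nonzerodivisor
  have hlen : ∀ c ∈ nonZeroDivisors A, Module.length A (M ⧸ LinearMap.range (LinearMap.lsmul A M c)) =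
      ((∑ q ∈ T, (Ring.ord (A ⧸ q.asIdeal) (Ideal.Quotient.mk q.asIdeal c)).toNat * (ℓ q).toNat : ℕ) : ℕ∞) := by
    intro c hc
    have hfin : Module.supportDim A (M ⧸ c • (⊤ : Submodule A M)) ≤ 0 := by
      rw [← hsmul c]
      exact CycAlgLib.supportDim_quot_range_nonpos hdim (LinearMap.lsmul A M c) (hreg c hc)
    rw [(Submodule.quotEquivOfEq _ _ (hsmul c)).length_eq, Groth.Agent.S1833.result A M c hdim hfin]
    haveI : Subsingleton (LinearMap.ker (LinearMap.lsmul A M c)) :=
      Submodule.subsingleton_iff_eq_bot.2 (LinearMap.ker_eq_bot.2 (hreg c hc))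
    rw [Module.length_eq_zero, zero_add, finsum_cond_eq_sum_of_cond_iff (t := T) _
      (fun {q} _ => (hne_max q).symm.trans (hT q).symm), Nat.cast_sum]
    refine Finset.sum_congr rfl fun q hq => ?_
    rw [Nat.cast_mul, ENat.natCast_toNat (hord q hq c hc).2, ENat.natCast_toNat (hℓ q hq)]
  -- exact sequences
  have hmain : ∀ (c : A), c ∈ nonZeroDivisors A → ∀ Y : Submodule A M, Y ≤ LinearMap.range (LinearMap.lsmul A M c) →
      Module.length A (M ⧸ Y) = Module.length A (M ⧸ Submodule.comap (LinearMap.lsmul A M c) Y) +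
        Module.length A (M ⧸ LinearMap.range (LinearMap.lsmul A M c)) := by
    intro c hc Y hY
    refine Module.length_eq_add_of_exact
      ((Submodule.comap (LinearMap.lsmul A M c) Y).mapQ Y (LinearMap.lsmul A M c) le_rfl)
      (Submodule.factor hY) ?_ (Submodule.factor_surjective _) ?_
    · rw [← LinearMap.ker_eq_bot, Submodule.ker_mapQ]
      exact Submodule.mkQ_map_self _
    · intro x
      obtain ⟨x, rfl⟩ := Submodule.Quotient.mk_surjective _ x
      rw [show Submodule.factor hY (Submodule.Quotient.mk x) = Submodule.Quotient.mk x from rfl,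
        Submodule.Quotient.mk_eq_zero]
      constructor
      · rintro ⟨y, rfl⟩
        exact ⟨Submodule.Quotient.mk y, rfl⟩
      · rintro ⟨y, hy⟩
        obtain ⟨y, rfl⟩ := Submodule.Quotient.mk_surjective _ y
        have := (Submodule.Quotient.eq Y).1 hy
        simpa using sub_mem (LinearMap.mem_range_self (LinearMap.lsmul A M c) y) (hY this)
  let X := I • (⊤ : Submodule A M)
  let Y := (Ideal.span {a} * I) • (⊤ : Submodule A M)
  have hY : Y = Submodule.map (LinearMap.lsmul A M a) X := by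
    show (Ideal.span {a} * I) • (⊤ : Submodule A M) = _
    rw [Submodule.mul_smul, Submodule.ideal_span_singleton_smul]
    rfl
  have hYb : Y ≤ LinearMap.range (LinearMap.lsmul A M b) := by
    refine Submodule.smul_le.2 fun r hr m _ => ?_
    obtain ⟨i, hi, rfl⟩ := Ideal.mem_span_singleton_mul.1 hr
    rw [hI, Submodule.mem_colon_span_singleton] at hi
    obtain ⟨z, hz⟩ := Ideal.mem_span_singleton'.1 hi
    refine ⟨z • m, ?_⟩
    show b • z • m = (a * i) • m
    rw [smul_smul, mul_comm b z, hz, smul_eq_mul, mul_comm]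
  refine ⟨hYb, ?_⟩
  have hYa : Y ≤ LinearMap.range (LinearMap.lsmul A M a) := hY.le.trans (LinearMap.map_le_range)
  have e1 := hmain a ha Y hYa
  have e2 := hmain b hb Y hYb
  rw [hY, Submodule.comap_map_eq_of_injective (hreg a ha)] at e1
  rw [← hY] at e1
  rw [← hP] at e2
  have hXb : LinearMap.range (LinearMap.lsmul A M b) ≤ X := by
    rintro _ ⟨m, rfl⟩
    refine Submodule.smul_mem_smul ?_ trivial
    rw [hI, Submodule.mem_colon_span_singleton]
    exact Ideal.mul_mem_right _ _ (Ideal.mem_span_singleton_self b)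
  have hXfin : Module.length A (M ⧸ X) ≠ ⊤ :=
    ne_top_of_le_ne_top (by rw [hlen b hb]; exact ENat.natCast_ne_top _)
      (Module.length_le_of_surjective _ (Submodule.factor_surjective hXb))
  obtain ⟨nX, hnX⟩ := ENat.ne_top_iff_exists.1 hXfin
  rw [e1, ← hnX, hlen a ha, hlen b hb] at e2
  have hPfin : Module.length A (M ⧸ P) ≠ ⊤ := fun e => by
    rw [e, top_add, ← Nat.cast_add] at e2
    exact ENat.natCast_ne_top _ e2
  obtain ⟨nP, hnP⟩ := ENat.ne_top_iff_exists.1 hPfin
  rw [← hnP, ← Nat.cast_add, ← Nat.cast_add, Nat.cast_inj] at e2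
  rw [← hnP, show Module.length A (M ⧸ I • (⊤ : Submodule A M)) = (nX : ℕ∞) from hnX.symm, ENat.toNat_natCast,
    ENat.toNat_natCast]
  have key : (nP : ℤ) - nX = ∑ q ∈ T, ((ℓ q).toNat : ℤ) *
      (((Ring.ord (A ⧸ q.asIdeal) (Ideal.Quotient.mk q.asIdeal a)).toNat : ℤ) -
        (Ring.ord (A ⧸ q.asIdeal) (Ideal.Quotient.mk q.asIdeal b)).toNat) := by
    have e2' := congrArg (fun n : ℕ => (n : ℤ)) e2
    simp only [Nat.cast_add, Nat.cast_sum, Nat.cast_mul] at e2'
    rw [Finset.sum_congr rfl (fun q _ => show _ = ((Ring.ord (A ⧸ q.asIdeal) (Ideal.Quotient.mk q.asIdeal a)).toNat : ℤ) * ((ℓ q).toNat : ℤ) -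
      ((Ring.ord (A ⧸ q.asIdeal) (Ideal.Quotient.mk q.asIdeal b)).toNat : ℤ) * ((ℓ q).toNat : ℤ) by ring), Finset.sum_sub_distrib]
    linarith
  rw [key, finsum_cond_eq_sum_of_cond_iff (t := T) _ (fun {q} _ => (hT q).symm)]
  refine Finset.sum_congr rfl fun q hq => ?_
  congr 1
  haveI : Ring.KrullDimLE 1 (A ⧸ q.asIdeal) := Ring.krullDimLE_iff.2
    ((ringKrullDim_quotient_le q.asIdeal).trans (Ring.krullDimLE_iff.1 inferInstance))
  obtain ⟨na, hna⟩ := ENat.ne_top_iff_exists.1 (hord q hq a ha).2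
  obtain ⟨nb, hnb⟩ := ENat.ne_top_iff_exists.1 (hord q hq b hb).2
  rw [← hna, ← hnb, CycAlg.ordFrac, dif_pos ⟨inferInstance, inferInstance, inferInstance, inferInstance⟩,
    map_div₀, IsScalarTower.algebraMap_apply A (A ⧸ q.asIdeal) q.asIdeal.ResidueField a,
    IsScalarTower.algebraMap_apply A (A ⧸ q.asIdeal) q.asIdeal.ResidueField b,
    Ideal.Quotient.algebraMap_eq, Ring.ordFrac_eq_ord _ (hord q hq a ha).1, Ring.ordFrac_eq_ord _ (hord q hq b hb).1,
    Ring.ordMonoidWithZeroHom_eq_coe (A ⧸ q.asIdeal) (mem_nonZeroDivisors_of_ne_zero (hord q hq a ha).1) hna.symm,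
    Ring.ordMonoidWithZeroHom_eq_coe (A ⧸ q.asIdeal) (mem_nonZeroDivisors_of_ne_zero (hord q hq b hb).1) hnb.symm,
    ← WithZero.coe_div, ENat.toNat_natCast, ENat.toNat_natCast]
  rfl

end Groth.Agent.S6480
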