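import Groth.Statements.S6481
import Mathlib
import Groth.Agent.TameLib.GapGlue
-- import your own Groth.Agent.* helpers here

set_option autoImplicit false
universe u
open CycAlg

namespace Groth.Agent.S6481

/-- Let (A, 𝔪) be a 2-dimensional Noetherian local ring, t ∈ 𝔪 a nonzerodivisor with V(t) = {𝔪, 𝔮_1, …,
𝔮_r}, and A_{𝔮_i} ⊂ B_i finite ring extensions with B_i/A_{𝔮_i} annihilated by a power of t and with
t a nonzerodivisor on each B_i. Then A admits some finite extension A ⊂ B whose quotient B/A is
killed by some power of t, such that for every i the localization B_{𝔮_i} = B ⊗_A A_{𝔮_i} is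
isomorphic to B_i (existence of an A_{𝔮_i}-algebra isomorphism; B itself is only asserted to exist).
(The published statement allows any finite ring extensions A_{𝔮_i} ⊂ B_i; this row asks t to be a
nonzerodivisor on each B_i, the case its proof treats, where B_i sits inside t^{-n}A_{𝔮_i}. The
published statement also makes B local with the same residue field as A; this row omits that
clause.) Finite extension with quotient killed by a power of t: CycAlg.IsFinExt with the ideal (t). -/
theorem result (A : Type u) [CommRing A] [IsNoetherianRing A] [IsLocalRing A] (hA : ringKrullDim A = 2) (t : A) (ht : t ∈ IsLocalRing.maximalIdeal A) (htnz : t ∈ nonZeroDivisors A) (r : ℕ) (q : Fin r → Ideal A) (hq : ∀ i, (q i).IsPrime) (hinj : Function.Injective q) (hqm : ∀ i, q i ≠ IsLocalRing.maximalIdeal A) (htq : ∀ i, t ∈ q i) (hV : ∀ p : Ideal A, p.IsPrime → t ∈ p → p = IsLocalRing.maximalIdeal A ∨ ∃ i, p = q i) (B : Fin r → Type u) [∀ i, CommRing (B i)] [∀ i, Algebra (Localization.AtPrime (q i)) (B i)] (hB : ∀ i, CycAlg.IsFinExt (Localization.AtPrime (q i)) (B i)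 (Ideal.span {algebraMap A (Localization.AtPrime (q i)) t})) (htB : ∀ i, IsSMulRegular (B i) (algebraMap A (Localization.AtPrime (q i)) t)) : ∃ (C : Type u) (_ : CommRing C) (_ : Algebra A C), CycAlg.IsFinExt A C (Ideal.span {t}) ∧ ∀ i, Nonempty (TensorProduct A (Localization.AtPrime (q i)) C ≃ₐ[Localization.AtPrime (q i)] B i) := by
  haveI := hq
  have hmax : (IsLocalRing.maximalIdeal A).height = 2 := by
    have h := IsLocalRing.maximalIdeal_height_eq_ringKrullDim (R := A)
    rw [hA] at h
    exact WithBot.coe_injective h
  have hle : ∀ i, (q i).height ≤ 1 := by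
    intro i
    have h := Ideal.height_add_one_le_of_lt_of_isPrime
      (lt_of_le_of_ne (IsLocalRing.le_maximalIdeal (hq i).ne_top) (hqm i))
    rw [hmax, show (2 : ℕ∞) = 1 + 1 from one_add_one_eq_two.symm] at h
    exact (WithTop.add_le_add_iff_right ENat.one_ne_top).1 h
  haveI : ∀ i, Ring.KrullDimLE 1 (Localization.AtPrime (q i)) := fun i => by
    rw [Ring.krullDimLE_iff, IsLocalization.AtPrime.ringKrullDim_eq_height (q i)]
    exact WithBot.coe_le_coe.2 (hle i)
  refine TameLib.Gap.exists_glue htnz q (fun i j hne hji => ?_) htq B hB htB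
  rcases eq_or_lt_of_le hji with h | h
  · exact hne (hinj h.symm)
  · have h1 := Ideal.height_add_one_le_of_lt_of_isPrime h
    have h0 : (q j).height ≠ 0 := by
      intro h0
      rw [Ideal.height_eq_zero_iff] at h0
      exact Set.disjoint_left.1 (Ideal.disjoint_nonZeroDivisors_of_mem_minimalPrimes h0) (htq j) htnz
    have h2 : (q j).height + 1 ≤ 0 + 1 := by
      rw [zero_add]; exact h1.trans (hle i)
    exact h0 (le_bot_iff.1 ((WithTop.add_le_add_iff_right ENat.one_ne_top).1 h2))

end Groth.Agent.S6481
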