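import Groth.Statements.S6494
import Groth.Agent.P1InterLib.FibreRat
import Groth.Agent.CycProjLib.Main
import Groth.Agent.DiagTorLib.AssocCycle
import Groth.Agent.CycBivLib.Square

set_option autoImplicit false
set_option backward.isDefEq.respectTransparency false
set_option backward.isDefEq.respectTransparency.types false
universe u
open CategoryTheory CategoryTheory.Limits AlgebraicGeometry
attribute [local instance] HasDerivedCategory.standard
open IntMult

namespace Groth.Agent.S6494

/-- Let X → P be a closed immersion of nonsingular varieties and C' ⊂ P × P^1 a closed subvariety of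
dimension r + 1 with (1) the fibre C = C'_0 of dimension r (C' → P^1 dominant), (2) C' and X × P^1
intersecting properly, (3) [C]_r and X intersecting properly. Then, with α = [C]_r · X and β = C' ·
(X × P^1), one has α = pr_{X,*}(β · (X × 0)). Stated on P × P^1: α = pr_*((C' · (X × P^1)) · (P ×
0)) as cycles on P. (The published statement takes the product of β with X × 0 on X × P^1 and pushes
it forward along X × P^1 → X; this row takes the product of C′ · (X × P^1) with P × 0 on P × P^1 and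
pushes it forward along P × P^1 → P, which is the same cycle on P.) Encoding: P × P^1 =
CohB1.ProjSpaceOver 1 P with projection pr and zero section P1.sect P 0; dimension functions δP, δ'
(transcendence degree); C'_0 is the pullback of C' along the zero section and [C]_r its r-cycle
(Cyc.subschemeFun); X × P^1 and P × 0 enter as the prime cycles of their generic points; products
are IntMult.interProd on P (dim N_P) and on P × P^1 (dim N_P + 1). Here P and X are nonsingular
varieties over the algebraically closed field K (smooth, separated, quasi-compact, integral), δP is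
the dimension function on P (transcendence degree over K, recorded by Cyc.DeltaCompat to Spec K with
value 0, together with Cyc.IsSetup), N_P = δP of the generic point of P and n = δP of the generic
point of X; proper intersection is IntMult.IntersectProperly / IntMult.ProperInt and products are
IntMult.interProd. -/
theorem result (K : Type u) [Field K] [IsAlgClosed K] (P : Scheme.{u}) (fP : P ⟶ Spec (CommRingCat.of K)) [Smooth fP] [IsSeparated fP] [QuasiCompact fP] [IsIntegral P] (δP : P → ℤ) (hP : Cyc.IsSetup P δP) (hδP : Cyc.DeltaCompat fP δP (fun _ => 0)) (NP : ℕ) (hNP : δP (genericPoint P) = NP) (δ' : ↥(CohB1.ProjSpaceOver 1 P) → ℤ) (hP' : Cyc.IsSetup (CohB1.ProjSpaceOver 1 P) δ') (hδ' : Cyc.DeltaCompat (CohB1.ProjSpaceOver.toBase 1 P) δ' δP) [QuasiCompact (CohB1.ProjSpaceOver.toBase 1 P)] (X : Scheme.{u}) (fX : X ⟶ Spec (CommRingCat.of K)) [Smooth fX] [IsSeparated fX] [QuasiCompact fX] [IsIntegral X] (ι : X ⟶ P) [IsClosedImmersion ι] (hι : ι ≫ fP = fX) (n : ℕ) (hn :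 δP (ι (genericPoint X)) = n) (ζX : ↥(CohB1.ProjSpaceOver 1 P)) (hζ1 : CohB1.ProjSpaceOver.toBase 1 P ζX = ι (genericPoint X)) (hζ2 : δ' ζX = n + 1) (C' : Scheme.{u}) [IsIntegral C'] (ι' : C' ⟶ CohB1.ProjSpaceOver 1 P) [IsClosedImmersion ι'] (r : ℕ) (hr : δ' (ι' (genericPoint C')) = r + 1) (hC0 : ∀ w : ↥(pullback ι' (P1.sect P 0)), δP (pullback.snd ι' (P1.sect P 0) w) ≤ r) (hC0ne : Nonempty ↥(pullback ι' (P1.sect P 0))) (h2 : IntMult.ProperInt (closure {ι' (genericPoint C')}) (⇑(CohB1.ProjSpaceOver.toBase 1 P) ⁻¹' Set.range ⇑ι) (NP + 1) (r + 1) (n + 1)) (h3 : IntMult.IntersectProperly δP NP (Cyc.subschemeFun δP r (pullback.snd ι' (P1.sect P 0))) (Set.indicator {ι (genericPoint X)} 1)) (B : AlgebraicCycle (CohB1.ProjSpaceOver 1 P) ℤ) (hB : ⇑B = IntMult.interProd δ' (NP + 1) (IntMult.interProd δ' (NP + 1) (Set.indicator {ι' (genericPoint C')} 1) (Set.indicator {ζX} 1)) (Set.indicator {P1.sect P 0 (genericPoint P)} 1)) : ⇑(AlgebraicCycle.map (CohB1.ProjSpaceOver.toBase 1 P) δ'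 δP B) = IntMult.interProd δP NP (Cyc.subschemeFun δP r (pullback.snd ι' (P1.sect P 0))) (Set.indicator {ι (genericPoint X)} 1) := by
  classical
  haveI := hP.1
  haveI := hP'.1
  haveI : CompactSpace P := QuasiCompact.compactSpace_of_compactSpace fP
  haveI : IsIntegral (CohB1.ProjSpaceOver 1 P) := P1InterLib.isIntegral_projSpaceOver fP
  haveI : IsIntegral (CohB1.ProjSpaceOver 1 X) := P1InterLib.isIntegral_projSpaceOver fX
  let π := CohB1.ProjSpaceOver.toBase 1 P
  haveI : CompactSpace ↥(CohB1.ProjSpaceOver 1 P) := QuasiCompact.compactSpace_of_compactSpace π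
  haveI : IsNoetherian (CohB1.ProjSpaceOver 1 P) := {}
  haveI : IsNoetherian P := {}
  haveI : Smooth π := RTrivLib.smooth_toBase 1 P
  haveI : Smooth (π ≫ fP) := inferInstance
  let v := ι (genericPoint X)
  let w := ι' (genericPoint C')
  -- the inverse image of X on the line
  let j : CohB1.ProjSpaceOver 1 X ⟶ CohB1.ProjSpaceOver 1 P := P1.toP1 ι
  have hsq : IsPullback j (CohB1.ProjSpaceOver.toBase 1 X) π ι := by
    refine IsPullback.of_right (h₁₂ := pullback.fst _ _) (h₂₂ := specULiftZIsTerminal.from _)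
      (v₁₃ := CohB1.ProjSpace.toSpec 1 (ULift.{u} ℤ)) ?_ ?_ (IsPullback.of_hasPullback _ _)
    · rw [show P1.toP1 ι ≫ pullback.fst _ _ = pullback.fst _ _ from
        (pullback.lift_fst _ _ _).trans (Category.comp_id _), show ι ≫ specULiftZIsTerminal.from _ =
        specULiftZIsTerminal.from X from specULiftZIsTerminal.hom_ext _ _]
      exact IsPullback.of_hasPullback _ _
    · exact pullback.lift_snd _ _ _
  haveI : IsClosedImmersion j := MorphismProperty.of_isPullback hsq.flip inferInstance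
  have hjη : j (genericPoint ↥(CohB1.ProjSpaceOver 1 X)) = ζX := by
    have hmem : ζX ∈ Set.range j := by
      obtain ⟨p, hp, -⟩ := Scheme.Pullback.exists_preimage_pullback (f := π) (g := ι) ζX (genericPoint X) hζ1
      exact ⟨hsq.isoPullback.inv p, by rw [← Scheme.Hom.comp_apply, hsq.isoPullback_inv_fst]; exact hp⟩
    obtain ⟨p, hp⟩ := hmem
    have h := P1InterLib.delta_mono δ' hP' (((genericPoint_spec _).specializes (y := p) trivial).map j.continuous)
    rw [hp] at h
    refine h.2 ?_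
    have hιc := CycBivLib.deltaCompat_restrict (δ := δP) ι
    have hd := P1InterLib.delta_genericPoint (fun x => δP (ι x)) (CycBivLib.isSetup_of_lft ι hP hιc)
      (fun z => δ' (j z)) (CycBivLib.deltaCompat_square (i := ι) (j := j) hsq.w.symm hδ')
    simp only at hd
    rw [hn] at hd
    omega
  have hptX : IntMult.ptIdeal ζX = (IntMult.ptIdeal v).comap π := by
    rw [← hjη, ← P1InterLib.ker_eq_ptIdeal j, ← P1InterLib.ker_eq_ptIdeal ι, ← hsq.isoPullback_hom_fst,
      Scheme.Hom.ker_comp_of_isIso, Scheme.IdealSheafData.ker_fst_of_isClosedImmersion]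
  -- the fibre of C'
  have hwi : w ∉ Set.range (P1.sect P 0) := by
    rintro ⟨x, hx⟩
    obtain ⟨u, -, hu⟩ := Scheme.Pullback.exists_preimage_pullback (f := ι') (g := P1.sect P 0) (genericPoint C') x hx.symm
    have h1 := hC0 u
    rw [hu] at h1
    have h2 : δ' (P1.sect P 0 x) = r + 1 := by rw [hx, hr]
    rw [CycP1Lib.delta_sect hδ'] at h2
    omega
  rw [P1InterLib.subschemeFun_fibre δP r ι' 0] at h3 ⊢
  have hprop : IntMult.IntersectProperly δP NP (DiagTorLib.single v) (P1InterLib.fibFun δP r w 0) :=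
    fun a b c ha hb hac hbc => (h3 b a c hb ha hbc hac).trans_eq (by ring)
  let k : ℤ := (n : ℤ) + r - NP
  -- the components of the intersection on the line
  have hbound : ∀ z, w ⤳ z → v ⤳ π z → δ' z ≤ k + 1 := by
    intro z hwz hvz
    obtain ⟨m, hm1, hm2⟩ := DiagTorLib.exists_dim_closure (π ≫ fP) δ'
      (P1InterLib.deltaCompat_toBase_comp fP δP hδP δ' hδ') z
    have hmem : z ∈ closure {w} ∩ ⇑π ⁻¹' Set.range ⇑ι :=
      ⟨hwz.mem_closure, ι.isClosedEmbedding.isClosed_range.stableUnderSpecialization hvz ⟨_, rfl⟩⟩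
    obtain ⟨hle, hdim⟩ := h2 ⟨z, hmem⟩
    have hsub : closure {z} ⊆ closure {w} ∩ ⇑π ⁻¹' Set.range ⇑ι := closure_minimal (Set.singleton_subset_iff.2 hmem)
      (isClosed_closure.inter (ι.isClosedEmbedding.isClosed_range.preimage π.continuous))
    have h4 : (m : WithBot ℕ∞) ≤ ((r + 1 + (n + 1) - (NP + 1) : ℕ) : WithBot ℕ∞) := by
      rw [← hm2]
      exact (Topology.IsInducing.topologicalKrullDim_le
        (Topology.IsEmbedding.inclusion hsub).isInducing).trans hdim
    have h5 : m ≤ r + 1 + (n + 1) - (NP + 1) := by exact_mod_cast h4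
    omega
  have hfin := CycProjLib.finite_top (δX := δ') (f := π) hP' (k + 1) w v hbound
  let G := hfin.toFinset
  have hG : ∀ ζ, ζ ∈ G ↔ w ⤳ ζ ∧ v ⤳ π ζ ∧ δ' ζ = k + 1 := fun ζ => hfin.mem_toFinset
  let D : ↥(CohB1.ProjSpaceOver 1 P) → ℤ := IntMult.interProd δ' (NP + 1) (DiagTorLib.single w) (DiagTorLib.single ζX)
  have hvζ : ∀ ζ, ζX ⤳ ζ ↔ v ⤳ π ζ := fun ζ => by
    rw [← DiagTorLib.mem_support_ptIdeal, hptX, Scheme.IdealSheafData.support_comap]
    exact DiagTorLib.mem_support_ptIdeal _ _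
  have hD : ∀ ζ, D ζ = if ζ ∈ G then P1InterLib.prodCoef v w ζ else 0 := by
    intro ζ
    show IntMult.interProd δ' (NP + 1) (DiagTorLib.single w) (DiagTorLib.single ζX) ζ = _
    rw [CycProjLib.interProd_single_single δ' ((NP : ℤ) + 1) (by rw [P1InterLib.delta_genericPoint δP hP δ' hδ', hNP]) w ζX ζ]
    have hiff : (w, ζX) ∈ {p : ↥(CohB1.ProjSpaceOver 1 P) × ↥(CohB1.ProjSpaceOver 1 P) |
        p.1 ⤳ ζ ∧ p.2 ⤳ ζ ∧ δ' p.1 + δ' p.2 - ((NP : ℤ) + 1) = δ' ζ} ↔ ζ ∈ G := by
      rw [hG, Set.mem_setOf_eq]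
      simp only [hvζ, show δ' w = (r : ℤ) + 1 from hr, hζ2]
      exact and_congr_right fun _ => and_congr_right fun _ => ⟨fun h => by omega, fun h => by omega⟩
    split_ifs with hζ
    · rw [Set.indicator_of_mem (hiff.2 hζ)]
      show IntMult.mult (IntMult.ptIdeal w) (IntMult.ptIdeal ζX) ζ = _
      rw [hptX]
      rfl
    · exact Set.indicator_of_notMem (fun h => hζ (hiff.1 h)) _
  let α : AlgebraicCycle (CohB1.ProjSpaceOver 1 P) ℤ := ⟨D, fun _ h => trivial, fun z _ => ⟨Set.univ, Filter.univ_mem,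
    G.finite_toSet.subset fun y hy => by
      by_contra h
      exact hy.2 (by rw [hD, if_neg fun h' => h (Finset.mem_coe.2 h')])⟩⟩
  have hα0 : ∀ ζ, α ζ ≠ 0 → ζ ∈ G := fun ζ h => by_contra fun h' => h (by rw [show α ζ = D ζ from rfl, hD, if_neg h'])
  have hαk : α ∈ Cyc.Zk (CohB1.ProjSpaceOver 1 P) δ' (k + 1) := fun ζ hd => by
    by_contra h
    exact hd ((hG ζ).1 (hα0 ζ h)).2.2
  have hnot : ∀ ζ, α ζ ≠ 0 → ζ ∉ Set.range (P1.sect P 0) := by
    rintro _ h ⟨y, rfl⟩
    obtain ⟨h1, h2', h3'⟩ := (hG _).1 (hα0 _ h)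
    have := (P1InterLib.bound_top δP hP NP δ' hδ' n r k rfl v hn w hr 0 hwi hprop h2' h1
      (x := y) specializes_rfl).2 ⟨y, rfl⟩
    omega
  have hB' : ⇑B = IntMult.interProd δ' ((NP : ℤ) + 1) ⇑α (DiagTorLib.single (P1.sect P 0 (genericPoint P))) := hB
  funext x
  rw [P1InterLib.map_toBase_apply δP δ' hδ' B (fun p hp => Or.inl (by
      by_contra hp'
      exact hp (by rw [hB', P1InterLib.interProd_off δ' NP ⇑α 0 p hp']))) x, hB',
    P1InterLib.interProd_off δ' NP ⇑α 0 (P1.sect P 1 x) (fun h => CycP1Lib.not_mem_both (i := 0) h ⟨x, rfl⟩), add_zero,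
    P1InterLib.interProd_sect (fun z => inferInstance) δP hP δ' hδ' NP hNP k α hαk 0 hnot G hα0 x,
    DiagTorLib.interProd_comm]
  refine Eq.trans ?_ (P1InterLib.interProd_fibre fP δP hP hδP NP hNP δ' hδ' n r k rfl v hn w hr 0 hwi hprop G
      (fun ζ h1 h2' h3' _ => (hG ζ).2 ⟨h3', h2', h1⟩)
      (fun ζ h => ⟨((hG ζ).1 h).2.2, ((hG ζ).1 h).2.1, ((hG ζ).1 h).1⟩) x).symm
  refine Finset.sum_congr rfl fun ζ hζ => ?_
  rw [show α ζ = D ζ from rfl, hD, if_pos hζ]

end Groth.Agent.S6494
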