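import Groth.Statements.S6495
import Mathlib
import Groth.Agent.CycLimLib.Basic
-- import your own Groth.Agent.* helpers here

set_option autoImplicit false
universe u
open CategoryTheory AlgebraicGeometry
open Cyc

namespace Groth.Agent.S6495

/-- Surjectivity of colim Z_k(X_i) → Z_k(X'): every k-cycle α' on the limit X' is g_i^*α for some i and
some k-cycle α on X_i, where g_i : X' → X_i is the projection and g_i^* the shift-0 base-change
pullback on coefficient functions. Setting: a directed inverse system (X_i) of quasi-compact schemes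
with affine flat transition morphisms and limit X' (a limit cone), each X_i and X' carrying a
dimension function with Cyc.IsSetup, and every transition map and every projection X' → X_i shifting
the dimension functions by c = 0 at generic points of fibres, so that the base-change pullbacks g^*
are Cyc.pullFun with shift 0. (The published statement takes X_i and X′ to be the base changes of
one quasi-compact scheme of finite type over a base S along S_i → S and lim S_i → S; this row allows
any such inverse system.) -/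
theorem result (I : Type u) [Preorder I] [IsDirected I (fun a b => a ≤ b)] [Nonempty I] (D : Iᵒᵖ ⥤ Scheme.{u}) (c : Limits.Cone D) (hc : Limits.IsLimit c) (haff : ∀ (i j : Iᵒᵖ) (f : i ⟶ j), IsAffineHom (D.map f)) (hflat : ∀ (i j : Iᵒᵖ) (f : i ⟶ j), Flat (D.map f)) (hqc : ∀ i, CompactSpace ↥(D.obj i)) (δ : (i : Iᵒᵖ) → ↥(D.obj i) → ℤ) (δ' : ↥c.pt → ℤ) (hset : ∀ i, Cyc.IsSetup (D.obj i) (δ i)) (hset' : Cyc.IsSetup c.pt δ') (hshift : ∀ (i j : Iᵒᵖ) (f : i ⟶ j) (x : ↥(D.obj i)), (∀ y, D.map f y = D.map f x → y ⤳ x → y = x) → δ i x = δ j (D.map f x)) (hflat' : ∀ i, Flat (c.π.app i)) (hshift' : ∀ (i : Iᵒᵖ) (x : ↥c.pt), (∀ y, c.π.app i y = c.π.app i x → y ⤳ x → y = x) → δ' x = δ i (c.π.app i x)) (k : ℤ) (α' : AlgebraicCycle c.pt ℤ) (hα' : α' ∈ Cyc.Zk c.pt δ' k) : ∃ (i : Iᵒᵖ) (α : AlgebraicCycle (D.obj i) ℤ), α ∈ Cyc.Zk (D.obj i) (δ i) k ∧ Cyc.pullFun (c.π.app i) δ' (δ i) 0 ⇑α = ⇑α' := by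
  classical
  haveI : ∀ {i j : Iᵒᵖ} (f : i ⟶ j), IsAffineHom (D.map f) := fun f => haff _ _ f
  haveI := hqc
  haveI : IsLocallyNoetherian c.pt := hset'.1
  haveI := hflat'
  haveI : ∀ i, IsLocallyNoetherian (((Functor.const Iᵒᵖ).obj c.pt).obj i) := fun _ => hset'.1
  haveI : CompactSpace c.pt := Scheme.compactSpace_of_isLimit D c hc
  have hfin := CycLimLib.support_finite α'
  obtain ⟨i₀⟩ : Nonempty Iᵒᵖ := inferInstance
  choose j₁ φ₁ h₁ using fun x => CycLimLib.exists_stage_point D c hc i₀ x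
  choose j₂ φ₂ h₂ using fun x => CycLimLib.exists_stage_ideal D c hc i₀ x
  obtain ⟨i, hi⟩ := IsCofiltered.inf_objs_exists (insert i₀ (hfin.toFinset.image j₁ ∪ hfin.toFinset.image j₂))
  have hspec : ∀ x, α' x ≠ 0 → ∀ z, c.π.app i x ⤳ c.π.app i z → x ⤳ z := fun x hx z hz => by
    refine h₁ x z ?_
    obtain ⟨φ⟩ := hi (Finset.mem_insert_of_mem (Finset.mem_union_left _
      (Finset.mem_image_of_mem j₁ (hfin.mem_toFinset.2 hx))))
    rw [← RichLib.LimTop.π_map_apply D c φ x, ← RichLib.LimTop.π_map_apply D c φ z]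
    exact hz.map (D.map φ).continuous
  have hideal : ∀ x, α' x ≠ 0 → CycLimLib.fibIdeal (c.π.app i) x = IsLocalRing.maximalIdeal _ := fun x hx => by
    obtain ⟨φ⟩ := hi (Finset.mem_insert_of_mem (Finset.mem_union_right _
      (Finset.mem_image_of_mem j₂ (hfin.mem_toFinset.2 hx))))
    exact le_antisymm (CycLimLib.fibIdeal_le _ _) ((h₂ x).trans (CycLimLib.fibIdeal_mono D c hc φ x))
  have hgen : ∀ x, α' x ≠ 0 → CycLimLib.IsGen (c.π.app i) x := fun x hx y hy hyx =>
    (hyx.antisymm (hspec x hx y (specializes_of_eq hy.symm))).eq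
  let g : ↥(D.obj i) → ℤ := fun y => ∑ x ∈ hfin.toFinset.filter (fun x => c.π.app i x = y), α' x
  have hg : Function.support g ⊆ (c.π.app i) '' Function.support ⇑α' := fun y hy => by
    obtain ⟨x, hx, -⟩ := Finset.exists_ne_zero_of_sum_ne_zero hy
    exact ⟨x, hfin.mem_toFinset.1 (Finset.mem_filter.1 hx).1, (Finset.mem_filter.1 hx).2⟩
  let α : AlgebraicCycle (D.obj i) ℤ :=
    ⟨g, Set.subset_univ _, fun z _ => ⟨Set.univ, Filter.univ_mem,
      ((hfin.image _).subset hg).subset Set.inter_subset_right⟩⟩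
  refine ⟨i, α, fun y hy => ?_, funext fun x => ?_⟩
  · by_contra hne
    obtain ⟨x, hx, rfl⟩ := hg hne
    exact hy (((hshift' i x (hgen x hx)).symm).trans (Classical.not_not.1 fun h => hx (hα' x h)))
  rw [Cyc.pullFun, add_zero]
  split_ifs with hd
  · have hG : CycLimLib.IsGen (c.π.app i) x :=
      CycLimLib.isGen_of_delta (c.π.app i) δ' (δ i) hset'.2.2 (hshift' i) hd
    show (∑ x' ∈ hfin.toFinset.filter (fun x' => c.π.app i x' = c.π.app i x), α' x') * _ = α' x
    by_cases hx : α' x = 0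
    · rw [Finset.sum_eq_zero, zero_mul, hx]
      intro x' hx'
      obtain ⟨hx'1, hx'2⟩ := Finset.mem_filter.1 hx'
      have hs := hfin.mem_toFinset.1 hx'1
      have he : x' = x := hG x' hx'2 (hspec x' hs x (specializes_of_eq hx'2))
      exact absurd (he ▸ hx : α' x' = 0) hs
    · rw [Finset.sum_eq_single x]
      · haveI : IsSimpleModule ((((Functor.const Iᵒᵖ).obj c.pt).obj i).presheaf.stalk x)
            (_ ⧸ CycLimLib.fibIdeal (c.π.app i) x) :=
          isSimpleModule_iff_isCoatom.2 (by rw [hideal x hx]; exact (IsLocalRing.maximalIdeal.isMaximal _).out)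
        have h1 : Module.length ((((Functor.const Iᵒᵖ).obj c.pt).obj i).presheaf.stalk x)
            (_ ⧸ CycLimLib.fibIdeal (c.π.app i) x) = 1 := Module.length_eq_one _ _
        erw [h1]
        simp
      · intro x' hx' hne
        obtain ⟨hx'1, hx'2⟩ := Finset.mem_filter.1 hx'
        exact absurd (hG x' hx'2 (hspec x' (hfin.mem_toFinset.1 hx'1) x (specializes_of_eq hx'2))) hne
      · exact fun h => (h (Finset.mem_filter.2 ⟨hfin.mem_toFinset.2 hx, rfl⟩)).elim
  · by_contra hne
    exact hd (hshift' i x (hgen x (Ne.symm hne)))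

end Groth.Agent.S6495
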