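import Groth.Statements.S6497
import Mathlib
import Groth.Agent.S6496
import Groth.Agent.CycLimLib.RatDesc
import Groth.Agent.CycCommLib.RatEquiv
-- import your own Groth.Agent.* helpers here

set_option autoImplicit false
universe u
open CategoryTheory AlgebraicGeometry
open Cyc

namespace Groth.Agent.S6497

/-- Injectivity of colim CH_k(X_i) → CH_k(X'): if α ∈ Z_k(X_i) and g_i^*α ∼_rat 0 on X' (for a cycle
with the pulled-back coefficients), then for some stage X_j above X_i the pullback of α to X_j is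
∼_rat 0. Setting: a directed inverse system (X_i) of quasi-compact schemes with affine flat
transition morphisms and limit X' (a limit cone), each X_i and X' carrying a dimension function with
Cyc.IsSetup, and every transition map and every projection X' → X_i shifting the dimension functions
by c = 0 at generic points of fibres, so that the base-change pullbacks g^* are Cyc.pullFun with
shift 0. (The published statement takes X_i and X′ to be the base changes of one quasi-compact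
scheme of finite type over a base S along S_i → S and lim S_i → S; this row allows any such inverse
system.) -/
theorem result (I : Type u) [Preorder I] [IsDirected I (fun a b => a ≤ b)] [Nonempty I] (D : Iᵒᵖ ⥤ Scheme.{u}) (c : Limits.Cone D) (hc : Limits.IsLimit c) (haff : ∀ (i j : Iᵒᵖ) (f : i ⟶ j), IsAffineHom (D.map f)) (hflat : ∀ (i j : Iᵒᵖ) (f : i ⟶ j), Flat (D.map f)) (hqc : ∀ i, CompactSpace ↥(D.obj i)) (δ : (i : Iᵒᵖ) → ↥(D.obj i) → ℤ) (δ' : ↥c.pt → ℤ) (hset : ∀ i, Cyc.IsSetup (D.obj i) (δ i)) (hset' : Cyc.IsSetup c.pt δ') (hshift : ∀ (i j : Iᵒᵖ) (f : i ⟶ j) (x : ↥(D.obj i)), (∀ y, D.map f y = D.map f x → y ⤳ x → y = x) → δ i x = δ j (D.map f x)) (hflat' : ∀ i, Flat (c.π.app i)) (hshift' : ∀ (i : Iᵒᵖ) (x : ↥c.pt), (∀ y, c.π.app i y = c.π.app i x → y ⤳ x → y = x) → δ' x = δ i (c.π.app i x)) (k : ℤ) (i : Iᵒᵖ) (α : AlgebraicCycle (D.obj i) ℤ) (hα : α ∈ Cyc.Zk (D.obj i) (δ i) k) (α' : AlgebraicCycle c.pt ℤ) (hα' : ⇑α' = Cyc.pullFun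 (c.π.app i) δ' (δ i) 0 ⇑α) (h0 : Cyc.RatEquivZero δ' k α') : ∃ (j : Iᵒᵖ) (f : j ⟶ i) (αj : AlgebraicCycle (D.obj j) ℤ), ⇑αj = Cyc.pullFun (D.map f) (δ j) (δ i) 0 ⇑α ∧ Cyc.RatEquivZero (δ j) k αj := by
  classical
  haveI : ∀ {a b : Iᵒᵖ} (f : a ⟶ b), IsAffineHom (D.map f) := fun f => haff _ _ f
  haveI := hqc
  haveI : IsLocallyNoetherian c.pt := hset'.1
  haveI := hflat'
  haveI : ∀ a, IsLocallyNoetherian (((Functor.const Iᵒᵖ).obj c.pt).obj a) := fun _ => hset'.1
  haveI : ∀ a, IsLocallyNoetherian (D.obj a) := fun a => (hset a).1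
  haveI : ∀ {a b : Iᵒᵖ} (f : a ⟶ b), Flat (D.map f) := fun f => hflat _ _ f
  haveI : CompactSpace c.pt := Scheme.compactSpace_of_isLimit D c hc
  haveI : ∀ a, CompactSpace (((Functor.const Iᵒᵖ).obj c.pt).obj a) := fun _ => ‹_›
  obtain ⟨A, hA⟩ := CycSeqLib.Fam.exists_of_ratEquivZero h0
  haveI := CycLimLib.finite_fam_index A
  haveI : Fintype A.I := Fintype.ofFinite _
  choose j₁ φ₁ h₁ using fun n => CycLimLib.exists_stage_point D c hc i (A.ξ n)
  choose j₂ φ₂ h₂ using fun n => CycLimLib.exists_stage_ideal D c hc i (A.ξ n)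
  choose a ha using fun n => c.pt.residue_surjective (A.ξ n) (A.f n)
  choose j₃ φ₃ b hb using fun n => RichLib.LimStalk.exists_stalkMap_eq D c hc i (A.ξ n) (a n)
  obtain ⟨j, hj⟩ := IsCofiltered.inf_objs_exists
    (insert i (Finset.univ.image j₁ ∪ Finset.univ.image j₂ ∪ Finset.univ.image j₃))
  obtain ⟨φ⟩ := hj (Finset.mem_insert_self _ _)
  let π := c.π.app j
  have hspec : ∀ n z, π (A.ξ n) ⤳ π z → A.ξ n ⤳ z := fun n z hz => by
    obtain ⟨ψ⟩ := hj (Finset.mem_insert_of_mem (Finset.mem_union_left _ (Finset.mem_union_left _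
      (Finset.mem_image_of_mem j₁ (Finset.mem_univ n)))))
    refine h₁ n z ?_
    rw [← RichLib.LimTop.π_map_apply D c ψ (A.ξ n), ← RichLib.LimTop.π_map_apply D c ψ z]
    exact hz.map (D.map ψ).continuous
  have hideal : ∀ n, CycLimLib.fibIdeal π (A.ξ n) = IsLocalRing.maximalIdeal _ := fun n => by
    obtain ⟨ψ⟩ := hj (Finset.mem_insert_of_mem (Finset.mem_union_left _ (Finset.mem_union_right _
      (Finset.mem_image_of_mem j₂ (Finset.mem_univ n)))))
    exact le_antisymm (CycLimLib.fibIdeal_le _ _) ((h₂ n).trans (CycLimLib.fibIdeal_mono D c hc ψ (A.ξ n)))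
  have hgen : ∀ n, CycLimLib.IsGen π (A.ξ n) := fun n y hy hyx =>
    (hyx.antisymm (hspec n y (specializes_of_eq hy.symm))).eq
  have hfun : ∀ n, ∃ g : (D.obj j).residueField (π (A.ξ n)), π.residueFieldMap (A.ξ n) g = A.f n := fun n => by
    obtain ⟨ψ⟩ := hj (Finset.mem_insert_of_mem (Finset.mem_union_right _
      (Finset.mem_image_of_mem j₃ (Finset.mem_univ n))))
    have h3 : (c.π.app (j₃ n)).residueFieldMap (A.ξ n) ((D.obj (j₃ n)).residue _ (b n)) = A.f n := by
      rw [← ha n, ← hb n]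
      exact congrArg (fun q => q.hom (b n)) (Scheme.residue_residueFieldMap (c.π.app (j₃ n)) (A.ξ n))
    have e : D.map ψ (π (A.ξ n)) = c.π.app (j₃ n) (A.ξ n) := RichLib.LimTop.π_map_apply D c ψ (A.ξ n)
    refine ⟨CycDivLib.gpull (D.map ψ) e ((D.obj (j₃ n)).residue _ (b n)), ?_⟩
    rw [← CycPushLib.gpull_comp π (D.map ψ) e e, CycPushLib.gpull_congr (c.w ψ) e rfl, CycPushLib.gpull_rfl, h3]
  choose g hg using hfun
  have hg0 : ∀ n, g n ≠ 0 := fun n h => A.ne_zero n (by rw [← hg n, h, map_zero])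
  let B : CycSeqLib.Fam (D.obj j) (δ j) k :=
    { I := A.I
      ξ := fun n => π (A.ξ n)
      f := g
      delta := fun n => (hshift' j (A.ξ n) (hgen n)).symm.trans (A.delta n)
      ne_zero := hg0
      locFin := fun x => ⟨Set.univ, isOpen_univ, trivial, Set.toFinite _⟩ }
  have hsh : ∀ {p q : Iᵒᵖ} (f : p ⟶ q), ∀ x, CycLimLib.IsGen (D.map f) x → δ p x = δ q (D.map f x) :=
    fun f x hx => hshift _ _ f x hx
  let αj := CycC1Lib.pullCyc (D.map φ) (hset j) (r := 0) (fun x hx => by rw [add_zero]; exact hsh φ x hx) α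
  have hαjZ : αj ∈ Cyc.Zk (D.obj j) (δ j) k := by
    have := CycC1Lib.pullCyc_mem_Zk (D.map φ) (hset j) (r := 0) (fun x hx => by rw [add_zero]; exact hsh φ x hx) hα
    rwa [add_zero] at this
  have hB : Cyc.pullFun π δ' (δ j) 0 B.sum = fun x => A.sum x := by
    funext x
    have hlin : Cyc.pullFun π δ' (δ j) 0 B.sum x =
        ∑ n : A.I, Cyc.pullFun π δ' (δ j) 0 (Cyc.divFun (δ j) (π (A.ξ n)) (g n)) x := by
      have hBsum : ∀ y, B.sum y = ∑ n : A.I, Cyc.divFun (δ j) (π (A.ξ n)) (g n) y :=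
        fun y => finsum_eq_sum_of_fintype _
      simp only [Cyc.pullFun]
      split_ifs
      · rw [hBsum, Finset.sum_mul]
      · rw [Finset.sum_const_zero]
    rw [hlin]
    show _ = ∑ᶠ n, Cyc.divFun δ' (A.ξ n) (A.f n) x
    rw [finsum_eq_sum_of_fintype]
    refine Finset.sum_congr rfl fun n _ => ?_
    refine (CycDivLib.pullFun_divFun_of_gen π hset' (hset j) (r := 0) (fun z hz => by rw [add_zero]; exact hshift' j z hz)
      (π (A.ξ n)) (hg0 n) x).trans ?_
    have hone : Module.length (c.pt.presheaf.stalk (A.ξ n)) (c.pt.presheaf.stalk (A.ξ n) ⧸ CycLimLib.fibIdeal π (A.ξ n)) = 1 := by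
      haveI : IsSimpleModule (c.pt.presheaf.stalk (A.ξ n)) (c.pt.presheaf.stalk (A.ξ n) ⧸ CycLimLib.fibIdeal π (A.ξ n)) :=
        isSimpleModule_iff_isCoatom.2 (by rw [hideal]; exact (IsLocalRing.maximalIdeal.isMaximal _).out)
      exact Module.length_eq_one _ _
    refine (finsum_eq_single _ ⟨A.ξ n, hgen n, rfl⟩ ?_).trans ?_
    · intro z hz
      exact absurd (Subtype.ext (z.2.1 _ z.2.2.symm (hspec n z.1 (specializes_of_eq z.2.2.symm))).symm) hz
    erw [hone]
    rw [ENat.toNat_one, Nat.cast_one, one_mul, CycPushLib.gpull_rfl, hg]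
  have hπ : ∀ a, Cyc.pullFun π δ' (δ j) 0 (Cyc.pullFun (D.map φ) (δ j) (δ i) 0 a) = Cyc.pullFun (c.π.app i) δ' (δ i) 0 a :=
    CycLimLib.pullFun_comp_zero π (D.map φ) (c.π.app i) (c.w φ) hset'.2.2 (hset j).2.2 (hshift' j) (hsh φ) (hshift' i)
  let β := αj - B.cyc (hset j)
  have hβZ : β ∈ Cyc.Zk (D.obj j) (δ j) k := fun x hx => by
    show αj x - B.cyc (hset j) x = 0
    rw [hαjZ x hx, B.cyc_mem_Zk (hset j) x hx, sub_zero]
  have hβ0 : Cyc.pullFun π δ' (δ j) 0 ⇑β = 0 := by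
    funext x
    show Cyc.pullFun π δ' (δ j) 0 (fun y => Cyc.pullFun (D.map φ) (δ j) (δ i) 0 ⇑α y - B.sum y) x = 0
    have hlin : Cyc.pullFun π δ' (δ j) 0 (fun y => Cyc.pullFun (D.map φ) (δ j) (δ i) 0 ⇑α y - B.sum y) x =
        Cyc.pullFun π δ' (δ j) 0 (Cyc.pullFun (D.map φ) (δ j) (δ i) 0 ⇑α) x - Cyc.pullFun π δ' (δ j) 0 B.sum x := by
      simp only [Cyc.pullFun]
      split_ifs <;> ring
    rw [hlin, hπ, ← hα', hB]
    show α' x - A.sum x = 0
    rw [hA x, sub_self]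
  obtain ⟨j', f', hf'⟩ := Groth.Agent.S6496.result I D c hc haff hflat hqc δ δ' hset hset' hshift hflat' hshift' k j β
    hβZ hβ0
  let αj' := CycC1Lib.pullCyc (D.map (f' ≫ φ)) (hset j') (r := 0) (fun x hx => by rw [add_zero]; exact hsh _ x hx) α
  refine ⟨j', f' ≫ φ, αj', rfl, CycLimLib.ratEquivZero_pull (D.map f') (hset j') (hset j) (hsh f') B ?_⟩
  funext x
  show Cyc.pullFun (D.map (f' ≫ φ)) (δ j') (δ i) 0 ⇑α x = _
  rw [← CycLimLib.pullFun_comp_zero (D.map f') (D.map φ) (D.map (f' ≫ φ)) (D.map_comp f' φ).symm (hset j').2.2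
    (hset j).2.2 (hsh f') (hsh φ) (hsh (f' ≫ φ))]
  have h := congrFun hf' x
  simp only [Cyc.pullFun, Pi.zero_apply] at h ⊢
  split_ifs at h ⊢ with hc1
  all_goals first
    | rfl
    | (rw [show (β : ↥(D.obj j) → ℤ) (D.map f' x) = Cyc.pullFun (D.map φ) (δ j) (δ i) 0 ⇑α (D.map f' x) - B.sum (D.map f' x)
        from rfl] at h
       simp only [Cyc.pullFun] at h
       rw [sub_mul] at h
       split_ifs at h ⊢ <;> linarith)

end Groth.Agent.S6497
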