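import Groth.Statements.S6499
import Mathlib
import Groth.Agent.QCohLib.Push
import Groth.Agent.QCohLib.Support
import Groth.Agent.WeightLib.Pts
-- import your own Groth.Agent.* helpers here

set_option autoImplicit false
universe u
open CategoryTheory AlgebraicGeometry
open Cyc

namespace Groth.Agent.S6499

/-- Suppose X and Y are schemes locally of finite type over the base, and π : X → Y is a morphism
between them that is finite. Then π_* sends Coh_{≤k}(X) into Coh_{≤k}(Y): for F coherent on X with
dim_δ Supp(F) ≤ k, the direct image π_*F is coherent with dim_δ Supp(π_*F) ≤ k (Cyc.CohLe).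
(Exactness of π_* and the commutative diagram with the cycle maps are not restated; the latter is
the existing compatibility of [−]_k with π_*.) Here a pair (X, δ) with Cyc.IsSetup plays the role of
a scheme locally of finite type over the base (S, δ) (X locally Noetherian with universally catenary
local rings, δ a dimension function), and Cyc.DeltaCompat records that the dimension function
upstairs is the induced one. -/
theorem result (X Y : Scheme.{u}) (δX : X → ℤ) (δY : Y → ℤ) (hX : Cyc.IsSetup X δX) (hY : Cyc.IsSetup Y δY) (π : X ⟶ Y) [IsFinite π] (hδ : Cyc.DeltaCompat π δX δY) (k : ℤ) (F : X.Modules) (hF : Cyc.CohLe δX k F) : Cyc.CohLe δY k ((Coh.push π).obj F) := by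
  haveI := hX.1
  haveI := hY.1
  refine ⟨QCohLib.isCoh_push_finite π F hF.1, fun y hy => ?_⟩
  obtain ⟨x, hx, rfl⟩ : y ∈ π '' CohB1.support F := by
    by_contra hn
    refine not_subsingleton_iff_nontrivial.2 hy ((QCohLib.subsingleton_stalk_iff _ y).mpr fun W hyW t => ?_)
    let O : Y.Opens := ⟨(π '' CohB1.support F)ᶜ,
      (π.isClosedMap _ (QCohLib.isClosed_support F hF.1.2)).isOpen_compl⟩
    refine ⟨W ⊓ O, inf_le_left, ⟨hyW, hn⟩, ?_⟩
    refine TopCat.Presheaf.section_ext ((QCohLib.toAbF X).obj F : TopCat.Sheaf AddCommGrpCat _)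
      (π ⁻¹ᵁ (W ⊓ O)) _ _ fun q hq => ?_
    exact (not_not.mp fun h => hq.2 ⟨q, h, rfl⟩ : Subsingleton (F.presheaf.stalk q)).elim _ _
  obtain ⟨n, -, hn⟩ := hδ x
  have h0 : n = 0 := by
    obtain ⟨m, hm, hm'⟩ := hδ x
    letI := (π.residueFieldMap x).hom.toAlgebra
    haveI : Module.Finite (Y.residueField (π x)) (X.residueField x) := RingHom.finite_algebraMap.mp
      (WeightLib.finite_residueFieldMap π x)
    rw [trdeg_eq_zero] at hm
    have : m = 0 := by exact_mod_cast hm.symm
    omega
  have := hF.2 x (not_subsingleton_iff_nontrivial.1 hx)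
  omega

end Groth.Agent.S6499
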