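import Groth.Statements.S6503
import Groth.Agent.DiagLib.Smooth

set_option autoImplicit false
universe u
open TensorProduct
open LCI

namespace Groth.Agent.S6503

/-- Suppose A and B are Noetherian local rings and A → B is a local homomorphism making B a flat
A-algebra that is essentially of finite type, and regard B as an algebra over B ⊗_A B via the
multiplication map. If B has finite Tor-dimension over B ⊗_A B (the diagonal is a perfect ring map),
then there are a smooth A-algebra C and a prime ideal q of C such that B is an A-algebra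
localization of C at q. -/
theorem result {A B : Type u} [CommRing A] [CommRing B]
    [Algebra A B] [IsNoetherianRing A] [IsNoetherianRing B] [IsLocalRing A] [IsLocalRing B]
    [IsLocalHom (algebraMap A B)] [Module.Flat A B] [Algebra.EssFiniteType A B]
    [Algebra (B ⊗[A] B) B]
    (hmul : ∀ x y : B, algebraMap (B ⊗[A] B) B (x ⊗ₜ[A] y) = x * y)
    (h : DRing.HasFiniteTorDim (B ⊗[A] B) B) :
    ∃ (C : Type u) (_ : CommRing C) (_ : Algebra A C) (_ : Algebra C B) (_ : IsScalarTower A C B)
      (q : Ideal C) (_ : q.IsPrime), Algebra.Smooth A C ∧ IsLocalization.AtPrime B q := by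
  obtain ⟨n, hn⟩ := DiagLib.exists_FD_of_hasFiniteTorDim h
  haveI := DiagLib.formallySmooth_local hmul hn
  let C := Algebra.EssFiniteType.subalgebra A B
  let q := (IsLocalRing.maximalIdeal B).comap (algebraMap C B)
  haveI hAt := DiagLib.atPrime_subalgebra (R := A) (S := B)
  haveI : Algebra.FinitePresentation A C := Algebra.FinitePresentation.of_finiteType.mp inferInstance
  haveI : Algebra.IsSmoothAt A q :=
    Algebra.FormallySmooth.of_equiv
      ((IsLocalization.algEquiv q.primeCompl (Localization.AtPrime q) B).symm.restrictScalars A)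
  obtain ⟨g, hg, hsm⟩ := Algebra.IsSmoothAt.exists_notMem_smooth A q
  let Cg := Localization.Away g
  let ψ : Cg →ₐ[C] B := IsLocalization.liftAlgHom (M := Submonoid.powers g) (f := Algebra.ofId C B) (by
    rintro ⟨_, k, rfl⟩
    have : IsUnit (algebraMap C B g) := IsLocalization.map_units B (⟨g, hg⟩ : q.primeCompl)
    simpa using this.pow k)
  letI : Algebra Cg B := ψ.toRingHom.toAlgebra
  haveI : IsScalarTower C Cg B := IsScalarTower.of_algebraMap_eq fun c => (ψ.commutes c).symm
  haveI : IsScalarTower A Cg B := IsScalarTower.to₁₃₄ A C Cg B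
  let q' := (IsLocalRing.maximalIdeal B).comap (algebraMap Cg B)
  refine ⟨Cg, inferInstance, inferInstance, inferInstance, inferInstance, q', inferInstance, hsm, ?_⟩
  haveI : IsLocalization (Algebra.algebraMapSubmonoid Cg q.primeCompl) B :=
    IsLocalization.isLocalization_of_submonoid_le Cg B (Submonoid.powers g) q.primeCompl (by
      rintro _ ⟨k, rfl⟩
      exact fun h => hg (Ideal.IsPrime.mem_of_pow_mem inferInstance k h))
  refine IsLocalization.of_le (Algebra.algebraMapSubmonoid Cg q.primeCompl) q'.primeCompl ?_ ?_
  · rintro _ ⟨c, hc, rfl⟩ hmem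
    refine hc ?_
    show algebraMap C B c ∈ IsLocalRing.maximalIdeal B
    rw [IsScalarTower.algebraMap_apply C Cg B]
    exact hmem
  · intro x hx
    exact IsLocalRing.notMem_maximalIdeal.1 hx

end Groth.Agent.S6503
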