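import Groth.Statements.S6507
import Groth.Agent.HypercovLib.Refine
import Groth.Agent.HypercovLib.Cone

set_option autoImplicit false
universe u
open CategoryTheory
open Hyper

namespace Groth.Agent.S6507

open Opposite CategoryTheory.Limits in
/-- With presheaves taken on the localized site C/X: let C be a small site with fibre products, X an
object, K a hypercovering of X and n ≥ 0. Let u : P → F(K_n) be a morphism of presheaves of sets on
C/X, where F(K_n) is the coproduct of the presheaves represented by the members of the family K_n,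
and assume u is locally surjective. Then there exist a hypercovering L of X and a morphism f : L → K
such that F(f_n) : F(L_n) → F(K_n) factors through u. -/
theorem result {C : Type u} [SmallCategory C] [HasPullbacks C]
    (J : GrothendieckTopology C) (X : C)
    [∀ (n : ℕ) (F : (SimplexCategory.Truncated n)ᵒᵖ ⥤ Limits.FormalCoproduct.{u} (Over X)),
      (SimplexCategory.Truncated.inclusion n).op.HasRightKanExtension F]
    (K : SimplicialObject (FormalCoproduct.{u} (Over X))) (hK : Hyper.IsHypercovering J X K) (n : ℕ)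
    (P : (Over X)ᵒᵖ ⥤ Type u) (u : P ⟶ FormalCoproduct.yoneda.obj (K.obj (op (SimplexCategory.mk n))))
    (hu : Presheaf.IsLocallySurjective (J.over X) u) :
    ∃ (L : SimplicialObject (FormalCoproduct.{u} (Over X))) (f : L ⟶ K)
      (g : FormalCoproduct.yoneda.obj (L.obj (op (SimplexCategory.mk n))) ⟶ P),
      Hyper.IsHypercovering J X L ∧ g ≫ u = FormalCoproduct.yoneda.map (f.app (op (SimplexCategory.mk n))) := by
  classical
  let A := K.obj (op (SimplexCategory.mk n))
  let Z : FormalCoproduct.{u} (Over X) := ⟨Σ V : Over X, (P.obj (op V) : Type u), fun p => p.1⟩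
  have hpt : ∀ p : Z.I, ∃ m : (FormalCoproduct.incl (Over X)).obj p.1 ⟶ A, HypercovLib.ofHom A m = u.app (op p.1) p.2 :=
    fun p => HypercovLib.ofHom_surjective A p.1 _
  choose m hm using hpt
  let uZ : Z ⟶ A := { f := fun p => (m p).f PUnit.unit, φ := fun p => (m p).φ PUnit.unit }
  let gP : FormalCoproduct.yoneda.obj Z ⟶ P := Sigma.desc fun p => yonedaEquiv.symm (p.2 : P.obj (op (Z.obj p)))
  have hgu : gP ≫ u = FormalCoproduct.yoneda.map uZ := by
    refine Sigma.hom_ext (f := fun p : Z.I => yoneda.obj (Z.obj p)) _ _ fun p => ?_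
    refine yonedaEquiv.injective ?_
    refine Eq.trans ?_ (HypercovLib.map_el uZ p (𝟙 _)).symm
    show ((Sigma.ι (fun p : Z.I => yoneda.obj (Z.obj p)) p ≫ Sigma.desc _) ≫ u).app (op (Z.obj p)) (𝟙 _) = _
    rw [Sigma.ι_desc]
    show u.app _ (P.map (𝟙 (Z.obj p)).op p.2) = _
    rw [op_id, P.map_id]
    refine (hm p).symm.trans ?_
    show HypercovLib.el A _ _ = HypercovLib.el A _ _
    rw [Category.id_comp]
  have hcov : Hyper.IsSRCovering (J.over X) uZ := by
    refine (HypercovLib.locLift_iff _ _).1 fun U b => ⟨_, Presheaf.imageSieve_mem (J.over X) u (U := op U)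
      (HypercovLib.ofHom A b), fun V g hg => ?_⟩
    obtain ⟨t, ht⟩ := hg
    let a : (FormalCoproduct.incl (Over X)).obj V ⟶ Z := { f := fun _ => ⟨V, t⟩, φ := fun _ => 𝟙 V }
    refine ⟨a, HypercovLib.ofHom_injective A V ?_⟩
    refine Eq.trans ?_ ((hm ⟨V, t⟩).trans (ht.trans (HypercovLib.ofHom_restrict A g b)))
    show HypercovLib.el A _ _ = HypercovLib.el A _ _
    exact congrArg (HypercovLib.el A _) (Category.id_comp _)
  refine ⟨HypercovLib.refineObj K uZ, HypercovLib.refineFst K uZ,
    FormalCoproduct.yoneda.map (HypercovLib.refineVal K uZ (𝟙 _)) ≫ gP,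
    HypercovLib.refine_isHypercovering K uZ J hK hcov, ?_⟩
  rw [Category.assoc, hgu, ← Functor.map_comp, HypercovLib.refineVal_id_comp]

end Groth.Agent.S6507
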