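import Groth.Statements.S6511
import Groth.Agent.DCohRestrLib.MV
import Groth.Agent.DerLib.KInjTriangulated
import Groth.Agent.KFlatLib.PullKFlat

set_option autoImplicit false
set_option backward.isDefEq.respectTransparency false
set_option backward.isDefEq.respectTransparency.types false
universe u
open CategoryTheory
attribute [local instance] HasDerivedCategory.standard
open DCoh

namespace Groth.Agent.S6511

open AlgebraicGeometry CategoryTheory.Limits in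
/-- Let f : X → Y be a morphism of schemes and X = U ∪ V with U, V open; write a, b, c for the
restrictions of f to U, V, U ∩ V. For every E ∈ D(O_X) there is a distinguished triangle Rf_*E →
Ra_*(E|_U) ⊕ Rb_*(E|_V) → Rc_*(E|_{U∩V}) → Rf_*E[1] in D(O_Y). The objects are the stated ones; the
morphisms are only asserted to exist. (The published statement is for ringed spaces; this row is for
schemes.) -/
theorem result {X Y : Scheme.{u}} (f : X ⟶ Y) (U V : X.Opens) (hUV : U ⊔ V = ⊤)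
    [DCoh.HasRpush f] [DCoh.HasRpush (U.ι ≫ f)] [DCoh.HasRpush (V.ι ≫ f)] [DCoh.HasRpush ((U ⊓ V).ι ≫ f)]
    [PreservesFiniteLimits (Scheme.Modules.restrictFunctor U.ι)]
    [PreservesFiniteLimits (Scheme.Modules.restrictFunctor V.ι)]
    [PreservesFiniteLimits (Scheme.Modules.restrictFunctor (U ⊓ V).ι)] (E : DCoh.D X) :
    ∃ (a : (DCoh.Rpush f).obj E ⟶ ((DCoh.Rpush (U.ι ≫ f)).obj ((DCoh.restrictD U.ι).obj E) ⊞ (DCoh.Rpush (V.ι ≫ f)).obj ((DCoh.restrictD V.ι).obj E))) (b : ((DCoh.Rpush (U.ι ≫ f)).obj ((DCoh.restrictD U.ι).obj E) ⊞ (DCoh.Rpush (V.ι ≫ f)).obj ((DCoh.restrictD V.ι).obj E)) ⟶ (DCoh.Rpush ((U ⊓ V).ι ≫ f)).obj ((DCoh.restrictD (U ⊓ V).ι).obj E)) (c : (DCoh.Rpush ((U ⊓ V).ι ≫ f)).obj ((DCoh.restrictD (U ⊓ V).ι).obj E) ⟶ ((DCoh.Rpush f).obj E)⟦(1 : ℤ)⟧),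
      Pretriangulated.Triangle.mk a b c ∈ Pretriangulated.distinguishedTriangles := by
  haveI : DCoh.HasRpush U.ι := Groth.Agent.DCohRestrLib.hasRpush _
  haveI : DCoh.HasRpush V.ι := Groth.Agent.DCohRestrLib.hasRpush _
  haveI : DCoh.HasRpush (U ⊓ V).ι := Groth.Agent.DCohRestrLib.hasRpush _
  obtain ⟨T, hT, ⟨e₁⟩, ⟨e₂⟩, ⟨e₃⟩⟩ := Groth.Agent.DCohRestrLib.exists_mv_push U V hUV E
  haveI := KFlatLib.hasLpull f
  haveI := KFlatLib.hasLpull (U.ι ≫ f)
  haveI := KFlatLib.hasLpull (V.ι ≫ f)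
  haveI := KFlatLib.hasLpull ((U ⊓ V).ι ≫ f)
  haveI := KFlatLib.hasLpull U.ι
  haveI := KFlatLib.hasLpull V.ι
  haveI := KFlatLib.hasLpull (U ⊓ V).ι
  obtain ⟨_, _⟩ := Groth.Agent.DerLib.KInjDerived.exists_isTriangulated_map KFlatLib.enoughKInj_modules
    (Scheme.Modules.pushforward f) (DCoh.Rpush f) (Groth.Agent.DCohRestrLib.pushUnit f)
  haveI : (DCoh.Rpush f).Additive := inferInstance
  haveI : PreservesBinaryBiproducts (DCoh.Rpush f) :=
    haveI : PreservesFiniteBiproducts (DCoh.Rpush f) := Functor.preservesFiniteBiproductsOfAdditive _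
    preservesBinaryBiproducts_of_preservesBiproducts _
  obtain ⟨c₁⟩ := KFlatLib.rpush_comp U.ι f
  obtain ⟨c₂⟩ := KFlatLib.rpush_comp V.ι f
  obtain ⟨c₃⟩ := KFlatLib.rpush_comp (U ⊓ V).ι f
  exact Groth.Agent.DCohRestrLib.exists_triangle_of_iso _ ((DCoh.Rpush f).map_distinguished T hT)
    ((DCoh.Rpush f).mapIso e₁)
    ((DCoh.Rpush f).mapIso e₂ ≪≫ (DCoh.Rpush f).mapBiprod _ _ ≪≫ biprod.mapIso (c₁.app _) (c₂.app _))
    ((DCoh.Rpush f).mapIso e₃ ≪≫ c₃.app _)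
end Groth.Agent.S6511
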