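import Groth.Statements.S6512
import Groth.Agent.DCohRestrLib.MV
import Groth.Agent.DerLib.KInjTriangulated
import Groth.Agent.KFlatLib.PullKFlat

set_option autoImplicit false
set_option backward.isDefEq.respectTransparency false
set_option backward.isDefEq.respectTransparency.types false
universe u
open CategoryTheory
attribute [local instance] HasDerivedCategory.standard
open DCoh

namespace Groth.Agent.S6512

open AlgebraicGeometry CategoryTheory.Limits in
/-- If a scheme X is the union of two opens U and V, then for every E ∈ D(O_X) there is a distinguished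
triangle RΓ(X, E) → RΓ(U, E) ⊕ RΓ(V, E) → RΓ(U ∩ V, E) → RΓ(X, E)[1] in D(Ab), where RΓ(U, E) means
RΓ(U, E|_U). The objects are the stated ones; the morphisms are only asserted to exist (the long
exact cohomology sequence follows by applying the homological functor H^0). (The published statement
is for ringed spaces; this row is for schemes.) -/
theorem result {X : Scheme.{u}} (U V : X.Opens) (hUV : U ⊔ V = ⊤)
    [DCoh.HasRΓ X] [DCoh.HasRΓ (U : Scheme.{u})] [DCoh.HasRΓ (V : Scheme.{u})] [DCoh.HasRΓ (U ⊓ V : X.Opens)]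
    [PreservesFiniteLimits (Scheme.Modules.restrictFunctor U.ι)]
    [PreservesFiniteLimits (Scheme.Modules.restrictFunctor V.ι)]
    [PreservesFiniteLimits (Scheme.Modules.restrictFunctor (U ⊓ V).ι)] (E : DCoh.D X) :
    ∃ (a : (DCoh.RΓ X).obj E ⟶ ((DCoh.RΓ (U : Scheme.{u})).obj ((DCoh.restrictD U.ι).obj E) ⊞ (DCoh.RΓ (V : Scheme.{u})).obj ((DCoh.restrictD V.ι).obj E))) (b : ((DCoh.RΓ (U : Scheme.{u})).obj ((DCoh.restrictD U.ι).obj E) ⊞ (DCoh.RΓ (V : Scheme.{u})).obj ((DCoh.restrictD V.ι).obj E)) ⟶ (DCoh.RΓ (U ⊓ V : X.Opens)).obj ((DCoh.restrictD (U ⊓ V).ι).obj E)) (c : (DCoh.RΓ (U ⊓ V : X.Opens)).obj ((DCoh.restrictD (U ⊓ V).ι).obj E) ⟶ ((DCoh.RΓ X).obj E)⟦(1 : ℤ)⟧),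
      Pretriangulated.Triangle.mk a b c ∈ Pretriangulated.distinguishedTriangles := by
  haveI : DCoh.HasRpush U.ι := Groth.Agent.DCohRestrLib.hasRpush _
  haveI : DCoh.HasRpush V.ι := Groth.Agent.DCohRestrLib.hasRpush _
  haveI : DCoh.HasRpush (U ⊓ V).ι := Groth.Agent.DCohRestrLib.hasRpush _
  obtain ⟨T, hT, ⟨e₁⟩, ⟨e₂⟩, ⟨e₃⟩⟩ := Groth.Agent.DCohRestrLib.exists_mv_push U V hUV E
  obtain ⟨_, _⟩ := Groth.Agent.DerLib.KInjDerived.exists_isTriangulated_map KFlatLib.enoughKInj_modules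
    (DCoh.gammaAb X) (DCoh.RΓ X) (Groth.Agent.DCohRestrLib.gammaUnit X)
  haveI : (DCoh.RΓ X).Additive := inferInstance
  haveI : PreservesBinaryBiproducts (DCoh.RΓ X) :=
    haveI : PreservesFiniteBiproducts (DCoh.RΓ X) := Functor.preservesFiniteBiproductsOfAdditive _
    preservesBinaryBiproducts_of_preservesBiproducts _
  obtain ⟨c₁⟩ := Groth.Agent.DCohRestrLib.nonempty_RΓ_Rpush U.ι
  obtain ⟨c₂⟩ := Groth.Agent.DCohRestrLib.nonempty_RΓ_Rpush V.ι
  obtain ⟨c₃⟩ := Groth.Agent.DCohRestrLib.nonempty_RΓ_Rpush (U ⊓ V).ι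
  exact Groth.Agent.DCohRestrLib.exists_triangle_of_iso _ ((DCoh.RΓ X).map_distinguished T hT)
    ((DCoh.RΓ X).mapIso e₁)
    ((DCoh.RΓ X).mapIso e₂ ≪≫ (DCoh.RΓ X).mapBiprod _ _ ≪≫ biprod.mapIso (c₁.app _) (c₂.app _))
    ((DCoh.RΓ X).mapIso e₃ ≪≫ c₃.app _)
end Groth.Agent.S6512
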