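import Groth.Statements.S6514
import Groth.Agent.RpushLib.FlatPull
import Mathlib.Algebra.Homology.HomotopyCategory.KInjective

set_option autoImplicit false
universe u
open CategoryTheory
open DCoh Limits

namespace Groth.Agent.S6514

theorem isKInjective_map_of_adjunction {A B : Type*} [Category* A] [Category* B] [Abelian A] [Abelian B]
    {P : B ⥤ A} {R : A ⥤ B} (adj : P ⊣ R) [P.Additive] [R.Additive] [P.PreservesHomology]
    (I : CochainComplex A ℤ) (hI : I.IsKInjective) :
    CochainComplex.IsKInjective ((R.mapHomologicalComplex (ComplexShape.up ℤ)).obj I) := by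
  refine ⟨fun {K} a hK => ?_⟩
  let PK := (P.mapHomologicalComplex (ComplexShape.up ℤ)).obj K
  have hPK : PK.Acyclic := fun i => (hK i).map P
  let b : PK ⟶ I :=
    { f := fun i => (adj.homEquiv _ _).symm (a.f i)
      comm' := fun i j _ => by
        exact (adj.homEquiv_naturality_right_symm (a.f i) (I.d i j)).symm.trans
          ((congrArg (adj.homEquiv _ _).symm (a.comm i j)).trans
            (adj.homEquiv_naturality_left_symm (K.d i j) (a.f j))) }
  let η : K ⟶ (R.mapHomologicalComplex (ComplexShape.up ℤ)).obj PK :=
    { f := fun i => adj.unit.app (K.X i)
      comm' := fun i j _ => (adj.unit.naturality (K.d i j)).symm }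
  have ha : η ≫ (R.mapHomologicalComplex (ComplexShape.up ℤ)).map b = a := HomologicalComplex.hom_ext _ _ fun i => by
    refine Eq.trans ?_ ((adj.homEquiv _ _).apply_symm_apply (a.f i))
    rw [adj.homEquiv_unit]
    rfl
  haveI := hI
  exact ⟨(Homotopy.ofEq ha.symm).trans
    (((R.mapHomotopy (CochainComplex.IsKInjective.homotopyZero b hPK)).compLeft η).trans
      (Homotopy.ofEq (by rw [Functor.map_zero, comp_zero])))⟩

open AlgebraicGeometry in
/-- If f : X → Y is a flat morphism of schemes and I is a K-injective complex of O_X-modules, then f_* I
(direct image applied termwise) is a K-injective complex of O_Y-modules. (The published statement is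
for flat morphisms of ringed spaces; this row is for flat morphisms of schemes.) -/
theorem result {X Y : Scheme.{u}} (f : X ⟶ Y) [Flat f]
    (I : CochainComplex X.Modules ℤ) (hI : I.IsKInjective) :
    CochainComplex.IsKInjective (((Scheme.Modules.pushforward f).mapHomologicalComplex (ComplexShape.up ℤ)).obj I) := by
  let P := Scheme.Modules.pullback f
  let R := Scheme.Modules.pushforward f
  let adj := Scheme.Modules.pullbackPushforwardAdjunction f
  haveI : P.PreservesMonomorphisms := RpushLib.preservesMonomorphisms_pullback f
  haveI : PreservesFiniteColimits P := by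
    have := adj.leftAdjoint_preservesColimits
    infer_instance
  haveI : P.Additive := Functor.additive_of_preserves_binary_products P
  haveI : R.Additive := adj.right_adjoint_additive
  haveI : P.PreservesHomology := Functor.preservesHomology_of_preservesMonos_and_cokernels P
  exact isKInjective_map_of_adjunction adj I hI

end Groth.Agent.S6514
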