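import Groth.Statements.S6519
import Groth.Agent.DCohRestrLib.Support
import Groth.Agent.PerfLib.Derived

set_option autoImplicit false
set_option backward.isDefEq.respectTransparency false
set_option backward.isDefEq.respectTransparency.types false
universe u
open CategoryTheory
attribute [local instance] HasDerivedCategory.standard
open DCoh

namespace Groth.Agent.S6519

open AlgebraicGeometry in
/-- Let j : U → X be the inclusion of an open subscheme, and let T ⊆ U be a closed subset whose image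
j(T) is also closed in X. Suppose E in D(O_U) is perfect and every cohomology sheaf of E has support
contained in T. In that case the derived pushforward Rj_*E is perfect as an object of D(O_X). (The
published statement is for ringed spaces; this row is for schemes.) -/
theorem result {X : Scheme.{u}} (U : X.Opens) [DCoh.HasRpush U.ι]
    (E : DCoh.D (U : Scheme.{u})) (hE : DCoh.IsPerfect E) (T : Set (U : Scheme.{u}))
    (hT : IsClosed T) (hjT : IsClosed ((fun x : (U : Scheme.{u}) => U.ι.base x) '' T))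
    (hsupp : ∀ i : ℤ, CohB1.support (DCoh.HD E i) ⊆ T) :
    DCoh.IsPerfect ((DCoh.Rpush U.ι).obj E) := by
  let T' := (fun x : (U : Scheme.{u}) => U.ι.base x) '' T
  have hTU : T' ⊆ (U : Set X) := by rintro _ ⟨⟨x, hx⟩, -, rfl⟩; exact hx
  let F := (CxOX.extZeroD U.ι).obj E
  have hF : ∀ i : ℤ, CohB1.support (DCoh.HD F i) ⊆ T' := fun i =>
    (Groth.Agent.DCohRestrLib.support_HD_extZeroD U E i).trans (Set.image_mono (hsupp i))
  obtain ⟨e⟩ := Groth.Agent.DCohRestrLib.nonempty_iso_Rpush_restrict U T' hjT hTU F hF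
  obtain ⟨e'⟩ := Groth.Agent.DCohRestrLib.nonempty_restrictD_extZeroD U E
  refine Groth.Agent.PerfLib.isPerfect_of_iso (e ≪≫ (DCoh.Rpush U.ι).mapIso e') ?_
  rw [Groth.Agent.PerfLib.isPerfect_iff]
  intro x
  by_cases hx : x ∈ T'
  · obtain ⟨V, j, hj, v, hv, S, hS, ⟨eS⟩⟩ := (Groth.Agent.PerfLib.isPerfect_iff E).1 hE ⟨x, hTU hx⟩
    obtain ⟨c⟩ := Groth.Agent.PerfLib.nonempty_resD_comp j U.ι F
    refine ⟨V, j ≫ U.ι, inferInstance, v, ?_, S, hS,
      ⟨c ≪≫ (Groth.Agent.PerfLib.resD j).mapIso e' ≪≫ eS⟩⟩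
    show U.ι (j v) = x
    rw [hv]
    rfl
  · let W : X.Opens := ⟨T'ᶜ, hjT.isOpen_compl⟩
    have hz : Limits.IsZero ((DCoh.restrictD W.ι).obj F) :=
      (Groth.Agent.DCohRestrLib.isZero_restrictD_iff W F).2 fun i y hy hy' => hy (hF i hy')
    obtain ⟨V, j, hj, v, hv, S, hS, ⟨eS⟩⟩ := (Groth.Agent.PerfLib.isPerfect_iff _).1
      (Groth.Agent.PerfLib.isPerfect_of_isZero hz) ⟨x, hx⟩
    obtain ⟨c⟩ := Groth.Agent.PerfLib.nonempty_resD_comp j W.ι F
    refine ⟨V, j ≫ W.ι, inferInstance, v, ?_, S, hS, ⟨c ≪≫ eS⟩⟩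
    show W.ι (j v) = x
    rw [hv]
    rfl
end Groth.Agent.S6519
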