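import Groth.Statements.S6530
import Mathlib
-- import your own Groth.Agent.* helpers here

set_option autoImplicit false
universe u
open DPow

namespace Groth.Agent.S6530

theorem diff_mem {A : Type u} [CommRing A] {I : Ideal A} (γ : DividedPowers I) (p : A) (t : ℕ) (ht : p ^ t ∈ I)
    (n k : ℕ) {a b : A} (hb : b ∈ I) (hab : a - b ∈ Ideal.span {p} ^ (k + 2 * t)) :
    γ.dpow n a - γ.dpow n b ∈ Ideal.span {p} ^ k := by
  rw [Ideal.span_singleton_pow, Ideal.mem_span_singleton'] at hab
  obtain ⟨c, hc⟩ := hab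
  have hcI : c * p ^ (k + 2 * t) ∈ I :=
    I.mul_mem_left c (by rw [show k + 2 * t = t + (k + t) by omega, pow_add]; exact I.mul_mem_right _ ht)
  rw [show a = b + c * p ^ (k + 2 * t) by rw [hc]; ring, γ.dpow_add' hb hcI]
  rw [Finset.sum_range_succ, Nat.sub_self, γ.dpow_zero hcI, mul_one, add_sub_cancel_right]
  refine Ideal.sum_mem _ fun j hj => Ideal.mul_mem_left _ _ ?_
  rw [Finset.mem_range] at hj
  rw [γ.dpow_mul (by rw [show k + 2 * t = t + (k + t) by omega, pow_add]; exact I.mul_mem_right _ ht),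
    show p ^ (k + 2 * t) = p ^ (k + t) * p ^ t by rw [← pow_add]; congr 1; omega, γ.dpow_mul ht]
  refine Ideal.mul_mem_left _ _ (Ideal.mul_mem_right _ _ ?_)
  rw [← pow_mul, Ideal.span_singleton_pow, Ideal.mem_span_singleton]
  exact pow_dvd_pow p ((by omega : k ≤ k + t).trans (Nat.le_mul_of_pos_right _ (by omega)))


/-- Let (A, I, γ) be a divided power ring and p a prime number with p^t A ⊆ I for some t ≥ 0, so that p
is nilpotent in A/I. Let A^∧ be the p-adic completion of A and π : A^∧ → A/I the composite of the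
evaluation A^∧ → A/p^tA with the projection A/p^tA → A/I. Then π is surjective, and there is a
divided power structure on Ker(π) (this kernel is the p-adic completion of I) such that the
canonical map A → A^∧ is a homomorphism of divided power rings. -/
theorem result {A : Type u} [CommRing A] {I : Ideal A}
    (γ : DividedPowers I) (p : ℕ) [Fact p.Prime] (t : ℕ) (ht : Ideal.span {(p : A)} ^ t ≤ I) :
    Function.Surjective ((Ideal.Quotient.factor ht).comp
      (AdicCompletion.evalₐ (Ideal.span {(p : A)}) t).toRingHom) ∧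
    ∃ δ : DividedPowers (RingHom.ker ((Ideal.Quotient.factor ht).comp
      (AdicCompletion.evalₐ (Ideal.span {(p : A)}) t).toRingHom)),
      γ.IsDPMorphism δ (algebraMap A (AdicCompletion (Ideal.span {(p : A)}) A)) := by
  classical
  set P := Ideal.span {(p : A)} with hP
  set π := (Ideal.Quotient.factor ht).comp (AdicCompletion.evalₐ P t).toRingHom with hπ
  refine ⟨(Ideal.Quotient.factor_surjective ht).comp (AdicCompletion.surjective_evalₐ P t), ?_⟩
  have hpt : (p : A) ^ t ∈ I := ht (Ideal.pow_mem_pow (Ideal.mem_span_singleton_self _) t)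
  choose a ha using fun x => AdicCompletion.mk_surjective P A x
  have hev : ∀ x k, AdicCompletion.evalₐ P k x = Ideal.Quotient.mk (P ^ k) ((a x).val k) := fun x k => by
    conv_lhs => rw [← ha x, AdicCompletion.evalₐ_mk]
  have hstep : ∀ x : AdicCompletion P A, ∀ m n, m ≤ n → (a x).val m - (a x).val n ∈ P ^ m := fun x m n h => by
    have := (a x).property h
    rw [SModEq.sub_mem] at this
    simpa using this
  have hker : ∀ {x : AdicCompletion P A} {m : ℕ} {c : A}, x ∈ RingHom.ker π → t ≤ m →
      AdicCompletion.evalₐ P m x = Ideal.Quotient.mk (P ^ m) c → c ∈ I := by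
    intro x m c hx hm he
    have h0 : Ideal.Quotient.mk I ((a x).val t) = 0 := by
      have h1 : π x = 0 := hx
      rwa [hπ, RingHom.comp_apply, AlgHom.toRingHom_eq_coe, RingHom.coe_coe, hev, Ideal.Quotient.factor_mk] at h1
    rw [Ideal.Quotient.eq_zero_iff_mem] at h0
    rw [hev, Ideal.Quotient.eq] at he
    have h2 := ht (hstep x t m hm)
    have h3 := ht (Ideal.pow_le_pow_right hm he)
    have : c = (a x).val t - ((a x).val t - (a x).val m) - ((a x).val m - c) := by ring
    rw [this]
    exact I.sub_mem (I.sub_mem h0 h2) h3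
  have hseq : ∀ n x, x ∈ RingHom.ker π → ∀ k, γ.dpow n ((a x).val (k + 2 * t)) ≡
      γ.dpow n ((a x).val (k + 1 + 2 * t)) [SMOD (P ^ k • ⊤ : Submodule A A)] := by
    intro n x hx k
    rw [SModEq.sub_mem, smul_eq_mul, Ideal.mul_top]
    exact diff_mem γ (p : A) t hpt n k (hker hx (by omega) (hev x _)) (hstep x _ _ (by omega))
  let d : ℕ → AdicCompletion P A → AdicCompletion P A := fun n x => if hx : x ∈ RingHom.ker π then
    AdicCompletion.mk P A (AdicCompletion.AdicCauchySequence.mk P A (fun k => γ.dpow n ((a x).val (k + 2 * t)))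
      (hseq n x hx)) else 0
  have hd : ∀ {n : ℕ} {x : AdicCompletion P A}, x ∈ RingHom.ker π → ∀ k, ∀ c : A,
      AdicCompletion.evalₐ P (k + 2 * t) x = Ideal.Quotient.mk _ c →
      AdicCompletion.evalₐ P k (d n x) = Ideal.Quotient.mk _ (γ.dpow n c) := by
    intro n x hx k c hc
    simp only [d, dif_pos hx, AdicCompletion.evalₐ_mk]
    refine Ideal.Quotient.eq.2 (diff_mem γ (p : A) t hpt n k (hker hx (by omega) hc) ?_)
    rw [hev] at hc
    exact Ideal.Quotient.eq.1 hc
  have hd' : ∀ {n : ℕ} {x : AdicCompletion P A}, x ∈ RingHom.ker π → ∀ k,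
      AdicCompletion.evalₐ P k (d n x) = Ideal.Quotient.mk _ (γ.dpow n ((a x).val (k + 2 * t))) :=
    fun hx k => hd hx k _ (hev _ _)
  have hI : ∀ {x : AdicCompletion P A}, x ∈ RingHom.ker π → ∀ k, (a x).val (k + 2 * t) ∈ I :=
    fun hx k => hker hx (by omega) (hev _ _)
  have hmem : ∀ {n : ℕ} {x : AdicCompletion P A}, n ≠ 0 → x ∈ RingHom.ker π → d n x ∈ RingHom.ker π := by
    intro n x hn hx
    rw [RingHom.mem_ker, hπ, RingHom.comp_apply, AlgHom.toRingHom_eq_coe, RingHom.coe_coe, hd' hx,
      Ideal.Quotient.factor_mk, Ideal.Quotient.eq_zero_iff_mem]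
    exact γ.dpow_mem hn (hI hx _)
  refine ⟨{
    dpow := d
    dpow_null := fun {n x} hx => dif_neg hx
    dpow_zero := fun {x} hx => AdicCompletion.ext_evalₐ fun k => by
      rw [hd' hx, γ.dpow_zero (hI hx k), map_one, map_one]
    dpow_one := fun {x} hx => AdicCompletion.ext_evalₐ fun k => by
      rw [hd' hx, γ.dpow_one (hI hx k), hev x k, Ideal.Quotient.eq]
      simpa using (P ^ k).neg_mem (hstep x k (k + 2 * t) (by omega))
    dpow_mem := fun hn hx => hmem hn hx
    dpow_add := fun {n x y} hx hy => AdicCompletion.ext_evalₐ fun k => by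
      rw [hd (add_mem hx hy) k ((a x).val (k + 2 * t) + (a y).val (k + 2 * t)) (by rw [map_add, map_add, hev, hev]),
        map_sum, γ.dpow_add (hI hx k) (hI hy k), map_sum]
      exact Finset.sum_congr rfl fun j _ => by rw [map_mul, map_mul, hd' hx, hd' hy]
    dpow_mul := fun {n c x} hx => AdicCompletion.ext_evalₐ fun k => by
      rw [hd (Ideal.mul_mem_left _ c hx) k ((a c).val (k + 2 * t) * (a x).val (k + 2 * t))
        (by rw [map_mul, map_mul, hev, hev]), map_mul, map_pow, hd' hx, γ.dpow_mul (hI hx k), map_mul, map_pow, hev c k]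
      congr 2
      exact (Ideal.Quotient.eq.2 (hstep c k (k + 2 * t) (by omega))).symm
    mul_dpow := fun {m n x} hx => AdicCompletion.ext_evalₐ fun k => by
      rw [map_mul, map_mul, map_natCast, hd' hx, hd' hx, hd' hx, ← map_mul, γ.mul_dpow (hI hx k), map_mul, map_natCast]
    dpow_comp := fun {m n x} hn hx => AdicCompletion.ext_evalₐ fun k => by
      rw [hd (hmem hn hx) k (γ.dpow n ((a x).val (k + 2 * t + 2 * t))) (hd' hx _), map_mul, map_natCast,
        hd hx k ((a x).val (k + 2 * t + 2 * t))]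
      · rw [γ.dpow_comp hn (hker hx (by omega) (hev _ _)), map_mul, map_natCast]
      · rw [hev]; exact Ideal.Quotient.eq.2 (hstep x _ _ (by omega)) }, ?_⟩
  have hin : ∀ c ∈ I, algebraMap A (AdicCompletion P A) c ∈ RingHom.ker π := fun c hc => by
    rw [RingHom.mem_ker, hπ, RingHom.comp_apply, AlgHom.toRingHom_eq_coe, RingHom.coe_coe, AlgHom.commutes]
    exact Ideal.Quotient.eq_zero_iff_mem.2 hc
  refine ⟨Ideal.map_le_iff_le_comap.2 hin, fun {n} c hc => AdicCompletion.ext_evalₐ fun k => ?_⟩
  show AdicCompletion.evalₐ P k (d n (algebraMap A _ c)) = _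
  rw [hd (hin c hc) k c (AlgHom.commutes _ _), AlgHom.commutes]
  rfl


end Groth.Agent.S6530
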