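import Groth.Statements.S6535
import Groth.Agent.HypercovLib.SRCov
import Mathlib

set_option autoImplicit false
universe u
open CategoryTheory
open Hyper

namespace Groth.Agent.S6535

open Opposite CategoryTheory.Limits in
/-- Let C be a small site with fibre products, X an object, K, L, M simplicial semi-representable
objects over X with morphisms a : K → L and b : M → L, and P = K ×_L M a fibre product (a pullback
square of simplicial objects). Assume (1) K is a hypercovering of X, (2) M_0 → L_0 is a covering,
and (3) for every n ≥ 0 the canonical morphism γ : M_{n+1} → L_{n+1} ×_{(cosk_n sk_n L)_{n+1}}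
(cosk_n sk_n M)_{n+1} is a covering (stated for every fibre product of that cospan and the induced
γ). Then P is a hypercovering of X. -/
theorem result {C : Type u} [SmallCategory C] [HasPullbacks C]
    (J : GrothendieckTopology C) (X : C)
    [∀ (n : ℕ) (F : (SimplexCategory.Truncated n)ᵒᵖ ⥤ Limits.FormalCoproduct.{u} (Over X)),
      (SimplexCategory.Truncated.inclusion n).op.HasRightKanExtension F]
    {K L M P : SimplicialObject (FormalCoproduct.{u} (Over X))} (a : K ⟶ L) (b : M ⟶ L)
    (p1 : P ⟶ K) (p2 : P ⟶ M) (hP : IsPullback p1 p2 a b)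
    (hK : Hyper.IsHypercovering J X K)
    (h0 : Hyper.IsSRCovering (J.over X) (b.app (op (SimplexCategory.mk 0))))
    (hγ : ∀ (n : ℕ) (Q : FormalCoproduct.{u} (Over X))
      (q1 : Q ⟶ L.obj (op (SimplexCategory.mk (n + 1))))
      (q2 : Q ⟶ ((SimplicialObject.truncation n ⋙ SimplicialObject.Truncated.cosk n).obj M).obj
        (op (SimplexCategory.mk (n + 1))))
      (γ : M.obj (op (SimplexCategory.mk (n + 1))) ⟶ Q),
      IsPullback q1 q2 (((SimplicialObject.coskAdj n).unit.app L).app (op (SimplexCategory.mk (n + 1))))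
        (((SimplicialObject.truncation n ⋙ SimplicialObject.Truncated.cosk n).map b).app
          (op (SimplexCategory.mk (n + 1)))) →
      γ ≫ q1 = b.app (op (SimplexCategory.mk (n + 1))) →
      γ ≫ q2 = ((SimplicialObject.coskAdj n).unit.app M).app (op (SimplexCategory.mk (n + 1))) →
      Hyper.IsSRCovering (J.over X) γ) :
    Hyper.IsHypercovering J X P := by
  classical
  let I := FormalCoproduct.incl.{u} (Over X)
  refine ⟨?_, fun n => ?_⟩
  · have h0' := hP.map ((evaluation _ _).obj (op (SimplexCategory.mk 0)))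
    have hb := (HypercovLib.locLift_iff _ _).2 h0
    refine J.transitive hK.1 _ fun Y g hg => ?_
    obtain ⟨_, γ, _, ⟨i⟩, rfl⟩ := hg
    let U : Over X := (K.obj (op (SimplexCategory.mk 0))).obj i
    let k : I.obj U ⟶ K.obj (op (SimplexCategory.mk 0)) := { f := fun _ => i, φ := fun _ => 𝟙 _ }
    obtain ⟨S, hS, hlift⟩ := hb U (k ≫ a.app _)
    rw [GrothendieckTopology.mem_over_iff] at hS
    rw [Sieve.pullback_comp]
    refine J.pullback_stable γ (J.superset_covering ?_ hS)
    intro Z h hh
    rw [Sieve.overEquiv_iff] at hh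
    obtain ⟨m, hm⟩ := hlift _ _ hh
    let p : I.obj _ ⟶ P.obj (op (SimplexCategory.mk 0)) :=
      h0'.lift (I.map (Over.homMk h : Over.mk (h ≫ U.hom) ⟶ U) ≫ k) m (by
        rw [Category.assoc]
        exact hm.symm)
    show Sieve.ofArrows _ _ (h ≫ ((K.obj (op (SimplexCategory.mk 0))).obj i).hom)
    rw [show h ≫ U.hom = (p.φ PUnit.unit).left ≫ ((P.obj (op (SimplexCategory.mk 0))).obj (p.f PUnit.unit)).hom from
      (Over.w (p.φ PUnit.unit)).symm]
    exact Sieve.downward_closed _ (Sieve.ofArrows_mk _ _ _) _
  · let T := SimplicialObject.truncation (C := FormalCoproduct.{u} (Over X)) n ⋙ SimplicialObject.Truncated.cosk n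
    let η := fun (W : SimplicialObject (FormalCoproduct.{u} (Over X))) =>
      ((SimplicialObject.coskAdj n).unit.app W).app (op (SimplexCategory.mk (n + 1)))
    haveI : PreservesLimitsOfShape WalkingCospan (SimplicialObject.truncation (C := FormalCoproduct.{u} (Over X)) n) :=
      inferInstanceAs (PreservesLimitsOfShape WalkingCospan ((Functor.whiskeringLeft _ _ _).obj _))
    haveI : PreservesLimitsOfShape WalkingCospan (SimplicialObject.Truncated.cosk (C := FormalCoproduct.{u} (Over X)) n) :=
      haveI : PreservesLimitsOfSize.{0, 0} (SimplicialObject.Truncated.cosk (C := FormalCoproduct.{u} (Over X)) n) :=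
        (SimplicialObject.coskAdj n).rightAdjoint_preservesLimits
      inferInstance
    haveI : PreservesLimit (cospan a b) T := comp_preservesLimit _ _
    have hTP := (hP.map T).map ((evaluation _ _).obj (op (SimplexCategory.mk (n + 1))))
    have hP1 := hP.map ((evaluation _ _).obj (op (SimplexCategory.mk (n + 1))))
    have nat : ∀ {W W' : SimplicialObject (FormalCoproduct.{u} (Over X))} (f : W ⟶ W'),
        f.app (op (SimplexCategory.mk (n + 1))) ≫ η W' = η W ≫ (T.map f).app (op (SimplexCategory.mk (n + 1))) :=
      fun f => NatTrans.congr_app ((SimplicialObject.coskAdj n).unit.naturality f) _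
    let q1 := pullback.fst (η L) ((T.map b).app (op (SimplexCategory.mk (n + 1))))
    let q2 := pullback.snd (η L) ((T.map b).app (op (SimplexCategory.mk (n + 1))))
    let γ : M.obj (op (SimplexCategory.mk (n + 1))) ⟶ pullback (η L) ((T.map b).app (op (SimplexCategory.mk (n + 1)))) :=
      pullback.lift (b.app _) (η M) (nat b)
    have hγc := (HypercovLib.locLift_iff _ _).2
      (hγ n _ q1 q2 γ (IsPullback.of_hasPullback _ _) (pullback.lift_fst _ _ _) (pullback.lift_snd _ _ _))
    have hKc := (HypercovLib.locLift_iff _ _).2 (hK.2 n)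
    refine (HypercovLib.locLift_iff _ _).1 fun U c => ?_
    obtain ⟨S₁, hS₁, h₁⟩ := hKc U (c ≫ (T.map p1).app (op (SimplexCategory.mk (n + 1))))
    choose k hk using h₁
    have hq : ∀ (V : Over X) (h : V ⟶ U) (hh : S₁ h), (k V h hh ≫ a.app _) ≫ η L =
        (I.map h ≫ c ≫ (T.map p2).app (op (SimplexCategory.mk (n + 1)))) ≫ (T.map b).app _ := fun V h hh => by
      rw [Category.assoc, nat, ← Category.assoc, hk V h hh]
      simp only [Category.assoc]
      exact congrArg (fun x => I.map h ≫ c ≫ x) hTP.w
    have h₂ := fun (V : Over X) (h : V ⟶ U) (hh : S₁ h) => hγc V (pullback.lift _ _ (hq V h hh))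
    choose S₂ hS₂ h₂ using h₂
    refine ⟨Sieve.bind S₁.arrows S₂, (J.over X).bind_covering hS₁ hS₂, fun W g hg => ?_⟩
    obtain ⟨V, r, h, hh, hr, rfl⟩ := hg
    obtain ⟨m, hm⟩ := h₂ V h hh W r hr
    have hm1 : m ≫ b.app _ = I.map r ≫ k V h hh ≫ a.app _ := by
      have e := congrArg (fun x => x ≫ q1) hm
      simp only [Category.assoc] at e
      erw [pullback.lift_fst, pullback.lift_fst] at e
      exact e
    have hm2 : m ≫ η M = I.map r ≫ I.map h ≫ c ≫ (T.map p2).app (op (SimplexCategory.mk (n + 1))) := by
      have e := congrArg (fun x => x ≫ q2) hm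
      simp only [Category.assoc] at e
      erw [pullback.lift_snd, pullback.lift_snd] at e
      exact e
    refine ⟨hP1.lift (I.map r ≫ k V h hh) m (by
      rw [Category.assoc]
      exact hm1.symm), hTP.hom_ext ?_ ?_⟩
    · show (hP1.lift _ _ _ ≫ η P) ≫ (T.map p1).app _ = _
      rw [Category.assoc, ← nat, ← Category.assoc]
      refine (congrArg (fun x => x ≫ η K) (hP1.lift_fst _ _ _)).trans ?_
      rw [Category.assoc, hk, Functor.map_comp]
      simp only [Category.assoc]
      rfl
    · show (hP1.lift _ _ _ ≫ η P) ≫ (T.map p2).app _ = _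
      rw [Category.assoc, ← nat, ← Category.assoc]
      refine (congrArg (fun x => x ≫ η M) (hP1.lift_snd _ _ _)).trans ?_
      rw [hm2, Functor.map_comp]
      simp only [Category.assoc]
      rfl

end Groth.Agent.S6535
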