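import Groth.Statements.S6536
import Groth.Agent.NefH1Lib.Square
import Groth.Agent.NefH1Lib.Regular

set_option autoImplicit false
set_option backward.isDefEq.respectTransparency false
set_option backward.isDefEq.respectTransparency.types false
set_option maxHeartbeats 1000000
set_option linter.style.haveILetI false
universe u
open CategoryTheory CategoryTheory.Limits AlgebraicGeometry
open Curves

namespace Groth.Agent.S6536

/-- Let X be proper over the field k, of dimension one, with H^0(X, O_X) = k, and let L be an invertible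
O_X-module which has a regular global section (a monomorphism O_X → L), satisfies H^1(X, L) = 0 and
is ample. Then L^{⊗6} is very ample on X over k: there is a closed immersion i : X → P^n_k over k
with i^* O(1) ≅ L^{⊗6}. -/
theorem result (k : Type u) [Field k] (X : Scheme.{u}) [X.Over (Spec (CommRingCat.of k))]
    [IsProper (X ↘ (Spec (CommRingCat.of k)))] (hdim : topologicalKrullDim X = 1)
    (h0 : Module.finrank k (Coh.HH X (Coh.structureModule X) 0) = 1) (L : X.Modules) (hL : PicF.IsInvertible L)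
    (hs : ∃ s : Coh.structureModule X ⟶ L, Mono s) (h1 : Subsingleton (Coh.HH X L 1)) (hample : CohB1.IsAmple L) :
    ∃ (n : ℕ) (i : X ⟶ CohB1.ProjSpace n k), IsClosedImmersion i ∧ i ≫ CohB1.ProjSpace.toSpec n k = X ↘ (Spec (CommRingCat.of k)) ∧
      Nonempty ((Scheme.Modules.pullback i).obj (Twist.twistProjSpace n k 1) ≅ CohB1.tensorPow L 6) := by
  haveI := CurvLib.isNoetherian k (X := X)
  have hd : topologicalKrullDim X ≤ 1 := hdim.le
  have hvan : ∀ N : X.Modules, Coh.IsQCoh N → Subsingleton (Coh.HH X N 2) := fun N _ =>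
    CurvLib.subsingleton_HH_of_dim_le (d := 1) N (hd.trans (by simp)) 2 one_lt_two
  obtain ⟨s, hs⟩ := hs
  let σ : Γ(L, ⊤) := s.app ⊤ (1 : Γ(X, ⊤))
  have hsσ : s = QCohLib.unitHom L σ := AmpleThLib.unitHom_eq s
  haveI : Mono (QCohLib.unitHom L σ) := hsσ ▸ hs
  have hP := fun n => AmpleThLib.tensorPow_isInvertible hL n
  have h11 : Subsingleton (Coh.HH X (CohB1.tensorPow L 1) 1) := NefH1Lib.h1_iso (KFlatLib.tensUnitIso L).symm h1
  have h12 := (NefH1Lib.h1_and_lift k hd hL (hP 1) σ h11).1
  obtain ⟨h13, hlift⟩ := NefH1Lib.h1_and_lift k hd hL (hP 2) σ h12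
  have hgg : Curv2.IsGloballyGenerated (CohB1.tensorPow L 3) :=
    MiscFlat6.isGloballyGenerated_of_genSections (hP 3) fun x => by
      by_cases hx : x ∈ TwistLib.genSet hL σ
      · exact ⟨AmpleThLib.pS σ 3, AmpleThLib.pS_genAt hx 3⟩
      · exact hlift x hx
  have hA3 : CohB1.IsAmple (CohB1.tensorPow L 3) :=
    (AmpleThLib.isAmple_tensorPow_iff hL (Nat.succ_pos 2)).mp hample
  obtain ⟨e⟩ := AmpleThLib.exists_powIso hL 3 2
  obtain ⟨N, r, hr, hrb, ⟨hτ⟩⟩ := NefH1Lib.exists_closedImmersion_sq (X ↘ Spec (CommRingCat.of k)) (hP 3) hvan hA3 hgg h13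
  exact ⟨N, r, hr, hrb, ⟨hτ ≪≫ e⟩⟩
end Groth.Agent.S6536
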