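import Groth.Statements.S6543
import Groth.Agent.NefH1Lib.GorDual
import Groth.Agent.GenusZeroLib.Line
import Groth.Agent.GenusZeroLib.Degrees
import Groth.Agent.LMLib.Rank

set_option autoImplicit false
set_option backward.isDefEq.respectTransparency false
set_option backward.isDefEq.respectTransparency.types false
set_option maxHeartbeats 1000000
set_option linter.style.haveILetI false
universe u
open CategoryTheory CategoryTheory.Limits AlgebraicGeometry
open Curves

namespace Groth.Agent.S6543

/-- Let X be a proper curve over the field k (proper, integral, of dimension one) with H^0(X, O_X) = k,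
genus 0 and Gorenstein local rings. If X has an invertible O_X-module of odd degree, then X is
isomorphic to P^1_k over k. -/
theorem result (k : Type u) [Field k] (X : Scheme.{u}) [X.Over (Spec (CommRingCat.of k))]
    [IsIntegral X] [IsProper (X ↘ (Spec (CommRingCat.of k)))] (hdim : topologicalKrullDim X = 1)
    (h0 : Module.finrank k (Coh.HH X (Coh.structureModule X) 0) = 1) (hg : Curv2.genus k X = 0) (hgor : ∀ x : X, LocCoh.IsGorensteinLocalRing (X.presheaf.stalk x))
    (L : X.Modules) (hL : PicF.IsInvertible L) (hodd : Odd (Curv2.deg k X L 1)) :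
    ∃ e : X ≅ CohB1.ProjSpace 1 k, e.hom ≫ CohB1.ProjSpace.toSpec 1 k = X ↘ (Spec (CommRingCat.of k)) := by
  haveI := CurvLib.finite_HH (k := k) (CurvLib.isCoh_of_isInvertible (X := X) CurvLib.isInvertible_structureModule) 1
  have h1 : Subsingleton (Coh.HH X (Coh.structureModule X) 1) := (Module.finrank_zero_iff (R := k)).mp hg
  have hχ : Curv2.euler k X (Coh.structureModule X) = 1 := by
    rw [CurvLib.euler_curve (k := k) hdim, h0, show Module.finrank k (Coh.HH X (Coh.structureModule X) 1) = 0 from hg]
    norm_num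
  letI := LMLib.law X
  let G : AddSubgroup ℤ :=
    { carrier := {n | GenusZeroLib.Realised k (X := X) n}
      zero_mem' := GenusZeroLib.realised_zero k
      add_mem' := fun ha hb => GenusZeroLib.realised_add k hdim ha hb
      neg_mem' := fun {n} ⟨A, hA, hn⟩ => by
        obtain ⟨B, hB, hBc⟩ := PicGrp.exists_eq_cls (PicGrp.cls A hA)⁻¹
        obtain ⟨e⟩ := (PicGrp.cls_mul_cls_eq_one_iff hA hB).mp (by rw [← hBc, mul_inv_cancel])
        refine ⟨B, hB, ?_⟩
        have h2 : Curv2.deg k X (Coh.structureModule X) 1 = 0 := by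
          rw [Curv2.deg]; push_cast; ring
        have h3 := GenusZeroLib.deg_tensor k hdim hA hB
        rw [CurvLib.deg_congr (k := k) e 1, h2, hn] at h3
        linarith }
  obtain ⟨ω, hω, hωd⟩ := NefH1Lib.exists_dualising_invertible k hdim hgor
  have hm : Curv2.deg k X L 1 ∈ G := ⟨L, hL, rfl⟩
  have hw : (-2 : ℤ) ∈ G := ⟨ω, hω, by rw [hωd, hχ]; norm_num⟩
  obtain ⟨j, hj⟩ := hodd
  obtain ⟨M, hM, hMd⟩ : (1 : ℤ) ∈ G := by
    have h4 := G.add_mem hm (G.zsmul_mem hw j)
    rwa [hj, smul_eq_mul, show 2 * j + 1 + j * (-2) = (1 : ℤ) by ring] at h4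
  exact GenusZeroLib.exists_iso_of_deg_one k hdim h1 hM hMd
end Groth.Agent.S6543
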