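import Groth.Statements.S6547
import Groth.Agent.JacTorsLib.Point
import Groth.Agent.S1565

set_option autoImplicit false
set_option backward.isDefEq.respectTransparency false
set_option backward.isDefEq.respectTransparency.types false
set_option maxRecDepth 8000
set_option maxHeartbeats 1000000
universe u
open CategoryTheory CategoryTheory.Limits AlgebraicGeometry
open Curves

namespace Groth.Agent.S6547

/-- Let k be a field, n a natural number invertible in k, and X a smooth proper curve over k (proper,
smooth, integral, of dimension one) with H^0(X, O_X) = k and genus g ≥ 2. Then some finite separable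
field extension k′ of k of degree at most (2g − 2)·(n^{2g})! makes X_{k′} acquire a point rational
over k′ (a section of X_{k′} → Spec k′) and have exactly n^{2g} isomorphism classes of invertible
modules M with M^{⊗n} ≅ O. (The published statement gives Pic(X_{k′})[n] ≅ (Z/nZ)^{2g}; this row
states the number of classes, which is equivalent because pullback embeds Pic(X_{k′}) into the
Picard group over an algebraic closure.) -/
theorem result (k : Type u) [Field k] (X : Scheme.{u}) [X.Over (Spec (CommRingCat.of k))]
    [IsIntegral X] [IsProper (X ↘ (Spec (CommRingCat.of k)))] [Smooth (X ↘ (Spec (CommRingCat.of k)))] (hdim : topologicalKrullDim X = 1)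
    (h0 : Module.finrank k (Coh.HH X (Coh.structureModule X) 0) = 1) (hg : 2 ≤ Curv2.genus k X)
    (n : ℕ) (hn : IsUnit (n : k)) :
    ∃ (k' : Type u) (_ : Field k') (_ : Algebra k k'), FiniteDimensional k k' ∧ Algebra.IsSeparable k k' ∧
      Module.finrank k k' ≤ (2 * Curv2.genus k X - 2) * Nat.factorial (n ^ (2 * Curv2.genus k X)) ∧
      (∃ x : Spec (CommRingCat.of k') ⟶ Curv2.bc k X k', x ≫ Curv2.bcSnd k X k' = 𝟙 _) ∧
      Nat.card {c : PicF.Cl (Curv2.bc k X k') | ∃ M : Scheme.Modules (Curv2.bc k X k'), PicF.cl M = c ∧ PicF.IsInvertible M ∧ Nonempty (CohB1.tensorPow M (n) ≅ Coh.structureModule (Curv2.bc k X k'))} = n ^ (2 * Curv2.genus k X) := by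
  obtain ⟨x, -, hxs, hxd, hxf⟩ := Groth.Agent.S1565.result k X ⟨inferInstance, inferInstance, inferInstance, hdim⟩ h0 hg
  letI alg : Algebra k (X.residueField x) := Curv2.resAlgebra k X x
  haveI : FiniteDimensional k (X.residueField x) := hxf
  haveI : Algebra.IsSeparable k (X.residueField x) := hxs
  obtain ⟨σ, hσ⟩ := JacTorsLib.exists_sec k X x
  obtain ⟨L, iF, iA, h1, h2, h3, hp, hc⟩ := JacTorsLib.exists_splitting k X hdim h0 n hn.ne_zero (X.residueField x) σ hσ
  refine ⟨L, iF, iA, h1, h2, h3.trans (Nat.mul_le_mul_right _ hxd), hp, ?_⟩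
  rw [JacTorsLib.natCard_eq, hc]

end Groth.Agent.S6547
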