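import Groth.Statements.S6552
import Groth.Agent.NodalLib.NodeMaps

set_option autoImplicit false
set_option backward.isDefEq.respectTransparency false
set_option backward.isDefEq.respectTransparency.types false
universe u
open CategoryTheory CategoryTheory.Limits AlgebraicGeometry
open Curves

namespace Groth.Agent.S6552

/-- Let k be a field, X a scheme locally of finite type over k of dimension 1, π : Y → X an étale
morphism, and y ∈ Y a point with image x. Then x is a closed point of X which is a node if and only
if y is a closed point of Y which is a node (Y being a k-scheme through π). -/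
theorem result (k : Type u) [Field k] (X : Scheme.{u}) [X.Over (Spec (CommRingCat.of k))] [LocallyOfFiniteType (X ↘ (Spec (CommRingCat.of k)))] (hdim : topologicalKrullDim X = 1)
    {Y : Scheme.{u}} (π : Y ⟶ X) [Etale π] (y : Y) :
    Curv2.IsNode k X (π y) ↔ @Curv2.IsNode k _ Y ⟨π ≫ (X ↘ (Spec (CommRingCat.of k)))⟩ y := by
  letI : Y.Over (Spec (CommRingCat.of k)) := ⟨π ≫ X ↘ Spec (CommRingCat.of k)⟩
  haveI : LocallyOfFiniteType (Y ↘ Spec (CommRingCat.of k)) :=
    inferInstanceAs (LocallyOfFiniteType (π ≫ X ↘ Spec (CommRingCat.of k)))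
  refine (NodalLib.isNode_iff k (π y)).trans (Iff.trans ?_ (NodalLib.isNode_iff k y).symm)
  constructor
  · rintro ⟨hc, hg⟩
    refine ⟨NodalLib.isClosed_of_fibre (K := k) π y hc fun z hz => ?_, (NodalLib.isGeoNode_etale k π y).1 hg⟩
    apply (NodalLib.isGeoNode_etale k π z).1
    rw [hz]
    exact hg
  · rintro ⟨-, hg⟩
    have hg' := (NodalLib.isGeoNode_etale k π y).2 hg
    exact ⟨NodalLib.isClosed_of_isGeoNode k hdim.le _ hg', hg'⟩

end Groth.Agent.S6552
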