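import Groth.Statements.S6553
import Groth.Agent.NodalLib.NodeMaps

set_option autoImplicit false
set_option backward.isDefEq.respectTransparency false
set_option backward.isDefEq.respectTransparency.types false
universe u
open CategoryTheory CategoryTheory.Limits AlgebraicGeometry
open Curves

namespace Groth.Agent.S6553

/-- Let k'/k be a finite separable extension of fields, X a scheme locally of finite type over k' of
dimension 1, and x ∈ X a closed point. Then x is a node of the k'-scheme X if and only if x is a
node of X viewed as a k-scheme via Spec k' → Spec k. -/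
theorem result (k : Type u) [Field k] (k' : Type u) [Field k'] [Algebra k k']
    [FiniteDimensional k k'] [Algebra.IsSeparable k k']
    (X : Scheme.{u}) [X.Over (Spec (CommRingCat.of k'))] [LocallyOfFiniteType (X ↘ (Spec (CommRingCat.of k')))] (hdim : topologicalKrullDim X = 1)
    (x : X) (hx : IsClosed ({x} : Set X)) :
    Curv2.IsNode k' X x ↔
      @Curv2.IsNode k _ X ⟨(X ↘ (Spec (CommRingCat.of k'))) ≫ Spec.map (CommRingCat.ofHom (algebraMap k k'))⟩ x := by
  let q := (X ↘ Spec (CommRingCat.of k')) ≫ Spec.map (CommRingCat.ofHom (algebraMap k k'))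
  have hq : LocallyOfFiniteType q := by
    haveI : LocallyOfFiniteType (Spec.map (CommRingCat.ofHom (algebraMap k k'))) := by
      rw [HasRingHomProperty.Spec_iff (P := @LocallyOfFiniteType)]
      exact RingHom.finiteType_algebraMap.2 inferInstance
    infer_instance
  letI A1 := Curv2.stalkAlgebra k' X x
  have h1 := NodalLib.isNode_iff k' x
  letI A2 : Algebra k (X.presheaf.stalk x) := ((Curv2.stalkMap k' X x).comp (algebraMap k k')).toAlgebra
  haveI : IsScalarTower k k' (X.presheaf.stalk x) := IsScalarTower.of_algebraMap_eq' rfl
  haveI := NodalLib.essFiniteType_stalk k' x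
  haveI : Algebra.EssFiniteType k (X.presheaf.stalk x) := Algebra.EssFiniteType.comp k k' _
  have h2 := NodalLib.isGeoNode_sep (k := k) (k' := k') (A := X.presheaf.stalk x)
  letI O2 : X.Over (Spec (CommRingCat.of k)) := ⟨q⟩
  haveI : LocallyOfFiniteType (X ↘ Spec (CommRingCat.of k)) := hq
  have hA : A2 = Curv2.stalkAlgebra k X x := by
    refine Algebra.algebra_ext _ _ fun c => ?_
    exact congrArg (X.presheaf.germ ⊤ x trivial).hom
      (NodalLib.toGlobal_comp_specMap' (X ↘ Spec (CommRingCat.of k')) (CommRingCat.ofHom (algebraMap k k')) c).symm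
  have h3 := NodalLib.isNode_iff k x
  rw [← hA] at h3
  exact (h1.trans (and_congr_right fun _ => h2.symm)).trans h3.symm

end Groth.Agent.S6553
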