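import Groth.Statements.S6556
import Groth.Agent.DeltaBaseLib.Main
import Groth.Agent.RamInsepLib.Alg
import Groth.Agent.HurwitzLib.Fiber
import Groth.Agent.LenInsepLib.Tensor
import Groth.Agent.FibDegLib.Weight

set_option autoImplicit false
universe u
open CategoryTheory CategoryTheory.Limits AlgebraicGeometry
attribute [local instance] Curv2.resAlgebra
open Curves
open scoped TensorProduct

namespace Groth.Agent.S6556

/-- Let X be a smooth curve over the field k (integral, separated, of finite type and smooth over k, of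
dimension one), k̄ an algebraic closure of k, x̄ ∈ X_{k̄} a closed point and x ∈ X its image. Then
the ramification index of the extension of discrete valuation rings O_{X,x} → O_{X_{k̄}, x̄} (the
length of O_{X_{k̄},x̄} modulo the ideal generated by the maximal ideal of O_{X,x}) equals the
inseparable degree [κ(x) : k]_i. -/
theorem result (k : Type u) [Field k] (X : Scheme.{u}) [X.Over (Spec (CommRingCat.of k))]
    [IsIntegral X] [IsSeparated (X ↘ (Spec (CommRingCat.of k)))] [LocallyOfFiniteType (X ↘ (Spec (CommRingCat.of k)))] [QuasiCompact (X ↘ (Spec (CommRingCat.of k)))] (hdX : topologicalKrullDim X = 1) [Smooth (X ↘ (Spec (CommRingCat.of k)))]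
    (xb : Curv2.bc k X (AlgebraicClosure k)) (hxb : IsClosed ({xb} : Set (Curv2.bc k X (AlgebraicClosure k)))) :
    letI := ((Curv2.bcFst k X (AlgebraicClosure k)).stalkMap xb).hom.toAlgebra
    Ideal.ramificationIdx (IsLocalRing.maximalIdeal ((Curv2.bc k X (AlgebraicClosure k)).presheaf.stalk xb))
        (X.presheaf.stalk (Curv2.bcFst k X (AlgebraicClosure k) xb)) =
      Field.finInsepDegree k (X.residueField (Curv2.bcFst k X (AlgebraicClosure k) xb)) := by
  let K := AlgebraicClosure k
  let x := Curv2.bcFst k X K xb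
  haveI : IsIntegralHom (Spec.map (CommRingCat.ofHom (algebraMap k K))) :=
    IsIntegralHom.SpecMap_iff.2 (fun a => Algebra.IsIntegral.isIntegral a)
  haveI : IsIntegralHom (Curv2.bcFst k X K) :=
    MorphismProperty.of_isPullback (IsPullback.of_hasPullback (X ↘ Spec (CommRingCat.of k)) (Spec.map (CommRingCat.ofHom (algebraMap k K)))).flip inferInstance
  have hx : IsClosed ({x} : Set X) := by
    have := (Curv2.bcFst k X K).isClosedMap _ hxb
    rwa [Set.image_singleton] at this
  have hfin : letI := Curv2.resAlgebra k X x; Module.Finite k (X.residueField x) := HurwitzLib.finite_residueField hx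
  letI := Curv2.stalkAlgebra k X x
  let A := X.presheaf.stalk x
  let B := (Curv2.bc k X K).presheaf.stalk xb
  let κ := A ⧸ IsLocalRing.maximalIdeal A
  letI : Field κ := Ideal.Quotient.field _
  let e : X.residueField x ≃ₐ[k] κ := AlgEquiv.ofRingEquiv (f := RingEquiv.refl κ) fun _ => rfl
  haveI : Module.Finite k κ := Module.Finite.equiv e.toLinearEquiv
  obtain ⟨P, hP, hPm, E, hE⟩ := DeltaBaseLib.exists_model k K xb
  haveI := hP
  letI : Algebra A B := ((Curv2.bcFst k X K).stalkMap xb).hom.toAlgebra
  haveI : IsLocalHom (algebraMap A B) := inferInstanceAs (IsLocalHom ((Curv2.bcFst k X K).stalkMap xb).hom)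
  let T := A ⊗[k] K
  let J : Ideal T := (IsLocalRing.maximalIdeal A).map (algebraMap A T)
  let L := Localization.AtPrime P
  let g : T →ₐ[k] κ ⊗[k] K := Algebra.TensorProduct.map (Ideal.Quotient.mkₐ k _) (AlgHom.id k K)
  let f : T →ₐ[k] K ⊗[k] κ := (Algebra.TensorProduct.comm k κ K).toAlgHom.comp g
  have hgs : Function.Surjective g := Algebra.TensorProduct.map_surjective _ _ Ideal.Quotient.mk_surjective Function.surjective_id
  have hfs : Function.Surjective f := (Algebra.TensorProduct.comm k κ K).surjective.comp hgs
  have hker : RingHom.ker f = J := by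
    have hg : RingHom.ker g = J := by
      rw [Algebra.TensorProduct.rTensor_ker _ (Ideal.Quotient.mkₐ_surjective k _),
        show RingHom.ker (Ideal.Quotient.mkₐ k (IsLocalRing.maximalIdeal A)) = IsLocalRing.maximalIdeal A from Ideal.mk_ker]
      rfl
    rw [← hg]
    ext t
    exact EmbeddingLike.map_eq_zero_iff (f := Algebra.TensorProduct.comm k κ K)
  have hJP : J ≤ P := Ideal.map_le_iff_le_comap.2 hPm.ge
  haveI : (P.map f).IsPrime := Ideal.map_isPrime_of_surjective hfs (hker.le.trans hJP)
  have hmem : ∀ t, f t ∈ P.map f ↔ t ∈ P := fun t => by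
    rw [← Ideal.mem_comap, Ideal.comap_map_of_surjective f hfs, ← RingHom.ker_eq_comap_bot, hker, sup_eq_left.2 hJP]
  obtain ⟨Q, _, _, π, hπs, hπu, hπk, hlen⟩ := RamInsepLib.exists_local_quotient k κ K (P.map f)
  have hu : ∀ s : P.primeCompl, IsUnit ((π.comp f.toRingHom) s) := fun s => hπu _ fun h => s.2 ((hmem _).1 h)
  let h : L →+* Q := IsLocalization.lift hu
  have hh : ∀ t, h (algebraMap T L t) = π (f t) := fun t => IsLocalization.lift_eq hu t
  have hhs : Function.Surjective h := fun q => by
    obtain ⟨u, rfl⟩ := hπs q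
    obtain ⟨t, rfl⟩ := hfs u
    exact ⟨_, hh t⟩
  have hhk : RingHom.ker h = J.map (algebraMap T L) := by
    refine le_antisymm (fun z hz => ?_) (Ideal.map_le_iff_le_comap.2 fun t ht => ?_)
    · obtain ⟨t, s, rfl⟩ := IsLocalization.exists_mk'_eq P.primeCompl z
      have h0 : π (f t) = 0 := by
        rw [← hh, ← IsLocalization.mk'_spec L t s, map_mul, RingHom.mem_ker.1 hz, zero_mul]
      obtain ⟨c, hc, hct⟩ := hπk _ h0
      obtain ⟨c', rfl⟩ := hfs c
      rw [IsLocalization.mk'_mem_map_algebraMap_iff]
      exact ⟨c', fun hc' => hc ((hmem _).2 hc'), by rw [← hker, RingHom.mem_ker, map_mul, hct]⟩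
    · rw [← hker, RingHom.mem_ker] at ht
      rw [Ideal.mem_comap, RingHom.mem_ker, hh, ht, map_zero]
  let I : Ideal B := (IsLocalRing.maximalIdeal A).map (algebraMap A B)
  have hmap : J.map (algebraMap T L) = I.map E.toRingHom := by
    simp only [I, J, Ideal.map_map]
    congr 1
    ext a
    exact (hE a).symm.trans rfl
  have hBI : Module.length B (B ⧸ I) = Module.length Q Q := by
    have hk : RingHom.ker (h.comp E.toRingHom) = I := by
      rw [← RingHom.comap_ker, hhk, hmap, Ideal.comap_map_of_bijective E.toRingHom E.bijective]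
    have hs : Function.Surjective (h.comp E.toRingHom) := hhs.comp E.surjective
    rw [Module.length_eq_of_surjective (R := B ⧸ I) Ideal.Quotient.mk_surjective]
    exact LenInsepLib.length_eq_of_ringEquiv ((Ideal.quotEquivOfEq hk.symm).trans (RingHom.quotientKerEquivOfSurjective hs))
  let q := IsLocalRing.maximalIdeal B
  let S := Localization.AtPrime q
  let eS : B ≃ₐ[B] S := IsLocalization.atUnits B q.primeCompl fun b hb => IsLocalRing.notMem_maximalIdeal.1 hb
  show q.ramificationIdx A = _
  rw [Ideal.ramificationIdx_def, FibDegLib.length_quotient_congr eS.toRingEquiv I _ ?_, hBI, hlen]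
  · exact (Field.finInsepDegree_eq_of_equiv k (X.residueField x) κ e).symm
  -- the maximal ideal below
  · rw [show q.under A = IsLocalRing.maximalIdeal A from
      ((IsLocalRing.local_hom_TFAE (algebraMap A B)).out 0 4).1 ‹_›, Ideal.map_map]
    congr 1

end Groth.Agent.S6556
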