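import Groth.Statements.S6559
import Mathlib.AlgebraicGeometry.Birational.RationalMap
import Mathlib.AlgebraicGeometry.ValuativeCriterion
import Groth.Agent.CurveFFLib.Extend

set_option autoImplicit false
universe u
open CategoryTheory CategoryTheory.Limits AlgebraicGeometry
open Curves

namespace Groth.Agent.S6559

/-- Let k be a field, X a curve over k (integral, separated and of finite type over k, of dimension
one), Y a proper variety over k (integral, proper over k), U ⊆ X a nonempty open and f : U → Y a
morphism over k. If the local ring of X at a closed point x is a discrete valuation ring, then f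
extends to a k-morphism U' → Y on some open U' ⊇ U of X containing x. -/
theorem result (k : Type u) [Field k]
    (X Y : Scheme.{u}) [X.Over (Spec (CommRingCat.of k))] [Y.Over (Spec (CommRingCat.of k))]
    [IsIntegral X] [IsSeparated (X ↘ (Spec (CommRingCat.of k)))] [LocallyOfFiniteType (X ↘ (Spec (CommRingCat.of k)))] [QuasiCompact (X ↘ (Spec (CommRingCat.of k)))] (hdX : topologicalKrullDim X = 1)
    [IsIntegral Y] [IsProper (Y ↘ (Spec (CommRingCat.of k)))]
    (U : X.Opens) (hU : (U : Set X).Nonempty) (f : (U : Scheme.{u}) ⟶ Y) (hf : f ≫ (Y ↘ (Spec (CommRingCat.of k))) = U.ι ≫ (X ↘ (Spec (CommRingCat.of k))))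
    (x : X) (hx : IsClosed ({x} : Set X)) (hdvr : IsDiscreteValuationRing (X.presheaf.stalk x)) :
    ∃ (U' : X.Opens) (hUU' : U ≤ U') (f' : (U' : Scheme.{u}) ⟶ Y), x ∈ U' ∧
      f' ≫ (Y ↘ (Spec (CommRingCat.of k))) = U'.ι ≫ (X ↘ (Spec (CommRingCat.of k))) ∧ X.homOfLE hUU' ≫ f' = f := by
  let sX := X ↘ (Spec (CommRingCat.of k))
  let sY := Y ↘ (Spec (CommRingCat.of k))
  haveI : IsLocallyNoetherian X := LocallyOfFiniteType.isLocallyNoetherian sX
  haveI : Y.IsSeparated := ⟨by
    rw [Limits.terminal.hom_ext (terminal.from Y) (sY ≫ terminal.from _)]; infer_instance⟩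
  have hUd : Dense (U : Set X) := U.2.dense hU
  let p₀ : X.PartialMap Y := ⟨U, hUd, f⟩
  let r : X ⤏ Y := p₀.toRationalMap
  have hηU : genericPoint X ∈ U := ((genericPoint_spec X).mem_open_set_iff U.2).mpr (by simpa using hU)
  have hsp : genericPoint X ⤳ x := (genericPoint_spec X).specializes trivial
  let j : Spec X.functionField ⟶ Spec (X.presheaf.stalk x) := Spec.map (X.presheaf.stalkSpecializes hsp)
  have hp : p₀.fromFunctionField = r.fromFunctionField := (Scheme.RationalMap.fromFunctionField_toRationalMap p₀).symm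
  have hsq : r.fromFunctionField ≫ sY = j ≫ (X.fromSpecStalk x ≫ sX) := by
    rw [← hp]
    show (U.fromSpecStalkOfMem (genericPoint X) hηU ≫ f) ≫ sY = _
    rw [Category.assoc, hf, Scheme.Opens.fromSpecStalkOfMem_ι_assoc, ← Category.assoc,
      Scheme.SpecMap_stalkSpecializes_fromSpecStalk]
  have hj : Spec.map (CommRingCat.ofHom (algebraMap (X.presheaf.stalk x) X.functionField)) = j := rfl
  have hval : ValuativeCriterion.Existence sY := by
    have h := (IsProper.eq_valuativeCriterion ▸ ‹IsProper (Y ↘ (Spec (CommRingCat.of k)))› :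
      (ValuativeCriterion ⊓ @QuasiCompact ⊓ @QuasiSeparated ⊓ @LocallyOfFiniteType) sY)
    exact h.1.1.1.existence
  haveI hD : IsDomain (X.presheaf.stalk x) := inferInstance
  haveI hV : ValuationRing (X.presheaf.stalk x) := inferInstance
  have hlift := hval
    { R := X.presheaf.stalk x, commRing := inferInstance, domain := hD, valuationRing := hV,
      K := X.functionField, i₁ := r.fromFunctionField, i₂ := X.fromSpecStalk x ≫ sX,
      commSq := ⟨hsq.trans (congrArg (fun t => t ≫ (X.fromSpecStalk x ≫ sX)) hj.symm)⟩ }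
  obtain ⟨⟨ψ, h1, h2⟩⟩ := hlift.exists_lift
  let g := Scheme.PartialMap.ofFromSpecStalk sX sY ψ h2
  have hg := Scheme.PartialMap.mem_domain_ofFromSpecStalk sX sY ψ h2
  have hxr : x ∈ r.domain := by
    rw [Scheme.RationalMap.mem_domain]
    refine ⟨g, hg, Scheme.RationalMap.eq_of_fromFunctionField_eq _ _ ?_⟩
    have hηg : genericPoint X ∈ g.domain :=
      ((genericPoint_spec X).mem_open_set_iff g.domain.2).mpr ⟨x, trivial, hg⟩
    have h3 : j ≫ g.fromSpecStalkOfMem hg = g.fromSpecStalkOfMem hηg := by
      change _ ≫ g.domain.fromSpecStalkOfMem x hg ≫ g.hom =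
        g.domain.fromSpecStalkOfMem (genericPoint X) hηg ≫ g.hom
      rw [← Category.assoc]
      congr 1
      rw [← cancel_mono g.domain.ι]
      simp [j]
    rw [Scheme.RationalMap.fromFunctionField_toRationalMap]
    refine h3.symm.trans ?_
    rw [Scheme.PartialMap.fromSpecStalkOfMem_ofFromSpecStalk]
    exact h1
  have hUU' : U ≤ r.domain := p₀.le_domain_toRationalMap
  have hres : X.homOfLE hUU' ≫ r.toPartialMap.hom = f := p₀.toPartialMap_toRationalMap_restrict
  refine ⟨r.domain, hUU', r.toPartialMap.hom, hxr, ?_, hres⟩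
  haveI : IsDominant (X.homOfLE hUU') := Opens.isDominant_homOfLE hUd hUU'
  haveI : IsReduced r.domain.toScheme := inferInstance
  refine ext_of_isDominant (X.homOfLE hUU') ?_
  exact (Category.assoc _ _ _).symm.trans ((congrArg (fun t => t ≫ sY) hres).trans (hf.trans (X.homOfLE_ι_assoc hUU' sX).symm))

end Groth.Agent.S6559
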