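import Groth.Statements.S6563
import Groth.Agent.S1625
import Groth.Agent.CurveAmpLib.Proj
import Groth.Agent.FibDimLib.ClosureDim
import Mathlib.AlgebraicGeometry.Morphisms.SchemeTheoreticallyDominant

set_option autoImplicit false
universe u
open CategoryTheory CategoryTheory.Limits AlgebraicGeometry
open Curves

namespace Groth.Agent.S6563

/-- Let k be a field and f : X → Y a morphism over k of varieties over k, with X a curve (integral,
separated and of finite type over k, of dimension one) and Y proper over k (and integral). Then f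
extends over a projective completion of X: there are a projective curve X̄ over k (integral, of
dimension one, admitting a closed immersion over k into some P^n_k), an open immersion j : X → X̄
over k and a k-morphism g : X̄ → Y with g ∘ j = f. -/
theorem result (k : Type u) [Field k]
    (X Y : Scheme.{u}) [X.Over (Spec (CommRingCat.of k))] [Y.Over (Spec (CommRingCat.of k))]
    [IsIntegral X] [IsSeparated (X ↘ (Spec (CommRingCat.of k)))] [LocallyOfFiniteType (X ↘ (Spec (CommRingCat.of k)))] [QuasiCompact (X ↘ (Spec (CommRingCat.of k)))] (hdX : topologicalKrullDim X = 1)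
    [IsIntegral Y] [IsProper (Y ↘ (Spec (CommRingCat.of k)))]
    (f : X ⟶ Y) (hf : f ≫ (Y ↘ (Spec (CommRingCat.of k))) = X ↘ (Spec (CommRingCat.of k))) :
    ∃ (Xb : Scheme.{u}) (_ : Xb.Over (Spec (CommRingCat.of k))) (j : X ⟶ Xb) (g : Xb ⟶ Y),
      IsOpenImmersion j ∧ j ≫ g = f ∧ j ≫ (Xb ↘ (Spec (CommRingCat.of k))) = X ↘ (Spec (CommRingCat.of k)) ∧ g ≫ (Y ↘ (Spec (CommRingCat.of k))) = Xb ↘ (Spec (CommRingCat.of k)) ∧
      IsIntegral Xb ∧ topologicalKrullDim Xb = 1 ∧
      ∃ (n : ℕ) (i : Xb ⟶ CohB1.ProjSpace n k), IsClosedImmersion i ∧ i ≫ CohB1.ProjSpace.toSpec n k = Xb ↘ (Spec (CommRingCat.of k)) := by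
  let q := X ↘ (Spec (CommRingCat.of k))
  let sY := Y ↘ (Spec (CommRingCat.of k))
  obtain ⟨d, Y₀, c, j₀, hc, hj₀, hjc, -, -, -, -⟩ := Groth.Agent.S1625.result k X hdX.le
  haveI := hc
  haveI := hj₀
  haveI : IsProper (CohB1.ProjSpace.toSpec d k) := ProjDegLib.toSpec_isProper k d
  let s₀ : Y₀ ⟶ Spec (CommRingCat.of k) := c ≫ CohB1.ProjSpace.toSpec d k
  haveI : IsProper s₀ := inferInstanceAs (IsProper (c ≫ _))
  let P := pullback s₀ sY
  let sP : P ⟶ Spec (CommRingCat.of k) := pullback.snd s₀ sY ≫ sY
  let r : X ⟶ P := pullback.lift j₀ f (hjc.trans hf.symm)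
  haveI : IsImmersion (r ≫ pullback.fst s₀ sY) := by rw [pullback.lift_fst]; infer_instance
  haveI : IsImmersion r := IsImmersion.of_comp r (pullback.fst s₀ sY)
  haveI : LocallyOfFiniteType sP := inferInstance
  haveI : IsLocallyNoetherian P := LocallyOfFiniteType.isLocallyNoetherian sP
  haveI : QuasiCompact r := by
    haveI : QuasiCompact (r ≫ pullback.snd s₀ sY ≫ sY) := by
      rw [pullback.lift_snd_assoc, hf]; infer_instance
    exact QuasiCompact.of_comp r (pullback.snd s₀ sY ≫ sY)
  haveI : IsOpenImmersion r.toImage := inferInstance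
  haveI : IsSchemeTheoreticallyDominant r.toImage := inferInstance
  haveI : IsReduced r.image := IsSchemeTheoreticallyDominant.isReduced r.toImage
  haveI : IrreducibleSpace r.image := by
    have h := ((IrreducibleSpace.isIrreducible_univ X).image _ r.toImage.continuous.continuousOn).closure
    rw [Set.image_univ, r.toImage.denseRange.closure_range] at h
    exact irreducibleSpace_def _ |>.mpr h
  haveI : IsIntegral r.image := isIntegral_of_irreducibleSpace_of_isReduced _
  letI ov : r.image.Over (Spec (CommRingCat.of k)) := ⟨r.imageι ≫ sP⟩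
  haveI : IsProper (r.image ↘ Spec (CommRingCat.of k)) := inferInstanceAs (IsProper (r.imageι ≫ sP))
  have hdim : topologicalKrullDim r.image = 1 := by
    have hgen : r.toImage (genericPoint X) = genericPoint r.image := genericPoint_eq_of_isOpenImmersion r.toImage
    have h := FibDimLib.topologicalKrullDim_closure_of_isOpenEmbedding (r.imageι ≫ sP) r.toImage.isOpenEmbedding (genericPoint X)
    rw [(genericPoint_spec X).def, hgen, (genericPoint_spec r.image).def,
      (Homeomorph.Set.univ ↥X).isHomeomorph.topologicalKrullDim_eq,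
      (Homeomorph.Set.univ ↥r.image).isHomeomorph.topologicalKrullDim_eq, hdX] at h
    exact h.symm
  refine ⟨r.image, ov, r.toImage, r.imageι ≫ pullback.snd s₀ sY, inferInstance, ?_, ?_, ?_, inferInstance, hdim,
    CurveAmpLib.exists_proj k r.image hdim.le⟩
  · rw [r.toImage_imageι_assoc, pullback.lift_snd]
  · show r.toImage ≫ r.imageι ≫ pullback.snd s₀ sY ≫ sY = _
    rw [r.toImage_imageι_assoc, pullback.lift_snd_assoc, hf]
  · show (r.imageι ≫ pullback.snd s₀ sY) ≫ sY = r.imageι ≫ sP
    rw [Category.assoc]

end Groth.Agent.S6563
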