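import Groth.Statements.S6564
-- import your own Groth.Agent.* helpers here

set_option autoImplicit false
universe u
open CategoryTheory CategoryTheory.Limits AlgebraicGeometry
open Curves

namespace Groth.Agent.S6564

/-- Let X be proper over the field k of dimension at most 1. If X has a g^r_d (an invertible module L of
degree d with an ordered family of r + 1 global sections linearly independent over k), then X has a
g^s_d for every 0 ≤ s ≤ r. -/
theorem result (k : Type u) [Field k] (X : Scheme.{u}) [X.Over (Spec (CommRingCat.of k))] [IsProper (X ↘ (Spec (CommRingCat.of k)))] (hdim : topologicalKrullDim X ≤ 1)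
    (d r : ℕ) (L : X.Modules) (σ : Fin (r + 1) → LinSer.Sect X L) (hL : LinSer.IsLinSer k X L d r σ)
    (s : ℕ) (hs : s ≤ r) :
    ∃ (L' : X.Modules) (τ : Fin (s + 1) → LinSer.Sect X L'), LinSer.IsLinSer k X L' d s τ := by
  classical
  obtain ⟨hL, hd, hi⟩ := hL
  have hsr : s + 1 ≤ r + 1 := by omega
  refine ⟨L, fun j => σ (Fin.castLE hsr j), hL, hd, fun c hc => ?_⟩
  let c' : Fin (r + 1) → k := fun i => if h : i.1 < s + 1 then c ⟨i.1, h⟩ else 0
  have hcast : ∀ j : Fin (s + 1), c' (Fin.castLE hsr j) = c j := fun j => dif_pos j.2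
  have hout : ∀ i : Fin (r + 1), i ∉ Finset.univ.map (Fin.castLEEmb hsr) → c' i = 0 := fun i hi' =>
    dif_neg fun h => hi' (Finset.mem_map.2 ⟨⟨i.1, h⟩, Finset.mem_univ _, rfl⟩)
  have h := hi c' ?_
  · funext j
    rw [← hcast j]
    exact congrFun h _
  · refine (Eq.symm ?_).trans hc
    rw [← Finset.sum_subset (Finset.subset_univ (Finset.univ.map (Fin.castLEEmb hsr)))
      (fun i _ hi' => by simp [hout i hi'])]
    simp [hcast]

end Groth.Agent.S6564
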