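import Groth.Statements.S6572
import Groth.Agent.HurwitzLib.SmoothCurve

set_option autoImplicit false
universe u
open CategoryTheory CategoryTheory.Limits AlgebraicGeometry
open Curves

namespace Groth.Agent.S6572

open IsLocalRing KaehlerDifferential

theorem main (k : Type u) [Field k]
    (X Y : Scheme.{u}) [X.Over (Spec (CommRingCat.of k))] [Y.Over (Spec (CommRingCat.of k))]
    [IsIntegral X] [IsProper (X ↘ (Spec (CommRingCat.of k)))] [Smooth (X ↘ (Spec (CommRingCat.of k)))] (hdX : topologicalKrullDim X = 1)
    [IsIntegral Y] [IsProper (Y ↘ (Spec (CommRingCat.of k)))] [Smooth (Y ↘ (Spec (CommRingCat.of k)))] (hdY : topologicalKrullDim Y = 1)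
    (f : X ⟶ Y) (hf : f ≫ (Y ↘ (Spec (CommRingCat.of k))) = X ↘ (Spec (CommRingCat.of k))) (e : f (genericPoint X) = genericPoint Y)
    (x : X) (hx : IsClosed ({x} : Set X)) :
    letI := (f.stalkMap x).hom.toAlgebra
    letI := (f.residueFieldMap x).hom.toAlgebra
    ((((Ideal.ramificationIdx (maximalIdeal (X.presheaf.stalk x)) (Y.presheaf.stalk (f x)) - 1 : ℕ) : ℕ∞) ≤ Module.length (X.presheaf.stalk x) (KaehlerDifferential (Y.presheaf.stalk (f x)) (X.presheaf.stalk x))) ∧
      ((Module.length (X.presheaf.stalk x) (KaehlerDifferential (Y.presheaf.stalk (f x)) (X.presheaf.stalk x)) = ((Ideal.ramificationIdx (maximalIdeal (X.presheaf.stalk x)) (Y.presheaf.stalk (f x)) - 1 : ℕ) : ℕ∞)) ↔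
        (Algebra.IsSeparable (Y.residueField (f x)) (X.residueField x) ∧ ((Ideal.ramificationIdx (maximalIdeal (X.presheaf.stalk x)) (Y.presheaf.stalk (f x)) : ℕ) : Y.residueField (f x)) ≠ 0))) := by
  classical
  haveI : IsProper (f ≫ (Y ↘ Spec (CommRingCat.of k))) := by rw [hf]; infer_instance
  haveI : IsProper f := IsProper.of_comp f (Y ↘ Spec (CommRingCat.of k))
  have hy : IsClosed ({f x} : Set Y) := by
    have h := f.isClosedMap _ hx
    rwa [Set.image_singleton] at h
  let A := Y.presheaf.stalk (f x)
  let B := X.presheaf.stalk x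
  letI algkA : Algebra k A := Curv2.stalkAlgebra k Y (f x)
  letI algkB : Algebra k B := Curv2.stalkAlgebra k X x
  letI algAB : Algebra A B := (f.stalkMap x).hom.toAlgebra
  letI algκ := (f.residueFieldMap x).hom.toAlgebra
  haveI : IsScalarTower k A B := IsScalarTower.of_algebraMap_eq fun c => by
    refine (HurwitzLib.stalkTo_stalkMap hf rfl c).symm.trans ?_
    rw [HurwitzLib.stalkTo_rfl]
    rfl
  haveI : IsLocalHom (algebraMap A B) := inferInstanceAs (IsLocalHom (f.stalkMap x).hom)
  haveI : IsDiscreteValuationRing A := HurwitzLib.dvr_stalk_closed (k := k) hdY hy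
  haveI : IsDiscreteValuationRing B := HurwitzLib.dvr_stalk_closed (k := k) hdX hx
  obtain ⟨hA1, -, -, S, hS⟩ := HurwitzLib.exists_smooth_data (k := k) hdY hy
  obtain ⟨hB1, hB2, hnu, T, hT⟩ := HurwitzLib.exists_smooth_data (k := k) hdX hx
  haveI : Algebra.EssFiniteType k A := hA1
  haveI : Algebra.EssFiniteType k B := hB1
  haveI : Algebra.FormallySmooth k B := hB2
  have hφ : Function.Injective (algebraMap A B) := fun a b h => by
    letI := HurwitzLib.ffAlgebra e
    apply IsFractionRing.injective A Y.functionField
    apply (algebraMap Y.functionField X.functionField).injective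
    rw [← HurwitzLib.stalkTo_compat e (x := x) rfl, ← HurwitzLib.stalkTo_compat e (x := x) rfl,
      HurwitzLib.stalkTo_rfl]
    exact congrArg _ h
  haveI : Module.Finite k (ResidueField A) := HurwitzLib.finite_residueField (k := k) hy
  haveI : Module.Finite k (ResidueField B) := HurwitzLib.finite_residueField (k := k) hx
  haveI : IsLocalization.AtPrime B (maximalIdeal B) :=
    IsLocalization.self fun u hu => by_contra fun h => hu h
  have he : (Module.length B (B ⧸ (maximalIdeal A).map (algebraMap A B))).toNat =
      Ideal.ramificationIdx (maximalIdeal B) A := by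
    rw [HurwitzLib.ramificationIdx_eq_length (R := A) (S := B) (T := B) (maximalIdeal B),
      show (maximalIdeal B).under A = maximalIdeal A from
        IsLocalRing.maximalIdeal_comap (algebraMap A B)]
  have h := HurwitzLib.omega_length hnu S hS T hT hφ _ he
  have hiff : Algebra.IsSeparable (ResidueField A) (ResidueField B) ↔
      Algebra.IsSeparable (Y.residueField (f x)) (X.residueField x) := by
    constructor
    · intro hs
      haveI := hs
      refine Algebra.IsSeparable.of_equiv_equiv (RingEquiv.refl (ResidueField A))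
        (RingEquiv.refl (ResidueField B)) (RingHom.ext fun c => ?_)
      obtain ⟨c, rfl⟩ := IsLocalRing.residue_surjective c
      rfl
    · intro hs
      haveI := hs
      refine Algebra.IsSeparable.of_equiv_equiv (RingEquiv.refl (Y.residueField (f x)))
        (RingEquiv.refl (X.residueField x)) (RingHom.ext fun c => ?_)
      obtain ⟨c, rfl⟩ := IsLocalRing.residue_surjective c
      rfl
  rw [hiff] at h
  exact h

/-- Let k be a field and f : X → Y a morphism over k of smooth proper curves over k (proper, smooth,
integral, of dimension one) which is generically étale (étale on a nonempty open of X) and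
nonconstant (f(ξ_X) = ξ_Y for the generic points), with H^0(X, O_X) = H^0(Y, O_Y) = k. For a closed
point x ∈ X with image y, write e_x for the ramification index of the extension of discrete
valuation rings O_{Y,y} → O_{X,x} and d_x for the length of the O_{X,x}-module Ω_{O_{X,x}/O_{Y,y}}.
Then e_x − 1 ≤ d_x, with equality exactly when O_{Y,y} → O_{X,x} is tame: the residue field
extension κ(x)/κ(y) is separable and e_x is not divisible by the characteristic of κ(y) (e_x ≠ 0 in
κ(y)). (The published statement also identifies d_x with the multiplicity of x in the ramification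
divisor; this row takes the length of Ω_{O_{X,x}/O_{Y,y}}, the stalk of Ω_{X/Y} at x, as the
definition of d_x.) -/
theorem result (k : Type u) [Field k]
    (X Y : Scheme.{u}) [X.Over (Spec (CommRingCat.of k))] [Y.Over (Spec (CommRingCat.of k))]
    [IsIntegral X] [IsProper (X ↘ (Spec (CommRingCat.of k)))] [Smooth (X ↘ (Spec (CommRingCat.of k)))] (hdX : topologicalKrullDim X = 1)
    [IsIntegral Y] [IsProper (Y ↘ (Spec (CommRingCat.of k)))] [Smooth (Y ↘ (Spec (CommRingCat.of k)))] (hdY : topologicalKrullDim Y = 1)
    (hX0 : Module.finrank k (Coh.HH X (Coh.structureModule X) 0) = 1) (hY0 : Module.finrank k (Coh.HH Y (Coh.structureModule Y) 0) = 1)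
    (f : X ⟶ Y) (hf : f ≫ (Y ↘ (Spec (CommRingCat.of k))) = X ↘ (Spec (CommRingCat.of k))) (e : f (genericPoint X) = genericPoint Y)
    (het : ∃ U : X.Opens, (U : Set X).Nonempty ∧ Etale (U.ι ≫ f))
    (x : X) (hx : IsClosed ({x} : Set X)) :
    letI := (f.stalkMap x).hom.toAlgebra
    letI := (f.residueFieldMap x).hom.toAlgebra
    ((((Ideal.ramificationIdx (IsLocalRing.maximalIdeal (X.presheaf.stalk x)) (Y.presheaf.stalk (f x)) - 1 : ℕ) : ℕ∞) ≤ Module.length (X.presheaf.stalk x) (KaehlerDifferential (Y.presheaf.stalk (f x)) (X.presheaf.stalk x))) ∧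
      ((Module.length (X.presheaf.stalk x) (KaehlerDifferential (Y.presheaf.stalk (f x)) (X.presheaf.stalk x)) = ((Ideal.ramificationIdx (IsLocalRing.maximalIdeal (X.presheaf.stalk x)) (Y.presheaf.stalk (f x)) - 1 : ℕ) : ℕ∞)) ↔
        (Algebra.IsSeparable (Y.residueField (f x)) (X.residueField x) ∧ ((Ideal.ramificationIdx (IsLocalRing.maximalIdeal (X.presheaf.stalk x)) (Y.presheaf.stalk (f x)) : ℕ) : Y.residueField (f x)) ≠ 0))) := by
  exact main k X Y hdX hdY f hf e x hx

end Groth.Agent.S6572
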