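import Groth.Statements.S6573
import Groth.Agent.NodalLib.NodeFamilyCpl

set_option autoImplicit false
set_option backward.isDefEq.respectTransparency false
set_option backward.isDefEq.respectTransparency.types false
universe u
open CategoryTheory CategoryTheory.Limits AlgebraicGeometry
open Curves

namespace Groth.Agent.S6573

/-- Let f : T → S be a morphism of schemes, t ∈ T with image s ∈ S. Assume that the local ring O_{S,s}
is Noetherian, that f is locally of finite type, that f is flat at the point t, and that t is a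
split node of the fibre T_s — here taken in the form: t is a closed point of T_s and the completion
of O_{T_s,t} is isomorphic, compatibly with κ(s), to κ(s)[[x,y]]/(xy). Then there are h in the
maximal ideal of the completion Â of O_{S,s} and an isomorphism of the completion of O_{T,t} with
Â[[x,y]]/(xy − h) compatible with the maps from O_{S,s} (hence an isomorphism of Â-algebras). -/
theorem result {T S : Scheme.{u}} (f : T ⟶ S) [LocallyOfFiniteType f] (t : T)
    [IsNoetherianRing (S.presheaf.stalk (f t))] (hfl : (f.stalkMap t).hom.Flat)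
    (ht : letI : (f.fiber (f t)).Over (Spec (S.residueField (f t))) := ⟨f.fiberToSpecResidueField (f t)⟩
      letI := Curv2.stalkAlgebra (S.residueField (f t)) (f.fiber (f t)) (f.asFiber t)
      IsClosed ({f.asFiber t} : Set (f.fiber (f t))) ∧
        Curv2.IsOrdDoublePt (S.residueField (f t)) ((f.fiber (f t)).presheaf.stalk (f.asFiber t))) :
    ∃ h ∈ IsLocalRing.maximalIdeal (Curv2.cpl (S.presheaf.stalk (f t))),
      ∃ e : Curv2.cpl (T.presheaf.stalk t) ≃+*
          (MvPowerSeries (Fin 2) (Curv2.cpl (S.presheaf.stalk (f t))) ⧸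
            Ideal.span {(MvPowerSeries.X 0 * MvPowerSeries.X 1 - MvPowerSeries.C h : MvPowerSeries (Fin 2) (Curv2.cpl (S.presheaf.stalk (f t))))}),
        ∀ a : S.presheaf.stalk (f t),
          e (algebraMap (T.presheaf.stalk t) (Curv2.cpl (T.presheaf.stalk t)) ((f.stalkMap t).hom a)) =
            Ideal.Quotient.mk _ (MvPowerSeries.C (algebraMap (S.presheaf.stalk (f t)) (Curv2.cpl (S.presheaf.stalk (f t))) a)) := by
  obtain ⟨-, e₀, he₀⟩ := ht
  let A := Curv2.cpl (S.presheaf.stalk (f t))
  have hI : (Ideal.span {(MvPowerSeries.X 0 * MvPowerSeries.X 1 :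
      MvPowerSeries (Fin 2) (IsLocalRing.ResidueField (S.presheaf.stalk (f t))))}) = Ideal.span
      {(MvPowerSeries.C (NodalLib.cplRes _ (0 : A)) * MvPowerSeries.X 0 ^ 2 +
        MvPowerSeries.C (NodalLib.cplRes _ (1 : A)) * MvPowerSeries.X 0 * MvPowerSeries.X 1 +
        MvPowerSeries.C (NodalLib.cplRes _ (0 : A)) * MvPowerSeries.X 1 ^ 2)} := by
    simp
  obtain ⟨h, hh, e, he⟩ := NodalLib.exists_node_completion f t hfl 0 1 0 (by simp)
    (e₀.trans (Ideal.quotEquivOfEq hI)) (fun r => by
      show Ideal.quotEquivOfEq hI (e₀ _) = _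
      exact (congrArg (Ideal.quotEquivOfEq hI) (he₀ r)).trans (Ideal.quotEquivOfEq_mk _ _))
  have hJ : Ideal.span {(MvPowerSeries.C (0 : A) * MvPowerSeries.X 0 ^ 2 +
      MvPowerSeries.C (1 : A) * MvPowerSeries.X 0 * MvPowerSeries.X 1 +
      MvPowerSeries.C (0 : A) * MvPowerSeries.X 1 ^ 2 - MvPowerSeries.C h : MvPowerSeries (Fin 2) A)} =
      Ideal.span {(MvPowerSeries.X 0 * MvPowerSeries.X 1 - MvPowerSeries.C h : MvPowerSeries (Fin 2) A)} := by
    simp
  refine ⟨h, hh, e.trans (Ideal.quotEquivOfEq hJ), fun r => ?_⟩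
  show Ideal.quotEquivOfEq hJ (e _) = _
  exact (congrArg (Ideal.quotEquivOfEq hJ) (he r)).trans (Ideal.quotEquivOfEq_mk _ _)

end Groth.Agent.S6573
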