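import Groth.Statements.S6577
import Groth.Agent.DivDualLib.Main
import Groth.Agent.ProperTraceLib.Basic

set_option autoImplicit false
set_option backward.isDefEq.respectTransparency false
set_option backward.isDefEq.respectTransparency.types false
set_option maxHeartbeats 2000000
set_option synthInstance.maxHeartbeats 200000
set_option linter.style.haveILetI false
universe u
open CategoryTheory CategoryTheory.Limits AlgebraicGeometry
attribute [local instance] HasDerivedCategory.standard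
open Curves

namespace Groth.Agent.S6577

/-- Let X be proper over the field k of dimension ≤ 1, i : Y → X a closed immersion, and ω_X, ω_Y the
dualizing modules of X and of Y over k (degree -1 cohomology sheaves of the shriek of O for the
structure morphisms, assuming the derived pushforwards on D_QCoh and their right adjoints exist).
Then i_*ω_Y ≅ Hom_{O_X}(i_*O_Y, ω_X), where the sheaf Hom is taken as the right adjoint of i_*O_Y ⊗
− (assumed to exist). (Existence of an isomorphism only.) -/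
theorem result (k : Type u) [Field k] (X : Scheme.{u}) [X.Over (Spec (CommRingCat.of k))] [IsProper (X ↘ (Spec (CommRingCat.of k)))] (hdim : topologicalKrullDim X ≤ 1)
    [DCoh.HasRpush (X ↘ (Spec (CommRingCat.of k)))] (h : DCoh.RpushPreservesQCoh (X ↘ (Spec (CommRingCat.of k)))) [DCoh.HasShriek (X ↘ (Spec (CommRingCat.of k))) h]
    (OY : DCoh.DQCoh (Spec (CommRingCat.of k))) (hOY : Nonempty (OY.obj ≅ DCoh.inD (Spec (CommRingCat.of k)) (Coh.structureModule (Spec (CommRingCat.of k)))))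
    {Y : Scheme.{u}} (i : Y ⟶ X) [IsClosedImmersion i]
    [DCoh.HasRpush (i ≫ (X ↘ (Spec (CommRingCat.of k))))] (hY : DCoh.RpushPreservesQCoh (i ≫ (X ↘ (Spec (CommRingCat.of k))))) [DCoh.HasShriek (i ≫ (X ↘ (Spec (CommRingCat.of k)))) hY]
    [DCoh.HasSheafHom ((Coh.push i).obj (Coh.structureModule Y))] :
    Nonempty ((Coh.push i).obj (DCoh.dualizingMod (i ≫ (X ↘ (Spec (CommRingCat.of k)))) hY OY 1) ≅
      (DCoh.sheafHom ((Coh.push i).obj (Coh.structureModule Y))).obj (DCoh.dualizingMod (X ↘ (Spec (CommRingCat.of k))) h OY 1)) := by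
  obtain ⟨eO⟩ := hOY
  let f := X ↘ Spec (CommRingCat.of k)
  letI : Y.Over (Spec (CommRingCat.of k)) := ⟨i ≫ f⟩
  haveI : IsProper (Y ↘ Spec (CommRingCat.of k)) := show IsProper (i ≫ f) from inferInstance
  haveI : DCoh.HasRpush (Y ↘ Spec (CommRingCat.of k)) := show DCoh.HasRpush (i ≫ f) from inferInstance
  haveI : IsLocallyNoetherian X := LocallyOfFiniteType.isLocallyNoetherian f
  haveI : CompactSpace X := QuasiCompact.compactSpace_of_compactSpace f
  haveI : AlgebraicGeometry.IsNoetherian X := ⟨⟩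
  haveI : IsLocallyNoetherian Y := LocallyOfFiniteType.isLocallyNoetherian i
  haveI : CompactSpace Y := i.isClosedEmbedding.compactSpace
  haveI : AlgebraicGeometry.IsNoetherian Y := ⟨⟩
  haveI : ∀ (R : CommRingCat.{u}), PreservesFiniteLimits (tilde.functor R) := fun R =>
    HensSchLib.tilde_preservesFiniteLimits R
  haveI : ∀ (U V : Scheme.{u}) (j : U ⟶ V) [IsOpenImmersion j],
      PreservesFiniteLimits (Scheme.Modules.restrictFunctor j) := fun U V j _ => inferInstance
  have hdX : topologicalKrullDim X ≤ ((1 : ℕ) : WithBot ℕ∞) := hdim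
  have hdY : topologicalKrullDim Y ≤ ((1 : ℕ) : WithBot ℕ∞) :=
    i.isEmbedding.isInducing.topologicalKrullDim_le.trans hdX
  -- both modules represent the dual of the first cohomology
  obtain ⟨hdualX, hzX, -⟩ := Dual3Lib.amplitude f h _ (DCoh.shriekAdj f h) OY eO 1 hdX
  obtain ⟨hdualY, hzY, -⟩ := Dual3Lib.amplitude (Y ↘ Spec (CommRingCat.of k)) hY _
    (DCoh.shriekAdj (i ≫ f) hY) OY eO 1 hdY
  let eW := eO ≪≫ Dual3Lib.inDSpecIso.symm
  obtain ⟨tX, htX⟩ := Dual3Lib.exists_trace h _ (DCoh.shriekAdj f h) 1 0 (-((1 : ℕ) : ℤ)) (by omega) OY eW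
    ((DerivedCategory.isGE_iff _ _).2 fun p hp => hzX p (Or.inl hp))
  obtain ⟨tY, htY⟩ := Dual3Lib.exists_trace (X := Y) hY _ (DCoh.shriekAdj (i ≫ f) hY) 1 0 (-((1 : ℕ) : ℤ)) (by omega)
    OY eW ((DerivedCategory.isGE_iff _ _).2 fun p hp => hzY p (Or.inl hp))
  let V := ((DerivedCategory.homologyFunctor (ModuleCat.{u} k) 0).obj (Dual.inD k k))
  let ωX := DCoh.dualizingMod f h OY 1
  let ωY := DCoh.dualizingMod (i ≫ f) hY OY 1
  have hcX : Coh.IsCoh ωX := Dual3Lib.isCohD_of_isDualizingSch hdualX _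
  have hcY : Coh.IsCoh ωY := Dual3Lib.isCohD_of_isDualizingSch hdualY _
  obtain ⟨q⟩ := ExtShLib.nonempty_push_iso_quotMod i
  have hpO : Coh.IsCoh (ExtShLib.pO i) := QCohLib.isCoh_of_iso q (CurvLib.isCoh_quotMod i.ker)
  let G := (ExtShLib.shriek i).obj ωX
  have ek : CohCmpLib.homMod (ExtShLib.pO i) ωX ≅ (Scheme.Modules.pushforward i).obj G :=
    (ExtShLib.killedIso i).app ωX
  have hGq : Coh.IsQCoh G := by
    haveI := (QCohLib.isCoh_of_iso ek (HomCohLib.isCoh_homMod hpO hcX)).1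
    haveI := CycKSuppLib.isIso_counit i G
    exact @QCohLib.isQCoh_of_iso _ _ _ (asIso ((Scheme.Modules.pullbackPushforwardAdjunction i).counit.app G))
      (KFlatLib.isQCoh_pullback i ((Scheme.Modules.pushforward i).obj G))
  let trX : ∀ F : X.Modules, Coh.IsQCoh F → (F ⟶ ωX) ≃ (Coh.HH X F 1 →ₗ[k] V) := fun F hF =>
    Equiv.ofBijective (fun φ => tX.comp (Canon.HHlin k φ 1)) ⟨fun a b hab =>
      (htX F hF (fun j hj => CurvLib.subsingleton_HH_of_dim_le F hdX j hj) (tX.comp (Canon.HHlin k a 1))).unique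
        (fun x => rfl) (fun x => (LinearMap.congr_fun hab x)), fun ψ => by
      obtain ⟨φ, hφ, -⟩ := htX F hF (fun j hj => CurvLib.subsingleton_HH_of_dim_le F hdX j hj) ψ
      exact ⟨φ, LinearMap.ext fun x => (hφ x).symm⟩⟩
  let trY : ∀ F : Y.Modules, Coh.IsQCoh F → (F ⟶ ωY) ≃ (Coh.HH Y F 1 →ₗ[k] V) := fun F hF =>
    Equiv.ofBijective (fun φ => tY.comp (Canon.HHlin k φ 1)) ⟨fun a b hab =>
      (htY F hF (fun j hj => CurvLib.subsingleton_HH_of_dim_le F hdY j hj) (tY.comp (Canon.HHlin k a 1))).unique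
        (fun x => rfl) (fun x => (LinearMap.congr_fun hab x)), fun ψ => by
      obtain ⟨φ, hφ, -⟩ := htY F hF (fun j hj => CurvLib.subsingleton_HH_of_dim_le F hdY j hj) ψ
      exact ⟨φ, LinearMap.ext fun x => (hφ x).symm⟩⟩
  let adj := ExtShLib.shriekAdj i
  have hpush : ∀ F : Y.Modules, Coh.IsQCoh F → Coh.IsQCoh ((Scheme.Modules.pushforward i).obj F) := fun F hF =>
    QCohLib.isQCoh_pushforward i F
  have hiY : i ≫ (X ↘ Spec (CommRingCat.of k)) = Y ↘ Spec (CommRingCat.of k) := rfl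
  let pe := fun F : Y.Modules => DivDualLib.pushEquiv (k := k) i hiY F 1
  let trG : ∀ F : Y.Modules, Coh.IsQCoh F → (F ⟶ G) ≃ (Coh.HH Y F 1 →ₗ[k] V) := fun F hF =>
    (adj.homEquiv F ωX).symm.trans ((trX _ (hpush F hF)).trans
      { toFun := fun ξ => ξ.comp (pe F).toLinearMap
        invFun := fun ξ => ξ.comp (pe F).symm.toLinearMap
        left_inv := fun ξ => by ext x; simp
        right_inv := fun ξ => by ext x; simp })
  have hcomp : ∀ {A B C : X.Modules} (a : A ⟶ B) (b : B ⟶ C) (x : Coh.HH X A 1),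
      Canon.HHlin k (a ≫ b) 1 x = Canon.HHlin k b 1 (Canon.HHlin k a 1 x) := fun {A B C} a b x => by
    show Sheaf.H.map ((SheafOfModules.toSheaf X.ringCatSheaf).map (a ≫ b)) 1 x = _
    rw [Functor.map_comp, Sheaf.H.map_comp_apply]
    rfl
  obtain ⟨v⟩ := DivDualLib.nonempty_iso_of_natEquiv hcY.1 hGq (fun F => Coh.HH Y F 1 →ₗ[k] V)
    (fun ψ ξ => ξ.comp (Canon.HHlin k ψ 1)) trY trG
    (fun hF hG ψ φ => LinearMap.ext fun x => by
      show tY (Sheaf.H.map ((SheafOfModules.toSheaf Y.ringCatSheaf).map (ψ ≫ φ)) 1 x) = _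
      rw [Functor.map_comp, Sheaf.H.map_comp_apply]
      rfl)
    (fun {F F'} hF hG ψ φ => LinearMap.ext fun x => by
      show tX (Canon.HHlin k ((adj.homEquiv F ωX).symm (ψ ≫ φ)) 1 (DivDualLib.pushEquiv i hiY F 1 x)) =
        tX (Canon.HHlin k ((adj.homEquiv F' ωX).symm φ) 1 (DivDualLib.pushEquiv i hiY F' 1 (Canon.HHlin k ψ 1 x)))
      rw [Adjunction.homEquiv_naturality_left_symm, DivDualLib.pushEquiv_natural]
      exact congrArg tX (hcomp _ _ _))
  exact ⟨(Scheme.Modules.pushforward i).mapIso v ≪≫ ek.symm ≪≫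
    ((HomCohLib.homAdj (ExtShLib.pO i)).rightAdjointUniq
      (DCoh.sheafHomAdj ((Coh.push i).obj (Coh.structureModule Y)))).app ωX⟩

end Groth.Agent.S6577
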