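import Groth.Statements.S6578
import Groth.Agent.LinSerMapLib.Basic

set_option autoImplicit false
universe u
open CategoryTheory CategoryTheory.Limits AlgebraicGeometry
open Curves

namespace Groth.Agent.S6578

/-- Let k be a field and X a proper curve over k all of whose local rings are regular (X integral,
proper, of dimension one), and let (L, V) be a g^r_d on X, given by an invertible module L of degree
d and an ordered basis s_0, …, s_r of V ⊆ Γ(X, L) (k-linearly independent global sections). Then
there exist a morphism φ : X → P^r_k = Proj k[T_0, …, T_r] over k and a map α : φ^*O(1) → L sending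
φ^*T_i to s_i for each i (so φ^*T_0, …, φ^*T_r go to a basis of V). -/
theorem result (k : Type u) [Field k] (X : Scheme.{u}) [X.Over (Spec (CommRingCat.of k))]
    [IsIntegral X] [IsProper (X ↘ (Spec (CommRingCat.of k)))] (hdim : topologicalKrullDim X = 1) (hreg : ∀ x : X, IsRegularLocalRing (X.presheaf.stalk x))
    (d r : ℕ) (L : X.Modules) (s : Fin (r + 1) → LinSer.Sect X L) (hL : LinSer.IsLinSer k X L d r s) :
    ∃ (φ : X ⟶ CohB1.ProjSpace r k) (α : (Scheme.Modules.pullback φ).obj (Twist.twistProjSpace r k 1) ⟶ L),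
      φ ≫ CohB1.ProjSpace.toSpec r k = X ↘ (Spec (CommRingCat.of k)) ∧
        ∀ i : Fin (r + 1), (α.val.app (Opposite.op ⊤)).hom (OmegaSh.pullSect φ (Twist.twistProjSpace r k 1) ⊤ (Twist.globalOf (CohB1.polyGrading r k) (⟨MvPolynomial.X i, MvPolynomial.isHomogeneous_X k i⟩ : (CohB1.polyGrading r k) 1))) = s i := by
  classical
  obtain ⟨hinv, -, hind⟩ := hL
  haveI := CurvLib.isNoetherian k (X := X)
  have hs : ∃ i, s i ≠ 0 := ⟨0, fun h0 => by
    have h := congrFun (hind (Pi.single 0 1) ?_) 0
    · simp at h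
    · rw [Finset.sum_eq_single (0 : Fin (r + 1)) (fun i _ hi => by rw [Pi.single_eq_of_ne hi, map_zero, zero_smul])
        (fun h => absurd (Finset.mem_univ _) h), h0, smul_zero]⟩
  obtain ⟨L', hL', ι, v, -, hv, hgen⟩ := LinSerMapLib.exists_base_free hreg hdim.le hinv s hs
  obtain ⟨φ, τ, hφ, hτ⟩ := CurveH0Lib.exists_toPn_sections (X ↘ Spec (CommRingCat.of k)) hL' v hgen
  exact ⟨φ, τ.hom ≫ ι, hφ, fun i => (congrArg (ι.app ⊤) (hτ i)).trans (hv i)⟩

end Groth.Agent.S6578
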