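import Groth.Statements.S6579
import Groth.Agent.LinSerMapLib.Deg

set_option autoImplicit false
universe u
open CategoryTheory CategoryTheory.Limits AlgebraicGeometry
open Curves

namespace Groth.Agent.S6579

/-- Let k be a field and X a proper curve over k all of whose local rings are regular (X integral,
proper, of dimension one), (L, V) a g^1_d on X with ordered basis s_0, s_1 of V, and φ : X → P^1_k a
morphism over k together with α : φ^*O(1) → L sending φ^*T_i to s_i (the morphism attached to the
linear series). Then either (1) φ is nonconstant and has degree at most d — here: φ does not factor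
through a closed point, and k(X) has dimension at most d over the local ring of P^1_k at the image
of the generic point of X (that image is then the generic point, so this is [k(X) : k(P^1_k)] ≤ d) —
or (2) φ maps X (set-theoretically) to a single closed point of P^1_k, and in that case H^0(X, O_X)
is bigger than k. -/
theorem result (k : Type u) [Field k] (X : Scheme.{u}) [X.Over (Spec (CommRingCat.of k))]
    [IsIntegral X] [IsProper (X ↘ (Spec (CommRingCat.of k)))] (hdim : topologicalKrullDim X = 1) (hreg : ∀ x : X, IsRegularLocalRing (X.presheaf.stalk x))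
    (d : ℕ) (L : X.Modules) (s : Fin (1 + 1) → LinSer.Sect X L) (hL : LinSer.IsLinSer k X L d 1 s)
    (φ : X ⟶ CohB1.ProjSpace 1 k) (α : (Scheme.Modules.pullback φ).obj (Twist.twistProjSpace 1 k 1) ⟶ L)
    (hφ : φ ≫ CohB1.ProjSpace.toSpec 1 k = X ↘ (Spec (CommRingCat.of k)) ∧
        ∀ i : Fin (1 + 1), (α.val.app (Opposite.op ⊤)).hom (OmegaSh.pullSect φ (Twist.twistProjSpace 1 k 1) ⊤ (Twist.globalOf (CohB1.polyGrading 1 k) (⟨MvPolynomial.X i, MvPolynomial.isHomogeneous_X k i⟩ : (CohB1.polyGrading 1 k) 1))) = s i) :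
    ((¬ ∃ p : CohB1.ProjSpace 1 k, IsClosed ({p} : Set (CohB1.ProjSpace 1 k)) ∧ Set.range φ ⊆ {p}) ∧
      (letI := (φ.stalkMap (genericPoint X)).hom.toAlgebra
       Module.finrank ((CohB1.ProjSpace 1 k).presheaf.stalk (φ (genericPoint X))) X.functionField ≤ d)) ∨
    ((∃ p : CohB1.ProjSpace 1 k, IsClosed ({p} : Set (CohB1.ProjSpace 1 k)) ∧ Set.range φ ⊆ {p}) ∧
      Module.finrank k (Coh.HH X (Coh.structureModule X) 0) ≠ 1) := by
  classical
  obtain ⟨hinv, hdeg, hind⟩ := hL
  obtain ⟨hφ1, hφ2⟩ := hφ
  haveI := CurvLib.isNoetherian k (X := X)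
  letI : (CohB1.ProjSpace 1 k).Over (Spec (CommRingCat.of k)) := ⟨CohB1.ProjSpace.toSpec 1 k⟩
  haveI : IsIntegral (CohB1.ProjSpace 1 k) := VBP1Lib.isIntegral_line k
  haveI : IsProper (CohB1.ProjSpace 1 k ↘ Spec (CommRingCat.of k)) := VBP1Lib.isProper_over k
  have hO1 := VBP1Lib.twist_inv k 1
  by_cases hgen : φ (genericPoint X) = genericPoint (CohB1.ProjSpace 1 k)
  · left
    refine ⟨?_, ?_⟩
    · rintro ⟨p, hp, hr⟩
      have h : genericPoint (CohB1.ProjSpace 1 k) = p := hgen.symm.trans (hr ⟨_, rfl⟩)
      have huniv : ({p} : Set (CohB1.ProjSpace 1 k)) = Set.univ := by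
        rw [← h] at hp ⊢
        exact hp.closure_eq.symm.trans (genericPoint_closure (α := CohB1.ProjSpace 1 k))
      haveI : Subsingleton (CohB1.ProjSpace 1 k) := ⟨fun a b =>
        (Set.mem_singleton_iff.mp (huniv ▸ Set.mem_univ a)).trans (Set.mem_singleton_iff.mp (huniv ▸ Set.mem_univ b)).symm⟩
      have h0 := topologicalKrullDim_zero_of_discreteTopology (CohB1.ProjSpace 1 k)
      rw [VBP1Lib.dim_line k] at h0
      exact absurd h0 (by simp)
    · have hpb : PicF.IsInvertible ((Scheme.Modules.pullback φ).obj (Twist.twistProjSpace 1 k 1)) := AmpleDevLib.isInvertible_pb φ hO1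
      have hα : α ≠ 0 := fun h0 => by
        have h := congrFun (hind (Pi.single 0 1) ?_) 0
        · simp at h
        · refine Finset.sum_eq_zero fun i _ => ?_
          have hi : s i = 0 := (hφ2 i).symm.trans (by rw [h0]; rfl)
          rw [hi, smul_zero]
      have hle := CurvLib.euler_le (k := k) hpb hinv hdim hα
      have h := Groth.Agent.S7640.result k X (CohB1.ProjSpace 1 k) hdim (VBP1Lib.dim_line k) φ hφ1 hgen 1
        (Twist.twistProjSpace 1 k 1) (CurvLib.locFree_of_isInvertible hO1)
      rw [VBP1Lib.deg_twist] at h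
      have hres := LinSerMapLib.residueDegree_generic φ hgen
      simp only [Curv2.deg] at h hdeg
      have : (φ.residueDegree (genericPoint X) : ℤ) ≤ (d : ℤ) := by push_cast at h hdeg ⊢; omega
      exact hres.trans_le (by exact_mod_cast this)
  · right
    have hc : IsClosed ({φ (genericPoint X)} : Set (CohB1.ProjSpace 1 k)) :=
      CurveDualLib.isClosed_of_ne_generic (k := k) (VBP1Lib.dim_line k) hgen
    have hr : Set.range φ ⊆ {φ (genericPoint X)} := by
      rintro _ ⟨z, rfl⟩
      exact (((genericPoint_spec X).specializes trivial).map φ.continuous).mem_closed hc (Set.mem_singleton _)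
    refine ⟨⟨_, hc, hr⟩, fun h0 => ?_⟩
    obtain ⟨v, hv⟩ := LinSerMapLib.proportional_of_constant h0 φ hr
    let w : LinSer.Sect X L := α.app ⊤ v
    have hc' : ∀ i, ∃ c : k, s i = GenusZeroLib.ρ k (X := X) c • w := fun i => by
      obtain ⟨c, hc⟩ := hv (OmegaSh.pullSect φ (Twist.twistProjSpace 1 k 1) ⊤ (Twist.globalOf (CohB1.polyGrading 1 k) (⟨MvPolynomial.X i, MvPolynomial.isHomogeneous_X k i⟩ : (CohB1.polyGrading 1 k) 1)))
      exact ⟨c, ((hφ2 i).symm.trans (congrArg (α.app ⊤) hc)).trans (Scheme.Modules.Hom.app_smul α _ _)⟩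
    choose c hcs using hc'
    by_cases hc0 : c 0 = 0
    · have h := congrFun (hind (Pi.single 0 1) ?_) 0
      · simp at h
      · rw [Finset.sum_eq_single (0 : Fin (1 + 1)) (fun i _ hi => by rw [Pi.single_eq_of_ne hi, map_zero, zero_smul])
          (fun h => absurd (Finset.mem_univ _) h), hcs 0, hc0, map_zero, zero_smul, smul_zero]
    · have h := congrFun (hind ![c 1, - c 0] ?_) 1
      · exact hc0 (neg_eq_zero.mp (by simpa using h))
      · rw [Fin.sum_univ_two, hcs 0, hcs 1]
        show GenusZeroLib.ρ k (X := X) (c 1) • GenusZeroLib.ρ k (X := X) (c 0) • w +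
          GenusZeroLib.ρ k (X := X) (- c 0) • GenusZeroLib.ρ k (X := X) (c 1) • w = 0
        rw [smul_smul, smul_smul, ← add_smul, map_neg, neg_mul, mul_comm (GenusZeroLib.ρ k (X := X) (c 1)),
          add_neg_cancel, zero_smul]

end Groth.Agent.S6579
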