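import Groth.Statements.S6580
import Mathlib


-- import your own Groth.Agent.* helpers here

set_option autoImplicit false
universe v u
open CategoryTheory CategoryTheory.Limits
open CohDer

namespace Groth.Agent.S6580

open CategoryTheory.Pretriangulated in
/-- Let (X, Y, Z, f, g, h) be a distinguished triangle of a pretriangulated category, and let a : X ⟶ X
and c : Z ⟶ Z be idempotents with h ≫ a⟦1⟧ = c ≫ h. Then there is an idempotent b : Y ⟶ Y such that
(a, b, c) is an endomorphism of the triangle. -/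
theorem result {D : Type u} [Category.{v} D] [Preadditive D] [HasZeroObject D] [HasShift D ℤ]
    [∀ n : ℤ, (shiftFunctor D n).Additive] [Pretriangulated D]
    (T : Triangle D) (hT : T ∈ distinguishedTriangles) (a : T.obj₁ ⟶ T.obj₁) (c : T.obj₃ ⟶ T.obj₃)
    (ha : a ≫ a = a) (hc : c ≫ c = c) (comm : T.mor₃ ≫ (shiftFunctor D (1 : ℤ)).map a = c ≫ T.mor₃) :
    ∃ b : T.obj₂ ⟶ T.obj₂, b ≫ b = b ∧ T.mor₁ ≫ b = a ≫ T.mor₁ ∧ T.mor₂ ≫ c = b ≫ T.mor₂ := by
  obtain ⟨b, hb₁, hb₂⟩ := complete_distinguished_triangle_morphism₂ T T hT hT a c comm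
  let e := b ≫ b - b
  have he₁ : T.mor₁ ≫ e = 0 := by
    rw [Preadditive.comp_sub, ← Category.assoc, hb₁, Category.assoc, hb₁, ← Category.assoc, ha, sub_self]
  have he₂ : e ≫ T.mor₂ = 0 := by
    rw [Preadditive.sub_comp, Category.assoc, ← hb₂, ← Category.assoc, ← hb₂, Category.assoc, hc, sub_self]
  have hee : e ≫ e = 0 := by
    obtain ⟨t, ht⟩ := Triangle.yoneda_exact₂ T hT e he₁
    nth_rewrite 2 [ht]
    rw [← Category.assoc, he₂, zero_comp]
  have he : e ≫ b = b ≫ e := by simp [e]
  refine ⟨b + e - (b ≫ e + b ≫ e), ?_, ?_, ?_⟩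
  · let β : CategoryTheory.End T.obj₂ := b
    have hee' : (β * β - β) * (β * β - β) = 0 := hee
    show (β + (β * β - β) - ((β * β - β) * β + (β * β - β) * β)) * (β + (β * β - β) - ((β * β - β) * β + (β * β - β) * β)) = β + (β * β - β) - ((β * β - β) * β + (β * β - β) * β)
    have key : (β + (β * β - β) - ((β * β - β) * β + (β * β - β) * β)) * (β + (β * β - β) - ((β * β - β) * β + (β * β - β) * β)) - (β + (β * β - β) - ((β * β - β) * β + (β * β - β) * β)) = (β * β - β) * (β * β - β) * (4 • (β * β) - 4 • β - 3 • (1 : CategoryTheory.End T.obj₂)) := by noncomm_ring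
    rw [hee', zero_mul, sub_eq_zero] at key
    exact key
  · rw [Preadditive.comp_sub, Preadditive.comp_add, Preadditive.comp_add, ← Category.assoc, hb₁, Category.assoc, he₁]
    simp
  · rw [Preadditive.sub_comp, Preadditive.add_comp, Preadditive.add_comp, Category.assoc, he₂, hb₂]
    simp

end Groth.Agent.S6580
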