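import Groth.Statements.S6584
import Groth.Agent.CohDerLib.Basic
-- import your own Groth.Agent.* helpers here

set_option autoImplicit false
universe v u v' u'
open CategoryTheory CategoryTheory.Limits
open CohDer

namespace Groth.Agent.S6584

open CategoryTheory.Pretriangulated in
/-- Let H : D ⥤ A be a homological functor from a pretriangulated category to an abelian category. The
full subcategory of D on the objects X with H(X⟦n⟧) = 0 for all n ≫ 0 is a strictly full
pretriangulated subcategory (zero object, stable under shifts and isomorphisms, closed under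
extensions) and is saturated: if X ⊞ Y belongs to it then so do X and Y. -/
theorem result {D : Type u} [Category.{v} D] [Preadditive D] [HasZeroObject D] [HasShift D ℤ]
    [∀ n : ℤ, (shiftFunctor D n).Additive] [Pretriangulated D]
    {A : Type u'} [Category.{v'} A] [Abelian A] (H : D ⥤ A) [H.IsHomological] :
    (ObjectProperty.IsTriangulated (fun X : D => ∃ N : ℤ, ∀ n : ℤ, N ≤ n → IsZero (H.obj ((shiftFunctor D n).obj X)))) ∧
    (ObjectProperty.IsClosedUnderIsomorphisms (fun X : D => ∃ N : ℤ, ∀ n : ℤ, N ≤ n → IsZero (H.obj ((shiftFunctor D n).obj X)))) ∧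
    (∀ X Y : D, (∃ N : ℤ, ∀ n : ℤ, N ≤ n → IsZero (H.obj ((shiftFunctor D n).obj (X ⊞ Y)))) →
      (∃ N : ℤ, ∀ n : ℤ, N ≤ n → IsZero (H.obj ((shiftFunctor D n).obj X))) ∧
      (∃ N : ℤ, ∀ n : ℤ, N ≤ n → IsZero (H.obj ((shiftFunctor D n).obj Y)))) := by
  let Q : ObjectProperty D := fun X => ∃ N : ℤ, ∀ n : ℤ, N ≤ n → IsZero (H.obj ((shiftFunctor D n).obj X))
  haveI hiso : Q.IsClosedUnderIsomorphisms :=
    ⟨fun e ⟨N, hN⟩ => ⟨N, fun n hn => (hN n hn).of_iso ((shiftFunctor D n ⋙ H).mapIso e.symm)⟩⟩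
  obtain ⟨O, hO⟩ := HasZeroObject.zero (C := D)
  refine ⟨{ exists_zero := ⟨O, hO, 0, fun n _ => (shiftFunctor D n ⋙ H).map_isZero hO⟩
            toIsStableUnderShift := ⟨fun a => ⟨fun X ⟨N, hN⟩ => ⟨N - a, fun n hn => ?_⟩⟩⟩
            toIsTriangulatedClosed₂ := .mk' fun T hT ⟨N₁, h₁⟩ ⟨N₃, h₃⟩ =>
              ⟨max N₁ N₃, fun n hn => CohDerLib.isZero_map_shift₂ H hT n (h₁ n (le_trans (le_max_left _ _) hn)) (h₃ n (le_trans (le_max_right _ _) hn))⟩ },
    hiso, fun X Y ⟨N, hN⟩ => ⟨⟨N, fun n hn => ?_⟩, ⟨N, fun n hn => ?_⟩⟩⟩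
  · exact (hN (a + n) (by omega)).of_iso (H.mapIso ((shiftFunctorAdd D a n).app X).symm)
  · exact CohDerLib.isZero_of_retract (hN n hn) ((shiftFunctor D n ⋙ H).map biprod.inl) ((shiftFunctor D n ⋙ H).map biprod.fst)
      (by rw [← CategoryTheory.Functor.map_comp, biprod.inl_fst, CategoryTheory.Functor.map_id]; rfl)
  · exact CohDerLib.isZero_of_retract (hN n hn) ((shiftFunctor D n ⋙ H).map biprod.inr) ((shiftFunctor D n ⋙ H).map biprod.snd)
      (by rw [← CategoryTheory.Functor.map_comp, biprod.inr_snd, CategoryTheory.Functor.map_id]; rfl)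

end Groth.Agent.S6584
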