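import Groth.Statements.S6585
import Mathlib


-- import your own Groth.Agent.* helpers here

set_option autoImplicit false
universe v u
open CategoryTheory CategoryTheory.Limits
open CohDer

namespace Groth.Agent.S6585

open CategoryTheory.Pretriangulated in
/-- Let D be a triangulated category and E, K objects of D. Then Hom(E, K⟦i⟧) = 0 for all integers i if
and only if Hom(E', K) = 0 for every E' in ⟨E⟩, the smallest strictly full saturated triangulated
subcategory of D containing E (the objects obtained from E by shifts, finite direct sums, direct
summands and extensions). -/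
theorem result {D : Type u} [Category.{v} D] [Preadditive D] [HasZeroObject D] [HasShift D ℤ]
    [∀ n : ℤ, (shiftFunctor D n).Additive] [Pretriangulated D] [IsTriangulated D]
    (E K : D) :
    (∀ (i : ℤ) (f : E ⟶ (shiftFunctor D i).obj K), f = 0) ↔
      ∀ (E' : D), (ObjectProperty.singleton E).triangEnvelope E' → ∀ f : E' ⟶ K, f = 0 := by
  constructor
  · intro h
    let Q : ObjectProperty D := ((ObjectProperty.singleton K).shiftClosure ℤ).leftOrthogonal
    haveI : Q.IsStableUnderRetracts := ⟨fun {X Y} r hY Z f hZ => by
      have := hY (r.r ≫ f) hZ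
      rw [← Category.id_comp f, ← r.retract, Category.assoc, this, comp_zero]⟩
    have hle : (ObjectProperty.singleton E).triangEnvelope ≤ Q := by
      refine (ObjectProperty.triangEnvelope_le_iff _).2 ?_
      rintro X hX Y f hY
      obtain rfl := (ObjectProperty.singleton_iff _ _).1 hX
      obtain ⟨Z, i, e, hZ⟩ := (ObjectProperty.prop_shiftClosure_iff _ _).1 hY
      obtain rfl := (ObjectProperty.singleton_iff _ _).1 hZ
      exact (cancel_mono e.hom).1 (by rw [h i (f ≫ e.hom), zero_comp])
    intro E' hE' f
    exact hle E' hE' f (ObjectProperty.le_shiftClosure _ K ((ObjectProperty.singleton_iff _ _).2 rfl))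
  · intro h i f
    have hE : (ObjectProperty.singleton E).triangEnvelope E := ObjectProperty.le_triangEnvelope _ E ((ObjectProperty.singleton_iff _ _).2 rfl)
    haveI : (ObjectProperty.singleton E).Nonempty := ⟨E, (ObjectProperty.singleton_iff _ _).2 rfl⟩
    have hE' := (ObjectProperty.singleton E).triangEnvelope.le_shift (-i) E hE
    let g : (shiftFunctor D (-i)).obj E ⟶ K := (shiftFunctor D (-i)).map f ≫ ((shiftFunctorCompIsoId D i (-i) (add_neg_cancel i)).app K).hom
    have hg : g = 0 := h _ hE' g
    apply (shiftFunctor D (-i)).map_injective
    rw [Functor.map_zero, ← cancel_mono ((shiftFunctorCompIsoId D i (-i) (add_neg_cancel i)).app K).hom, zero_comp]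
    exact hg

end Groth.Agent.S6585
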