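import Groth.Statements.S6586
import Mathlib


-- import your own Groth.Agent.* helpers here

set_option autoImplicit false
universe v u
open CategoryTheory CategoryTheory.Limits
open CohDer

namespace Groth.Agent.S6586

/-- Fix a triangulated category D together with an object E in it. Suppose E classically generates D,
i.e. ⟨E⟩ = D; then E is a generator of D: an object K with Hom(E, K⟦n⟧) = 0 for all n is zero. -/
theorem result {D : Type u} [Category.{v} D] [Preadditive D] [HasZeroObject D] [HasShift D ℤ]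
    [∀ n : ℤ, (shiftFunctor D n).Additive] [Pretriangulated D] [IsTriangulated D]
    (E : D) (hE : (ObjectProperty.singleton E).IsClassicalTriangulatedGenerator) :
    CohDer.Generates (fun _ : PUnit.{1} => E) := by
  intro K hK
  set Q : ObjectProperty D := fun X => ∀ (n : ℤ) (f : X ⟶ K⟦n⟧), f = 0 with hQ
  let R : ObjectProperty D := fun Y => ∃ n : ℤ, Nonempty (Y ≅ K⟦n⟧)
  haveI : R.IsStableUnderShift ℤ :=
    ⟨fun a => ⟨fun Y ⟨n, ⟨e⟩⟩ => ⟨n + a, ⟨(shiftFunctor D a).mapIso e ≪≫ ((shiftFunctorAdd D n a).app K).symm⟩⟩⟩⟩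
  haveI : R.leftOrthogonal.IsStableUnderRetracts :=
    ⟨fun {X Y} r hY Z f hZ => by rw [← Category.id_comp f, ← r.retract, Category.assoc, hY (r.r ≫ f) hZ, comp_zero]⟩
  have hE' : (ObjectProperty.singleton E).triangEnvelope ≤ R.leftOrthogonal := by
    rw [ObjectProperty.triangEnvelope_le_iff, ObjectProperty.singleton_le_iff]
    rintro Y f ⟨n, ⟨e⟩⟩
    have := hK PUnit.unit n (f ≫ e.hom)
    rw [← cancel_mono e.hom, this, zero_comp]
  have htop : R.leftOrthogonal K := hE' K (by rw [hE]; trivial)
  rw [IsZero.iff_id_eq_zero]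
  exact htop (𝟙 K) ⟨0, ⟨((shiftFunctorZero D ℤ).app K).symm⟩⟩

end Groth.Agent.S6586
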