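import Groth.Statements.S6592
import Mathlib.CategoryTheory.Triangulated.Pretriangulated
import Mathlib.Algebra.BigOperators.Intervals
import Mathlib.CategoryTheory.Preadditive.AdditiveFunctor

set_option autoImplicit false
universe v u
open CategoryTheory CategoryTheory.Limits
open DerLim

namespace Groth.Agent.S6592

/-- Let D be a triangulated category, (K_m, f_m) a system of objects of D indexed by ℕ (given as a
functor F : ℕ ⥤ D) and n₁ < n₂ < … a strictly increasing sequence. Assume ⨁ K_m and ⨁ K_{n_i} exist.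
If L is a homotopy colimit of (K_m) and L' a homotopy colimit of the subsequence (K_{n_i}) (with the
composite transition maps), then there is an isomorphism L' ≅ L under which the structure map
K_{n_i} ⟶ L' corresponds to K_{n_i} ⟶ L for every i. -/
theorem result {D : Type u} [Category.{v} D] [Preadditive D] [HasZeroObject D] [HasShift D ℤ]
    [∀ n : ℤ, (shiftFunctor D n).Additive] [Pretriangulated D] [IsTriangulated D]
    (F : ℕ ⥤ D) (n : ℕ → ℕ) (hn : StrictMono n)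
    [HasCoproduct (fun m : ℕ => F.obj m)] [HasCoproduct (fun i : ℕ => F.obj (n i))]
    (L : D) (ι : ∀ m : ℕ, F.obj m ⟶ L)
    (hL : DerLim.IsHocolim (fun m : ℕ => F.obj m) (fun m : ℕ => F.map (homOfLE (Nat.le_succ m))) L ι)
    (L' : D) (ι' : ∀ i : ℕ, F.obj (n i) ⟶ L')
    (hL' : DerLim.IsHocolim (fun i : ℕ => F.obj (n i)) (fun i : ℕ => F.map (homOfLE (hn.monotone (Nat.le_succ i)))) L' ι') :
    ∃ e : L' ≅ L, ∀ i : ℕ, ι' i ≫ e.hom = ι (n i) := by
  classical
  let K : ℕ → D := fun m => F.obj m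
  let K' : ℕ → D := fun i => F.obj (n i)
  let σ : (∐ K) ⟶ ∐ K := 𝟙 _ - DerLim.shiftMap K (fun m => F.map (homOfLE (Nat.le_succ m)))
  let σ' : (∐ K') ⟶ ∐ K' := 𝟙 _ - DerLim.shiftMap K' (fun i => F.map (homOfLE (hn.monotone (Nat.le_succ i))))
  let q : ∀ m t : ℕ, K m ⟶ ∐ K := fun m t => if h : m ≤ t then F.map (homOfLE h) ≫ Sigma.ι K t else 0
  let r : ∀ m i : ℕ, K m ⟶ ∐ K' := fun m i => if h : m ≤ n i then F.map (homOfLE h) ≫ Sigma.ι K' i else 0
  have hex : ∀ m, ∃ i, m ≤ n i := fun m => ⟨m, hn.id_le m⟩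
  let j : ℕ → ℕ := fun m => Nat.find (hex m)
  have hj : ∀ m, m ≤ n (j m) := fun m => Nat.find_spec (hex m)
  have hj' : ∀ i, j (n i) = i := fun i => le_antisymm (Nat.find_le le_rfl) (hn.le_iff_le.1 (hj (n i)))
  have hj1 : ∀ m, m ≠ n (j m) → j (m + 1) = j m := fun m hm => le_antisymm
    (Nat.find_le (by have := hj m; omega)) (Nat.find_le (le_trans (Nat.le_succ m) (hj (m + 1))))
  have hj2 : ∀ i, j (n i + 1) = i + 1 := fun i => le_antisymm (Nat.find_le (Nat.succ_le_of_lt (hn (Nat.lt_succ_self i))))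
    (hn.lt_iff_lt.1 (lt_of_lt_of_le (Nat.lt_succ_self _) (hj (n i + 1))))
  have comp_F : ∀ {x y z : ℕ} (h1 : x ≤ y) (h2 : y ≤ z), F.map (homOfLE h1) ≫ F.map (homOfLE h2) = F.map (homOfLE (h1.trans h2)) :=
    fun h1 h2 => (F.map_comp _ _).symm
  have hq0 : ∀ m, q m m = Sigma.ι K m := fun m => by
    simp only [q]
    rw [dif_pos le_rfl, show homOfLE (le_refl m) = 𝟙 m from rfl, F.map_id, Category.id_comp]
  have hr0 : ∀ i, r (n i) i = Sigma.ι K' i := fun i => by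
    simp only [r]
    rw [dif_pos le_rfl, show homOfLE (le_refl (n i)) = 𝟙 (n i) from rfl, F.map_id, Category.id_comp]
  have hσ : ∀ m, Sigma.ι K m ≫ σ = Sigma.ι K m - F.map (homOfLE (Nat.le_succ m)) ≫ Sigma.ι K (m + 1) := fun m => by
    simp only [σ, Preadditive.comp_sub, Category.comp_id, DerLim.shiftMap, Sigma.ι_desc]
  have hσ' : ∀ i, Sigma.ι K' i ≫ σ' = Sigma.ι K' i - F.map (homOfLE (hn.monotone (Nat.le_succ i))) ≫ Sigma.ι K' (i + 1) := fun i => by
    simp only [σ', Preadditive.comp_sub, Category.comp_id, DerLim.shiftMap, Sigma.ι_desc]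
  have hqσ : ∀ m t, m ≤ t → q m t ≫ σ = q m t - q m (t + 1) := fun m t h => by
    simp only [q]
    rw [dif_pos h, dif_pos (h.trans (Nat.le_succ t)), Category.assoc, hσ, Preadditive.comp_sub, ← Category.assoc (F.map (homOfLE h)), comp_F]
  have hqstep : ∀ m t, m + 1 ≤ t → F.map (homOfLE (Nat.le_succ m)) ≫ q (m + 1) t = q m t := fun m t h => by
    simp only [q]
    rw [dif_pos h, dif_pos ((Nat.le_succ m).trans h), ← Category.assoc, comp_F]
  have htel : ∀ m T, m ≤ T → (∑ t ∈ Finset.Ico m T, q m t) ≫ σ = q m m - q m T := by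
    intro m T hmT
    induction T, hmT using Nat.le_induction with
    | base => simp
    | succ T hmT ih => rw [Finset.sum_Ico_succ_top hmT, Preadditive.add_comp, ih, hqσ m T hmT]; abel
  let a₂ : (∐ K') ⟶ ∐ K := Sigma.desc fun i => Sigma.ι K (n i)
  let a₁ : (∐ K') ⟶ ∐ K := Sigma.desc fun i => ∑ t ∈ Finset.Ico (n i) (n (i + 1)), q (n i) t
  let b₂ : (∐ K) ⟶ ∐ K' := Sigma.desc fun m => r m (j m)
  let b₁ : (∐ K) ⟶ ∐ K' := Sigma.desc fun m => if m = n (j m) then r m (j m) else 0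
  let hh : (∐ K) ⟶ ∐ K := Sigma.desc fun m => - ∑ t ∈ Finset.Ico m (n (j m)), q m t
  have hstep : ∀ m i, m + 1 ≤ n i → F.map (homOfLE (Nat.le_succ m)) ≫ r (m + 1) i = r m i := fun m i h => by
    simp only [r]
    rw [dif_pos h, dif_pos ((Nat.le_succ m).trans h), ← Category.assoc, comp_F]
  have ca : σ' ≫ a₂ = a₁ ≫ σ := by
    refine Sigma.hom_ext _ _ fun i => ?_
    rw [← Category.assoc, hσ', Preadditive.sub_comp, Category.assoc, ← Category.assoc (Sigma.ι K' i) a₁ σ]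
    simp only [a₁, a₂, Sigma.ι_desc]
    rw [htel _ _ (hn.monotone (Nat.le_succ i)), hq0]
    simp only [q]
    rw [dif_pos (hn.monotone (Nat.le_succ i))]
  have cb : σ ≫ b₂ = b₁ ≫ σ' := by
    refine Sigma.hom_ext _ _ fun m => ?_
    rw [← Category.assoc, hσ, Preadditive.sub_comp, Category.assoc, ← Category.assoc (Sigma.ι K m) b₁ σ']
    simp only [b₁, b₂, Sigma.ι_desc]
    by_cases hm : m = n (j m)
    · rw [if_pos hm]
      obtain ⟨i, rfl⟩ : ∃ i, m = n i := ⟨_, hm⟩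
      rw [hj', hj2, hr0, hσ', hstep _ _ (hj2 i ▸ hj (n i + 1))]
      simp only [r]
      rw [dif_pos (hn.monotone (Nat.le_succ i))]
    · rw [if_neg hm, zero_comp, hj1 m hm, hstep m _ (by have := hj m; omega), sub_self]
  obtain ⟨c, hT⟩ := hL
  obtain ⟨c', hT'⟩ := hL'
  obtain ⟨φ, hφ2, hφ3⟩ : ∃ φ : L' ⟶ L, Sigma.desc ι' ≫ φ = a₂ ≫ Sigma.desc ι ∧ c' ≫ a₁⟦(1 : ℤ)⟧' = φ ≫ c :=
    Pretriangulated.complete_distinguished_triangle_morphism _ _ hT' hT a₁ a₂ ca
  obtain ⟨ψ, hψ2, hψ3⟩ : ∃ ψ : L ⟶ L', Sigma.desc ι ≫ ψ = b₂ ≫ Sigma.desc ι' ∧ c ≫ b₁⟦(1 : ℤ)⟧' = ψ ≫ c' :=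
    Pretriangulated.complete_distinguished_triangle_morphism _ _ hT hT' b₁ b₂ cb
  have ab2 : a₂ ≫ b₂ = 𝟙 _ := by
    refine Sigma.hom_ext _ _ fun i => ?_
    simp only [a₂, b₂, Sigma.ι_desc, ← Category.assoc, Category.comp_id]
    rw [hj', hr0]
  have ab1 : a₁ ≫ b₁ = 𝟙 _ := by
    refine Sigma.hom_ext _ _ fun i => ?_
    simp only [a₁, Sigma.ι_desc, ← Category.assoc, Category.comp_id]
    rw [Finset.sum_eq_sum_Ico_succ_bot (hn (Nat.lt_succ_self i)), Preadditive.add_comp, Preadditive.sum_comp,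
      Finset.sum_eq_zero, add_zero, hq0]
    · simp only [b₁, Sigma.ι_desc]
      rw [hj', if_pos rfl, hr0]
    · intro t ht
      rw [Finset.mem_Ico] at ht
      simp only [q, b₁]
      rw [dif_pos ((Nat.le_succ _).trans ht.1), Category.assoc, Sigma.ι_desc, if_neg, comp_zero]
      intro he
      have hh1 : n i < n (j t) := he ▸ ht.1
      have hh2 : n (j t) < n (i + 1) := he ▸ ht.2
      rw [hn.lt_iff_lt] at hh1 hh2
      omega
  have ba2 : b₂ ≫ a₂ = 𝟙 _ + hh ≫ σ := by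
    refine Sigma.hom_ext _ _ fun m => ?_
    simp only [b₂, hh, ← Category.assoc, Preadditive.comp_add, Category.comp_id, Sigma.ι_desc]
    rw [Preadditive.neg_comp, htel _ _ (hj m), hq0]
    simp only [r, q, a₂]
    rw [dif_pos (hj m), dif_pos (hj m), Category.assoc, Sigma.ι_desc]
    abel
  have ba1 : b₁ ≫ a₁ = 𝟙 _ + σ ≫ hh := by
    refine Sigma.hom_ext _ _ fun m => ?_
    rw [Preadditive.comp_add, Category.comp_id, ← Category.assoc (Sigma.ι K m) σ hh, hσ, Preadditive.sub_comp, Category.assoc, ← Category.assoc]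
    simp only [b₁, hh, Sigma.ι_desc]
    by_cases hm : m = n (j m)
    · rw [if_pos hm]
      obtain ⟨i, rfl⟩ : ∃ i, m = n i := ⟨_, hm⟩
      rw [hj', hj2, hr0, Preadditive.comp_neg, Preadditive.comp_sum, Finset.Ico_self, Finset.sum_empty, neg_zero, zero_sub,
        neg_neg]
      simp only [a₁, Sigma.ι_desc]
      rw [Finset.sum_eq_sum_Ico_succ_bot (hn (Nat.lt_succ_self i)), hq0]
      exact congrArg _ (Finset.sum_congr rfl fun t ht => (hqstep _ _ (Finset.mem_Ico.1 ht).1).symm)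
    · rw [if_neg hm, zero_comp, hj1 m hm, Preadditive.comp_neg, Preadditive.comp_sum,
        Finset.sum_eq_sum_Ico_succ_bot (lt_of_le_of_ne (hj m) hm), hq0,
        Finset.sum_congr rfl (fun t ht => hqstep m t (Finset.mem_Ico.1 ht).1)]
      abel
  have hπ : σ ≫ Sigma.desc ι = 0 := Pretriangulated.comp_distTriang_mor_zero₁₂ _ hT
  have hc : c ≫ σ⟦(1 : ℤ)⟧' = 0 := by
    have hz := Pretriangulated.comp_distTriang_mor_zero₂₃ _ (Pretriangulated.rot_of_distTriang _ hT)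
    exact neg_eq_zero.1 ((Preadditive.comp_neg _ _).symm.trans hz)
  let e₁ : Pretriangulated.Triangle.mk σ' (Sigma.desc ι') c' ⟶ Pretriangulated.Triangle.mk σ' (Sigma.desc ι') c' :=
    { hom₁ := 𝟙 (∐ K')
      hom₂ := 𝟙 (∐ K')
      hom₃ := φ ≫ ψ
      comm₁ := (Category.comp_id σ').trans (Category.id_comp σ').symm
      comm₂ := show Sigma.desc ι' ≫ φ ≫ ψ = 𝟙 _ ≫ Sigma.desc ι' by
        rw [← Category.assoc, hφ2, Category.assoc, hψ2, ← Category.assoc, ab2]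
      comm₃ := show c' ≫ (𝟙 (∐ K'))⟦(1 : ℤ)⟧' = (φ ≫ ψ) ≫ c' by
        rw [Category.assoc, ← hψ3, ← Category.assoc, ← hφ3, Category.assoc, ← Functor.map_comp, ab1] }
  let e₂ : Pretriangulated.Triangle.mk σ (Sigma.desc ι) c ⟶ Pretriangulated.Triangle.mk σ (Sigma.desc ι) c :=
    { hom₁ := 𝟙 (∐ K)
      hom₂ := 𝟙 (∐ K)
      hom₃ := ψ ≫ φ
      comm₁ := (Category.comp_id σ).trans (Category.id_comp σ).symm
      comm₂ := show Sigma.desc ι ≫ ψ ≫ φ = 𝟙 _ ≫ Sigma.desc ι by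
        rw [← Category.assoc, hψ2, Category.assoc, hφ2, ← Category.assoc, ba2, Preadditive.add_comp, Category.assoc, hπ,
          comp_zero, add_zero]
      comm₃ := show c ≫ (𝟙 (∐ K))⟦(1 : ℤ)⟧' = (ψ ≫ φ) ≫ c by
        rw [Category.assoc, ← hφ3, ← Category.assoc, ← hψ3, Category.assoc, ← Functor.map_comp, ba1, Functor.map_add,
          Functor.map_comp, Preadditive.comp_add, reassoc_of% hc, zero_comp, add_zero] }
  haveI i1 : IsIso (φ ≫ ψ) := Pretriangulated.isIso₃_of_isIso₁₂ e₁ hT' hT' (IsIso.id _) (IsIso.id _)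
  haveI i2 : IsIso (ψ ≫ φ) := Pretriangulated.isIso₃_of_isIso₁₂ e₂ hT hT (IsIso.id _) (IsIso.id _)
  haveI : Mono φ := mono_of_mono φ ψ
  haveI : IsSplitEpi φ := IsSplitEpi.mk' ⟨inv (ψ ≫ φ) ≫ ψ, by rw [Category.assoc, IsIso.inv_hom_id]⟩
  haveI : IsIso φ := isIso_of_mono_of_isSplitEpi φ
  refine ⟨asIso φ, fun i => ?_⟩
  have := congrArg (fun z => Sigma.ι K' i ≫ z) hφ2
  simp only [a₂, ← Category.assoc, Sigma.ι_desc] at this
  exact this

end Groth.Agent.S6592
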