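import Mathlib
import Groth.Statements.S6594
-- import your own Groth.Agent.* helpers here

set_option autoImplicit false
universe v u
open CategoryTheory CategoryTheory.Limits
open CohDer

namespace Groth.Agent.S6594

open CategoryTheory.Pretriangulated in
/-- (1) ⇔ (3): let D be a pretriangulated category and f : X ⟶ Y a morphism. Then f has a kernel if and
only if f is isomorphic to a composite K ⊞ Z → Z → Z ⊞ Q of a projection and a coprojection for some
objects K, Z, Q. -/
theorem result {D : Type u} [Category.{v} D] [Preadditive D] [HasZeroObject D] [HasShift D ℤ]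
    [∀ n : ℤ, (shiftFunctor D n).Additive] [Pretriangulated D]
    {X Y : D} (f : X ⟶ Y) :
    HasKernel f ↔ ∃ (K Z Q : D) (e₁ : X ≅ K ⊞ Z) (e₂ : Y ≅ Z ⊞ Q),
      f = e₁.hom ≫ biprod.snd ≫ biprod.inl ≫ e₂.inv := by
  constructor
  · intro hk
    have split : ∀ {A B : D} (i : A ⟶ B), Mono i → ∃ (C : D) (e : B ≅ A ⊞ C), i ≫ e.hom = biprod.inl := by
      intro A B i hi
      obtain ⟨C, g, h, mem⟩ := Pretriangulated.distinguished_cocone_triangle i
      have h0 := (Pretriangulated.Triangle.mor₃_eq_zero_iff_mono₁ _ mem).2 hi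
      obtain ⟨e, he, -⟩ := Pretriangulated.exists_iso_binaryBiproduct_of_distTriang _ mem h0
      exact ⟨C, e, he⟩
    obtain ⟨Z, e₁, he₁⟩ := split (kernel.ι f) inferInstance
    let g : Z ⟶ Y := biprod.inr ≫ e₁.inv ≫ f
    have h0 : (biprod.inl : kernel f ⟶ kernel f ⊞ Z) ≫ e₁.inv ≫ f = 0 := by
      rw [← he₁, Category.assoc, e₁.hom_inv_id_assoc, kernel.condition]
    have hg : biprod.snd ≫ g = e₁.inv ≫ f := by
      apply biprod.hom_ext'
      · rw [h0, biprod.inl_snd_assoc, zero_comp]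
      · rw [biprod.inr_snd_assoc]
    haveI : Mono g := by
      refine Preadditive.mono_of_cancel_zero g fun {W} h hh => ?_
      let s := h ≫ biprod.inr ≫ e₁.inv
      have hs : s ≫ f = 0 := by simpa [s, g] using hh
      calc h = s ≫ e₁.hom ≫ biprod.snd := by simp [s]
        _ = (kernel.lift f s hs ≫ kernel.ι f) ≫ e₁.hom ≫ biprod.snd := by rw [kernel.lift_ι]
        _ = 0 := by rw [Category.assoc, reassoc_of% he₁, biprod.inl_snd, comp_zero]
    obtain ⟨Q, e₂, he₂⟩ := split g inferInstance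
    refine ⟨kernel f, Z, Q, e₁, e₂, ?_⟩
    rw [← he₂, Category.assoc, e₂.hom_inv_id, Category.comp_id, hg, e₁.hom_inv_id_assoc]
  · rintro ⟨K, Z, Q, e₁, e₂, rfl⟩
    refine ⟨⟨⟨KernelFork.ofι (biprod.inl ≫ e₁.inv) (by simp), ?_⟩⟩⟩
    refine KernelFork.IsLimit.ofι _ _ (fun {W} h _ => h ≫ e₁.hom ≫ biprod.fst) (fun {W} h hh => ?_) (fun {W} h hh m hm => ?_)
    · have hz : h ≫ e₁.hom ≫ biprod.snd = 0 := by
        have := congrArg (fun q => q ≫ e₂.hom ≫ biprod.fst) hh
        simpa using this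
      rw [← cancel_mono e₁.hom]
      apply biprod.hom_ext <;> simp [hz]
    · rw [← hm]; simp

end Groth.Agent.S6594
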