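import Groth.Statements.S6595
import Groth.Agent.PostLib.Uniq
-- import your own Groth.Agent.* helpers here

set_option autoImplicit false
universe v u
open CategoryTheory CategoryTheory.Limits
open CohDer

namespace Groth.Agent.S6595

open CategoryTheory.Pretriangulated in
/-- Let D be a triangulated category, X and X' chain complexes in D considered in degrees ≤ n, where a
Postnikov system for the complex X_n → … → X_0 consists of objects Y_k, an isomorphism Y_0 ⟶ X_0,
and for 0 ≤ k < n distinguished triangles Y_{k+1} ⟶ X_{k+1} ⟶ Y_k ⟶ Y_{k+1}⟦1⟧ with X_{k+1} ⟶ Y_k ⟶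
X_k the differential. Suppose X' carries a Postnikov system (Y', a', b', c'). If Hom(X_i⟦i - j - 1⟧,
X'_j) = 0 for all j + 1 < i ≤ n, then Hom(X_i⟦i - j - 1⟧, Y'_j) = 0 for all j + 1 < i ≤ n. -/
theorem result {D : Type u} [Category.{v} D] [Preadditive D] [HasZeroObject D] [HasShift D ℤ]
    [∀ n : ℤ, (shiftFunctor D n).Additive] [Pretriangulated D] [IsTriangulated D]
    (X X' : ChainComplex D ℕ) (n : ℕ)
    (Y : ℕ → D) (a : ∀ k, Y k ⟶ X'.X k) (b : ∀ k, X'.X (k + 1) ⟶ Y k)
    (c : ∀ k, Y k ⟶ (shiftFunctor D (1 : ℤ)).obj (Y (k + 1)))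
    (h0 : IsIso (a 0))
    (hP : ∀ k, k < n → Triangle.mk (a (k + 1)) (b k) (c k) ∈ distinguishedTriangles ∧ b k ≫ a k = X'.d (k + 1) k)
    (hX : ∀ i j : ℕ, j + 1 < i → i ≤ n → ∀ ψ : (shiftFunctor D ((i : ℤ) - j - 1)).obj (X.X i) ⟶ X'.X j, ψ = 0)
    (i j : ℕ) (hij : j + 1 < i) (hi : i ≤ n) (ψ : (shiftFunctor D ((i : ℤ) - j - 1)).obj (X.X i) ⟶ Y j) :
    ψ = 0 := by
  have key : ∀ j : ℕ, ∀ (i : ℕ) (e : ℤ), j + 1 < i → i ≤ n → e = (i : ℤ) - j - 1 →
      ∀ f : (X.X i)⟦e⟧ ⟶ Y j, f = 0 := by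
    intro j
    induction j with
    | zero =>
      intro i e hi hin he f
      subst he
      rw [← cancel_mono (a 0), zero_comp]
      exact hX i 0 hi hin _
    | succ k ih =>
      intro i e hi hin he f
      subst he
      have hk : k < n := by omega
      obtain ⟨g, hg⟩ := Triangle.coyoneda_exact₂ _
        (inv_rot_of_distTriang _ (hP k hk).1) f (hX i (k + 1) hi hin _)
      have hg0 : g = 0 := by
        apply (shiftFunctor D (1 : ℤ)).map_injective
        rw [Functor.map_zero]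
        refine (cancel_mono ((shiftFunctorCompIsoId D (-1 : ℤ) 1 (by omega)).hom.app (Y k))).1 ?_
        refine Eq.trans ?_ zero_comp.symm
        exact PostLib.comp_shift_out rfl (ih i _ (by omega) hin (by push_cast; omega)) _
      rw [hg, hg0]
      exact zero_comp
  exact key j i _ hij hi rfl ψ

end Groth.Agent.S6595
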