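import Groth.Statements.S6600
import Mathlib


-- import your own Groth.Agent.* helpers here

set_option autoImplicit false
universe v u
open CategoryTheory CategoryTheory.Limits
open CohDer

namespace Groth.Agent.S6600

open CategoryTheory.Pretriangulated in
/-- Let D be a triangulated category, A ⊂ D a full subcategory invariant under all shifts, and X → Y → Z
→ X⟦1⟧ a distinguished triangle. Then Z lies in the right orthogonal A^⊥ if and only if Hom(A, X) →
Hom(A, Y) is bijective for every object A of A. -/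
theorem result {D : Type u} [Category.{v} D] [Preadditive D] [HasZeroObject D] [HasShift D ℤ]
    [∀ n : ℤ, (shiftFunctor D n).Additive] [Pretriangulated D] [IsTriangulated D]
    (P : ObjectProperty D) [P.IsStableUnderShift ℤ] (T : Triangle D) (hT : T ∈ distinguishedTriangles) :
    P.rightOrthogonal T.obj₃ ↔ ∀ A : D, P A → Function.Bijective (fun u : A ⟶ T.obj₁ => u ≫ T.mor₁) := by
  constructor
  · intro hZ A hA
    refine ⟨fun u u' huu => ?_, fun v => ?_⟩
    · rw [← sub_eq_zero]
      have h0 : (u - u') ≫ T.mor₁ = 0 := by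
        rw [Preadditive.sub_comp]; exact sub_eq_zero.2 huu
      obtain ⟨g, hg⟩ := Triangle.coyoneda_exact₁ T hT ((u - u')⟦(1 : ℤ)⟧') (by rw [← Functor.map_comp, h0, Functor.map_zero])
      apply (shiftFunctor D (1 : ℤ)).map_injective
      rw [hg, hZ g (P.le_shift 1 _ hA), zero_comp, Functor.map_zero]
    · obtain ⟨g, hg⟩ := Triangle.coyoneda_exact₂ T hT v (hZ _ hA)
      exact ⟨g, hg.symm⟩
  · intro h A v hA
    have h3 : v ≫ T.mor₃ = 0 := by
      let A' := A⟦(-1 : ℤ)⟧
      let e : A'⟦(1 : ℤ)⟧ ≅ A := (shiftFunctorCompIsoId D (-1 : ℤ) 1 (by simp)).app A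
      obtain ⟨u', hu'⟩ := (shiftFunctor D (1 : ℤ)).map_surjective (e.hom ≫ v ≫ T.mor₃)
      have h1 : u' ≫ T.mor₁ = 0 := by
        apply (shiftFunctor D (1 : ℤ)).map_injective
        rw [Functor.map_comp, hu', Functor.map_zero, Category.assoc, Category.assoc, comp_distTriang_mor_zero₃₁ T hT, comp_zero, comp_zero]
      have h2 : u' = 0 := (h A' (P.le_shift (-1) _ hA)).1 (by simp [h1])
      rw [h2, Functor.map_zero] at hu'
      rw [← cancel_epi e.hom, comp_zero, ← hu']
    obtain ⟨w, rfl⟩ := Triangle.coyoneda_exact₃ T hT v h3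
    obtain ⟨u, rfl⟩ := (h A hA).2 w
    simp [comp_distTriang_mor_zero₁₂ T hT]

end Groth.Agent.S6600
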