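import Groth.Statements.S6601
import Mathlib


-- import your own Groth.Agent.* helpers here

set_option autoImplicit false
universe v u
open CategoryTheory CategoryTheory.Limits
open CohDer

namespace Groth.Agent.S6601

open CategoryTheory.Pretriangulated in
/-- Let D be a triangulated category, B ⊂ D a full subcategory invariant under all shifts, and X → Y → Z
→ X⟦1⟧ a distinguished triangle. Then X lies in the left orthogonal ^⊥B if and only if Hom(Z, B) →
Hom(Y, B) is bijective for every object B of B. -/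
theorem result {D : Type u} [Category.{v} D] [Preadditive D] [HasZeroObject D] [HasShift D ℤ]
    [∀ n : ℤ, (shiftFunctor D n).Additive] [Pretriangulated D] [IsTriangulated D]
    (P : ObjectProperty D) [P.IsStableUnderShift ℤ] (T : Triangle D) (hT : T ∈ distinguishedTriangles) :
    P.leftOrthogonal T.obj₁ ↔ ∀ B : D, P B → Function.Bijective (fun u : T.obj₃ ⟶ B => T.mor₂ ≫ u) := by
  constructor
  · intro hX B hB
    refine ⟨fun u u' huu => ?_, fun v => ?_⟩
    · rw [← sub_eq_zero]
      have h0 : T.mor₂ ≫ (u - u') = 0 := by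
        rw [Preadditive.comp_sub]; exact sub_eq_zero.2 huu
      obtain ⟨g, hg⟩ := Triangle.yoneda_exact₃ T hT (u - u') h0
      let B' := B⟦(-1 : ℤ)⟧
      let e : B'⟦(1 : ℤ)⟧ ≅ B := (shiftFunctorCompIsoId D (-1 : ℤ) 1 (by simp)).app B
      obtain ⟨g', hg'⟩ := (shiftFunctor D (1 : ℤ)).map_surjective (g ≫ e.inv)
      rw [hX g' (P.le_shift (-1) _ hB), Functor.map_zero] at hg'
      have : g = 0 := by rw [← cancel_mono e.inv, zero_comp, ← hg']
      rw [hg, this, comp_zero]
    · obtain ⟨g, hg⟩ := Triangle.yoneda_exact₂ T hT v (hX _ hB)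
      exact ⟨g, hg.symm⟩
  · intro h B v hB
    have h1 : T.mor₃ ≫ v⟦(1 : ℤ)⟧' = 0 :=
      (h (B⟦(1 : ℤ)⟧) (P.le_shift 1 _ hB)).1 (by
        change T.mor₂ ≫ T.mor₃ ≫ v⟦(1 : ℤ)⟧' = T.mor₂ ≫ 0
        rw [comp_zero, ← Category.assoc, comp_distTriang_mor_zero₂₃ T hT, zero_comp])
    obtain ⟨w, hw⟩ := Triangle.yoneda_exact₂ T.rotate.rotate (rot_of_distTriang _ (rot_of_distTriang _ hT)) _ h1
    obtain ⟨w', hw'⟩ := (shiftFunctor D (1 : ℤ)).map_surjective w
    have hv : v = -(T.mor₁ ≫ w') := by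
      apply (shiftFunctor D (1 : ℤ)).map_injective
      rw [hw, ← hw', Functor.map_neg, Functor.map_comp]
      simp [Triangle.rotate]
      exact Preadditive.neg_comp _ _
    obtain ⟨u, hu⟩ := (h B hB).2 w'
    rw [hv, ← hu, ← Category.assoc, comp_distTriang_mor_zero₁₂ T hT, zero_comp, neg_zero]

end Groth.Agent.S6601
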