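import Groth.Statements.S6603
import Groth.Agent.CohDerLib.Basic
-- import your own Groth.Agent.* helpers here

set_option autoImplicit false
universe v u v' u'
open CategoryTheory CategoryTheory.Limits
open CohDer

namespace Groth.Agent.S6603

open CategoryTheory.Pretriangulated in
/-- (1) ⇔ (2) ⇔ (3) ⇔ (4): let D be a pretriangulated category, S a multiplicative system compatible
with the triangulated structure, and Q : D → S⁻¹D the localization functor. For an object Z of D the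
following are equivalent: (1) Q(Z) = 0; (2) 0 : Z ⟶ Z' is in S for some Z'; (3) 0 : Z' ⟶ Z is in S
for some Z'; (4) there are an object Z' and a distinguished triangle (X, Y, Z ⊞ Z', f, g, h) with f
∈ S. (The further equivalences (5)–(7) for saturated S are not asserted.) -/
theorem result {D : Type u} [Category.{v} D] [Preadditive D] [HasZeroObject D] [HasShift D ℤ]
    [∀ n : ℤ, (shiftFunctor D n).Additive] [Pretriangulated D]
    (S : MorphismProperty D) [S.HasLeftCalculusOfFractions] [S.HasRightCalculusOfFractions]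
    [S.IsCompatibleWithTriangulation]
    {E : Type u'} [Category.{v'} E] (Q : D ⥤ E) [Q.IsLocalization S] (Z : D) :
    (IsZero (Q.obj Z) ↔ ∃ Z' : D, S (0 : Z ⟶ Z')) ∧
    (IsZero (Q.obj Z) ↔ ∃ Z' : D, S (0 : Z' ⟶ Z)) ∧
    (IsZero (Q.obj Z) ↔ ∃ (Z' X Y : D) (f : X ⟶ Y) (g : Y ⟶ Z ⊞ Z') (h : Z ⊞ Z' ⟶ (shiftFunctor D (1 : ℤ)).obj X),
      Triangle.mk f g h ∈ distinguishedTriangles ∧ S f) := by
  refine ⟨CohDerLib.isZero_iff_left S Q, CohDerLib.isZero_iff_right S Q, fun h => ?_, ?_⟩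
  · obtain ⟨Z', hs⟩ := (CohDerLib.isZero_iff_left S Q).1 h
    have hs' : S ((0 : Z ⟶ Z')⟦(-1 : ℤ)⟧') := (MorphismProperty.IsCompatibleWithShift.iff S _ (-1 : ℤ)).2 hs
    rw [Functor.map_zero] at hs'
    obtain ⟨C', g, k, hT⟩ := distinguished_cocone_triangle (0 : Z⟦(-1 : ℤ)⟧ ⟶ Z'⟦(-1 : ℤ)⟧)
    obtain ⟨e, -, -⟩ := exists_iso_binaryBiproduct_of_distTriang _ (rot_of_distTriang _ hT) (by
      show -(0 : Z⟦(-1 : ℤ)⟧ ⟶ Z'⟦(-1 : ℤ)⟧)⟦(1 : ℤ)⟧' = 0
      rw [Functor.map_zero, neg_zero])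
    let e' : C' ≅ Z ⊞ Z'⟦(-1 : ℤ)⟧ := e ≪≫ biprod.braiding _ _ ≪≫
      biprod.mapIso ((shiftEquiv D (1 : ℤ)).counitIso.app Z) (Iso.refl _)
    refine ⟨_, _, _, 0, g ≫ e'.hom, e'.inv ≫ k, isomorphic_distinguished _ hT _
      (Triangle.isoMk _ _ (Iso.refl _) (Iso.refl _) e'.symm ((Category.comp_id _).trans (Category.id_comp _).symm) ((Category.assoc _ _ _).trans ((g ≫= e'.hom_inv_id).trans ((Category.comp_id _).trans (Category.id_comp _).symm))) ((congrArg (_ ≫ ·) (CategoryTheory.Functor.map_id _ _)).trans (Category.comp_id _))), hs'⟩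
  · rintro ⟨Z', X, Y, f, g, h, hT, hf⟩
    obtain ⟨O, hO, g', h', hT'⟩ := CohDerLib.exists_triangle_id X
    obtain ⟨c, hc, -, -⟩ := MorphismProperty.IsCompatibleWithTriangulation.compatible_with_triangulation
      (W := S) _ _ hT' hT (𝟙 X) f (MorphismProperty.id_mem S _) hf rfl
    haveI := Localization.inverts Q S c hc
    exact CohDerLib.isZero_of_summand S Q ((CohDerLib.isZero_obj_zero S Q hO).of_iso (asIso (Q.map c)).symm)

end Groth.Agent.S6603
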