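import Groth.Statements.S6604
import Groth.Agent.CohDerLib.Basic
-- import your own Groth.Agent.* helpers here

set_option autoImplicit false
universe v u v' u'
open CategoryTheory CategoryTheory.Limits
open CohDer

namespace Groth.Agent.S6604

/-- Let D be a triangulated category, B a full triangulated subcategory and Q : D → D/B the quotient
functor. Q sends an object Z of D to zero (Q(Z) = 0, i.e. Z belongs to the kernel of Q) exactly
when, for a suitable object Z' of D, the direct sum Z ⊞ Z' is isomorphic to some object lying in B;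
put differently, the kernel is the smallest saturated, strictly full triangulated subcategory that
contains B. -/
theorem result {D : Type u} [Category.{v} D] [Preadditive D] [HasZeroObject D] [HasShift D ℤ]
    [∀ n : ℤ, (shiftFunctor D n).Additive] [Pretriangulated D] [IsTriangulated D]
    (B : ObjectProperty D) [B.IsTriangulated]
    {E : Type u'} [Category.{v'} E] (Q : D ⥤ E) [Q.IsLocalization B.trW] (Z : D) :
    IsZero (Q.obj Z) ↔ ∃ (Z' Y : D), B Y ∧ Nonempty (Z ⊞ Z' ≅ Y) := by
  constructor
  · intro h
    obtain ⟨Z', hs⟩ := (CohDerLib.isZero_iff_left B.trW Q).1 h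
    obtain ⟨C', g, k, hT, hC⟩ := hs
    obtain ⟨e⟩ := CohDerLib.exists_iso_biprod_of_mor₁_eq_zero hT rfl
    exact ⟨_, _, B.le_shift (-1) _ hC, ⟨(e ≪≫ biprod.braiding _ _).symm⟩⟩
  · rintro ⟨Z', Y, hY, ⟨e⟩⟩
    obtain ⟨O, hO⟩ := HasZeroObject.zero (C := D)
    have hw : B.trW (0 : O ⟶ Y) := by
      obtain ⟨Z₁, g, k, hT⟩ := Pretriangulated.distinguished_cocone_triangle (0 : O ⟶ Y)
      haveI : IsIso g := (Pretriangulated.Triangle.isZero₁_iff_isIso₂ (Pretriangulated.Triangle.mk (0 : O ⟶ Y) g k) hT).1 hO
      exact ⟨Y, 𝟙 Y, g ≫ k, Pretriangulated.isomorphic_distinguished _ hT _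
        (Pretriangulated.Triangle.isoMk _ _ (Iso.refl _) (Iso.refl _) (@asIso _ _ _ _ g this) ((Category.comp_id _).trans (Category.id_comp _).symm) ((Category.id_comp _).trans (Category.id_comp _).symm) ((congrArg (_ ≫ ·) (CategoryTheory.Functor.map_id _ _)).trans (Category.comp_id _))), hY⟩
    haveI := Localization.inverts Q B.trW _ hw
    exact CohDerLib.isZero_of_summand B.trW Q (((CohDerLib.isZero_obj_zero B.trW Q hO).of_iso
      (asIso (Q.map (0 : O ⟶ Y))).symm).of_iso (Q.mapIso e))

end Groth.Agent.S6604
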