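import Groth.Statements.S6606
import Groth.Agent.CohDerLib.Basic
import Groth.Agent.S1053
-- import your own Groth.Agent.* helpers here

set_option autoImplicit false
universe v u
open CategoryTheory CategoryTheory.Limits
open CohDer

namespace Groth.Agent.S6606

/-- Let A be an abelian category, β : P ⟶ L and α : E ⟶ L morphisms of cochain complexes and n an
integer. Assume P is a bounded complex of projective objects with Pⁱ = 0 for i < n, and that Hⁱ(α)
is an isomorphism for i > n and an epimorphism for i = n. Then there is γ : P ⟶ E such that γ ≫ α is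
homotopic to β. -/
theorem result {A : Type u} [Category.{v} A] [Abelian A]
    (P E L : CochainComplex A ℤ) (β : P ⟶ L) (α : E ⟶ L) (n b : ℤ) [P.IsStrictlyGE n] [P.IsStrictlyLE b]
    (hP : ∀ i : ℤ, Projective (P.X i))
    (hiso : ∀ i : ℤ, n < i → IsIso (HomologicalComplex.homologyMap α i)) (hepi : Epi (HomologicalComplex.homologyMap α n)) :
    ∃ γ : P ⟶ E, Nonempty (Homotopy (γ ≫ α) β) := by
  haveI := CochainComplex.isKProjective_of_projective P b
  let q := HomotopyCategory.quotient A (ComplexShape.up ℤ)
  let T := CochainComplex.mappingCone.triangleh α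
  have hT : T ∈ Pretriangulated.distinguishedTriangles := HomotopyCategory.mappingCone_triangleh_distinguished α
  let F := HomotopyCategory.homologyFunctor A (ComplexShape.up ℤ) 0
  have hmap : ∀ i : ℤ, (Epi (HomologicalComplex.homologyMap α i) → Epi ((F.shift i).map T.mor₁)) ∧
      (Mono (HomologicalComplex.homologyMap α i) → Mono ((F.shift i).map T.mor₁)) := fun i => by
    have e := (HomotopyCategory.homologyFunctorFactors A (ComplexShape.up ℤ) i).hom.naturality α
    constructor
    · intro he
      exact ((MorphismProperty.epimorphisms A).arrow_mk_iso_iff (Arrow.isoMk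
        ((HomotopyCategory.homologyFunctorFactors A (ComplexShape.up ℤ) i).app E)
        ((HomotopyCategory.homologyFunctorFactors A (ComplexShape.up ℤ) i).app L) e.symm)).2 he
    · intro hm
      exact ((MorphismProperty.monomorphisms A).arrow_mk_iso_iff (Arrow.isoMk
        ((HomotopyCategory.homologyFunctorFactors A (ComplexShape.up ℤ) i).app E)
        ((HomotopyCategory.homologyFunctorFactors A (ComplexShape.up ℤ) i).app L) e.symm)).2 hm
  have hC : ∀ i : ℤ, n ≤ i → IsZero ((CochainComplex.mappingCone α).homology i) := by
    intro i hi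
    refine IsZero.of_iso ?_ ((HomotopyCategory.homologyFunctorFactors A (ComplexShape.up ℤ) i).app _).symm
    have h2 : (F.shift i).map T.mor₂ = 0 := by
      refine (F.homologySequence_epi_shift_map_mor₁_iff T hT i).1 ((hmap i).1 ?_)
      rcases eq_or_lt_of_le hi with rfl | hlt
      · exact hepi
      · haveI := hiso i hlt
        infer_instance
    have h3 : F.homologySequenceδ T i (i + 1) rfl = 0 := by
      refine (F.homologySequence_mono_shift_map_mor₁_iff T hT i (i + 1) rfl).1 ((hmap (i + 1)).2 ?_)
      haveI := hiso (i + 1) (by omega)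
      infer_instance
    exact (F.homologySequence_exact₃ T hT i (i + 1) rfl).isZero_of_both_zeros h2 h3
  haveI := HasDerivedCategory.standard A
  have h0 : q.map β ≫ T.mor₂ = 0 :=
    (Groth.Agent.S1053.result P (CochainComplex.mappingCone α) n b hP hC).1 _
  obtain ⟨g, hg⟩ := T.coyoneda_exact₂ hT (q.map β) h0
  obtain ⟨γ, rfl⟩ := q.map_surjective g
  exact ⟨γ, ⟨HomotopyCategory.homotopyOfEq _ _ ((q.map_comp γ α).trans hg.symm)⟩⟩

end Groth.Agent.S6606
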