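import Groth.Statements.S6608
import Mathlib
-- import your own Groth.Agent.* helpers here

set_option autoImplicit false
universe v u
open CategoryTheory CategoryTheory.Limits
open CohDer

namespace Groth.Agent.S6608

open CategoryTheory.Pretriangulated in
/-- Let D be a pretriangulated category and S a set of arrows of D containing the identities and
satisfying MS6 (compatibility with the triangulated structure; here together with stability under
shifts, MS5). Then every isomorphism of D lies in S. -/
theorem result {D : Type u} [Category.{v} D] [Preadditive D] [HasZeroObject D] [HasShift D ℤ]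
    [∀ n : ℤ, (shiftFunctor D n).Additive] [Pretriangulated D]
    (S : MorphismProperty D) [S.ContainsIdentities] [S.IsCompatibleWithTriangulation]
    {X Y : D} (f : X ⟶ Y) [IsIso f] : S f := by
  obtain ⟨c, hc, h1, -⟩ := MorphismProperty.IsCompatibleWithTriangulation.compatible_with_triangulation
    (W := S) (contractibleTriangle X).invRotate
    (Triangle.mk ((contractibleTriangle X).invRotate.mor₁) f (inv f ≫ (contractibleTriangle X).invRotate.mor₃))
    (inv_rot_of_distTriang _ (contractible_distinguished X))
    (isomorphic_distinguished _ (inv_rot_of_distTriang _ (contractible_distinguished X)) _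
      (Triangle.isoMk _ _ (Iso.refl _) (Iso.refl X) (asIso f).symm ((Category.comp_id _).trans (Category.id_comp _).symm) ((IsIso.hom_inv_id f).trans (Category.id_comp _).symm) (by erw [CategoryTheory.Functor.map_id, Category.comp_id]; rfl)))
    (𝟙 _) (𝟙 X) (S.id_mem _) (S.id_mem _) ((Category.comp_id _).trans (Category.id_comp _).symm)
  · have hcf : c = f := (cancel_epi (𝟙 X)).mp h1
    exact hcf ▸ hc


end Groth.Agent.S6608
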