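import Groth.Statements.S6610
import Groth.Agent.DerLib.Horseshoe
import Groth.Agent.DerLib.OpDual

set_option autoImplicit false
universe v u
open CategoryTheory CategoryTheory.Limits
open CohDer

namespace Groth.Agent.S6610

/-- Let A be an abelian category with enough projectives and S : 0 → A• → B• → C• → 0 a short exact
sequence of cochain complexes all vanishing above degree n. Then there are a short exact sequence T
: 0 → P₁ → P₂ → P₃ → 0 of complexes of projective objects vanishing above degree n and a morphism of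
short exact sequences T ⟶ S whose three components are quasi-isomorphisms (projective resolutions).
(The published statement is phrased for bounded below complexes; projective resolutions are bounded
above by definition and exist only for complexes with cohomology bounded above, so the statement is
given here for bounded above complexes, the case dual to the injective one.) -/
theorem result {A : Type u} [Category.{v} A] [Abelian A] [EnoughProjectives A]
    (S : ShortComplex (CochainComplex A ℤ)) (hS : S.ShortExact) (n : ℤ)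
    [S.X₁.IsStrictlyLE n] [S.X₂.IsStrictlyLE n] [S.X₃.IsStrictlyLE n] :
    ∃ (T : ShortComplex (CochainComplex A ℤ)) (φ : T ⟶ S), T.ShortExact ∧
      T.X₁.IsStrictlyLE n ∧ T.X₂.IsStrictlyLE n ∧ T.X₃.IsStrictlyLE n ∧
      (∀ k : ℤ, Projective (T.X₁.X k) ∧ Projective (T.X₂.X k) ∧ Projective (T.X₃.X k)) ∧
      QuasiIso φ.τ₁ ∧ QuasiIso φ.τ₂ ∧ QuasiIso φ.τ₃ := by
  have hS' : (ShortComplex.mk (Groth.Agent.DerLib.OpDual.opMap S.g)
      (Groth.Agent.DerLib.OpDual.opMap S.f) (by
        rw [← Functor.map_comp, ← op_comp, S.zero, op_zero, Functor.map_zero])).ShortExact := by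
    refine HomologicalComplex.shortExact_of_degreewise_shortExact _ fun i => ?_
    exact ((HomologicalComplex.shortExact_iff_degreewise_shortExact S).1 hS (-i)).op
  have hGE : ∀ (K : CochainComplex A ℤ) [K.IsStrictlyLE n],
      (Groth.Agent.DerLib.OpDual.opC K).IsStrictlyGE (-n) := fun K _ => by
    rw [CochainComplex.isStrictlyGE_iff]
    exact fun i hi => (K.isZero_of_isStrictlyLE n (-i) (by omega)).op
  have := hGE S.X₁
  have := hGE S.X₂
  have := hGE S.X₃
  obtain ⟨T, φ, hT, h1, h2, h3, hI, hq1, hq2, hq3⟩ :=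
    Groth.Agent.DerLib.Horseshoe.exists_horseshoe _ hS' (-n)
  let T' : ShortComplex (CochainComplex A ℤ) := ShortComplex.mk
    (Groth.Agent.DerLib.OpDual.unopMap T.g) (Groth.Agent.DerLib.OpDual.unopMap T.f) (by
      ext i
      change (T.g.f (-i)).unop ≫ (T.f.f (-i)).unop = 0
      rw [← unop_comp, ← HomologicalComplex.comp_f, T.zero]
      rfl)
  have hT' : T'.ShortExact := by
    refine HomologicalComplex.shortExact_of_degreewise_shortExact _ fun i => ?_
    exact ((HomologicalComplex.shortExact_iff_degreewise_shortExact T).1 hT (-i)).unop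
  have hLE : ∀ (K : CochainComplex Aᵒᵖ ℤ) [K.IsStrictlyGE (-n)],
      (Groth.Agent.DerLib.OpDual.unopC K).IsStrictlyLE n := fun K _ => by
    rw [CochainComplex.isStrictlyLE_iff]
    exact fun i hi => (K.isZero_of_isStrictlyGE (-n) (-i) (by omega)).unop
  let ψ : T' ⟶ S :=
    { τ₁ := Groth.Agent.DerLib.OpDual.unopMap φ.τ₃ ≫ (Groth.Agent.DerLib.OpDual.backIso S.X₁).hom
      τ₂ := Groth.Agent.DerLib.OpDual.unopMap φ.τ₂ ≫ (Groth.Agent.DerLib.OpDual.backIso S.X₂).hom
      τ₃ := Groth.Agent.DerLib.OpDual.unopMap φ.τ₁ ≫ (Groth.Agent.DerLib.OpDual.backIso S.X₃).hom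
      comm₁₂ := by
        ext i
        have h := congrArg Quiver.Hom.unop (congrArg
          (fun m => HomologicalComplex.Hom.f m (-i)) φ.comm₂₃)
        change ((φ.τ₃.f (-i)).unop ≫ (S.X₁.XIsoOfEq (neg_neg i)).hom) ≫ S.f.f i =
          (T.g.f (-i)).unop ≫ (φ.τ₂.f (-i)).unop ≫ (S.X₂.XIsoOfEq (neg_neg i)).hom
        have h' : (φ.τ₃.f (-i)).unop ≫ S.f.f (- -i) = (T.g.f (-i)).unop ≫ (φ.τ₂.f (-i)).unop :=
          h.symm
        refine (Category.assoc _ _ _).trans ?_
        refine Eq.trans ?_ ((congrArg (· ≫ (HomologicalComplex.XIsoOfEq _ (neg_neg i)).hom) h').trans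
          (Category.assoc _ _ _))
        exact (congrArg ((φ.τ₃.f (-i)).unop ≫ ·)
          (HomologicalComplex.XIsoOfEq_hom_naturality S.f (neg_neg i)).symm).trans (Category.assoc _ _ _).symm
      comm₂₃ := by
        ext i
        have h := congrArg Quiver.Hom.unop (congrArg
          (fun m => HomologicalComplex.Hom.f m (-i)) φ.comm₁₂)
        change ((φ.τ₂.f (-i)).unop ≫ (S.X₂.XIsoOfEq (neg_neg i)).hom) ≫ S.g.f i =
          (T.f.f (-i)).unop ≫ (φ.τ₁.f (-i)).unop ≫ (S.X₃.XIsoOfEq (neg_neg i)).hom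
        have h' : (φ.τ₂.f (-i)).unop ≫ S.g.f (- -i) = (T.f.f (-i)).unop ≫ (φ.τ₁.f (-i)).unop :=
          h.symm
        refine (Category.assoc _ _ _).trans ?_
        refine Eq.trans ?_ ((congrArg (· ≫ (HomologicalComplex.XIsoOfEq _ (neg_neg i)).hom) h').trans
          (Category.assoc _ _ _))
        exact (congrArg ((φ.τ₂.f (-i)).unop ≫ ·)
          (HomologicalComplex.XIsoOfEq_hom_naturality S.g (neg_neg i)).symm).trans (Category.assoc _ _ _).symm }
  have := Groth.Agent.DerLib.OpDual.quasiIso_unopMap φ.τ₁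
  have := Groth.Agent.DerLib.OpDual.quasiIso_unopMap φ.τ₂
  have := Groth.Agent.DerLib.OpDual.quasiIso_unopMap φ.τ₃
  refine ⟨T', ψ, hT', hLE _, hLE _, hLE _, fun k => ⟨?_, ?_, ?_⟩,
    inferInstanceAs (QuasiIso (_ ≫ _)), inferInstanceAs (QuasiIso (_ ≫ _)),
    inferInstanceAs (QuasiIso (_ ≫ _))⟩
  · exact Injective.projective_iff_injective_op.2 (hI (-k)).2.2
  · exact Injective.projective_iff_injective_op.2 (hI (-k)).2.1
  · exact Injective.projective_iff_injective_op.2 (hI (-k)).1

end Groth.Agent.S6610
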