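import Groth.Statements.S6611
import Mathlib

set_option autoImplicit false
universe v u
open CategoryTheory CategoryTheory.Limits
open CohDer

namespace Groth.Agent.S6611

/-- Let A be an abelian category, α : K ⟶ L a quasi-isomorphism of cochain complexes which is injective
in every degree, I a bounded below complex of injective objects and γ : K ⟶ I a morphism. Then there
is a morphism β : L ⟶ I with α ≫ β = γ. -/
theorem result {A : Type u} [Category.{v} A] [Abelian A]
    (K L I : CochainComplex A ℤ) (α : K ⟶ L) [QuasiIso α] (hα : ∀ n : ℤ, Mono (α.f n))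
    (a : ℤ) [I.IsStrictlyGE a] (hI : ∀ n : ℤ, Injective (I.X n)) (γ : K ⟶ I) :
    ∃ β : L ⟶ I, α ≫ β = γ := by
  have : Mono α := HomologicalComplex.mono_of_mono_f α hα
  obtain ⟨Z₀, hZ₀⟩ : ∃ Z : CochainComplex A ℤ, IsZero Z := HasZeroObject.zero
  have sq : CommSq γ α (0 : I ⟶ Z₀) (0 : L ⟶ Z₀) := ⟨by simp⟩
  have hn : ∀ n, Injective (I.X n) := hI
  have : I.IsKInjective := CochainComplex.isKInjective_of_injective I a
  have hsq : ∀ n, (sq.map (HomologicalComplex.eval _ _ n)).LiftStruct := fun n =>
    { l := (Injective.factorThru (γ.f n) (α.f n) : L.X n ⟶ I.X n)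
      fac_left := @Injective.comp_factorThru A _ (I.X n) (K.X n) (L.X n) (hn n) (γ.f n) (α.f n) (hα n)
      fac_right := (Functor.map_isZero (HomologicalComplex.eval A _ n)
        hZ₀).eq_of_tgt _ _ }
  have hS : (ShortComplex.mk _ _ (cokernel.condition α)).ShortExact :=
    { exact := ShortComplex.exact_cokernel α }
  have hK : IsLimit (KernelFork.ofι (𝟙 I) (show 𝟙 I ≫ (0 : I ⟶ Z₀) = 0 from comp_zero)) :=
    KernelFork.IsLimit.ofId _ rfl
  obtain ⟨c, hc⟩ := CochainComplex.IsKInjective.eq_δ_of_cocycle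
    (CochainComplex.Lifting.cocycle₁ sq hsq (hπ := cokernel.condition α) (cokernelIsCokernel α) hK)
    (hS.acyclic_X₃ (by dsimp; infer_instance)) 0 (by simp)
  have := CochainComplex.Lifting.hasLift sq hsq (hπ := cokernel.condition α) (cokernelIsCokernel α) hK c hc
  exact ⟨sq.lift, sq.fac_left⟩

end Groth.Agent.S6611
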