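import Groth.Statements.S6612
import Mathlib
-- import your own Groth.Agent.* helpers here

set_option autoImplicit false
set_option linter.style.haveILetI false
universe v u
open CategoryTheory CategoryTheory.Limits
open CohDer

namespace Groth.Agent.S6612

/-- Let A be an additive category and 0 → A₂ → B₂ → C₂ → 0 a termwise split exact sequence of complexes.
Given a chain map b from a complex B₁ into B₂ and a chain map b' from B₂ into a complex B₃, suppose
that both composites b ≫ (B₂ → C₂) and (A₂ → B₂) ≫ b' are null-homotopic. Then b ≫ b' is homotopic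
to zero. (The published statement has three termwise split sequences Aᵢ → Bᵢ → Cᵢ and asks both
squares of each diagram to commute up to homotopy; this row keeps only the middle sequence and the
two conditions at B₂ that the argument uses, so it is more general.) -/
theorem result {V : Type u} [Category.{v} V] [Preadditive V] [HasBinaryBiproducts V]
    (S : ShortComplex (CochainComplex V ℤ))
    (σ : ∀ n : ℤ, (S.map (HomologicalComplex.eval V (ComplexShape.up ℤ) n)).Splitting)
    {B₁ B₃ : CochainComplex V ℤ} (b : B₁ ⟶ S.X₂) (b' : S.X₂ ⟶ B₃)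
    (hb : Nonempty (Homotopy (b ≫ S.g) 0)) (hb' : Nonempty (Homotopy (S.f ≫ b') 0)) :
    Nonempty (Homotopy (b ≫ b') 0) := by
  obtain ⟨h⟩ := hb
  obtain ⟨k⟩ := hb'
  let r : ∀ i, S.X₂.X i ⟶ S.X₁.X i := fun i => (σ i).r
  let s : ∀ i, S.X₃.X i ⟶ S.X₂.X i := fun i => (σ i).s
  let hom : ∀ i j, B₁.X i ⟶ S.X₂.X j := fun i j => h.hom i j ≫ s j
  have hhom : ∀ i j, ¬ (ComplexShape.up ℤ).Rel j i → hom i j = 0 := fun i j hij => by
    simp [hom, h.zero i j hij]
  have hsg : ∀ i, s i ≫ S.g.f i = 𝟙 (S.X₃.X i) := fun i => (σ i).s_g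
  have h1 : Homotopy.nullHomotopicMap hom ≫ S.g = b ≫ S.g := by
    rw [Homotopy.nullHomotopicMap_comp]
    ext i
    rw [h.comm i, HomologicalComplex.zero_f, add_zero]
    simp only [hom, Category.assoc, hsg, Category.comp_id]
    rfl
  set b₁ := b - Homotopy.nullHomotopicMap hom with hb₁
  have h2 : b₁ ≫ S.g = 0 := by rw [hb₁, Preadditive.sub_comp, h1, sub_self]
  have h3 : ∀ i, b₁.f i ≫ S.g.f i = 0 := fun i => by
    rw [← HomologicalComplex.comp_f, h2, HomologicalComplex.zero_f]
  have hid : ∀ i, S.f.f i ≫ r i = 𝟙 (S.X₁.X i) := fun i => (σ i).f_r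
  have hfac : ∀ i, (b₁.f i ≫ r i) ≫ S.f.f i = b₁.f i := fun i => by
    have : r i ≫ S.f.f i + S.g.f i ≫ s i = 𝟙 (S.X₂.X i) := (σ i).id
    rw [Category.assoc, eq_sub_of_add_eq this, Preadditive.comp_sub, ← Category.assoc, h3, zero_comp,
      sub_zero, Category.comp_id]
  let a : B₁ ⟶ S.X₁ :=
    { f := fun i => b₁.f i ≫ r i
      comm' := fun i j hij => by
        haveI : IsSplitMono (S.f.f j) := IsSplitMono.mk' ⟨r j, hid j⟩
        rw [← cancel_mono (S.f.f j), Category.assoc (b₁.f i ≫ r i), ← S.f.comm, ← Category.assoc,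
          hfac, Category.assoc (B₁.d i j), hfac, b₁.comm] }
  have h4 : a ≫ S.f = b₁ := HomologicalComplex.hom_ext _ _ hfac
  have e : b ≫ b' = Homotopy.nullHomotopicMap hom ≫ b' + a ≫ (S.f ≫ b') := by
    rw [← Category.assoc, h4, hb₁, ← Preadditive.add_comp, add_sub_cancel]
  refine ⟨(Homotopy.ofEq e).trans ((((Homotopy.nullHomotopy hom hhom).compRight b').add
    (k.compLeft a)).trans (Homotopy.ofEq ?_))⟩
  rw [zero_comp, comp_zero, add_zero]

end Groth.Agent.S6612
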