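import Groth.Statements.S6613
import Mathlib
-- import your own Groth.Agent.* helpers here

set_option autoImplicit false
set_option linter.style.haveILetI false
universe v u v' u'
open CategoryTheory CategoryTheory.Limits
open CohDer

namespace Groth.Agent.S6613

/-- Let D be a pretriangulated category, D' ⊂ D a full pretriangulated subcategory, S a saturated
multiplicative system of D compatible with the triangulated structure and Q : D → S⁻¹D the
localization. Assume every X in D admits some s : X' ⟶ X in S with X' in D'. Then, with S' = S ∩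
Arrows(D'), the functor (S')⁻¹D' → S⁻¹D is an equivalence; equivalently the composite D' → D → S⁻¹D
is a localization of D' at S'. (The published result additionally claims that the intersection S' =
S ∩ Arrows(D') forms a multiplicative system on D' which is saturated and respects the triangulated
structure of D'; this row asserts only the localization property.) -/
theorem result {D : Type u} [Category.{v} D] [Preadditive D] [HasZeroObject D] [HasShift D ℤ]
    [∀ n : ℤ, (shiftFunctor D n).Additive] [Pretriangulated D]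
    (P : ObjectProperty D) [P.IsTriangulated]
    (S : MorphismProperty D) [S.HasLeftCalculusOfFractions] [S.HasRightCalculusOfFractions] [S.IsCompatibleWithTriangulation]
    {E : Type u'} [Category.{v'} E] (Q : D ⥤ E) [Q.IsLocalization S]
    (hsat : ∀ {X Y : D} (f : X ⟶ Y), IsIso (Q.map f) → S f)
    (hP : ∀ X : D, ∃ (X' : D) (s : X' ⟶ X), P X' ∧ S s) :
    (P.ι ⋙ Q).IsLocalization (S.inverseImage P.ι) := by
  let W := S.inverseImage P.ι
  haveI : S.IsMultiplicative := inferInstance
  haveI : W.IsMultiplicative := inferInstanceAs ((S.inverseImage P.ι).IsMultiplicative)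
  have hcov : ∀ X : D, ∃ (Z : P.FullSubcategory) (s : P.ι.obj Z ⟶ X), S s := fun X => by
    obtain ⟨X', s, hX', hs⟩ := hP X
    exact ⟨⟨X', hX'⟩, s, hs⟩
  haveI : W.HasRightCalculusOfFractions := {
    exists_rightFraction := fun X Y φ => by
      obtain ⟨ψ, hψ⟩ := MorphismProperty.HasRightCalculusOfFractions.exists_rightFraction
        (MorphismProperty.LeftFraction.mk (W := S) (P.ι.map φ.f) (P.ι.map φ.s) φ.hs)
      obtain ⟨Z, t, ht⟩ := hcov ψ.X'
      exact ⟨⟨P.fullyFaithfulι.preimage (t ≫ ψ.s),
        by show S _; rw [P.fullyFaithfulι.map_preimage]; exact S.comp_mem _ _ ht ψ.hs,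
        P.fullyFaithfulι.preimage (t ≫ ψ.f)⟩, P.ι.map_injective (by
          simp only [Functor.map_comp, P.fullyFaithfulι.map_preimage, Category.assoc]
          exact congrArg (t ≫ ·) hψ)⟩
    ext := fun X Y Y' f₁ f₂ s hs eq => by
      obtain ⟨X', t, ht, fac⟩ := MorphismProperty.HasRightCalculusOfFractions.ext (W := S)
        (P.ι.map f₁) (P.ι.map f₂) (P.ι.map s) hs (by simp only [← Functor.map_comp, eq])
      obtain ⟨Z, t', ht'⟩ := hcov X'
      refine ⟨Z, P.fullyFaithfulι.preimage (t' ≫ t), ?_, P.ι.map_injective ?_⟩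
      · show S _
        rw [P.fullyFaithfulι.map_preimage]
        exact S.comp_mem _ _ ht' ht
      · simp only [Functor.map_comp, P.fullyFaithfulι.map_preimage, Category.assoc]
        exact congrArg (t' ≫ ·) fac }
  have hinv : W.IsInvertedBy (P.ι ⋙ Q) := fun X Y f hf => Localization.inverts Q S _ hf
  let G : W.Localization ⥤ E := Localization.lift (P.ι ⋙ Q) hinv W.Q
  let e : W.Q ⋙ G ≅ P.ι ⋙ Q := Localization.fac _ hinv W.Q
  haveI : G.EssSurj := ⟨fun Y => by
    haveI := Localization.essSurj Q S
    obtain ⟨Z, s, hs⟩ := hcov (Q.objPreimage Y)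
    exact ⟨W.Q.obj Z, ⟨e.app Z ≪≫ Localization.isoOfHom Q S s hs ≪≫ Q.objObjPreimageIso Y⟩⟩⟩
  have hmap : ∀ {A B : P.FullSubcategory} (f : A ⟶ B),
      G.map (W.Q.map f) = e.hom.app A ≫ Q.map (P.ι.map f) ≫ e.inv.app B := fun {A B} f => by
    rw [← Functor.comp_map P.ι Q, ← e.hom.naturality_assoc, Iso.hom_inv_id_app, Category.comp_id]
    rfl
  haveI : G.Full := ⟨fun {a b} u => by
    haveI := Localization.essSurj W.Q W
    obtain ⟨A, ⟨ea⟩⟩ : ∃ A, Nonempty (W.Q.obj A ≅ a) := ⟨_, ⟨W.Q.objObjPreimageIso a⟩⟩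
    obtain ⟨B, ⟨eb⟩⟩ : ∃ B, Nonempty (W.Q.obj B ≅ b) := ⟨_, ⟨W.Q.objObjPreimageIso b⟩⟩
    obtain ⟨φ, hφ⟩ := Localization.exists_rightFraction Q S
      (e.inv.app A ≫ G.map ea.hom ≫ u ≫ G.map eb.inv ≫ e.hom.app B)
    obtain ⟨Z, t, ht⟩ := hcov φ.X'
    let ts := P.fullyFaithfulι.preimage (t ≫ φ.s)
    let tf := P.fullyFaithfulι.preimage (t ≫ φ.f)
    have hts : W ts := by show S _; rw [P.fullyFaithfulι.map_preimage]; exact S.comp_mem _ _ ht φ.hs
    haveI := Localization.inverts W.Q W ts hts
    refine ⟨ea.inv ≫ inv (W.Q.map ts) ≫ W.Q.map tf ≫ eb.hom, ?_⟩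
    rw [← cancel_epi (G.map ea.hom), ← Functor.map_comp, Iso.hom_inv_id_assoc,
      ← cancel_epi (G.map (W.Q.map ts)), ← Functor.map_comp, IsIso.hom_inv_id_assoc,
      ← cancel_mono (G.map eb.inv), ← Functor.map_comp, Category.assoc, Category.assoc,
      Category.assoc, Iso.hom_inv_id, Category.comp_id, hmap, hmap]
    simp only [ts, tf, P.fullyFaithfulι.map_preimage, Functor.map_comp, Category.assoc]
    congr 2
    have h := φ.map_s_comp_map Q (Localization.inverts Q S)
    rw [← hφ] at h
    rw [← cancel_mono (e.hom.app B), Category.assoc, Iso.inv_hom_id_app]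
    erw [Category.comp_id]
    rw [← h]
    simp only [Category.assoc]⟩
  haveI : G.Faithful := by
    haveI : G.op.Faithful := by
      refine Functor.faithful_of_comp_of_hasLeftCalculusOfFractions W.Q.op W.op G.op ?_
      intro X₁ X₂ f g h
      have h' : Q.map (P.ι.map f.unop) = Q.map (P.ι.map g.unop) := by
        have h1 : G.map (W.Q.map f.unop) = G.map (W.Q.map g.unop) := congrArg Quiver.Hom.unop h
        rw [hmap, hmap, cancel_epi, cancel_mono] at h1
        exact h1
      obtain ⟨Z', t, ht, fac⟩ := (MorphismProperty.map_eq_iff_precomp Q S _ _).1 h'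
      obtain ⟨Z, t', ht'⟩ := hcov Z'
      apply Quiver.Hom.unop_inj
      refine (MorphismProperty.map_eq_iff_precomp W.Q W _ _).2
        ⟨Z, P.fullyFaithfulι.preimage (t' ≫ t), ?_, P.ι.map_injective ?_⟩
      · show S _
        rw [P.fullyFaithfulι.map_preimage]
        exact S.comp_mem _ _ ht' ht
      · simp only [Functor.map_comp, P.fullyFaithfulι.map_preimage, Category.assoc]
        exact congrArg (t' ≫ ·) fac
    exact ⟨fun {a b} f g h => Quiver.Hom.op_inj (G.op.map_injective (congrArg Quiver.Hom.op h))⟩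
  haveI : G.IsEquivalence := {}
  exact Functor.IsLocalization.of_equivalence_target W.Q W (P.ι ⋙ Q) G.asEquivalence e

end Groth.Agent.S6613
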