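import Groth.Statements.S6617
import Groth.Agent.CohDerLib.Split
-- import your own Groth.Agent.* helpers here

set_option autoImplicit false
universe v u
open CategoryTheory CategoryTheory.Limits
open CohDer

namespace Groth.Agent.S6617

/-- Let A be an additive category and A₀ → A₁ → A₂ → … a sequence of composable morphisms of complexes.
There are complexes Bᵢ, homotopy equivalences Bᵢ ⟶ Aᵢ and termwise split injections Bᵢ ⟶ Bᵢ₊₁
forming a commutative ladder over the given sequence. Moreover if all Aᵢ are bounded below, resp.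
bounded above, then the Bᵢ may be chosen bounded below, resp. bounded above. (The published
statement is for finite sequences A₁ → … → A_n; this row takes a sequence indexed by ℕ, built by the
same step-by-step construction.) -/
theorem result {V : Type u} [Category.{v} V] [Preadditive V] [HasBinaryBiproducts V] [HasZeroObject V]
    (X : ℕ → CochainComplex V ℤ) (a : ∀ i, X i ⟶ X (i + 1)) :
    ∃ (B : ℕ → CochainComplex V ℤ) (b : ∀ i, B i ⟶ B (i + 1)) (e : ∀ i, HomotopyEquiv (B i) (X i)),
      (∀ i, b i ≫ (e (i + 1)).hom = (e i).hom ≫ a i) ∧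
      (∀ (i : ℕ) (n : ℤ), ∃ (C : V) (ε : (B (i + 1)).X n ≅ (B i).X n ⊞ C), (b i).f n ≫ ε.hom = biprod.inl) ∧
      ((∀ i, ∃ m : ℤ, (X i).IsStrictlyGE m) → ∀ i, ∃ m : ℤ, (B i).IsStrictlyGE m) ∧
      ((∀ i, ∃ m : ℤ, (X i).IsStrictlyLE m) → ∀ i, ∃ m : ℤ, (B i).IsStrictlyLE m) := by
  let step : ∀ i : ℕ, Σ B : CochainComplex V ℤ, HomotopyEquiv B (X i) := fun i =>
    i.rec ⟨X 0, HomotopyEquiv.refl _⟩ fun i p =>
      ⟨CohDerLib.injObj (p.2.hom ≫ a i), CohDerLib.injEquiv (p.2.hom ≫ a i)⟩
  refine ⟨fun i => (step i).1, fun i => CohDerLib.injMap ((step i).2.hom ≫ a i), fun i => (step i).2,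
    fun i => biprod.lift_fst _ _,
    fun i n => ⟨_, CohDerLib.injSplit ((step i).2.hom ≫ a i) n, CohDerLib.injMap_f_split _ n⟩,
    fun h i => ?_, fun h i => ?_⟩
  · induction i with
    | zero => exact h 0
    | succ i ih =>
      obtain ⟨m, hm⟩ := ih
      obtain ⟨m', hm'⟩ := h (i + 1)
      haveI := CochainComplex.isStrictlyGE_of_ge (step i).1 (min m m') m (min_le_left _ _)
      haveI := CochainComplex.isStrictlyGE_of_ge (X (i + 1)) (min m m') m' (min_le_right _ _)
      exact ⟨min m m' - 1, CohDerLib.isStrictlyGE_injObj ((step i).2.hom ≫ a i) _⟩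
  · induction i with
    | zero => exact h 0
    | succ i ih =>
      obtain ⟨m, hm⟩ := ih
      obtain ⟨m', hm'⟩ := h (i + 1)
      haveI := CochainComplex.isStrictlyLE_of_le (step i).1 m (max m m') (le_max_left _ _)
      haveI := CochainComplex.isStrictlyLE_of_le (X (i + 1)) m' (max m m') (le_max_right _ _)
      exact ⟨max m m', CohDerLib.isStrictlyLE_injObj ((step i).2.hom ≫ a i) _⟩

end Groth.Agent.S6617
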