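import Groth.Statements.S6620
import Mathlib.Algebra.Homology.DerivedCategory.RightDerivedFunctorPlus
-- import your own Groth.Agent.* helpers here

set_option autoImplicit false
set_option linter.style.haveILetI false
universe w w' v v' u u'
open CategoryTheory CategoryTheory.Limits
open CohDer

namespace Groth.Agent.S6620

/-- Part (1): in the case where A has enough injectives (so that RF is defined on all of D⁺(A)): let F :
A ⥤ B be an additive functor between abelian categories, A with enough injectives, and K ∈ D⁺(A)
with Hⁱ(K) = 0 for i < a. Then Hⁱ(RF(K)) = 0 for i < a. -/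
theorem result {A : Type u} [Category.{v} A] [Abelian A] [HasDerivedCategory.{w} A] [EnoughInjectives A]
    {B : Type u'} [Category.{v'} B] [Abelian B] [HasDerivedCategory.{w'} B]
    (F : A ⥤ B) [F.Additive] (K : DerivedCategory.Plus A) (a : ℤ) [K.IsGE a] :
    (F.rightDerivedFunctorPlus.obj K).IsGE a := by
  obtain ⟨L, hL, ⟨e⟩⟩ := DerivedCategory.Plus.exists_injective_nonempty_iso K a
  rw [← DerivedCategory.Plus.isGE_ι_obj_iff]
  let M := (InjectiveObject.ι A).mapCochainComplexPlus.obj L
  let X := (HomotopyCategory.Plus.quotient A).obj M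
  haveI : IsIso (F.rightDerivedFunctorPlusUnit.app X) := inferInstanceAs
    (IsIso (F.rightDerivedFunctorPlusUnit.app
      ((HomotopyCategory.Plus.quotient A).obj ((InjectiveObject.ι A).mapCochainComplexPlus.obj L))))
  haveI hM : M.obj.IsStrictlyGE a :=
    (CochainComplex.isStrictlyGE_mapHomologicalComplex_obj_iff _ (InjectiveObject.ι A) a).2 hL
  rw [DerivedCategory.isGE_iff]
  intro i hi
  have hz : IsZero (((F.mapHomologicalComplex (ComplexShape.up ℤ)).obj M.obj).X i) :=
    F.map_isZero (M.obj.isZero_of_isStrictlyGE a i (by omega))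
  let e₁ : DerivedCategory.Plus.Qh.obj (F.mapHomotopyCategoryPlus.obj X) ≅
      F.rightDerivedFunctorPlus.obj K :=
    asIso (F.rightDerivedFunctorPlusUnit.app X) ≪≫ F.rightDerivedFunctorPlus.mapIso e
  exact ((HomologicalComplex.exactAt_iff _ i).2 (ShortComplex.exact_of_isZero_X₂
      (((F.mapHomologicalComplex (ComplexShape.up ℤ)).obj M.obj).sc i) hz)).isZero_homology.of_iso
    ((DerivedCategory.homologyFunctor B i).mapIso (DerivedCategory.Plus.ι.mapIso e₁.symm ≪≫
      (DerivedCategory.quotientCompQhIso B).app _) ≪≫
      (DerivedCategory.homologyFunctorFactors B i).app _)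

end Groth.Agent.S6620
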