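import Groth.Statements.S6621
import Mathlib
-- import your own Groth.Agent.* helpers here

set_option autoImplicit false
set_option linter.style.haveILetI false
universe v u v' u'
open CategoryTheory CategoryTheory.Limits
open CohDer

namespace Groth.Agent.S6621

open Limits in
theorem hz {A : Type*} [Category A] {B : Type*} [Category B] (F : A ≌ B) (Y : A) (h : IsZero Y) :
    IsZero (F.functor.obj Y) :=
  ⟨fun Z => ⟨⟨⟨(F.toAdjunction.homEquiv Y Z).symm (h.to_ _)⟩,
      fun g => (F.toAdjunction.homEquiv Y Z).injective (h.eq_of_src _ _)⟩⟩,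
    fun Z => ⟨⟨⟨F.symm.toAdjunction.homEquiv Z Y (h.from_ _)⟩,
      fun g => (F.symm.toAdjunction.homEquiv Z Y).symm.injective (h.eq_of_tgt _ _)⟩⟩⟩


/-- Let D be a triangulated category, S a multiplicative system compatible with the triangulated
structure, Q : D → S⁻¹D the localization and B(S) = Ker(Q) the full subcategory of objects Z with
Q(Z) = 0. Then the multiplicative system S(B(S)) attached to B(S) (morphisms whose cone lies in B(S)
up to isomorphism) consists exactly of the morphisms f such that Q(f) is an isomorphism, i.e. it is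
the saturation of S. -/
theorem result {D : Type u} [Category.{v} D] [Preadditive D] [HasZeroObject D] [HasShift D ℤ]
    [∀ n : ℤ, (shiftFunctor D n).Additive] [Pretriangulated D] [IsTriangulated D]
    (S : MorphismProperty D) [S.HasLeftCalculusOfFractions] [S.HasRightCalculusOfFractions] [S.IsCompatibleWithTriangulation]
    {E : Type u'} [Category.{v'} E] (Q : D ⥤ E) [Q.IsLocalization S] {X Y : D} (f : X ⟶ Y) :
    ObjectProperty.trW (fun Z : D => IsZero (Q.obj Z)) f ↔ IsIso (Q.map f) := by
  let e : S.Localization ≌ E := Localization.uniq S.Q Q S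
  let α : S.Q ⋙ e.functor ≅ Q := Localization.compUniqFunctor S.Q Q S
  have h1 : IsIso (Q.map f) ↔ IsIso (S.Q.map f) :=
    (NatIso.isIso_map_iff α f).symm.trans (isIso_iff_of_reflects_iso _ e.functor)
  have h2 : ∀ Z, IsZero (Q.obj Z) ↔ IsZero (S.Q.obj Z) := fun Z =>
    (α.app Z).symm.isZero_iff.trans ⟨fun h => (hz e.symm _ h).of_iso (e.unitIso.app _),
      fun h => hz e _ h⟩
  rw [h1, ObjectProperty.trW_iff]
  constructor
  · rintro ⟨Z, g, h, hT, hZ⟩
    exact (Pretriangulated.Triangle.isZero₃_iff_isIso₁ _ (S.Q.map_distinguished _ hT)).1 ((h2 Z).1 hZ)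
  · intro hf
    obtain ⟨Z, g, h, hT⟩ := Pretriangulated.distinguished_cocone_triangle f
    exact ⟨Z, g, h, hT, (h2 Z).2
      ((Pretriangulated.Triangle.isZero₃_iff_isIso₁ _ (S.Q.map_distinguished _ hT)).2 hf)⟩

end Groth.Agent.S6621
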