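import Groth.Statements.S6622
import Mathlib
-- import your own Groth.Agent.* helpers here

set_option autoImplicit false
set_option linter.style.haveILetI false
universe v u
open CategoryTheory CategoryTheory.Limits
open CohDer

namespace Groth.Agent.S6622

open CategoryTheory CategoryTheory.Limits Pretriangulated ZeroObject in
theorem isTri {V : Type u} [Category.{v} V] [Preadditive V] [HasZeroObject V] [HasBinaryBiproducts V]
    (Q : CochainComplex V ℤ → Prop) (h0 : Q 0)
    (hsh : ∀ (K : CochainComplex V ℤ) (n : ℤ), Q K → Q (K⟦n⟧))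
    (hcone : ∀ (K L : CochainComplex V ℤ) (f : K ⟶ L), Q K → Q L → Q (CochainComplex.mappingCone f)) :
    ObjectProperty.IsTriangulated (fun K : HomotopyCategory V (ComplexShape.up ℤ) => Q K.as) := by
  let P : ObjectProperty (HomotopyCategory V (ComplexShape.up ℤ)) := fun K => Q K.as
  haveI : P.ContainsZero :=
    ⟨(HomotopyCategory.quotient _ _).obj 0, Functor.map_isZero _ (isZero_zero _), h0⟩
  haveI : P.IsStableUnderShift ℤ :=
    { isStableUnderShiftBy := fun n => ⟨fun K hK => by
        obtain ⟨K : CochainComplex _ _, rfl⟩ := K.quotient_obj_surjective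
        rw [ObjectProperty.prop_shift_iff, HomotopyCategory.shift_quotient_obj]
        exact hsh K n hK⟩ }
  haveI : P.IsTriangulatedClosed₃ :=
    { ext₃' := fun T hT h₁ h₂ => by
        obtain ⟨f : T.obj₁.as ⟶ T.obj₂.as, hf⟩ :=
          (HomotopyCategory.quotient _ _).map_surjective T.mor₁
        exact ⟨_, hcone _ _ f h₁ h₂,
          ⟨Triangle.π₃.mapIso (isoTriangleOfIso₁₂ T _ hT
            (HomotopyCategory.mappingCone_triangleh_distinguished f)
            (Iso.refl _) (Iso.refl _)
            ((Category.comp_id _).trans (hf.symm.trans (Category.id_comp _).symm)))⟩⟩ }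
  exact { toIsTriangulatedClosed₂ := .of_isTriangulatedClosed₃ }


/-- Let A be an additive category. The full subcategories K⁻(A) (complexes K with Kⁿ = 0 for n ≫ 0) and
Kᵇ(A) (Kⁿ = 0 for |n| ≫ 0) of the homotopy category K(A) are full triangulated subcategories. -/
theorem result {V : Type u} [Category.{v} V] [Preadditive V] [HasZeroObject V] [HasBinaryBiproducts V] :
    (ObjectProperty.IsTriangulated (fun K : HomotopyCategory V (ComplexShape.up ℤ) => ∃ n : ℤ, CochainComplex.IsStrictlyLE K.as n)) ∧
    (ObjectProperty.IsTriangulated (fun K : HomotopyCategory V (ComplexShape.up ℤ) =>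
      ∃ a b : ℤ, CochainComplex.IsStrictlyGE K.as a ∧ CochainComplex.IsStrictlyLE K.as b)) := by
  have hLE : ∀ {K L : CochainComplex V ℤ} (f : K ⟶ L) (a b : ℤ) [K.IsStrictlyLE a] [L.IsStrictlyLE b],
      (CochainComplex.mappingCone f).IsStrictlyLE (max a b) := by
    intro K L f a b _ _
    rw [CochainComplex.isStrictlyLE_iff]
    intro i hi
    rw [CochainComplex.mappingCone.isZero_X_iff]
    exact ⟨K.isZero_of_isStrictlyLE a _ (by omega), L.isZero_of_isStrictlyLE b _ (by omega)⟩
  refine ⟨isTri (fun K => ∃ n, CochainComplex.IsStrictlyLE K n) ⟨0, inferInstance⟩ ?_ ?_,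
    isTri (fun K => ∃ a b, CochainComplex.IsStrictlyGE K a ∧ CochainComplex.IsStrictlyLE K b)
      ⟨0, 0, inferInstance, inferInstance⟩ ?_ ?_⟩
  · rintro K n ⟨q, hq⟩
    exact ⟨q - n, K.isStrictlyLE_shift q n (q - n) (by omega)⟩
  · rintro K L f ⟨a, ha⟩ ⟨b, hb⟩
    exact ⟨max a b, hLE f a b⟩
  · rintro K n ⟨p, q, hp, hq⟩
    exact ⟨p - n, q - n, K.isStrictlyGE_shift p n (p - n) (by omega),
      K.isStrictlyLE_shift q n (q - n) (by omega)⟩
  · rintro K L f ⟨a, b, ha, hb⟩ ⟨a', b', ha', hb'⟩
    exact ⟨min (a - 1) a', max b b', CochainComplex.isStrictlyGE_mappingCone f a a' _, hLE f b b'⟩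

end Groth.Agent.S6622
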