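import Groth.Statements.S6623
import Groth.Agent.PostLib.Uniq
-- import your own Groth.Agent.* helpers here

set_option autoImplicit false
set_option linter.style.haveILetI false
universe v u
open CategoryTheory CategoryTheory.Limits
open CohDer

namespace Groth.Agent.S6623

open CategoryTheory.Pretriangulated in
/-- Let D be a triangulated category, φ : X ⟶ X' a morphism of chain complexes in D considered in
degrees ≤ n, where a Postnikov system for the complex X_n → … → X_0 consists of objects Y_k, an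
isomorphism Y_0 ⟶ X_0, and for 0 ≤ k < n distinguished triangles Y_{k+1} ⟶ X_{k+1} ⟶ Y_k ⟶
Y_{k+1}⟦1⟧ with X_{k+1} ⟶ Y_k ⟶ X_k the differential; let (Y, a, b, c) and (Y', a', b', c') be
Postnikov systems for X and X'. If Hom(X_{j-i}⟦1-i⟧, X'_j) = 0 and Hom(X_j, X'_{j-i}⟦-i⟧) = 0 for
all 0 < i ≤ j ≤ n, then there is at most one morphism of Postnikov systems extending φ: two such
morphisms agree on Y_k for every k ≤ n. -/
theorem result {D : Type u} [Category.{v} D] [Preadditive D] [HasZeroObject D] [HasShift D ℤ]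
    [∀ n : ℤ, (shiftFunctor D n).Additive] [Pretriangulated D] [IsTriangulated D]
    (X X' : ChainComplex D ℕ) (φ : X ⟶ X') (n : ℕ)
    (Y : ℕ → D) (a : ∀ k, Y k ⟶ X.X k) (b : ∀ k, X.X (k + 1) ⟶ Y k)
    (c : ∀ k, Y k ⟶ (shiftFunctor D (1 : ℤ)).obj (Y (k + 1)))
    (h0 : IsIso (a 0))
    (hP : ∀ k, k < n → Triangle.mk (a (k + 1)) (b k) (c k) ∈ distinguishedTriangles ∧ b k ≫ a k = X.d (k + 1) k)
    (qY : ℕ → D) (qa : ∀ k, qY k ⟶ X'.X k) (qb : ∀ k, X'.X (k + 1) ⟶ qY k)
    (qc : ∀ k, qY k ⟶ (shiftFunctor D (1 : ℤ)).obj (qY (k + 1)))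
    (qh0 : IsIso (qa 0))
    (qhP : ∀ k, k < n → Triangle.mk (qa (k + 1)) (qb k) (qc k) ∈ distinguishedTriangles ∧ qb k ≫ qa k = X'.d (k + 1) k)
    (hv : ∀ i j : ℕ, 0 < i → i ≤ j → j ≤ n →
      (∀ ψ : (shiftFunctor D (1 - (i : ℤ))).obj (X.X (j - i)) ⟶ X'.X j, ψ = 0) ∧
      (∀ ψ : X.X j ⟶ (shiftFunctor D (-(i : ℤ))).obj (X'.X (j - i)), ψ = 0))
    (y z : ∀ k, Y k ⟶ qY k)
    (hy : (∀ k, k ≤ n → y k ≫ qa k = a k ≫ φ.f k) ∧
      (∀ k, k < n → b k ≫ y k = φ.f (k + 1) ≫ qb k ∧ c k ≫ (shiftFunctor D (1 : ℤ)).map (y (k + 1)) = y k ≫ qc k))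
    (hz : (∀ k, k ≤ n → z k ≫ qa k = a k ≫ φ.f k) ∧
      (∀ k, k < n → b k ≫ z k = φ.f (k + 1) ≫ qb k ∧ c k ≫ (shiftFunctor D (1 : ℤ)).map (z (k + 1)) = z k ≫ qc k))
    (k : ℕ) (hk : k ≤ n) :
    y k = z k := by
  open CategoryTheory.Pretriangulated in
  have P : ∀ k, k < n → ∀ (j : ℕ) (e : ℤ), k < j → j ≤ n → e = (k : ℤ) + 1 - j →
      ∀ f : (Y k)⟦e⟧ ⟶ X'.X j, f = 0 := by
    intro k
    induction k with
    | zero =>
      intro _ j e hj hjn he
      subst he
      refine PostLib.iso_zero_out (asIso (a 0)) ?_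
      have h := (hv j j hj le_rfl hjn).1
      rw [Nat.sub_self] at h
      convert h using 4 <;> simp
    | succ k ih =>
      intro hk j e hj hjn he
      have hk' : k < n := by omega
      refine PostLib.mid_zero_out (inv_rot_of_distTriang _ (hP k hk').1) e ?_ ?_
      · exact PostLib.comp_shift_out rfl (ih hk' j _ (by omega) hjn (by push_cast at he; omega))
      · subst he
        have h := (hv (j - (k + 1)) j (by omega) (by omega) hjn).1
        rw [show j - (j - (k + 1)) = k + 1 by omega] at h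
        rw [show ((k + 1 : ℕ) : ℤ) + 1 - j = 1 - ((j - (k + 1) : ℕ) : ℤ) by omega]
        exact h
  have Q : ∀ k, k < n → ∀ (j : ℕ) (e : ℤ), k < j → j ≤ n → e = (k : ℤ) - j →
      ∀ f : X.X j ⟶ (qY k)⟦e⟧, f = 0 := by
    intro k
    induction k with
    | zero =>
      intro _ j e hj hjn he
      subst he
      refine PostLib.iso_zero_in (asIso (qa 0)) ?_
      have h := (hv j j hj le_rfl hjn).2
      rw [Nat.sub_self] at h
      rw [show ((0 : ℕ) : ℤ) - j = -(j : ℤ) by omega]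
      exact h
    | succ k ih =>
      intro hk j e hj hjn he
      have hk' : k < n := by omega
      refine PostLib.mid_zero_in (inv_rot_of_distTriang _ (qhP k hk').1) e ?_ ?_
      · exact PostLib.comp_shift_in rfl (ih hk' j _ (by omega) hjn (by push_cast at he; omega))
      · subst he
        have h := (hv (j - (k + 1)) j (by omega) (by omega) hjn).2
        rw [show j - (j - (k + 1)) = k + 1 by omega] at h
        rw [show ((k + 1 : ℕ) : ℤ) - j = -((j - (k + 1) : ℕ) : ℤ) by omega]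
        exact h
  induction k with
  | zero =>
    rw [← cancel_mono (qa 0), hy.1 0 hk, hz.1 0 hk]
  | succ k ih =>
    have hkn : k < n := hk
    have e := ih hkn.le
    have h' : c k ≫ (y (k + 1) - z (k + 1))⟦(1 : ℤ)⟧' = 0 := by
      rw [Functor.map_sub, Preadditive.comp_sub, (hy.2 k hkn).2, (hz.2 k hkn).2, e, sub_self]
    obtain ⟨g, hg⟩ := PostLib.exists_factor (hP k hkn).1 _ h'
    have h2 : a (k + 1) ≫ g ≫ qa (k + 1) = 0 := by
      rw [← Category.assoc, ← hg, Preadditive.sub_comp, hy.1 _ hk, hz.1 _ hk, sub_self]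
    obtain ⟨h, hh⟩ := Pretriangulated.Triangle.yoneda_exact₂ _ (hP k hkn).1 (g ≫ qa (k + 1)) h2
    have hh0 : h = 0 := by
      have := P k hkn (k + 1) 0 (Nat.lt_succ_self k) hk (by push_cast; omega)
        ((shiftFunctorZero D ℤ).hom.app (Y k) ≫ h)
      exact (cancel_epi ((shiftFunctorZero D ℤ).hom.app (Y k))).1 (this.trans comp_zero.symm)
    rw [hh0, comp_zero] at hh
    obtain ⟨r, hr⟩ := Pretriangulated.Triangle.coyoneda_exact₂ _
      (inv_rot_of_distTriang _ (qhP k hkn).1) g hh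
    have hr0 : r = 0 := Q k hkn (k + 1) (-1) (Nat.lt_succ_self k) hk (by push_cast; omega) r
    rw [hr0, zero_comp] at hr
    rw [← sub_eq_zero, hg, hr]
    exact comp_zero

end Groth.Agent.S6623
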