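import Groth.Statements.S6624
import Groth.Agent.DerLib.LerayAcyclic
import Groth.Agent.DerLib.Horseshoe

set_option autoImplicit false
universe w w' v v' u u'
open CategoryTheory CategoryTheory.Limits
open CohDer

namespace Groth.Agent.S6624

/-- Part (1): in the case where A has enough injectives: let F : A ⥤ B be an additive functor between
abelian categories, A with enough injectives, and X an object of A. Then X is right acyclic for F,
i.e. the canonical map F(X)[0] ⟶ RF(X[0]) is an isomorphism in D⁺(B), if and only if F(X) ⟶ R⁰F(X)
is an isomorphism and RⁱF(X) = 0 for all i > 0. -/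
theorem result {A : Type u} [Category.{v} A] [Abelian A] [HasDerivedCategory.{w} A] [EnoughInjectives A]
    {B : Type u'} [Category.{v'} B] [Abelian B] [HasDerivedCategory.{w'} B]
    (F : A ⥤ B) [F.Additive] (X : A) :
    IsIso (F.rightDerivedFunctorPlusUnit.app ((HomotopyCategory.Plus.singleFunctor A 0).obj X)) ↔
      (IsIso (F.toRightDerivedZero.app X) ∧ ∀ i : ℕ, 0 < i → IsZero ((F.rightDerived i).obj X)) := by
  let R : InjectiveResolution X := injectiveResolution X
  exact (Groth.Agent.DerLib.LerayAcyclic.isIso_unit_iff F
      ⟨(CochainComplex.singleFunctor A 0).obj X, 0, inferInstance⟩ R.cochainComplex 0 R.ι').trans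
    ((Groth.Agent.DerLib.LerayAcyclic.quasiIso_map_ι'_iff F R).trans
      (Groth.Agent.DerLib.LerayAcyclic.quasiIso_map_ι_iff F R))

end Groth.Agent.S6624
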