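import Groth.Statements.S6625
import Groth.Agent.DerLib.LerayAcyclic
import Groth.Agent.DerLib.Horseshoe

set_option autoImplicit false
set_option linter.style.haveILetI false
universe w w' v v' u u'
open CategoryTheory CategoryTheory.Limits
open CohDer

namespace Groth.Agent.S6625

open HomologicalComplex in
/-- `F` preserves acyclicity of bounded below complexes with terms in an adapted class. -/
theorem acyclic_map {A : Type u} [Category.{v} A] [Abelian A] [HasDerivedCategory.{w} A]
    [EnoughInjectives A] {B : Type u'} [Category.{v'} B] [Abelian B]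
    (F : A ⥤ B) [F.Additive] (I : ObjectProperty A) (h0 : ∀ Z : A, IsZero Z → I Z)
    (h2 : ∀ S : ShortComplex A, S.ShortExact → I S.X₁ → I S.X₂ → I S.X₃ ∧ (S.map F).ShortExact)
    (M : CochainComplex A ℤ) (m : ℤ) [M.IsStrictlyGE m] (hM : M.Acyclic)
    (hI : ∀ n, I (M.X n)) : ((F.mapHomologicalComplex _).obj M).Acyclic := by
  have hZ : ∀ k : ℕ, ∀ j < m + k, I (M.cycles j) := by
    intro k
    induction k with
    | zero =>
      intro j hj
      exact h0 _ (IsZero.of_mono (M.iCycles j) (M.isZero_of_isStrictlyGE m j (by simpa using hj)))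
    | succ k ih =>
      intro j hj
      exact (h2 _ (SpSeqLib.cyclesSeq_shortExact M hM (j - 1) j (by omega))
        (ih (j - 1) (by omega)) (hI (j - 1))).1
  have hS : ∀ i j : ℤ, i + 1 = j → ((SpSeqLib.cyclesSeq M i j).map F).ShortExact := fun i j h =>
    (h2 _ (SpSeqLib.cyclesSeq_shortExact M hM i j h) (hZ (i - m + 1).toNat i (by omega)) (hI i)).2
  intro n
  rw [exactAt_iff' _ (n - 1) n (n + 1) (by simp) (by simp),
    ShortComplex.exact_iff_exact_up_to_refinements]
  intro T x hx
  have hS₁ := hS (n - 1) n (by omega)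
  have hS₂ := hS n (n + 1) rfl
  have hS₃ := hS (n + 1) (n + 1 + 1) rfl
  have hd₁ : F.map (M.toCycles (n - 1) n) ≫ F.map (M.iCycles n) = F.map (M.d (n - 1) n) := by
    rw [← F.map_comp, M.toCycles_i]
  have hd₂ : F.map (M.toCycles n (n + 1)) ≫ F.map (M.iCycles (n + 1)) = F.map (M.d n (n + 1)) := by
    rw [← F.map_comp, M.toCycles_i]
  have hx' : (x : T ⟶ F.obj (M.X n)) ≫ F.map (M.d n (n + 1)) = 0 := hx
  haveI : Mono (F.map (M.iCycles (n + 1))) := hS₃.mono_f
  haveI : Mono ((SpSeqLib.cyclesSeq M n (n + 1)).map F).f := hS₂.mono_f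
  have hx'' : x ≫ F.map (M.toCycles n (n + 1)) = 0 :=
    (cancel_mono (F.map (M.iCycles (n + 1)))).1 (((Category.assoc _ _ _).trans
      (congrArg (x ≫ ·) hd₂)).trans (hx'.trans zero_comp.symm))
  haveI : Epi (F.map (M.toCycles (n - 1) n)) := hS₁.epi_g
  obtain ⟨T', π, hπ, y, hy⟩ := surjective_up_to_refinements_of_epi
    (F.map (M.toCycles (n - 1) n)) (hS₂.exact.lift x hx'')
  refine ⟨T', π, hπ, y, ?_⟩
  have hl : hS₂.exact.lift x hx'' ≫ F.map (M.iCycles n) = x := hS₂.exact.lift_f x hx''
  exact ((congrArg (π ≫ ·) hl).symm.trans (Category.assoc _ _ _).symm).trans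
    ((congrArg (· ≫ F.map (M.iCycles n)) hy).trans
      ((Category.assoc _ _ _).trans (congrArg (y ≫ ·) hd₁)))

/-- In the case where A has enough injectives: let F : A ⥤ B be an additive functor between abelian
categories, A with enough injectives, and I a class of objects of A such that (1) each object of A
embeds by a monomorphism into some object of I, and (2) whenever 0 → P → Q → R → 0 is a short exact
sequence whose terms P and Q lie in I, the third term R also lies in I, and applying F to the
sequence yields a short exact sequence in B. Under these assumptions, each X belonging to I is right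
acyclic for F, meaning the map F(X)[0] ⟶ RF(X[0]) is an isomorphism. -/
theorem result {A : Type u} [Category.{v} A] [Abelian A] [HasDerivedCategory.{w} A] [EnoughInjectives A]
    {B : Type u'} [Category.{v'} B] [Abelian B] [HasDerivedCategory.{w'} B]
    (F : A ⥤ B) [F.Additive] (I : ObjectProperty A)
    (h1 : ∀ X : A, ∃ (Y : A) (ι : X ⟶ Y), I Y ∧ Mono ι)
    (h2 : ∀ S : ShortComplex A, S.ShortExact → I S.X₁ → I S.X₂ → I S.X₃ ∧ (S.map F).ShortExact)
    (X : A) (hX : I X) :
    IsIso (F.rightDerivedFunctorPlusUnit.app ((HomotopyCategory.Plus.singleFunctor A 0).obj X)) := by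
  have hiso : ∀ X Y : A, I X → (X ≅ Y) → I Y := by
    intro P Q hP e
    obtain ⟨Z, hZ, hZI⟩ : ∃ Z : A, IsZero Z ∧ I Z := by
      obtain ⟨Z, hZ⟩ : ∃ Z : A, IsZero Z := HasZeroObject.zero
      exact ⟨Z, hZ, (h2 (ShortComplex.mk (𝟙 P) (0 : P ⟶ Z) comp_zero)
        (ShortComplex.Splitting.shortExact
          { r := 𝟙 P, s := 0, s_g := hZ.eq_of_src _ _ }) hP hP).1⟩
    exact (h2 (ShortComplex.mk (0 : Z ⟶ P) e.hom zero_comp)
      (ShortComplex.Splitting.shortExact
        { r := 0, s := e.inv, f_r := hZ.eq_of_src _ _ }) hZI hP).1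
  have h0 : ∀ Z : A, IsZero Z → I Z := fun Z hZ =>
    (h2 (ShortComplex.mk (𝟙 X) (0 : X ⟶ Z) comp_zero)
      (ShortComplex.Splitting.shortExact
        { r := 𝟙 X, s := 0, s_g := hZ.eq_of_src _ _ }) hX hX).1
  let R : InjectiveResolution X := injectiveResolution X
  let K := (CochainComplex.singleFunctor A 0).obj X
  suffices h : QuasiIso ((F.mapHomologicalComplex _).map R.ι') from
    (Groth.Agent.DerLib.LerayAcyclic.isIso_unit_iff F
      ⟨K, 0, inferInstance⟩ R.cochainComplex 0 R.ι').2 h
  obtain ⟨Z, hZ⟩ : ∃ Z : A, IsZero Z := HasZeroObject.zero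
  obtain ⟨J, α, _, hJ, hαm, _⟩ := Groth.Agent.DerLib.RightRes.exists_resolution_int (I := I)
    (fun Y => by
      obtain ⟨Y', ι, h, h'⟩ := h1 Y
      exact ⟨Y', ι, h, h'⟩) ⟨Z, hZ, h0 Z hZ⟩ R.cochainComplex 0
  obtain ⟨r, hr⟩ := Groth.Agent.DerLib.Horseshoe.exists_desc α hαm 0
    (fun n => inferInstanceAs (Injective (R.cochainComplex.X n))) (𝟙 R.cochainComplex)
  let u : K ⟶ J := R.ι' ≫ α
  haveI : (CochainComplex.mappingCone u).IsStrictlyGE (-1) :=
    CochainComplex.isStrictlyGE_mappingCone u 0 0 (-1)
  have hcone : ∀ n, I ((CochainComplex.mappingCone u).X n) := by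
    intro n
    refine hiso _ _ ?_ (HomologicalComplex.homotopyCofiber.XIsoBiprod u n (n + 1) rfl).symm
    by_cases hn : n + 1 = 0
    · exact hiso X _ hX ((HomologicalComplex.singleObjXIsoOfEq _ 0 X (n + 1) hn).symm ≪≫
        { hom := biprod.inl
          inv := biprod.fst
          hom_inv_id := biprod.inl_fst
          inv_hom_id := biprod.hom_ext _ _
            (((Category.assoc _ _ _).trans (congrArg (biprod.fst ≫ ·) biprod.inl_fst)).trans
              ((Category.comp_id _).trans (Category.id_comp _).symm))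
            ((J.isZero_of_isStrictlyGE 0 n (by omega)).eq_of_tgt _ _) })
    · exact hiso (J.X n) _ (hJ n)
        { hom := biprod.inr
          inv := biprod.snd
          inv_hom_id := biprod.hom_ext _ _
            ((HomologicalComplex.isZero_single_obj_X _ 0 X (n + 1) hn).eq_of_tgt _ _) (by simp) }
  have hu : QuasiIso ((F.mapHomologicalComplex _).map u) :=
    Groth.Agent.DerLib.LerayAcyclic.quasiIso_map_of_acyclic F u
      (acyclic_map F I h0 h2 _ (-1)
        (Groth.Agent.DerLib.LerayAcyclic.acyclic_mappingCone u) hcone)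
  have hrF : (F.mapHomologicalComplex _).map α ≫ (F.mapHomologicalComplex _).map r = 𝟙 _ := by
    rw [← Functor.map_comp, hr, CategoryTheory.Functor.map_id]
  rw [quasiIso_iff] at hu ⊢
  intro n
  rw [quasiIsoAt_iff_isIso_homologyMap]
  have h := hu n
  rw [quasiIsoAt_iff_isIso_homologyMap] at h
  have e : HomologicalComplex.homologyMap ((F.mapHomologicalComplex _).map R.ι') n ≫
      HomologicalComplex.homologyMap ((F.mapHomologicalComplex _).map α) n =
      HomologicalComplex.homologyMap ((F.mapHomologicalComplex _).map u) n := by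
    rw [← HomologicalComplex.homologyMap_comp, ← Functor.map_comp]
  haveI : Mono (HomologicalComplex.homologyMap ((F.mapHomologicalComplex _).map α) n) :=
    SplitMono.mono ⟨HomologicalComplex.homologyMap ((F.mapHomologicalComplex _).map r) n, by
      rw [← HomologicalComplex.homologyMap_comp, hrF, HomologicalComplex.homologyMap_id]⟩
  rw [← e] at h
  haveI : Epi (HomologicalComplex.homologyMap ((F.mapHomologicalComplex _).map α) n) :=
    epi_of_epi (HomologicalComplex.homologyMap ((F.mapHomologicalComplex _).map R.ι') n) _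
  haveI := isIso_of_mono_of_epi (HomologicalComplex.homologyMap ((F.mapHomologicalComplex _).map α) n)
  exact IsIso.of_isIso_comp_right _
    (HomologicalComplex.homologyMap ((F.mapHomologicalComplex _).map α) n)

end Groth.Agent.S6625
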