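import Groth.Statements.S6631
import Groth.Agent.EtSplitLib.Sites

set_option autoImplicit false
open CategoryTheory CategoryTheory.Limits AlgebraicGeometry Opposite
universe u
open EtDesc

namespace Groth.Agent.S6631

/-- Let f : X ⟶ Y be a morphism of schemes satisfying condition (C) (for every etale U ⟶ X there are an
etale V ⟶ Y and a surjective X-morphism X ×_Y V ⟶ U). Then the direct image of sheaves of sets on
the small etale sites along f reflects monomorphisms and epimorphisms. -/
theorem result {X Y : Scheme.{u}} (f : X ⟶ Y) (hC : BigSite.PropC f) :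
    (EtDesc.pushSh f).ReflectsMonomorphisms ∧ (EtDesc.pushSh f).ReflectsEpimorphisms := by
  refine ⟨⟨fun {G G'} φ hφ => ?_⟩, ⟨fun {G G'} φ hφ => ?_⟩⟩
  · refine (sheafToPresheaf _ _).mono_of_mono_map ?_
    haveI : Mono ((sheafToPresheaf _ _).map ((EtDesc.pushSh f).map φ)) := inferInstance
    haveI : ∀ U, Mono (φ.hom.app U) := fun U => (CategoryTheory.mono_iff_injective _).2
      (EtSplitLib.injective_of_propC hC ((isSheaf_iff_isSheaf_of_type _ _).1 G.property) φ.hom
        (fun V => (CategoryTheory.mono_iff_injective _).1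
          ((NatTrans.mono_iff_mono_app _).1 ‹Mono ((sheafToPresheaf _ _).map ((EtDesc.pushSh f).map φ))› (op V))) U.unop)
    exact NatTrans.mono_of_mono_app φ.hom
  · refine (Sheaf.isLocallySurjective_iff_epi _).1 ?_
    haveI : Presheaf.IsLocallySurjective Y.smallEtaleTopology (Functor.whiskerLeft (EtCoh.bc f).op φ.hom) :=
      (Sheaf.isLocallySurjective_iff_epi _).2 hφ
    exact EtSplitLib.isLocallySurjective_of_propC hC φ.hom

end Groth.Agent.S6631
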