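import Groth.Statements.S6639
import Mathlib
import Mathlib
import Groth.Agent.QLinearLang
-- import your own Groth.Agent.* helpers here

set_option autoImplicit false
universe u
open scoped TensorProduct
open EtBase

namespace Groth.Agent.S6639

/-- Let k ⟶ k' be a homomorphism of algebraically closed fields of characteristic p > 0 (an extension of
algebraically closed fields), V a finite-dimensional k-vector space, F : V ⟶ V additive with F(c •
v) = c^p • F(v), and F' the additive endomorphism of V' = k' ⊗_k V satisfying F'(c ⊗ v) = c^p ⊗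
F(v). Then v ↦ 1 ⊗ v maps the fixed vectors of F bijectively onto the fixed vectors of F'. -/
theorem result {k k' V : Type u} [Field k] [IsAlgClosed k] [Field k']
    [IsAlgClosed k'] [Algebra k k'] (p : ℕ) [Fact p.Prime] [CharP k p]
    [AddCommGroup V] [Module k V] [FiniteDimensional k V] (F : V →+ V)
    (hF : ∀ (c : k) (v : V), F (c • v) = c ^ p • F v)
    (F' : k' ⊗[k] V →+ k' ⊗[k] V) (hF' : ∀ (c : k') (v : V), F' (c ⊗ₜ[k] v) = (c ^ p) ⊗ₜ[k] F v) :
    Set.BijOn (fun v : V => (1 : k') ⊗ₜ[k] v) {v : V | F v = v} {w : k' ⊗[k] V | F' w = w} := by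
  classical
  have hp := (Fact.out : p.Prime)
  let B := Module.finBasis k V
  let B' := Algebra.TensorProduct.basis k' B
  have hinj : Function.Injective (fun v : V => (1 : k') ⊗ₜ[k] v) := fun v v' h => by
    refine B.repr.injective (Finsupp.ext fun i => (algebraMap k k').injective ?_)
    have := congrArg (fun z => B'.repr z i) h
    simpa [B'] using this
  refine ⟨fun v hv => by
    show F' (1 ⊗ₜ v) = 1 ⊗ₜ v
    rw [hF', one_pow, show F v = v from hv], hinj.injOn, ?_⟩
  intro w hw
  have hiter : ∀ (n : ℕ) (c : k) (v : V), F^[n] (c • v) = c ^ p ^ n • F^[n] v := by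
    intro n
    induction n with
    | zero => intro c v; simp
    | succ n ih => intro c v; rw [Function.iterate_succ_apply', ih, hF, Function.iterate_succ_apply', ← pow_mul, ← pow_succ]
  let S : ℕ → Submodule k V := fun n =>
    { carrier := Set.range F^[n]
      zero_mem' := ⟨0, iterate_map_zero F n⟩
      add_mem' := by rintro _ _ ⟨a, rfl⟩ ⟨b, rfl⟩; exact ⟨a + b, iterate_map_add F n a b⟩
      smul_mem' := by
        rintro c _ ⟨a, rfl⟩
        obtain ⟨z, hz⟩ := IsAlgClosed.exists_pow_nat_eq c (pow_pos hp.pos n)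
        exact ⟨z • a, by rw [hiter, hz]⟩ }
  have hanti : ∀ n, S (n + 1) ≤ S n := fun n => by rintro _ ⟨a, rfl⟩; exact ⟨F a, rfl⟩
  obtain ⟨N, hN⟩ := IsArtinian.monotone_stabilizes (R := k) (M := V)
    ⟨fun n => OrderDual.toDual (S n), monotone_nat_of_le_succ fun n => hanti n⟩
  have hN1 : S N = S (N + 1) := hN (N + 1) (Nat.le_succ N)
  let W := S N
  have hWF : ∀ x ∈ W, F x ∈ W := by
    rintro _ ⟨a, rfl⟩
    exact ⟨F a, by rw [← Function.iterate_succ_apply, Function.iterate_succ_apply']⟩
  let φ : W →+ W :=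
    { toFun := fun x => ⟨F x.1, hWF x.1 x.2⟩
      map_zero' := Subtype.ext (map_zero F)
      map_add' := fun a b => Subtype.ext (map_add F _ _) }
  have hsurj : Function.Surjective φ := fun x => by
    obtain ⟨a, ha⟩ := (hN1.le x.2 : (x : V) ∈ S (N + 1))
    refine ⟨⟨F^[N] a, a, rfl⟩, Subtype.ext ?_⟩
    show F (F^[N] a) = x
    exact (Function.iterate_succ_apply' F N a).symm.trans ha
  have hφ : ∀ (c : k) (x : W), φ (c • x) = c ^ p ^ 1 • φ x := fun c x => Subtype.ext (by
    show F (c • (x : V)) = c ^ p ^ 1 • F x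
    rw [pow_one, hF])
  obtain ⟨b, hb⟩ := Groth.Agent.QLinearLang.exists_basis φ hφ one_pos (by rw [hsurj.range_eq, Submodule.span_univ])
  -- fixed tensors come from W
  have hiter' : ∀ (n : ℕ) (c : k') (v : V), F'^[n] (c ⊗ₜ[k] v) = (c ^ p ^ n) ⊗ₜ[k] F^[n] v := by
    intro n
    induction n with
    | zero => intro c v; simp
    | succ n ih => intro c v; rw [Function.iterate_succ_apply', ih, hF', Function.iterate_succ_apply', ← pow_mul, ← pow_succ]
  have hmem : ∀ z : k' ⊗[k] V, ∃ d : Fin (Module.finrank k W) → k', F'^[N] z = ∑ i, d i ⊗ₜ[k] ((b i : W) : V) := by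
    intro z
    induction z using TensorProduct.induction_on with
    | zero => exact ⟨0, by rw [iterate_map_zero]; simp⟩
    | tmul c v =>
      refine ⟨fun i => algebraMap k k' (b.repr ⟨F^[N] v, v, rfl⟩ i) * c ^ p ^ N, ?_⟩
      rw [hiter']
      have : F^[N] v = ∑ i, b.repr ⟨F^[N] v, v, rfl⟩ i • ((b i : W) : V) := by
        have h := congrArg Subtype.val (b.sum_repr ⟨F^[N] v, v, rfl⟩)
        rw [AddSubmonoidClass.coe_finsetSum] at h; simp only [Submodule.coe_smul] at h; exact h.symm
      conv_lhs => rw [this]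
      rw [TensorProduct.tmul_sum]
      refine Finset.sum_congr rfl fun i _ => ?_
      rw [← TensorProduct.smul_tmul, Algebra.smul_def]
    | add y z hy hz =>
      obtain ⟨d, hd⟩ := hy
      obtain ⟨d', hd'⟩ := hz
      exact ⟨d + d', by rw [iterate_map_add, hd, hd', ← Finset.sum_add_distrib]; simp [TensorProduct.add_tmul]⟩
  obtain ⟨d, hd⟩ := hmem w
  rw [Function.iterate_fixed hw] at hd
  let L : (Fin (Module.finrank k W) → k) →ₗ[k] V := W.subtype.comp b.equivFun.symm.toLinearMap
  have hL : Function.Injective L := W.injective_subtype.comp b.equivFun.symm.injective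
  obtain ⟨L', hL'⟩ := LinearMap.exists_leftInverse_of_injective L (LinearMap.ker_eq_bot.2 hL)
  have hcoef : ∀ e e' : Fin (Module.finrank k W) → k', ∑ i, e i ⊗ₜ[k] ((b i : W) : V) = ∑ i, e' i ⊗ₜ[k] ((b i : W) : V) → e = e' := by
    intro e e' h
    funext j
    have := congrArg (fun z => TensorProduct.rid k k' (((LinearMap.proj j).comp L').lTensor k' z)) h
    have hLj : ∀ i, L' ((b i : W) : V) = Pi.single i 1 := fun i => by
      rw [show ((b i : W) : V) = L (Pi.single i 1) by simp [L]]
      exact LinearMap.congr_fun hL' _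
    simpa [hLj, Pi.single_apply] using this
  have hfix : (fun i => d i ^ p) = d := by
    refine hcoef _ _ ?_
    conv_rhs => rw [← hd, ← (show F' w = w from hw), hd, map_sum]
    refine Finset.sum_congr rfl fun i _ => ?_
    rw [hF', show F ((b i : W) : V) = (b i : W) from congrArg Subtype.val (hb i)]
  have hk : ∀ i, ∃ c : k, algebraMap k k' c = d i ∧ c ^ p = c := by
    intro i
    have hne : (Polynomial.X ^ p - Polynomial.X : Polynomial k) ≠ 0 := FiniteField.X_pow_card_sub_X_ne_zero k hp.one_lt
    have h : d i ∈ ((Polynomial.X ^ p - Polynomial.X : Polynomial k).map (algebraMap k k')).roots := by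
      rw [Polynomial.mem_roots (Polynomial.map_ne_zero hne)]
      simp [congrFun hfix i]
    rw [Polynomial.Splits.roots_map (IsAlgClosed.splits _) (algebraMap k k'), Multiset.mem_map] at h
    obtain ⟨c, hc, hc'⟩ := h
    refine ⟨c, hc', ?_⟩
    rw [Polynomial.mem_roots hne] at hc
    simpa [sub_eq_zero] using hc
  choose c hc hcp using hk
  refine ⟨∑ i, c i • ((b i : W) : V), ?_, ?_⟩
  · show F _ = _
    rw [map_sum]
    refine Finset.sum_congr rfl fun i _ => ?_
    rw [hF, hcp, show F ((b i : W) : V) = (b i : W) from congrArg Subtype.val (hb i)]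
  · show (1 : k') ⊗ₜ[k] _ = w
    rw [hd, TensorProduct.tmul_sum]
    refine Finset.sum_congr rfl fun i _ => ?_
    rw [← TensorProduct.smul_tmul, Algebra.smul_def, mul_one, hc]

end Groth.Agent.S6639
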