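import Groth.Statements.S6641
import Groth.Agent.SkySumLib.Cohom

set_option backward.isDefEq.respectTransparency false
set_option backward.isDefEq.respectTransparency.types false
set_option maxHeartbeats 1000000
open CategoryTheory.Abelian Groth.Agent.EtShLib

set_option autoImplicit false
open CategoryTheory CategoryTheory.Limits AlgebraicGeometry Opposite
universe u
open Curves

namespace Groth.Agent.S6641

/-- Let X be a smooth curve over an algebraically closed field k (here: X integral of dimension one,
smooth, separated and of finite type over k), and for a closed point x let i_x : Spec κ(x) ⟶ X be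
its inclusion. Then H^q of the direct sum, over all closed points x, of the sheaves (i_x)_* Z (given
here as any colimit cofan of that family) vanishes for every q ≥ 1. -/
theorem result (k : Type u) [Field k] [IsAlgClosed k] (X : Scheme.{u})
    (f : X ⟶ Spec (CommRingCat.of k)) [Smooth f] [IsSeparated f] [LocallyOfFiniteType f] [QuasiCompact f] [IsIntegral X]
    (hdim : topologicalKrullDim ↥X = 1)
    (c : Cofan fun x : {x : ↥X // IsClosed ({x} : Set ↥X)} =>
      (EtCoh.push (X.fromSpecResidueField x.1)).obj (EtCoh.const (Spec (X.residueField x.1)) ℤ))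
    (hc : IsColimit c) (q : ℕ) (hq : 1 ≤ q) :
    Subsingleton (EtCoh.H X c.pt q) := by
  haveI : IsNoetherian X := by
    haveI : IsLocallyNoetherian X := LocallyOfFiniteType.isLocallyNoetherian f
    haveI : CompactSpace X := QuasiCompact.compactSpace_of_compactSpace f
    exact ⟨⟩
  let F := fun x : SkySumLib.Pt X =>
    (EtCoh.push (X.fromSpecResidueField x.1)).obj (EtCoh.const (Spec (X.residueField x.1)) ℤ)
  let e : c.pt ≅ ∐ F := hc.coconePointUniqueUpToIso (coproductIsCoproduct F)
  refine subsingleton_of_forall_eq 0 fun z => ?_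
  obtain ⟨S, w, hw⟩ := DivSeqLib.exists_sum_of_coprod F q
    (Ext.comp (z : EtCoh.H X c.pt q) (Ext.mk₀ e.hom) (add_zero q))
  have h0 : Ext.comp (z : EtCoh.H X c.pt q) (Ext.mk₀ e.hom) (add_zero q) = 0 := by
    refine hw.trans (Finset.sum_eq_zero fun i _ => ?_)
    have hx := (w i).1.2
    haveI : IsClosedImmersion (SkySumLib.ix (w i).1) := isClosed_singleton_iff_isClosedImmersion.1 hx
    haveI := SkySumLib.isSepClosed_residueField f (w i).1.1 hx
    haveI := SkySumLib.isSepClosed_residueField_self (X.residueField (w i).1.1)
    haveI : Subsingleton (EtCoh.H (Spec (X.residueField (w i).1.1))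
        (EtCoh.const (Spec (X.residueField (w i).1.1)) ℤ) q) :=
      Groth.Agent.S0073.result (X.residueField (w i).1.1) _ q hq
    haveI : Subsingleton (EtCoh.H X (F (w i).1) q) := ⟨fun a b =>
      (Groth.Agent.S14451.result (SkySumLib.ix (w i).1) (EtCoh.const (Spec (X.residueField (w i).1.1)) ℤ)
        (fun p hp => isZero_rightDerived_push_finite (SkySumLib.ix (w i).1) _ p hp) q).1 (Subsingleton.elim _ _)⟩
    rw [Subsingleton.elim (w i).2 0, Ext.zero_comp]
  have h' := congrArg (fun t => Ext.comp t (Ext.mk₀ e.inv) (add_zero q)) h0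
  rwa [Ext.comp_assoc_of_third_deg_zero, Ext.mk₀_comp_mk₀, Iso.hom_inv_id, Ext.comp_mk₀_id, Ext.zero_comp] at h'

end Groth.Agent.S6641
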