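import Groth.Statements.S6643
import Groth.Agent.TensorConsLib.Main

set_option autoImplicit false
open CategoryTheory CategoryTheory.Limits AlgebraicGeometry Opposite
universe u
open EtModW

namespace Groth.Agent.S6643

/-- On the small etale site of a scheme X, the tensor product over Λ of two finite type locally constant
sheaves of Λ-modules is finite type locally constant. (The published statement covers all locally
constant sheaves of Λ-modules; this row treats the finite type ones.) -/
theorem result (Λ : Type (u + 1)) [CommRing Λ] {X : Scheme.{u}} (F G : EtModW.Mod Λ X)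
    (hF : EtModW.IsFTLocConst Λ F) (hG : EtModW.IsFTLocConst Λ G) :
    EtModW.IsFTLocConst Λ (((EtModD.tensorBi Λ X).obj F).obj G) := by
  open Groth.Agent.EtShLib in
  let e : EtCoh.bc (𝟙 X) ≅ 𝟭 X.Etale := NatIso.ofComponents
    (fun V => MorphismProperty.Over.isoMk (@asIso _ _ _ _ (pullback.fst V.hom (𝟙 X)) ((IsPullback.of_hasPullback V.hom (𝟙 X)).isIso_fst_of_isIso))
      (pullback.condition.trans (Category.comp_id _)))
    fun {V V'} a => MorphismProperty.Over.Hom.ext ((EtCoh.isPullback_bc_map (𝟙 X) a).w)
  let p : pullA (𝟙 X) (ModuleCat.{u + 1} Λ) ≅ 𝟭 _ :=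
    Adjunction.leftAdjointUniq ((adjA (𝟙 X) (ModuleCat.{u + 1} Λ)).ofNatIsoRight
      (Functor.sheafPushforwardContinuousId' e (ModuleCat.{u + 1} Λ) X.smallEtaleTopology)) Adjunction.id
  rw [isFTLC_iff] at hF hG ⊢
  exact LC.of_stalk_iso (Groth.Agent.TensorConsLib.lc_pull_ten (𝟙 X)
    (LC.of_stalk_iso hF (p.inv.app F)) (LC.of_stalk_iso hG (p.inv.app G))) (p.hom.app _)

end Groth.Agent.S6643
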