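import Groth.Statements.S6647
import Groth.Agent.EtShLib.LocExt
-- import your own Groth.Agent.* helpers here

set_option autoImplicit false
open CategoryTheory CategoryTheory.Limits AlgebraicGeometry Opposite
universe u
open EtCore

namespace Groth.Agent.S6647

/-- Let φ : F ⟶ G be a map of locally constant abelian sheaves on the small etale site of a scheme X,
with F finite locally constant. Then on the members of some etale covering of X the restriction of φ
is, up to isomorphisms with constant sheaves on both sides, the map of constant sheaves induced by a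
homomorphism of abelian groups. -/
theorem result {X : Scheme.{u}} (F G : EtCoh.Ab X) (φ : F ⟶ G)
    (hF : EtCoh.IsFiniteLocallyConstant F) (hG : EtRest.IsLocallyConstant G) :
    ∃ (ι : Type u) (U : ι → X.Etale), EtCoh.Covers U ∧ ∀ i, ∃ (M N : Type (u + 1)) (_ : AddCommGroup M) (_ : AddCommGroup N)
      (h : M →+ N)
      (α : EtCoh.restr F (U i) ≅ (constantSheaf (X.smallEtaleTopology.over (U i)) AddCommGrpCat.{u + 1}).obj (AddCommGrpCat.of M))
      (β : EtCoh.restr G (U i) ≅ (constantSheaf (X.smallEtaleTopology.over (U i)) AddCommGrpCat.{u + 1}).obj (AddCommGrpCat.of N)),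
      (X.smallEtaleTopology.overPullback AddCommGrpCat.{u + 1} (U i)).map φ ≫ β.hom = α.hom ≫ (constantSheaf (X.smallEtaleTopology.over (U i)) AddCommGrpCat.{u + 1}).map (AddCommGrpCat.ofHom h) := by
  have h : ∀ x : X, _ := Groth.Agent.EtShLib.exists_common φ ((Groth.Agent.EtShLib.isFLC_iff _).1 hF)
    ((Groth.Agent.EtShLib.isLC_iff _).1 hG) (fun M (hM : Finite M) => Groth.Agent.EtShLib.fg_Ab)
  choose V y M N η θ f hy hM hN hη hθ he using h
  refine ⟨X, V, fun x => ⟨x, y x, hy x⟩, fun x => ⟨M x, N x, inferInstance, inferInstance, (f x).hom, (hη x).iso, (hθ x).iso, ?_⟩⟩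
  haveI := Groth.Agent.EtShLib.isIso_cmap (hη x)
  haveI := Groth.Agent.EtShLib.isIso_cmap (hθ x)
  have hc := Groth.Agent.EtShLib.cmap_naturality φ (f x) (he x)
  show _ ≫ inv (Groth.Agent.EtShLib.cmap G (θ x)) = inv (Groth.Agent.EtShLib.cmap F (η x)) ≫ _
  rw [CategoryTheory.IsIso.comp_inv_eq, Category.assoc, CategoryTheory.IsIso.eq_inv_comp]
  exact hc

end Groth.Agent.S6647
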