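import Groth.Statements.S6648
import Groth.Agent.EtShLib.Point
import Mathlib.Algebra.Category.Ring.FilteredColimits
import Mathlib.AlgebraicGeometry.Morphisms.UniversallyOpen
-- import your own Groth.Agent.* helpers here

set_option autoImplicit false
open CategoryTheory CategoryTheory.Limits AlgebraicGeometry Opposite
universe u
open EtCore

namespace Groth.Agent.S6648

/-- For a sheaf of (commutative) rings O on the small etale site of a scheme S, the set of points s of S
over which some geometric stalk of O is a nonzero ring is closed in S. (Rings are taken in the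
universe of the schemes, as for the structure presheaf of the prelude.) -/
theorem result {S : Scheme.{u}} (O : Sheaf S.smallEtaleTopology CommRingCat.{u}) :
    IsClosed {s : ↥S | ∃ (Ω : Type u) (_ : Field Ω) (_ : IsSepClosed Ω) (ξ : Spec (CommRingCat.of Ω) ⟶ S),
      ξ.base default = s ∧ Nontrivial ↑((Scheme.pointSmallEtale ξ).presheafFiber.obj O.obj)} := by
  haveI : PreservesFilteredColimitsOfSize.{u, u} (forget CommRingCat.{u}) := inferInstance
  rw [← isOpen_compl_iff, isOpen_iff_forall_mem_open]
  intro s hs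
  obtain ⟨Ω, i1, i2, ξ, hξ⟩ := Groth.Agent.EtShLib.exists_geometric_pt s
  let p : GrothendieckTopology.Point.{u} S.smallEtaleTopology := Scheme.pointSmallEtale ξ
  haveI : Subsingleton ↑(p.presheafFiber.obj O.obj) := not_nontrivial_iff_subsingleton.1 fun h => hs ⟨Ω, i1, i2, ξ, hξ, h⟩
  obtain ⟨U, u, -⟩ := p.toPresheafFiber_jointly_surjective (P := O.obj) (0 : ↑(p.presheafFiber.obj O.obj))
  obtain ⟨V, g, v, -, hV⟩ := (p.toPresheafFiber_eq_iff' U u (0 : O.obj.obj (op U)) 1).1 (Subsingleton.elim _ _)
  rw [map_zero, map_one] at hV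
  haveI : AlgebraicGeometry.Etale V.hom := V.prop
  refine ⟨Set.range V.hom.base, ?_, V.hom.isOpenMap.isOpen_range, ⟨Groth.Agent.EtShLib.Fib.pt (ξ := ξ) v, ?_⟩⟩
  · rintro _ ⟨y, rfl⟩ ⟨Ω', j1, j2, ξ', hξ', hnt⟩
    obtain ⟨w, -⟩ := Groth.Agent.EtShLib.exists_fib ξ' V y hξ'.symm
    refine not_subsingleton_iff_nontrivial.2 hnt (subsingleton_of_zero_eq_one ?_)
    have := congrArg ((Scheme.pointSmallEtale ξ').toPresheafFiber V w O.obj) hV
    simpa using this
  · rw [← hξ]
    exact congrArg (fun f : Spec (CommRingCat.of Ω) ⟶ S => f.base default) (Groth.Agent.EtShLib.Fib.w (ξ := ξ) v)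

end Groth.Agent.S6648
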