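import Groth.Statements.S6649
import Groth.Agent.EtBrLib.Curve
import Groth.Agent.S0212
import Groth.Agent.S0214

set_option autoImplicit false
open CategoryTheory CategoryTheory.Limits AlgebraicGeometry Opposite
universe u
open Curves

namespace Groth.Agent.S6649

/-- For a curve C over an algebraically closed field k (C integral of dimension one, separated and of
finite type over k) the Brauer group of the function field of C is zero: every finite-dimensional
central division algebra over the function field has dimension one. -/
theorem result (k : Type u) [Field k] [IsAlgClosed k] (C : Scheme.{u})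
    (f : C ⟶ Spec (CommRingCat.of k)) [IsSeparated f] [LocallyOfFiniteType f] [QuasiCompact f] [IsIntegral C]
    (hdim : topologicalKrullDim ↥C = 1)
    (D : Type u) [DivisionRing D] [Algebra ↑C.functionField D] [Algebra.IsCentral ↑C.functionField D]
    [FiniteDimensional ↑C.functionField D] : Module.finrank ↑C.functionField D = 1 := by
  obtain ⟨_, hK⟩ := EtBrLib.exists_trdeg_functionField C f hdim
  exact Groth.Agent.S0214.result C.functionField ((fun n d g hf hd hn =>
    (Groth.Agent.S0212.result k C.functionField 1 hK 1 n (fun _ => g) (fun _ => d) (fun _ => hf) (fun _ => hd)
      (by simpa using hn)).imp fun a ha => ⟨ha.1, ha.2 0⟩)) D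

end Groth.Agent.S6649
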