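import Groth.Statements.S6653
import Groth.Agent.DivSeqLib.Div
import Groth.Agent.RegUFDLib.Basic
import Groth.Agent.S0065
import Groth.Agent.S1535
-- import your own Groth.Agent.* helpers here

set_option maxHeartbeats 1000000
set_option backward.isDefEq.respectTransparency false
set_option backward.isDefEq.respectTransparency.types false

set_option autoImplicit false
open CategoryTheory CategoryTheory.Limits AlgebraicGeometry Opposite
universe u
open Curves

namespace Groth.Agent.S6653

theorem codimOne_iff_closed {X : Scheme.{u}} [IsIntegral X] (hdim : topologicalKrullDim ↥X = 1) (x : X) :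
    ringKrullDim (X.presheaf.stalk x) = 1 ↔ IsClosed ({x} : Set ↥X) := by
  letI : PartialOrder ↥X := specializationOrder ↥X
  have hX : Order.krullDim ↥X = 1 := (Order.krullDim_eq_of_orderIso (irreducibleSetEquivPoints (α := ↥X))).symm.trans hdim
  have hle : ∀ (a b c : X), a < b → b < c → False := fun a b c h1 h2 => by
    have h := Order.LTSeries.length_le_krullDim (((RelSeries.singleton _ c).cons b h2).cons a (by rw [RelSeries.head_cons]; exact h1))
    rw [hX] at h
    simp at h
  rw [ringKrullDim_stalk_eq_coheight]
  have hgen : ∀ y : X, y ≤ genericPoint X := fun y => (genericPoint_spec X).specializes trivial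
  constructor
  · intro h
    refine isClosed_of_closure_subset fun y hy => ?_
    by_contra hne
    have hyx : y < x := lt_of_le_of_ne (specializes_iff_mem_closure.2 hy) hne
    have hne' : x ≠ genericPoint X := fun e => by
      have : Order.coheight x = 0 := Order.coheight_eq_zero.2 fun z _ => e ▸ hgen z
      rw [this] at h
      exact absurd h (by decide)
    exact hle y x (genericPoint X) hyx (lt_of_le_of_ne (hgen x) hne')
  · intro h
    have hne : x ≠ genericPoint X := fun e => by
      have : ∀ y : X, y = x := fun y => by
        have := (genericPoint_spec X).specializes (y := y) trivial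
        rw [← e] at this
        exact h.closure_subset_iff.2 subset_rfl (specializes_iff_mem_closure.1 this)
      haveI : Subsingleton X := ⟨fun a b => (this a).trans (this b).symm⟩
      have h0 : Order.krullDim ↥X ≤ 0 := Order.krullDim_nonpos_of_subsingleton
      rw [hX] at h0
      exact absurd h0 (by decide)
    have hlt : x < genericPoint X := lt_of_le_of_ne (hgen x) hne
    have h1 : (1 : ℕ∞) ≤ Order.coheight x := by
      rw [ENat.one_le_iff_ne_zero]
      exact fun h0 => (Order.coheight_eq_zero.1 h0).not_lt hlt
    have h2 : Order.coheight x ≤ 1 := by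
      refine Order.coheight_le fun p hp => ?_
      by_contra hn
      push Not at hn
      have hl : 2 ≤ p.length := by
        have : 1 < p.length := Nat.cast_lt (α := ℕ∞) |>.1 (by simpa using hn)
        omega
      exact hle (p ⟨0, by omega⟩) (p ⟨1, by omega⟩) (p ⟨2, by omega⟩)
        (p.strictMono (Fin.mk_lt_mk.2 (by omega))) (p.strictMono (Fin.mk_lt_mk.2 (by omega)))
    rw [le_antisymm h2 h1]
    rfl

/-- The fundamental exact sequence: with the divisor map left unnamed: let X be a smooth curve over an
algebraically closed field k (here: X integral of dimension one, smooth, separated and of finite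
type over k), let j : Spec O_{X,η} ⟶ X be the canonical morphism from the spectrum of the local ring
at the generic point, and for a closed point x let i_x : Spec κ(x) ⟶ X be its inclusion. Then the
canonical map G_{m,X} ⟶ j_* G_{m,η} is a monomorphism, and its cokernel is isomorphic to the direct
sum over all closed points of the sheaves (i_x)_* Z (existence of an isomorphism only; the direct
sum is given as any colimit cofan of that family). -/
theorem result (k : Type u) [Field k] [IsAlgClosed k] (X : Scheme.{u})
    (f : X ⟶ Spec (CommRingCat.of k)) [Smooth f] [IsSeparated f] [LocallyOfFiniteType f] [QuasiCompact f] [IsIntegral X]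
    (hdim : topologicalKrullDim ↥X = 1)
    (c : Cofan fun x : {x : ↥X // IsClosed ({x} : Set ↥X)} =>
      (EtCoh.push (X.fromSpecResidueField x.1)).obj (EtCoh.const (Spec (X.residueField x.1)) ℤ))
    (hc : IsColimit c) :
    Mono (EtLim.GmPush (X.fromSpecStalk (genericPoint ↥X))) ∧
      Nonempty (cokernel (EtLim.GmPush (X.fromSpecStalk (genericPoint ↥X))) ≅ c.pt) := by
  have hfact : DivSeqLib.Factorial X := fun U u => by
    haveI : AlgebraicGeometry.Etale U.hom := U.prop
    haveI : IsLocallyNoetherian X := LocallyOfFiniteType.isLocallyNoetherian f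
    letI : X.Over (Spec (CommRingCat.of k)) := ⟨f⟩
    haveI : Smooth (X ↘ Spec (CommRingCat.of k)) := ‹Smooth f›
    haveI : IsRegularLocalRing (U.left.presheaf.stalk u) :=
      (Groth.Agent.S0065.result (Y := X) U.hom u).2 (Groth.Agent.S1535.result k X _)
    haveI : IsDomain (U.left.presheaf.stalk u) := CommAlgDim.isDomain_of_isRegularLocalRing _
    exact ⟨inferInstance, RegUFDLib.uniqueFactorizationMonoid _⟩
  haveI : IsLocallyNoetherian X := LocallyOfFiniteType.isLocallyNoetherian f
  obtain ⟨e⟩ := DivSeqLib.nonempty_cokernel_iso hfact
  let σ : {x : ↥X // IsClosed ({x} : Set ↥X)} ≃ DivSeqLib.CPt X :=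
    Equiv.subtypeEquivRight fun x => (codimOne_iff_closed hdim x).symm
  let e' : (∐ fun x : {x : ↥X // IsClosed ({x} : Set ↥X)} =>
      (EtCoh.push (X.fromSpecResidueField x.1)).obj (EtCoh.const (Spec (X.residueField x.1)) ℤ)) ≅ _ :=
    Sigma.reindex σ fun x => (EtCoh.push (X.fromSpecResidueField x.1)).obj (EtCoh.const (Spec (X.residueField x.1)) ℤ)
  exact ⟨DivSeqLib.mono_ι₀, ⟨e ≪≫ e'.symm ≪≫ (coproductIsCoproduct _).coconePointUniqueUpToIso hc⟩⟩

end Groth.Agent.S6653
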