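import Groth.Statements.S6655
import Groth.Agent.EtShLib.LocExt
-- import your own Groth.Agent.* helpers here

set_option autoImplicit false
open CategoryTheory CategoryTheory.Limits AlgebraicGeometry Opposite
universe u
open EtModW

namespace Groth.Agent.S6655

/-- Part (3): with both sheaves of finite type: let Λ be a commutative ring and φ : F ⟶ G a map of
finite type locally constant sheaves of Λ-modules on the small etale site of a scheme X. Then on the
members of some etale covering of X the restriction of φ is, up to isomorphisms with constant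
sheaves on both sides, the map of constant sheaves induced by a Λ-linear map. (The published
statement allows G to be any locally constant sheaf of Λ-modules; this row assumes G of finite type
as well.) -/
theorem result (Λ : Type (u + 1)) [CommRing Λ] {X : Scheme.{u}} (F G : EtModW.Mod Λ X)
    (φ : F ⟶ G) (hF : EtModW.IsFTLocConst Λ F) (hG : EtModW.IsFTLocConst Λ G) :
    ∃ (ι : Type u) (U : ι → X.Etale), EtCoh.Covers U ∧ ∀ i, ∃ (M N : Type (u + 1)) (_ : AddCommGroup M) (_ : AddCommGroup N)
      (_ : Module Λ M) (_ : Module Λ N) (h : M →ₗ[Λ] N)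
      (α : EtModW.restr Λ F (U i) ≅ (constantSheaf (X.smallEtaleTopology.over (U i)) (ModuleCat.{u + 1} Λ)).obj (ModuleCat.of Λ M))
      (β : EtModW.restr Λ G (U i) ≅ (constantSheaf (X.smallEtaleTopology.over (U i)) (ModuleCat.{u + 1} Λ)).obj (ModuleCat.of Λ N)),
      (X.smallEtaleTopology.overPullback (ModuleCat.{u + 1} Λ) (U i)).map φ ≫ β.hom =
        α.hom ≫ (constantSheaf (X.smallEtaleTopology.over (U i)) (ModuleCat.{u + 1} Λ)).map (ModuleCat.ofHom h) := by
  have h : ∀ x : X, _ := Groth.Agent.EtShLib.exists_common φ ((Groth.Agent.EtShLib.isFTLC_iff _).1 hF)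
    ((Groth.Agent.EtShLib.isFTLC_iff _).1 hG) (fun M hM => Groth.Agent.EtShLib.fg_Mod hM)
  choose V y M N η θ f hy hM hN hη hθ he using h
  refine ⟨X, V, fun x => ⟨x, y x, hy x⟩,
    fun x => ⟨M x, N x, inferInstance, inferInstance, inferInstance, inferInstance, (f x).hom, (hη x).iso, (hθ x).iso, ?_⟩⟩
  haveI := Groth.Agent.EtShLib.isIso_cmap (hη x)
  haveI := Groth.Agent.EtShLib.isIso_cmap (hθ x)
  have hc := Groth.Agent.EtShLib.cmap_naturality φ (f x) (he x)
  show _ ≫ inv (Groth.Agent.EtShLib.cmap G (θ x)) = inv (Groth.Agent.EtShLib.cmap F (η x)) ≫ _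
  rw [CategoryTheory.IsIso.comp_inv_eq, Category.assoc, CategoryTheory.IsIso.eq_inv_comp]
  exact hc

end Groth.Agent.S6655
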