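import Groth.Statements.S6659
import Groth.Agent.RecollEqLib.Main
import Groth.Agent.DerCompLib.Restr
import Groth.Agent.DerLib.ExactHomology
-- import your own Groth.Agent.* helpers here

set_option autoImplicit false
universe u
open CategoryTheory CategoryTheory.Limits AlgebraicGeometry Opposite
attribute [local instance] HasDerivedCategory.standard
open EtDual

namespace Groth.Agent.S6659

theorem isIso_exactAdjD_counit {A B : Type (u + 2)} [Category.{u + 1} A] [Category.{u + 1} B] [Abelian A] [Abelian B]
    {G : B ⥤ A} {R : A ⥤ B} (adj : G ⊣ R) [G.Additive] [R.Additive] [PreservesFiniteLimits G]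
    [PreservesFiniteColimits G] [PreservesFiniteLimits R] [PreservesFiniteColimits R] [IsIso adj.counit]
    (L : DerivedCategory A) : IsIso ((DerCompLib.exactAdjD adj).counit.app L) := by
  let K := DerivedCategory.Q.objPreimage L
  rw [← NatTrans.isIso_app_iff_of_iso (DerCompLib.exactAdjD adj).counit (DerivedCategory.Q.objObjPreimageIso L)]
  haveI : IsIso ((DerLib.KInjDerived.mapHomologicalComplexAdj adj (ComplexShape.up ℤ)).counit.app K) := by
    haveI : ∀ i, IsIso (((DerLib.KInjDerived.mapHomologicalComplexAdj adj (ComplexShape.up ℤ)).counit.app K).f i) :=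
      fun i => inferInstanceAs (IsIso (adj.counit.app (K.X i)))
    exact HomologicalComplex.Hom.isIso_of_components _
  unfold DerCompLib.exactAdjD
  rw [Adjunction.localization_counit_app]
  infer_instance

theorem isZero_pull_push {Z X U : Scheme.{u}} (i : Z ⟶ X) [IsClosedImmersion i] (j : U ⟶ X) [IsOpenImmersion j]
    (hZU : Set.range j = (Set.range i)ᶜ) (G : EtCoh.Ab Z) : IsZero ((EtCoh.pull j).obj ((EtCoh.push i).obj G)) := by
  haveI : (EtCoh.pull j).IsLeftAdjoint := (EtCoh.pullPushAdj j).isLeftAdjoint
  haveI : (EtCoh.pull j).Additive := (EtCoh.pullPushAdj j).left_adjoint_additive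
  haveI := RecollEqLib.isIso_pull_push_map i j hZU (0 : G ⟶ G)
  haveI : IsIso (0 : (EtCoh.pull j).obj ((EtCoh.push i).obj G) ⟶ (EtCoh.pull j).obj ((EtCoh.push i).obj G)) := by
    simpa using (inferInstance : IsIso ((EtCoh.pull j).map ((EtCoh.push i).map (0 : G ⟶ G))))
  have h := IsIso.hom_inv_id (0 : (EtCoh.pull j).obj ((EtCoh.push i).obj G) ⟶ (EtCoh.pull j).obj ((EtCoh.push i).obj G))
  rw [zero_comp] at h
  exact (IsZero.iff_id_eq_zero _).2 h.symm

/-- Let i : Z → X be a closed immersion of schemes with open complement j : U → X. The direct image i_*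
of abelian etale sheaves is exact (its right exactness is carried as an instance hypothesis), and
the induced functor D(Z_et) → D(X_et) is fully faithful; an object K of D(X_et) lies in its
essential image if and only if every cohomology sheaf of K has zero restriction to U, i.e. K has
cohomology sheaves supported on Z. (The identification of the quasi-inverse with the derived functor
of sections supported on Z is not part of this row.) -/
theorem result {Z X U : Scheme.{u}} (i : Z ⟶ X)
    [IsClosedImmersion i] (j : U ⟶ X) [IsOpenImmersion j] (hZU : Set.range j = (Set.range i)ᶜ)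
    [PreservesFiniteColimits (EtCoh.push i)] :
    ((EtCoh.push i).mapDerivedCategory.Full ∧ (EtCoh.push i).mapDerivedCategory.Faithful) ∧
      ∀ K : DCoh.DEt X,
        (EtCoh.push i).mapDerivedCategory.essImage K ↔
          ∀ n : ℤ, IsZero ((EtCoh.pull j).obj (DCoh.HDEt K n)) := by
  haveI : IsIso (EtCoh.pullPushAdj i).counit := by
    haveI := fun G => EtShLib.counit_isIso_of_closedImmersion i G
    exact NatIso.isIso_of_isIso_app _
  haveI : PreservesFiniteLimits (EtCoh.pull i) :=
    EtShLib.preservesFiniteLimits_pullA (A := AddCommGrpCat.{u + 1}) i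
  haveI : PreservesFiniteLimits (EtCoh.pull j) :=
    EtShLib.preservesFiniteLimits_pullA (A := AddCommGrpCat.{u + 1}) j
  haveI : (EtCoh.pull i).IsLeftAdjoint := (EtCoh.pullPushAdj i).isLeftAdjoint
  haveI : (EtCoh.pull j).IsLeftAdjoint := (EtCoh.pullPushAdj j).isLeftAdjoint
  haveI : (EtCoh.push i).IsRightAdjoint := (EtCoh.pullPushAdj i).isRightAdjoint
  haveI : (EtCoh.pull i).Additive := (EtCoh.pullPushAdj i).left_adjoint_additive
  haveI : (EtCoh.pull j).Additive := (EtCoh.pullPushAdj j).left_adjoint_additive
  let D := DerCompLib.exactAdjD (EtCoh.pullPushAdj i)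
  haveI hD : ∀ L, IsIso (D.counit.app L) := fun L => isIso_exactAdjD_counit (EtCoh.pullPushAdj i) L
  haveI : IsIso D.counit := NatIso.isIso_of_isIso_app _
  refine ⟨⟨D.fullyFaithfulROfIsIsoCounit.full, D.fullyFaithfulROfIsIsoCounit.faithful⟩, fun K => ⟨fun h n => ?_, fun h => ?_⟩⟩
  · let e := DerLib.ExactHomology.homologyIso (EtCoh.push i) n
    refine IsZero.of_iso (isZero_pull_push i j hZU ((DerivedCategory.homologyFunctor (EtCoh.Ab Z) n).obj h.witness))
      ((EtCoh.pull j).mapIso ?_)
    exact (DerivedCategory.homologyFunctor (EtCoh.Ab X) n).mapIso h.getIso.symm ≪≫ e.app h.witness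
  let η := D.unit.app K
  haveI : IsIso ((EtCoh.pull i).mapDerivedCategory.map η) := by
    haveI : IsIso ((EtCoh.pull i).mapDerivedCategory.map η ≫ D.counit.app ((EtCoh.pull i).mapDerivedCategory.obj K)) := by
      show IsIso ((EtCoh.pull i).mapDerivedCategory.map (D.unit.app K) ≫ _)
      erw [D.left_triangle_components K]; exact IsIso.id _
    exact IsIso.of_isIso_comp_right _ (D.counit.app ((EtCoh.pull i).mapDerivedCategory.obj K))
  haveI : IsIso η := by
    refine (DerivedCategory.isIso_iff (EtCoh.Ab X) η).2 fun n => ?_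
    haveI : IsIso ((EtCoh.pull i).map ((DerivedCategory.homologyFunctor (EtCoh.Ab X) n).map η)) :=
      (NatIso.isIso_map_iff (DerLib.ExactHomology.homologyIso (EtCoh.pull i) n) η).1
        (inferInstanceAs (IsIso ((DerivedCategory.homologyFunctor (EtCoh.Ab Z) n).map
          ((EtCoh.pull i).mapDerivedCategory.map η))))
    haveI : IsIso ((EtCoh.pull j).map ((DerivedCategory.homologyFunctor (EtCoh.Ab X) n).map η)) :=
      isIso_of_source_target_iso_zero _ (h n).isoZero
        (IsZero.of_iso (isZero_pull_push i j hZU _) ((EtCoh.pull j).mapIso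
          ((DerLib.ExactHomology.homologyIso (EtCoh.push i) n).app ((EtCoh.pull i).mapDerivedCategory.obj K)))).isoZero
    exact RecollEqLib.isIso_of_pulls i j hZU _
  exact ⟨(EtCoh.pull i).mapDerivedCategory.obj K, ⟨(asIso η).symm⟩⟩

end Groth.Agent.S6659
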