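import Groth.Statements.S6665
import Groth.Agent.S6664
import Groth.Agent.S3478
import Groth.Agent.LocAcycPointLib.Main
import Groth.Agent.EtBcWitLib.Witness

set_option autoImplicit false
universe u
open CategoryTheory CategoryTheory.Limits AlgebraicGeometry Opposite
open EtBC

open Groth.Agent.EtShLib EtRpushStalkLib

set_option linter.all false
set_option backward.isDefEq.respectTransparency false
set_option backward.isDefEq.respectTransparency.types false
set_option synthInstance.maxHeartbeats 400000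
set_option maxHeartbeats 1600000

attribute [local instance] EtSliceLib.pullExact

namespace Groth.Agent.S6665

/-- Vanishing of higher direct images persists after an extension of separably closed fields. -/
theorem isZero_Rpush_ext {F K : Type u} [Field F] [IsSepClosed F] [Field K] [IsSepClosed K] [Algebra F K]
    {X YF Y : Scheme.{u}} {hF : YF ⟶ X} [QuasiCompact hF] [QuasiSeparated hF] (eF : YF ⟶ Spec (CommRingCat.of F))
    {b : Y ⟶ YF} {e : Y ⟶ Spec (CommRingCat.of K)}
    (cb : IsPullback b e eF (Spec.map (CommRingCat.ofHom (algebraMap F K)))) {h : Y ⟶ X} (hh : b ≫ hF = h)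
    [QuasiCompact h] [QuasiSeparated h] (d q : ℕ)
    (hd : EtAcyc.PrimesIn {ℓ | ℓ.Prime ∧ ℓ ≠ ringChar F} d)
    (hz : IsZero ((EtCoh.Rpush hF q).obj (EtCoh.const YF (ZMod d)))) :
    IsZero ((EtCoh.Rpush h q).obj (EtCoh.const Y (ZMod d))) := by
  let N := EtCoh.const Y (ZMod d)
  rw [IsZero.iff_id_eq_zero]
  have hiso : IsIso (0 : (EtCoh.Rpush h q).obj N ⟶ (EtCoh.Rpush h q).obj N) := by
    refine (isIso_iff_stalks _).2 fun L _ _ ξ => ?_
    let x := ξ.base default
    obtain ⟨RS, _, _, _, _, hS⟩ := Groth.Agent.S0537.result (X.presheaf.stalk x)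
    haveI : HenselianLocalRing RS := hS.henselian
    haveI : IsSepClosed (IsLocalRing.ResidueField RS) := hS.isSepClosure.sep_closed
    obtain ⟨C⟩ := exists_chart x RS
    let gX := Hens2.specOf X x RS
    let p1 : pullback hF gX ⟶ YF := pullback.fst hF gX
    let p2 : pullback hF gX ⟶ Spec (CommRingCat.of RS) := pullback.snd hF gX
    have sqF : IsPullback p1 p2 hF gX := IsPullback.of_hasPullback hF gX
    let a : pullback hF gX ⟶ Spec (CommRingCat.of F) := p1 ≫ eF
    let ψs := Spec.map (CommRingCat.ofHom (algebraMap F K))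
    have sqQ : IsPullback (pullback.snd a ψs) (pullback.fst a ψs) ψs (p1 ≫ eF) :=
      (IsPullback.of_hasPullback a ψs).flip
    let c' : pullback a ψs ⟶ Y := cb.lift (pullback.fst a ψs ≫ p1) (pullback.snd a ψs)
      (by rw [Category.assoc]; exact pullback.condition)
    have sq1 : IsPullback c' (pullback.fst a ψs) b p1 :=
      IsPullback.of_right ((cb.lift_snd (pullback.fst a ψs ≫ p1) (pullback.snd a ψs)
          (by rw [Category.assoc]; exact pullback.condition)).symm ▸ sqQ)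
        (cb.lift_fst _ _ _) cb.flip
    have sq : IsPullback c' (pullback.fst a ψs ≫ p2) h gX := hh ▸ sq1.paste_vert sqF
    obtain ⟨e₁⟩ := nonempty_iso h sq C q
    obtain ⟨e₂⟩ := nonempty_iso hF sqF C q
    have hz1 : IsZero ((CategoryTheory.Abelian.extFunctorObj (EtCoh.const (pullback hF gX) ℤ) q).obj
        (EtCoh.const (pullback hF gX) (ZMod d))) :=
      (Functor.map_isZero (stk (A := AddCommGrpCat.{u + 1}) (closedPt RS ≫ gX)) hz).of_iso
        ((e₂.app (EtCoh.const YF (ZMod d)) ≪≫ (CategoryTheory.Abelian.extFunctorObj _ q).mapIso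
          (EtCore.pullConst p1 (ZMod d))).symm)
    haveI hsub : Subsingleton (EtCoh.H (pullback hF gX) (EtCoh.const (pullback hF gX) (ZMod d)) q) :=
      AddCommGrpCat.subsingleton_of_isZero hz1
    have hb := Groth.Agent.S3478.result F K a (EtCoh.const (pullback hF gX) (ZMod d))
      (LocAcycPointLib.isLTorsion_const hd) q
    haveI hsub' : Subsingleton (EtCoh.H (pullback a ψs)
        ((EtCoh.pull (pullback.fst a ψs)).obj (EtCoh.const (pullback hF gX) (ZMod d))) q) :=
      hb.2.subsingleton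
    have hzero : IsZero ((EtCoh.pull c' ⋙ CategoryTheory.Abelian.extFunctorObj
        (EtCoh.const (pullback a ψs) ℤ) q).obj N) := by
      haveI : Subsingleton ((CategoryTheory.Abelian.extFunctorObj (EtCoh.const (pullback a ψs) ℤ) q).obj
          ((EtCoh.pull (pullback.fst a ψs)).obj (EtCoh.const (pullback hF gX) (ZMod d)))) := hsub'
      refine IsZero.of_iso (AddCommGrpCat.isZero_of_subsingleton
        ((CategoryTheory.Abelian.extFunctorObj (EtCoh.const (pullback a ψs) ℤ) q).obj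
          ((EtCoh.pull (pullback.fst a ψs)).obj (EtCoh.const (pullback hF gX) (ZMod d))))) ?_
      exact (CategoryTheory.Abelian.extFunctorObj _ q).mapIso
        (EtCore.pullConst c' (ZMod d) ≪≫ (EtCore.pullConst (pullback.fst a ψs) (ZMod d)).symm)
    have hx : (closedPt RS ≫ gX).base default = ξ.base default := by
      show (X.fromSpecStalk x).base ((Spec.map _).base ((closedPt RS).base default)) = x
      rw [EtBcQLib.closedPt_base]
      exact (congrArg (X.fromSpecStalk x).base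
        (IsLocalRing.comap_closedPoint (algebraMap (X.presheaf.stalk x) RS))).trans Scheme.fromSpecStalk_closedPoint
    obtain ⟨φ⟩ := nonempty_stk_iso_of_eq (A := AddCommGrpCat.{u + 1})
      (ξ := closedPt RS ≫ gX) (ξ' := ξ) hx.symm
    have hs : IsZero ((stk (A := AddCommGrpCat.{u + 1}) ξ).obj ((EtCoh.Rpush h q).obj N)) :=
      hzero.of_iso ((φ.app _).symm ≪≫ e₁.app N)
    exact ⟨0, hs.eq_of_src _ _, hs.eq_of_src _ _⟩
  haveI := hiso
  exact (cancel_mono (0 : (EtCoh.Rpush h q).obj N ⟶ (EtCoh.Rpush h q).obj N)).1 (by simp)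

/-- Let f : X → S be a morphism of schemes and n, q integers with q ≥ 1, n invertible on S, such that
BC(f, n, q − 1) holds and BC(f, n, q) fails. Here BC(f, n, q − 1) means: for every base change f₁ :
X₁ → S₁ of f along a morphism S₁ → S, every cartesian square Y₁ = X₁ ×_{S₁} T₁ over a quasi-compact
quasi-separated g₁ : T₁ → S₁ (with h₁ : Y₁ → X₁, e₁ : Y₁ → T₁), and every abelian sheaf G on the
small etale site of T₁ killed by n, the base change map f₁⁻¹ R^a g₁,_* G → R^a h₁,_* e₁⁻¹ G is an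
isomorphism for all a ≤ q − 1. (BC(f, n, q) is the same with a ≤ q.) Then there exist an affine
integral scheme S' over S all of whose local rings are integrally closed and whose function field K
is algebraically closed, the base change f' : X' = X ×_S S' → S', the cartesian square Y = X' ×_{S'}
Spec K over the generic point Spec K → S' with projection h : Y → X', and a natural number d
dividing n such that R^q h_* of the constant sheaf ℤ/d on Y is nonzero. -/
theorem result {X S : Scheme.{u}} (f : X ⟶ S) (n q : ℕ)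
    (hq : 1 ≤ q) (hn : IsUnit (n : Γ(S, ⊤)))
    (hBC : (∀ ⦃S₁ X₁ T₁ Y₁ : Scheme.{u}⦄ (p₁ : S₁ ⟶ S) (f₁ : X₁ ⟶ S₁) (r₁ : X₁ ⟶ X),
        IsPullback r₁ f₁ f p₁ →
        ∀ (g₁ : T₁ ⟶ S₁) (h₁ : Y₁ ⟶ X₁) (e₁ : Y₁ ⟶ T₁) (c₁ : IsPullback e₁ h₁ g₁ f₁)
          [QuasiCompact g₁] [QuasiSeparated g₁] [PreservesFiniteLimits (EtCoh.pull e₁)]
          (G₁ : EtCoh.Ab T₁), EtCoh.KilledBy n G₁ →
          ∀ q₁ : ℕ, q₁ ≤ q - 1 → IsIso (EtBC.bcQ g₁ f₁ h₁ e₁ c₁.w q₁ G₁)))
    (hnot : ¬ (∀ ⦃S₂ X₂ T₂ Y₂ : Scheme.{u}⦄ (p₂ : S₂ ⟶ S) (f₂ : X₂ ⟶ S₂) (r₂ : X₂ ⟶ X),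
        IsPullback r₂ f₂ f p₂ →
        ∀ (g₂ : T₂ ⟶ S₂) (h₂ : Y₂ ⟶ X₂) (e₂ : Y₂ ⟶ T₂) (c₂ : IsPullback e₂ h₂ g₂ f₂)
          [QuasiCompact g₂] [QuasiSeparated g₂] [PreservesFiniteLimits (EtCoh.pull e₂)]
          (G₂ : EtCoh.Ab T₂), EtCoh.KilledBy n G₂ →
          ∀ q₂ : ℕ, q₂ ≤ q → IsIso (EtBC.bcQ g₂ f₂ h₂ e₂ c₂.w q₂ G₂))) :
    ∃ (S' X' Y : Scheme.{u}) (_ : IsAffine S') (_ : IsIntegral S')
      (_ : ∀ s : S', IsIntegrallyClosed (S'.presheaf.stalk s)) (_ : IsAlgClosed S'.functionField)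
      (p : S' ⟶ S) (f' : X' ⟶ S') (r : X' ⟶ X) (_ : IsPullback r f' f p)
      (h : Y ⟶ X') (e : Y ⟶ Spec S'.functionField) (_ : IsPullback e h (S'.fromSpecStalk (genericPoint S')) f')
      (d : ℕ) (_ : d ∣ n),
      ¬ IsZero ((EtCoh.Rpush h q).obj (EtCoh.const Y (ZMod d))) := by
  rcases Nat.eq_zero_or_pos n with rfl | hn0
  · refine absurd ?_ hnot
    haveI : Subsingleton Γ(S, ⊤) := subsingleton_of_zero_eq_one (by
      rw [Nat.cast_zero] at hn; exact (isUnit_zero_iff.1 hn))
    haveI : IsEmpty S := ⟨fun x => one_ne_zero (α := S.presheaf.stalk x) (by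
      rw [← map_one (S.presheaf.germ ⊤ x trivial).hom, Subsingleton.elim (1 : Γ(S, ⊤)) 0, map_zero])⟩
    intro S₂ X₂ T₂ Y₂ p₂ f₂ r₂ hsq g₂ h₂ e₂ c₂ _ _ _ G₂ _ q₂ _
    haveI : IsEmpty X₂ := Function.isEmpty (fun x => (r₂ ≫ f).base x)
    exact IsZero.isIso (EtBcWitLib.isZero_of_isEmpty _) (EtBcWitLib.isZero_of_isEmpty _) _
  obtain ⟨S', X', Y, hA, hI, hN, hC, p, f', r, cf, K, _, _, g, hg, h, e, c, d, hd, hne⟩ :=
    Groth.Agent.S6664.result f n q hq hn0 hBC hnot
  haveI := hA
  haveI := hI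
  haveI := hC
  haveI := hg
  let η := genericPoint S'
  have hpt : g.base (IsLocalRing.closedPoint K) = η := by
    refine ((genericPoint_spec S').eq ?_).symm
    rw [IsGenericPoint]
    refine Eq.trans ?_ (denseRange_iff_closure_range.1 g.denseRange)
    refine congrArg closure (Set.ext fun y => ⟨fun hy => ⟨IsLocalRing.closedPoint K, hy.symm⟩, ?_⟩)
    rintro ⟨z, rfl⟩
    rw [Subsingleton.elim z (IsLocalRing.closedPoint K : ↥(Spec (CommRingCat.of K)))]
    rfl
  obtain ⟨ψ, hψ⟩ : ∃ ψ : S'.functionField ⟶ CommRingCat.of K, Spec.map ψ ≫ S'.fromSpecStalk η = g := by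
    refine ⟨S'.presheaf.stalkSpecializes (specializes_of_eq hpt) ≫ Scheme.stalkClosedPointTo g, ?_⟩
    rw [Spec.map_comp, Category.assoc, Scheme.SpecMap_stalkSpecializes_fromSpecStalk,
      Scheme.Spec_stalkClosedPointTo_fromSpecStalk]
  let YF := pullback (S'.fromSpecStalk η) f'
  let eF : YF ⟶ Spec S'.functionField := pullback.fst _ _
  let hF : YF ⟶ X' := pullback.snd _ _
  have cF : IsPullback eF hF (S'.fromSpecStalk η) f' := IsPullback.of_hasPullback _ _
  refine ⟨S', X', YF, hA, hI, hN, hC, p, f', r, cf, hF, eF, cF, d, hd, fun hz => hne ?_⟩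
  letI : Algebra S'.functionField K := ψ.hom.toAlgebra
  have hw : (e ≫ Spec.map ψ) ≫ S'.fromSpecStalk η = h ≫ f' := by rw [Category.assoc, hψ, c.w]
  let b : Y ⟶ YF := cF.lift (e ≫ Spec.map ψ) h hw
  have cb : IsPullback b e eF (Spec.map ψ) :=
    IsPullback.of_right (by rw [cF.lift_snd, hψ]; exact c.flip) (cF.lift_fst _ _ _) cF.flip
  haveI : IsAffineHom g := inferInstance
  haveI : IsAffineHom (S'.fromSpecStalk η) := inferInstanceAs (IsAffineHom (X := Spec S'.functionField) (S'.fromSpecStalk η))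
  haveI : IsAffineHom h := MorphismProperty.of_isPullback c inferInstance
  haveI : IsAffineHom hF := MorphismProperty.of_isPullback cF inferInstance
  refine isZero_Rpush_ext (F := S'.functionField) (K := K) eF (b := b) cb (h := h) (cF.lift_snd _ _ _) d q
    ⟨Nat.pos_of_dvd_of_pos hd hn0, fun ℓ hℓ hℓd => ⟨hℓ, fun he => ?_⟩⟩ hz
  haveI : Nonempty ((⊤ : S'.Opens) : Scheme.{u}) := ⟨⟨η, trivial⟩⟩
  have hu := hn.map (p.appTop ≫ S'.germToFunctionField ⊤).hom
  rw [map_natCast] at hu
  exact hu.ne_zero ((ringChar.spec (S'.functionField : Type u) n).2 (he ▸ hℓd.trans hd))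

end Groth.Agent.S6665
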