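import Groth.Statements.S6676
import Groth.Agent.HTopCmpLib.Instances
-- import your own Groth.Agent.* helpers here

set_option autoImplicit false
universe u
open CategoryTheory CategoryTheory.Limits AlgebraicGeometry Opposite
open HTop

namespace Groth.Agent.S6676

/-- Let f : X → Y be a proper morphism of schemes, F a torsion abelian sheaf on the small etale site of
X and i ≥ 0. Then a_Y⁻¹ (R^i f_* F) and R^i f_{big,ph,*} (a_X⁻¹ F) are isomorphic abelian sheaves on
the big ph site of Y (existence of an isomorphism; continuity of the comparison functors carried as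
instance hypotheses). -/
theorem result {X Y : Scheme.{u}} (f : X ⟶ Y) [IsProper f]
    [HTop.APhCont X] [HTop.APhCont Y] [HTop.PullPhCont f] (F : EtCoh.Ab X) (hF : EtCoh.IsTorsion F) (i : ℕ) :
    Nonempty ((HTop.aPhPull Y).obj ((EtCoh.Rpush f i).obj F) ≅
      (HTop.RpushBigPh f i).obj ((HTop.aPhPull X).obj F)) := by
  haveI := HTopCmp.epsCont_ph.{u}
  haveI : BigSite.AEtCont (HTop.phPrecoverage : Precoverage Scheme.{u}) X := ‹HTop.APhCont X›
  haveI : BigSite.AEtCont (HTop.phPrecoverage : Precoverage Scheme.{u}) Y := ‹HTop.APhCont Y›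
  exact HTopCmp.nonempty_Rpush HTopCmp.cmp_ph f F hF i

end Groth.Agent.S6676
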