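import Groth.Statements.S6689
import Groth.Agent.ModGenLib.Resolution

set_option autoImplicit false
universe u
open CategoryTheory CategoryTheory.Limits AlgebraicGeometry Opposite
attribute [local instance] HasDerivedCategory.standard
open EtModD

namespace Groth.Agent.S6689

/-- Let Λ be a Noetherian ring, f : X → Y a morphism of schemes and K an object of D(Y_et, Λ) whose
cohomology sheaves are all constructible sheaves of Λ-modules. Then all cohomology sheaves of f⁻¹ K
are constructible, where f⁻¹ on derived categories is induced by the exact inverse image functor on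
sheaves of Λ-modules (its left exactness is carried as an instance hypothesis). -/
theorem result (Λ : Type (u + 1)) [CommRing Λ] [IsNoetherianRing Λ] {X Y : Scheme.{u}}
    (f : X ⟶ Y) [PreservesFiniteLimits (EtModW.pull Λ f)] (K : EtModD.D Λ Y)
    (hK : ∀ i : ℤ, EtModW.IsConstructible Λ (EtModD.HD K i)) (i : ℤ) :
    EtModW.IsConstructible Λ (EtModD.HD ((EtModW.pull Λ f).mapDerivedCategory.obj K) i) := by
  let C := DerivedCategory.Q.objPreimage K
  let eK : DerivedCategory.Q.obj C ≅ K := DerivedCategory.Q.objObjPreimageIso K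
  let G := EtModW.pull Λ f
  haveI : G.IsLeftAdjoint := (Groth.Agent.EtShLib.adjA f (ModuleCat.{u + 1} Λ)).isLeftAdjoint
  let γ := DerivedCategory.homologyFunctorFactors (EtModW.Mod Λ Y) i
  let γ' := DerivedCategory.homologyFunctorFactors (EtModW.Mod Λ X) i
  let hC : EtModD.HD K i ≅ C.homology i :=
    (DerivedCategory.homologyFunctor (EtModW.Mod Λ Y) i).mapIso eK.symm ≪≫ γ.app C
  let eG : EtModD.HD (G.mapDerivedCategory.obj K) i ≅ G.obj (EtModD.HD K i) :=
    (DerivedCategory.homologyFunctor (EtModW.Mod Λ X) i).mapIso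
        (G.mapDerivedCategory.mapIso eK.symm ≪≫ G.mapDerivedCategoryFactors.app C) ≪≫
      γ'.app _ ≪≫ (C.sc i).mapHomologyIso G ≪≫ G.mapIso hC.symm
  exact (Groth.Agent.EtShLib.isConstructibleMod_iff _).2
    (((Groth.Agent.EtShLib.isConstructibleMod_iff _).1 (hK i)).pull.of_hom eG.inv)

end Groth.Agent.S6689
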