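import Groth.Statements.S6693
import Groth.Agent.LocAcycStalkLib.Main

set_option autoImplicit false
universe u
open CategoryTheory CategoryTheory.Limits AlgebraicGeometry Opposite
open EtBC

namespace Groth.Agent.S6693

/-- For a single abelian sheaf (a bounded below complex concentrated in degree 0): let f : X → S be a
morphism of schemes and F an abelian sheaf on the small etale site of X such that f is locally
acyclic relative to F. Let s be a point of S, R_S a strict henselization of the local ring of S at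
s, X' = X ×_S Spec R_S with projection p : X' → X, t̄ : Spec Ω → Spec R_S a geometric point with Ω
algebraically closed, h : X_t̄ = X' ×_{Spec R_S} Spec Ω → X' and i : X_s̄ = X' ×_{Spec R_S} Spec
κ(R_S) → X' the fibres over t̄ and over the closed point. Put F' = p⁻¹ F. Then the restriction along
i of the unit F' → h_* h⁻¹ F' is an isomorphism, and i⁻¹ R^q h_* (h⁻¹ F') is zero for every q > 0;
together these say that i⁻¹ applied to β : F' → Rh_* (F'|X_t̄) is an isomorphism. -/
theorem result {X S : Scheme.{u}} (f : X ⟶ S) (F : EtCoh.Ab X)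
    (hla : SGA4h.IsLARel f F) (s : S) (RS : Type u) [CommRing RS] [IsLocalRing RS] [Algebra (S.presheaf.stalk s) RS]
      [IsLocalHom (algebraMap (S.presheaf.stalk s) RS)] [Hensel.IsStrictHenselization (S.presheaf.stalk s) RS]
    (X' : Scheme.{u}) (f' : X' ⟶ Spec (CommRingCat.of RS)) (p : X' ⟶ X) (cX : IsPullback p f' f (Hens2.specOf S s RS))
    (Ω : Type u) [Field Ω] [IsAlgClosed Ω] (τ : RS →+* Ω)
    (Xt : Scheme.{u}) (h : Xt ⟶ X') (ft : Xt ⟶ Spec (CommRingCat.of Ω))
    (ct : IsPullback h ft f' (Spec.map (CommRingCat.ofHom τ)))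
    (Xs : Scheme.{u}) (i : Xs ⟶ X') (fs : Xs ⟶ Spec (CommRingCat.of (IsLocalRing.ResidueField RS)))
    (cs : IsPullback i fs f' (Spec.map (CommRingCat.ofHom (IsLocalRing.residue RS)))) :
    IsIso ((EtCoh.pull i).map ((EtCoh.pullPushAdj h).unit.app ((EtCoh.pull p).obj F))) ∧
      ∀ q : ℕ, 0 < q →
        IsZero ((EtCoh.pull i).obj ((EtCoh.Rpush h q).obj ((EtCoh.pull h).obj ((EtCoh.pull p).obj F)))) := by
  have key : ∀ (K : Type u) [Field K] [IsSepClosed K] (ξ : Spec (CommRingCat.of K) ⟶ Xs),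
      f'.base ((ξ ≫ i).base default) = IsLocalRing.closedPoint RS := fun K _ _ ξ => by
    rw [← Scheme.Hom.comp_apply, Category.assoc, cs.w, ← Category.assoc, Scheme.Hom.comp_apply]
    exact SubmDescLib.closedPoint_map (IsLocalRing.residue RS) IsLocalRing.residue_surjective _
  refine ⟨Groth.Agent.EtShLib.isIso_of_stalks (A := AddCommGrpCat.{u + 1}) _ fun K _ _ ξ => ?_, fun q hq => ?_⟩
  · haveI := (LocAcycStalkLib.stalks_of_closed f F hla s RS f' p cX Ω τ h ft ct (ξ ≫ i) (key K ξ)).1
    exact (NatIso.isIso_map_iff (Groth.Agent.EtShLib.stalkPull i ξ AddCommGrpCat.{u + 1})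
      ((EtCoh.pullPushAdj h).unit.app ((EtCoh.pull p).obj F))).1 inferInstance
  · refine (IsZero.iff_id_eq_zero _).2 ?_
    haveI : IsIso (0 : (EtCoh.pull i).obj ((EtCoh.Rpush h q).obj ((EtCoh.pull h).obj ((EtCoh.pull p).obj F))) ⟶
        (EtCoh.pull i).obj ((EtCoh.Rpush h q).obj ((EtCoh.pull h).obj ((EtCoh.pull p).obj F)))) :=
      Groth.Agent.EtShLib.isIso_of_stalks (A := AddCommGrpCat.{u + 1}) _ fun K _ _ ξ => by
        have hz := ((LocAcycStalkLib.stalks_of_closed f F hla s RS f' p cX Ω τ h ft ct (ξ ≫ i) (key K ξ)).2 q hq).of_iso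
          ((Groth.Agent.EtShLib.stalkPull i ξ AddCommGrpCat.{u + 1}).app _).symm
        exact ⟨0, hz.eq_of_src _ _, hz.eq_of_src _ _⟩
    exact (cancel_mono (0 : (EtCoh.pull i).obj ((EtCoh.Rpush h q).obj ((EtCoh.pull h).obj ((EtCoh.pull p).obj F))) ⟶
      (EtCoh.pull i).obj ((EtCoh.Rpush h q).obj ((EtCoh.pull h).obj ((EtCoh.pull p).obj F))))).1 (by simp)

end Groth.Agent.S6693
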