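import Groth.Statements.S6700
import Groth.Agent.ModGenLib.Resolution

set_option autoImplicit false
universe u
open CategoryTheory CategoryTheory.Limits AlgebraicGeometry Opposite
attribute [local instance] HasDerivedCategory.standard
open EtModD

namespace Groth.Agent.S6700

/-- (1) ⇔ (2): let X be a quasi-compact and quasi-separated scheme, Λ a Noetherian ring and K an object
of D(X_et, Λ) which is bounded above. Then every cohomology sheaf of K is a constructible sheaf of
Λ-modules if and only if K is isomorphic, in D(X_et, Λ), to the image of a bounded above complex of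
sheaves of Λ-modules each of whose terms is isomorphic to a finite direct sum of sheaves j_! Λ,
extensions by zero of the constant sheaf Λ along etale morphisms j : U → X with U affine. (A third
equivalent condition, representability by a bounded above complex of flat constructible sheaves of
Λ-modules, is not included. Continuity of the functors V ↦ (V → U → X) between small etale sites,
true for every etale morphism, appears as an instance binder in front of the extension-by-zero
terms.) -/
theorem result (Λ : Type (u + 1)) [CommRing Λ]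
    [IsNoetherianRing Λ] (X : Scheme.{u}) [CompactSpace X] [QuasiSeparatedSpace X] (K : EtModD.D Λ X) (n : ℤ)
    [K.IsLE n] :
    (∀ i : ℤ, EtModW.IsConstructible Λ (EtModD.HD K i)) ↔
      ∃ (C : CochainComplex (EtModW.Mod Λ X) ℤ) (c : ℤ),
        (∀ i : ℤ, c < i → IsZero (C.X i)) ∧
        (∀ i : ℤ, ∃ (m : ℕ) (U : Fin m → Scheme.{u}) (j : ∀ k, U k ⟶ X) (_ : ∀ k, Etale (j k))
            (_ : ∀ k, IsAffine (U k)),
            ∀ [∀ k, EtShriek.JCont (j k)],
              Nonempty (C.X i ≅ ∐ fun k => (EtSix.extZeroMod Λ (j k)).obj (EtSix.constΛ Λ (U k)))) ∧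
        Nonempty (DerivedCategory.Q.obj C ≅ K) := by
  let γ := fun i => DerivedCategory.homologyFunctorFactors (EtModW.Mod Λ X) i
  constructor
  · intro hK
    let C₀ := DerivedCategory.Q.objPreimage K
    let e : DerivedCategory.Q.obj C₀ ≅ K := DerivedCategory.Q.objObjPreimageIso K
    let eH : ∀ i, EtModD.HD K i ≅ C₀.homology i := fun i =>
      (DerivedCategory.homologyFunctor (EtModW.Mod Λ X) i).mapIso e.symm ≪≫ (γ i).app C₀
    obtain ⟨C, φ, hφ, hz, hC⟩ := Groth.Agent.ModGenLib.exists_free_resolution C₀
      (fun i => ((Groth.Agent.EtShLib.isConstructibleMod_iff _).1 (hK i)).of_hom (eH i).hom) n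
      (fun i hi => (DerivedCategory.isZero_of_isLE K n i hi).of_iso (eH i).symm)
    haveI := hφ
    refine ⟨C, n, hz, fun i => ?_, ⟨asIso (DerivedCategory.Q.map φ) ≪≫ e⟩⟩
    obtain ⟨a, U, hU, ⟨eU⟩⟩ := hC i
    refine ⟨a, fun k => (U k).left, fun k => (U k).hom, fun k => (U k).prop, hU, fun {_} => ?_⟩
    haveI : ∀ k, AlgebraicGeometry.Etale (U k).hom := fun k => (U k).prop
    haveI : ∀ k, EtShriek.JCont (U k).hom := fun k => Groth.Agent.EtShLib.jCont (U k).hom
    exact ⟨eU ≪≫ (Groth.Agent.ModGenLib.nonempty_iso_sigma_extZero U).some⟩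
  · rintro ⟨C, c, -, hC, ⟨e⟩⟩ i
    refine (Groth.Agent.EtShLib.isConstructibleMod_iff _).2 ?_
    refine Groth.Agent.EtShLib.IsCons.of_hom (Groth.Agent.ModGenLib.isCons_homology C (fun j => ?_) i)
      (((γ i).app C).symm ≪≫ (DerivedCategory.homologyFunctor (EtModW.Mod Λ X) i).mapIso e).hom
    obtain ⟨m, U, j', hj, hU, h⟩ := hC j
    haveI := hj
    haveI : ∀ k, EtShriek.JCont (j' k) := fun k => Groth.Agent.EtShLib.jCont (j' k)
    obtain ⟨eC⟩ := @h (fun k => Groth.Agent.EtShLib.jCont (j' k))
    exact Groth.Agent.ModGenLib.IsFreeSum.isCons ⟨m, fun k => Groth.Agent.EtShLib.etaleObj (j' k), hU,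
      ⟨eC ≪≫ (Groth.Agent.ModGenLib.nonempty_sigma_extZero_iso U j').some⟩⟩

end Groth.Agent.S6700
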