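import Groth.Statements.S6703
import Mathlib.CategoryTheory.Triangulated.Yoneda
import Mathlib.CategoryTheory.Triangulated.Functor
import Mathlib.CategoryTheory.Adjunction.FullyFaithful

set_option autoImplicit false
set_option backward.isDefEq.respectTransparency false
set_option backward.isDefEq.respectTransparency.types false
universe v v' u u'
open CategoryTheory
open DEquiv

namespace Groth.Agent.S6703

open CategoryTheory.Limits CategoryTheory.Pretriangulated in
/-- Let F : D ⥤ D' be an exact functor of triangulated categories admitting both a left and a right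
adjoint, and let S be a set of objects of D such that an object K of D is zero as soon as Hom(E,
K⟦i⟧) = 0 for all E ∈ S and i ∈ ℤ, and also as soon as Hom(K, E⟦i⟧) = 0 for all E ∈ S and i ∈ ℤ. If
for all E, E' ∈ S and i ∈ ℤ the map Hom(E, E'⟦i⟧) → Hom(F E, F (E'⟦i⟧)) given by F is bijective,
then F is full and faithful. -/
theorem result
    {D : Type u} [Category.{v} D] [Preadditive D] [HasZeroObject D] [HasShift D ℤ]
    [∀ n : ℤ, (shiftFunctor D n).Additive] [Pretriangulated D] [IsTriangulated D]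
    {D' : Type u'} [Category.{v'} D'] [Preadditive D'] [HasZeroObject D'] [HasShift D' ℤ]
    [∀ n : ℤ, (shiftFunctor D' n).Additive] [Pretriangulated D'] [IsTriangulated D']
    (F : D ⥤ D') [F.CommShift ℤ] [F.IsTriangulated] [F.IsLeftAdjoint] [F.IsRightAdjoint]
    (S : Set D)
    (h2 : ∀ K : D, (∀ E ∈ S, ∀ (i : ℤ) (f : E ⟶ (shiftFunctor D i).obj K), f = 0) → IsZero K)
    (h3 : ∀ K : D, (∀ E ∈ S, ∀ (i : ℤ) (f : K ⟶ (shiftFunctor D i).obj E), f = 0) → IsZero K)
    (h4 : ∀ E ∈ S, ∀ E' ∈ S, ∀ i : ℤ,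
      Function.Bijective (fun f : E ⟶ (shiftFunctor D i).obj E' => F.map f)) :
    F.Full ∧ F.Faithful := by
  let P : D → D → Prop := fun A B => Function.Bijective fun f : A ⟶ B => F.map f
  have hiso : ∀ {A B A' B' : D}, (A ≅ A') → (B ≅ B') → P A B → P A' B' := fun {A B A' B'} a b h =>
    (Function.Bijective.of_comp_iff (fun f : A' ⟶ B' => F.map f) (a.homCongr b).bijective).1 (by
      have : ((fun f : A' ⟶ B' => F.map f) ∘ fun x => a.homCongr b x) =
          (fun x => (F.mapIso a).homCongr (F.mapIso b) x) ∘ fun f : A ⟶ B => F.map f := by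
        funext x
        simp [Iso.homCongr_apply]
      rw [this]
      exact (Equiv.bijective _).comp h)
  have hshift : ∀ {A B : D} (m : ℤ), P A B → P (A⟦m⟧) (B⟦m⟧) := fun {A B} m h => by
    have hs : Function.Bijective fun f : A ⟶ B => (shiftFunctor D m).map f :=
      ⟨fun f g hfg => (shiftFunctor D m).map_injective hfg, (shiftFunctor D m).map_surjective⟩
    have hs' : Function.Bijective fun f : F.obj A ⟶ F.obj B => (shiftFunctor D' m).map f :=
      ⟨fun f g hfg => (shiftFunctor D' m).map_injective hfg, (shiftFunctor D' m).map_surjective⟩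
    refine (Function.Bijective.of_comp_iff (fun f : A⟦m⟧ ⟶ B⟦m⟧ => F.map f) hs).1 ?_
    have : ((fun f : A⟦m⟧ ⟶ B⟦m⟧ => F.map f) ∘ fun f : A ⟶ B => (shiftFunctor D m).map f) =
        ((fun x => ((F.commShiftIso m).app A).symm.homCongr ((F.commShiftIso m).app B).symm x) ∘
          fun f : F.obj A ⟶ F.obj B => (shiftFunctor D' m).map f) ∘ fun f : A ⟶ B => F.map f := by
      funext x
      simp [Iso.homCongr_apply]
    rw [this]
    exact ((Equiv.bijective _).comp hs').comp h
  have hS : ∀ E ∈ S, ∀ E' ∈ S, ∀ m i : ℤ, P (E⟦m⟧) (E'⟦i⟧) := fun E hE E' hE' m i =>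
    hiso (Iso.refl _) ((shiftFunctorAdd' D (i - m) m i (by omega)).app E').symm
      (hshift m (h4 E hE E' hE' (i - m)))
  let adjL := Adjunction.ofIsRightAdjoint F
  have step₁ : ∀ E ∈ S, ∀ (m : ℤ) (K : D), P (E⟦m⟧) K := by
    intro E hE m K
    let A := E⟦m⟧
    let f : F.leftAdjoint.obj (F.obj A) ⟶ A := adjL.counit.app A
    have key : ∀ B : D, (fun u : A ⟶ B => f ≫ u) =
        (adjL.homEquiv (F.obj A) B).symm ∘ fun u : A ⟶ B => F.map u := fun B => funext fun u => by
      simp only [Function.comp_apply, Adjunction.homEquiv_counit]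
      exact (adjL.counit.naturality u).symm
    have hf : ∀ E' ∈ S, ∀ i : ℤ, Function.Bijective fun u : A ⟶ E'⟦i⟧ => f ≫ u := fun E' hE' i => by
      rw [key]
      exact (Equiv.bijective _).comp (hS E hE E' hE' m i)
    haveI : IsIso f := by
      obtain ⟨C, g, d, hT⟩ := distinguished_cocone_triangle f
      refine (Triangle.isZero₃_iff_isIso₁ _ hT).1 (h3 C fun E' hE' i x => ?_)
      have hgx : g ≫ x = 0 := (hf E' hE' i).1 (by
        show f ≫ g ≫ x = f ≫ 0
        rw [← Category.assoc, show f ≫ g = 0 from comp_distTriang_mor_zero₁₂ _ hT, zero_comp, comp_zero])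
      obtain ⟨y, hy⟩ := Triangle.yoneda_exact₃ _ hT x hgx
      let s : (E'⟦i - 1⟧)⟦(1 : ℤ)⟧ ≅ E'⟦i⟧ := ((shiftFunctorAdd' D (i - 1) 1 i (by omega)).app E').symm
      obtain ⟨y₀, hy₀⟩ := (shiftFunctor D (1 : ℤ)).map_surjective (y ≫ s.inv)
      obtain ⟨z, hz⟩ := (hf E' hE' (i - 1)).2 y₀
      rw [hy, show y = (y ≫ s.inv) ≫ s.hom by simp, ← hy₀, ← show f ≫ z = y₀ from hz, Functor.map_comp]
      show d ≫ _ = 0
      rw [Category.assoc, ← Category.assoc d, show d ≫ f⟦(1 : ℤ)⟧' = 0 from comp_distTriang_mor_zero₃₁ _ hT,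
        zero_comp]
    have hb : Function.Bijective fun u : A ⟶ K => f ≫ u :=
      ⟨fun u v huv => (cancel_epi f).1 huv, fun u => ⟨inv f ≫ u, by simp⟩⟩
    rw [key] at hb
    exact (Function.Bijective.of_comp_iff' (Equiv.bijective _) _).1 hb
  let adjR := Adjunction.ofIsLeftAdjoint F
  have step₂ : ∀ K : D, IsIso (adjR.unit.app K) := by
    intro K
    have key : ∀ B : D, (fun u : B ⟶ K => u ≫ adjR.unit.app K) =
        adjR.homEquiv B (F.obj K) ∘ fun u : B ⟶ K => F.map u := fun B => funext fun u => by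
      simp only [Function.comp_apply, Adjunction.homEquiv_unit]
      exact adjR.unit.naturality u
    have hf : ∀ E ∈ S, ∀ m : ℤ, Function.Bijective fun u : E⟦m⟧ ⟶ K => u ≫ adjR.unit.app K :=
      fun E hE m => by
        rw [key]
        exact (Equiv.bijective _).comp (step₁ E hE m K)
    obtain ⟨C, g, d, hT⟩ := distinguished_cocone_triangle (adjR.unit.app K)
    refine (Triangle.isZero₃_iff_isIso₁ _ hT).1 (h2 C fun E hE i x => ?_)
    have hzero : ∀ (m : ℤ) (x : E⟦m⟧ ⟶ C), x = 0 := by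
      intro m x
      let s : (E⟦m - 1⟧)⟦(1 : ℤ)⟧ ≅ E⟦m⟧ := ((shiftFunctorAdd' D (m - 1) 1 m (by omega)).app E).symm
      obtain ⟨x₀, hx₀⟩ := (shiftFunctor D (1 : ℤ)).map_surjective (s.hom ≫ x ≫ d)
      have hx₀0 : x₀ = 0 := (hf E hE (m - 1)).1 ((shiftFunctor D (1 : ℤ)).map_injective (by
        show (x₀ ≫ adjR.unit.app K)⟦(1 : ℤ)⟧' = ((0 : E⟦m - 1⟧ ⟶ K) ≫ adjR.unit.app K)⟦(1 : ℤ)⟧'
        rw [zero_comp, Functor.map_comp, hx₀, Functor.map_zero, Category.assoc, Category.assoc,
          show d ≫ (adjR.unit.app K)⟦(1 : ℤ)⟧' = 0 from comp_distTriang_mor_zero₃₁ _ hT, comp_zero, comp_zero]))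
      have hxd : x ≫ d = 0 := by
        rw [hx₀0, Functor.map_zero] at hx₀
        rw [← cancel_epi s.hom, ← hx₀, comp_zero]
      obtain ⟨y, hy⟩ := Triangle.coyoneda_exact₃ _ hT x hxd
      obtain ⟨z, hz⟩ := (hf E hE m).2 y
      rw [hy, ← show z ≫ adjR.unit.app K = y from hz, Category.assoc]
      show z ≫ adjR.unit.app K ≫ g = 0
      rw [show adjR.unit.app K ≫ g = 0 from comp_distTriang_mor_zero₁₂ _ hT, comp_zero]
    let c : (C⟦i⟧)⟦-i⟧ ≅ C := ((shiftFunctorCompIsoId D i (-i) (by omega)).app C)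
    have h0 := hzero (-i) ((shiftFunctor D (-i)).map x ≫ c.hom)
    refine (shiftFunctor D (-i)).map_injective ?_
    rw [Functor.map_zero]
    exact (cancel_mono c.hom).1 (h0.trans zero_comp.symm)
  haveI := fun K => step₂ K
  haveI : IsIso adjR.unit := NatIso.isIso_of_isIso_app _
  let ff := adjR.fullyFaithfulLOfIsIsoUnit
  exact ⟨ff.full, ff.faithful⟩

end Groth.Agent.S6703
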