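import Groth.Statements.S6707
import Groth.Agent.DEquivLib.Window

set_option autoImplicit false
universe w v u
open CategoryTheory
open DEquiv

namespace Groth.Agent.S6707

open CategoryTheory.Limits in
/-- Let A be an abelian category in which every object X is the target of an epimorphism N ⟶ X with
Hom(X, N) = 0. Let f : X ⟶ X' be a morphism between bounded objects of D(A) and b an integer with
H^i(X) = 0 for i > b and H^i(X') = 0 for i ≥ b. Then there exist an object N of A and a morphism
N⟦-b⟧ ⟶ X (N placed in degree b) inducing an epimorphism N ⟶ H^b(X), with Hom(H^b(X), N) = 0, and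
whose composite with f is zero. -/
theorem result
    {A : Type u} [Category.{v} A] [Abelian A] [HasDerivedCategory.{w} A]
    (hneg : ∀ X : A, ∃ (N : A) (p : N ⟶ X), Epi p ∧ ∀ f : X ⟶ N, f = 0)
    (X X' : DerivedCategory A) (f : X ⟶ X') (a b a' : ℤ) [X.IsGE a] [X.IsLE b] [X'.IsGE a']
    [X'.IsLE (b - 1)] :
    ∃ (N : A) (g : (DerivedCategory.singleFunctor A b).obj N ⟶ X),
      Epi ((DerivedCategory.homologyFunctor A b).map g) ∧
        (∀ φ : (DerivedCategory.homologyFunctor A b).obj X ⟶ N, φ = 0) ∧ g ≫ f = 0 := by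
  let K : DerivedCategory.Bounded A := ⟨X, ⟨⟨a, inferInstance⟩, ⟨b, inferInstance⟩⟩⟩
  obtain ⟨P, u, hu⟩ := DEquivLib.exists_admissible (a := a) (b := b) (K := K) ⟨‹X.IsGE a›, ‹X.IsLE b›⟩
  let u' : (DerivedCategory.singleFunctor A b).obj P ⟶ X :=
    (DEquivLib.sIso A b).inv.app P ≫ DerivedCategory.Bounded.ι.map u
  obtain ⟨P', p, hp, hpu⟩ := DEquivLib.exists_epi_kill b (u' ≫ f)
  obtain ⟨N, q, hq, hN⟩ := hneg (P' ⊞ (DerivedCategory.homologyFunctor A b).obj X)
  let q' : N ⟶ P := (q ≫ biprod.fst) ≫ p
  haveI : Epi (q ≫ (biprod.fst : P' ⊞ (DerivedCategory.homologyFunctor A b).obj X ⟶ P')) := epi_comp _ _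
  haveI : Epi q' := epi_comp _ _
  refine ⟨N, (DerivedCategory.singleFunctor A b).map q' ≫ u', ?_, fun φ => ?_, ?_⟩
  · rw [Functor.map_comp]
    haveI : Epi ((DerivedCategory.homologyFunctor A b).map ((DerivedCategory.singleFunctor A b).map q')) :=
      ((MorphismProperty.epimorphisms A).arrow_mk_iso_iff
        (Arrow.isoMk ((DerivedCategory.singleFunctorCompHomologyFunctorIso A b).app _)
          ((DerivedCategory.singleFunctorCompHomologyFunctorIso A b).app _)
          ((DerivedCategory.singleFunctorCompHomologyFunctorIso A b).hom.naturality q').symm)).2 ‹Epi q'›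
    haveI : Epi ((DerivedCategory.homologyFunctor A b).map u') := by
      rw [Functor.map_comp]
      exact @epi_comp _ _ _ _ _ _ inferInstance _ hu
    exact epi_comp _ _
  · have h := congrArg (fun t => biprod.inr ≫ t) (hN (biprod.snd ≫ φ))
    simpa using h
  · simp only [q', Functor.map_comp, Category.assoc]
    rw [hpu, comp_zero, comp_zero]

end Groth.Agent.S6707
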