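import Groth.Statements.S6708
import Mathlib


-- import your own Groth.Agent.* helpers here

set_option autoImplicit false
universe v u
open CategoryTheory
open DEquiv

namespace Groth.Agent.S6708

open CategoryTheory.Limits CategoryTheory.Pretriangulated in
/-- Let D be a pretriangulated category, D' ⊆ D a full triangulated subcategory (given as a property of
objects that is triangulated in Mathlib's sense) and X an object of D. Then the category of arrows E
⟶ X with E in D' is filtered. -/
theorem result
    {D : Type u} [Category.{v} D] [Preadditive D] [HasZeroObject D] [HasShift D ℤ]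
    [∀ n : ℤ, (shiftFunctor D n).Additive] [Pretriangulated D]
    (P : ObjectProperty D) [P.IsTriangulated] (X : D) :
    IsFiltered (CostructuredArrow P.ι X) := by
  have hne : Nonempty (CategoryTheory.CostructuredArrow P.ι X) := by
    obtain ⟨Z, hZ, hPZ⟩ := P.exists_prop_of_containsZero
    exact ⟨CategoryTheory.CostructuredArrow.mk (Y := (⟨Z, hPZ⟩ : P.FullSubcategory)) (0 : Z ⟶ X)⟩
  haveI : CategoryTheory.IsFilteredOrEmpty (CategoryTheory.CostructuredArrow P.ι X) := by
    constructor
    · intro A B
      obtain ⟨Z, hPZ, ⟨e⟩⟩ := P.ext_of_isTriangulatedClosed₂'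
        (CategoryTheory.Pretriangulated.binaryBiproductTriangle A.left.obj B.left.obj)
        (CategoryTheory.Pretriangulated.binaryBiproductTriangle_distinguished _ _) A.left.property B.left.property
      let C : CategoryTheory.CostructuredArrow P.ι X := CategoryTheory.CostructuredArrow.mk (Y := (⟨Z, hPZ⟩ : P.FullSubcategory))
        (e.inv ≫ CategoryTheory.Limits.biprod.desc A.hom B.hom)
      refine ⟨C, CategoryTheory.CostructuredArrow.homMk (P.homMk (CategoryTheory.Limits.biprod.inl ≫ e.hom)) ?_,
        CategoryTheory.CostructuredArrow.homMk (P.homMk (CategoryTheory.Limits.biprod.inr ≫ e.hom)) ?_, trivial⟩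
      · show (CategoryTheory.Limits.biprod.inl ≫ e.hom) ≫ e.inv ≫ CategoryTheory.Limits.biprod.desc A.hom B.hom = A.hom
        erw [Category.assoc, Iso.hom_inv_id_assoc]
        exact CategoryTheory.Limits.biprod.inl_desc _ _
      · show (CategoryTheory.Limits.biprod.inr ≫ e.hom) ≫ e.inv ≫ CategoryTheory.Limits.biprod.desc A.hom B.hom = B.hom
        erw [Category.assoc, Iso.hom_inv_id_assoc]
        exact CategoryTheory.Limits.biprod.inr_desc _ _
    · intro A B f g
      obtain ⟨T, a, b, hT⟩ := CategoryTheory.Pretriangulated.distinguished_cocone_triangle (f.left.hom - g.left.hom)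
      have h0 : (f.left.hom - g.left.hom) ≫ B.hom = 0 := by
        rw [Preadditive.sub_comp, sub_eq_zero]
        exact (CategoryTheory.CostructuredArrow.w f).trans (CategoryTheory.CostructuredArrow.w g).symm
      obtain ⟨h, hh⟩ := CategoryTheory.Pretriangulated.Triangle.yoneda_exact₂ _ hT B.hom h0
      obtain ⟨Z, hPZ, ⟨e⟩⟩ := P.ext_of_isTriangulatedClosed₃' _ hT A.left.property B.left.property
      let C : CategoryTheory.CostructuredArrow P.ι X := CategoryTheory.CostructuredArrow.mk (Y := (⟨Z, hPZ⟩ : P.FullSubcategory))
        (e.inv ≫ h)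
      refine ⟨C, CategoryTheory.CostructuredArrow.homMk (P.homMk (a ≫ e.hom)) ?_, ?_⟩
      · show (a ≫ e.hom) ≫ e.inv ≫ h = B.hom
        exact (Category.assoc _ _ _).trans ((congrArg (a ≫ ·) (e.hom_inv_id_assoc h)).trans hh.symm)
      · apply CategoryTheory.CostructuredArrow.hom_ext
        apply P.hom_ext
        show f.left.hom ≫ a ≫ e.hom = g.left.hom ≫ a ≫ e.hom
        have hz : (f.left.hom - g.left.hom) ≫ a = 0 := CategoryTheory.Pretriangulated.comp_distTriang_mor_zero₁₂ _ hT
        rw [Preadditive.sub_comp, sub_eq_zero] at hz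
        exact (Category.assoc _ _ _).symm.trans ((congrArg (· ≫ e.hom) hz).trans (Category.assoc _ _ _))
  exact CategoryTheory.IsFiltered.mk

end Groth.Agent.S6708
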