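import Groth.Statements.S6710
import Mathlib

set_option autoImplicit false
universe u v
open CategoryTheory
open FunMor

namespace Groth.Agent.S6710

open scoped TensorProduct

theorem exists_prime_nilpotent {A : Type u} [CommRing A] {N : Type v} [AddCommGroup N] [Module A N]
    [Nontrivial N] : ∃ (p : Ideal A) (_ : p.IsPrime) (n : N), (∀ s ∉ p, s • n ≠ 0) ∧
      ∀ r ∈ p, ∃ s ∉ p, ∃ k : ℕ, (s * r ^ k) • n = 0 := by
  obtain ⟨n, hn⟩ := exists_ne (0 : N)
  have hne : LinearMap.ker (LinearMap.toSpanSingleton A N n) ≠ ⊤ := fun h => hn (by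
    have : (1 : A) ∈ LinearMap.ker (LinearMap.toSpanSingleton A N n) := h ▸ trivial
    simpa using this)
  obtain ⟨p, hp⟩ := Ideal.nonempty_minimalPrimes hne
  have := hp.1.1
  refine ⟨p, this, n, fun s hs h => hs (hp.1.2 (by simpa using h)), fun r hr => ?_⟩
  by_contra hc
  push Not at hc
  obtain ⟨q, hq, hqI, hqd⟩ := Ideal.exists_le_prime_disjoint (LinearMap.ker (LinearMap.toSpanSingleton A N n))
    (p.primeCompl ⊔ Submonoid.powers r) (Set.disjoint_left.mpr fun x hx hxS => by
      obtain ⟨s, hs, _, ⟨k, rfl⟩, rfl⟩ := Submonoid.mem_sup.mp hxS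
      exact hc s hs k (by simpa using hx))
  have hle : q ≤ p := fun x hx => by
    by_contra hxp
    exact Set.disjoint_left.mp hqd hx (Submonoid.mem_sup_left hxp)
  exact Set.disjoint_left.mp hqd (hp.2 ⟨hq, hqI⟩ hle hr) (Submonoid.mem_sup_right ⟨1, pow_one r⟩)

theorem exists_killed {A : Type u} [CommRing A] {N : Type v} [AddCommGroup N] [Module A N] {p : Ideal A}
    [p.IsPrime] (n : N) (h1 : ∀ s ∉ p, s • n ≠ 0) (h2 : ∀ r ∈ p, ∃ s ∉ p, ∃ k : ℕ, (s * r ^ k) • n = 0) :
    ∀ l : List A, (∀ r ∈ l, r ∈ p) → ∃ b : A, (∀ s ∉ p, s • b • n ≠ 0) ∧ ∀ r ∈ l, ∃ s ∉ p, s • r • b • n = 0 := by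
  classical
  intro l
  induction l with
  | nil => exact fun _ => ⟨1, fun s hs => by rw [one_smul]; exact h1 s hs, by simp⟩
  | cons r l ih =>
    intro hl
    obtain ⟨b, hb, hbl⟩ := ih fun x hx => hl x (List.mem_cons_of_mem _ hx)
    have hex : ∃ k : ℕ, ∃ s ∉ p, s • (r ^ k * b) • n = 0 := by
      obtain ⟨s, hs, k, hk⟩ := h2 r (hl r List.mem_cons_self)
      exact ⟨k, s, hs, by rw [smul_smul, show s * (r ^ k * b) = b * (s * r ^ k) by ring, mul_smul, hk, smul_zero]⟩
    have h0 : Nat.find hex ≠ 0 := fun h => by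
      obtain ⟨s, hs, hsn⟩ := Nat.find_spec hex
      rw [h, pow_zero, one_mul] at hsn
      exact hb s hs hsn
    obtain ⟨j, hj⟩ := Nat.exists_eq_succ_of_ne_zero h0
    refine ⟨r ^ j * b, fun s hs h => Nat.find_min hex (by omega : j < Nat.find hex) ⟨s, hs, h⟩, fun x hx => ?_⟩
    rcases List.mem_cons.mp hx with rfl | hx
    · obtain ⟨s, hs, hsn⟩ := Nat.find_spec hex
      refine ⟨s, hs, ?_⟩
      rw [hj, pow_succ] at hsn
      simp only [smul_smul] at hsn ⊢
      rw [← hsn]
      ring_nf
    · obtain ⟨s, hs, hsn⟩ := hbl x hx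
      refine ⟨s, hs, ?_⟩
      rw [show s • x • (r ^ j * b) • n = r ^ j • s • x • b • n by simp only [smul_smul]; ring_nf, hsn, smul_zero]


/-- The statement for an affine scheme written in terms of modules: let A be a commutative ring, M a
finitely presented A-module and N a nonzero A-module with Supp(N) ⊆ Supp(M). Then Hom_A(M, N) is
nonzero. -/
theorem result
    (A : Type u) [CommRing A] (M : Type v) [AddCommGroup M] [Module A M]
    [Module.FinitePresentation A M] (N : Type v) [AddCommGroup N] [Module A N] [Nontrivial N]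
    (h : Module.support A N ⊆ Module.support A M) : Nontrivial (M →ₗ[A] N) := by
  classical
  obtain ⟨p, hp, n, h1, h2⟩ := exists_prime_nilpotent (A := A) (N := N)
  have hpN : (⟨p, hp⟩ : PrimeSpectrum A) ∈ Module.support A N :=
    Module.mem_support_iff'.mpr ⟨n, fun s hs => h1 s hs⟩
  have hpM := h hpN
  rw [Module.mem_support_iff_nontrivial_residueField_tensorProduct] at hpM
  obtain ⟨m, r, f, g, hf, hfg⟩ := Module.FinitePresentation.exists_fin' A M
  let κ := p.ResidueField
  obtain ⟨z, hz⟩ := exists_ne (0 : κ ⊗[A] M)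
  obtain ⟨lam, hlam⟩ : ∃ l : Module.Dual κ (κ ⊗[A] M), l z ≠ 0 := by
    by_contra hc
    push Not at hc
    exact hz ((Module.forall_dual_apply_eq_zero_iff κ z).mp hc)
  let l : M →ₗ[A] κ := lam.restrictScalars A ∘ₗ TensorProduct.mk A κ M 1
  have hl : ∃ i, l (f (Pi.single i 1)) ≠ 0 := by
    by_contra hc
    push Not at hc
    have hlf : l ∘ₗ f = 0 := LinearMap.pi_ext' fun i => LinearMap.ext_ring (by simpa using hc i)
    refine hlam ?_
    clear hz hlam
    induction z using TensorProduct.induction_on with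
    | zero => simp
    | tmul c x =>
      obtain ⟨v, rfl⟩ := hf x
      have : lam ((1 : κ) ⊗ₜ[A] f v) = 0 := LinearMap.congr_fun hlf v
      rw [show c ⊗ₜ[A] f v = c • ((1 : κ) ⊗ₜ[A] f v) by simp [TensorProduct.smul_tmul'], map_smul, this, smul_zero]
    | add x y hx hy => rw [map_add, hx, hy, add_zero]
  obtain ⟨⟨b, hb⟩, hbi⟩ := IsLocalization.exist_integer_multiples_of_finite (nonZeroDivisors (A ⧸ p))
    (fun i => l (f (Pi.single i 1)))
  choose a' ha' using hbi
  choose a ha using fun i => Ideal.Quotient.mk_surjective (a' i)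
  let phi : (Fin m → A) →ₗ[A] A := ∑ i, (LinearMap.proj i).smulRight (a i)
  have hphi : ∀ v, algebraMap A κ (phi v) = b • l (f v) := fun v => by
    have hv : v = ∑ i, v i • (Pi.single i 1 : Fin m → A) := by
      ext j; simp [Pi.single_apply]
    conv_rhs => rw [hv]
    simp only [phi, LinearMap.coe_sum, Finset.sum_apply, LinearMap.smulRight_apply, LinearMap.proj_apply,
      map_sum, map_smul, Finset.smul_sum, smul_eq_mul, map_mul]
    refine Finset.sum_congr rfl fun i _ => ?_
    rw [smul_comm, ← ha' i, Algebra.smul_def, ← ha i]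
    rfl
  have hmem : ∀ j, phi (g (Pi.single j 1)) ∈ p := fun j => by
    rw [← Ideal.algebraMap_residueField_eq_zero, hphi, hfg.apply_apply_eq_zero, map_zero, smul_zero]
  obtain ⟨i₀, hi₀⟩ := hl
  have hai : a i₀ ∉ p := fun hm => by
    apply hi₀
    have hb0 : algebraMap (A ⧸ p) κ b ≠ 0 := IsLocalization.map_units κ ⟨b, hb⟩ |>.ne_zero
    have := ha' i₀
    rw [← ha i₀, Ideal.Quotient.eq_zero_iff_mem.mpr hm, map_zero, Algebra.smul_def] at this
    exact (mul_eq_zero.mp this.symm).resolve_left hb0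
  obtain ⟨c, hc, hck⟩ := exists_killed n h1 h2 (List.ofFn fun j => phi (g (Pi.single j 1))) (by
    simp only [List.mem_ofFn, forall_exists_index, forall_apply_eq_imp_iff]
    exact hmem)
  choose s hs hsk using fun j => hck (phi (g (Pi.single j 1))) (by simp)
  let psi : (Fin m → A) →ₗ[A] N := phi.smulRight ((∏ j, s j) • c • n)
  have hpsi : LinearMap.ker f ≤ LinearMap.ker psi := by
    rw [hfg.linearMap_ker_eq]
    rintro _ ⟨v, rfl⟩
    rw [show v = ∑ j, v j • (Pi.single j 1 : Fin r → A) by ext j; simp [Pi.single_apply]]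
    simp only [map_sum, map_smul, LinearMap.mem_ker]
    refine Finset.sum_eq_zero fun j _ => ?_
    obtain ⟨t, ht⟩ := Finset.dvd_prod_of_mem s (Finset.mem_univ j)
    rw [LinearMap.smulRight_apply, ht, mul_comm, smul_comm (phi _) (t * s j), mul_smul, hsk j, smul_zero, smul_zero]
  refine ⟨⟨((LinearMap.ker f).liftQ psi hpsi) ∘ₗ (f.quotKerEquivOfSurjective hf).symm.toLinearMap, 0, fun h0 => ?_⟩⟩
  have := LinearMap.congr_fun h0 (f (Pi.single i₀ 1))
  simp only [LinearMap.coe_comp, LinearEquiv.coe_coe, Function.comp_apply, LinearMap.zero_apply] at this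
  rw [show (f.quotKerEquivOfSurjective hf).symm (f (Pi.single i₀ 1)) = Submodule.Quotient.mk (Pi.single i₀ 1) from
    (LinearEquiv.symm_apply_eq _).mpr rfl, Submodule.liftQ_apply] at this
  simp [psi, phi, Pi.single_apply, smul_smul] at this
  refine hc (a i₀ * ∏ j, s j) (p.primeCompl.mul_mem hai (p.primeCompl.prod_mem fun j _ => hs j)) ?_
  simp only [smul_smul] at this ⊢
  convert this using 2
  ring

end Groth.Agent.S6710
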