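import Groth.Statements.S6712
import Groth.Agent.S10888

set_option autoImplicit false
set_option backward.isDefEq.respectTransparency false
set_option backward.isDefEq.respectTransparency.types false
universe u
open CategoryTheory AlgebraicGeometry
open DEquiv

namespace Groth.Agent.S6712

theorem isIso_map_of_restrict {S X Y : Scheme.{u}} (p : X ⟶ Y) (h : Y ⟶ S) (U : S.Opens)
    (hiso : IsIso (p ∣_ (h ⁻¹ᵁ U))) :
    IsIso (Limits.pullback.map (p ≫ h) U.ι h U.ι p (𝟙 _) (𝟙 _) (Category.comp_id _)
        ((Category.comp_id _).trans (Category.id_comp _).symm)) := by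
  have hsq : Limits.pullback.map (p ≫ h) U.ι h U.ι p (𝟙 _) (𝟙 _) (Category.comp_id _)
        ((Category.comp_id _).trans (Category.id_comp _).symm) =
      (pullbackRestrictIsoRestrict (p ≫ h) U).hom ≫ (p ∣_ (h ⁻¹ᵁ U)) ≫
        (pullbackRestrictIsoRestrict h U).inv := by
    rw [← Category.assoc, Iso.eq_comp_inv, ← cancel_mono (h ⁻¹ᵁ U).ι]
    simp only [Category.assoc, pullbackRestrictIsoRestrict_hom_ι]
    rw [Limits.pullback.map, Limits.pullback.lift_fst]
    erw [morphismRestrict_ι]
    exact ((reassoc_of% (pullbackRestrictIsoRestrict_hom_ι (p ≫ h) U)) p).symm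
  rw [hsq]
  infer_instance

theorem fibre_iso {S X Y : Scheme.{u}} (s : S) (p : X ⟶ Y) (h : Y ⟶ S)
    (hs : IsIso (Limits.pullback.map (p ≫ h) (S.fromSpecResidueField s) h
      (S.fromSpecResidueField s) p (𝟙 _) (𝟙 _) (Category.comp_id _)
      ((Category.comp_id _).trans (Category.id_comp _).symm))) :
    ∃ e : (p ≫ h).fiber s ≅ h.fiber s, e.hom ≫ h.fiberι s = (p ≫ h).fiberι s ≫ p := by
  haveI := hs
  refine ⟨@asIso _ _ _ _ (Limits.pullback.map (p ≫ h) (S.fromSpecResidueField s) h
    (S.fromSpecResidueField s) p (𝟙 _) (𝟙 _) (Category.comp_id _)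
    ((Category.comp_id _).trans (Category.id_comp _).symm)) hs, ?_⟩
  exact Limits.pullback.lift_fst _ _ _

open CategoryTheory.Limits in
/-- Let S be a Noetherian scheme, s ∈ S, and p : X ⟶ Y a morphism over S where X ⟶ S and Y ⟶ S are
proper and X ⟶ S is flat. If the fibre X_s ⟶ Y_s of p is an isomorphism, then there is an open
neighbourhood U of s such that the base change X_U ⟶ Y_U of p is an isomorphism. -/
theorem result
    {S X Y : Scheme.{u}} [IsNoetherian S] (s : S) (g : X ⟶ S) (h : Y ⟶ S) (p : X ⟶ Y)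
    (w : p ≫ h = g) [IsProper g] [IsProper h] [Flat g]
    (hs : IsIso (pullback.map g (S.fromSpecResidueField s) h (S.fromSpecResidueField s) p (𝟙 _)
      (𝟙 _) ((Category.comp_id g).trans w.symm)
      ((Category.comp_id _).trans (Category.id_comp _).symm))) :
    ∃ U : S.Opens, s ∈ U ∧
      IsIso (pullback.map g U.ι h U.ι p (𝟙 _) (𝟙 _) ((Category.comp_id g).trans w.symm)
        ((Category.comp_id _).trans (Category.id_comp _).symm)) := by
  subst w
  haveI : IsLocallyNoetherian S := inferInstance
  haveI : LocallyOfFinitePresentation h := inferInstance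
  haveI : LocallyOfFinitePresentation (p ≫ h) := inferInstance
  obtain ⟨U, hU, hiso⟩ := Groth.Agent.S10888.result (p ≫ h) h p rfl
  exact ⟨U, (hU s).mpr (fibre_iso s p h hs), isIso_map_of_restrict p h U hiso⟩

end Groth.Agent.S6712
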