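import Groth.Statements.S6713
import Mathlib


set_option autoImplicit false
set_option linter.all false
universe w v u
open CategoryTheory
open DEquiv

namespace Groth.Agent.S6713

open Limits ZeroObject DerivedCategory

variable {A : Type u} [Category.{v} A] [Abelian A] (e : ℕ → A) (a b : ℤ)

noncomputable def obj (n : Finset.Icc a b → ℕ) (i : ℤ) : A :=
  if h : i ∈ Finset.Icc a b then e (n ⟨i, h⟩) else 0

/-- codes of complexes in a range of degrees -/
abbrev Code := Σ n : Finset.Icc a b → ℕ, ∀ i : Finset.Icc a b, obj e a b n i.1 ⟶ obj e a b n (i.1 + 1)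

noncomputable def dd (c : Code e a b) (i : ℤ) : obj e a b c.1 i ⟶ obj e a b c.1 (i + 1) :=
  if h : i ∈ Finset.Icc a b then c.2 ⟨i, h⟩ else 0

noncomputable def cx (c : Code e a b) : CochainComplex A ℤ :=
  open Classical in
  if h : ∀ i, dd e a b c i ≫ dd e a b c (i + 1) = 0 then CochainComplex.of (obj e a b c.1) (dd e a b c) h
  else 0

theorem exists_code (he : ∀ X : A, ∃ n : ℕ, Nonempty (X ≅ e n)) (K : CochainComplex A ℤ)
    [K.IsStrictlyGE a] [K.IsStrictlyLE b] : ∃ c : Code e a b, Nonempty (K ≅ cx e a b c) := by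
  classical
  choose n hn using he
  let nn : Finset.Icc a b → ℕ := fun i => n (K.X i.1)
  have hz : ∀ i, i ∉ Finset.Icc a b → IsZero (K.X i) := by
    intro i hi
    rw [Finset.mem_Icc, not_and_or, not_le, not_le] at hi
    rcases hi with h | h
    exacts [K.isZero_of_isStrictlyGE a i h, K.isZero_of_isStrictlyLE b i h]
  have hφ : ∀ i, Nonempty (K.X i ≅ obj e a b nn i) := fun i => by
    by_cases h : i ∈ Finset.Icc a b
    · rw [obj, dif_pos h]; exact hn (K.X i)
    · rw [obj, dif_neg h]; exact ⟨(hz i h).iso (isZero_zero A)⟩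
  let φ := fun i => Classical.choice (hφ i)
  let c : Code e a b := ⟨nn, fun i => (φ i.1).inv ≫ K.d i.1 (i.1 + 1) ≫ (φ (i.1 + 1)).hom⟩
  have hd : ∀ i, dd e a b c i = (φ i).inv ≫ K.d i (i + 1) ≫ (φ (i + 1)).hom := by
    intro i
    by_cases h : i ∈ Finset.Icc a b
    · rw [dd, dif_pos h]
    · rw [dd, dif_neg h, (hz i h).eq_of_src (K.d i (i + 1)) 0, zero_comp, comp_zero]
  have h0 : ∀ i, dd e a b c i ≫ dd e a b c (i + 1) = 0 := by
    intro i
    rw [hd, hd]
    simp
  refine ⟨c, ?_⟩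
  rw [cx, dif_pos h0]
  refine ⟨HomologicalComplex.Hom.isoOfComponents φ fun i j hij => ?_⟩
  obtain rfl : i + 1 = j := hij
  show (φ i).hom ≫ CochainComplex.of.d (obj e a b c.1) (dd e a b c) i (i + 1) = K.d i (i + 1) ≫ (φ (i + 1)).hom
  rw [CochainComplex.of_d, hd, Iso.hom_inv_id_assoc]

theorem countable_hom (hhom : ∀ X Y : A, Countable (X ⟶ Y)) (K L : CochainComplex A ℤ)
    (hK : ∀ i, i ∉ Finset.Icc a b → IsZero (K.X i)) : Countable (K ⟶ L) := by
  haveI := hhom
  refine Function.Injective.countable (f := fun (f : K ⟶ L) (i : Finset.Icc a b) => f.f i.1) ?_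
  intro f g h
  ext i
  by_cases hi : i ∈ Finset.Icc a b
  · exact congrFun h ⟨i, hi⟩
  · exact (hK i hi).eq_of_src _ _

theorem countable_code (hhom : ∀ X Y : A, Countable (X ⟶ Y)) : Countable (Code e a b) := by
  haveI := hhom
  infer_instance

theorem isZero_cx (c : Code e a b) (i : ℤ) (hi : i ∉ Finset.Icc a b) : IsZero ((cx e a b c).X i) := by
  by_cases h : ∀ i, dd e a b c i ≫ dd e a b c (i + 1) = 0
  · rw [cx, dif_pos h]
    show IsZero (obj e a b c.1 i)
    rw [obj, dif_neg hi]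
    exact isZero_zero A
  · rw [cx, dif_neg h]
    exact (HomologicalComplex.eval A (ComplexShape.up ℤ) i).map_isZero (isZero_zero _)

theorem exists_rep [HasDerivedCategory.{w} A] (he : ∀ X : A, ∃ n : ℕ, Nonempty (X ≅ e n))
    (K : DerivedCategory A) [K.IsGE a] [K.IsLE b] :
    ∃ c : Code e a b, Nonempty (K ≅ Q.obj (cx e a b c)) := by
  obtain ⟨X, _, _, ⟨φ⟩⟩ := K.exists_iso_Q_obj_of_isGE_of_isLE a b
  obtain ⟨c, ⟨ψ⟩⟩ := exists_code e a b he X
  exact ⟨c, ⟨φ ≪≫ Q.mapIso ψ⟩⟩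

theorem countable_Q_hom [HasDerivedCategory.{w} A] (hhom : ∀ X Y : A, Countable (X ⟶ Y))
    (he : ∀ X : A, ∃ n : ℕ, Nonempty (X ≅ e n)) (X Y : CochainComplex A ℤ)
    [X.IsStrictlyGE a] [X.IsStrictlyLE b] [Y.IsStrictlyGE a] : Countable (Q.obj X ⟶ Q.obj Y) := by
  classical
  haveI := countable_code e a b hhom
  haveI : ∀ (c : Code e a b) (Z : CochainComplex A ℤ), Countable (cx e a b c ⟶ Z) :=
    fun c Z => countable_hom a b hhom _ _ (isZero_cx e a b c)
  let F : (Σ c : Code e a b, (cx e a b c ⟶ X) × (cx e a b c ⟶ Y)) → (Q.obj X ⟶ Q.obj Y) := fun t =>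
    if h : IsIso (Q.map t.2.1) then (@inv _ _ _ _ (Q.map t.2.1) h) ≫ Q.map t.2.2 else 0
  refine Function.Surjective.countable (f := F) fun f => ?_
  obtain ⟨X', h1, h2, s, hs, g, rfl⟩ := right_fac_of_isStrictlyLE_of_isStrictlyGE a b f
  obtain ⟨c, ⟨ψ⟩⟩ := exists_code e a b he X'
  have hs' : IsIso (Q.map (ψ.inv ≫ s)) := by rw [Functor.map_comp]; infer_instance
  refine ⟨⟨c, ψ.inv ≫ s, ψ.inv ≫ g⟩, ?_⟩
  show (if h : IsIso (Q.map (ψ.inv ≫ s)) then _ else 0) = _
  rw [dif_pos hs']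
  haveI := hs'
  rw [IsIso.inv_comp_eq]
  simp


/-- Let A be an abelian category which is countable: Hom(X, Y) is countable for all objects X, Y and
there are countably many isomorphism classes of objects. Then the bounded derived category D^b(A) is
countable in the same sense. -/
theorem result
    {A : Type u} [Category.{v} A] [Abelian A] [HasDerivedCategory.{w} A]
    (hhom : ∀ X Y : A, Countable (X ⟶ Y))
    (hiso : ∃ e : ℕ → A, ∀ X : A, ∃ n : ℕ, Nonempty (X ≅ e n)) :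
    (∀ K L : DerivedCategory.Bounded A, Countable (K ⟶ L)) ∧
      ∃ e : ℕ → DerivedCategory.Bounded A, ∀ K : DerivedCategory.Bounded A,
        ∃ n : ℕ, Nonempty (K ≅ e n) := by
  classical
  obtain ⟨e, he⟩ := hiso
  have hb : ∀ K : DerivedCategory.Bounded A, ∃ a b : ℤ, K.obj.IsGE a ∧ K.obj.IsLE b := by
    intro K
    obtain ⟨⟨a, ha⟩, ⟨b, hb⟩⟩ := K.property
    exact ⟨a, b, ha, hb⟩
  refine ⟨fun K L => ?_, ?_⟩
  · obtain ⟨a₁, b₁, h1, h2⟩ := hb K
    obtain ⟨a₂, b₂, h3, h4⟩ := hb L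
    haveI := h1; haveI := h2; haveI := h3; haveI := h4
    haveI : K.obj.IsGE (min a₁ a₂) := DerivedCategory.TStructure.t.isGE_of_ge _ _ a₁ (min_le_left _ _)
    haveI : L.obj.IsGE (min a₁ a₂) := DerivedCategory.TStructure.t.isGE_of_ge _ _ a₂ (min_le_right _ _)
    obtain ⟨X, _, _, ⟨φ⟩⟩ := K.obj.exists_iso_Q_obj_of_isGE_of_isLE (min a₁ a₂) b₁
    obtain ⟨Y, _, _, ⟨ψ⟩⟩ := L.obj.exists_iso_Q_obj_of_isGE_of_isLE (min a₁ a₂) b₂
    haveI := countable_Q_hom e (min a₁ a₂) b₁ hhom he X Y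
    haveI : Countable (K.obj ⟶ L.obj) := (Iso.homCongr φ ψ).injective.countable
    haveI : Countable (DerivedCategory.Bounded.ι.obj K ⟶ DerivedCategory.Bounded.ι.obj L) :=
      (inferInstance : Countable (K.obj ⟶ L.obj))
    exact Function.Injective.countable (f := fun g => DerivedCategory.Bounded.ι.map g)
      DerivedCategory.Bounded.ι.map_injective
  · haveI := fun a b => countable_code e a b hhom
    haveI : Nonempty (DerivedCategory.Bounded A) :=
      ⟨⟨DerivedCategory.Q.obj 0, by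
        have hz : IsZero (DerivedCategory.Q.obj (0 : CochainComplex A ℤ)) :=
          DerivedCategory.Q.map_isZero (Limits.isZero_zero _)
        exact ⟨⟨0, DerivedCategory.TStructure.t.isGE_of_isZero hz 0⟩, ⟨0, DerivedCategory.TStructure.t.isLE_of_isZero hz 0⟩⟩⟩⟩
    let G : (Σ ab : ℤ × ℤ, Code e ab.1 ab.2) → DerivedCategory.Bounded A := fun t =>
      if h : ∃ K : DerivedCategory.Bounded A, Nonempty (K.obj ≅ DerivedCategory.Q.obj (cx e _ _ t.2))
        then h.choose else Classical.arbitrary _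
    haveI : Nonempty (Σ ab : ℤ × ℤ, Code e ab.1 ab.2) := by
      obtain ⟨a, b, h1, h2⟩ := hb (Classical.arbitrary _)
      haveI := h1; haveI := h2
      obtain ⟨c, -⟩ := exists_rep e a b he (Classical.arbitrary (DerivedCategory.Bounded A)).obj
      exact ⟨⟨(a, b), c⟩⟩
    obtain ⟨N, hN⟩ := exists_surjective_nat (Σ ab : ℤ × ℤ, Code e ab.1 ab.2)
    refine ⟨fun n => G (N n), fun K => ?_⟩
    obtain ⟨a, b, h1, h2⟩ := hb K
    haveI := h1; haveI := h2
    obtain ⟨c, ⟨φ⟩⟩ := exists_rep e a b he K.obj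
    obtain ⟨n, hn⟩ := hN ⟨(a, b), c⟩
    have hex : ∃ K' : DerivedCategory.Bounded A, Nonempty (K'.obj ≅ DerivedCategory.Q.obj (cx e a b c)) := ⟨K, ⟨φ⟩⟩
    refine ⟨n, ⟨DerivedCategory.Bounded.ι.preimageIso (φ ≪≫ (Classical.choice (?_ : Nonempty ((G (N n)).obj ≅ _))).symm)⟩⟩
    rw [hn]
    show Nonempty ((dite _ _ _ : DerivedCategory.Bounded A).obj ≅ _)
    rw [dif_pos hex]
    exact hex.choose_spec

end Groth.Agent.S6713
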