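import Groth.Statements.S6718
import Mathlib.LinearAlgebra.Dual.Lemmas
import Mathlib.CategoryTheory.Linear.Basic
import Mathlib.CategoryTheory.Yoneda

set_option autoImplicit false
set_option backward.isDefEq.respectTransparency false
set_option backward.isDefEq.respectTransparency.types false
universe w v u
open CategoryTheory
open DEquiv

namespace Groth.Agent.S6718

open CategoryTheory.Limits CategoryTheory.Pretriangulated in
/-- Let k be a field and T a k-linear (pre)triangulated category with dim_k Hom(X, Y) < ∞ for all X, Y.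
The following are equivalent: (1) there are a k-linear equivalence S : T ⥤ T and k-linear
isomorphisms c_{X,Y} : Hom(X, Y) ≅ Hom(Y, S X)^∨ natural in X and in Y; (2) for every object X the
functor Y ↦ Hom(X, Y)^∨ is representable and the functor Y ↦ Hom(Y, X)^∨ is corepresentable, by
k-linear isomorphisms natural in Y. (Here V^∨ is the k-linear dual.) -/
theorem result
    {k : Type w} [Field k]
    {T : Type u} [Category.{v} T] [Preadditive T] [Linear k T] [HasZeroObject T] [HasShift T ℤ]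
    [∀ n : ℤ, (shiftFunctor T n).Additive] [∀ n : ℤ, (shiftFunctor T n).Linear k] [Pretriangulated T]
    [∀ X Y : T, Module.Finite k (X ⟶ Y)] :
    (∃ (S : T ≌ T) (_ : S.functor.Additive) (_ : S.functor.Linear k)
        (c : ∀ X Y : T, (X ⟶ Y) ≃ₗ[k] Module.Dual k (Y ⟶ S.functor.obj X)),
        (∀ (X Y Y' : T) (f : X ⟶ Y) (g : Y ⟶ Y'),
          c X Y' (f ≫ g) = (c X Y f) ∘ₗ Linear.leftComp k (S.functor.obj X) g) ∧
        (∀ (X' X Y : T) (a : X' ⟶ X) (f : X ⟶ Y),
          c X' Y (a ≫ f) = (c X Y f) ∘ₗ Linear.rightComp k Y (S.functor.map a))) ↔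
    ((∀ X : T, ∃ (SX : T) (e : ∀ Y : T, (Y ⟶ SX) ≃ₗ[k] Module.Dual k (X ⟶ Y)),
        ∀ (Y Y' : T) (g : Y' ⟶ Y) (f : Y ⟶ SX),
          e Y' (g ≫ f) = (e Y f) ∘ₗ Linear.rightComp k X g) ∧
      (∀ X : T, ∃ (RX : T) (e : ∀ Y : T, (RX ⟶ Y) ≃ₗ[k] Module.Dual k (Y ⟶ X)),
        ∀ (Y Y' : T) (g : Y ⟶ Y') (f : RX ⟶ Y),
          e Y' (f ≫ g) = (e Y f) ∘ₗ Linear.leftComp k X g)) := by
  constructor
  · rintro ⟨S, hadd, hlin, c, hc₁, hc₂⟩
    refine ⟨fun X => ⟨S.functor.obj X,
      fun Y => (Module.evalEquiv k (Y ⟶ S.functor.obj X)).trans (c X Y).dualMap, fun Y Y' g f => ?_⟩,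
      fun X => ⟨S.inverse.obj X, fun Y => (c (S.inverse.obj X) Y).trans
        (Linear.homCongr k (Iso.refl Y) (S.counitIso.app X)).symm.dualMap, fun Y Y' g f => ?_⟩⟩
    · refine LinearMap.ext fun φ => ?_
      show c X Y' φ (g ≫ f) = c X Y (φ ≫ g) f
      rw [hc₁ X Y' Y φ g]
      rfl
    · refine LinearMap.ext fun ψ => ?_
      show c _ Y' (f ≫ g) ((Linear.homCongr k (Iso.refl Y') (S.counitIso.app X)).symm ψ) =
        c _ Y f ((Linear.homCongr k (Iso.refl Y) (S.counitIso.app X)).symm (g ≫ ψ))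
      rw [hc₁]
      simp [Linear.homCongr_symm_apply]
  · rintro ⟨hS, hR⟩
    choose SX e he using hS
    choose RX e' he' using hR
    have nat : ∀ (X Y Y' : T) (g : Y' ⟶ Y) (f : Y ⟶ SX X) (φ : X ⟶ Y'),
        e X Y' (g ≫ f) φ = e X Y f (φ ≫ g) := fun X Y Y' g f φ => LinearMap.congr_fun (he X Y Y' g f) φ
    have ext : ∀ (X Y : T) (a b : Y ⟶ SX X), (∀ φ, e X Y a φ = e X Y b φ) → a = b :=
      fun X Y a b h => (e X Y).injective (LinearMap.ext h)
    let τ : ∀ X' X : T, (X' ⟶ X) ≃ₗ[k] (SX X' ⟶ SX X) := fun X' X =>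
      ((Module.evalEquiv k (X' ⟶ X)).trans (e X' X).dualMap).trans (e X (SX X')).symm
    have hτ : ∀ (X' X : T) (a : X' ⟶ X) (φ : X ⟶ SX X'), e X (SX X') (τ X' X a) φ = e X' X φ a :=
      fun X' X a φ => LinearMap.congr_fun ((e X (SX X')).apply_symm_apply _) φ
    let F : T ⥤ T :=
      { obj := SX
        map := fun {X' X} a => τ X' X a
        map_id := fun X => ext X _ _ _ fun φ => by
          rw [hτ]
          have h1 := nat X (SX X) X φ (𝟙 (SX X)) (𝟙 X)
          simpa using h1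
        map_comp := fun {X'' X' X} b a => ext X _ _ _ fun φ => by
          rw [hτ, nat, hτ, show φ ≫ τ X'' X' b = φ ≫ τ X'' X' b from rfl, nat, hτ, nat] }
    haveI : F.Additive := ⟨fun {X Y f g} => map_add (τ X Y) f g⟩
    haveI : F.Linear k := ⟨fun {X Y} f r => map_smul (τ X Y) r f⟩
    haveI : F.Faithful := ⟨fun {X Y} f g h => (τ X Y).injective h⟩
    haveI : F.Full := ⟨fun {X Y} g => (τ X Y).surjective g⟩
    haveI : F.EssSurj := ⟨fun X => by
      let θ : ∀ Y : T, (Y ⟶ X) ≃ₗ[k] (Y ⟶ SX (RX X)) := fun Y =>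
        ((Module.evalEquiv k (Y ⟶ X)).trans (e' X Y).dualMap).trans (e (RX X) Y).symm
      have hθ : ∀ (Y Y' : T) (g : Y' ⟶ Y) (u : Y ⟶ X), θ Y' (g ≫ u) = g ≫ θ Y u := fun Y Y' g u =>
        ext _ _ _ _ fun φ => by
          have h1 : e (RX X) Y' (θ Y' (g ≫ u)) φ = e' X Y' φ (g ≫ u) :=
            LinearMap.congr_fun ((e (RX X) Y').apply_symm_apply _) φ
          have h2 : e (RX X) Y (θ Y u) (φ ≫ g) = e' X Y (φ ≫ g) u :=
            LinearMap.congr_fun ((e (RX X) Y).apply_symm_apply _) (φ ≫ g)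
          rw [h1, nat, h2]
          exact (LinearMap.congr_fun (he' X Y' Y g φ) u).symm
      exact ⟨RX X, ⟨{ hom := (θ (SX (RX X))).symm (𝟙 _)
                      inv := θ X (𝟙 X)
                      hom_inv_id := by rw [← hθ, Category.comp_id, LinearEquiv.apply_symm_apply]
                      inv_hom_id := by
                        apply (θ X).injective
                        rw [hθ, LinearEquiv.apply_symm_apply, Category.comp_id] }⟩⟩⟩
    haveI : F.IsEquivalence := {}
    refine ⟨F.asEquivalence, inferInstanceAs F.Additive, inferInstanceAs (F.Linear k),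
      fun X Y => (Module.evalEquiv k (X ⟶ Y)).trans (e X Y).dualMap,
      fun X Y Y' f g => LinearMap.ext fun h => (nat X Y' Y g h f).symm,
      fun X' X Y a f => LinearMap.ext fun h => ?_⟩
    have key : ∀ h : Y ⟶ SX X', e X' Y h (a ≫ f) = e X Y (h ≫ τ X' X a) f := fun h => by
      rw [nat, hτ, nat]
    exact key h

end Groth.Agent.S6718
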