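import Groth.Statements.S6720
import Groth.Agent.Dual3Lib.PointOrthSch
import Groth.Agent.Dual3Lib.PointTest
import Groth.Agent.PerfLib.Coherent

set_option autoImplicit false
set_option backward.isDefEq.respectTransparency false
set_option backward.isDefEq.respectTransparency.types false
universe u
open CategoryTheory AlgebraicGeometry
attribute [local instance] HasDerivedCategory.standard
open DEquiv

namespace Groth.Agent.S6720

/-- Let X be a scheme of finite type over a field k which is regular, x ∈ X a closed point, O_x the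
skyscraper sheaf at x with value κ(x), and K a perfect object of D(O_X). If Hom(O_x, K⟦i⟧) = 0 for
all i ∈ ℤ, then K is zero on an open neighbourhood of x; likewise if Hom(K, O_x⟦i⟧) = 0 for all i ∈
ℤ. (K zero on U is expressed as: no cohomology sheaf of K has a point of U in its support.) -/
theorem result
    (k : Type u) [Field k] (X : Scheme.{u}) [X.Over (Spec (.of k))]
    [LocallyOfFiniteType (X ↘ Spec (.of k))] [CompactSpace X]
    (hreg : Models.IsRegularScheme X) (x : X) (hx : IsClosed ({x} : Set X))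
    (K : DCoh.D X) (hK : DCoh.IsPerfect K) :
    ((∀ (i : ℤ) (φ : DCoh.inD X ((Coh.push (X.fromSpecResidueField x)).obj (Coh.structureModule _)) ⟶ (shiftFunctor (DCoh.D X) i).obj K), φ = 0) →
      ∃ U : X.Opens, x ∈ U ∧ ∀ (i : ℤ) (y : X), y ∈ U → y ∉ CohB1.support (DCoh.HD K i)) ∧
    ((∀ (i : ℤ) (φ : K ⟶ (shiftFunctor (DCoh.D X) i).obj (DCoh.inD X ((Coh.push (X.fromSpecResidueField x)).obj (Coh.structureModule _)))), φ = 0) →
      ∃ U : X.Opens, x ∈ U ∧ ∀ (i : ℤ) (y : X), y ∈ U → y ∉ CohB1.support (DCoh.HD K i)) := by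
  haveI : IsLocallyNoetherian X := LocallyOfFiniteType.isLocallyNoetherian (X ↘ Spec (.of k))
  haveI : IsNoetherian X := {}
  obtain ⟨hKc, a, c, ha, hc⟩ := Groth.Agent.PerfLib.isCohD_and_bounded_of_isPerfect hK
  haveI := ha
  haveI := hc
  have key : (∀ i : ℤ, x ∉ CohB1.support (DCoh.HD K i)) →
      ∃ U : X.Opens, x ∈ U ∧ ∀ (i : ℤ) (y : X), y ∈ U → y ∉ CohB1.support (DCoh.HD K i) := fun hK0 => by
    obtain ⟨U, hxU, hU⟩ := Groth.Agent.Dual3Lib.exists_nhd_isLE hKc c x (a - 1) fun i _ => hK0 i
    refine ⟨U, hxU, fun i y hy hys => ?_⟩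
    by_cases hi : i < a
    · rw [(Groth.Agent.DCohRestrLib.isZero_iff_support_empty _).1 (DerivedCategory.isZero_of_isGE K a i hi)] at hys
      exact hys
    · haveI := hU
      have hz := DerivedCategory.isZero_of_isLE ((DCoh.restrictD U.ι).obj K) (a - 1) i (by omega)
      have h1 : (⟨y, hy⟩ : (U : Scheme.{u})) ∈ CohB1.support (DCoh.HD ((DCoh.restrictD U.ι).obj K) i) := by
        rw [Groth.Agent.DCohRestrLib.support_HD_restrictD]
        exact hys
      rw [(Groth.Agent.DCohRestrLib.isZero_iff_support_empty _).1 hz] at h1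
      exact h1
  refine ⟨fun h => key fun i => Groth.Agent.Dual3Lib.notMem_support_of_orth hx hKc a h i, fun h => key fun i => ?_⟩
  exact (Groth.Agent.Dual3Lib.stalks_vanish_iff hx hKc c (i - 1)).2 (fun j _ φ => h (-j) φ) i (by omega)

end Groth.Agent.S6720
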