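import Groth.Statements.S6721
import Groth.Agent.Dual3Lib.ExtInjDim
import Groth.Agent.Dual3Lib.PnCoh

set_option autoImplicit false
set_option backward.isDefEq.respectTransparency false
set_option backward.isDefEq.respectTransparency.types false
universe u
open CategoryTheory AlgebraicGeometry
attribute [local instance] HasDerivedCategory.standard
open DEquiv

namespace Groth.Agent.S6721

/-- Let X be a Noetherian scheme all of whose local rings are regular and whose underlying space has
Krull dimension d. Let K be a bounded object of D(O_X) with coherent cohomology sheaves and a ∈ ℤ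
with H^i(K) = 0 for a < i < a + d. Then the connecting morphism τ_{≥ a+d} K ⟶ (τ_{< a+d} K)⟦1⟧ of
the truncation triangle vanishes (note τ_{< a+d} K = τ_{≤ a} K here), so K decomposes as τ_{≤ a} K ⊕
τ_{≥ a+d} K. -/
theorem result
    (X : Scheme.{u}) [IsNoetherian X] (hreg : Models.IsRegularScheme X) (d : ℕ)
    (hd : topologicalKrullDim X = d) (K : DCoh.D X) (hK : DCoh.IsCohD K) (lo hi : ℤ)
    [DerivedCategory.IsGE K lo] [DerivedCategory.IsLE K hi] (a : ℤ)
    (hgap : ∀ i : ℤ, a < i → i < a + d → Limits.IsZero (DCoh.HD K i)) :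
    (DerivedCategory.TStructure.t.truncGEδLT (a + d)).app K = 0 := by
  let T := DerivedCategory.TStructure.t (C := X.Modules)
  let A := (T.truncLT (a + d)).obj K
  let B := (T.truncGE (a + d)).obj K
  have hB : ∀ i, i < a + d → Limits.IsZero (DCoh.HD B i) := fun i hi =>
    DerivedCategory.isZero_of_isGE B (a + d) i hi
  have hAi : ∀ i, i < a + d → IsIso ((DerivedCategory.homologyFunctor X.Modules i).map ((T.truncLTι (a + d)).app K)) :=
    fun i hi => Groth.Agent.DerLib.Ghost.isIso_homologyMap_truncLTι K (a + d) i hi
  haveI : DerivedCategory.IsLE B hi := (DerivedCategory.isLE_iff B hi).2 fun i hi' => by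
    by_cases h : i < a + d
    · exact hB i h
    · haveI := Groth.Agent.DerLib.Ghost.isIso_homologyMap_truncGEπ K (a + d) i (not_lt.1 h)
      exact (DerivedCategory.isZero_of_isLE K hi i hi').of_iso
        (asIso ((DerivedCategory.homologyFunctor X.Modules i).map ((T.truncGEπ (a + d)).app K))).symm
  haveI : DerivedCategory.IsLE A a := (DerivedCategory.isLE_iff A a).2 fun i hi' => by
    by_cases h : i < a + d
    · haveI := hAi i h
      exact (hgap i hi' h).of_iso
        (asIso ((DerivedCategory.homologyFunctor X.Modules i).map ((T.truncLTι (a + d)).app K)))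
    · haveI : DerivedCategory.IsLE A (a + d - 1) := T.isLE_truncLT_obj K (a + d) (a + d - 1) (by omega)
      exact DerivedCategory.isZero_of_isLE A (a + d - 1) i (by omega)
  haveI : DerivedCategory.IsGE A lo := (DerivedCategory.isGE_iff A lo).2 fun i hi' => by
    by_cases h : i < a + d
    · haveI := hAi i h
      exact (DerivedCategory.isZero_of_isGE K lo i hi').of_iso
        (asIso ((DerivedCategory.homologyFunctor X.Modules i).map ((T.truncLTι (a + d)).app K)))
    · haveI : DerivedCategory.IsLE A (a + d - 1) := T.isLE_truncLT_obj K (a + d) (a + d - 1) (by omega)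
      exact DerivedCategory.isZero_of_isLE A (a + d - 1) i (by omega)
  haveI : DerivedCategory.IsLE (A⟦(1 : ℤ)⟧) (a - 1) := T.isLE_shift A a 1 (a - 1) (by omega)
  haveI : DerivedCategory.IsGE (A⟦(1 : ℤ)⟧) (lo - 1) := T.isGE_shift A lo 1 (lo - 1) (by omega)
  haveI : DerivedCategory.IsGE B (a + d) := T.isGE_truncGE_obj K (a + d) (a + d) le_rfl
  have hqA : DCoh.IsQCohD A := fun i => by
    by_cases h : i < a + d
    · haveI := hAi i h
      haveI : Coh.IsQCoh (DCoh.HD K i) := (hK i).1
      exact @QCohLib.isQCoh_of_iso _ _ _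
        (asIso ((DerivedCategory.homologyFunctor X.Modules i).map ((T.truncLTι (a + d)).app K))).symm (hK i).1
    · haveI : DerivedCategory.IsLE A (a + d - 1) := T.isLE_truncLT_obj K (a + d) (a + d - 1) (by omega)
      exact KFlatLib.isQCoh_zero (DerivedCategory.isZero_of_isLE A (a + d - 1) i (by omega))
  exact Groth.Agent.Dual3Lib.hom_eq_zero_of_gap hreg d hd.le (K := B) (L := A⟦(1 : ℤ)⟧)
    (KFlatLib.isQCohD_shift hqA 1) a hi (lo - 1) _

end Groth.Agent.S6721
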