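import Groth.Statements.S6734
import Groth.Agent.BoxSurjLib.Envelope
import Groth.Agent.S1109
import Groth.Agent.S1535

set_option autoImplicit false
set_option backward.isDefEq.respectTransparency false
set_option backward.isDefEq.respectTransparency.types false
universe u
open CategoryTheory AlgebraicGeometry
attribute [local instance] HasDerivedCategory.standard
open DEquiv

namespace Groth.Agent.S6734

open CategoryTheory.Limits in
/-- Let X be a quasi-compact separated smooth scheme over a field k. Then one can find a pair E, G of
finite locally free O_X-modules for which O_Δ = Δ_* O_X belongs to ⟨E ⊠ G⟩, the smallest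
triangulated subcategory of D(O_{X ×_k X}) containing pr_1^* E ⊗ pr_2^* G and closed under direct
summands (Mathlib's triangulated envelope). -/
theorem result
    (k : Type u) [Field k] (X : Scheme.{u}) [X.Over (Spec (.of k))] [CompactSpace X] [IsSeparated (X ↘ Spec (.of k))] [Smooth (X ↘ Spec (.of k))] :
    ∃ (E G : X.Modules), FlatMod.IsFinLocFree E ∧ FlatMod.IsFinLocFree G ∧
      ObjectProperty.triangEnvelope
        (ObjectProperty.ofObj (fun _ : PUnit.{u + 1} => DCoh.inD (pullback (X ↘ Spec (.of k)) (X ↘ Spec (.of k))) (CohB1.tensorMod ((Scheme.Modules.pullback (pullback.fst (X ↘ Spec (.of k)) (X ↘ Spec (.of k)))).obj E)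
            ((Scheme.Modules.pullback (pullback.snd (X ↘ Spec (.of k)) (X ↘ Spec (.of k)))).obj G))))
        (DCoh.inD (pullback (X ↘ Spec (.of k)) (X ↘ Spec (.of k))) ((Coh.push (pullback.diagonal (X ↘ Spec (.of k)))).obj (Coh.structureModule X))) := by
  haveI : X.IsSeparated := ⟨by rw [← Limits.terminal.comp_from (X ↘ Spec (.of k))]; infer_instance⟩
  haveI : IsLocallyNoetherian X := LocallyOfFiniteType.isLocallyNoetherian (X ↘ Spec (.of k))
  have hX : PerfAux.HasResolutionProperty X :=
    Groth.Agent.S1109.result X (fun x => Groth.Agent.S1535.result k X x) (fun U V hU hV => hU.inf hV)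
  let f := X ↘ Spec (.of k)
  let P := Limits.pullback f f
  letI : P.Over (Spec (.of k)) := ⟨Limits.pullback.fst f f ≫ f⟩
  haveI : Smooth (P ↘ Spec (.of k)) := inferInstanceAs (Smooth (Limits.pullback.fst f f ≫ f))
  haveI : QuasiCompact f := (quasiCompact_iff_compactSpace f).mpr ‹_›
  haveI : CompactSpace P := QuasiCompact.compactSpace_of_compactSpace (Limits.pullback.fst f f)
  haveI : IsLocallyNoetherian P := LocallyOfFiniteType.isLocallyNoetherian (Limits.pullback.fst f f ≫ f)
  obtain ⟨d, hd⟩ := BoxSurjLib.exists_krullDim_le (Limits.pullback.fst f f ≫ f)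
  haveI : QuasiSeparatedSpace X := inferInstance
  refine BoxSurjLib.exists_box_envelope (Limits.pullback.fst f f) (Limits.pullback.snd f f)
    (fun x => Groth.Agent.S1535.result k P x) hd (fun F hF => ?_) _
    (QCohLib.isCoh_push_finite (Limits.pullback.diagonal f) _ (DevissLib.isCoh_structureModule X))
  haveI : Coh.IsQCoh F := hF.1
  exact BoxSurjLib.exists_box_surjection f f hX hX F hF.2

end Groth.Agent.S6734
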