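import Groth.Statements.S6731
import Mathlib.LinearAlgebra.Dual.Lemmas
import Mathlib.CategoryTheory.Linear.Basic

set_option autoImplicit false
set_option backward.isDefEq.respectTransparency false
set_option backward.isDefEq.respectTransparency.types false
universe w v u
open CategoryTheory
open DEquiv

namespace Groth.Agent.S6731

open CategoryTheory.Limits CategoryTheory.Pretriangulated in
/-- Let k be a field and T a k-linear triangulated category with dim_k Hom(X, Y) < ∞ for all X, Y. Let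
(S, c) and (S', c') be Serre functors: k-linear equivalences T ⥤ T with k-linear isomorphisms
c_{X,Y} : Hom(X, Y) ≅ Hom(Y, S X)^∨ natural in X and Y (likewise c'). Then there is a unique
isomorphism of functors φ : S ≅ S' compatible with c and c', i.e. c_{X,Y}(f) is c'_{X,Y}(f) composed
with postcomposition by φ_X. -/
theorem result
    {k : Type w} [Field k]
    {T : Type u} [Category.{v} T] [Preadditive T] [Linear k T] [HasZeroObject T] [HasShift T ℤ]
    [∀ n : ℤ, (shiftFunctor T n).Additive] [∀ n : ℤ, (shiftFunctor T n).Linear k] [Pretriangulated T]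
    [IsTriangulated T] [∀ X Y : T, Module.Finite k (X ⟶ Y)]
    (S : T ≌ T) [S.functor.Additive] [S.functor.Linear k]
    (c : ∀ X Y : T, (X ⟶ Y) ≃ₗ[k] Module.Dual k (Y ⟶ S.functor.obj X))
    (hc₁ : ∀ (X Y Y' : T) (f : X ⟶ Y) (g : Y ⟶ Y'),
      c X Y' (f ≫ g) = (c X Y f) ∘ₗ Linear.leftComp k (S.functor.obj X) g)
    (hc₂ : ∀ (X' X Y : T) (a : X' ⟶ X) (f : X ⟶ Y),
      c X' Y (a ≫ f) = (c X Y f) ∘ₗ Linear.rightComp k Y (S.functor.map a))
    (S' : T ≌ T) [S'.functor.Additive] [S'.functor.Linear k]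
    (c' : ∀ X Y : T, (X ⟶ Y) ≃ₗ[k] Module.Dual k (Y ⟶ S'.functor.obj X))
    (hc'₁ : ∀ (X Y Y' : T) (f : X ⟶ Y) (g : Y ⟶ Y'),
      c' X Y' (f ≫ g) = (c' X Y f) ∘ₗ Linear.leftComp k (S'.functor.obj X) g)
    (hc'₂ : ∀ (X' X Y : T) (a : X' ⟶ X) (f : X ⟶ Y),
      c' X' Y (a ≫ f) = (c' X Y f) ∘ₗ Linear.rightComp k Y (S'.functor.map a)) :
    ∃! φ : S.functor ≅ S'.functor, ∀ (X Y : T) (f : X ⟶ Y),
      c X Y f = (c' X Y f) ∘ₗ Linear.rightComp k Y (φ.hom.app X) := by
  let N : ∀ X Y : T, (Y ⟶ S.functor.obj X) ≃ₗ[k] Module.Dual k (X ⟶ Y) := fun X Y =>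
    (Module.evalEquiv k (Y ⟶ S.functor.obj X)).trans (c X Y).dualMap
  let N' : ∀ X Y : T, (Y ⟶ S'.functor.obj X) ≃ₗ[k] Module.Dual k (X ⟶ Y) := fun X Y =>
    (Module.evalEquiv k (Y ⟶ S'.functor.obj X)).trans (c' X Y).dualMap
  let φ : ∀ X : T, S.functor.obj X ⟶ S'.functor.obj X := fun X =>
    (N' X _).symm (N X _ (𝟙 (S.functor.obj X)))
  let ψ : ∀ X : T, S'.functor.obj X ⟶ S.functor.obj X := fun X =>
    (N X _).symm (N' X _ (𝟙 (S'.functor.obj X)))
  have hφ : ∀ (X Y : T) (f : X ⟶ Y) (h : Y ⟶ S.functor.obj X), c X Y f h = c' X Y f (h ≫ φ X) := by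
    intro X Y f h
    have e0 : c' X _ (f ≫ h) (φ X) = c X _ (f ≫ h) (𝟙 _) :=
      LinearMap.congr_fun ((N' X _).apply_symm_apply (N X _ (𝟙 (S.functor.obj X)))) (f ≫ h)
    rw [hc'₁ X Y _ f h, hc₁ X Y _ f h] at e0
    simp only [LinearMap.comp_apply, Linear.leftComp_apply, Category.comp_id] at e0
    exact e0.symm
  have hψ : ∀ (X Y : T) (f : X ⟶ Y) (h : Y ⟶ S'.functor.obj X), c' X Y f h = c X Y f (h ≫ ψ X) := by
    intro X Y f h
    have e0 : c X _ (f ≫ h) (ψ X) = c' X _ (f ≫ h) (𝟙 _) :=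
      LinearMap.congr_fun ((N X _).apply_symm_apply (N' X _ (𝟙 (S'.functor.obj X)))) (f ≫ h)
    rw [hc₁ X Y _ f h, hc'₁ X Y _ f h] at e0
    simp only [LinearMap.comp_apply, Linear.leftComp_apply, Category.comp_id] at e0
    exact e0.symm
  have ext : ∀ (X Y : T) (a b : Y ⟶ S.functor.obj X), (∀ f, c X Y f a = c X Y f b) → a = b :=
    fun X Y a b h => (N X Y).injective (LinearMap.ext h)
  have ext' : ∀ (X Y : T) (a b : Y ⟶ S'.functor.obj X), (∀ f, c' X Y f a = c' X Y f b) → a = b :=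
    fun X Y a b h => (N' X Y).injective (LinearMap.ext h)
  let e : S.functor ≅ S'.functor := NatIso.ofComponents
    (fun X =>
      { hom := φ X
        inv := ψ X
        hom_inv_id := ext X _ _ _ fun f => by
          rw [← hψ, show φ X = 𝟙 _ ≫ φ X from (Category.id_comp _).symm, ← hφ]
        inv_hom_id := ext' X _ _ _ fun f => by
          rw [← hφ, show ψ X = 𝟙 _ ≫ ψ X from (Category.id_comp _).symm, ← hψ] })
    (fun {X' X} a => ext' X _ _ _ fun f => by
      rw [← hφ]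
      have e1 : c' X' _ (a ≫ f) (φ X') = c' X _ f (φ X' ≫ S'.functor.map a) :=
        LinearMap.congr_fun (hc'₂ X' X _ a f) (φ X')
      rw [← e1, show φ X' = 𝟙 _ ≫ φ X' from (Category.id_comp _).symm, ← hφ, hc₂ X' X _ a f]
      simp)
  refine ⟨e, fun X Y f => LinearMap.ext fun h => hφ X Y f h, fun e' he' => ?_⟩
  refine Iso.ext (NatTrans.ext (funext fun X => ext' X _ _ _ fun f => ?_))
  have h1 : c X _ f (𝟙 _) = c' X _ f (𝟙 _ ≫ e'.hom.app X) := LinearMap.congr_fun (he' X _ f) (𝟙 _)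
  rw [Category.id_comp] at h1
  rw [← h1, hφ, Category.id_comp]
  rfl

end Groth.Agent.S6731
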