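import Groth.Statements.S6733
import Groth.Agent.KerBddLib.Point
import Groth.Agent.KerBddLib.RegOrthSch

set_option autoImplicit false
set_option backward.isDefEq.respectTransparency false
set_option backward.isDefEq.respectTransparency.types false
set_option maxHeartbeats 1000000
universe u
open CategoryTheory AlgebraicGeometry
attribute [local instance] HasDerivedCategory.standard
open DEquiv

namespace Groth.Agent.S6733

attribute [local instance] HasDerivedCategory.standard

/-- Let X be a scheme of finite type over a field k which is regular, x ∈ X a closed point, O_x the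
skyscraper sheaf at x with value κ(x), d = dim O_{X,x}, and K a perfect object of D(O_X); the
derived functors - ⊗^L O_x and RΓ(X, -) are assumed to exist (instance binders). (5) If H^i(X, K ⊗^L
O_x) = 0 then H^i(K) vanishes on an open neighbourhood of x. (6) If H^i(X, K ⊗^L O_x) = 0 for all i
then every cohomology sheaf of K vanishes on an open neighbourhood of x. (1) If Hom(O_x, K⟦i⟧) = 0
then H^{i-d}(K) vanishes on an open neighbourhood of x. (Vanishing on U: no point of U lies in the
support.) -/
theorem result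
    (k : Type u) [Field k] (X : Scheme.{u}) [X.Over (Spec (.of k))]
    [LocallyOfFiniteType (X ↘ Spec (.of k))] [CompactSpace X]
    (hreg : Models.IsRegularScheme X) (x : X) (hx : IsClosed ({x} : Set X))
    (d : ℕ) (hd : ringKrullDim (X.presheaf.stalk x) = d)
    (K : DCoh.D X) (hK : DCoh.IsPerfect K)
    [DCoh.HasLTensorMod ((Coh.push (X.fromSpecResidueField x)).obj (Coh.structureModule _))] [DCoh.HasRΓ X] :
    (∀ i : ℤ, Limits.IsZero ((DerivedCategory.homologyFunctor AddCommGrpCat.{u} i).obj
          ((DCoh.RΓ X).obj ((DCoh.LTensorMod ((Coh.push (X.fromSpecResidueField x)).obj (Coh.structureModule _))).obj K))) →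
      ∃ U : X.Opens, x ∈ U ∧ ∀ y : X, y ∈ U → y ∉ CohB1.support (DCoh.HD K i)) ∧
    ((∀ i : ℤ, Limits.IsZero ((DerivedCategory.homologyFunctor AddCommGrpCat.{u} i).obj
          ((DCoh.RΓ X).obj ((DCoh.LTensorMod ((Coh.push (X.fromSpecResidueField x)).obj (Coh.structureModule _))).obj K)))) →
      ∃ U : X.Opens, x ∈ U ∧ ∀ (i : ℤ) (y : X), y ∈ U → y ∉ CohB1.support (DCoh.HD K i)) ∧
    (∀ i : ℤ, (∀ φ : DCoh.inD X ((Coh.push (X.fromSpecResidueField x)).obj (Coh.structureModule _)) ⟶ (shiftFunctor (DCoh.D X) i).obj K, φ = 0) →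
      ∃ U : X.Opens, x ∈ U ∧ ∀ y : X, y ∈ U → y ∉ CohB1.support (DCoh.HD K (i - d))) := by
  haveI : IsLocallyNoetherian X := LocallyOfFiniteType.isLocallyNoetherian (X ↘ Spec (.of k))
  haveI : IsNoetherian X := {}
  haveI : IsRegularLocalRing (X.presheaf.stalk x) := hreg x
  obtain ⟨hKcoh, a, b, ha, hb⟩ := Groth.Agent.PerfLib.isCohD_and_bounded_of_isPerfect hK
  have h5 : ∀ i : ℤ, Limits.IsZero ((DerivedCategory.homologyFunctor AddCommGrpCat.{u} i).obj
          ((DCoh.RΓ X).obj ((DCoh.LTensorMod ((Coh.push (X.fromSpecResidueField x)).obj (Coh.structureModule _))).obj K))) →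
      ∃ U : X.Opens, x ∈ U ∧ ∀ y : X, y ∈ U → y ∉ CohB1.support (DCoh.HD K i) := fun i hi =>
    KerBddLib.exists_nhd_of_hom_unit hx K hK i
      fun φ => Groth.Agent.KoszOrthLib.hom_unit_shift_eq_zero _ i hi φ
  refine ⟨h5, fun h => ?_, fun i h => ?_⟩
  · choose U hxU hU using fun i => h5 i (h i)
    refine ⟨(Finset.Icc a b).inf U, ?_, fun i y hy => ?_⟩
    · rw [← SetLike.mem_coe, TopologicalSpace.Opens.coe_finset_inf, Finset.inf_set_eq_iInter, Set.mem_iInter₂]
      exact fun i _ => hxU i
    · by_cases hi : i ∈ Finset.Icc a b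
      · exact hU i y ((Finset.inf_le hi : (Finset.Icc a b).inf U ≤ U i) hy)
      · rw [Finset.mem_Icc, not_and_or, not_le, not_le] at hi
        haveI := ha
        haveI := hb
        have hz : Limits.IsZero (DCoh.HD K i) := hi.elim
          (fun h => DerivedCategory.isZero_of_isGE K a i h) (fun h => DerivedCategory.isZero_of_isLE K b i h)
        rw [(Groth.Agent.DCohRestrLib.isZero_iff_support_empty _).1 hz]
        exact Set.notMem_empty y
  · haveI := ha
    exact ⟨⟨(CohB1.support (DCoh.HD K (i - d)))ᶜ,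
      (QCohLib.isClosed_support _ (hKcoh (i - d)).2).isOpen_compl⟩,
      KerBddLib.notMem_support_of_orth_deg hx d hd hKcoh a i h, fun y hy => hy⟩

end Groth.Agent.S6733
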