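import Groth.Statements.S6736
import Groth.Agent.AffVanBCLib.Main

set_option autoImplicit false
universe u
open CategoryTheory CategoryTheory.Limits AlgebraicGeometry
open FunMor

namespace Groth.Agent.S6736

/-- Let R be a ring and X, Y schemes over R with X quasi-compact with affine diagonal. Let K be a
quasi-coherent module on X ×_R Y which is flat over X and such that R^q pr_{2,*}(pr_1^* F ⊗ K) = 0
for all quasi-coherent O_X-modules F and all q > 0. Then for every scheme T over R and every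
quasi-coherent module F on T ×_R X, R^q pr_{13,*}(pr_{12}^* F ⊗ pr_{23}^* K) = 0 for all q > 0. Here
T ×_R X ×_R Y is realised as (T ×_R X) ×_X (X ×_R Y), with pr_{12}, pr_{23} its two projections and
pr_{13} the morphism to T ×_R Y determined by its two components. (Higher direct images as right
derived functors; the injective-resolution instances hold for module categories of schemes but are
carried as binders.) -/
theorem result
    (R : Type u) [CommRing R] (X Y : Scheme.{u}) [X.Over (Spec (.of R))] [Y.Over (Spec (.of R))]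
    [CompactSpace X] [IsAffineHom (pullback.diagonal (X ↘ Spec (.of R)))]
    [HasInjectiveResolutions (pullback (X ↘ Spec (.of R)) (Y ↘ Spec (.of R))).Modules]
    (K : (pullback (X ↘ Spec (.of R)) (Y ↘ Spec (.of R))).Modules) (hKq : Coh.IsQCoh K)
    (hKfl : FlatMod.IsFlatOver (pullback.fst (X ↘ Spec (.of R)) (Y ↘ Spec (.of R))) K)
    (hKac : ∀ (F : X.Modules), Coh.IsQCoh F → ∀ q : ℕ, 0 < q →
      IsZero ((Coh.Rpush (pullback.snd (X ↘ Spec (.of R)) (Y ↘ Spec (.of R))) q).obj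
        (CohB1.tensorMod ((Scheme.Modules.pullback (pullback.fst (X ↘ Spec (.of R)) (Y ↘ Spec (.of R)))).obj F) K)))
    (T : Scheme.{u}) [T.Over (Spec (.of R))]
    [HasInjectiveResolutions (pullback (pullback.snd (T ↘ Spec (.of R)) (X ↘ Spec (.of R))) (pullback.fst (X ↘ Spec (.of R)) (Y ↘ Spec (.of R)))).Modules]
    (pr₁₃ : (pullback (pullback.snd (T ↘ Spec (.of R)) (X ↘ Spec (.of R))) (pullback.fst (X ↘ Spec (.of R)) (Y ↘ Spec (.of R)))) ⟶ (pullback (T ↘ Spec (.of R)) (Y ↘ Spec (.of R))))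
    (h₁ : pr₁₃ ≫ pullback.fst (T ↘ Spec (.of R)) (Y ↘ Spec (.of R)) =
      pullback.fst _ _ ≫ pullback.fst (T ↘ Spec (.of R)) (X ↘ Spec (.of R)))
    (h₂ : pr₁₃ ≫ pullback.snd (T ↘ Spec (.of R)) (Y ↘ Spec (.of R)) =
      pullback.snd _ _ ≫ pullback.snd (X ↘ Spec (.of R)) (Y ↘ Spec (.of R)))
    (F : (pullback (T ↘ Spec (.of R)) (X ↘ Spec (.of R))).Modules) (hF : Coh.IsQCoh F) (q : ℕ) (hq : 0 < q) :
    IsZero ((Coh.Rpush pr₁₃ q).obj
      (CohB1.tensorMod
        ((Scheme.Modules.pullback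
          (pullback.fst (pullback.snd (T ↘ Spec (.of R)) (X ↘ Spec (.of R))) (pullback.fst (X ↘ Spec (.of R)) (Y ↘ Spec (.of R))))).obj F)
        ((Scheme.Modules.pullback
          (pullback.snd (pullback.snd (T ↘ Spec (.of R)) (X ↘ Spec (.of R))) (pullback.fst (X ↘ Spec (.of R)) (Y ↘ Spec (.of R))))).obj K))) := by
  let tR := T ↘ Spec (.of R)
  let xR := X ↘ Spec (.of R)
  let yR := Y ↘ Spec (.of R)
  let TX := pullback tR xR
  let XY := pullback xR yR
  let TY := pullback tR yR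
  let W := pullback (pullback.snd tR xR) (pullback.fst xR yR)
  let h : W ⟶ TX := pullback.fst _ _
  let a' : W ⟶ XY := pullback.snd _ _
  let d : XY ⟶ Y := pullback.snd xR yR
  haveI : QuasiCompact xR := (quasiCompact_iff_compactSpace xR).mpr inferInstance
  haveI : QuasiSeparated xR := ⟨inferInstance⟩
  have H : IsPullback h a' (pullback.snd tR xR) (pullback.fst xR yR) := IsPullback.of_hasPullback _ _
  have H13 := AffVanBCLib.isPullback_triple tR xR yR H pr₁₃ h₁ h₂
  haveI : QuasiCompact pr₁₃ := RpushLib.quasiCompact_of_sq H13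
  haveI : QuasiSeparated pr₁₃ := RpushLib.quasiSeparated_of_sq H13
  haveI := hF
  haveI := hKq
  let hF' := (Scheme.Modules.pullback h).obj F
  let hK' := (Scheme.Modules.pullback a').obj K
  haveI : Coh.IsQCoh hF' := KFlatLib.isQCoh_pullback h F
  haveI : Coh.IsQCoh hK' := KFlatLib.isQCoh_pullback a' K
  let M : W.Modules := CohB1.tensorMod hF' hK'
  haveI : Coh.IsQCoh M := (Groth.Agent.S2297.result hF' hK').1
  refine DevissLib.isZero_of_support_empty (Set.eq_empty_iff_forall_notMem.2 fun y hy => hy ?_)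
  obtain ⟨U, hU, hyU, -⟩ := exists_isAffineOpen_mem_and_subset (x := pullback.fst tR yR y) (U := ⊤) trivial
  haveI : IsAffine (U : Scheme.{u}) := hU
  haveI : IsAffineHom (U.ι ≫ tR) := isAffineHom_of_isAffine _
  let B₀ : TY.Opens := pullback.fst tR yR ⁻¹ᵁ U
  let A₀ : TX.Opens := pullback.fst tR xR ⁻¹ᵁ U
  haveI : IsAffineHom (A₀.ι ≫ pullback.snd tR xR) :=
    MorphismProperty.of_isPullback ((isPullback_morphismRestrict (pullback.fst tR xR) U).paste_vert
      (IsPullback.of_hasPullback tR xR)) ‹IsAffineHom (U.ι ≫ tR)›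
  haveI : IsAffineHom (B₀.ι ≫ pullback.snd tR yR) :=
    MorphismProperty.of_isPullback ((isPullback_morphismRestrict (pullback.fst tR yR) U).paste_vert
      (IsPullback.of_hasPullback tR yR)) ‹IsAffineHom (U.ι ≫ tR)›
  let W₁ : W.Opens := pr₁₃ ⁻¹ᵁ B₀
  have hW₁ : h ⁻¹ᵁ A₀ = W₁ := by
    show h ⁻¹ᵁ pullback.fst tR xR ⁻¹ᵁ U = pr₁₃ ⁻¹ᵁ pullback.fst tR yR ⁻¹ᵁ U
    rw [← Scheme.Hom.comp_preimage, ← Scheme.Hom.comp_preimage, h₁]
  let p' : (W₁ : Scheme.{u}) ⟶ B₀ := pr₁₃.resLE B₀ W₁ le_rfl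
  let h' : (W₁ : Scheme.{u}) ⟶ A₀ := h.resLE A₀ W₁ hW₁.ge
  have sqp : IsPullback W₁.ι p' pr₁₃ B₀.ι :=
    (IsOpenImmersion.isPullback p' W₁.ι B₀.ι pr₁₃ (Scheme.Hom.resLE_comp_ι _ _).symm
      (by rw [Scheme.Opens.opensRange_ι, Scheme.Opens.opensRange_ι])).flip
  have sqh : IsPullback h' W₁.ι A₀.ι h :=
    IsOpenImmersion.isPullback h' W₁.ι A₀.ι h (Scheme.Hom.resLE_comp_ι _ _).symm
      (by rw [Scheme.Opens.opensRange_ι, Scheme.Opens.opensRange_ι, hW₁])
  have H' : IsPullback h' (W₁.ι ≫ a') (A₀.ι ≫ pullback.snd tR xR) (pullback.fst xR yR) := sqh.paste_vert H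
  haveI : QuasiCompact p' := RpushLib.quasiCompact_of_sq sqp
  haveI : QuasiSeparated p' := RpushLib.quasiSeparated_of_sq sqp
  haveI : Coh.IsQCoh ((Scheme.Modules.pullback A₀.ι).obj F) := KFlatLib.isQCoh_pullback A₀.ι F
  have hz := AffVanBCLib.isZero_of_affine H' d p' (B₀.ι ≫ pullback.snd tR yR)
    (by
      have e : pr₁₃ ≫ pullback.snd tR yR = a' ≫ d := h₂
      rw [Category.assoc, ← e, ← Category.assoc, ← Category.assoc, sqp.w])
    ((Scheme.Modules.pullback A₀.ι).obj F) K q (fun G hG => hKac G hG q hq)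
  haveI := KFlatLib.isIso_pullθ W₁.ι hF' hK'
  let eF : (Scheme.Modules.pullback W₁.ι).obj hF' ≅
      (Scheme.Modules.pullback h').obj ((Scheme.Modules.pullback A₀.ι).obj F) :=
    (Scheme.Modules.pullbackComp W₁.ι h).app F ≪≫ (Scheme.Modules.pullbackCongr sqh.w.symm).app F ≪≫
      ((Scheme.Modules.pullbackComp h' A₀.ι).app F).symm
  let eK : (Scheme.Modules.pullback W₁.ι).obj hK' ≅ (Scheme.Modules.pullback (W₁.ι ≫ a')).obj K :=
    (Scheme.Modules.pullbackComp W₁.ι a').app K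
  let eM : (Scheme.Modules.pullback W₁.ι).obj M ≅
      CohB1.tensorMod ((Scheme.Modules.pullback h').obj ((Scheme.Modules.pullback A₀.ι).obj F))
        ((Scheme.Modules.pullback (W₁.ι ≫ a')).obj K) :=
    @asIso _ _ _ _ (KFlatLib.pullθ W₁.ι hF' hK') (KFlatLib.isIso_pullθ _ _ _) ≪≫ ((DCoh.tensorBi (X := (W₁ : Scheme.{u}))).mapIso eF).app _ ≪≫
      ((DCoh.tensorBi (X := (W₁ : Scheme.{u}))).obj _).mapIso eK
  obtain ⟨e⟩ := RpushLib.nonempty_pullback_rpush_iso sqp M q
  have hz' : IsZero ((Scheme.Modules.pullback B₀.ι).obj ((Coh.Rpush pr₁₃ q).obj M)) :=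
    (hz.of_iso ((Coh.Rpush p' q).mapIso eM)).of_iso e
  have hz'' : IsZero ((Scheme.Modules.toPresheaf _ ⋙ TopCat.Presheaf.stalkFunctor Ab.{u}
      ((⟨y, hyU⟩ : B₀) : (B₀ : Scheme.{u}).toTopCat)).obj
        ((Scheme.Modules.restrictFunctor B₀.ι).obj ((Coh.Rpush pr₁₃ q).obj M))) :=
    Functor.map_isZero _ (hz'.of_iso ((Scheme.Modules.restrictFunctorIsoPullback B₀.ι).app _))
  exact AddCommGrpCat.subsingleton_of_isZero
    (hz''.of_iso ((Scheme.Modules.restrictStalkNatIso B₀.ι ⟨y, hyU⟩).app _).symm)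

end Groth.Agent.S6736
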