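import Groth.Statements.S6739
import Groth.Agent.KerBddLib.Key
import Groth.Agent.QRlimLib.Unbounded
import Groth.Agent.PerfLib.Derived

set_option autoImplicit false
set_option backward.isDefEq.respectTransparency false
set_option backward.isDefEq.respectTransparency.types false
set_option maxHeartbeats 1000000
universe u
open CategoryTheory CategoryTheory.Limits AlgebraicGeometry
attribute [local instance] HasDerivedCategory.standard
open DEquiv

namespace Groth.Agent.S6739

attribute [local instance] HasDerivedCategory.standard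

/-- Let k be a field and X, Y schemes of finite type over k. Let K_0 ⟶ K_1 ⟶ K_2 ⟶ ⋯ be a system of
perfect objects of D(O_{X ×_k Y}) and m ≥ 0 an integer such that (1) H^q(K_n) = 0 for q > m and all
n, and (2) for every coherent O_X-module F whose support is a finite set of closed points, each
object R pr_{2,*}(pr_1^* F ⊗^L K_n) has zero cohomology sheaves except possibly in degrees lying in
[-m, m] ∪ [-m-n, m-n], and whenever n > 2m, the maps induced by the system are isomorphisms on the
i-th cohomology sheaves of these objects for all i with -m ≤ i ≤ m. Then the cohomology sheaves of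
each K_n are zero in every degree not in [-m, m] ∪ [-m-n, m-n], and once n > 2m, each map K_n ⟶
K_{n+1} of the system induces an isomorphism on the i-th cohomology sheaf for all i with -m ≤ i ≤ m.
(The derived functors - ⊗^L pr_1^* F and R pr_{2,*} are assumed to exist, as instance binders; pr_1
is flat, so pr_1^* F is the derived pullback. A further splitting of K_n when X and Y are smooth is
not part of this statement.) -/
theorem result
    (k : Type u) [Field k] (X Y : Scheme.{u}) [X.Over (Spec (.of k))] [Y.Over (Spec (.of k))]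
    [LocallyOfFiniteType (X ↘ Spec (.of k))] [CompactSpace X] [LocallyOfFiniteType (Y ↘ Spec (.of k))] [CompactSpace Y]
    [∀ F : X.Modules, DCoh.HasLTensorMod ((Scheme.Modules.pullback (pullback.fst (X ↘ Spec (.of k)) (Y ↘ Spec (.of k)))).obj F)]
    [DCoh.HasRpush (pullback.snd (X ↘ Spec (.of k)) (Y ↘ Spec (.of k)))]
    (K : ℕ → DCoh.D (pullback (X ↘ Spec (.of k)) (Y ↘ Spec (.of k)))) (t : ∀ n : ℕ, K n ⟶ K (n + 1)) (hK : ∀ n, DCoh.IsPerfect (K n))
    (m : ℕ) (h1 : ∀ (n : ℕ) (q : ℤ), (m : ℤ) < q → IsZero (DCoh.HD (K n) q))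
    (h2 : ∀ (F : X.Modules), Coh.IsCoh F → (CohB1.support F).Finite →
      (∀ x ∈ CohB1.support F, IsClosed ({x} : Set X)) →
      (∀ (n : ℕ) (i : ℤ), ¬ (-(m : ℤ) ≤ i ∧ i ≤ m) → ¬ (-(m : ℤ) - n ≤ i ∧ i ≤ (m : ℤ) - n) →
          IsZero (DCoh.HD ((DCoh.Rpush (pullback.snd (X ↘ Spec (.of k)) (Y ↘ Spec (.of k)))).obj ((DCoh.LTensorMod ((Scheme.Modules.pullback (pullback.fst (X ↘ Spec (.of k)) (Y ↘ Spec (.of k)))).obj F)).obj (K n))) i)) ∧
      (∀ (n : ℕ) (i : ℤ), 2 * m < n → -(m : ℤ) ≤ i → i ≤ m →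
          IsIso ((DerivedCategory.homologyFunctor _ i).map ((DCoh.Rpush (pullback.snd (X ↘ Spec (.of k)) (Y ↘ Spec (.of k)))).map ((DCoh.LTensorMod ((Scheme.Modules.pullback (pullback.fst (X ↘ Spec (.of k)) (Y ↘ Spec (.of k)))).obj F)).map (t n)))))) :
    (∀ (n : ℕ) (i : ℤ), ¬ (-(m : ℤ) ≤ i ∧ i ≤ m) → ¬ (-(m : ℤ) - n ≤ i ∧ i ≤ (m : ℤ) - n) →
        IsZero (DCoh.HD (K n) i)) ∧
    ∀ (n : ℕ) (i : ℤ), 2 * m < n → -(m : ℤ) ≤ i → i ≤ m →
        IsIso ((DerivedCategory.homologyFunctor _ i).map (t n)) := by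
  let f := X ↘ Spec (.of k)
  let g := Y ↘ Spec (.of k)
  refine ⟨fun n i hi hi' => KerBddLib.isZero_HD_of_transforms k f g (K n) (hK n) i
    fun F hF hf hc => (h2 F hF hf hc).1 n i hi hi', ?_⟩
  intro n i hn hi hi'
  obtain ⟨C, u, v, hT⟩ := Pretriangulated.distinguished_cocone_triangle (t n)
  have hC : DCoh.IsPerfect C := Groth.Agent.PerfLib.isPerfect_obj₃ _ hT (hK n) (hK (n + 1))
  obtain ⟨_, _⟩ := QRlimLib.exists_isTriangulated_rpush (pullback.snd f g)
  have key : ∀ j : ℤ, -(m : ℤ) - 1 ≤ j → j ≤ m → IsZero (DCoh.HD C j) := by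
    intro j hj hj'
    refine KerBddLib.isZero_HD_of_transforms k f g C hC j fun F hF hf hc => ?_
    obtain ⟨h2z, h2i⟩ := h2 F hF hf hc
    obtain ⟨T', hT', e₁, e₂, sq, ⟨e₃⟩⟩ := KerBddLib.exists_lTensor_triangle
      ((Scheme.Modules.pullback (pullback.fst f g)).obj F) (t n) u v hT
    let R := DCoh.Rpush (pullback.snd f g)
    have hS := R.map_distinguished T' hT'
    let a : ∀ l : ℤ, (DerivedCategory.homologyFunctor _ l).obj (R.obj T'.obj₁) ≅ _ :=
      fun l => (DerivedCategory.homologyFunctor _ l).mapIso (R.mapIso e₁)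
    let b : ∀ l : ℤ, (DerivedCategory.homologyFunctor _ l).obj (R.obj T'.obj₂) ≅ _ :=
      fun l => (DerivedCategory.homologyFunctor _ l).mapIso (R.mapIso e₂)
    have hmor : ∀ l : ℤ, (DerivedCategory.homologyFunctor _ l).map (R.map T'.mor₁) =
        (a l).hom ≫ (DerivedCategory.homologyFunctor _ l).map (R.map
          ((DCoh.LTensorMod ((Scheme.Modules.pullback (pullback.fst f g)).obj F)).map (t n))) ≫
        (b l).inv := fun l => by
      rw [← Category.assoc, Iso.eq_comp_inv]
      simp only [a, b, Functor.mapIso_hom, ← Functor.map_comp, sq]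
    have hiso : ∀ l : ℤ, -(m : ℤ) ≤ l → l ≤ m →
        IsIso ((DerivedCategory.homologyFunctor _ l).map (R.map T'.mor₁)) := fun l hl hl' => by
      haveI := h2i n l hn hl hl'
      rw [hmor l]
      infer_instance
    refine (KerBddLib.isZero_HD₃_of_epi_mono hS j ?_ ?_).of_iso
      ((DerivedCategory.homologyFunctor _ j).mapIso (R.mapIso e₃).symm)
    · change Epi ((DerivedCategory.homologyFunctor _ j).map (R.map T'.mor₁))
      by_cases hjm : -(m : ℤ) ≤ j
      · haveI := hiso j hjm hj'
        infer_instance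
      · exact ⟨fun _ _ _ => ((h2z (n + 1) j (by omega) (by omega)).of_iso (b j)).eq_of_src _ _⟩
    · change Mono ((DerivedCategory.homologyFunctor _ (j + 1)).map (R.map T'.mor₁))
      by_cases hjm : j + 1 ≤ (m : ℤ)
      · haveI := hiso (j + 1) (by omega) hjm
        infer_instance
      · exact ⟨fun _ _ _ => ((h2z n (j + 1) (by omega) (by omega)).of_iso (a (j + 1))).eq_of_tgt _ _⟩
  exact KerBddLib.isIso_HD₁_of_isZero hT i (key (i - 1) (by omega) (by omega)) (key i (by omega) hi')

end Groth.Agent.S6739
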