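import Groth.Statements.S6741
import Groth.Agent.KerBddLib.Point
import Groth.Agent.FMKLib.DualPhi
import Groth.Agent.KiehlLib.SuppPC
import Groth.Agent.Dual3Lib.Detect

set_option autoImplicit false
set_option backward.isDefEq.respectTransparency false
set_option backward.isDefEq.respectTransparency.types false
set_option maxHeartbeats 1000000
universe u
open CategoryTheory AlgebraicGeometry
attribute [local instance] HasDerivedCategory.standard
open DEquiv

namespace Groth.Agent.S6741

attribute [local instance] HasDerivedCategory.standard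

/-- Let X be a scheme of finite type over a field k which is regular, x ∈ X a closed point, O_x the
skyscraper sheaf at x with value κ(x), and K a perfect object of D(O_X), given by a complex E of
O_X-modules; the derived functors - ⊗^L E and its right adjoint RHom(E, -) are assumed to exist
(instance binders), and K^∨ = RHom(E, O_X). If Hom(K, O_x⟦i⟧) = 0 then H^i(K^∨) vanishes on an open
neighbourhood of x (no point of it lies in the support). -/
theorem result
    (k : Type u) [Field k] (X : Scheme.{u}) [X.Over (Spec (.of k))]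
    [LocallyOfFiniteType (X ↘ Spec (.of k))] [CompactSpace X]
    (hreg : Models.IsRegularScheme X) (x : X) (hx : IsClosed ({x} : Set X))
    (E : CochainComplex X.Modules ℤ) (hK : DCoh.IsPerfect (DCoh.toD X E))
    [DCoh.HasLTensorCx E] [DCoh.HasRSheafHom E] (i : ℤ)
    (h : ∀ φ : DCoh.toD X E ⟶ (shiftFunctor (DCoh.D X) i).obj (DCoh.inD X ((Coh.push (X.fromSpecResidueField x)).obj (Coh.structureModule _))), φ = 0) :
    ∃ U : X.Opens, x ∈ U ∧ ∀ y : X, y ∈ U →
      y ∉ CohB1.support (DCoh.HD ((DCoh.RSheafHom E).obj (DCoh.inD X (Coh.structureModule X))) i) := by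
  haveI : IsLocallyNoetherian X := LocallyOfFiniteType.isLocallyNoetherian (X ↘ Spec (.of k))
  haveI : IsNoetherian X := {}
  obtain ⟨D, _, hD, eD, hDM⟩ := Groth.Agent.FMKLib.exists_dual_model E hK
  haveI := KFlatLib.hasLTensorMod (Groth.Agent.Dual3Lib.ptSheaf x)
  let eO : DerivedCategory.Q.obj (Groth.Agent.PerfDualLib.unitCx X) ≅ DCoh.inD X (Coh.structureModule X) :=
    ((DerivedCategory.singleFunctorIsoCompQ X.Modules 0).app _).symm
  let eK := eD ≪≫ (DCoh.RSheafHom E).mapIso eO
  have hKp : DCoh.IsPerfect ((DCoh.RSheafHom E).obj (DCoh.inD X (Coh.structureModule X))) :=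
    Groth.Agent.PerfLib.isPerfect_of_iso ((DCoh.RSheafHom E).mapIso eO)
      (Groth.Agent.PerfDualLib.isPerfect_dual E hK)
  obtain ⟨c₁⟩ := KiehlLib.nonempty_lTensorCx_inD D hD (Groth.Agent.Dual3Lib.ptSheaf x)
  obtain ⟨c₂⟩ := hDM (DCoh.inD X (Groth.Agent.Dual3Lib.ptSheaf x))
  obtain ⟨c₃⟩ := Groth.Agent.FMKLib.nonempty_rSheafHom_shift E hK (DCoh.inD X (Groth.Agent.Dual3Lib.ptSheaf x)) i
  obtain ⟨eE⟩ := Groth.Agent.Dual3Lib.nonempty_lTensorCx_unit E
  refine KerBddLib.exists_nhd_of_hom_unit hx _ hKp i fun φ => ?_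
  let c : ((DCoh.LTensorMod (Groth.Agent.Dual3Lib.ptSheaf x)).obj
      ((DCoh.RSheafHom E).obj (DCoh.inD X (Coh.structureModule X))))⟦i⟧ ≅
      (DCoh.RSheafHom E).obj ((DCoh.inD X (Groth.Agent.Dual3Lib.ptSheaf x))⟦i⟧) :=
    (shiftFunctor _ i).mapIso ((DCoh.LTensorMod _).mapIso eK.symm ≪≫ c₁.symm ≪≫ c₂) ≪≫ c₃.symm
  let ψ := ((DCoh.RSheafHomAdj E).homEquiv _ _).symm (φ ≫ c.hom)
  have h0 : ψ = 0 := by
    have hz := h (eE.inv ≫ (DCoh.LTensorCx E).map eO.hom ≫ ψ)
    exact Limits.zero_of_epi_comp ((DCoh.LTensorCx E).map eO.hom) (Limits.zero_of_epi_comp eE.inv hz)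
  refine Limits.zero_of_comp_mono c.hom ?_
  rw [← ((DCoh.RSheafHomAdj E).homEquiv _ _).apply_symm_apply (φ ≫ c.hom)]
  change ((DCoh.RSheafHomAdj E).homEquiv _ _) ψ = 0
  rw [h0, Adjunction.homEquiv_unit, Functor.map_zero, Limits.comp_zero]

end Groth.Agent.S6741
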