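import Groth.Statements.S6743
import Groth.Agent.Dual3Lib.PerfTest
import Groth.Agent.S6742
import Groth.Agent.ProjBunLib.Props

set_option autoImplicit false
set_option backward.isDefEq.respectTransparency false
set_option backward.isDefEq.respectTransparency.types false
universe u
open CategoryTheory AlgebraicGeometry
attribute [local instance] HasDerivedCategory.standard
open DEquiv

namespace Groth.Agent.S6743

/-- Let X be a scheme over a field k whose structure morphism is H-projective (X is a closed subscheme
of some P^n_k; over a field this is the same as projective) and let K be an object of D(O_X) with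
quasi-coherent cohomology sheaves. Then K is bounded with coherent cohomology sheaves if and only if
for every perfect object E of D(O_X) the k-vector spaces Ext^i_X(E, K) = Hom(E, K⟦i⟧) are
finite-dimensional for all i ∈ ℤ and nonzero for only finitely many i. -/
theorem result
    (k : Type u) [Field k] (X : Scheme.{u}) [X.Over (Spec (.of k))]
    (hproj : RelProj.IsHProjective (X ↘ Spec (.of k)))
    (K : DCoh.D X) (hK : DCoh.IsQCohD K) :
    SGA6.cohbP X K ↔
      ∀ E : DCoh.D X, DCoh.IsPerfect E →
        (∀ i : ℤ, Module.Finite k (E ⟶ (shiftFunctor (DCoh.D X) i).obj K)) ∧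
        Set.Finite {i : ℤ | Nontrivial (E ⟶ (shiftFunctor (DCoh.D X) i).obj K)} := by
  haveI : IsProper (X ↘ Spec (.of k)) :=
    ProjBunLib.isProper_of_isHProjective hproj
  haveI : IsLocallyNoetherian X := LocallyOfFiniteType.isLocallyNoetherian (X ↘ Spec (.of k))
  haveI : CompactSpace ↥X := QuasiCompact.compactSpace_of_compactSpace (X ↘ Spec (.of k))
  haveI : IsNoetherian X := {}
  refine ⟨fun h E hE => Groth.Agent.S6742.result k X K h E hE, fun h => ?_⟩
  refine ⟨Groth.Agent.Dual3Lib.PerfTest.isCohD_of_finite_hom_perfect hK fun E hE => (h E hE).1, ?_⟩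
  have hfin := (h _ (Groth.Agent.KoszOrthLib.isPerfect_genQ (X := X))).2
  have key : ∀ lf : Filter ℤ, Groth.Agent.KoszOrthLib.GoodDir.{u} lf → lf ≤ Filter.cofinite →
      Groth.Agent.KoszOrthLib.EvZero lf K := fun lf hlf hle => by
    refine (Groth.Agent.KoszOrthLib.evZero_iff_of_generator hlf
      Groth.Agent.KoszOrthLib.isPerfect_genQ (fun E hE hz =>
        Groth.Agent.KoszOrthLib.generates_genQ E hE (fun _ => Set.subset_univ _) hz) hK).2 ?_
    refine Filter.Eventually.mono (hle hfin.compl_mem_cofinite) fun i hi => ?_
    refine (Groth.Agent.KoszOrthLib.forall_shift_iff _ K (-i) i (by omega)).2 fun φ => ?_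
    haveI := not_nontrivial_iff_subsingleton.1 hi
    exact Subsingleton.elim _ _
  obtain ⟨a, ha⟩ := (Groth.Agent.KoszOrthLib.exists_isGE_iff K).2
    (key _ Groth.Agent.KoszOrthLib.goodDir_atBot Filter.atBot_le_cofinite)
  obtain ⟨b, hb⟩ := (Groth.Agent.KoszOrthLib.exists_isLE_iff K).2
    (key _ Groth.Agent.KoszOrthLib.goodDir_atTop Filter.atTop_le_cofinite)
  exact ⟨a, b, ha, hb⟩

end Groth.Agent.S6743
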