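import Groth.Statements.S6748
import Groth.Agent.BrownFinLib.Corep
import Groth.Agent.S6746
import Groth.Agent.S6742

set_option autoImplicit false
set_option backward.isDefEq.respectTransparency false
set_option backward.isDefEq.respectTransparency.types false
universe u
open CategoryTheory AlgebraicGeometry
attribute [local instance] HasDerivedCategory.standard
open DEquiv

namespace Groth.Agent.S6748

/-- Let X and Y be schemes proper over a field k with X regular (all local rings regular), and let F :
D_perf(O_X) ⥤ D_perf(O_Y) be a k-linear exact functor between the full subcategories of perfect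
objects of D(O_X) and D(O_Y) (the instance hypotheses record that these are triangulated
subcategories). Then F has a right adjoint and a left adjoint. (Both adjoints are then exact
functors of triangulated categories; that general fact is not restated.) -/
theorem result
    (k : Type u) [Field k] (X Y : Scheme.{u}) [X.Over (Spec (.of k))] [Y.Over (Spec (.of k))]
    [IsProper (X ↘ Spec (.of k))] [IsProper (Y ↘ Spec (.of k))] (hreg : Models.IsRegularScheme X)
    [(SGA6.perfP X).IsTriangulated] [(SGA6.perfP Y).IsTriangulated]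
    (F : (SGA6.perfP X).FullSubcategory ⥤ (SGA6.perfP Y).FullSubcategory) [F.Additive] [F.Linear k]
    [F.CommShift ℤ] [F.IsTriangulated] :
    F.IsLeftAdjoint ∧ F.IsRightAdjoint := by
  haveI : IsLocallyNoetherian Y := LocallyOfFiniteType.isLocallyNoetherian (Y ↘ Spec (.of k))
  haveI : CompactSpace ↥Y := QuasiCompact.compactSpace_of_compactSpace (Y ↘ Spec (.of k))
  haveI : IsNoetherian Y := {}
  have hY : ∀ (E B : (SGA6.perfP Y).FullSubcategory),
      (∀ i : ℤ, Module.Finite k (E.obj ⟶ (shiftFunctor (DCoh.D Y) i).obj B.obj)) ∧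
        Set.Finite {i : ℤ | Nontrivial (E.obj ⟶ (shiftFunctor (DCoh.D Y) i).obj B.obj)} := fun E B =>
    Groth.Agent.S6742.result k Y B.obj (Groth.Agent.PerfLib.isCohD_and_bounded_of_isPerfect B.property)
      E.obj E.property
  refine ⟨F.isLeftAdjoint_of_rightAdjointObjIsDefined_eq_top ?_,
    F.isRightAdjoint_of_leftAdjointObjIsDefined_eq_top ?_⟩
  · ext B
    simp only [Pi.top_apply, Prop.top_eq_true, iff_true]
    rw [Functor.rightAdjointObjIsDefined_iff]
    let H : ((SGA6.perfP X).FullSubcategory)ᵒᵖ ⥤ ModuleCat.{u + 1} k :=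
      F.op ⋙ (linearYoneda k (SGA6.perfP Y).FullSubcategory).obj B
    haveI : H.Additive := inferInstanceAs (F.op ⋙ (linearYoneda k (SGA6.perfP Y).FullSubcategory).obj B).Additive
    obtain ⟨K, hK, ⟨e⟩⟩ := Groth.Agent.S6746.result k X hreg H
      (fun A A' r f => by
        refine ModuleCat.hom_ext (LinearMap.ext fun g => ?_)
        change F.map (r • f) ≫ g = r • (F.map f ≫ g)
        rw [Functor.map_smul, Linear.smul_comp])
      (fun T hT h₁ h₂ h₃ y hy => by
        let A₁ : (SGA6.perfP X).FullSubcategory := ⟨T.obj₁, h₁⟩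
        let A₂ : (SGA6.perfP X).FullSubcategory := ⟨T.obj₂, h₂⟩
        let A₃ : (SGA6.perfP X).FullSubcategory := ⟨T.obj₃, h₃⟩
        let T' : Pretriangulated.Triangle (SGA6.perfP X).FullSubcategory :=
          Pretriangulated.Triangle.mk (ObjectProperty.homMk T.mor₁ : A₁ ⟶ A₂)
            (ObjectProperty.homMk T.mor₂ : A₂ ⟶ A₃)
            (ObjectProperty.homMk (T.mor₃ ≫ ((SGA6.perfP X).ι.commShiftIso (1 : ℤ)).inv.app A₁))
        have hT' : T' ∈ Pretriangulated.distinguishedTriangles := by
          refine Pretriangulated.isomorphic_distinguished _ hT _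
            (Pretriangulated.Triangle.isoMk _ _ (Iso.refl _) (Iso.refl _) (Iso.refl _) ?_ ?_ ?_)
          · exact (Category.comp_id _).trans (Category.id_comp _).symm
          · exact (Category.comp_id _).trans (Category.id_comp _).symm
          · refine (congrArg (_ ≫ ·) ((shiftFunctor (DCoh.D X) (1 : ℤ)).map_id _)).trans ?_
            refine (Category.comp_id _).trans (Eq.trans ?_ (Category.id_comp _).symm)
            change (T.mor₃ ≫ ((SGA6.perfP X).ι.commShiftIso (1 : ℤ)).inv.app A₁) ≫
              ((SGA6.perfP X).ι.commShiftIso (1 : ℤ)).hom.app A₁ = T.mor₃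
            exact (Category.assoc _ _ _).trans ((congrArg (T.mor₃ ≫ ·)
              (Iso.inv_hom_id_app ((SGA6.perfP X).ι.commShiftIso (1 : ℤ)) A₁)).trans (Category.comp_id _))
        obtain ⟨z, hz⟩ := Pretriangulated.Triangle.yoneda_exact₂ _ (F.map_distinguished T' hT') y hy
        exact ⟨z, hz.symm⟩)
      (fun E => by
        let θ : ∀ n : ℤ, ((F.obj E).obj ⟶ (shiftFunctor (DCoh.D Y) (-n)).obj B.obj) ≃ₗ[k]
            H.obj (Opposite.op ((shiftFunctor (SGA6.perfP X).FullSubcategory n).obj E)) := fun n =>
          ((BrownFinLib.DQ.homShiftLinear (F.obj E).obj B.obj (-n)).trans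
            (Linear.homCongr k (eqToIso (by rw [neg_neg]) : (shiftFunctor (DCoh.D Y) (- -n)).obj (F.obj E).obj ≅ (shiftFunctor (DCoh.D Y) n).obj (F.obj E).obj) (Iso.refl _))).trans
            (LinearEquiv.ofBijective
              ({ toFun := fun g => (ObjectProperty.homMk
                    (((SGA6.perfP Y).ι.mapIso ((F.commShiftIso n).app E)).hom ≫
                      ((SGA6.perfP Y).ι.commShiftIso n).hom.app (F.obj E) ≫ g) :
                    F.obj ((shiftFunctor (SGA6.perfP X).FullSubcategory n).obj E) ⟶ B)
                 map_add' := fun g g' => by simp only [Preadditive.comp_add]; rfl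
                 map_smul' := fun r g => by simp only [Linear.comp_smul, RingHom.id_apply]; rfl } :
                  ((shiftFunctor (DCoh.D Y) n).obj (F.obj E).obj ⟶ B.obj) →ₗ[k]
                    (F.obj ((shiftFunctor (SGA6.perfP X).FullSubcategory n).obj E) ⟶ B))
              ⟨fun g g' h => (cancel_epi _).1 ((cancel_epi _).1 (congrArg InducedCategory.Hom.hom h)),
                fun φ => ⟨((SGA6.perfP Y).ι.commShiftIso n).inv.app (F.obj E) ≫
                  ((SGA6.perfP Y).ι.mapIso ((F.commShiftIso n).app E)).inv ≫ φ.hom, ObjectProperty.hom_ext _ (by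
                    change ((SGA6.perfP Y).ι.mapIso ((F.commShiftIso n).app E)).hom ≫
                      ((SGA6.perfP Y).ι.commShiftIso n).hom.app (F.obj E) ≫ _ = φ.hom
                    rw [Iso.hom_inv_id_app_assoc, Iso.hom_inv_id_assoc])⟩⟩)
        refine ⟨fun n => ?_, ?_⟩
        · haveI := (hY (F.obj E) B).1 (-n)
          exact Module.Finite.equiv (θ n)
        · refine ((hY (F.obj E) B).2.preimage (f := fun i : ℤ => -i) neg_injective.injOn).subset fun n hn => ?_
          haveI : Nontrivial (H.obj (Opposite.op ((shiftFunctor (SGA6.perfP X).FullSubcategory n).obj E))) := hn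
          exact (θ n).toEquiv.nontrivial)
    let K' : (SGA6.perfP X).FullSubcategory := ⟨K, hK⟩
    refine Functor.IsRepresentable.mk' (X := K') ?_
    exact NatIso.ofComponents (fun A =>
      (Equiv.trans ⟨fun g => g.hom, fun g => ObjectProperty.homMk g, fun g => rfl, fun g => rfl⟩
        (e.app A).toLinearEquiv.symm.toEquiv).toIso) fun {A A'} f => by
      ext g
      exact ConcreteCategory.congr_hom (e.inv.naturality f) g.hom
  · ext B
    simp only [Pi.top_apply, Prop.top_eq_true, iff_true]
    rw [Functor.leftAdjointObjIsDefined_iff]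
    let G : (SGA6.perfP X).FullSubcategory ⥤ ModuleCat.{u + 1} k :=
      F ⋙ (linearCoyoneda k (SGA6.perfP Y).FullSubcategory).obj (Opposite.op B)
    haveI : G.Linear k := by
      constructor
      intro A A' f r
      refine ModuleCat.hom_ext (LinearMap.ext fun g => ?_)
      change g ≫ F.map (r • f) = r • (g ≫ F.map f)
      rw [Functor.map_smul, Linear.comp_smul]
    haveI : G.Additive := inferInstanceAs (F ⋙ (linearCoyoneda k (SGA6.perfP Y).FullSubcategory).obj (Opposite.op B)).Additive
    haveI : G.IsHomological := Functor.IsHomological.mk' _ fun T hT => ⟨T, Iso.refl _, by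
      rw [ShortComplex.moduleCat_exact_iff]
      intro y hy
      obtain ⟨z, hz⟩ := Pretriangulated.Triangle.coyoneda_exact₂ _ (F.map_distinguished T hT) y hy
      exact ⟨z, hz.symm⟩⟩
    obtain ⟨K, ⟨e⟩⟩ := BrownFinLib.Dual.exists_corep k hreg G (fun E => by
      let θ : ∀ n : ℤ, (B.obj ⟶ (shiftFunctor (DCoh.D Y) n).obj (F.obj E).obj) ≃ₗ[k]
          G.obj ((shiftFunctor (SGA6.perfP X).FullSubcategory n).obj E) := fun n =>
        (Linear.homCongr k (Iso.refl B.obj)
          (((SGA6.perfP Y).ι.mapIso ((F.commShiftIso n).app E)) ≪≫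
            ((SGA6.perfP Y).ι.commShiftIso n).app (F.obj E)).symm).trans
          (LinearEquiv.ofBijective
            ({ toFun := fun g => (ObjectProperty.homMk g :
                  B ⟶ F.obj ((shiftFunctor (SGA6.perfP X).FullSubcategory n).obj E))
               map_add' := fun _ _ => rfl
               map_smul' := fun _ _ => rfl } :
              (B.obj ⟶ (F.obj ((shiftFunctor (SGA6.perfP X).FullSubcategory n).obj E)).obj) →ₗ[k]
                (B ⟶ F.obj ((shiftFunctor (SGA6.perfP X).FullSubcategory n).obj E)))
            ⟨fun g g' h => congrArg InducedCategory.Hom.hom h, fun φ => ⟨φ.hom, rfl⟩⟩)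
      refine ⟨fun n => ?_, ?_⟩
      · haveI := (hY B (F.obj E)).1 n
        exact Module.Finite.equiv (θ n)
      · refine (hY B (F.obj E)).2.subset fun n hn => ?_
        haveI : Nontrivial (G.obj ((shiftFunctor (SGA6.perfP X).FullSubcategory n).obj E)) := hn
        exact (θ n).toEquiv.nontrivial)
    refine Functor.IsCorepresentable.mk' (X := K) ?_
    exact (Functor.isoWhiskerRight e (forget _)).symm

end Groth.Agent.S6748
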