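import Groth.Statements.S6751
import Groth.Agent.BrownFinLib.PointSpan
import Groth.Agent.S6748
import Groth.Agent.Dual3Lib.PointTest

set_option autoImplicit false
set_option backward.isDefEq.respectTransparency false
set_option backward.isDefEq.respectTransparency.types false
universe u
open CategoryTheory AlgebraicGeometry
attribute [local instance] HasDerivedCategory.standard
open DEquiv

namespace Groth.Agent.S6751

/-- Let X and Y be schemes proper over a field k with X regular (all local rings regular), and let F, G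
: D_perf(O_X) ⥤ D_perf(O_Y) be k-linear exact functors between the full subcategories of perfect
objects (the instance hypotheses record that these are triangulated subcategories). Assume that F(M)
≅ G(M) for every coherent O_X-module M whose support has dimension 0 (a nonempty finite set of
closed points; M viewed in degree 0, a perfect object since X is regular, the statement quantifying
over a proof of this), and suppose moreover that the functor F is both full and faithful. Under
these conditions, for each perfect object M on X the object G(M) is isomorphic to F applied to some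
perfect object, i.e. everything G hits lies in F's essential image. -/
theorem result
    (k : Type u) [Field k] (X Y : Scheme.{u}) [X.Over (Spec (.of k))] [Y.Over (Spec (.of k))]
    [IsProper (X ↘ Spec (.of k))] [IsProper (Y ↘ Spec (.of k))] (hreg : Models.IsRegularScheme X)
    [(SGA6.perfP X).IsTriangulated] [(SGA6.perfP Y).IsTriangulated]
    (F : (SGA6.perfP X).FullSubcategory ⥤ (SGA6.perfP Y).FullSubcategory) [F.Additive] [F.Linear k]
    [F.CommShift ℤ] [F.IsTriangulated]
    (G : (SGA6.perfP X).FullSubcategory ⥤ (SGA6.perfP Y).FullSubcategory) [G.Additive] [G.Linear k]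
    [G.CommShift ℤ] [G.IsTriangulated]
    (h1 : ∀ (M : X.Modules), Coh.IsCoh M → (CohB1.support M).Finite → (CohB1.support M).Nonempty →
        (∀ x ∈ CohB1.support M, IsClosed ({x} : Set X)) →
        ∀ (hM : DCoh.IsPerfect (DCoh.inD X M)),
          Nonempty (F.obj ⟨DCoh.inD X M, hM⟩ ≅ G.obj ⟨DCoh.inD X M, hM⟩))
    [F.Full] [F.Faithful] (M : (SGA6.perfP X).FullSubcategory) :
    F.essImage (G.obj M) := by
  haveI : IsLocallyNoetherian X := LocallyOfFiniteType.isLocallyNoetherian (X ↘ Spec (.of k))
  obtain ⟨_, -⟩ := Groth.Agent.S6748.result k X Y hreg F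
  obtain ⟨_, -⟩ := Groth.Agent.S6748.result k X Y hreg G
  let adj := Adjunction.ofIsLeftAdjoint F
  let adjG := Adjunction.ofIsLeftAdjoint G
  let R := F.rightAdjoint.obj (G.obj M)
  obtain ⟨C, p, q, hT⟩ := Pretriangulated.distinguished_cocone_triangle (adj.counit.app (G.obj M))
  have hFC : ∀ (A : (SGA6.perfP X).FullSubcategory) (φ : F.obj A ⟶ C), φ = 0 := fun A φ => by
    have hq : φ ≫ q = 0 := by
      obtain ⟨u, hu⟩ := ((F.map_surjective : Function.Surjective (F.map (X := A) (Y := R⟦(1 : ℤ)⟧))))
        (φ ≫ q ≫ (F.commShiftIso (1 : ℤ)).inv.app R)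
      have h0 : (φ ≫ q) ≫ (shiftFunctor _ (1 : ℤ)).map (adj.counit.app (G.obj M)) = 0 := by
        rw [Category.assoc]
        exact (congrArg (φ ≫ ·) (Pretriangulated.comp_distTriang_mor_zero₃₁ _ hT)).trans Limits.comp_zero
      obtain ⟨e⟩ : Nonempty (F.obj (A⟦(-1 : ℤ)⟧) ≅ (F.obj A)⟦(-1 : ℤ)⟧) := ⟨(F.commShiftIso (-1 : ℤ)).app A⟩
      obtain ⟨v, hv⟩ := (shiftFunctor _ (1 : ℤ)).map_surjective
        ((shiftFunctor _ (1 : ℤ)).map e.hom ≫ (shiftNegShift (F.obj A) (1 : ℤ)).hom ≫ φ ≫ q)
      have hv0 : v ≫ adj.counit.app (G.obj M) = 0 := (shiftFunctor _ (1 : ℤ)).map_injective (by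
        rw [Functor.map_comp, hv, Category.assoc, Category.assoc, h0, Limits.comp_zero, Limits.comp_zero,
          Functor.map_zero])
      obtain ⟨w, rfl⟩ := F.map_surjective v
      have hw : (adj.homEquiv _ _).symm w = 0 := by rw [Adjunction.homEquiv_counit]; exact hv0
      have hw0 : w = 0 := (adj.homEquiv _ _).symm.injective (hw.trans (by simp [Adjunction.homEquiv_counit]))
      rw [hw0, F.map_zero, Functor.map_zero] at hv
      have h2 : (shiftNegShift (F.obj A) (1 : ℤ)).hom ≫ φ ≫ q = 0 := Limits.zero_of_epi_comp _ hv.symm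
      exact Limits.zero_of_epi_comp _ h2
    obtain ⟨ψ, hψ⟩ := Pretriangulated.Triangle.coyoneda_exact₃ _ hT φ hq
    obtain ⟨χ, hχ⟩ : ∃ χ, F.map χ ≫ adj.counit.app (G.obj M) = ψ :=
      ⟨adj.homEquiv _ _ ψ, (Adjunction.homEquiv_counit adj _ _ _).symm.trans (Equiv.symm_apply_apply _ _)⟩
    rw [hψ, ← hχ, Category.assoc]
    exact (congrArg (F.map χ ≫ ·) (Pretriangulated.comp_distTriang_mor_zero₁₂ _ hT)).trans Limits.comp_zero
  have hGC : ∀ (x : X) (hc : IsClosed ({x} : Set X)) (i : ℤ)
      (φ : G.obj ((shiftFunctor (SGA6.perfP X).FullSubcategory i).obj ⟨DCoh.inD X ((Coh.push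
        (X.fromSpecResidueField x)).obj (Coh.structureModule _)),
          BrownFinLib.Points.isPerfect_ptSheaf (k := k) hreg hc⟩) ⟶ C), φ = 0 := fun x hc i φ => by
    let M₀ := (Coh.push (X.fromSpecResidueField x)).obj (Coh.structureModule _)
    have hsub : CohB1.support M₀ ⊆ {x} := Groth.Agent.Dual3Lib.support_ptSheaf hc
    by_cases hne : (CohB1.support M₀).Nonempty
    · obtain ⟨e⟩ := h1 M₀ (BrownFinLib.Points.isCoh_ptSheaf (k := k) hc) ((Set.finite_singleton x).subset hsub)
        hne (fun y hy => by rw [Set.mem_singleton_iff.1 (hsub hy)]; exact hc)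
        (BrownFinLib.Points.isPerfect_ptSheaf (k := k) hreg hc)
      let e' := (F.commShiftIso i).app _ ≪≫ (shiftFunctor _ i).mapIso e ≪≫ ((G.commShiftIso i).app _).symm
      exact Limits.zero_of_epi_comp e'.hom (hFC _ (e'.hom ≫ φ))
    · have hM : Limits.IsZero M₀ :=
        (Groth.Agent.DCohRestrLib.isZero_iff_support_empty _).2 (Set.not_nonempty_iff_eq_empty.1 hne)
      have hzD := (DerivedCategory.singleFunctor X.Modules 0).map_isZero hM
      refine Limits.IsZero.eq_of_src (G.map_isZero (Functor.map_isZero _ ?_)) _ _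
      rw [Limits.IsZero.iff_id_eq_zero]
      exact ObjectProperty.hom_ext _ (hzD.eq_of_src _ _)
  have hRC : ∀ i : ℤ, ∀ (x : X) (hc : IsClosed ({x} : Set X))
      (f : (⟨DCoh.inD X ((Coh.push (X.fromSpecResidueField x)).obj (Coh.structureModule _)),
          BrownFinLib.Points.isPerfect_ptSheaf (k := k) hreg hc⟩ : (SGA6.perfP X).FullSubcategory) ⟶
        (shiftFunctor (SGA6.perfP X).FullSubcategory i).obj (G.rightAdjoint.obj C)), f = 0 := fun i x hc f => by
    let Pt : (SGA6.perfP X).FullSubcategory := ⟨DCoh.inD X ((Coh.push (X.fromSpecResidueField x)).obj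
      (Coh.structureModule _)), BrownFinLib.Points.isPerfect_ptSheaf (k := k) hreg hc⟩
    obtain ⟨g, hg⟩ := (shiftFunctor (SGA6.perfP X).FullSubcategory i).map_surjective
      ((shiftNegShift Pt i).hom ≫ f)
    have hg0 : g = 0 := (adjG.homEquiv _ _).symm.injective
      ((hGC x hc (-i) _).trans (hGC x hc (-i) _).symm)
    rw [hg0, Functor.map_zero] at hg
    exact Limits.zero_of_epi_comp _ hg.symm
  have hzero : Limits.IsZero (G.rightAdjoint.obj C) := by
    have hz := BrownFinLib.Points.isZero_of_orth (k := k) hreg (G.rightAdjoint.obj C).property fun x hc =>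
      Or.inl fun i φ => BrownFinLib.Points.eq_zero_hom (A := ⟨_, BrownFinLib.Points.isPerfect_ptSheaf (k := k) hreg hc⟩)
        i (fun f => hRC i x hc f) φ
    rw [Limits.IsZero.iff_id_eq_zero]
    exact ObjectProperty.hom_ext _ (hz.eq_of_src _ _)
  have hp : p = 0 := (adjG.homEquiv M C).injective (hzero.eq_of_tgt _ _)
  obtain ⟨r, hr⟩ := Pretriangulated.Triangle.yoneda_exact₃ _ hT (𝟙 C) (by
    change p ≫ 𝟙 C = 0
    rw [hp, Limits.zero_comp])
  have hr0 : r = 0 := by
    have h3 := hFC (R⟦(1 : ℤ)⟧) ((F.commShiftIso (1 : ℤ)).hom.app R ≫ r)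
    exact Limits.zero_of_epi_comp _ h3
  have hCz : Limits.IsZero C := by
    rw [Limits.IsZero.iff_id_eq_zero, hr, hr0, Limits.comp_zero]
  haveI : IsIso (adj.counit.app (G.obj M)) := (Pretriangulated.Triangle.isZero₃_iff_isIso₁ _ hT).1 hCz
  exact ⟨R, ⟨asIso (adj.counit.app (G.obj M))⟩⟩

end Groth.Agent.S6751
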