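import Groth.Statements.S6765
import Groth.Agent.Dual3Lib.SerreMain
import Groth.Agent.Dual3Lib.AmplitudeField
import Groth.Agent.UniqDualSchLib.Main
import Groth.Agent.DualCxLib.SchGor
import Groth.Agent.HensSchLib.Flat

set_option autoImplicit false
set_option backward.isDefEq.respectTransparency false
set_option backward.isDefEq.respectTransparency.types false
universe u
open CategoryTheory AlgebraicGeometry
attribute [local instance] HasDerivedCategory.standard
open DEquiv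

namespace Groth.Agent.S6765

/-- Let X be a scheme proper over a field k which is Gorenstein, with structure morphism f : X → Spec k.
Assume (instance binders and hypotheses, all true theorems not available at this pin) that Rf_*
exists on D(O_X) and preserves D_QCoh, that its restriction to D_QCoh has a right adjoint a, and let
ω_X^• = a(O_{Spec k}) be the dualizing complex, computed on a chosen object of D_QCoh(Spec k)
identified with O_{Spec k}⟦0⟧ and represented by a chosen complex W of O_X-modules with - ⊗^L W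
defined. Then the k-linear category D_perf(O_X) of perfect objects (the instance hypothesis records
that it is a triangulated subcategory; Hom spaces are finite-dimensional as X is proper) admits a
Serre functor — a k-linear auto-equivalence S with k-linear isomorphisms Hom(K, L) ≅ Hom(L, S K)^∨
natural in both variables — whose functor S, followed by the inclusion into D(O_X), is isomorphic to
K ↦ K ⊗^L ω_X^•. (The Serre duality isomorphisms themselves are asserted to exist, not identified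
with a named pairing.) -/
theorem result
    (k : Type u) [Field k] (X : Scheme.{u}) [X.Over (Spec (.of k))] [IsProper (X ↘ Spec (.of k))]
    (hG : Dual3.IsGorenstein X)
    [DCoh.HasRpush (X ↘ Spec (.of k))] (hq : DCoh.RpushPreservesQCoh (X ↘ Spec (.of k))) [DCoh.HasShriek (X ↘ Spec (.of k)) hq]
    (OY : DCoh.DQCoh (Spec (.of k)))
    (hOY : OY.obj ≅ DCoh.inD (Spec (.of k)) (Coh.structureModule (Spec (.of k))))
    (W : CochainComplex X.Modules ℤ) (hW : DCoh.toD X W ≅ DCoh.dualizingCx (X ↘ Spec (.of k)) hq OY)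
    [DCoh.HasLTensorCx W] [(SGA6.perfP X).IsTriangulated] :
    ∃ σ : KLin.SerreFunctor k (SGA6.perfP X).FullSubcategory,
      Nonempty (σ.S.functor ⋙ ObjectProperty.ι (SGA6.perfP X) ≅
        ObjectProperty.ι (SGA6.perfP X) ⋙ DCoh.LTensorCx W) := by
  haveI : ∀ (R : CommRingCat.{u}), Limits.PreservesFiniteLimits (tilde.functor R) := fun R =>
    HensSchLib.tilde_preservesFiniteLimits R
  haveI : ∀ (U V : Scheme.{u}) (j : U ⟶ V) [IsOpenImmersion j],
      Limits.PreservesFiniteLimits (Scheme.Modules.restrictFunctor j) := fun U V j _ => inferInstance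
  let f := X ↘ Spec (CommRingCat.of k)
  haveI : IsLocallyNoetherian X := hG.1
  obtain ⟨-, hK⟩ := Dual3Lib.exists_base_point hOY
  have hω := Dual3Lib.isDualizingSch_rightAdjoint f hq (DCoh.shriek f hq) (DCoh.shriekAdj f hq) OY hK
  have hO := DualCxLib.isDualizingSch_structureSheaf hG hω
  have hWp : DCoh.IsPerfect (DerivedCategory.Q.obj W) :=
    PerfLib.isPerfect_of_iso hW.symm
      (Dual3Lib.Serre.isPerfect_of_isInvertibleD (DualCxLib.isInvertibleD_of_gorenstein hG hω))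
  obtain ⟨E, hEh, hE, ⟨eE⟩⟩ := UniqDualSchLib.main _ _ hω hO
  haveI := hEh
  have hEp : DCoh.IsPerfect (DerivedCategory.Q.obj E) := Dual3Lib.Serre.isPerfect_of_isInvertibleD hE
  -- the inverse
  let W₀ := Dual3Lib.Serre.Pr W
  let E₀ := Dual3Lib.Serre.Pr E
  haveI := KFlatLib.hasLTensorCx W₀
  haveI := KFlatLib.hasLTensorCx E₀
  haveI := KFlatLib.hasLTensorCx (((DCoh.tensorCx (X := X)).obj W₀).obj E₀)
  haveI := KFlatLib.hasLTensorCx (((DCoh.tensorCx (X := X)).obj E₀).obj W₀)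
  haveI : QuasiIso (Dual3Lib.Serre.ψr W) := inferInstance
  obtain ⟨a⟩ := PerfDualLib.nonempty_lTensor_congr (Dual3Lib.Serre.ψr W)
  obtain ⟨b⟩ := PerfDualLib.nonempty_lTensor_congr (Dual3Lib.Serre.ψr E)
  obtain ⟨c₁⟩ := TensorAssocLib.nonempty_lTensor_comp W₀ E₀ (Dual3Lib.Serre.kFlat_Pr E)
  obtain ⟨c₂⟩ := TensorAssocLib.nonempty_lTensor_comp E₀ W₀ (Dual3Lib.Serre.kFlat_Pr W)
  let e₁ : DerivedCategory.Q.obj (((DCoh.tensorCx (X := X)).obj W₀).obj E₀) ≅
      DerivedCategory.Q.obj (PerfDualLib.unitCx X) :=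
    ((Dual3Lib.flatCnt' E₀ (Dual3Lib.Serre.kFlat_Pr E)).app W₀).symm ≪≫
      (DCoh.LTensorCx E₀).mapIso (asIso (DerivedCategory.Q.map (Dual3Lib.Serre.ψr W)) ≪≫ hW) ≪≫
      b.app _ ≪≫ eE.symm
  let e₂ : DerivedCategory.Q.obj (((DCoh.tensorCx (X := X)).obj E₀).obj W₀) ≅
      DerivedCategory.Q.obj (PerfDualLib.unitCx X) :=
    DerivedCategory.Q.mapIso (PerfDualLib.bX E₀ W₀) ≪≫ e₁
  obtain ⟨d₁⟩ := Dual3Lib.Serre.nonempty_lTensor_unit _ e₁
  obtain ⟨d₂⟩ := Dual3Lib.Serre.nonempty_lTensor_unit _ e₂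
  let u₁ : DCoh.LTensorCx W ⋙ DCoh.LTensorCx E ≅ 𝟭 _ :=
    Functor.isoWhiskerRight a.symm _ ≪≫ Functor.isoWhiskerLeft _ b.symm ≪≫ c₁ ≪≫ d₁
  let u₂ : DCoh.LTensorCx E ⋙ DCoh.LTensorCx W ≅ 𝟭 _ :=
    Functor.isoWhiskerRight b.symm _ ≪≫ Functor.isoWhiskerLeft _ a.symm ≪≫ c₂ ≪≫ d₂
  -- injective models
  obtain ⟨U, hU, ⟨eU⟩⟩ := DerLib.KInjUse.exists_iso_Q_kInjective (DerivedCategory.Q.obj (PerfDualLib.unitCx X))
  haveI := hU
  obtain ⟨q, hqi, -⟩ := PerfDualLib.exists_quasiIso eU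
  haveI := hqi
  haveI := Dual3Lib.Serre.quasiIso_mm_right (Dual3Lib.Serre.kFlat_Pr W) q
  let eW : DerivedCategory.Q.obj (Dual3Lib.Serre.T2 W₀ U) ≅ ((DCoh.shriek f hq).obj OY).obj :=
    (asIso (DerivedCategory.Q.map (Dual3Lib.Serre.mm (𝟙 W₀) q))).symm ≪≫
      DerivedCategory.Q.mapIso (PerfDualLib.unitNat.app W₀) ≪≫
      asIso (DerivedCategory.Q.map (Dual3Lib.Serre.ψr W)) ≪≫ hW
  obtain ⟨J, hJ, ⟨eJ⟩⟩ := DerLib.KInjUse.exists_iso_Q_kInjective ((DCoh.shriek f hq).obj OY).obj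
  haveI := hJ
  obtain ⟨j, hj, -⟩ := PerfDualLib.exists_quasiIso (eW ≪≫ eJ)
  haveI := hj
  obtain ⟨t, ht⟩ := Dual3Lib.exists_integral hq (DCoh.shriekAdj f hq) OY hOY
  let D : Dual3Lib.Serre.Data k X :=
    { W₀ := W₀, U := U, J := J, hW := Dual3Lib.Serre.kFlat_Pr W, hU := hU, hJ := hJ, q := q, hq := hqi
      j := j
      hj := Dual3Lib.Serre.quasiIso_homEquiv_unit (Dual3Lib.Serre.kFlat_Pr W) q j
      t := t.comp (Linear.rightComp k (DerivedCategory.Q.obj (PerfDualLib.unitCx X)) eJ.inv)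
      ht := fun M hM ψ => by
        obtain ⟨φ, hφ, hu⟩ := ht M hM ψ
        refine ⟨φ ≫ eJ.hom, fun x => ?_, fun φ' hφ' => ?_⟩
        · show t ((x ≫ φ ≫ eJ.hom) ≫ eJ.inv) = ψ x
          rw [Category.assoc, Category.assoc, Iso.hom_inv_id, Category.comp_id]
          exact hφ x
        · rw [← hu (φ' ≫ eJ.inv) (fun x => (congrArg t (Category.assoc x φ' eJ.inv).symm).trans (hφ' x)),
            Category.assoc, Iso.inv_hom_id, Category.comp_id] }
  obtain ⟨θ⟩ := Dual3Lib.Serre.nonempty_thetaW W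
  exact Dual3Lib.Serre.exists_serreFunctor D θ hWp E hEp u₁ u₂

end Groth.Agent.S6765
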