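import Groth.Statements.S6769
import Mathlib
-- import your own Groth.Agent.* helpers here

set_option autoImplicit false
set_option maxHeartbeats 2000000
set_option backward.isDefEq.respectTransparency false
universe u
open CategoryTheory CategoryTheory.Limits TensorProduct
open scoped ModuleCat.Algebra
open FunMor

namespace Groth.Agent.S6769

open CategoryTheory CategoryTheory.Limits TensorProduct in
theorem exists_nat_equiv {A B : Type u} [CommRing A] [CommRing B]
    (F : ModuleCat.{u} A ⥤ ModuleCat.{u} B) [F.Additive] [PreservesFiniteColimits F]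
    [∀ J : Type u, PreservesColimitsOfShape (Discrete J) F]
    [Module A (F.obj (ModuleCat.of A A))] [SMulCommClass A B (F.obj (ModuleCat.of A A))]
    (hact : ∀ (a : A) (x : F.obj (ModuleCat.of A A)), a • x = F.map (a • 𝟙 (ModuleCat.of A A)) x)
    (hadd : ∀ (M : ModuleCat.{u} A) (m m' : M), F.map (ModuleCat.ofHom (LinearMap.toSpanSingleton A M (m + m'))) =
      F.map (ModuleCat.ofHom (LinearMap.toSpanSingleton A M m)) + F.map (ModuleCat.ofHom (LinearMap.toSpanSingleton A M m'))) :
    ∃ η : ∀ M : ModuleCat.{u} A, (↑(F.obj (ModuleCat.of A A)) ⊗[A] M) ≃ₗ[B] F.obj M,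
      (∀ (M : ModuleCat.{u} A) (k : F.obj (ModuleCat.of A A)) (m : M),
        η M (k ⊗ₜ m) = F.map (ModuleCat.ofHom (LinearMap.toSpanSingleton A M m)) k) ∧
      ∀ (M N : ModuleCat.{u} A) (f : M ⟶ N) (x : ↑(F.obj (ModuleCat.of A A)) ⊗[A] M),
        η N (LinearMap.lTensor _ f.hom x) = F.map f (η M x) := by
  classical
  let K := F.obj (ModuleCat.of A A)
  let sp : ∀ (M : ModuleCat.{u} A), M → (ModuleCat.of A A ⟶ M) := fun M m =>
    ModuleCat.ofHom (LinearMap.toSpanSingleton A M m)
  have hsp : ∀ (M : ModuleCat.{u} A) (a : A) (m : M), sp M (a • m) = (a • 𝟙 (ModuleCat.of A A)) ≫ sp M m :=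
    fun M a m => ModuleCat.hom_ext (LinearMap.ext fun (r : A) => by
      show r • a • m = (a • r) • m
      rw [smul_eq_mul, smul_smul, mul_comm])
  let g : ∀ (M : ModuleCat.{u} A), K ⊗[A] M →+ F.obj M := fun M =>
    TensorProduct.liftAddHom
      { toFun := fun k =>
          { toFun := fun m => F.map (sp M m) k
            map_zero' := by
              rw [show sp M 0 = 0 from ModuleCat.hom_ext (LinearMap.ext fun (r : A) => smul_zero r), F.map_zero]
              rfl
            map_add' := fun m m' => by rw [show F.map (sp M (m + m')) = _ from hadd M m m']; rfl }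
        map_zero' := AddMonoidHom.ext fun m => map_zero (F.map (sp M m)).hom
        map_add' := fun k k' => AddMonoidHom.ext fun m => map_add (F.map (sp M m)).hom k k' }
      fun a k m => by
        show F.map (sp M m) (a • k) = F.map (sp M (a • m)) k
        rw [hsp, F.map_comp, hact]
        rfl
  let G : ∀ (M : ModuleCat.{u} A), K ⊗[A] M →ₗ[B] F.obj M := fun M =>
    { g M with
      map_smul' := fun b x => by
        show g M (b • x) = b • g M x
        induction x with
        | zero => simp
        | add x y hx hy => rw [smul_add, map_add, map_add, hx, hy, smul_add]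
        | tmul k m => exact map_smul (F.map (sp M m)).hom b k }
  have hG : ∀ (M : ModuleCat.{u} A) (k : K) (m : M), G M (k ⊗ₜ m) = F.map (sp M m) k := fun _ _ _ => rfl
  have hnat : ∀ (M N : ModuleCat.{u} A) (f : M ⟶ N) (x : K ⊗[A] M),
      G N (LinearMap.lTensor _ f.hom x) = F.map f (G M x) := fun M N f x => by
    induction x with
    | zero => simp
    | add x y hx hy => simp [hx, hy]
    | tmul k m =>
      rw [LinearMap.lTensor_tmul, hG, hG, ← ConcreteCategory.comp_apply, ← F.map_comp]
      congr 3
      exact ModuleCat.hom_ext (LinearMap.ext fun (r : A) => (map_smul f.hom r m).symm)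
  -- surjectivity
  have hsurj : ∀ M, Function.Surjective (G M) := fun M => by
    let P := ModuleCat.of A (M →₀ A)
    let c : Cofan fun _ : M => ModuleCat.of A A :=
      Cofan.mk P fun i => ModuleCat.ofHom (Finsupp.lsingle i)
    let hc : IsColimit c := Cofan.IsColimit.mk c
      (fun t => ModuleCat.ofHom (Finsupp.lsum A fun i => (t.inj i).hom))
      (fun t j => ModuleCat.hom_ext (LinearMap.ext fun (r : A) => Finsupp.lsum_single A _ j r))
      (fun t m hm => ModuleCat.hom_ext (Finsupp.lhom_ext fun i (r : A) => by
        have := congrArg (fun φ => φ.hom r) (hm i)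
        simp [c, Cofan.inj] at this ⊢
        exact this))
    let q : P ⟶ M := ModuleCat.ofHom (Finsupp.linearCombination A id)
    haveI : Epi q := (ModuleCat.epi_iff_surjective q).2 fun m => ⟨Finsupp.single m 1, (Finsupp.linearCombination_single A _ _).trans (one_smul _ _)⟩
    have hP : Function.Surjective (G P) := by
      rw [← LinearMap.range_eq_top]
      let p : F.obj P ⟶ ModuleCat.of B (F.obj P ⧸ LinearMap.range (G P)) :=
        ModuleCat.ofHom (LinearMap.range (G P)).mkQ
      have hp : p = 0 := by
        refine (isColimitOfPreserves F hc).hom_ext fun i => ?_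
        refine ModuleCat.hom_ext (LinearMap.ext fun k => ?_)
        show (LinearMap.range (G P)).mkQ (F.map (ModuleCat.ofHom (Finsupp.lsingle i.as)) k) = 0
        refine (Submodule.Quotient.mk_eq_zero _).2 ⟨k ⊗ₜ (Finsupp.single i.as 1 : M →₀ A), ?_⟩
        rw [hG]
        congr 3
        exact ModuleCat.hom_ext (LinearMap.ext fun (r : A) => by
          show r • (Finsupp.single i.as (1 : A)) = Finsupp.single i.as r
          rw [Finsupp.smul_single, smul_eq_mul, mul_one])
      refine eq_top_iff.2 fun x _ => (Submodule.Quotient.mk_eq_zero _).1 ?_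
      exact LinearMap.congr_fun (congrArg ModuleCat.Hom.hom hp) x
    intro y
    haveI : Epi (F.map q) := inferInstance
    obtain ⟨z, rfl⟩ := (ModuleCat.epi_iff_surjective (F.map q)).1 inferInstance y
    obtain ⟨x, rfl⟩ := hP z
    exact ⟨_, hnat P M q x⟩
  -- injectivity on free modules
  have hfree : ∀ ι : Type u, Function.Injective (G (ModuleCat.of A (ι →₀ A))) := fun ι => by
    let e := TensorProduct.finsuppScalarRight A A K ι
    refine (injective_iff_map_eq_zero _).2 fun x hx => e.injective (Finsupp.ext fun i => ?_)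
    rw [map_zero]
    have key : ∀ y, F.map (ModuleCat.ofHom (Finsupp.lapply i) : ModuleCat.of A (ι →₀ A) ⟶ ModuleCat.of A A)
        (G _ y) = e y i := fun y => by
      induction y with
      | zero => simp
      | add x y hx hy => simp only [map_add, hx, hy, Finsupp.add_apply]
      | tmul k f =>
        rw [hG, TensorProduct.finsuppScalarRight_apply_tmul_apply, hact,
          ← ConcreteCategory.comp_apply, ← F.map_comp]
        congr 3
        exact ModuleCat.hom_ext (LinearMap.ext fun (r : A) => by simp [sp, mul_comm])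
    rw [← key, hx, map_zero]
    rfl
  have hinj : ∀ M, Function.Injective (G M) := fun M => by
    let q : ModuleCat.of A (M →₀ A) ⟶ M := ModuleCat.ofHom (Finsupp.linearCombination A id)
    have hq : Function.Surjective q := fun m => ⟨Finsupp.single m 1, (Finsupp.linearCombination_single A _ _).trans (one_smul _ _)⟩
    let r : ModuleCat.of A (LinearMap.ker q.hom →₀ A) ⟶ ModuleCat.of A (M →₀ A) :=
      ModuleCat.ofHom (Finsupp.linearCombination A Subtype.val)
    have hrq : r ≫ q = 0 := by
      refine ModuleCat.hom_ext (Finsupp.lhom_ext fun i a => ?_)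
      show q.hom (Finsupp.linearCombination A Subtype.val (Finsupp.single i a)) = 0
      rw [Finsupp.linearCombination_single, map_smul]
      exact smul_eq_zero_of_right a i.2
    let S := ShortComplex.mk r q hrq
    have hS : S.Exact ∧ Epi S.g := by
      refine ⟨(ShortComplex.moduleCat_exact_iff S).2 fun x hx => ⟨Finsupp.single ⟨x, hx⟩ 1, ?_⟩,
        (ModuleCat.epi_iff_surjective q).2 hq⟩
      exact (Finsupp.linearCombination_single A _ _).trans (one_smul _ _)
    have h13 : ∀ S : ShortComplex (ModuleCat.{u} A), S.Exact ∧ Epi S.g → (S.map F).Exact ∧ Epi (F.map S.g) :=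
      ((Functor.preservesFiniteColimits_tfae F).out 3 1).mp ‹PreservesFiniteColimits F›
    have hF := h13 S hS
    refine (injective_iff_map_eq_zero _).2 fun x hx => ?_
    obtain ⟨y, rfl⟩ := LinearMap.lTensor_surjective K (g := q.hom) hq x
    rw [hnat] at hx
    obtain ⟨z, hz⟩ := (ShortComplex.moduleCat_exact_iff (S.map F)).1 hF.1 (G _ y) hx
    obtain ⟨w, rfl⟩ := hsurj _ z
    change F.map r (G _ w) = G _ y at hz
    rw [← hnat] at hz
    rw [← hfree _ hz, ← LinearMap.comp_apply, ← LinearMap.lTensor_comp,
      show q.hom ∘ₗ r.hom = 0 from congrArg ModuleCat.Hom.hom hrq, LinearMap.lTensor_zero,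
      LinearMap.zero_apply]
  exact ⟨fun M => LinearEquiv.ofBijective (G M) ⟨hinj M, hsurj M⟩, hG, hnat⟩


/-- Let R be a commutative ring and A, B commutative R-algebras; Mod_A and Mod_B are R-linear
categories. Suppose F, F' : Mod_A ⥤ Mod_B are R-linear functors, each of which preserves finite
colimits (so is right exact) and also preserves direct sums indexed by any set. Then: (i) there is
an A ⊗_R B-module K — a module over A and over B with commuting actions on which the two R-actions
agree — and B-linear isomorphisms K ⊗_A M ≅ F(M) natural in the A-module M; (ii) a natural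
transformation F ⟶ F' is determined by its component at A, and a B-linear map φ : F(A) ⟶ F'(A) is
the component at A of some natural transformation F ⟶ F' if and only if it commutes with the
A-actions, i.e. F(a · id_A) ≫ φ = φ ≫ F'(a · id_A) for all a ∈ A. (Together: K ↦ (- ⊗_A K) is an
equivalence from Mod_{A ⊗_R B} onto the category of such functors.) -/
theorem result
    (R : Type u) [CommRing R] (A B : Type u) [CommRing A] [CommRing B] [Algebra R A] [Algebra R B]
    (F F' : ModuleCat.{u} A ⥤ ModuleCat.{u} B) [F.Additive] [F.Linear R] [F'.Additive] [F'.Linear R]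
    [PreservesFiniteColimits F] [∀ J : Type u, PreservesColimitsOfShape (Discrete J) F]
    [PreservesFiniteColimits F'] [∀ J : Type u, PreservesColimitsOfShape (Discrete J) F'] :
    (∃ (K : Type u) (_ : AddCommGroup K) (_ : Module A K) (_ : Module B K) (_ : SMulCommClass A B K),
      (∀ (r : R) (x : K), algebraMap R A r • x = algebraMap R B r • x) ∧
      ∃ η : ∀ M : ModuleCat.{u} A, (K ⊗[A] M) ≃ₗ[B] F.obj M,
        ∀ (M N : ModuleCat.{u} A) (f : M ⟶ N) (x : K ⊗[A] M),
          η N (LinearMap.lTensor K f.hom x) = F.map f (η M x)) ∧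
    (∀ t t' : F ⟶ F', t.app (ModuleCat.of A A) = t'.app (ModuleCat.of A A) → t = t') ∧
    (∀ φ : F.obj (ModuleCat.of A A) ⟶ F'.obj (ModuleCat.of A A),
      (∃ t : F ⟶ F', t.app (ModuleCat.of A A) = φ) ↔
        ∀ a : A, F.map (a • 𝟙 (ModuleCat.of A A)) ≫ φ = φ ≫ F'.map (a • 𝟙 (ModuleCat.of A A))) := by
  have hmap : ∀ (G : ModuleCat.{u} A ⥤ ModuleCat.{u} B) [G.Additive] (M : ModuleCat.{u} A) (m m' : M),
      G.map (ModuleCat.ofHom (LinearMap.toSpanSingleton A M (m + m'))) =
        G.map (ModuleCat.ofHom (LinearMap.toSpanSingleton A M m)) +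
          G.map (ModuleCat.ofHom (LinearMap.toSpanSingleton A M m')) := fun G _ M m m' => by
    rw [← G.map_add]
    congr 1
    exact ModuleCat.hom_ext (LinearMap.ext fun (r : A) => smul_add r m m')
  let act : ∀ (G : ModuleCat.{u} A ⥤ ModuleCat.{u} B) [G.Additive],
      A →+* Module.End B (G.obj (ModuleCat.of A A)) := fun G _ =>
    { toFun := fun a => (G.map (a • 𝟙 (ModuleCat.of A A))).hom
      map_one' := by rw [one_smul, G.map_id]; rfl
      map_mul' := fun a b => by
        rw [show (a * b) • 𝟙 (ModuleCat.of A A) = (b • 𝟙 (ModuleCat.of A A)) ≫ (a • 𝟙 (ModuleCat.of A A)) by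
          rw [Linear.smul_comp, Category.id_comp, smul_smul, mul_comm], G.map_comp]
        rfl
      map_zero' := by rw [zero_smul, G.map_zero]; rfl
      map_add' := fun a b => by rw [add_smul, G.map_add]; rfl }
  letI : Module A (F.obj (ModuleCat.of A A)) := Module.compHom _ (act F)
  haveI : SMulCommClass A B (F.obj (ModuleCat.of A A)) := ⟨fun a b x => (act F a).map_smul b x⟩
  letI : Module A (F'.obj (ModuleCat.of A A)) := Module.compHom _ (act F')
  haveI : SMulCommClass A B (F'.obj (ModuleCat.of A A)) := ⟨fun a b x => (act F' a).map_smul b x⟩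
  obtain ⟨η, hη, hηn⟩ := exists_nat_equiv F (fun _ _ => rfl) (hmap F)
  obtain ⟨η', hη', hηn'⟩ := exists_nat_equiv F' (fun _ _ => rfl) (hmap F')
  have hone : ModuleCat.ofHom (LinearMap.toSpanSingleton A (ModuleCat.of A A) (1 : A)) = 𝟙 (ModuleCat.of A A) :=
    ModuleCat.hom_ext (LinearMap.ext fun (r : A) => mul_one r)
  refine ⟨⟨F.obj (ModuleCat.of A A), inferInstance, inferInstance, inferInstance, inferInstance,
    fun r x => ?_, η, hηn⟩, fun t t' ht => ?_, fun φ => ⟨?_, fun h => ?_⟩⟩
  · show (F.map (algebraMap R A r • 𝟙 (ModuleCat.of A A))).hom x = _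
    refine Eq.trans ?_ (congrArg (fun f => (ModuleCat.Hom.hom f) x)
      ((Functor.linear_iff R F).1 inferInstance (ModuleCat.of A A) r))
    congr 3
  · refine NatTrans.ext (funext fun M => ModuleCat.hom_ext (LinearMap.ext fun y => ?_))
    obtain ⟨x, rfl⟩ := (η M).surjective y
    induction x with
    | zero => simp
    | add x y hx hy => simp only [map_add, hx, hy]
    | tmul k m =>
      rw [hη]
      show t.app M (F.map _ k) = t'.app M (F.map _ k)
      rw [NatTrans.naturality_apply, NatTrans.naturality_apply, ht]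
  · rintro ⟨t, rfl⟩ a
    exact t.naturality (a • 𝟙 (ModuleCat.of A A))
  let φ' : F.obj (ModuleCat.of A A) →ₗ[A] F'.obj (ModuleCat.of A A) :=
    { toFun := fun x => φ x
      map_add' := fun x y => map_add φ.hom x y
      map_smul' := fun a x => congrArg (fun f => (ModuleCat.Hom.hom f) x) (h a) }
  let T : ∀ M : ModuleCat.{u} A, F.obj M →ₗ[B] F'.obj M := fun M =>
    (η' M).toLinearMap ∘ₗ
      { φ'.rTensor M with
        map_smul' := fun b x => by
          show φ'.rTensor M (b • x) = b • φ'.rTensor M x
          induction x with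
          | zero => simp
          | add x y hx hy => rw [smul_add, map_add, map_add, hx, hy, smul_add]
          | tmul k m => exact congrArg (· ⊗ₜ[A] m) (map_smul φ.hom b k) } ∘ₗ (η M).symm.toLinearMap
  have hT : ∀ (M : ModuleCat.{u} A) (k : F.obj (ModuleCat.of A A)) (m : M), T M (η M (k ⊗ₜ m)) = η' M (φ k ⊗ₜ m) := fun M k m => by
    show η' M (φ'.rTensor M ((η M).symm (η M (k ⊗ₜ m)))) = _
    rw [LinearEquiv.symm_apply_apply]
    rfl
  refine ⟨{ app := fun M => ModuleCat.ofHom (T M), naturality := fun M N f => ?_ }, ?_⟩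
  · refine ModuleCat.hom_ext (LinearMap.ext fun y => ?_)
    obtain ⟨x, rfl⟩ := (η M).surjective y
    show T N (F.map f (η M x)) = F'.map f (T M (η M x))
    rw [← hηn]
    induction x with
    | zero => simp
    | add x y hx hy => simp only [map_add, hx, hy]
    | tmul k m => rw [LinearMap.lTensor_tmul, hT, hT, ← hηn']; rfl
  · refine ModuleCat.hom_ext (LinearMap.ext fun k => ?_)
    have e1 : η (ModuleCat.of A A) (k ⊗ₜ (1 : A)) = k := by
      rw [hη, hone, F.map_id]; rfl
    show T _ k = φ k
    conv_lhs => rw [← e1]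
    rw [hT, hη', hone, F'.map_id]
    rfl

end Groth.Agent.S6769
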