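import Groth.Statements.S6770
import Groth.Agent.BeilCompactLib.Beil

set_option autoImplicit false
set_option maxHeartbeats 1000000
set_option backward.isDefEq.respectTransparency false
universe u
open CategoryTheory
attribute [local instance] HasDerivedCategory.standard
open DEquiv

namespace Groth.Agent.S6770

open CategoryTheory.Limits Opposite in
/-- Let k be a field, n ≥ 0, and R the Beilinson algebra of P^n_k: the k-algebra of upper triangular
(n+1) × (n+1) matrices whose (i, j) entry is a homogeneous polynomial of degree j - i in k[X_0, …,
X_n]. For an object K of the derived category D(R) of R-modules the following are equivalent: K is a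
compact object (the functor Hom(K, -) with values in abelian groups commutes with arbitrary direct
sums indexed by small types), and the cohomology modules H^i(K) are finite-dimensional k-vector
spaces for all i ∈ ℤ, nonzero for only finitely many i. (Left R-modules are used; the published
statement is for right modules, i.e. left modules over the opposite algebra, which is isomorphic to
R by reversing the order of the indices and transposing, and the printed proof applies verbatim to
either side.) -/
theorem result
    (k : Type u) [Field k] (n : ℕ)
    (K : DerivedCategory (ModuleCat.{u} (DEquiv.beilinsonAlg k n))) :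
    (∀ J : Type u, PreservesColimitsOfShape (Discrete J) (preadditiveCoyoneda.obj (op K))) ↔
      ((∀ i : ℤ, Module.Finite k (RestrictScalars k (DEquiv.beilinsonAlg k n) ((DerivedCategory.homologyFunctor (ModuleCat.{u} (DEquiv.beilinsonAlg k n)) i).obj K))) ∧
        Set.Finite {i : ℤ | Nontrivial ((DerivedCategory.homologyFunctor (ModuleCat.{u} (DEquiv.beilinsonAlg k n)) i).obj K)}) := by
  haveI := Groth.Agent.BeilCompactLib.finite_alg k n
  have hfd : ∀ (M : ModuleCat.{u} (DEquiv.beilinsonAlg k n)) [Module.Finite (DEquiv.beilinsonAlg k n) M],
      Groth.Agent.BeilCompactLib.GoodMod M := fun M _ =>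
    Groth.Agent.BeilCompactLib.goodMod_of_finite (k := k) (Groth.Agent.BeilCompactLib.idem k n)
      (Groth.Agent.BeilCompactLib.sum_idem k n) (Groth.Agent.BeilCompactLib.idem_mul_idem k n)
      (Groth.Agent.BeilCompactLib.idem_mul_ne k n) (Groth.Agent.BeilCompactLib.idem_tri k n)
      (Groth.Agent.BeilCompactLib.idem_diag k n) M
  have hfin : ∀ M : ModuleCat.{u} (DEquiv.beilinsonAlg k n),
      Module.Finite k (RestrictScalars k (DEquiv.beilinsonAlg k n) M) ↔ Module.Finite (DEquiv.beilinsonAlg k n) M := fun M => by
    letI : Module k M := Module.compHom M (algebraMap k (DEquiv.beilinsonAlg k n))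
    haveI : IsScalarTower k (DEquiv.beilinsonAlg k n) M := IsScalarTower.of_algebraMap_smul fun c q => rfl
    constructor
    · intro h
      haveI : Module.Finite k M := h
      exact Module.Finite.of_restrictScalars_finite k (DEquiv.beilinsonAlg k n) M
    · intro h
      exact (Module.Finite.trans (DEquiv.beilinsonAlg k n) M : Module.Finite k M)
  have key := Groth.Agent.BeilCompactLib.good_iff (k := k) hfd K
  exact ⟨fun h => ⟨fun i => (hfin _).2 ((key.1 (Groth.Agent.BeilCompactLib.good_of_preserves h)).1 i),
      (key.1 (Groth.Agent.BeilCompactLib.good_of_preserves h)).2⟩,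
    fun h J => Groth.Agent.BeilCompactLib.preserves_of_good (key.2 ⟨fun i => (hfin _).1 (h.1 i), h.2⟩) J⟩

end Groth.Agent.S6770
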