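import Groth.Statements.S6775
import Mathlib.CategoryTheory.Abelian.CommSq
-- import your own Groth.Agent.* helpers here

set_option autoImplicit false
open CategoryTheory CategoryTheory.Limits
universe v u
open CategoryTheory CategoryTheory.Abelian

namespace Groth.Agent.S6775

/-- In an abelian category a cartesian square whose bottom arrow `k` is an epimorphism is also
cocartesian, and the arrow `f` opposite to `k` is an epimorphism. -/
theorem result {A : Type u} [Category.{v} A] [Abelian A] {w x y z : A} (f : w ⟶ y) (g : w ⟶ x) (h : y ⟶ z) (k : x ⟶ z) (sq : IsPullback f g h k) [Epi k] : IsPushout f g h k ∧ Epi f := by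
  have hdescEpi : Epi (biprod.desc h (-k)) := by
    have : Epi (biprod.inr ≫ biprod.desc h (-k)) := by rw [biprod.inr_desc]; infer_instance
    exact epi_of_epi biprod.inr _
  have : Epi f := by
    have : MorphismProperty.epimorphisms A f :=
      MorphismProperty.of_isPullback sq.flip (show MorphismProperty.epimorphisms A k from inferInstanceAs (Epi k))
    exact this
  refine ⟨⟨sq.toCommSq, ⟨?_⟩⟩, inferInstance⟩
  have hex := sq.exact_shortComplex'
  have : Epi sq.shortComplex'.g := hdescEpi
  have hz : ∀ s : PushoutCocone f g, sq.shortComplex'.f ≫ biprod.desc s.inl (-s.inr) = 0 := fun s => by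
    show biprod.lift f g ≫ biprod.desc s.inl (-s.inr) = 0
    rw [biprod.lift_desc, Preadditive.comp_neg, s.condition, add_neg_cancel]
  have hd : ∀ s : PushoutCocone f g, biprod.desc h (-k) ≫ hex.desc (biprod.desc s.inl (-s.inr)) (hz s) =
      biprod.desc s.inl (-s.inr) := fun s => hex.g_desc (biprod.desc s.inl (-s.inr)) (hz s)
  have h1 : ∀ s : PushoutCocone f g, h ≫ hex.desc (biprod.desc s.inl (-s.inr)) (hz s) = s.inl := fun s =>
    (biprod.inl_desc_assoc h (-k) _).symm.trans ((congrArg (biprod.inl ≫ ·) (hd s)).trans (biprod.inl_desc _ _))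
  have h2 : ∀ s : PushoutCocone f g, k ≫ hex.desc (biprod.desc s.inl (-s.inr)) (hz s) = s.inr := fun s =>
    neg_injective ((Preadditive.neg_comp _ _).symm.trans
      ((biprod.inr_desc_assoc h (-k) _).symm.trans
        ((congrArg (biprod.inr ≫ ·) (hd s)).trans (biprod.inr_desc _ _))))
  exact PushoutCocone.IsColimit.mk _ _ h1 h2
    (fun s m hm₁ hm₂ => (cancel_epi k).1 (hm₂.trans (h2 s).symm))

end Groth.Agent.S6775
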