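import Groth.Statements.S6776
import Mathlib.CategoryTheory.Abelian.CommSq
-- import your own Groth.Agent.* helpers here

set_option autoImplicit false
open CategoryTheory CategoryTheory.Limits
universe v u
open CategoryTheory CategoryTheory.Abelian

namespace Groth.Agent.S6776

/-- In an abelian category a cocartesian square whose left arrow `g` is a monomorphism is also
cartesian, and the arrow `h` opposite to `g` is a monomorphism. -/
theorem result {A : Type u} [Category.{v} A] [Abelian A] {w x y z : A} (f : w ⟶ y) (g : w ⟶ x) (h : y ⟶ z) (k : x ⟶ z) (sq : IsPushout f g h k) [Mono g] : IsPullback f g h k ∧ Mono h := by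
  have hm : Mono (biprod.lift f (-g)) := by
    have : Mono (biprod.lift f (-g) ≫ biprod.snd) := by rw [biprod.lift_snd]; infer_instance
    exact mono_of_mono _ biprod.snd
  have : Mono h := by
    have : MorphismProperty.monomorphisms A h :=
      MorphismProperty.of_isPushout sq (show MorphismProperty.monomorphisms A g from inferInstanceAs (Mono g))
    exact this
  refine ⟨⟨sq.toCommSq, ⟨?_⟩⟩, inferInstance⟩
  have hex := sq.exact_shortComplex
  have : Mono sq.shortComplex.f := hm
  have hz : ∀ s : PullbackCone h k, biprod.lift s.fst (-s.snd) ≫ sq.shortComplex.g = 0 := fun s => by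
    show biprod.lift s.fst (-s.snd) ≫ biprod.desc h k = 0
    rw [biprod.lift_desc, Preadditive.neg_comp, s.condition, add_neg_cancel]
  have hl : ∀ s : PullbackCone h k, hex.lift (biprod.lift s.fst (-s.snd)) (hz s) ≫ biprod.lift f (-g) =
      biprod.lift s.fst (-s.snd) := fun s => hex.lift_f (biprod.lift s.fst (-s.snd)) (hz s)
  have h1 : ∀ s : PullbackCone h k, hex.lift (biprod.lift s.fst (-s.snd)) (hz s) ≫ f = s.fst := fun s =>
    (congrArg (_ ≫ ·) (biprod.lift_fst f (-g)).symm).trans ((Category.assoc _ _ _).symm.trans
      ((congrArg (· ≫ biprod.fst) (hl s)).trans (biprod.lift_fst _ _)))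
  have h2 : ∀ s : PullbackCone h k, hex.lift (biprod.lift s.fst (-s.snd)) (hz s) ≫ g = s.snd := fun s =>
    neg_injective ((Preadditive.comp_neg _ _).symm.trans
      ((congrArg (_ ≫ ·) (biprod.lift_snd f (-g)).symm).trans ((Category.assoc _ _ _).symm.trans
        ((congrArg (· ≫ biprod.snd) (hl s)).trans (biprod.lift_snd _ _)))))
  exact PullbackCone.IsLimit.mk _ _ h1 h2
    (fun s m hm₁ hm₂ => (cancel_mono g).1 (hm₂.trans (h2 s).symm))

end Groth.Agent.S6776
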