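import Groth.Statements.S6778
import Mathlib


-- import your own Groth.Agent.* helpers here

set_option autoImplicit false
open CategoryTheory CategoryTheory.Limits
universe v u
open CategoryTheory CategoryTheory.Abelian

namespace Groth.Agent.S6778

/-- For a commutative diagram with rows `x ⟶ y ⟶ z` and `u ⟶ v ⟶ w` in an abelian category, if the
second row is exact and the second map `g` of the first row is an epimorphism, then the induced
sequence of cokernels of the vertical maps is exact. -/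
theorem result {A : Type u} [Category.{v} A] [Abelian A] {x y z u' v' w : A} (f : x ⟶ y) (g : y ⟶ z) (k : u' ⟶ v') (l : v' ⟶ w) (α : x ⟶ u') (β : y ⟶ v') (γ : z ⟶ w) (h₁ : α ≫ k = f ≫ β) (h₂ : β ≫ l = g ≫ γ) (hkl : k ≫ l = 0) (hex : (ShortComplex.mk k l hkl).Exact) [Epi g] : ∃ hc : cokernel.map α β f k h₁ ≫ cokernel.map β γ g l h₂ = 0, (ShortComplex.mk _ _ hc).Exact := by
  refine ⟨by ext; simp [cokernel.map, reassoc_of% hkl], ?_⟩
  rw [ShortComplex.exact_iff_exact_up_to_refinements]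
  intro T t ht
  obtain ⟨T₁, π₁, hπ₁, a, ha⟩ := surjective_up_to_refinements_of_epi (cokernel.π β) t
  have ha0 : (a ≫ l) ≫ cokernel.π γ = 0 := by
    have := congrArg (π₁ ≫ ·) ht
    simp only [comp_zero] at this
    rw [← this, ← Category.assoc π₁, ha]
    simp [cokernel.map]
  obtain ⟨T₂, π₂, hπ₂, b, hb⟩ := (ShortComplex.exact_of_g_is_cokernel (ShortComplex.mk γ (cokernel.π γ) (cokernel.condition γ)) (cokernelIsCokernel γ)).exact_up_to_refinements (a ≫ l) ha0
  obtain ⟨T₃, π₃, hπ₃, c, hc⟩ := surjective_up_to_refinements_of_epi g b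
  have hb' : π₂ ≫ a ≫ l = b ≫ γ := hb
  have h0 : (π₃ ≫ π₂ ≫ a - c ≫ β) ≫ l = 0 := by
    rw [Preadditive.sub_comp, Category.assoc, Category.assoc, hb', Category.assoc, h₂, ← Category.assoc c g γ, ← hc, Category.assoc, sub_self]
  obtain ⟨T₄, π₄, hπ₄, dd, hd⟩ := hex.exact_up_to_refinements _ h0
  have hd' : π₄ ≫ (π₃ ≫ π₂ ≫ a - c ≫ β) = dd ≫ k := hd
  refine ⟨T₄, π₄ ≫ π₃ ≫ π₂ ≫ π₁, inferInstance, dd ≫ cokernel.π α, ?_⟩
  change (π₄ ≫ π₃ ≫ π₂ ≫ π₁) ≫ t = (dd ≫ cokernel.π α) ≫ cokernel.map α β f k h₁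
  have e : (dd ≫ cokernel.π α) ≫ cokernel.map α β f k h₁ = (dd ≫ k) ≫ cokernel.π β := by simp [cokernel.map]
  rw [e, ← hd']
  simp [ha, Preadditive.comp_sub, Preadditive.sub_comp]

end Groth.Agent.S6778
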