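import Groth.Statements.S6783
import Mathlib


set_option autoImplicit false
set_option linter.all false
open CategoryTheory
universe u
open SSet

namespace Groth.Agent.S6783

open Limits Opposite Simplicial SSet.modelCategoryQuillen

theorem ext_vtx {A B : Type u} (f : A ⟶ B) {m : ℕ}
    (x y : (Arrow.mk f).augmentedCechNerve.left.obj (op ⦋m⦌))
    (h : ∀ i, WidePullback.π (fun _ : Fin (m + 1) => (Arrow.mk f).hom) i x =
      WidePullback.π (fun _ : Fin (m + 1) => (Arrow.mk f).hom) i y)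
    (hb : WidePullback.base (fun _ : Fin (m + 1) => (Arrow.mk f).hom) x =
      WidePullback.base (fun _ : Fin (m + 1) => (Arrow.mk f).hom) y) : x = y := by
  refine Concrete.limit_ext (WidePullbackShape.wideCospan B (fun _ : Fin (m + 1) => A) fun _ => f) x y ?_
  rintro (_ | j)
  exacts [hb, h j]

theorem mk_vtx {A B : Type u} (f : A ⟶ B) (m : ℕ) (b : B) (a : Fin (m + 1) → A) (ha : ∀ i, f (a i) = b) :
    ∃ x : (Arrow.mk f).augmentedCechNerve.left.obj (op ⦋m⦌),
      (∀ i, WidePullback.π (fun _ : Fin (m + 1) => (Arrow.mk f).hom) i x = a i) ∧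
      WidePullback.base (fun _ : Fin (m + 1) => (Arrow.mk f).hom) x = b := by
  let z := WidePullback.lift (objs := fun _ : Fin (m + 1) => A)
    (TypeCat.ofHom fun _ : PUnit.{u + 1} => b) (arrows := fun _ => f)
    (fun i => TypeCat.ofHom fun _ : PUnit.{u + 1} => a i) (fun i => by ext; exact ha i)
  refine ⟨z PUnit.unit, fun i => ?_, ?_⟩
  · have := WidePullback.lift_π (objs := fun _ : Fin (m + 1) => A) (fun _ => f)
      (TypeCat.ofHom fun _ : PUnit.{u + 1} => b) (fun i => TypeCat.ofHom fun _ : PUnit.{u + 1} => a i)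
      (fun i => by ext; exact ha i) i
    exact ConcreteCategory.congr_hom this PUnit.unit
  · have := WidePullback.lift_base (objs := fun _ : Fin (m + 1) => A) (fun _ => f)
      (TypeCat.ofHom fun _ : PUnit.{u + 1} => b) (fun i => TypeCat.ofHom fun _ : PUnit.{u + 1} => a i)
      (fun i => by ext; exact ha i)
    exact ConcreteCategory.congr_hom this PUnit.unit


/-- For a surjective map of sets `f : A → B`, the augmentation from the Čech nerve of `f` (with
`n`-simplices the `(n+1)`-fold fibre product of `A` over `B`) to the constant simplicial set `B` is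
a trivial Kan fibration. -/
theorem result {A B : Type u} (f : A ⟶ B) (hf : Function.Surjective f) : SSet.modelCategoryQuillen.I.rlp (Arrow.mk f).augmentedCechNerve.hom := by
  intro S T i hi
  obtain ⟨n⟩ := hi
  refine ⟨fun {t b} sq => ?_⟩
  let b₀ : B := b.app (op ⦋n⦌) (SSet.stdSimplex.objEquiv.symm (𝟙 _))
  have hb : ∀ (k : SimplexCategoryᵒᵖ) (y : (Δ[n] : SSet.{u}).obj k), b.app k y = b₀ := by
    intro k y
    obtain ⟨g, rfl⟩ := SSet.stdSimplex.objEquiv.symm.surjective y
    have := NatTrans.naturality_apply b g.op (SSet.stdSimplex.objEquiv.symm (𝟙 _))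
    rw [SSet.stdSimplex.map_apply, Equiv.apply_symm_apply] at this
    simp only [Quiver.Hom.unop_op, Category.comp_id] at this
    exact this
  have hA : ∀ i : Fin (n + 1), ∃ a : A, f a = b₀ ∧ ∀ hi : SSet.stdSimplex.const n i (op ⦋0⦌) ∈ (SSet.boundary n).obj (op ⦋0⦌),
      a = WidePullback.π (fun _ : Fin 1 => (Arrow.mk f).hom) 0 (t.app (op ⦋0⦌) ⟨_, hi⟩) := by
    intro i
    by_cases hi : SSet.stdSimplex.const n i (op ⦋0⦌) ∈ (SSet.boundary.{u} n).obj (op ⦋0⦌)
    · refine ⟨WidePullback.π (fun _ : Fin 1 => (Arrow.mk f).hom) 0 (t.app (op ⦋0⦌) ⟨_, hi⟩), ?_, fun _ => rfl⟩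
      have h1 := congrArg (fun z => z.app (op ⦋0⦌) ⟨_, hi⟩) sq.w
      refine Eq.trans ?_ ((Eq.trans h1 (hb _ _)))
      exact congrArg (fun z => z (t.app (op ⦋0⦌) ⟨_, hi⟩))
        (WidePullback.π_arrow (fun _ : Fin 1 => (Arrow.mk f).hom) 0)
    · obtain ⟨a, ha⟩ := hf b₀
      exact ⟨a, ha, fun h => absurd h hi⟩
  choose a ha hat using hA
  obtain ⟨x, hxπ, hxb⟩ := mk_vtx f n b₀ a ha
  refine ⟨⟨{ l := SSet.yonedaEquiv.symm x, fac_left := ?_, fac_right := ?_ }⟩⟩
  · ext ⟨⟨m⟩⟩ ⟨y, hy⟩
    apply ext_vtx f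
    · intro j
      obtain ⟨g, rfl⟩ := SSet.stdSimplex.objEquiv.symm.surjective y
      have e : (Δ[n] : SSet.{u}).map ((SimplexCategory.const ⦋0⦌ ⦋m⦌ j).op) (SSet.stdSimplex.objEquiv.symm g) =
          SSet.stdSimplex.const n (g.toOrderHom j) (op ⦋0⦌) := by
        ext i
        rfl
      have hmem : SSet.stdSimplex.const n (g.toOrderHom j) (op ⦋0⦌) ∈ (SSet.boundary.{u} n).obj (op ⦋0⦌) := by
        rw [← e]
        exact (SSet.boundary.{u} n).map ((SimplexCategory.const ⦋0⦌ ⦋m⦌ j).op) hy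
      have hn := NatTrans.naturality_apply t ((SimplexCategory.const ⦋0⦌ ⦋m⦌ j).op) ⟨_, hy⟩
      have h2 := (congrArg (fun z => z (t.app (op ⦋m⦌) ⟨_, hy⟩))
        (WidePullback.lift_π (arrows := fun _ : Fin 1 => (Arrow.mk f).hom)
          (WidePullback.base (fun _ : Fin (m + 1) => (Arrow.mk f).hom))
          (fun i => WidePullback.π (fun _ : Fin (m + 1) => (Arrow.mk f).hom)
            ((SimplexCategory.const ⦋0⦌ ⦋m⦌ j).toOrderHom i)) (by simp) 0))
      refine Eq.trans ?_ h2
      refine Eq.trans ?_ (congrArg (fun z => WidePullback.π (fun _ : Fin 1 => (Arrow.mk f).hom) 0 z) hn)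
      refine Eq.trans ?_ (Eq.trans (hat (g.toOrderHom j) hmem) ?_)
      · refine Eq.trans ?_ (hxπ (g.toOrderHom j))
        exact congrArg (fun z => z x) (WidePullback.lift_π (arrows := fun _ : Fin (m + 1) => (Arrow.mk f).hom)
          (WidePullback.base (fun _ : Fin (n + 1) => (Arrow.mk f).hom))
          (fun i => WidePullback.π (fun _ : Fin (n + 1) => (Arrow.mk f).hom) (g.toOrderHom i)) (by simp) j)
      · exact congrArg (fun z => WidePullback.π (fun _ : Fin 1 => (Arrow.mk f).hom) 0 (t.app (op ⦋0⦌) z))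
          (Subtype.ext e.symm)
    · have h1 := congrArg (fun z => z.app (op ⦋m⦌) ⟨y, hy⟩) sq.w
      refine Eq.trans ?_ ((h1.trans (hb _ _)).symm)
      refine Eq.trans ?_ hxb
      obtain ⟨g, rfl⟩ := SSet.stdSimplex.objEquiv.symm.surjective y
      exact congrArg (fun z => z x) (WidePullback.lift_base (arrows := fun _ : Fin (m + 1) => (Arrow.mk f).hom)
          (WidePullback.base (fun _ : Fin (n + 1) => (Arrow.mk f).hom))
          (fun i => WidePullback.π (fun _ : Fin (n + 1) => (Arrow.mk f).hom) (g.toOrderHom i)) (by simp))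
  · ext ⟨⟨m⟩⟩ y
    refine Eq.trans ?_ (hb _ y).symm
    refine Eq.trans ?_ hxb
    obtain ⟨g, rfl⟩ := SSet.stdSimplex.objEquiv.symm.surjective y
    exact congrArg (fun z => z x) (WidePullback.lift_base (arrows := fun _ : Fin (m + 1) => (Arrow.mk f).hom)
          (WidePullback.base (fun _ : Fin (n + 1) => (Arrow.mk f).hom))
          (fun i => WidePullback.π (fun _ : Fin (n + 1) => (Arrow.mk f).hom) (g.toOrderHom i)) (by simp))

end Groth.Agent.S6783
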