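import Groth.Statements.S6784
import Mathlib


set_option autoImplicit false
set_option linter.all false
open CategoryTheory
universe u
open SSet

namespace Groth.Agent.S6784

/-- The standard simplex `Δ[n]` is `1`-coskeletal, i.e. it is the right Kan extension of its
`1`-truncation. -/
theorem result (n : ℕ) : SimplicialObject.IsCoskeletal (SSet.stdSimplex.{u}.obj (SimplexCategory.mk n)) 1 := by
  classical
  let L := (SimplexCategory.Truncated.inclusion 1).op
  let U : SSet.{u} := SSet.stdSimplex.{u}.obj (SimplexCategory.mk n)
  let t0 : SimplexCategory.Truncated 1 := ⟨SimplexCategory.mk 0, by show 0 ≤ 1; omega⟩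
  let t1 : SimplexCategory.Truncated 1 := ⟨SimplexCategory.mk 1, le_refl 1⟩
  have h : (Functor.RightExtension.mk U (𝟙 (L ⋙ U))).IsPointwiseRightKanExtension := fun Y => by
    let vtx : Fin (Y.unop.len + 1) → StructuredArrow Y L := fun i =>
      StructuredArrow.mk (Y := Opposite.op t0) (SimplexCategory.const (SimplexCategory.mk 0) Y.unop i).op
    have key : ∀ (s : Limits.Cone (StructuredArrow.proj Y L ⋙ L ⋙ U)) (j : StructuredArrow Y L)
        (a : Fin (j.right.unop.obj.len + 1)) (x : s.pt),
        (SSet.stdSimplex.objEquiv (s.π.app (vtx (j.hom.unop.toOrderHom a)) x)).toOrderHom 0 =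
          (SSet.stdSimplex.objEquiv (s.π.app j x)).toOrderHom a := by
      intro s j a x
      let f : j ⟶ vtx (j.hom.unop.toOrderHom a) := StructuredArrow.homMk
        ((ObjectProperty.homMk (SimplexCategory.const (SimplexCategory.mk 0) j.right.unop.obj a) :
          t0 ⟶ j.right.unop)).op (by
          apply Quiver.Hom.unop_inj
          ext i
          rfl)
      have := congrArg (fun t => t x) (s.w f).symm
      rw [show s.π.app (vtx (j.hom.unop.toOrderHom a)) x = _ from this]
      rfl
    have hmono : ∀ (s : Limits.Cone (StructuredArrow.proj Y L ⋙ L ⋙ U)) (x : s.pt),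
        Monotone fun i => (SSet.stdSimplex.objEquiv (s.π.app (vtx i) x)).toOrderHom 0 := by
      intro s x i j hij
      let ed : StructuredArrow Y L := StructuredArrow.mk (Y := Opposite.op t1)
        (SimplexCategory.mkOfLe (n := Y.unop.len) i j hij ≫ eqToHom (SimplexCategory.mk_len Y.unop)).op
      have hi : ed.hom.unop.toOrderHom (0 : Fin 2) = i := rfl
      have hj : ed.hom.unop.toOrderHom (1 : Fin 2) = j := rfl
      have h0 : (SSet.stdSimplex.objEquiv (s.π.app (vtx i) x)).toOrderHom 0 = _ := key s ed (0 : Fin 2) x
      have h1 : (SSet.stdSimplex.objEquiv (s.π.app (vtx j) x)).toOrderHom 0 = _ := key s ed (1 : Fin 2) x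
      exact h0.le.trans (le_trans
        ((SSet.stdSimplex.objEquiv (s.π.app ed x)).toOrderHom.monotone (Fin.zero_le (1 : Fin 2))) h1.ge)
    refine
      { lift := fun s => TypeCat.ofHom fun x =>
          SSet.stdSimplex.objEquiv.symm (SimplexCategory.Hom.mk ⟨_, hmono s x⟩)
        fac := fun s j => ?_
        uniq := fun s m hm => ?_ }
    · ext x
      apply SSet.stdSimplex.objEquiv.injective
      apply SimplexCategory.Hom.ext
      ext a
      have := key s j a x
      exact congrArg Fin.val this
    · ext x
      apply SSet.stdSimplex.objEquiv.injective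
      apply SimplexCategory.Hom.ext
      ext i
      show _ = ((SSet.stdSimplex.objEquiv (s.π.app (vtx i) x)).toOrderHom 0).val
      rw [← hm (vtx i)]
      rfl
  exact ⟨h.isRightKanExtension⟩

end Groth.Agent.S6784
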