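import Groth.Statements.S6785
import Mathlib.CategoryTheory.Limits.Types.Colimits
import Mathlib.AlgebraicTopology.SimplicialSet.CategoryWithFibrations


-- import your own Groth.Agent.* helpers here

set_option autoImplicit false
open CategoryTheory
universe u
open SSet

namespace Groth.Agent.S6785

/-- A trivial Kan fibration `f : X ⟶ Y` of simplicial sets is a homotopy equivalence; more precisely it
has a section `g`, and `g ∘ f` is homotopic to the identity of `X` by a single homotopy in each
direction. (The published statement only asserts a homotopy equivalence; the section and the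
one-step homotopies are what its proof constructs.) -/
theorem result {X Y : SSet.{u}} (f : X ⟶ Y) (hf : SSet.modelCategoryQuillen.I.rlp f) : ∃ g : Y ⟶ X, g ≫ f = 𝟙 Y ∧ Nonempty (SSet.Homotopy (𝟙 X) (f ≫ g)) ∧ Nonempty (SSet.Homotopy (f ≫ g) (𝟙 X)) := by
  rw [← SSet.rlp_monomorphisms] at hf
  haveI : Mono (Limits.initial.to Y) := inferInstance
  haveI := hf (Limits.initial.to Y) ‹_›
  have sq₁ : CommSq (Limits.initial.to X) (Limits.initial.to Y) f (𝟙 Y) := ⟨Limits.initial.hom_ext _ _⟩
  refine ⟨sq₁.lift, sq₁.fac_right, ?_⟩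
  let g := sq₁.lift
  have hg : g ≫ f = 𝟙 Y := sq₁.fac_right
  let d : (X ⨿ X) ⟶ MonoidalCategory.tensorObj X (SSet.stdSimplex.obj (SimplexCategory.mk 1)) := Limits.coprod.desc SSet.ι₀ SSet.ι₁
  have hd : Mono d := by
    have hinj : ∀ m, Function.Injective (d.app m) := by
      intro m
      have hc := Limits.isColimitOfPreserves ((evaluation SimplexCategoryᵒᵖ (Type u)).obj m) (Limits.colimit.isColimit (Limits.pair X X))
      have hs : ∀ a : (X ⨿ X).obj m, (∃ x, (Limits.coprod.inl : X ⟶ X ⨿ X).app m x = a) ∨ ∃ x, (Limits.coprod.inr : X ⟶ X ⨿ X).app m x = a := by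
        intro a
        obtain ⟨⟨j⟩, x, hx⟩ := Limits.Types.jointly_surjective _ hc a
        cases j
        · exact Or.inl ⟨x, hx⟩
        · exact Or.inr ⟨x, hx⟩
      have e0 : ∀ x, d.app m ((Limits.coprod.inl : X ⟶ X ⨿ X).app m x) = SSet.ι₀.app m x := fun x => by
        rw [← ConcreteCategory.comp_apply, ← NatTrans.comp_app, Limits.coprod.inl_desc]
      have e1 : ∀ x, d.app m ((Limits.coprod.inr : X ⟶ X ⨿ X).app m x) = SSet.ι₁.app m x := fun x => by
        rw [← ConcreteCategory.comp_apply, ← NatTrans.comp_app, Limits.coprod.inr_desc]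
      obtain ⟨m⟩ := m
      induction m using SimplexCategory.rec with
      | _ n =>
        intro a b hab
        rcases hs a with ⟨x, rfl⟩ | ⟨x, rfl⟩ <;> rcases hs b with ⟨y, rfl⟩ | ⟨y, rfl⟩ <;>
          simp only [e0, e1] at hab
        · have h1 : x = y := congrArg (fun z => z.1) hab
          rw [h1]
        · have h1 : (0 : Fin 2) = 1 := congrArg (fun z => z.2 0) hab
          exact absurd h1 (by decide)
        · have h1 : (1 : Fin 2) = 0 := congrArg (fun z => z.2 0) hab
          exact absurd h1 (by decide)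
        · have h1 : x = y := congrArg (fun z => z.1) hab
          rw [h1]
    haveI : ∀ m, Mono (d.app m) := fun m => (CategoryTheory.mono_iff_injective _).2 (hinj m)
    exact NatTrans.mono_of_mono_app d
  have mk : ∀ a b : X ⟶ X, a ≫ f = f → b ≫ f = f → Nonempty (SSet.Homotopy a b) := by
    intro a b ha hb
    haveI := hf d hd
    have sq : CommSq (Limits.coprod.desc a b) d f (CartesianMonoidalCategory.fst _ _ ≫ f) := ⟨by
      apply Limits.coprod.hom_ext
      · rw [Limits.coprod.inl_desc_assoc, ha, Limits.coprod.inl_desc_assoc, ← Category.assoc, SSet.ι₀_fst, Category.id_comp]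
      · rw [Limits.coprod.inr_desc_assoc, hb, Limits.coprod.inr_desc_assoc, ← Category.assoc, SSet.ι₁_fst, Category.id_comp]⟩
    refine ⟨{ h := sq.lift, h₀ := ?_, h₁ := ?_, rel := ?_ }⟩
    · exact (((Limits.coprod.inl_desc_assoc _ _ _).symm.trans (congrArg (fun t => Limits.coprod.inl ≫ t) sq.fac_left)).trans
        (Limits.coprod.inl_desc _ _) : _)
    · exact (((Limits.coprod.inr_desc_assoc _ _ _).symm.trans (congrArg (fun t => Limits.coprod.inr ≫ t) sq.fac_left)).trans
        (Limits.coprod.inr_desc _ _) : _)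
    · apply NatTrans.ext
      funext m
      ext ⟨⟨_, hx⟩, _⟩
      exact hx.elim
  have h' : (f ≫ g) ≫ f = f := by rw [Category.assoc, hg, Category.comp_id]
  exact ⟨mk _ _ (Category.id_comp f) h', mk _ _ h' (Category.id_comp f)⟩

end Groth.Agent.S6785
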