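import Groth.Statements.S6786
import Groth.Agent.LimHomLib.Basic
-- import your own Groth.Agent.* helpers here

set_option autoImplicit false
set_option linter.style.haveILetI false
open CategoryTheory CategoryTheory.Limits
universe u
open HomAlg3

namespace Groth.Agent.S6786

/-- For a sequence `(A_i) ⟶ (B_i) ⟶ (C_i) ⟶ (D_i)` of inverse systems of abelian groups over `ℕ` that is
exact levelwise at the two middle places, if `(A_i)` is Mittag-Leffler then `lim B_i ⟶ lim C_i ⟶ lim
D_i` is exact. -/
theorem result {A B C D : ℕᵒᵖ ⥤ AddCommGrpCat.{u}} (a : A ⟶ B) (b : B ⟶ C) (c : C ⟶ D) (hB : ∀ i, (b.app i).hom.ker = (a.app i).hom.range) (hC : ∀ i, (c.app i).hom.ker = (b.app i).hom.range) (hA : (A ⋙ forget AddCommGrpCat).IsMittagLeffler) : (limMap c).hom.ker = (limMap b).hom.range := by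
  ext x
  constructor
  · intro hx
    obtain ⟨y, hy, hyc⟩ := LimHomLib.exists_compatible (X := B)
      ⟨Set.univ, Set.countable_univ, fun i => ⟨i, trivial, le_rfl⟩⟩
      (fun i => Set.range (a.app i)) (fun i => {z | b.app i z = limit.π C i x})
      (LimHomLib.subML_range a hA)
      (fun i j f z hz => by
        show b.app j (B.map f z) = limit.π C j x
        rw [LimHomLib.map_nat, hz, ← ConcreteCategory.comp_apply, limit.w])
      (fun i => by
        have h0 : c.app i (limit.π C i x) = 0 := by
          rw [← ConcreteCategory.comp_apply, ← limMap_π, ConcreteCategory.comp_apply,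
            show limMap c x = 0 from hx, map_zero]
        have h1 : limit.π C i x ∈ (c.app i).hom.ker := h0
        rw [hC] at h1
        exact h1)
      (fun i z hz z' hz' => by
        have h0 : b.app i z - b.app i z' = 0 := by rw [hz, hz', sub_self]
        rw [← map_sub] at h0
        have h1 : z - z' ∈ (b.app i).hom.ker := h0
        rw [hB] at h1
        exact h1)
      (fun i z hz d hd => by
        show b.app i (z + d) = _
        obtain ⟨w, rfl⟩ := hd
        have h1 : a.app i w ∈ (b.app i).hom.ker := by rw [hB]; exact ⟨w, rfl⟩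
        have h2 : b.app i (a.app i w) = 0 := h1
        rw [map_add, hz, h2, add_zero])
    obtain ⟨z, hz⟩ := LimHomLib.exists_limit (𝟭 AddCommGrpCat.{u}) y (fun f => hyc f)
    refine ⟨z, LimHomLib.limit_ext (𝟭 AddCommGrpCat.{u}) fun i => ?_⟩
    show limit.π C i (limMap b z) = limit.π C i x
    rw [← ConcreteCategory.comp_apply, limMap_π, ConcreteCategory.comp_apply]
    exact (congrArg (b.app i) (hz i)).trans (hy i)
  · rintro ⟨w, rfl⟩
    show limMap c (limMap b w) = 0
    refine LimHomLib.limit_ext (𝟭 AddCommGrpCat.{u}) fun i => ?_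
    show limit.π D i _ = limit.π D i 0
    rw [← ConcreteCategory.comp_apply (limMap c), limMap_π, ConcreteCategory.comp_apply,
      ← ConcreteCategory.comp_apply (limMap b), limMap_π, ConcreteCategory.comp_apply, map_zero]
    have h1 : b.app i (limit.π B i w) ∈ (c.app i).hom.ker := by rw [hC]; exact ⟨_, rfl⟩
    exact h1

end Groth.Agent.S6786
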