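import Groth.Statements.S6787
import Groth.Agent.LimHomLib.Basic
-- import your own Groth.Agent.* helpers here

set_option autoImplicit false
set_option linter.style.haveILetI false
open CategoryTheory CategoryTheory.Limits
universe u
open HomAlg3 Opposite

namespace Groth.Agent.S6787

/-- Take inverse systems `(A_i)`, `(B_i)`, `(C_i)` of abelian groups over `ℕ`, with morphisms of systems
`(A_i) ⟶ (B_i) ⟶ (C_i)` that give a short exact sequence at every index, and suppose `(C_i)` is
essentially constant. Then `(A_i)` is Mittag-Leffler if and only if `(B_i)` is. -/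
theorem result {A B C : ℕᵒᵖ ⥤ AddCommGrpCat.{u}} (a : A ⟶ B) (b : B ⟶ C) (ha : ∀ i, Function.Injective (a.app i).hom) (hb : ∀ i, Function.Surjective (b.app i).hom) (hex : ∀ i, (b.app i).hom.ker = (a.app i).hom.range) (hC : ∃ (C₀ : AddCommGrpCat.{u}) (c : (Functor.const ℕᵒᵖ).obj C₀ ⟶ C), DerCA.IsEssConstant C C₀ c) : (A ⋙ forget AddCommGrpCat).IsMittagLeffler ↔ (B ⋙ forget AddCommGrpCat).IsMittagLeffler := by
  obtain ⟨C₀, c, i₀, s, hs, hc⟩ := hC
  have htr : ∀ {m n : ℕ} (h : m ≤ n) (x : C₀), C.map (homOfLE h).op (c.app (op n) x) = c.app (op m) x :=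
    fun {m n} h x => by
      have h1 := congrArg (fun φ => φ x) (c.naturality (homOfLE h).op)
      simp only [ConcreteCategory.comp_apply] at h1
      exact h1.symm
  -- beyond a bound the transition maps of `C` factor through `C₀`
  have hfac : ∀ j, ∃ (k : ℕ) (hj : j ≤ k) (φ : C.obj (op k) ⟶ C₀),
      ∀ x, C.map (homOfLE hj).op x = c.app (op j) (φ x) := fun j => by
    obtain ⟨k, hi, hj, hk⟩ := hc j
    exact ⟨k, hj, ARSys.tr C hi ≫ s, fun x => congrArg (fun φ => φ x) hk⟩
  rw [LimHomLib.isMittagLeffler_nat_iff, LimHomLib.isMittagLeffler_nat_iff]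
  constructor
  · intro hA p
    obtain ⟨i, hpi, hi⟩ := hA p
    obtain ⟨l, hil, φ, hl⟩ := hfac i
    refine ⟨l, hpi.trans hil, fun k hk => ?_⟩
    rintro _ ⟨x, rfl⟩
    obtain ⟨y, hy⟩ := hb (op k) (c.app (op k) (φ (b.app (op l) x)))
    have hker : B.map (homOfLE hil).op x - B.map (homOfLE (hil.trans hk)).op y ∈
        (b.app (op i)).hom.ker := by
      show b.app (op i) (_ - _) = 0
      rw [map_sub, LimHomLib.map_nat, LimHomLib.map_nat, hy, htr, hl, sub_self]
    rw [hex] at hker
    obtain ⟨w, hw⟩ := hker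
    obtain ⟨w', hw'⟩ := hi k (hil.trans hk) ⟨w, rfl⟩
    refine ⟨y + a.app (op k) w', ?_⟩
    show B.map (homOfLE _).op (y + a.app (op k) w') = B.map (homOfLE _).op x
    have h1 : B.map (homOfLE ((hpi.trans hil).trans hk)).op (a.app (op k) w') =
        B.map (homOfLE hpi).op (a.app (op i) w) := by
      rw [← LimHomLib.map_nat, ← LimHomLib.map_nat]
      exact congrArg (a.app (op p)) hw'
    rw [map_add, h1, show a.app (op i) w = _ from hw, map_sub, ← Functor.map_comp_apply,
      ← Functor.map_comp_apply]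
    rw [show (homOfLE hil).op ≫ (homOfLE hpi).op = (homOfLE (hpi.trans hil)).op from Subsingleton.elim _ _,
      show (homOfLE (hil.trans hk)).op ≫ (homOfLE hpi).op = (homOfLE ((hpi.trans hil).trans hk)).op
        from Subsingleton.elim _ _]
    abel
  · intro hB p
    obtain ⟨i, hpi, hi⟩ := hB (max p i₀)
    refine ⟨i, (le_max_left _ _).trans hpi, fun k hk => ?_⟩
    rintro _ ⟨x, rfl⟩
    obtain ⟨k', hkk', φ, hk'⟩ := hfac k
    obtain ⟨y, hy⟩ := hi k' (hk.trans hkk') ⟨a.app (op i) x, rfl⟩
    set z := B.map (homOfLE hkk').op y with hz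
    have hbz : b.app (op k) z = c.app (op k) (φ (b.app (op k') y)) := by
      rw [hz, LimHomLib.map_nat, hk']
    have hzero : φ (b.app (op k') y) = 0 := by
      have h1 : C.map (homOfLE (hpi.trans (hk.trans hkk'))).op (b.app (op k') y) = 0 := by
        rw [← LimHomLib.map_nat]
        have hy' : B.map (homOfLE (hpi.trans (hk.trans hkk'))).op y =
            B.map (homOfLE hpi).op (a.app (op i) x) := hy
        rw [hy', LimHomLib.map_nat]
        have h3 : a.app (op i) x ∈ (b.app (op i)).hom.ker := by rw [hex]; exact ⟨x, rfl⟩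
        rw [show b.app (op i) (a.app (op i) x) = 0 from h3, map_zero]
      have hm : max p i₀ ≤ k := hpi.trans hk
      have h2 : c.app (op (max p i₀)) (φ (b.app (op k') y)) = 0 := by
        rw [← htr hm, ← hk', ← Functor.map_comp_apply, ← h1]
        exact congrArg (fun ψ => C.map ψ _) (Subsingleton.elim _ _)
      have h4 := congrArg (C.map (homOfLE (le_max_right p i₀)).op) h2
      rw [htr, map_zero] at h4
      have h5 := congrArg s h4
      rw [map_zero, ← ConcreteCategory.comp_apply, hs] at h5
      exact h5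
    have hker : z ∈ (b.app (op k)).hom.ker := by
      show b.app (op k) z = 0
      rw [hbz, hzero, map_zero]
    rw [hex] at hker
    obtain ⟨w, hw⟩ := hker
    refine ⟨w, ha (op p) ?_⟩
    show a.app (op p) (A.map (homOfLE _).op w) = a.app (op p) (A.map (homOfLE _).op x)
    rw [LimHomLib.map_nat, LimHomLib.map_nat, show a.app (op k) w = z from hw, hz,
      ← Functor.map_comp_apply]
    have h6 := congrArg (B.map (homOfLE (le_max_left p i₀)).op) (show
      B.map (homOfLE (hpi.trans (hk.trans hkk'))).op y = B.map (homOfLE hpi).op (a.app (op i) x) from hy)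
    rw [← Functor.map_comp_apply, ← Functor.map_comp_apply] at h6
    exact (congrArg (fun ψ => B.map ψ y) (Subsingleton.elim _ _)).trans
      (h6.trans (congrArg (fun ψ => B.map ψ (a.app (op i) x)) (Subsingleton.elim _ _)))

end Groth.Agent.S6787
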