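import Groth.Statements.S6788
import Mathlib


-- import your own Groth.Agent.* helpers here

set_option autoImplicit false
open CategoryTheory CategoryTheory.Limits
universe v u v' u'
open CategoryTheory CategoryTheory.Localization

namespace Groth.Agent.S6788

/-- For a multiplicative system `W` (left and right calculus of fractions) in a preadditive category
with a zero object and its localization functor `L`, an object `X` becomes zero in the localization
iff some zero map out of `X` lies in `W`, iff some zero map into `X` lies in `W`. (The published
statement assumes the category additive; only the zero object and the preadditive structure are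
used.) -/
theorem result {C : Type u} [Category.{v} C] [Preadditive C] [HasZeroObject C] {D : Type u'} [Category.{v'} D] (L : C ⥤ D) (W : MorphismProperty C) [W.HasLeftCalculusOfFractions] [W.HasRightCalculusOfFractions] [L.IsLocalization W] (X : C) : (IsZero (L.obj X) ↔ ∃ Y : C, W (0 : X ⟶ Y)) ∧ (IsZero (L.obj X) ↔ ∃ Z : C, W (0 : Z ⟶ X)) := by
  letI := Localization.preadditive L W
  haveI := Localization.functor_additive L W
  have hz : IsZero (L.obj X) ↔ L.map (𝟙 X) = L.map 0 := by
    rw [L.map_id, L.map_zero]
    exact IsZero.iff_id_eq_zero _
  constructor
  · constructor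
    · intro h
      obtain ⟨Y, t, ht, e⟩ := (MorphismProperty.map_eq_iff_postcomp L W _ _).1 (hz.1 h)
      rw [Category.id_comp, zero_comp] at e
      exact ⟨Y, e ▸ ht⟩
    · rintro ⟨Y, hY⟩
      haveI := Localization.inverts L W _ hY
      exact IsZero.of_mono_eq_zero (L.map (0 : X ⟶ Y)) (L.map_zero _ _)
  · constructor
    · intro h
      obtain ⟨Z, t, ht, e⟩ := (MorphismProperty.map_eq_iff_precomp L W _ _).1 (hz.1 h)
      rw [Category.comp_id, comp_zero] at e
      exact ⟨Z, e ▸ ht⟩
    · rintro ⟨Z, hZ⟩
      haveI := Localization.inverts L W _ hZ
      exact IsZero.of_epi_eq_zero (L.map (0 : Z ⟶ X)) (L.map_zero _ _)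

end Groth.Agent.S6788
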