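import Groth.Statements.S6790
-- import your own Groth.Agent.* helpers here

set_option autoImplicit false
open CategoryTheory CategoryTheory.Limits MonoidalCategory
universe v u
open CategoryTheory CategoryTheory.Monoidal

namespace Groth.Agent.S6790

/-- In an idempotent-complete additive monoidal category, a direct summand of an object admitting a dual
(with coevaluation `𝟙_ A ⟶ X ⊗ Y` and evaluation `Y ⊗ X ⟶ 𝟙_ A`) again admits such a dual. -/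
theorem result {A : Type u} [Category.{v} A] [Preadditive A] [HasFiniteBiproducts A] [MonoidalCategory A] [MonoidalPreadditive A] [IsIdempotentComplete A] {X X₁ : A} (i : X₁ ⟶ X) (p : X ⟶ X₁) (hip : i ≫ p = 𝟙 X₁) [HasRightDual X] : Nonempty (HasRightDual X₁) := by
  have he : (p ≫ i)ᘁ ≫ (p ≫ i)ᘁ = (p ≫ i)ᘁ := by
    rw [← comp_rightAdjointMate]; simp [reassoc_of% hip]
  obtain ⟨Y, i', p', h1, h2⟩ := IsIdempotentComplete.idempotents_split (Xᘁ) ((p ≫ i)ᘁ) he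
  have hi' : i' ≫ (p ≫ i)ᘁ = i' := by rw [← h2, reassoc_of% h1]
  refine ⟨@HasRightDual.mk _ _ _ X₁ Y
    { coevaluation' := η_ X (Xᘁ) ≫ p ▷ (Xᘁ) ≫ X₁ ◁ p'
      evaluation' := i' ▷ X₁ ≫ (Xᘁ) ◁ i ≫ ε_ X (Xᘁ)
      coevaluation_evaluation' := ?_
      evaluation_coevaluation' := ?_ }⟩
  · calc Y ◁ (η_ X (Xᘁ) ≫ p ▷ (Xᘁ) ≫ X₁ ◁ p') ≫ (α_ _ _ _).inv ≫ (i' ▷ X₁ ≫ (Xᘁ) ◁ i ≫ ε_ X (Xᘁ)) ▷ Y
          = Y ◁ (η_ X (Xᘁ) ≫ p ▷ (Xᘁ) ≫ X₁ ◁ p') ≫ i' ▷ (X₁ ⊗ Y) ≫ (α_ _ _ _).inv ≫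
              ((Xᘁ) ◁ i ≫ ε_ X (Xᘁ)) ▷ Y := by
            rw [comp_whiskerRight, associator_inv_naturality_left_assoc]
      _ = i' ▷ 𝟙_ A ≫ (Xᘁ) ◁ η_ X (Xᘁ) ≫ (Xᘁ) ◁ (p ▷ (Xᘁ)) ≫ ((Xᘁ) ◁ (X₁ ◁ p') ≫ (α_ _ _ _).inv) ≫
              ((Xᘁ) ◁ i ≫ ε_ X (Xᘁ)) ▷ Y := by
            rw [whisker_exchange_assoc]; simp only [MonoidalCategory.whiskerLeft_comp, Category.assoc]
      _ = i' ▷ 𝟙_ A ≫ (Xᘁ) ◁ η_ X (Xᘁ) ≫ ((Xᘁ) ◁ (p ▷ (Xᘁ)) ≫ (α_ _ _ _).inv) ≫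
              ((Xᘁ) ◁ i ≫ ε_ X (Xᘁ)) ▷ (Xᘁ) ≫ 𝟙_ A ◁ p' := by
            rw [associator_inv_naturality_right]; simp only [Category.assoc]; rw [whisker_exchange]
      _ = i' ▷ 𝟙_ A ≫ (Xᘁ) ◁ η_ X (Xᘁ) ≫ (α_ _ _ _).inv ≫
              ((Xᘁ) ◁ (p ≫ i) ≫ ε_ X (Xᘁ)) ▷ (Xᘁ) ≫ 𝟙_ A ◁ p' := by
            rw [associator_inv_naturality_middle]
            simp only [MonoidalCategory.whiskerLeft_comp, comp_whiskerRight, Category.assoc]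
      _ = i' ▷ 𝟙_ A ≫ (Xᘁ) ◁ η_ X (Xᘁ) ≫ ((p ≫ i)ᘁ ▷ (X ⊗ (Xᘁ))) ≫ (α_ _ _ _).inv ≫
              ε_ X (Xᘁ) ▷ (Xᘁ) ≫ 𝟙_ A ◁ p' := by
            rw [← rightAdjointMate_comp_evaluation, comp_whiskerRight, associator_inv_naturality_left_assoc,
              Category.assoc]
      _ = i' ▷ 𝟙_ A ≫ ((Xᘁ) ◁ η_ X (Xᘁ) ≫ (α_ _ _ _).inv ≫ ε_ X (Xᘁ) ▷ (Xᘁ)) ≫ 𝟙_ A ◁ p' := by
            rw [whisker_exchange_assoc, ← comp_whiskerRight_assoc, hi']; simp only [Category.assoc]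
      _ = _ := by
            rw [ExactPairing.coevaluation_evaluation, Category.assoc, rightUnitor_naturality_assoc,
              ← leftUnitor_inv_naturality, reassoc_of% h1]
  · calc (η_ X (Xᘁ) ≫ p ▷ (Xᘁ) ≫ X₁ ◁ p') ▷ X₁ ≫ (α_ _ _ _).hom ≫ X₁ ◁ (i' ▷ X₁ ≫ (Xᘁ) ◁ i ≫ ε_ X (Xᘁ))
          = η_ X (Xᘁ) ▷ X₁ ≫ (p ▷ (Xᘁ)) ▷ X₁ ≫ (α_ _ _ _).hom ≫
              X₁ ◁ ((p ≫ i)ᘁ ▷ X₁ ≫ (Xᘁ) ◁ i ≫ ε_ X (Xᘁ)) := by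
            rw [← h2]; simp only [comp_whiskerRight, MonoidalCategory.whiskerLeft_comp, Category.assoc,
              associator_naturality_middle_assoc]
      _ = η_ X (Xᘁ) ▷ X₁ ≫ (p ▷ (Xᘁ)) ▷ X₁ ≫ (α_ _ _ _).hom ≫
              X₁ ◁ ((Xᘁ) ◁ i) ≫ X₁ ◁ ((Xᘁ) ◁ (p ≫ i) ≫ ε_ X (Xᘁ)) := by
            rw [← rightAdjointMate_comp_evaluation (p ≫ i), ← MonoidalCategory.whiskerLeft_comp,
              whisker_exchange_assoc]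
      _ = η_ X (Xᘁ) ▷ X₁ ≫ (p ▷ (Xᘁ)) ▷ X₁ ≫ (α_ _ _ _).hom ≫
              X₁ ◁ ((Xᘁ) ◁ i) ≫ X₁ ◁ ε_ X (Xᘁ) := by
            rw [← MonoidalCategory.whiskerLeft_comp X₁, ← MonoidalCategory.whiskerLeft_comp_assoc (Xᘁ),
              reassoc_of% hip, MonoidalCategory.whiskerLeft_comp]
      _ = η_ X (Xᘁ) ▷ X₁ ≫ ((p ▷ (Xᘁ)) ▷ X₁ ≫ (X₁ ⊗ (Xᘁ)) ◁ i) ≫ (α_ _ _ _).hom ≫
              X₁ ◁ ε_ X (Xᘁ) := by
            rw [← associator_naturality_right_assoc]; simp only [Category.assoc]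
      _ = (η_ X (Xᘁ) ▷ X₁ ≫ (X ⊗ (Xᘁ)) ◁ i) ≫ ((p ▷ (Xᘁ)) ▷ X ≫ (α_ _ _ _).hom) ≫
              X₁ ◁ ε_ X (Xᘁ) := by
            rw [← whisker_exchange]; simp only [Category.assoc]
      _ = (𝟙_ A ◁ i ≫ η_ X (Xᘁ) ▷ X) ≫ (α_ _ _ _).hom ≫ X ◁ ε_ X (Xᘁ) ≫ p ▷ 𝟙_ A := by
            rw [← whisker_exchange, associator_naturality_left, Category.assoc, Category.assoc,
              Category.assoc, whisker_exchange]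
      _ = _ := by
            rw [Category.assoc, ExactPairing.evaluation_coevaluation_assoc, leftUnitor_naturality_assoc,
              ← rightUnitor_inv_naturality, reassoc_of% hip]

end Groth.Agent.S6790
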