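import Groth.Statements.S6795
import Mathlib


-- import your own Groth.Agent.* helpers here

set_option autoImplicit false
open CategoryTheory CategoryTheory.Limits
universe v u
open CategoryTheory CategoryTheory.Preadditive

namespace Groth.Agent.S6795

/-- A preadditive category with countable products in which split epimorphisms have kernels is
idempotent complete (Karoubian). -/
theorem result {D : Type u} [Category.{v} D] [Preadditive D] [HasCountableProducts D] (hk : ∀ ⦃X Y : D⦄ (f : X ⟶ Y), IsSplitEpi f → HasKernel f) : IsIdempotentComplete D := by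
  refine ⟨fun X e he => ?_⟩
  let P := piObj (fun _ : ℕ => X)
  let π : ∀ n, P ⟶ X := fun n => Pi.π (fun _ : ℕ => X) n
  let ψ : P ⟶ P := Pi.lift fun n => π n ≫ (𝟙 X - e) + π (n + 1) ≫ e
  let s : P ⟶ P := Pi.lift fun n => match n with
    | 0 => π 0 ≫ (𝟙 X - e)
    | n + 1 => π (n + 1) ≫ (𝟙 X - e) + π n ≫ e
  have h1 : (𝟙 X - e) ≫ e = 0 := by rw [Preadditive.sub_comp, Category.id_comp, he, sub_self]
  have h2 : e ≫ (𝟙 X - e) = 0 := by rw [Preadditive.comp_sub, Category.comp_id, he, sub_self]
  have h3 : (𝟙 X - e) ≫ (𝟙 X - e) = 𝟙 X - e := by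
    rw [Preadditive.comp_sub, Category.comp_id, h1, sub_zero]
  have hs : s ≫ ψ = 𝟙 P := by
    refine Pi.hom_ext _ _ fun n => ?_
    simp only [ψ, Category.assoc, limit.lift_π, Fan.mk_π_app, Category.id_comp, Preadditive.comp_add]
    rcases n with _ | n <;>
      simp only [π, s, Pi.lift, ← Category.assoc, limit.lift_π, Fan.mk_π_app, Preadditive.add_comp] <;>
      simp only [Category.assoc, h1, h2, h3, he, comp_zero, zero_add, add_zero] <;>
      simp only [Preadditive.comp_sub, Category.comp_id] <;> abel
  haveI : HasKernel ψ := hk ψ ⟨⟨⟨s, hs⟩⟩⟩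
  let x : ℕ → (kernel ψ ⟶ X) := fun n => kernel.ι ψ ≫ π n
  have hx : ∀ n, x n ≫ (𝟙 X - e) + x (n + 1) ≫ e = 0 := fun n => by
    have := congrArg (fun q => q ≫ π n) (kernel.condition ψ)
    simpa [ψ, x, π] using this
  have hxe : ∀ n, x n ≫ e = x n := fun n => by
    have := congrArg (fun q => q ≫ (𝟙 X - e)) (hx n)
    simp only [Preadditive.add_comp, Category.assoc, h2, h3, comp_zero, add_zero, zero_comp] at this
    rw [Preadditive.comp_sub, Category.comp_id, sub_eq_zero] at this
    exact this.symm
  have hxs : ∀ n, x (n + 1) = 0 := fun n => by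
    have := hx n
    rwa [Preadditive.comp_sub, Category.comp_id, hxe, sub_self, zero_add, hxe] at this
  let l : X ⟶ P := Pi.lift fun n => match n with
    | 0 => e
    | _ + 1 => 0
  have hl : l ≫ ψ = 0 := by
    refine Pi.hom_ext _ _ fun n => ?_
    simp only [ψ, Category.assoc, limit.lift_π, Fan.mk_π_app, zero_comp, Preadditive.comp_add]
    rcases n with _ | n <;>
      simp only [π, l, Pi.lift, ← Category.assoc, limit.lift_π, Fan.mk_π_app, zero_comp, add_zero,
        zero_add, h2]
  refine ⟨kernel ψ, x 0, kernel.lift ψ l hl, ?_, ?_⟩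
  · rw [← cancel_mono (kernel.ι ψ), Category.assoc, kernel.lift_ι, Category.id_comp]
    refine Pi.hom_ext _ _ fun n => ?_
    rcases n with _ | n
    · simp only [l, Category.assoc, limit.lift_π, Fan.mk_π_app]
      exact hxe 0
    · simp only [l, Category.assoc, limit.lift_π, Fan.mk_π_app, comp_zero]
      exact (hxs n).symm
  · simp [x, π, l]

end Groth.Agent.S6795
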