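import Groth.Statements.S6796
import Mathlib


-- import your own Groth.Agent.* helpers here

set_option autoImplicit false
open CategoryTheory CategoryTheory.Limits
universe v u
open CategoryTheory CategoryTheory.Preadditive

namespace Groth.Agent.S6796

/-- A preadditive category with countable coproducts in which split monomorphisms have cokernels is
idempotent complete (Karoubian). -/
theorem result {D : Type u} [Category.{v} D] [Preadditive D] [HasCountableCoproducts D] (hk : ∀ ⦃X Y : D⦄ (f : X ⟶ Y), IsSplitMono f → HasCokernel f) : IsIdempotentComplete D := by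
  refine ⟨fun X e he => ?_⟩
  let P := sigmaObj (fun _ : ℕ => X)
  let ι : ∀ n, X ⟶ P := fun n => Sigma.ι (fun _ : ℕ => X) n
  let ψ : P ⟶ P := Sigma.desc fun n => (𝟙 X - e) ≫ ι n + e ≫ ι (n + 1)
  let s : P ⟶ P := Sigma.desc fun n => match n with
    | 0 => (𝟙 X - e) ≫ ι 0
    | n + 1 => (𝟙 X - e) ≫ ι (n + 1) + e ≫ ι n
  have h1 : (𝟙 X - e) ≫ e = 0 := by rw [Preadditive.sub_comp, Category.id_comp, he, sub_self]
  have h2 : e ≫ (𝟙 X - e) = 0 := by rw [Preadditive.comp_sub, Category.comp_id, he, sub_self]
  have h3 : (𝟙 X - e) ≫ (𝟙 X - e) = 𝟙 X - e := by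
    rw [Preadditive.comp_sub, Category.comp_id, h1, sub_zero]
  have hs : ψ ≫ s = 𝟙 P := by
    refine Sigma.hom_ext _ _ fun n => ?_
    simp only [ψ, ι, colimit.ι_desc_assoc, Cofan.mk_ι_app, Category.comp_id, Preadditive.add_comp,
      Category.assoc]
    rcases n with _ | n <;>
      simp only [ι, s, colimit.ι_desc, Cofan.mk_ι_app, Preadditive.comp_add] <;>
      simp only [← Category.assoc, h1, h2, h3, he, zero_comp, zero_add, add_zero] <;>
      simp only [Preadditive.sub_comp, Category.id_comp, Category.comp_id] <;>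
      abel_nf <;> exact (Category.id_comp _).trans (Category.comp_id _).symm
  haveI : HasCokernel ψ := hk ψ ⟨⟨⟨s, hs⟩⟩⟩
  let x : ℕ → (X ⟶ cokernel ψ) := fun n => ι n ≫ cokernel.π ψ
  have hx : ∀ n, (𝟙 X - e) ≫ x n + e ≫ x (n + 1) = 0 := fun n => by
    have := congrArg (fun q => ι n ≫ q) (cokernel.condition ψ)
    simpa [ψ, x, ι] using this
  have hxe : ∀ n, e ≫ x n = x n := fun n => by
    have := congrArg (fun q => (𝟙 X - e) ≫ q) (hx n)
    simp only [Preadditive.comp_add, ← Category.assoc, h1, h3, zero_comp, add_zero, comp_zero] at this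
    rw [Preadditive.sub_comp, Category.id_comp, sub_eq_zero] at this
    exact this.symm
  have hxs : ∀ n, x (n + 1) = 0 := fun n => by
    have := hx n
    rwa [Preadditive.sub_comp, Category.id_comp, hxe, sub_self, zero_add, hxe] at this
  let l : P ⟶ X := Sigma.desc fun n => match n with
    | 0 => e
    | _ + 1 => 0
  have hl : ψ ≫ l = 0 := by
    refine Sigma.hom_ext _ _ fun n => ?_
    simp only [ψ, ι, colimit.ι_desc_assoc, Cofan.mk_ι_app, comp_zero, Preadditive.add_comp, Category.assoc]
    rcases n with _ | n <;>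
      simp only [l, colimit.ι_desc, Cofan.mk_ι_app, comp_zero, add_zero, h1]
  refine ⟨cokernel ψ, cokernel.desc ψ l hl, x 0, ?_, ?_⟩
  · rw [← cancel_epi (cokernel.π ψ), cokernel.π_desc_assoc, Category.comp_id]
    refine Sigma.hom_ext _ _ fun n => ?_
    rcases n with _ | n
    · simp only [l, colimit.ι_desc_assoc, Cofan.mk_ι_app]
      exact hxe 0
    · simp only [l, colimit.ι_desc_assoc, Cofan.mk_ι_app, zero_comp]
      exact (hxs n).symm
  · simp [x, ι, l]

end Groth.Agent.S6796
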