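import Groth.Statements.S6799
import Mathlib
-- import your own Groth.Agent.* helpers here

set_option autoImplicit false
open CategoryTheory Opposite
universe u
open SSet

namespace Groth.Agent.S6799

set_option maxHeartbeats 400000
universe v

open Simplicial MonoidalCategory in
lemma key {U V : SSet.{v}} (f₀ f₁ : V ⟶ U) (n : ℕ)
    (h : ∀ i : ℕ, i < n → f₀.app (op (SimplexCategory.mk i)) = f₁.app (op (SimplexCategory.mk i)))
    (m m' : ℕ) (hm : m ≤ n) (hm' : m' ≤ n) (θ : ⦋m'⦌ ⟶ ⦋m⦌) :
    (∀ x, f₀.app _ (V.map θ.op x) = f₁.app _ (V.map θ.op x)) ∨ (m' = m ∧ HEq θ (𝟙 ⦋m⦌)) := by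
  by_cases h' : m' < n
  · exact Or.inl fun x => by rw [h m' h']
  · have hm'' : m' = n := by omega
    by_cases h'' : m < n
    · refine Or.inl fun x => ?_
      rw [NatTrans.naturality_apply f₀ θ.op x, NatTrans.naturality_apply f₁ θ.op x, h m h'']
    · obtain rfl : m = n := by omega
      subst hm''
      by_cases hi : Function.Injective θ.toOrderHom
      · haveI := SimplexCategory.mono_iff_injective.mpr hi
        exact Or.inr ⟨rfl, heq_of_eq (SimplexCategory.eq_id_of_mono θ)⟩
      · cases m' with
        | zero => exact absurd (fun a b _ => Subsingleton.elim (α := Fin 1) a b) hi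
        | succ k =>
          obtain ⟨i, θ', rfl⟩ := SimplexCategory.eq_σ_comp_of_not_injective θ hi
          refine Or.inl fun x => ?_
          rw [op_comp, V.map_comp, types_comp_apply, NatTrans.naturality_apply f₀ (SimplexCategory.σ i).op,
            NatTrans.naturality_apply f₁ (SimplexCategory.σ i).op, h k (Nat.lt_succ_self k)]


/-- Two maps between `n`-coskeletal simplicial sets which agree on simplices of dimension `< n` are
homotopic, by a single homotopy. -/
theorem result {U V : SSet.{u}} (f₀ f₁ : V ⟶ U) (n : ℕ) (h : ∀ i : ℕ, i < n → f₀.app (op (SimplexCategory.mk i)) = f₁.app (op (SimplexCategory.mk i))) [SimplicialObject.IsCoskeletal U n] [SimplicialObject.IsCoskeletal V n] : Nonempty (SSet.Homotopy f₀ f₁) := by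
  classical
  let L := (SimplexCategory.Truncated.inclusion n).op
  haveI : U.IsRightKanExtension (𝟙 (L ⋙ U)) := SimplicialObject.IsCoskeletal.isRightKanExtension
  let G : SSet.{u} := MonoidalCategoryStruct.tensorObj V (SSet.stdSimplex.{u}.obj (SimplexCategory.mk 1))
  let φ : ∀ j : (SimplexCategory.Truncated n)ᵒᵖ, G.obj (L.obj j) → U.obj (L.obj j) :=
    fun j p => if (∀ k, (SSet.stdSimplex.objEquiv p.2).toOrderHom k = 1) then f₁.app _ p.1 else f₀.app _ p.1
  let β : L ⋙ G ⟶ L ⋙ U :=
    { app := fun j => ↾(φ j)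
      naturality := by
        rintro ⟨⟨⟨m⟩, hm⟩⟩ ⟨⟨⟨m'⟩, hm'⟩⟩ g
        ext p
        show φ _ (G.map (L.map g) p) = U.map (L.map g) (φ _ p)
        have hfst : (G.map (L.map g) p).1 = V.map (L.map g) p.1 := rfl
        rcases key f₀ f₁ n h m m' hm hm' g.unop.hom with hk | ⟨rfl, hk⟩
        · have h1 : φ _ (G.map (L.map g) p) = f₀.app _ (V.map (L.map g) p.1) := by
            simp only [φ, hfst]
            split_ifs
            · exact (hk p.1).symm
            · rfl
          rw [h1]
          simp only [φ]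
          split_ifs
          · rw [← NatTrans.naturality_apply f₁ (L.map g) p.1]; exact hk p.1
          · exact NatTrans.naturality_apply f₀ (L.map g) p.1
        · have hg : L.map g = 𝟙 _ := by
            show g.unop.hom.op = 𝟙 _
            rw [eq_of_heq hk]; rfl
          rw [hg]
          simp }
  let H := U.liftOfIsRightKanExtension (𝟙 (L ⋙ U)) G β
  have hH : ∀ j p, H.app (L.obj j) p = φ j p := fun j p => by
    have := congrArg (fun t => t p) (U.liftOfIsRightKanExtension_fac_app (𝟙 (L ⋙ U)) G β j)
    exact this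
  refine ⟨{ h := H, h₀ := ?_, h₁ := ?_, rel := ?_ }⟩
  · refine U.hom_ext_of_isRightKanExtension (𝟙 (L ⋙ U)) _ _ ?_
    rw [Category.comp_id, Category.comp_id]
    ext j x
    show H.app (L.obj j) (SSet.ι₀.app _ x) = f₀.app _ x
    rw [hH]
    simp only [φ]
    refine (if_neg fun hall => ?_).trans rfl
    exact zero_ne_one (α := Fin 2) (hall 0)
  · refine U.hom_ext_of_isRightKanExtension (𝟙 (L ⋙ U)) _ _ ?_
    rw [Category.comp_id, Category.comp_id]
    ext j x
    show H.app (L.obj j) (SSet.ι₁.app _ x) = f₁.app _ x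
    rw [hH]
    simp only [φ]
    split_ifs with hall
    · rfl
    · exact absurd (fun k => rfl) hall
  · ext j ⟨⟨x, hx⟩, y⟩
    exact hx.elim

end Groth.Agent.S6799
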