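import Groth.Statements.S6801
import Mathlib.CategoryTheory.Subobject.Limits
import Mathlib.CategoryTheory.Subobject.Lattice
-- import your own Groth.Agent.* helpers here

set_option autoImplicit false
open CategoryTheory
universe v u
open CategoryTheory.Limits
open SpSeq SpSeq.FilObj

namespace Groth.Agent.S6801

/-- The composite of two strict morphisms of filtered objects is strict when the second one is a
monomorphism. (In general a composite of strict morphisms is not strict.) -/
theorem result {A : Type u} [Category.{v} A] [Abelian A] {K L M : SpSeq.FilObj A} (f : K ⟶ L) (g : L ⟶ M) (hf : SpSeq.FilObj.IsStrict f) (hg : SpSeq.FilObj.IsStrict g) [Mono g.hom] : SpSeq.FilObj.IsStrict (f ≫ g) := by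
  have he : ∀ {W X Y : A} (e : W ⟶ X) [Epi e] (q : X ⟶ Y), imageSubobject (e ≫ q) = imageSubobject q :=
    fun e _ q => by
      haveI := imageSubobject_comp_le_epi_of_epi e q
      haveI := isIso_of_mono_of_epi (Subobject.ofLE _ _ (imageSubobject_comp_le e q))
      exact Subobject.eq_of_comm (asIso (Subobject.ofLE _ _ (imageSubobject_comp_le e q))) (by simp)
  have hmap : ∀ {W : A} (a : W ⟶ L.obj), imageSubobject (a ≫ g.hom) = (Subobject.map g.hom).obj (imageSubobject a) := by
    intro W a
    conv_lhs => rw [← imageSubobject_arrow_comp a, Category.assoc]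
    rw [he, imageSubobject_mono, ← Subobject.map_mk, Subobject.mk_arrow]
  intro p
  show imageSubobject ((K.fil p).arrow ≫ f.hom ≫ g.hom) = imageSubobject (f.hom ≫ g.hom) ⊓ M.fil p
  have h2 : (Subobject.map g.hom).obj (L.fil p) = imageSubobject g.hom ⊓ M.fil p := by
    rw [← hg p, hmap, imageSubobject_mono, Subobject.mk_arrow]
  rw [← Category.assoc, hmap, hf p, Subobject.inf_map, h2, ← hmap, ← inf_assoc,
    inf_eq_left.mpr (imageSubobject_comp_le f.hom g.hom)]

end Groth.Agent.S6801
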