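import Groth.Statements.S6802
import Mathlib.CategoryTheory.Subobject.Limits
import Mathlib.CategoryTheory.Subobject.Lattice
-- import your own Groth.Agent.* helpers here

set_option autoImplicit false
open CategoryTheory
universe v u
open CategoryTheory.Limits
open SpSeq SpSeq.FilObj

namespace Groth.Agent.S6802

/-- The composite of two strict morphisms of filtered objects is strict when the first one is an
epimorphism. -/
theorem result {A : Type u} [Category.{v} A] [Abelian A] {K L M : SpSeq.FilObj A} (f : K ⟶ L) (g : L ⟶ M) (hf : SpSeq.FilObj.IsStrict f) (hg : SpSeq.FilObj.IsStrict g) [Epi f.hom] : SpSeq.FilObj.IsStrict (f ≫ g) := by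
  have he : ∀ {W X Y : A} (e : W ⟶ X) [Epi e] (q : X ⟶ Y), imageSubobject (e ≫ q) = imageSubobject q :=
    fun e _ q => by
      haveI := imageSubobject_comp_le_epi_of_epi e q
      haveI := isIso_of_mono_of_epi (Subobject.ofLE _ _ (imageSubobject_comp_le e q))
      exact Subobject.eq_of_comm (asIso (Subobject.ofLE _ _ (imageSubobject_comp_le e q))) (by simp)
  have htop : imageSubobject f.hom = ⊤ := by
    rw [← Category.comp_id f.hom, he, imageSubobject_mono, Subobject.top_eq_id]
  intro p
  show imageSubobject ((K.fil p).arrow ≫ f.hom ≫ g.hom) = imageSubobject (f.hom ≫ g.hom) ⊓ M.fil p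
  have h1 : imageSubobject ((K.fil p).arrow ≫ f.hom) = L.fil p := by rw [hf p, htop, top_inf_eq]
  conv_lhs => rw [← Category.assoc, ← imageSubobject_arrow_comp ((K.fil p).arrow ≫ f.hom), Category.assoc]
  rw [he (factorThruImageSubobject _), h1, he f.hom g.hom, hg p]

end Groth.Agent.S6802
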