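import Groth.Statements.S6804
import Groth.Agent.FilObjLib.Limits
import Groth.Agent.S6801


set_option autoImplicit false
set_option linter.all false
open CategoryTheory CategoryTheory.Limits
universe v u
open SpSeq SpSeq.FilObj

namespace Groth.Agent.S6804

/-- Fibre products exist in the category of filtered objects of an abelian category, and the base change
of a strict morphism is strict. -/
theorem result {A : Type u} [Category.{v} A] [Abelian A] {K L M : SpSeq.FilObj A} (f : L ⟶ K) (g : M ⟶ K) : HasPullback f g ∧ ∀ (P : SpSeq.FilObj A) (g' : P ⟶ L) (f' : P ⟶ M), IsPullback g' f' f g → SpSeq.FilObj.IsStrict f → SpSeq.FilObj.IsStrict f' := by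
  have h0 := FilObjLib.isPullback f g
  refine ⟨h0.hasPullback, fun P g' f' hP hf => ?_⟩
  let e := hP.isoIsPullback _ _ h0
  intro p
  have hs := FilObjLib.isStrict_pbSnd f g hf p
  have he := FilObjLib.isStrict_iso e p
  have hcomp : e.hom ≫ FilObjLib.pbSnd f g = f' := hP.isoIsPullback_hom_snd _ _ h0
  haveI : IsIso e.hom.hom := (SpSeq.FilObj.forget.mapIso e).isIso_hom
  have hq : ∀ {W X Y : A} (a : W ⟶ X) [Epi a] (q : X ⟶ Y), imageSubobject (a ≫ q) = imageSubobject q :=
    fun a _ q => le_antisymm (imageSubobject_comp_le _ _) (by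
      haveI := imageSubobject_comp_le_epi_of_epi a q
      haveI := isIso_of_mono_of_epi (Subobject.ofLE _ _ (imageSubobject_comp_le a q))
      exact (Subobject.eq_of_comm (asIso (Subobject.ofLE _ _ (imageSubobject_comp_le a q))) (by simp)).ge)
  have h1 : imageSubobject e.hom.hom = ⊤ := by
    rw [← Category.comp_id e.hom.hom, hq, imageSubobject_mono, Subobject.top_eq_id]
  rw [h1, top_inf_eq] at he
  rw [← hcomp]
  show imageSubobject ((P.fil p).arrow ≫ e.hom.hom ≫ (FilObjLib.pbSnd f g).hom) =
    imageSubobject (e.hom.hom ≫ (FilObjLib.pbSnd f g).hom) ⊓ M.fil p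
  rw [hq e.hom.hom, ← Category.assoc, ← imageSubobject_arrow_comp ((P.fil p).arrow ≫ e.hom.hom), Category.assoc,
    hq (factorThruImageSubobject _), he]
  exact hs

end Groth.Agent.S6804
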