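import Groth.Statements.S6806
import Mathlib
import Mathlib
-- import your own Groth.Agent.* helpers here

set_option autoImplicit false
open CategoryTheory CategoryTheory.Limits
universe v u
open CategoryTheory CategoryTheory.Abelian Opposite

namespace Groth.Agent.S6806

/-- For an `m`-truncated simplicial object `U` of an abelian category, the normalized Moore complex of
its free extension `i_{m!} U` (left adjoint of truncation) is zero in every degree `n > m`. Here the
normalized complex in degree `n` is the intersection of the kernels of the faces `d_1, …, d_n`; the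
published statement intersects the kernels of `d_0, …, d_{n-1}` instead, and the two versions
correspond under reversal of the ordering of each `[n]`, so both vanish. -/
theorem result {A : Type u} [Category.{v} A] [Abelian A] (m : ℕ) [∀ F : (SimplexCategory.Truncated m)ᵒᵖ ⥤ A, (SimplexCategory.Truncated.inclusion m).op.HasLeftKanExtension F] (U : SimplicialObject.Truncated A m) (n : ℕ) (hn : m < n) : AlgebraicTopology.NormalizedMooreComplex.objX ((SimplicialObject.Truncated.sk m).obj U) n = ⊥ := by
  classical
  let ι := (SimplexCategory.Truncated.inclusion m).op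
  -- the indexing category of the pointwise extension is finite
  have hfin : ∀ Y : SimplexCategoryᵒᵖ, ι.HasPointwiseLeftKanExtensionAt U Y := fun Y => by
    haveI : ∀ a b : CostructuredArrow ι Y, Finite (a ⟶ b) := fun a b => by
      refine Finite.of_injective (fun f => ⇑(SimplexCategory.Hom.toOrderHom f.left.unop.hom)) (fun f g h => ?_)
      apply CommaMorphism.ext
      · apply Quiver.Hom.unop_inj
        apply ObjectProperty.hom_ext
        exact SimplexCategory.Hom.ext _ _ (DFunLike.coe_injective h)
      · exact Subsingleton.elim _ _
    haveI : Finite (CostructuredArrow ι Y) := by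
      let Ω := Σ k : Fin (m + 1), (Y.unop ⟶ SimplexCategory.mk k.val)
      let g : Ω → CostructuredArrow ι Y := fun p =>
        CostructuredArrow.mk (S := ι) (Y := op (⟨SimplexCategory.mk p.1.val, (show p.1.val ≤ m by omega)⟩ : SimplexCategory.Truncated m)) p.2.op
      haveI : ∀ k : Fin (m + 1), Finite (Y.unop ⟶ SimplexCategory.mk k.val) := fun k =>
        Finite.of_injective (fun f => ⇑(SimplexCategory.Hom.toOrderHom f)) (fun f g h => SimplexCategory.Hom.ext _ _ (DFunLike.coe_injective h))
      refine Finite.of_surjective g fun c => ?_
      obtain ⟨⟨⟨k, hk⟩⟩, ⟨⟨⟩⟩, f⟩ := c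
      exact ⟨⟨⟨k.len, Nat.lt_succ_of_le hk⟩, f.unop⟩, rfl⟩
    letI : FinCategory (CostructuredArrow ι Y) :=
      { fintypeObj := Fintype.ofFinite _, fintypeHom := fun a b => Fintype.ofFinite _ }
    haveI : HasFiniteColimits A := inferInstance
    exact (inferInstance : HasColimit (CostructuredArrow.proj ι Y ⋙ U))
  haveI : ι.HasPointwiseLeftKanExtension U := hfin
  let E := (SimplicialObject.Truncated.sk m).obj U
  let η : U ⟶ ι ⋙ E := (SimplicialObject.skAdj m).unit.app U
  haveI : E.IsLeftKanExtension η := by
    dsimp only [E, η, SimplicialObject.Truncated.sk, SimplicialObject.skAdj]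
    rw [Functor.lanAdjunction_unit]
    infer_instance
  let hp := (Functor.isPointwiseLeftKanExtensionOfIsLeftKanExtension E η) (op (SimplexCategory.mk n))
  have hP : (AlgebraicTopology.DoldKan.PInfty (X := E)).f n = 0 := by
    refine hp.hom_ext fun c => ?_
    refine Eq.trans ?_ comp_zero.symm
    change (η.app c.left ≫ E.map c.hom) ≫ (AlgebraicTopology.DoldKan.PInfty (X := E)).f n = 0
    refine (Category.assoc _ _ _).trans ?_
    have hθ : ¬ Mono c.hom.unop := fun hm => by
      have h1 := SimplexCategory.len_le_of_mono c.hom.unop
      have h2 : c.left.unop.obj.len ≤ m := c.left.unop.property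
      change n ≤ c.left.unop.obj.len at h1
      omega
    have h0 := AlgebraicTopology.DoldKan.degeneracy_comp_PInfty E n c.hom.unop hθ
    exact (congrArg (fun x => η.app c.left ≫ x) h0).trans comp_zero
  rw [← Subobject.mk_arrow (AlgebraicTopology.NormalizedMooreComplex.objX E n)]
  refine Subobject.mk_eq_bot_iff_zero.mpr ?_
  have h := congr($(AlgebraicTopology.DoldKan.inclusionOfMooreComplexMap_comp_PInfty E).f n)
  change (AlgebraicTopology.NormalizedMooreComplex.objX E n).arrow ≫ AlgebraicTopology.DoldKan.PInfty.f n =
    (AlgebraicTopology.NormalizedMooreComplex.objX E n).arrow at h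
  rw [hP, comp_zero] at h
  exact h.symm

end Groth.Agent.S6806
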