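import Groth.Statements.S6807
import Groth.Agent.LimHomLib.Complex
-- import your own Groth.Agent.* helpers here

set_option autoImplicit false
set_option linter.style.haveILetI false
open CategoryTheory CategoryTheory.Limits
universe u
open HomAlg3 Opposite

namespace Groth.Agent.S6807

/-- For an inverse system of cochain complexes of abelian groups over `ℕ` whose terms in degrees `n-2`
and `n-1` form Mittag-Leffler systems and whose degree-`(n-1)` cohomologies form an essentially
constant system, the canonical map from the degree-`n` cohomology of the limit complex to the limit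
of the degree-`n` cohomologies is an isomorphism. (The published statement is for four-term
complexes in degrees `-2, …, 1`; only those four degrees of a longer complex enter.) -/
theorem result (K : ℕᵒᵖ ⥤ HomologicalComplex AddCommGrpCat.{u} (ComplexShape.up ℤ)) (n : ℤ) (h2 : ((K ⋙ HomologicalComplex.eval _ _ (n - 2)) ⋙ forget AddCommGrpCat).IsMittagLeffler) (h1 : ((K ⋙ HomologicalComplex.eval _ _ (n - 1)) ⋙ forget AddCommGrpCat).IsMittagLeffler) (hH : ∃ (C₀ : AddCommGrpCat.{u}) (c : (Functor.const ℕᵒᵖ).obj C₀ ⟶ K ⋙ HomologicalComplex.homologyFunctor _ _ (n - 1)), DerCA.IsEssConstant (K ⋙ HomologicalComplex.homologyFunctor _ _ (n - 1)) C₀ c) : IsIso (limit.post K (HomologicalComplex.homologyFunctor _ _ n)) := by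
  have hcof : ∃ s : Set ℕ, s.Countable ∧ ∀ i, ∃ j ∈ s, i ≤ j :=
    ⟨Set.univ, Set.countable_univ, fun i => ⟨i, trivial, le_rfl⟩⟩
  have hML : (LimHomLib.hom K (n - 1) ⋙ forget AddCommGrpCat).IsMittagLeffler := by
    obtain ⟨C₀, c, i, s, -, hc⟩ := hH
    rw [LimHomLib.isMittagLeffler_nat_iff]
    intro j
    obtain ⟨k, hi, hj, hk⟩ := hc j
    refine ⟨k, hj, fun k' hk' => ?_⟩
    rintro _ ⟨d, rfl⟩
    refine ⟨c.app (op k') (s ((LimHomLib.hom K (n - 1)).map (homOfLE hi).op d)), ?_⟩
    have hnat := c.naturality (homOfLE (hj.trans hk')).op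
    have h1 := congrArg (fun φ => φ (s ((LimHomLib.hom K (n - 1)).map (homOfLE hi).op d))) hnat
    have h2 := congrArg (fun φ => φ d) hk
    simp only [ConcreteCategory.comp_apply] at h1 h2
    exact h1.symm.trans h2.symm
  rw [ConcreteCategory.isIso_iff_bijective]
  exact ⟨LimHomLib.post_injective K hcof (l := n - 2) (m := n - 1) (by omega) (by omega) h2 hML,
    LimHomLib.post_surjective K hcof (m := n - 1) (by omega) h1⟩

end Groth.Agent.S6807
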