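import Groth.Statements.S6808
import Mathlib


-- import your own Groth.Agent.* helpers here

set_option autoImplicit false
open CategoryTheory Opposite
universe u
open SSet

namespace Groth.Agent.S6808

/-- A map of simplicial sets preserving non-degeneracy of simplices and injective on non-degenerate
simplices is injective in every dimension. -/
theorem result {U V : SSet.{u}} (f : U ⟶ V) (ha : ∀ (n : ℕ) (x : U.obj (op (SimplexCategory.mk n))), x ∈ U.nonDegenerate n → f.app (op (SimplexCategory.mk n)) x ∈ V.nonDegenerate n) (hb : ∀ n : ℕ, Set.InjOn (f.app (op (SimplexCategory.mk n))) (U.nonDegenerate n)) (n : ℕ) : Function.Injective (f.app (op (SimplexCategory.mk n))) := by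
  intro x y hxy
  obtain ⟨m₁, f₁, hf₁, a, hx⟩ := U.exists_nonDegenerate x
  obtain ⟨m₂, f₂, hf₂, b, hy⟩ := U.exists_nonDegenerate y
  haveI := hf₁
  haveI := hf₂
  let a' : V.nonDegenerate m₁ := ⟨f.app _ a.1, ha m₁ a.1 a.2⟩
  let b' : V.nonDegenerate m₂ := ⟨f.app _ b.1, ha m₂ b.1 b.2⟩
  have e1 : f.app (op (SimplexCategory.mk n)) x = V.map f₁.op a'.1 := by
    rw [hx]; exact NatTrans.naturality_apply f f₁.op a.1
  have e2 : f.app (op (SimplexCategory.mk n)) x = V.map f₂.op b'.1 := by
    rw [hxy, hy]; exact NatTrans.naturality_apply f f₂.op b.1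
  obtain rfl := V.unique_nonDegenerate_dim _ f₁ a' e1 f₂ b' e2
  obtain rfl := V.unique_nonDegenerate_map _ f₁ a' e1 f₂ b' e2
  have e3 := V.unique_nonDegenerate_simplex _ f₁ a' e1 f₁ b' e2
  have e4 : a.1 = b.1 := hb _ a.2 b.2 (congrArg Subtype.val e3)
  rw [hx, hy, e4]

end Groth.Agent.S6808
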