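import Groth.Statements.S6812
import Mathlib


set_option autoImplicit false
set_option linter.all false
open CategoryTheory
universe u
open SSet

namespace Groth.Agent.S6812

open Opposite Simplicial Limits

variable (U : SSet.{u}) (n : ℕ)

/-- the free simplicial set on the truncation -/
noncomputable abbrev W : SSet.{u} := (SSet.Truncated.sk n).obj ((SSet.truncation n).obj U)

noncomputable abbrev tobj (i : ℕ) (hi : i ≤ n) : (SimplexCategory.Truncated n)ᵒᵖ := op ⟨⦋i⦌, hi⟩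

noncomputable def eta (i : ℕ) (hi : i ≤ n) (y : U _⦋i⦌) : (W U n) _⦋i⦌ :=
  ((SSet.skAdj n).unit.app ((SSet.truncation n).obj U)).app (tobj n i hi) y

theorem eta_nat {i j : ℕ} (hi : i ≤ n) (hj : j ≤ n) (h : ⦋i⦌ ⟶ ⦋j⦌) (y : U _⦋j⦌) :
    eta U n i hi (U.map h.op y) = (W U n).map h.op (eta U n j hj y) :=
  NatTrans.naturality_apply ((SSet.skAdj n).unit.app ((SSet.truncation n).obj U))
    ((ObjectProperty.homMk h : (⟨⦋i⦌, hi⟩ : SimplexCategory.Truncated n) ⟶ ⟨⦋j⦌, hj⟩)).op y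

theorem eta_counit {i : ℕ} (hi : i ≤ n) (y : U _⦋i⦌) :
    ((SSet.skAdj n).counit.app U).app (op ⦋i⦌) (eta U n i hi y) = y := by
  have := (SSet.skAdj n).right_triangle_components U
  exact ConcreteCategory.congr_hom (congrArg (fun t => NatTrans.app t (tobj n i hi)) this) y

theorem mm (X : SSet.{u}) {a b c : ℕ} (f : ⦋a⦌ ⟶ ⦋b⦌) (g : ⦋b⦌ ⟶ ⦋c⦌) (y : X _⦋c⦌) :
    X.map (f ≫ g).op y = X.map f.op (X.map g.op y) :=
  ConcreteCategory.congr_hom (X.map_comp g.op f.op) y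

theorem to_canonical {m i : ℕ} (hi : i ≤ n) (f : ⦋m⦌ ⟶ ⦋i⦌) (y : U _⦋i⦌) :
    ∃ (k : ℕ) (hk : k ≤ n) (g : ⦋m⦌ ⟶ ⦋k⦌) (_ : Epi g) (z : U.nonDegenerate k),
      U.map f.op y = U.map g.op z ∧
        (W U n).map f.op (eta U n i hi y) = (W U n).map g.op (eta U n k hk z) := by
  obtain ⟨p, hp⟩ : ∃ p : ℕ, image f = ⦋p⦌ := ⟨_, rfl⟩
  let e : ⦋m⦌ ⟶ ⦋p⦌ := factorThruImage f ≫ eqToHom hp
  let μ : ⦋p⦌ ⟶ ⦋i⦌ := eqToHom hp.symm ≫ image.ι f
  have hf : f = e ≫ μ := by simp [e, μ]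
  have hpi : p ≤ i := SimplexCategory.len_le_of_mono μ
  obtain ⟨k, b, hb, z, hz⟩ := U.exists_nonDegenerate (U.map μ.op y)
  haveI := hb
  have hkp : k ≤ p := SimplexCategory.len_le_of_epi b
  refine ⟨k, (hkp.trans hpi).trans hi, e ≫ b, inferInstance, z, ?_, ?_⟩
  · exact (congrArg (fun h => U.map h.op y) hf).trans ((mm U e μ y).trans
      ((congrArg (fun t => U.map e.op t) hz).trans (mm U e b z.1).symm))
  · refine (congrArg (fun h => (W U n).map h.op (eta U n i hi y)) hf).trans ((mm _ e μ _).trans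
      (Eq.trans ?_ (mm _ e b _).symm))
    refine congrArg (fun t => (W U n).map e.op t) ?_
    rw [← eta_nat U n (hpi.trans hi) hi μ y, hz, eta_nat U n (hpi.trans hi) ((hkp.trans hpi).trans hi) b]

theorem val_unique {m i j : ℕ} (hi : i ≤ n) (hj : j ≤ n) (f : ⦋m⦌ ⟶ ⦋i⦌) (g : ⦋m⦌ ⟶ ⦋j⦌)
    (y : U _⦋i⦌) (z : U _⦋j⦌) (h : U.map f.op y = U.map g.op z) :
    (W U n).map f.op (eta U n i hi y) = (W U n).map g.op (eta U n j hj z) := by
  obtain ⟨k, hk, f', hf', y', hy, hy'⟩ := to_canonical U n hi f y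
  obtain ⟨l, hl, g', hg', z', hz, hz'⟩ := to_canonical U n hj g z
  haveI := hf'
  haveI := hg'
  obtain rfl := U.unique_nonDegenerate_dim _ f' y' hy g' z' (h.trans hz)
  obtain rfl := U.unique_nonDegenerate_simplex _ f' y' hy g' z' (h.trans hz)
  obtain rfl := U.unique_nonDegenerate_map _ f' y' hy g' y' (h.trans hz)
  exact hy'.trans hz'.symm

theorem exists_rep {m : ℕ} (x : U _⦋m⦌) (hx : x ∈ (U.skeleton (n + 1)).obj (op ⦋m⦌)) :
    ∃ (i : ℕ) (hi : i ≤ n) (f : ⦋m⦌ ⟶ ⦋i⦌) (y : U _⦋i⦌), x = U.map f.op y := by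
  obtain ⟨k, f, hf, y, rfl⟩ := U.exists_nonDegenerate x
  haveI := hf
  refine ⟨k, ?_, f, y, rfl⟩
  have h2 : y.1 ∈ (U.skeleton (n + 1)).obj (op ⦋k⦌) := by
    obtain ⟨⟨s⟩⟩ := isSplitEpi_of_epi f
    have := (U.skeleton (n + 1)).map s.section_.op hx
    have e : U.map s.section_.op (U.map f.op y.1) = y.1 := by
      have h0 : f.op ≫ s.section_.op = 𝟙 _ := by rw [← op_comp, s.id]; rfl
      exact (ConcreteCategory.congr_hom ((U.map_comp _ _).symm.trans ((congrArg U.map h0).trans (U.map_id _))) y.1)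
    exact e ▸ this
  exact Nat.lt_succ_iff.1 ((SSet.mem_skeleton_obj_iff_of_nonDegenerate U y (n + 1)).1 h2)

noncomputable def psiFun {m : ℕ} (x : (U.skeleton (n + 1) : SSet.{u}) _⦋m⦌) : (W U n) _⦋m⦌ :=
  (W U n).map (exists_rep U n x.1 x.2).choose_spec.choose_spec.choose.op
    (eta U n _ (exists_rep U n x.1 x.2).choose_spec.choose
      (exists_rep U n x.1 x.2).choose_spec.choose_spec.choose_spec.choose)

theorem psiFun_eq {m i : ℕ} (x : (U.skeleton (n + 1) : SSet.{u}) _⦋m⦌) (hi : i ≤ n) (f : ⦋m⦌ ⟶ ⦋i⦌)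
    (y : U _⦋i⦌) (h : x.1 = U.map f.op y) :
    psiFun U n x = (W U n).map f.op (eta U n i hi y) :=
  val_unique U n _ hi _ f _ y
    ((exists_rep U n x.1 x.2).choose_spec.choose_spec.choose_spec.choose_spec.symm.trans h)

noncomputable def psi : (U.skeleton (n + 1) : SSet.{u}) ⟶ W U n where
  app k := TypeCat.ofHom fun x => psiFun U n (m := k.unop.len) x
  naturality := by
    rintro ⟨⟨m⟩⟩ ⟨⟨m'⟩⟩ g
    ext x
    obtain ⟨i, hi, f, y, h⟩ := exists_rep U n (m := m) x.1 x.2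
    show psiFun U n (m := m') _ = (W U n).map g (psiFun U n (m := m) x)
    rw [psiFun_eq U n x hi f y h, psiFun_eq U n _ hi (g.unop ≫ f) y (by
      show U.map g x.1 = _
      rw [h]
      exact (ConcreteCategory.congr_hom (U.map_comp f.op g) y).symm)]
    exact ConcreteCategory.congr_hom ((W U n).map_comp f.op g) (eta U n i hi y)


/-- For a simplicial set `U`, the counit `i_{n!} sk_n U ⟶ U` of the skeleton adjunction is a
monomorphism whose image is the subcomplex of `U` generated by its simplices of dimension `≤ n`. -/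
theorem result (U : SSet.{u}) (n : ℕ) : Mono ((SSet.skAdj n).counit.app U) ∧ SSet.Subcomplex.range ((SSet.skAdj n).counit.app U) = U.skeleton (n + 1) := by
  let S := U.skeleton (n + 1)
  let c := (SSet.skAdj n).counit.app U
  let β : (SSet.truncation n).obj U ⟶ (SSet.truncation n).obj (S : SSet.{u}) :=
    { app := fun k => TypeCat.ofHom fun x => ⟨x, U.mem_skeleton (i := k.unop.obj.len) x (Nat.lt_succ_iff.2 k.unop.property)⟩
      naturality := fun _ _ _ => by ext x; rfl }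
  let φ := ((SSet.skAdj n).homEquiv _ _).symm β
  have hφ : φ ≫ S.ι = c := by
    apply ((SSet.skAdj n).homEquiv _ _).injective
    rw [Adjunction.homEquiv_naturality_right, Equiv.apply_symm_apply, Adjunction.homEquiv_unit,
      Adjunction.right_triangle_components]
    rfl
  have hpsi : φ ≫ psi U n = 𝟙 _ := by
    apply ((SSet.skAdj n).homEquiv _ _).injective
    rw [Adjunction.homEquiv_naturality_right, Equiv.apply_symm_apply, Adjunction.homEquiv_unit,
      CategoryTheory.Functor.map_id]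
    refine Eq.trans ?_ (Category.comp_id _).symm
    ext ⟨⟨⟨m⟩, hm⟩⟩ x
    show psiFun U n (m := m) _ = eta U n m hm x
    rw [psiFun_eq U n (m := m) _ hm (𝟙 _) x (by simp; rfl)]
    simp
  haveI : IsSplitMono φ := ⟨⟨⟨psi U n, hpsi⟩⟩⟩
  refine ⟨?_, le_antisymm ?_ ?_⟩
  · show Mono c
    rw [← hφ]
    infer_instance
  · show SSet.Subcomplex.range c ≤ _
    rw [← hφ]
    rintro k _ ⟨x, rfl⟩
    exact (φ.app k x).2
  · intro k x hx
    obtain ⟨⟨m⟩⟩ := k
    obtain ⟨i, hi, f, y, rfl⟩ := exists_rep U n x hx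
    refine ⟨(W U n).map f.op (eta U n i hi y), ?_⟩
    refine (NatTrans.naturality_apply c f.op _).trans ?_
    exact congrArg (fun t => U.map f.op t) (eta_counit U n hi y)

end Groth.Agent.S6812
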