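import Groth.Statements.S6814
import Mathlib

set_option autoImplicit false
set_option backward.isDefEq.respectTransparency false
set_option backward.isDefEq.respectTransparency.types false
set_option maxHeartbeats 1000000
set_option synthInstance.maxHeartbeats 400000
open CategoryTheory CategoryTheory.Limits Opposite
universe v u
open CategoryTheory CategoryTheory.SimplicialObject CategoryTheory.SimplicialObject.Truncated

namespace Groth.Agent.S6814

open SimplexCategory in
/-- The abstract universal property of the top term. -/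
private theorem cone_limit {C : Type u} [Category.{v} C] (n : ℕ) (U : (SimplexCategory.Truncated (n + 1))ᵒᵖ ⥤ C)
    (T : C) (π : Fin (n + 3) → (T ⟶ U.obj (op ⟨SimplexCategory.mk (n + 1), (SimplexCategory.len_mk (n + 1)).le⟩)))
    (hπ : ∀ i j : Fin (n + 2), i ≤ j → π (Fin.castSucc i) ≫ U.map (SimplexCategory.Truncated.δ (n + 1) j ((SimplexCategory.len_mk n).trans_le (Nat.le_succ n)) (SimplexCategory.len_mk (n + 1)).le).op = π j.succ ≫ U.map (SimplexCategory.Truncated.δ (n + 1) i ((SimplexCategory.len_mk n).trans_le (Nat.le_succ n)) (SimplexCategory.len_mk (n + 1)).le).op)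
    (huniv : ∀ (S : C) (g : Fin (n + 3) → (S ⟶ U.obj (op ⟨SimplexCategory.mk (n + 1), (SimplexCategory.len_mk (n + 1)).le⟩))), (∀ i j : Fin (n + 2), i ≤ j → g (Fin.castSucc i) ≫ U.map (SimplexCategory.Truncated.δ (n + 1) j ((SimplexCategory.len_mk n).trans_le (Nat.le_succ n)) (SimplexCategory.len_mk (n + 1)).le).op = g j.succ ≫ U.map (SimplexCategory.Truncated.δ (n + 1) i ((SimplexCategory.len_mk n).trans_le (Nat.le_succ n)) (SimplexCategory.len_mk (n + 1)).le).op) → ∃! t : S ⟶ T, ∀ k : Fin (n + 3), t ≫ π k = g k) :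
    ∃ (c : Cone (StructuredArrow.proj (op (⟨SimplexCategory.mk (n + 2), (SimplexCategory.len_mk (n + 2)).le⟩ : SimplexCategory.Truncated (n + 2)))
      (SimplexCategory.Truncated.incl (n + 1) (n + 2) (Nat.le_succ _)).op ⋙ U)) (e : c.pt = T), Nonempty (IsLimit c) ∧
      ∀ k : Fin (n + 3), c.π.app (StructuredArrow.mk (Y := op (⟨SimplexCategory.mk (n + 1), (SimplexCategory.len_mk (n + 1)).le⟩ : SimplexCategory.Truncated (n + 1)))
        (SimplexCategory.Truncated.δ (n + 2) k ((SimplexCategory.len_mk (n + 1)).trans_le (Nat.le_succ (n + 1))) (SimplexCategory.len_mk (n + 2)).le).op) = eqToHom e ≫ π k := by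
  classical
  let F := (SimplexCategory.Truncated.incl (n + 1) (n + 2) (Nat.le_succ _)).op
  let top1 : SimplexCategory.Truncated (n + 1) := ⟨SimplexCategory.mk (n + 1), (SimplexCategory.len_mk (n + 1)).le⟩
  -- well-definedness
  have wd : ∀ (X : SimplexCategory.Truncated (n + 1)) (k l : Fin (n + 3)) (u u' : X ⟶ top1),
      u.hom ≫ SimplexCategory.δ k = u'.hom ≫ SimplexCategory.δ l → π k ≫ U.map u.op = π l ≫ U.map u'.op := by
    intro X k l
    wlog hkl : k ≤ l generalizing k l with H
    · intro u u' h; exact (H l k (le_of_not_ge hkl) u' u h.symm).symm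
    intro u u' h
    rcases eq_or_lt_of_le hkl with rfl | hlt
    · rw [show u = u' from ObjectProperty.hom_ext _ ((cancel_mono _).1 h)]
    obtain ⟨i, rfl⟩ : ∃ i : Fin (n + 2), k = i.castSucc :=
      ⟨⟨k.1, by have := l.2; have : k.1 < l.1 := hlt; omega⟩, rfl⟩
    obtain ⟨j, rfl⟩ : ∃ j : Fin (n + 2), l = j.succ :=
      ⟨⟨l.1 - 1, by have := l.2; have : i.1 < l.1 := hlt; omega⟩, Fin.ext (by
        have : i.1 < l.1 := hlt
        simp; omega)⟩
    have hij : i ≤ j := Fin.le_def.2 (by have : i.1 < j.1 + 1 := hlt; omega)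
    have hne : ∀ x, u.hom.toOrderHom x ≠ j := by
      intro x hx
      have := congrArg (fun f : X.obj ⟶ SimplexCategory.mk (n + 2) => f.toOrderHom x) h
      simp only [SimplexCategory.comp_toOrderHom, OrderHom.comp_coe, Function.comp_apply] at this
      rw [hx] at this
      change i.castSucc.succAbove j = j.succ.succAbove (u'.hom.toOrderHom x) at this
      rw [Fin.succAbove_castSucc_of_le _ _ hij] at this
      exact Fin.succAbove_ne _ _ this.symm
    obtain ⟨v, hv⟩ := SimplexCategory.eq_comp_δ_of_not_surjective' u.hom j hne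
    have hu' : u'.hom = v ≫ SimplexCategory.δ i := by
      rw [← cancel_mono (SimplexCategory.δ j.succ), ← h, hv, Category.assoc, Category.assoc,
        SimplexCategory.δ_comp_δ hij]
    let bot : SimplexCategory.Truncated (n + 1) := ⟨SimplexCategory.mk n, (SimplexCategory.len_mk n).trans_le (Nat.le_succ n)⟩
    let v' : X ⟶ bot := ObjectProperty.homMk v
    have e1 : u = v' ≫ SimplexCategory.Truncated.δ (n + 1) j ((SimplexCategory.len_mk n).trans_le (Nat.le_succ n)) (SimplexCategory.len_mk (n + 1)).le :=
      ObjectProperty.hom_ext _ hv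
    have e2 : u' = v' ≫ SimplexCategory.Truncated.δ (n + 1) i ((SimplexCategory.len_mk n).trans_le (Nat.le_succ n)) (SimplexCategory.len_mk (n + 1)).le :=
      ObjectProperty.hom_ext _ hu'
    rw [e1, e2]
    erw [op_comp, op_comp, U.map_comp, U.map_comp]
    rw [← Category.assoc, ← Category.assoc]
    erw [hπ i j hij]
  -- every arrow factors through a face
  have fac : ∀ g : StructuredArrow (op (⟨SimplexCategory.mk (n + 2), (SimplexCategory.len_mk (n + 2)).le⟩ : SimplexCategory.Truncated (n + 2))) F,
      ∃ (k : Fin (n + 3)) (u : g.right.unop ⟶ top1), g.hom.unop.hom = u.hom ≫ SimplexCategory.δ k := by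
    intro g
    obtain ⟨k, u, h⟩ := SimplexCategory.eq_comp_δ_of_not_surjective g.hom.unop.hom (fun hs => by
      have h1 : g.right.unop.obj.len ≤ n + 1 := g.right.unop.property
      have h2 := Fintype.card_le_of_surjective _ hs
      simp at h2
      have h3 : n + 1 < g.right.unop.obj.len := h2
      omega)
    exact ⟨k, ObjectProperty.homMk u, h⟩
  choose K Uf hK using fac
  let c : Cone (StructuredArrow.proj (op (⟨SimplexCategory.mk (n + 2), (SimplexCategory.len_mk (n + 2)).le⟩ : SimplexCategory.Truncated (n + 2))) F ⋙ U) :=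
    { pt := T
      π :=
        { app := fun g => π (K g) ≫ U.map (Uf g).op
          naturality := fun g g' f => by
            dsimp
            rw [Category.id_comp, Category.assoc, ← U.map_comp]
            refine wd _ _ _ (Uf g') (f.right.unop ≫ Uf g) ?_
            rw [← hK g', ObjectProperty.FullSubcategory.comp_hom, Category.assoc, ← hK g, ← StructuredArrow.w f]
            rfl } }
  have hface : ∀ k, c.π.app (StructuredArrow.mk (Y := op top1)
      (SimplexCategory.Truncated.δ (n + 2) k ((SimplexCategory.len_mk (n + 1)).trans_le (Nat.le_succ (n + 1))) (SimplexCategory.len_mk (n + 2)).le).op) = π k := by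
    intro k
    let g := StructuredArrow.mk (T := F) (Y := op top1)
      (SimplexCategory.Truncated.δ (n + 2) k ((SimplexCategory.len_mk (n + 1)).trans_le (Nat.le_succ (n + 1))) (SimplexCategory.len_mk (n + 2)).le).op
    have := wd top1 (K g) k (Uf g) (𝟙 top1) (by rw [← hK g]; exact (Category.id_comp _).symm)
    rw [op_id, U.map_id, Category.comp_id] at this
    exact this
  refine ⟨c, rfl, ⟨?_⟩, fun k => by rw [eqToHom_refl, Category.id_comp]; exact hface k⟩
  let arr : Fin (n + 3) → StructuredArrow (op (⟨SimplexCategory.mk (n + 2), (SimplexCategory.len_mk (n + 2)).le⟩ : SimplexCategory.Truncated (n + 2))) F :=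
    fun k => StructuredArrow.mk (Y := op top1)
      (SimplexCategory.Truncated.δ (n + 2) k ((SimplexCategory.len_mk (n + 1)).trans_le (Nat.le_succ (n + 1))) (SimplexCategory.len_mk (n + 2)).le).op
  have compat : ∀ (s : Cone (StructuredArrow.proj (op (⟨SimplexCategory.mk (n + 2), (SimplexCategory.len_mk (n + 2)).le⟩ : SimplexCategory.Truncated (n + 2))) F ⋙ U))
      (g : StructuredArrow (op (⟨SimplexCategory.mk (n + 2), (SimplexCategory.len_mk (n + 2)).le⟩ : SimplexCategory.Truncated (n + 2))) F)
      (k : Fin (n + 3)) (u : g.right.unop ⟶ top1), g.hom.unop.hom = u.hom ≫ SimplexCategory.δ k →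
      s.π.app g = (s.π.app (arr k) : s.pt ⟶ U.obj (op top1)) ≫ U.map u.op := by
    intro s g k u h
    let f : arr k ⟶ g := StructuredArrow.homMk u.op (by
      apply Quiver.Hom.unop_inj
      exact ObjectProperty.hom_ext _ h.symm)
    exact (s.w f).symm
  have hex : ∀ s : Cone (StructuredArrow.proj (op (⟨SimplexCategory.mk (n + 2), (SimplexCategory.len_mk (n + 2)).le⟩ : SimplexCategory.Truncated (n + 2))) F ⋙ U),
      ∃! t : s.pt ⟶ T, ∀ k, t ≫ π k = s.π.app (arr k) := fun s => huniv s.pt (fun k => s.π.app (arr k)) (fun i j hij => by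
    let bot : SimplexCategory.Truncated (n + 1) := ⟨SimplexCategory.mk n, (SimplexCategory.len_mk n).trans_le (Nat.le_succ n)⟩
    let g := StructuredArrow.mk (T := F) (Y := op bot)
      (Opposite.op (ObjectProperty.homMk (SimplexCategory.δ j ≫ SimplexCategory.δ i.castSucc)) :
        op (⟨SimplexCategory.mk (n + 2), (SimplexCategory.len_mk (n + 2)).le⟩ : SimplexCategory.Truncated (n + 2)) ⟶ F.obj (op bot))
    rw [← compat s g i.castSucc (SimplexCategory.Truncated.δ (n + 1) j ((SimplexCategory.len_mk n).trans_le (Nat.le_succ n)) (SimplexCategory.len_mk (n + 1)).le) rfl]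
    exact compat s g j.succ (SimplexCategory.Truncated.δ (n + 1) i ((SimplexCategory.len_mk n).trans_le (Nat.le_succ n)) (SimplexCategory.len_mk (n + 1)).le) (SimplexCategory.δ_comp_δ hij).symm)
  exact
    { lift := fun s => (hex s).exists.choose
      fac := fun s g => by
        show (hex s).exists.choose ≫ π (K g) ≫ U.map (Uf g).op = _
        rw [← Category.assoc, (hex s).exists.choose_spec (K g), compat s g (K g) (Uf g) (hK g)]
      uniq := fun s m hm => (hex s).unique (fun k => by
        rw [← hm (arr k)]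
        exact congrArg (m ≫ ·) (hface k).symm) (hex s).exists.choose_spec }


/-- Let `U` be an `(n+1)`-truncated simplicial object of a category `C` (so the truncation level is at
least `1`), and let `T` be an object with morphisms `π_0, …, π_{n+2} : T ⟶ U_{n+1}` satisfying the
face relations `d_j π_i = d_i π_{j+1}` for `i ≤ j` and universal among such families (that is, `T`
represents the functor of `(n+3)`-tuples of morphisms to `U_{n+1}` satisfying the face relations).
Then `U` extends to an `(n+2)`-truncated simplicial object right adjoint to restriction: the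
pointwise right Kan extension of `U` along the inclusion of `(n+1)`-truncated into `(n+2)`-truncated
simplex categories exists, and for any right Kan extension `V` of `U` the morphism `V_{n+2} ⟶ T`
matching the faces of `V` with the `π_k` is an isomorphism (the new top term is the representing
object). -/
theorem result {C : Type u} [Category.{v} C] (n : ℕ) (U : (SimplexCategory.Truncated (n + 1))ᵒᵖ ⥤ C) (T : C) (π : Fin (n + 3) → (T ⟶ U.obj (op ⟨SimplexCategory.mk (n + 1), (SimplexCategory.len_mk (n + 1)).le⟩))) (hπ : ∀ i j : Fin (n + 2), i ≤ j → π (Fin.castSucc i) ≫ U.map (SimplexCategory.Truncated.δ (n + 1) j ((SimplexCategory.len_mk n).trans_le (Nat.le_succ n)) (SimplexCategory.len_mk (n + 1)).le).op = π j.succ ≫ U.map (SimplexCategory.Truncated.δ (n + 1) i ((SimplexCategory.len_mk n).trans_le (Nat.le_succ n)) (SimplexCategory.len_mk (n + 1)).le).op) (huniv : ∀ (S : C) (g : Fin (n + 3) → (S ⟶ U.obj (op ⟨SimplexCategory.mk (n + 1), (SimplexCategory.len_mk (n + 1)).le⟩))), (∀ i j : Fin (n + 2), i ≤ j → g (Fin.castSucc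 i) ≫ U.map (SimplexCategory.Truncated.δ (n + 1) j ((SimplexCategory.len_mk n).trans_le (Nat.le_succ n)) (SimplexCategory.len_mk (n + 1)).le).op = g j.succ ≫ U.map (SimplexCategory.Truncated.δ (n + 1) i ((SimplexCategory.len_mk n).trans_le (Nat.le_succ n)) (SimplexCategory.len_mk (n + 1)).le).op) → ∃! t : S ⟶ T, ∀ k : Fin (n + 3), t ≫ π k = g k) : (SimplexCategory.Truncated.incl (n + 1) (n + 2) (Nat.le_succ _)).op.HasPointwiseRightKanExtension U ∧ ∀ (V : (SimplexCategory.Truncated (n + 2))ᵒᵖ ⥤ C) (α : (SimplexCategory.Truncated.incl (n + 1) (n + 2) (Nat.le_succ _)).op ⋙ V ⟶ U) [V.IsRightKanExtension α] (t : V.obj (op ⟨SimplexCategory.mk (n + 2), (SimplexCategory.len_mk (n + 2)).le⟩) ⟶ T), (∀ k : Fin (n + 3), t ≫ π k = V.map (SimplexCategory.Truncated.δ (n + 2) k ((SimplexCategory.len_mk (n + 1)).trans_le (Nat.le_succ (n + 1))) (SimplexCategory.len_mk (n + 2)).le).op ≫ α.app (op ⟨SimplexCategory.mk (n + 1), (SimplexCategory.len_mk (n + 1)).le⟩)) → IsIso t := by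
  obtain ⟨c, e, ⟨hc⟩, hck⟩ := cone_limit n U T π hπ huniv
  subst e
  have hP : (SimplexCategory.Truncated.incl (n + 1) (n + 2) (Nat.le_succ _)).op.HasPointwiseRightKanExtension U := by
    rintro ⟨⟨Δ, hΔ⟩⟩
    by_cases h : Δ.len ≤ n + 1
    · let X : (SimplexCategory.Truncated (n + 1))ᵒᵖ := op ⟨Δ, h⟩
      haveI : (SimplexCategory.Truncated.incl (n + 1) (n + 2) (Nat.le_succ _)).Full :=
        ⟨fun f => ⟨ObjectProperty.homMk f.hom, rfl⟩⟩
      haveI : (SimplexCategory.Truncated.incl (n + 1) (n + 2) (Nat.le_succ _)).Faithful :=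
        ⟨fun hfg => ObjectProperty.hom_ext _ (congrArg (fun f => f.hom) hfg)⟩
      exact ⟨⟨_, limitOfDiagramInitial
        (StructuredArrow.mkIdInitial (T := (SimplexCategory.Truncated.incl (n + 1) (n + 2) (Nat.le_succ _)).op) (Y := X)) _⟩⟩
    · have hlen : Δ.len = n + 2 := by
        have : Δ.len ≤ n + 2 := hΔ
        omega
      obtain rfl : Δ = SimplexCategory.mk (n + 2) := SimplexCategory.ext hlen
      exact ⟨⟨c, hc⟩⟩
  refine ⟨hP, fun V α _ t ht => ?_⟩
  haveI := hP
  have hV := (Functor.isPointwiseRightKanExtensionOfIsRightKanExtension V α)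
    (op (⟨SimplexCategory.mk (n + 2), (SimplexCategory.len_mk (n + 2)).le⟩ : SimplexCategory.Truncated (n + 2)))
  have : t = (hV.conePointUniqueUpToIso hc).hom := by
    refine (huniv _ (fun k => t ≫ π k) (fun i j hij => by simp only [Category.assoc]; rw [hπ i j hij])).unique
      (fun k => rfl) (fun k => ?_)
    have h1 := hV.conePointUniqueUpToIso_hom_comp hc (StructuredArrow.mk (Y := op (⟨SimplexCategory.mk (n + 1), (SimplexCategory.len_mk (n + 1)).le⟩ : SimplexCategory.Truncated (n + 1)))
        (SimplexCategory.Truncated.δ (n + 2) k ((SimplexCategory.len_mk (n + 1)).trans_le (Nat.le_succ (n + 1))) (SimplexCategory.len_mk (n + 2)).le).op)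
    rw [hck k, eqToHom_refl, Category.id_comp] at h1
    exact h1.trans (ht k).symm
  rw [this]
  infer_instance

end Groth.Agent.S6814
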