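import Groth.Statements.S6815
import Mathlib


-- import your own Groth.Agent.* helpers here

set_option autoImplicit false
open CategoryTheory CategoryTheory.Limits
universe w v u
open CategoryTheory CategoryTheory.SimplicialObject

namespace Groth.Agent.S6815

/-- Homotopies between the factors of two product morphisms of simplicial objects assemble to a homotopy
between the products. -/
theorem result {C : Type u} [Category.{v} C] {T : Type w} [HasLimitsOfShape (Discrete T) C] {X Y : T → SimplicialObject C} (a b : ∀ t, X t ⟶ Y t) (h : ∀ t, Nonempty (SimplicialObject.Homotopy (a t) (b t))) : Nonempty (SimplicialObject.Homotopy (Limits.Pi.map a) (Limits.Pi.map b)) := by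
  classical
  have H := fun t => (h t).some
  have hext : ∀ {Z : C} (d : SimplexCategoryᵒᵖ) (f g : Z ⟶ (∏ᶜ Y).obj d),
      (∀ t, f ≫ (Limits.Pi.π Y t).app d = g ≫ (Limits.Pi.π Y t).app d) → f = g := by
    intro Z d f g hfg
    rw [← cancel_mono (piObjIso Y d).hom]
    apply Limits.Pi.hom_ext
    intro t
    simpa [Category.assoc] using hfg t
  let K : ∀ {n : ℕ} (i : Fin (n + 1)),
      (∏ᶜ X : SimplicialObject C).obj (Opposite.op (SimplexCategory.mk n)) ⟶
        (∏ᶜ Y : SimplicialObject C).obj (Opposite.op (SimplexCategory.mk (n + 1))) := fun {n} i =>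
    (piObjIso X _).hom ≫ Limits.Pi.map (fun t => (H t).h i) ≫ (piObjIso Y _).inv
  have hK : ∀ {n : ℕ} (i : Fin (n + 1)) (t : T),
      K i ≫ (Limits.Pi.π Y t).app _ = (Limits.Pi.π X t).app _ ≫ (H t).h i := by
    intro n i t
    simp [K]
  have hmap : ∀ (c : ∀ t, X t ⟶ Y t) (d : SimplexCategoryᵒᵖ) (t : T),
      (Limits.Pi.map c).app d ≫ (Limits.Pi.π Y t).app d = (Limits.Pi.π X t).app d ≫ (c t).app d := by
    intro c d t
    rw [← NatTrans.comp_app, ← NatTrans.comp_app, Pi.map_π]
  have hKδ : ∀ {n : ℕ} (i : Fin (n + 1)) (j : Fin (n + 2)) (t : T),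
      (K i ≫ SimplicialObject.δ (∏ᶜ Y) j) ≫ (Limits.Pi.π Y t).app _ =
        (Limits.Pi.π X t).app _ ≫ (H t).h i ≫ (Y t).δ j := by
    intro n i j t
    rw [Category.assoc, SimplicialObject.δ, (Limits.Pi.π Y t).naturality, ← Category.assoc, hK, Category.assoc]
    rfl
  have hKσ : ∀ {n : ℕ} (i : Fin (n + 1)) (j : Fin (n + 2)) (t : T),
      (K i ≫ SimplicialObject.σ (∏ᶜ Y) j) ≫ (Limits.Pi.π Y t).app _ =
        (Limits.Pi.π X t).app _ ≫ (H t).h i ≫ (Y t).σ j := by
    intro n i j t
    rw [Category.assoc, SimplicialObject.σ, (Limits.Pi.π Y t).naturality, ← Category.assoc, hK, Category.assoc]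
    rfl
  have hδK : ∀ {n : ℕ} (i : Fin (n + 2)) (j : Fin (n + 1)) (t : T),
      (SimplicialObject.δ (∏ᶜ X) i ≫ K j) ≫ (Limits.Pi.π Y t).app _ =
        (Limits.Pi.π X t).app _ ≫ (X t).δ i ≫ (H t).h j := by
    intro n i j t
    rw [Category.assoc, hK, SimplicialObject.δ, ← Category.assoc, (Limits.Pi.π X t).naturality, Category.assoc]
    rfl
  have hσK : ∀ {n : ℕ} (i : Fin (n + 1)) (j : Fin (n + 2)) (t : T),
      (SimplicialObject.σ (∏ᶜ X) i ≫ K j) ≫ (Limits.Pi.π Y t).app _ =
        (Limits.Pi.π X t).app _ ≫ (X t).σ i ≫ (H t).h j := by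
    intro n i j t
    rw [Category.assoc, hK, SimplicialObject.σ, ← Category.assoc, (Limits.Pi.π X t).naturality, Category.assoc]
    rfl
  exact ⟨{
    h := K
    h_zero_comp_δ_zero := fun n => hext _ _ _ fun t => by
      rw [hKδ, hmap, (H t).h_zero_comp_δ_zero]
    h_last_comp_δ_last := fun n => hext _ _ _ fun t => by
      rw [hKδ, hmap, (H t).h_last_comp_δ_last]
    h_succ_comp_δ_castSucc_of_lt := fun i j hij => hext _ _ _ fun t => by
      rw [hKδ, hδK, (H t).h_succ_comp_δ_castSucc_of_lt i j hij]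
    h_succ_comp_δ_castSucc_succ := fun j => hext _ _ _ fun t => by
      rw [hKδ, hKδ, (H t).h_succ_comp_δ_castSucc_succ j]
    h_castSucc_comp_δ_succ_of_lt := fun i j hji => hext _ _ _ fun t => by
      rw [hKδ, hδK, (H t).h_castSucc_comp_δ_succ_of_lt i j hji]
    h_comp_σ_castSucc_of_le := fun i j hij => hext _ _ _ fun t => by
      rw [hKσ, hσK, (H t).h_comp_σ_castSucc_of_le i j hij]
    h_comp_σ_succ_of_lt := fun i j hji => hext _ _ _ fun t => by
      rw [hKσ, hσK, (H t).h_comp_σ_succ_of_lt i j hji] }⟩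

end Groth.Agent.S6815
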