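import Groth.Statements.S6816
import Mathlib


-- import your own Groth.Agent.* helpers here

set_option autoImplicit false
open CategoryTheory CategoryTheory.Limits
universe v u
open CochainComplex

namespace Groth.Agent.S6816

/-- The boundary morphisms `C ⟶ A⟦1⟧` attached to two degreewise splittings of a degreewise split
sequence `A ⟶ B ⟶ C` of cochain complexes are homotopic. -/
theorem result {C : Type u} [Category.{v} C] [Preadditive C] [HasBinaryBiproducts C] (S : ShortComplex (CochainComplex C ℤ)) (σ σ' : ∀ n : ℤ, (S.map (HomologicalComplex.eval C (ComplexShape.up ℤ) n)).Splitting) : Nonempty (Homotopy (CochainComplex.homOfDegreewiseSplit S σ) (CochainComplex.homOfDegreewiseSplit S σ')) := by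
  let r : ∀ n : ℤ, S.X₂.X n ⟶ S.X₁.X n := fun n => (σ n).r
  let r' : ∀ n : ℤ, S.X₂.X n ⟶ S.X₁.X n := fun n => (σ' n).r
  let s : ∀ n : ℤ, S.X₃.X n ⟶ S.X₂.X n := fun n => (σ n).s
  let s' : ∀ n : ℤ, S.X₃.X n ⟶ S.X₂.X n := fun n => (σ' n).s
  let e : ∀ n : ℤ, S.X₃.X n ⟶ S.X₁.X n := fun n => (s' n - s n) ≫ r n
  have fr : ∀ n, S.f.f n ≫ r n = 𝟙 _ := fun n => (σ n).f_r
  have fr' : ∀ n, S.f.f n ≫ r' n = 𝟙 _ := fun n => (σ' n).f_r
  have sg : ∀ n, s n ≫ S.g.f n = 𝟙 _ := fun n => (σ n).s_g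
  have sg' : ∀ n, s' n ≫ S.g.f n = 𝟙 _ := fun n => (σ' n).s_g
  have idid : ∀ n, r n ≫ S.f.f n + S.g.f n ≫ s n = 𝟙 _ := fun n => (σ n).id
  have sr' : ∀ n, s' n ≫ r' n = 0 := fun n => (σ' n).s_r
  have fg : ∀ n, S.f.f n ≫ S.g.f n = 0 := fun n => by
    rw [← HomologicalComplex.comp_f, S.zero]; rfl
  have hs : ∀ n, s' n = s n + e n ≫ S.f.f n := by
    intro n
    have h1 : (s' n - s n) ≫ (r n ≫ S.f.f n + S.g.f n ≫ s n) = s' n - s n := by
      rw [idid, Category.comp_id]
    rw [Preadditive.comp_add] at h1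
    have h2 : (s' n - s n) ≫ S.g.f n = 0 := by rw [Preadditive.sub_comp, sg, sg', sub_self]
    rw [← Category.assoc (s' n - s n) (S.g.f n), h2, zero_comp, add_zero, ← Category.assoc] at h1
    simp only [e]
    rw [h1]
    abel
  have hr : ∀ n, r' n = r n - S.g.f n ≫ e n := by
    intro n
    have h1 : (r n ≫ S.f.f n + S.g.f n ≫ s n) ≫ r' n = r' n := by
      rw [idid, Category.id_comp]
    rw [Preadditive.add_comp, Category.assoc, fr', Category.comp_id, Category.assoc] at h1
    rw [← h1]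
    have h2 : s n ≫ r' n = - e n := by
      have h3 := sr' n
      rw [hs n, Preadditive.add_comp, Category.assoc, fr', Category.comp_id] at h3
      exact eq_neg_of_add_eq_zero_left h3
    rw [h2, Preadditive.comp_neg, sub_eq_add_neg]
  have K : ∀ n, s n ≫ S.X₂.d n (n + 1) ≫ r (n + 1) = S.X₃.d n (n + 1) ≫ e (n + 1) +
      (-(e n ≫ S.X₁.d n (n + 1)) + s' n ≫ S.X₂.d n (n + 1) ≫ r' (n + 1)) := by
    intro n
    have c1 : S.g.f n ≫ S.X₃.d n (n + 1) = S.X₂.d n (n + 1) ≫ S.g.f (n + 1) := S.g.comm _ _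
    have c2 : S.f.f n ≫ S.X₂.d n (n + 1) = S.X₁.d n (n + 1) ≫ S.f.f (n + 1) := S.f.comm _ _
    rw [hs n, hr (n + 1)]
    simp only [Preadditive.add_comp, Preadditive.comp_sub, Category.assoc, reassoc_of% c2, fr,
      Category.comp_id, ← reassoc_of% c1, reassoc_of% (sg n), reassoc_of% (fg n), zero_comp,
      comp_zero, sub_zero]
    abel
  refine ⟨{
    hom := fun i j => if h : j + 1 = i then e i ≫ (S.X₁.XIsoOfEq h.symm).hom else 0
    zero := fun i j hij => dif_neg (fun h => hij h)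
    comm := fun n => ?_ }⟩
  rw [dNext_eq _ (show (ComplexShape.up ℤ).Rel n (n + 1) from rfl),
    prevD_eq _ (show (ComplexShape.up ℤ).Rel (n - 1) n from sub_add_cancel n 1)]
  rw [dif_pos (show n + 1 = n + 1 from rfl), dif_pos (show n - 1 + 1 = n from sub_add_cancel n 1)]
  rw [CochainComplex.shiftFunctor_obj_d']
  simp only [CochainComplex.homOfDegreewiseSplit_f, CochainComplex.cocycleOfDegreewiseSplit,
    CochainComplex.HomComplex.Cocycle.mk_coe, CochainComplex.HomComplex.Cochain.mk_v,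
    Int.negOnePow_one, Units.neg_smul, one_smul, Preadditive.comp_neg,
    HomologicalComplex.XIsoOfEq_rfl, Iso.refl_hom, Category.comp_id, Category.assoc,
    HomologicalComplex.XIsoOfEq_hom_comp_d, neg_smul, one_zsmul]
  erw [Category.comp_id, Preadditive.comp_neg, HomologicalComplex.XIsoOfEq_hom_comp_d, Preadditive.comp_neg, add_assoc]
  exact K n

end Groth.Agent.S6816
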