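import Groth.Statements.S6818
import Mathlib
import Groth.Agent.SimpSkelLib.Basic
-- import your own Groth.Agent.* helpers here

set_option autoImplicit false
open CategoryTheory CategoryTheory.Limits Opposite
universe v u
open CategoryTheory CategoryTheory.Abelian

namespace Groth.Agent.S6818
open CategoryTheory.Limits AlgebraicTopology Groth.Agent.SimpSkelLib

/-- For a simplicial object `U` of an abelian category and `n ≥ 0`, the subobjects `U'_m ⊆ U_m`
generated by the images of all `U_i ⟶ U_m` induced by maps `[m] ⟶ [i]` with `i ≤ n` form a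
simplicial subobject equal to `U` in dimensions `≤ n` whose normalized part vanishes in dimensions
`> n`. Here the normalized subobject of `U_m` is the joint kernel of the faces `d_1, …, d_m`; the
published statement uses the faces `d_0, …, d_{m-1}`, the mirror-image convention, and both versions
hold. -/
theorem result {A : Type u} [Category.{v} A] [Abelian A] (U : SimplicialObject A) (n : ℕ) (U' : ∀ m : ℕ, Subobject (U.obj (op (SimplexCategory.mk m)))) (hU' : ∀ m : ℕ, IsLUB (Set.range (fun φ : Σ i : Fin (n + 1), (SimplexCategory.mk m ⟶ SimplexCategory.mk i) => imageSubobject (U.map φ.2.op))) (U' m)) : (∀ (m m' : ℕ) (ψ : SimplexCategory.mk m' ⟶ SimplexCategory.mk m), imageSubobject ((U' m).arrow ≫ U.map ψ.op) ≤ U' m') ∧ (∀ i : ℕ, i ≤ n → U' i = ⊤) ∧ (∀ m : ℕ, n < m → U' m ⊓ AlgebraicTopology.NormalizedMooreComplex.objX U m = ⊥) := by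
  refine ⟨fun m m' ψ => ?_, fun i hi => ?_, fun m hm => ?_⟩
  · haveI : HasImage ((U' m).arrow ≫ U.map ψ.op) := inferInstance
    refine imageSubobject_le _ (Subobject.factorThru _ _ ?_) (Subobject.factorThru_arrow _ _ _)
    have hle : U' m ≤ (Subobject.pullback (U.map ψ.op)).obj (U' m') := by
      refine (hU' m).2 ?_
      rintro _ ⟨⟨i, φ⟩, rfl⟩
      have hg : (U' m').Factors (U.map (ψ ≫ φ).op) := by
        rw [← imageSubobject_arrow_comp (U.map (ψ ≫ φ).op),
          ← Subobject.ofLE_arrow ((hU' m').1 ⟨⟨i, ψ ≫ φ⟩, rfl⟩), ← Category.assoc]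
        exact Subobject.factors_comp_arrow _
      refine imageSubobject_le _ (((Subobject.pullback (U.map ψ.op)).obj (U' m')).factorThru (U.map φ.op) ?_)
        (Subobject.factorThru_arrow _ _ _)
      have h := Subobject.isPullback (U.map ψ.op) (U' m')
      obtain ⟨l, -, hl⟩ := h.exists_lift ((U' m').factorThru _ hg) (U.map φ.op) (by
        rw [Subobject.factorThru_arrow, ← U.map_comp]; rfl)
      rw [← hl]
      exact Subobject.factors_comp_arrow _
    have h := Subobject.isPullback (U.map ψ.op) (U' m')
    rw [← Subobject.ofLE_arrow hle, Category.assoc, ← h.w, ← Category.assoc]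
    exact Subobject.factors_comp_arrow _
  · refine top_le_iff.1 (le_of_eq_of_le ?_ ((hU' i).1 ⟨⟨⟨i, by omega⟩, 𝟙 _⟩, rfl⟩))
    haveI : IsIso (U.map (𝟙 (SimplexCategory.mk i)).op) := inferInstance
    exact ((imageSubobject_mono _).trans (Subobject.mk_eq_top_of_isIso _)).symm
  · have hle : U' m ≤ kernelSubobject ((DoldKan.PInfty (X := U)).f m) := by
      refine (hU' m).2 ?_
      rintro _ ⟨⟨i, φ⟩, rfl⟩
      exact le_kernelSubobject _ _ (imageSubobject_arrow_comp_eq_zero
        (comp_PInfty_eq_zero U φ (by omega)))
    rw [eq_bot_iff]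
    refine Subobject.le_of_factors ?_
    rw [Subobject.bot_factors_iff_zero]
    have h1 := Subobject.factors_of_le _ hle (Subobject.inf_arrow_factors_left (U' m) (NormalizedMooreComplex.objX U m))
    rw [kernelSubobject_factors_iff] at h1
    rw [← comp_PInfty_of_factors U _ (Subobject.inf_arrow_factors_right _ _)]
    exact h1

end Groth.Agent.S6818
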