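import Groth.Statements.S6819
import Mathlib
import Groth.Agent.SimpSkelLib.Basic
-- import your own Groth.Agent.* helpers here

set_option autoImplicit false
open CategoryTheory CategoryTheory.Limits Opposite
universe v u
open CategoryTheory CategoryTheory.Abelian

namespace Groth.Agent.S6819
open CategoryTheory.Limits AlgebraicTopology Groth.Agent.SimpSkelLib

/-- For a simplicial object `U` of an abelian category, the counit `i_{n!} sk_n U ⟶ U` of the skeleton
adjunction is a monomorphism in each degree, with image the subobject generated by the images of the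
maps `U_i ⟶ U_m` induced by `[m] ⟶ [i]`, `i ≤ n`. -/
theorem result {A : Type u} [Category.{v} A] [Abelian A] (U : SimplicialObject A) (n : ℕ) (U' : ∀ m : ℕ, Subobject (U.obj (op (SimplexCategory.mk m)))) (hU' : ∀ m : ℕ, IsLUB (Set.range (fun φ : Σ i : Fin (n + 1), (SimplexCategory.mk m ⟶ SimplexCategory.mk i) => imageSubobject (U.map φ.2.op))) (U' m)) [∀ F : (SimplexCategory.Truncated n)ᵒᵖ ⥤ A, (SimplexCategory.Truncated.inclusion n).op.HasLeftKanExtension F] (m : ℕ) : Mono (((SimplicialObject.skAdj n).counit.app U).app (op (SimplexCategory.mk m))) ∧ imageSubobject (((SimplicialObject.skAdj n).counit.app U).app (op (SimplexCategory.mk m))) = U' m := by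
  haveI := mono_counit n U m
  refine ⟨inferInstance, le_antisymm ?_ ((hU' m).2 ?_)⟩
  · let ε := (SimplicialObject.skAdj n).counit.app U
    have hz : ε.app (op (SimplexCategory.mk m)) ≫ cokernel.π (U' m).arrow = 0 := by
      refine skel_gen n _ _ _ fun j α => ?_
      have hlt : j.unop.obj.len < n + 1 := Nat.lt_succ_of_le j.unop.property
      have hle := (hU' m).1 ⟨⟨⟨j.unop.obj.len, hlt⟩, α.unop⟩, rfl⟩
      refine Eq.trans ?_ (show U.map α ≫ cokernel.π (U' m).arrow = 0 from ?_)
      · refine Eq.trans ?_ (congrArg (· ≫ cokernel.π (U' m).arrow) (eta_map_counit n U j α))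
        exact ((Category.assoc _ _ _).trans (congrArg (eta n U j ≫ ·) (Category.assoc _ _ _))).symm
      show U.map α.unop.op ≫ _ = 0
      rw [← imageSubobject_arrow_comp (U.map α.unop.op), ← Subobject.ofLE_arrow hle,
        Category.assoc, Category.assoc, cokernel.condition, comp_zero, comp_zero]
    exact imageSubobject_le _ (Abelian.monoLift (U' m).arrow _ hz) (Abelian.monoLift_comp _ _ _)
  · rintro _ ⟨⟨i, φ⟩, rfl⟩
    let j : (SimplexCategory.Truncated n)ᵒᵖ := op ⟨SimplexCategory.mk i, by simpa using Nat.lt_succ_iff.1 i.2⟩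
    refine imageSubobject_le _ (eta n U j ≫
      ((SimplicialObject.Truncated.sk n).obj ((SimplicialObject.truncation n).obj U)).map φ.op ≫
      factorThruImageSubobject (((SimplicialObject.skAdj n).counit.app U).app (op (SimplexCategory.mk m)))) ?_
    refine (Category.assoc _ _ _).trans (Eq.trans (congrArg (eta n U j ≫ ·)
      ((Category.assoc _ _ _).trans (congrArg (_ ≫ ·) (imageSubobject_arrow_comp _)))) ?_)
    exact eta_map_counit n U j φ.op

end Groth.Agent.S6819
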