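import Groth.Statements.S6820
import Mathlib.RingTheory.Noetherian.Basic
import Mathlib.Algebra.Module.LocalizedModule.Basic
import Mathlib.RingTheory.Finiteness.Basic

set_option autoImplicit false
universe u
open Smoothing

namespace Groth.Agent.S6820

/-- Let A be a Noetherian ring, M a finite A-module, S a multiplicative subset of A and π an element of
A such that on the localised module S⁻¹M the kernels of multiplication by π and by π² agree. Then
there is an element s of S such that for every n > 0 the kernels of multiplication by sⁿπ and by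
(sⁿπ)² on M agree. (Kernel equalities are written as implications, the reverse inclusions being
automatic.) -/
theorem result {A : Type u} [CommRing A] [IsNoetherianRing A]
    (M : Type u) [AddCommGroup M] [Module A M] [Module.Finite A M] (S : Submonoid A) (π : A)
    (h : ∀ m : LocalizedModule S M, π ^ 2 • m = 0 → π • m = 0) :
    ∃ s ∈ S, ∀ n : ℕ, 0 < n → ∀ m : M, (s ^ n * π) ^ 2 • m = 0 → (s ^ n * π) • m = 0 := by
  have key : ∀ m : M, π ^ 2 • m = 0 → ∃ s ∈ S, s • π • m = 0 := by
    intro m hm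
    have h1 := h (LocalizedModule.mk m 1) (by rw [LocalizedModule.smul'_mk, hm, LocalizedModule.zero_mk])
    rw [LocalizedModule.smul'_mk, ← LocalizedModule.zero_mk (1 : S), LocalizedModule.mk_eq] at h1
    obtain ⟨c, hc⟩ := h1
    exact ⟨c, c.2, by simpa [Submonoid.smul_def] using hc⟩
  haveI : IsNoetherian A M := isNoetherian_of_isNoetherianRing_of_finite A M
  obtain ⟨T, hT⟩ := IsNoetherian.noetherian (LinearMap.ker (DistribSMul.toLinearMap A M (π ^ 2)))
  have hmemT : ∀ m ∈ T, π ^ 2 • m = 0 := fun m hm => by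
    have : m ∈ LinearMap.ker (DistribSMul.toLinearMap A M (π ^ 2)) := hT ▸ Submodule.subset_span hm
    exact this
  obtain ⟨c, hc⟩ : ∃ c : {m // m ∈ T} → A, ∀ m, c m ∈ S ∧ c m • π • (m : M) = 0 := by
    choose c h1 h2 using fun m : {m // m ∈ T} => key m (hmemT m m.2)
    exact ⟨c, fun m => ⟨h1 m, h2 m⟩⟩
  let s₀ := ∏ m ∈ T.attach, c m
  have hs₀ : s₀ ∈ S := Submonoid.prod_mem _ fun m _ => (hc m).1
  have hker : ∀ m : M, π ^ 2 • m = 0 → s₀ • π • m = 0 := by
    intro m hm
    have hle : Submodule.span A (T : Set M) ≤ LinearMap.ker (DistribSMul.toLinearMap A M (s₀ * π)) := by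
      refine Submodule.span_le.2 fun t ht => ?_
      show (s₀ * π) • t = 0
      obtain ⟨d, hd⟩ := Finset.dvd_prod_of_mem c (Finset.mem_attach T ⟨t, ht⟩)
      rw [mul_smul, show s₀ = c ⟨t, ht⟩ * d from hd, mul_comm, mul_smul, (hc ⟨t, ht⟩).2, smul_zero]
    have h1 : m ∈ Submodule.span A (T : Set M) := hT ▸ (show π ^ 2 • m = 0 from hm)
    rw [← mul_smul]
    exact hle h1
  let F : ℕ →o Submodule A M := ⟨fun j => LinearMap.ker (DistribSMul.toLinearMap A M (s₀ ^ j)),
    monotone_nat_of_le_succ fun j m (hm : s₀ ^ j • m = 0) => show s₀ ^ (j + 1) • m = 0 by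
      rw [pow_succ', mul_smul, hm, smul_zero]⟩
  obtain ⟨k, hk⟩ := monotone_stabilizes_iff_noetherian.2 ‹_› F
  refine ⟨s₀ ^ (k + 1), pow_mem hs₀ _, fun n hn m hm => ?_⟩
  rw [← pow_mul] at hm ⊢
  have h1 : π ^ 2 • (s₀ ^ (2 * ((k + 1) * n)) • m) = 0 := by
    rw [← mul_smul, show π ^ 2 * s₀ ^ (2 * ((k + 1) * n)) = (s₀ ^ ((k + 1) * n) * π) ^ 2 by rw [mul_pow, ← pow_mul]; ring, hm]
  have h2 := hker _ h1
  have h3 : π • m ∈ F (1 + 2 * ((k + 1) * n)) := by
    show s₀ ^ (1 + 2 * ((k + 1) * n)) • π • m = 0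
    rw [pow_add, pow_one, mul_smul, smul_comm (s₀ ^ (2 * ((k + 1) * n))) π m, h2]
  have hle : k ≤ (k + 1) * n := le_trans (Nat.le_succ k) (Nat.le_mul_of_pos_right _ hn)
  have h4 : π • m ∈ F ((k + 1) * n) := by
    rw [← hk _ hle, hk (1 + 2 * ((k + 1) * n)) (by omega)]
    exact h3
  rw [mul_smul]
  exact h4

end Groth.Agent.S6820
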