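import Groth.Statements.S6822
import Groth.Agent.TransLib.DesingSeq

set_option autoImplicit false
universe u
open Smoothing

namespace Groth.Agent.S6822

/-- Let R be Noetherian, A a finitely presented R-algebra, φ : A → Λ an R-algebra map and 𝔮 ⊆ Λ a prime.
Let r ≥ 1 and π₁, …, π_r ∈ R map into 𝔮, and assume: for each i the annihilators of π_i and of π_i²
agree in R/(π₁⁸, …, π_{i−1}⁸) and in Λ/(π₁⁸, …, π_{i−1}⁸)Λ, and each π_i maps to a strictly standard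
element of A over R. Write K = (π₁⁸, …, π_r⁸). If the reduced problem R/K → A/KA → Λ/KΛ ⊇ 𝔮/KΛ can
be resolved (for the map A/KA → Λ/KΛ induced by φ), then R → A → Λ ⊇ 𝔮 can be resolved. -/
theorem result {R A Λ : Type u} [CommRing R] [IsNoetherianRing R]
    [CommRing A] [Algebra R A] [Algebra.FinitePresentation R A] [CommRing Λ] [Algebra R Λ]
    (φ : A →ₐ[R] Λ) (𝔮 : Ideal Λ) [𝔮.IsPrime] {r : ℕ} (hr : 0 < r) (π : Fin r → R)
    (hπ𝔮 : ∀ i, algebraMap R Λ (π i) ∈ 𝔮)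
    (hR : ∀ i : Fin r, ∀ x : R ⧸ Ideal.span (Set.range fun j : {j : Fin r // (j : ℕ) < (i : ℕ)} => π j ^ 8),
      Ideal.Quotient.mk _ (π i) ^ 2 * x = 0 → Ideal.Quotient.mk _ (π i) * x = 0)
    (hΛ : ∀ i : Fin r, ∀ x : Λ ⧸ Ideal.span (Set.range fun j : {j : Fin r // (j : ℕ) < (i : ℕ)} =>
        algebraMap R Λ (π j) ^ 8),
      Ideal.Quotient.mk _ (algebraMap R Λ (π i)) ^ 2 * x = 0 → Ideal.Quotient.mk _ (algebraMap R Λ (π i)) * x = 0)
    (hstd : ∀ i, Smoothing.IsStrictlyStandard R A (algebraMap R A (π i)))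
    (K : Ideal R) (hK : K = Ideal.span (Set.range fun i => π i ^ 8))
    (φK : (A ⧸ K.map (algebraMap R A)) →ₐ[R ⧸ K] (Λ ⧸ K.map (algebraMap R Λ)))
    (hφK : ∀ a : A, φK (Ideal.Quotient.mk _ a) = Ideal.Quotient.mk _ (φ a))
    (hres : Smoothing.Resolvable (R ⧸ K) φK (𝔮.map (Ideal.Quotient.mk (K.map (algebraMap R Λ))))) :
    Smoothing.Resolvable R φ 𝔮 := by
  classical
  have hrangeR : ∀ i : Fin r, (Set.range fun j : {j : Fin r // (j : ℕ) < (i : ℕ)} => π j ^ 8) =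
      (fun j => π j ^ 8) '' {j | j < i} := fun i => by
    ext x
    exact ⟨fun ⟨⟨j, hj⟩, hx⟩ => ⟨j, hj, hx⟩, fun ⟨j, hj, hx⟩ => ⟨⟨j, hj⟩, hx⟩⟩
  have hrangeΛ : ∀ i : Fin r, (Set.range fun j : {j : Fin r // (j : ℕ) < (i : ℕ)} => algebraMap R Λ (π j) ^ 8) =
      (fun j => algebraMap R Λ (π j ^ 8)) '' {j | j < i} := fun i => by
    ext x
    exact ⟨fun ⟨⟨j, hj⟩, hx⟩ => ⟨j, hj, (map_pow _ _ _).trans hx⟩,
      fun ⟨j, hj, hx⟩ => ⟨⟨j, hj⟩, (map_pow _ _ _).symm.trans hx⟩⟩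
  obtain ⟨C, _, _, hC, g', h', hgh, hle, hne⟩ := hres
  letI : Algebra R C := ((algebraMap (R ⧸ K) C).comp (algebraMap R (R ⧸ K))).toAlgebra
  haveI : IsScalarTower R (R ⧸ K) C := IsScalarTower.of_algebraMap_eq fun _ => rfl
  have hcomp : ∀ a, h' (g' (Ideal.Quotient.mk _ a)) = Ideal.Quotient.mk _ (φ a) := fun a => by
    rw [← AlgHom.comp_apply, hgh, hφK]
  have hk𝔮 : RingHom.ker (Ideal.Quotient.mk (K.map (algebraMap R Λ))) ≤ 𝔮 := by
    rw [Ideal.mk_ker, Ideal.map_le_iff_le_comap, hK, Ideal.span_le]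
    rintro _ ⟨j, rfl⟩
    show algebraMap R Λ (π j ^ 8) ∈ 𝔮
    rw [map_pow]
    exact Ideal.pow_mem_of_mem _ (hπ𝔮 j) 8 (by norm_num)
  refine TransLib.resolvesOn_seq r φ 𝔮 (Smoothing.singRad R φ) π hπ𝔮 (fun i x hx => ?_) (fun i x hx => ?_) hstd
    (R'' := R ⧸ K) (C := C) (Λ'' := Λ ⧸ K.map (algebraMap R Λ)) Ideal.Quotient.mk_surjective (Ideal.mk_ker.trans hK)
    ((g'.restrictScalars R).comp (Ideal.Quotient.mkₐ R (K.map (algebraMap R A))))
    (Ideal.Quotient.mkₐ R (K.map (algebraMap R Λ))) Ideal.Quotient.mk_surjective ?_ (h'.restrictScalars R)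
    (AlgHom.ext hcomp) ?_ ?_
  · rw [← hrangeR] at hx ⊢
    have := hR i (Ideal.Quotient.mk _ x)
    rw [← map_pow, ← map_mul, ← map_mul, Ideal.Quotient.eq_zero_iff_mem, Ideal.Quotient.eq_zero_iff_mem] at this
    exact this hx
  · rw [← hrangeΛ] at hx ⊢
    have := hΛ i (Ideal.Quotient.mk _ x)
    rw [← map_pow, ← map_mul, ← map_mul, Ideal.Quotient.eq_zero_iff_mem, Ideal.Quotient.eq_zero_iff_mem] at this
    exact this hx
  · refine (Ideal.mk_ker (I := K.map (algebraMap R Λ))).trans ?_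
    rw [hK, Ideal.map_span, ← Set.range_comp]
    rfl
  · exact TransLib.map_singRad_le φ K φK hφK h' hle
  · intro hle'
    have hp : (𝔮.map (Ideal.Quotient.mk (K.map (algebraMap R Λ)))).IsPrime :=
      Ideal.map_isPrime_of_surjective Ideal.Quotient.mk_surjective hk𝔮
    exact hne (hp.radical_le_iff.2 hle')

end Groth.Agent.S6822
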