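import Groth.Statements.S6830
import Groth.Agent.TransLib.DvrRegular

set_option autoImplicit false
universe u
open Smoothing
open scoped TensorProduct

namespace Groth.Agent.S6830

/-- Let R ⊆ Λ be an extension of discrete valuation rings (an injective local homomorphism) of
ramification index 1, i.e. m_R Λ = m_Λ, inducing separable (geometrically reduced) extensions of
residue fields and of fraction fields K ⊆ L. Then Λ is a filtered colimit of smooth R-algebras, in
the factorization form: every R-algebra map A → Λ with A finitely presented over R factors through a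
smooth R-algebra. -/
theorem result {R Λ K L : Type u} [CommRing R] [IsDomain R]
    [IsDiscreteValuationRing R] [CommRing Λ] [IsDomain Λ] [IsDiscreteValuationRing Λ] [Algebra R Λ]
    [NoZeroSMulDivisors R Λ] [IsLocalHom (algebraMap R Λ)]
    (he : (IsLocalRing.maximalIdeal R).map (algebraMap R Λ) = IsLocalRing.maximalIdeal Λ)
    [Algebra.IsGeometricallyReduced (IsLocalRing.ResidueField R) (IsLocalRing.ResidueField Λ)]
    [Field K] [Algebra R K] [IsFractionRing R K] [Field L] [Algebra Λ L] [IsFractionRing Λ L]
    [Algebra K L] [Algebra R L] [IsScalarTower R K L] [IsScalarTower R Λ L]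
    [Algebra.IsGeometricallyReduced K L] :
    Smoothing.IndSmooth R Λ := by
  have hflat : Module.Flat R Λ := inferInstance
  have hinjRΛ : Function.Injective (algebraMap R Λ) := FaithfulSMul.algebraMap_injective R Λ
  refine TransLib.indSmooth_of_isRegularHom ⟨hflat, fun p _ => ?_⟩
  by_cases hp : p = ⊥
  · subst hp
    refine TransLib.fibre_geometricallyRegular (K := K) (L := L) ⊥ (fun r => ?_) (fun z => ?_) (fun x hx => ?_)
      fun y => ?_
    · rw [Ideal.mem_bot, map_eq_zero_iff _ (IsFractionRing.injective R K)]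
    · obtain ⟨a, b, hb, hab⟩ := IsFractionRing.div_surjective R z
      refine ⟨a, b, fun h => nonZeroDivisors.ne_zero hb ((Ideal.mem_bot (R := R)).1 h), ?_⟩
      rw [← hab, div_mul_cancel₀ _ (IsFractionRing.to_map_ne_zero_of_mem_nonZeroDivisors hb)]
    · rw [(map_eq_zero_iff _ (IsFractionRing.injective Λ L)).1 hx, TensorProduct.tmul_zero]
    · obtain ⟨ϖ, hϖ⟩ := IsDiscreteValuationRing.exists_irreducible R
      have hmax : IsLocalRing.maximalIdeal Λ = Ideal.span {algebraMap R Λ ϖ} := by
        rw [← he, hϖ.maximalIdeal_eq, Ideal.map_span, Set.image_singleton]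
      have hirr : Irreducible (algebraMap R Λ ϖ) :=
        (IsDiscreteValuationRing.irreducible_iff_uniformizer _).2 hmax
      obtain ⟨n, d, hd, hnd⟩ := IsFractionRing.div_surjective Λ y
      obtain ⟨j, v, hv⟩ := IsDiscreteValuationRing.eq_unit_mul_pow_irreducible (nonZeroDivisors.ne_zero hd) hirr
      refine ⟨ϖ ^ j, n * ((v⁻¹ : Λˣ) : Λ), fun h => pow_ne_zero j hϖ.ne_zero ((Ideal.mem_bot (R := R)).1 h), ?_⟩
      rw [← hnd, IsScalarTower.algebraMap_apply R Λ L, div_mul_eq_mul_div,
        div_eq_iff (IsFractionRing.to_map_ne_zero_of_mem_nonZeroDivisors hd), ← map_mul, ← map_mul, map_pow]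
      congr 1
      rw [hv, show n * ((v⁻¹ : Λˣ) : Λ) * ((v : Λ) * algebraMap R Λ ϖ ^ j) =
        n * (((v⁻¹ : Λˣ) : Λ) * (v : Λ)) * algebraMap R Λ ϖ ^ j by ring, Units.inv_mul, mul_one]
  · obtain rfl : p = IsLocalRing.maximalIdeal R :=
      IsLocalRing.eq_maximalIdeal (Ideal.IsPrime.isMaximal inferInstance hp)
    refine TransLib.fibre_geometricallyRegular (K := IsLocalRing.ResidueField R) (L := IsLocalRing.ResidueField Λ)
      (IsLocalRing.maximalIdeal R) (fun r => IsLocalRing.residue_eq_zero_iff r) (fun z => ?_) (fun x hx => ?_)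
      fun y => ?_
    · obtain ⟨a, rfl⟩ := IsLocalRing.residue_surjective z
      exact ⟨a, 1, fun h => (IsLocalRing.maximalIdeal.isMaximal R).ne_top ((Ideal.eq_top_iff_one _).2 h),
        by rw [map_one, mul_one]; rfl⟩
    · have hx' : x ∈ (IsLocalRing.maximalIdeal R).map (algebraMap R Λ) :=
        he.symm ▸ (IsLocalRing.residue_eq_zero_iff x).1 hx
      rw [Ideal.map, Ideal.span] at hx'
      induction hx' using Submodule.span_induction with
      | mem z hz =>
        obtain ⟨r, hr, rfl⟩ := hz
        rw [Algebra.algebraMap_eq_smul_one, TensorProduct.tmul_smul, TensorProduct.smul_tmul', Algebra.smul_def,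
          Ideal.algebraMap_residueField_eq_zero.2 hr, zero_mul, TensorProduct.zero_tmul]
      | zero => rw [TensorProduct.tmul_zero]
      | add a b ha hb iha ihb =>
        rw [TensorProduct.tmul_add, iha (by
          rw [IsLocalRing.ResidueField.algebraMap_eq, IsLocalRing.residue_eq_zero_iff, ← he]; exact ha),
          ihb (by rw [IsLocalRing.ResidueField.algebraMap_eq, IsLocalRing.residue_eq_zero_iff, ← he]; exact hb), add_zero]
      | smul c a ha iha =>
        have h0 := iha (by rw [IsLocalRing.ResidueField.algebraMap_eq, IsLocalRing.residue_eq_zero_iff, ← he]; exact ha)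
        rw [smul_eq_mul, show (1 : (IsLocalRing.maximalIdeal R).ResidueField) ⊗ₜ[R] (c * a) =
          ((1 : (IsLocalRing.maximalIdeal R).ResidueField) ⊗ₜ[R] c) * ((1 : (IsLocalRing.maximalIdeal R).ResidueField) ⊗ₜ[R] a) by
            rw [Algebra.TensorProduct.tmul_mul_tmul, mul_one], h0, mul_zero]
    · obtain ⟨x, rfl⟩ := IsLocalRing.residue_surjective y
      exact ⟨1, x, fun h => (IsLocalRing.maximalIdeal.isMaximal R).ne_top ((Ideal.eq_top_iff_one _).2 h),
        by rw [map_one, mul_one]; rfl⟩

end Groth.Agent.S6830
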