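import Groth.Statements.S6841
import Groth.Agent.SmoothFibPtLib.Basic
import Mathlib

set_option autoImplicit false
universe u
open Smoothing

namespace Groth.Agent.S6841

open TensorProduct in
/-- Let R ⊆ Λ be an extension of discrete valuation rings of ramification index 1 (m_R Λ = m_Λ), A a
flat R-algebra of finite type with an R-algebra map A → Λ, 𝔮 its kernel and 𝔭 the inverse image of
the maximal ideal of Λ. Assume R → A is smooth at 𝔮. Provided the Λ-module Ω_{A/R} ⊗_A Λ is free,
the map R → A is also smooth at the prime 𝔭. (The published statement phrases the freeness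
hypothesis through a surjection B → A from an R-algebra smooth at the point, with kernel I, as
freeness of the cokernel of I/I² ⊗_A Λ → Ω_{B/R} ⊗_B Λ; that cokernel is Ω_{A/R} ⊗_A Λ, which is how
its proof begins, so the two forms are equivalent.) -/
theorem result {R Λ A : Type u} [CommRing R] [IsDomain R]
    [IsDiscreteValuationRing R] [CommRing Λ] [IsDomain Λ] [IsDiscreteValuationRing Λ] [Algebra R Λ]
    [NoZeroSMulDivisors R Λ] (he : (IsLocalRing.maximalIdeal R).map (algebraMap R Λ) = IsLocalRing.maximalIdeal Λ)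
    [CommRing A] [Algebra R A] [Module.Flat R A] [Algebra.FiniteType R A] [Algebra A Λ] [IsScalarTower R A Λ]
    [(RingHom.ker (algebraMap A Λ)).IsPrime]
    (hq : Algebra.IsSmoothAt R (RingHom.ker (algebraMap A Λ)))
    (hfree : Module.Free Λ (Λ ⊗[A] Ω[A⁄R])) :
    Algebra.IsSmoothAt R ((IsLocalRing.maximalIdeal Λ).comap (algebraMap A Λ)) := by
  classical
  haveI : Algebra.FinitePresentation R A := Algebra.FinitePresentation.of_finiteType.mp ‹_›
  haveI : Module.Finite A Ω[A⁄R] := inferInstance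
  let M := Λ ⊗[A] Ω[A⁄R]
  let m := IsLocalRing.maximalIdeal R
  let q : PrimeSpectrum A := ⟨RingHom.ker (algebraMap A Λ), ‹_›⟩
  let p : PrimeSpectrum A := ⟨(IsLocalRing.maximalIdeal Λ).comap (algebraMap A Λ), Ideal.comap_isPrime _ _⟩
  have hinj : Function.Injective (algebraMap R Λ) := FaithfulSMul.algebraMap_injective R Λ
  have hp : p.asIdeal.comap (algebraMap R A) = m := by
    refine ((IsLocalRing.maximalIdeal.isMaximal R).eq_of_le (Ideal.IsPrime.ne_top (Ideal.comap_isPrime _ _)) fun r hr => ?_).symm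
    show algebraMap A Λ (algebraMap R A r) ∈ IsLocalRing.maximalIdeal Λ
    rw [← IsScalarTower.algebraMap_apply, ← he]
    exact Ideal.mem_map_of_mem _ hr
  have hq0 : q.asIdeal.comap (algebraMap R A) = ⊥ := by
    ext r
    show algebraMap A Λ (algebraMap R A r) = 0 ↔ r ∈ (⊥ : Ideal R)
    rw [← IsScalarTower.algebraMap_apply, map_eq_zero_iff _ hinj, Ideal.mem_bot]
  haveI := Ideal.isPrime_bot (α := R)
  haveI : p.asIdeal.LiesOver m := ⟨hp.symm⟩
  let K := FractionRing Λ
  let K' := IsLocalRing.ResidueField Λ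
  have hrank : ∀ (L : Type u) [Field L] [Algebra Λ L] [Algebra A L] [IsScalarTower A Λ L],
      Module.finrank L (L ⊗[A] Ω[A⁄R]) = Module.finrank Λ M := fun L _ _ _ _ => by
    rw [← (TensorProduct.AlgebraTensorModule.cancelBaseChange A Λ L L Ω[A⁄R]).finrank_eq]
    exact Module.finrank_baseChange
  have hK : RingHom.ker (algebraMap A K) = q.asIdeal := by
    ext a
    show algebraMap A K a = 0 ↔ algebraMap A Λ a = 0
    rw [IsScalarTower.algebraMap_apply A Λ K, map_eq_zero_iff _ (IsFractionRing.injective Λ K)]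
  have hK' : RingHom.ker (algebraMap A K') = p.asIdeal := by
    ext a
    show algebraMap A K' a = 0 ↔ algebraMap A Λ a ∈ IsLocalRing.maximalIdeal Λ
    rw [IsScalarTower.algebraMap_apply A Λ K']
    exact IsLocalRing.residue_eq_zero_iff _
  obtain ⟨Q₀, i₀, hk₀, hc₀, hd₀, hr₀⟩ := SmoothFibPtLib.exists_fibre_point (⊥ : Ideal R) q hq0 K hK
  obtain ⟨Q₁, i₁, hk₁, hc₁, hd₁, hr₁⟩ := SmoothFibPtLib.exists_fibre_point m p hp K' hK'
  haveI : Algebra.IsSmoothAt R q.asIdeal := hq
  haveI : Algebra.IsSmoothAt (⊥ : Ideal R).ResidueField Q₀.asIdeal := SmoothFibPtLib.isSmoothAt_fibre ⊥ q.asIdeal Q₀.asIdeal hc₀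
  have hF₀ : Algebra.FiniteType (⊥ : Ideal R).ResidueField ((⊥ : Ideal R).Fiber A) :=
    inferInstanceAs (Algebra.FiniteType (⊥ : Ideal R).ResidueField ((⊥ : Ideal R).ResidueField ⊗[R] A))
  have hF₁ : Algebra.FiniteType m.ResidueField (m.Fiber A) :=
    inferInstanceAs (Algebra.FiniteType m.ResidueField (m.ResidueField ⊗[R] A))
  obtain ⟨g, -, -, -, hg⟩ := SmoothDimLib.exists_chart (k := (⊥ : Ideal R).ResidueField) Q₀.asIdeal K hk₀
  haveI : AlgebraicGeometry.LocallyOfFiniteType (AlgebraicGeometry.Spec.map (CommRingCat.ofHom (algebraMap R A))) :=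
    AlgebraicGeometry.HasRingHomProperty.Spec_iff.2 (RingHom.finiteType_algebraMap.2 inferInstance)
  have hle := FibDimLib.fibreDimAt_le_of_specializes (AlgebraicGeometry.Spec.map (CommRingCat.ofHom (algebraMap R A)))
    ((PrimeSpectrum.le_iff_specializes q p).1 (Ideal.comap_mono bot_le))
  haveI : Algebra.IsSmoothAt m.ResidueField Q₁.asIdeal := by
    refine SmoothDimLib.isSmoothAt_of_finrank_le Q₁.asIdeal K' hk₁ ?_
    have h1 : FlatMor.localDim (PrimeSpectrum (m.Fiber A)) Q₁ ≥ FlatMor.localDim (PrimeSpectrum ((⊥ : Ideal R).Fiber A)) Q₀ := by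
      rw [hd₀, hd₁]; exact hle
    rw [hr₁, hrank K', ← hrank K, ← hr₀]
    exact le_trans (le_of_eq hg.symm) h1
  exact SmoothFibPtLib.isSmoothAt_of_fibre m p.asIdeal Q₁.asIdeal hc₁

end Groth.Agent.S6841
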