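import Groth.Statements.S6842
import Groth.Agent.ModSiteLib.CoprodQc
-- import your own Groth.Agent.* helpers here

set_option autoImplicit false
universe u
open CategoryTheory CategoryTheory.Limits TopologicalSpace
open ModSite

namespace Groth.Agent.S6842

/-- Let (X, O) be a ringed space, (F_i)_{i ∈ I} a family of O-modules and U ⊆ X a quasi-compact open.
Then the canonical map ⊕_i F_i(U) → (⊕_i F_i)(U) is bijective: every section of the direct sum over
U is a finite sum of images of sections of the F_i over U (surjectivity), and such a finite sum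
vanishes only if each term's section is zero (injectivity). -/
theorem result {X : TopCat.{u}} (O : TopCat.Sheaf CommRingCat.{u} X)
    {I : Type u} (F : I → ModSite.Mod O) [HasCoproduct F] (U : Opens X) (hU : IsCompact (U : Set X)) :
    (∀ s : ModSite.sect (∐ F) U, ∃ (S : Finset I) (t : ∀ i, ModSite.sect (F i) U),
        s = ∑ i ∈ S, ((Sigma.ι F i).val.app (Opposite.op U)).hom (t i)) ∧
      ∀ (S : Finset I) (t : ∀ i, ModSite.sect (F i) U),
        ∑ i ∈ S, ((Sigma.ι F i).val.app (Opposite.op U)).hom (t i) = 0 → ∀ i ∈ S, t i = 0 := by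
  classical
  have hV : CoprodQcLib.QcSep (Opens.grothendieckTopology X) O U := by
    intro S hS
    choose V g hg hx using fun x : U => (hS x.1 x.2)
    obtain ⟨t, ht⟩ := hU.elim_finite_subcover (fun x : U => ((V x : Opens X) : Set X)) (fun x => (V x).2)
      (fun x hx' => Set.mem_iUnion.2 ⟨⟨x, hx'⟩, hx ⟨x, hx'⟩⟩)
    refine ⟨t, inferInstance, fun k => V k.1, fun k => g k.1, fun k => hg k.1, fun M x y h => ?_⟩
    refine Presheaf.IsSheaf.isSeparated M.isSheaf U (Sieve.ofArrows _ (fun k : t => g k.1)) ?_ x y ?_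
    · intro z hz
      obtain ⟨k, hk, hzk⟩ := Set.mem_iUnion₂.1 (ht hz)
      exact ⟨V k, g k, Sieve.ofArrows_mk _ (fun k : t => g k.1) ⟨k, hk⟩, hzk⟩
    · rintro W _ ⟨_, a, _, ⟨k⟩, rfl⟩
      change M.val.map (a ≫ g k.1).op x = M.val.map (a ≫ g k.1).op y
      rw [op_comp, PresheafOfModules.map_comp_apply, PresheafOfModules.map_comp_apply, h k]
  refine ⟨fun s => ?_, fun S t h i hi => ?_⟩
  · obtain ⟨S, hS⟩ := CoprodQcLib.exists_fixed F hV s
    exact ⟨S, fun i => (CoprodQcLib.prj F i).val.app (Opposite.op U) s,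
      hS.symm.trans (CoprodQcLib.keep_apply F S U s)⟩
  · exact ((CoprodQcLib.prj_sum F S t hi).symm.trans (congrArg _ h)).trans (map_zero _)


end Groth.Agent.S6842
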