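import Groth.Statements.S6843
import Groth.Agent.TransLib.EtaleApprox
import Groth.Agent.TransLib.GRingLocal
import Groth.Agent.TransLib.IndSmoothLoc
import Groth.Agent.AdicRingLib.Completion

set_option autoImplicit false
universe u
open Smoothing

namespace Groth.Agent.S6843

/-- Let R be a Noetherian ring, p ⊆ R a prime with R_p a G-ring, (R_p)^ the completion of R_p, and F₁,
…, F_m polynomials in n variables over R with a solution a in (R_p)^. Then for every N there are an
étale R-algebra R', a ring map ψ : R' → (R_p)^ compatible with the maps from R, a prime p' ⊆ R'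
lying over p with κ(p) = κ(p') (every element of R'/p' is a fraction of elements of R/p) and ψ(p') ⊆
p(R_p)^, and a solution b of the system in R' with a_i − ψ(b_i) ∈ p^N (R_p)^. (The source compares a
and b through the identification of (R_p)^ with the completion of R'_{p'}; here the comparison map
is ψ.) -/
theorem result {R : Type u} [CommRing R] [IsNoetherianRing R]
    (p : Ideal R) [p.IsPrime] (hG : CAlg.IsGRing (Localization.AtPrime p)) {n m : ℕ}
    (F : Fin m → MvPolynomial (Fin n) R)
    (a : Fin n → AdicCompletion (IsLocalRing.maximalIdeal (Localization.AtPrime p)) (Localization.AtPrime p))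
    (ha : ∀ j, MvPolynomial.aeval a (MvPolynomial.map (algebraMap R (Localization.AtPrime p)) (F j)) = 0) (N : ℕ) :
    ∃ (R' : Type u) (_ : CommRing R') (_ : Algebra R R'), Algebra.Etale R R' ∧
      ∃ (ψ : R' →+* AdicCompletion (IsLocalRing.maximalIdeal (Localization.AtPrime p)) (Localization.AtPrime p))
        (p' : Ideal R'), p'.IsPrime ∧
        (∀ r : R, ψ (algebraMap R R' r) =
          algebraMap (Localization.AtPrime p) _ (algebraMap R (Localization.AtPrime p) r)) ∧
        p'.comap (algebraMap R R') = p ∧
        (∀ x : R', ∃ r s : R, s ∉ p ∧ algebraMap R R' s * x - algebraMap R R' r ∈ p') ∧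
        (∀ x ∈ p', ψ x ∈ (IsLocalRing.maximalIdeal (Localization.AtPrime p)).map
          (algebraMap (Localization.AtPrime p)
            (AdicCompletion (IsLocalRing.maximalIdeal (Localization.AtPrime p)) (Localization.AtPrime p)))) ∧
        ∃ b : Fin n → R', (∀ j, MvPolynomial.aeval b (F j) = 0) ∧
          ∀ i, a i - ψ (b i) ∈ (IsLocalRing.maximalIdeal (Localization.AtPrime p) ^ N).map
            (algebraMap (Localization.AtPrime p)
              (AdicCompletion (IsLocalRing.maximalIdeal (Localization.AtPrime p)) (Localization.AtPrime p))) := by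
  let Rp := Localization.AtPrime p
  let I := IsLocalRing.maximalIdeal Rp
  let T := AdicCompletion I Rp
  have hRp : IsNoetherianRing Rp := hG.1
  have hfg : I.FG := IsNoetherian.noetherian I
  have : IsNoetherianRing T := AdicRingLib.isNoetherianRing_adicCompletion I
  have hmT : IsLocalRing.maximalIdeal T = I.map (algebraMap Rp T) := AdicCompletion.maximalIdeal_eq_map
  have hind : Smoothing.IndSmooth R T := TransLib.indSmooth_of_localization (Rₛ := Rp) p.primeCompl
    (TransLib.indSmooth_of_isRegularHom (TransLib.isRegularHom_completion_of_isGRing hG))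
  have hdense : ∀ (y : T) (k : ℕ), ∃ r s : R, IsUnit (algebraMap R T s) ∧
      algebraMap R T s * y - algebraMap R T r ∈ IsLocalRing.maximalIdeal T ^ k := fun y k => by
    obtain ⟨z, hz⟩ := AdicRingLib.exists_sub_mem_map_pow hfg k y
    obtain ⟨r, s, rfl⟩ := IsLocalization.exists_mk'_eq p.primeCompl z
    refine ⟨r, s, ?_, ?_⟩
    · rw [IsScalarTower.algebraMap_apply R Rp T]
      exact (IsLocalization.map_units Rp s).map (algebraMap Rp T)
    · rw [IsScalarTower.algebraMap_apply R Rp T r, ← IsLocalization.mk'_spec Rp r s, map_mul,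
        IsScalarTower.algebraMap_apply R Rp T, mul_comm (algebraMap Rp T (IsLocalization.mk' Rp r s)), ← mul_sub,
        hmT, ← Ideal.map_pow]
      exact Ideal.mul_mem_left _ _ hz
  have ha' : ∀ j, MvPolynomial.aeval a (F j) = 0 := fun j => by
    rw [← ha j, MvPolynomial.aeval_map_algebraMap]
  obtain ⟨R', _, _, hR', ψ, b, hb, hab⟩ := TransLib.exists_etale_approx hind hdense F a ha' N
  let p' : Ideal R' := (IsLocalRing.maximalIdeal T).comap ψ
  refine ⟨R', inferInstance, inferInstance, hR', ψ.toRingHom, p', inferInstance, fun r => ?_, ?_, fun x => ?_,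
    fun x hx => ?_, b, hb, fun i => ?_⟩
  · show ψ (algebraMap R R' r) = _
    rw [ψ.commutes, IsScalarTower.algebraMap_apply R Rp T]
  · ext r
    show ψ (algebraMap R R' r) ∈ IsLocalRing.maximalIdeal T ↔ _
    rw [ψ.commutes, IsScalarTower.algebraMap_apply R Rp T]
    constructor
    · intro h
      by_contra hr
      exact h ((IsLocalization.map_units Rp (⟨r, hr⟩ : p.primeCompl)).map (algebraMap Rp T))
    · intro h
      rw [hmT]
      exact Ideal.mem_map_of_mem _ ((IsLocalization.AtPrime.to_map_mem_maximal_iff Rp p r).2 h)
  · obtain ⟨r, s, hu, hrs⟩ := hdense (ψ x) 1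
    refine ⟨r, s, fun hs => ?_, ?_⟩
    · have h : algebraMap R T s ∈ IsLocalRing.maximalIdeal T := by
        rw [hmT, IsScalarTower.algebraMap_apply R Rp T]
        exact Ideal.mem_map_of_mem _ ((IsLocalization.AtPrime.to_map_mem_maximal_iff Rp p s).2 hs)
      exact h hu
    show ψ _ ∈ IsLocalRing.maximalIdeal T
    rw [map_sub, map_mul, ψ.commutes, ψ.commutes]
    simpa using hrs
  · have h : ψ x ∈ IsLocalRing.maximalIdeal T := hx
    rw [hmT] at h
    exact h
  · have h := hab i
    rw [hmT, ← Ideal.map_pow] at h
    exact h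

end Groth.Agent.S6843
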