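import Groth.Statements.S6850
import Groth.Agent.TensorPermLib.Basic

set_option autoImplicit false
set_option backward.isDefEq.respectTransparency false
set_option backward.isDefEq.respectTransparency.types false
universe u
open CategoryTheory CategoryTheory.Limits TopologicalSpace
open ModSite

namespace Groth.Agent.S6850

open Groth.Agent.TensorPermLib

section

variable {C : Type u} [SmallCategory C] {J : GrothendieckTopology C} {O : Sheaf J CommRingCat.{u}}
  {F G : ModSite.Mod O}

/-- Local generators of a tensor product. -/
noncomputable def lgd (q : SheafOfModules.LocalGeneratorsData.{u} (R := ModSite.ringSh O) F)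
    (q' : SheafOfModules.LocalGeneratorsData.{u} (R := ModSite.ringSh O) G) :
    SheafOfModules.LocalGeneratorsData.{u} (R := ModSite.ringSh O) (((ModSite.tensorBi O).obj F).obj G) where
  I := Σ (V : C) (i : q.I) (i' : q'.I), (V ⟶ q.X i) × (V ⟶ q'.X i')
  X j := j.1
  coversTop := coversTop_refine q.coversTop q'.coversTop
  generators j := restrTensGen (resGen j.2.2.2.1 (q.generators j.2.1))
    (resGen j.2.2.2.2 (q'.generators j.2.2.1))

/-- Local presentations of a tensor product. -/
noncomputable def qcd (q : SheafOfModules.QuasicoherentData.{u} (R := ModSite.ringSh O) F)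
    (q' : SheafOfModules.QuasicoherentData.{u} (R := ModSite.ringSh O) G) :
    SheafOfModules.QuasicoherentData.{u} (R := ModSite.ringSh O) (((ModSite.tensorBi O).obj F).obj G) where
  I := Σ (V : C) (i : q.I) (i' : q'.I), (V ⟶ q.X i) × (V ⟶ q'.X i')
  X j := j.1
  coversTop := coversTop_refine q.coversTop q'.coversTop
  presentation j := restrTensPres (resPres j.2.2.2.1 (q.presentation j.2.1))
    (resPres j.2.2.2.2 (q'.presentation j.2.2.1))

end


/-- On a ringed space (X, O), for O-modules F and G: if both are locally generated by sections then so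
is F ⊗_O G; if both are of finite type then so is F ⊗_O G; if both are quasi-coherent then so is F
⊗_O G; if both are of finite presentation then so is F ⊗_O G; if both are locally free then so is F
⊗_O G. (Parts (5), (6) on coherent modules are not restated.) -/
theorem result {X : TopCat.{u}} (O : TopCat.Sheaf CommRingCat.{u} X) (F G : ModSite.Mod O) :
    (Nonempty (SheafOfModules.LocalGeneratorsData.{u} (R := ModSite.ringSh O) F) →
        Nonempty (SheafOfModules.LocalGeneratorsData.{u} (R := ModSite.ringSh O) G) →
          Nonempty (SheafOfModules.LocalGeneratorsData.{u} (R := ModSite.ringSh O) (((ModSite.tensorBi O).obj F).obj G))) ∧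
      (SheafOfModules.IsFiniteType (R := ModSite.ringSh O) F → SheafOfModules.IsFiniteType (R := ModSite.ringSh O) G →
        SheafOfModules.IsFiniteType (R := ModSite.ringSh O) (((ModSite.tensorBi O).obj F).obj G)) ∧
      (SheafOfModules.IsQuasicoherent (R := ModSite.ringSh O) F →
        SheafOfModules.IsQuasicoherent (R := ModSite.ringSh O) G →
          SheafOfModules.IsQuasicoherent (R := ModSite.ringSh O) (((ModSite.tensorBi O).obj F).obj G)) ∧
      (SheafOfModules.IsFinitePresentation (R := ModSite.ringSh O) F →
        SheafOfModules.IsFinitePresentation (R := ModSite.ringSh O) G →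
          SheafOfModules.IsFinitePresentation (R := ModSite.ringSh O) (((ModSite.tensorBi O).obj F).obj G)) ∧
      (SheafOfModules.IsLocallyFree (R := ModSite.ringSh O) F → SheafOfModules.IsLocallyFree (R := ModSite.ringSh O) G →
        SheafOfModules.IsLocallyFree (R := ModSite.ringSh O) (((ModSite.tensorBi O).obj F).obj G)) := by
  refine ⟨?_, ?_, ?_, ?_, ?_⟩
  · rintro ⟨q⟩ ⟨q'⟩
    exact ⟨lgd q q'⟩
  · intro h h'
    obtain ⟨q, hq⟩ := h.exists_localGeneratorsData
    obtain ⟨q', hq'⟩ := h'.exists_localGeneratorsData
    refine SheafOfModules.IsFiniteType.mk (R := ModSite.ringSh O) ⟨lgd q q', ?_⟩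
    refine SheafOfModules.LocalGeneratorsData.IsFiniteType.mk (R := ModSite.ringSh O) fun j => ⟨?_⟩
    haveI := (hq.isFiniteType j.2.1).finite
    haveI := (hq'.isFiniteType j.2.2.1).finite
    exact inferInstanceAs (Finite (Σ _ : (q'.generators j.2.2.1).I, (q.generators j.2.1).I))
  · intro h h'
    obtain ⟨⟨q⟩⟩ := h
    obtain ⟨⟨q'⟩⟩ := h'
    exact SheafOfModules.QuasicoherentData.isQuasicoherent (R := ModSite.ringSh O) (qcd q q')
  · intro h h'
    obtain ⟨q, hq⟩ := h.exists_quasicoherentData
    obtain ⟨q', hq'⟩ := h'.exists_quasicoherentData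
    refine SheafOfModules.IsFinitePresentation.mk (R := ModSite.ringSh O) ⟨qcd q q', ?_⟩
    refine SheafOfModules.QuasicoherentData.IsFinitePresentation.mk (R := ModSite.ringSh O) fun j => ?_
    haveI := (hq.isFinite_presentation j.2.1).isFiniteType_generators.finite
    haveI := (hq.isFinite_presentation j.2.1).isFiniteType_relations.finite
    haveI := (hq'.isFinite_presentation j.2.2.1).isFiniteType_generators.finite
    haveI := (hq'.isFinite_presentation j.2.2.1).isFiniteType_relations.finite
    exact ⟨⟨inferInstanceAs (Finite (Σ _ : (q'.presentation j.2.2.1).generators.I,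
        (q.presentation j.2.1).generators.I))⟩,
      ⟨inferInstanceAs (Finite ((Σ _ : (q'.presentation j.2.2.1).generators.I,
        (q.presentation j.2.1).relations.I) ⊕ (Σ _ : (q'.presentation j.2.2.1).relations.I,
        (q.presentation j.2.1).generators.I)))⟩⟩
  · intro h h'
    obtain ⟨q, hq⟩ := h.exists_isLocallyFreeData
    obtain ⟨q', hq'⟩ := h'.exists_isLocallyFreeData
    refine SheafOfModules.IsLocallyFree.mk (R := ModSite.ringSh O) ⟨lgd q q', ?_⟩
    refine SheafOfModules.LocalGeneratorsData.IsLocallyFreeData.mk (R := ModSite.ringSh O) fun j => ?_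
    haveI := hq.isIso j.2.1
    haveI := hq'.isIso j.2.2.1
    haveI := isIso_resGen j.2.2.2.1 (q.generators j.2.1)
    haveI := isIso_resGen j.2.2.2.2 (q'.generators j.2.2.1)
    exact isIso_restrTensGen _ _

end Groth.Agent.S6850
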