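import Groth.Statements.S6851
import Groth.Agent.InvLocLib.Basic

set_option autoImplicit false
set_option backward.isDefEq.respectTransparency false
set_option backward.isDefEq.respectTransparency.types false
universe u
open CategoryTheory CategoryTheory.Limits TopologicalSpace
open ModSite

namespace Groth.Agent.S6851

open Opposite Groth.Agent.ModSiteLib Groth.Agent.ModSiteLib.SetPull _root_.ModSiteLib
  Groth.Agent.ModSiteLib.FlatStalk Groth.Agent.LocalGenLib Groth.Agent.InvLocLib

section

variable {R M : Type*} [CommRing R] [AddCommGroup M] [Module R M] (b : Module.Basis PUnit.{u + 1} R M)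

include b in
theorem eq_repr_smul (m : M) : m = b.repr m PUnit.unit • b PUnit.unit := by
  conv_lhs => rw [← b.sum_repr m]
  exact Finset.sum_singleton _ _

theorem repr_mem {I : Ideal R} {m : M} (h : m ∈ I • (⊤ : Submodule R M)) :
    b.repr m PUnit.unit ∈ I := by
  refine Submodule.smul_induction_on h (fun r hr n _ => ?_) (fun x y hx hy => ?_)
  · rw [LinearEquiv.map_smul, Finsupp.smul_apply, smul_eq_mul]
    exact I.mul_mem_right _ hr
  · rw [LinearEquiv.map_add, Finsupp.add_apply]
    exact I.add_mem hx hy

end


/-- Let (X, O) be a ringed space all of whose stalks O_{X,x} are local rings with maximal ideals m_x, L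
an invertible O-module (F ↦ L ⊗_O F is an equivalence of Mod(O)) and s a section of L over an open
U. Then the set X_s of points x ∈ U whose germ s_x does not lie in m_x L_x is open, and for every x
∈ X_s the map O_{X,x} → L_x, a ↦ a s_x, is bijective; that is, s : O_{X_s} → L|_{X_s} is an
isomorphism, isomorphy being checked on stalks. Stalks and germs are taken at the point of the site
of opens of X given by x. (The published statement also produces the section s' of the inverse of L
with s' s = 1; that consequence is not restated here.) -/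
theorem result {X : TopCat.{u}} (O : TopCat.Sheaf CommRingCat.{u} X)
    (hO : ∀ x : X, IsLocalRing (ModSite.stalkRing (Opens.pointGrothendieckTopology x) O)) (L : ModSite.Mod O)
    (hL : ((ModSite.tensorBi O).obj L).IsEquivalence) (U : Opens X) (s : ModSite.sect L U) :
    IsOpen {x : X | ∃ hx : x ∈ U, ModSite.germ (Opens.pointGrothendieckTopology x) L U ⟨⟨hx⟩⟩ s ∉
        (@IsLocalRing.maximalIdeal (ModSite.stalkRing (Opens.pointGrothendieckTopology x) O) _ (hO x)) •
          (⊤ : Submodule (ModSite.stalkRing (Opens.pointGrothendieckTopology x) O)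
            (ModSite.stalkAb (Opens.pointGrothendieckTopology x) L))} ∧
      ∀ (x : X) (hx : x ∈ U), ModSite.germ (Opens.pointGrothendieckTopology x) L U ⟨⟨hx⟩⟩ s ∉
          (@IsLocalRing.maximalIdeal (ModSite.stalkRing (Opens.pointGrothendieckTopology x) O) _ (hO x)) •
            (⊤ : Submodule (ModSite.stalkRing (Opens.pointGrothendieckTopology x) O)
              (ModSite.stalkAb (Opens.pointGrothendieckTopology x) L)) →
        Function.Bijective (fun a : ModSite.stalkRing (Opens.pointGrothendieckTopology x) O =>
          a • ModSite.germ (Opens.pointGrothendieckTopology x) L U ⟨⟨hx⟩⟩ s) := by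
  classical
  haveI := hL
  let e := ((ModSite.tensorBi O).obj L).objObjPreimageIso (ModSite.unit O)
  constructor
  · rw [isOpen_iff_forall_mem_open]
    rintro x ⟨hx, hs⟩
    haveI := hO x
    obtain ⟨V, g, w, l, q, hw, hlq⟩ := exists_pairing (p := pt x) e (fib hx)
    obtain ⟨b, hb⟩ := exists_basis_of_pairing e V l q hlq (pt x) w
    let α := b.repr (ModSite.germ (pt x) L U (fib hx) s) PUnit.unit
    have hα : IsUnit α := by
      by_contra hc
      refine hs ?_
      rw [eq_repr_smul b (ModSite.germ (pt x) L U (fib hx) s)]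
      exact Submodule.smul_mem_smul ((IsLocalRing.mem_maximalIdeal _).2 hc) Submodule.mem_top
    obtain ⟨β, hβ⟩ := hα.exists_right_inv
    obtain ⟨W, k, w', r, -, hk, hr, -⟩ := exists_lifts (pt x) L (ι := Bool) (κ := Empty)
      (fun i => if i then α else β) Empty.elim w
    have h1 : ModSite.germRing (pt x) W w' (r true * r false) = ModSite.germRing (pt x) W w' 1 := by
      rw [germRing_mul, hr, hr, germRing_one, if_pos rfl, if_neg (by simp), hβ]
    have h2 : ModSite.germ (pt x) L W w' (_root_.ModSiteLib.res ((_root_.ModSiteLib.jP O).obj L) (k ≫ g).op s) =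
        ModSite.germ (pt x) L W w' (r true • _root_.ModSiteLib.res ((_root_.ModSiteLib.jP O).obj L) k.op l) := by
      rw [germ_smul, germ_res_of_eq (pt x) L (by rw [FunctorToTypes.map_comp_apply, hk, hw]), hr,
        germ_res_of_eq (pt x) L hk, if_pos rfl, ← hb]
      exact eq_repr_smul b _
    obtain ⟨W', k', w'', -, hr', hs'⟩ := FlatStalk.exists_eq (pt x) L (ι := Unit) (κ := Unit) w'
      (fun _ => r true * r false) (fun _ => 1) (fun _ => _root_.ModSiteLib.res ((_root_.ModSiteLib.jP O).obj L) (k ≫ g).op s)
      (fun _ => r true • _root_.ModSiteLib.res ((_root_.ModSiteLib.jP O).obj L) k.op l) (fun _ => h1) (fun _ => h2)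
    refine ⟨(W' : Set X), fun y hy => ⟨(leOfHom ((k' ≫ k) ≫ g)) hy, fun hmem => ?_⟩, W'.isOpen,
      mem_of_fib w''⟩
    haveI := hO y
    obtain ⟨c, hc⟩ := exists_basis_of_pairing e V l q hlq (pt y) (fib ((leOfHom (k' ≫ k)) hy))
    have h3 : ModSite.germ (pt y) L U (fib ((leOfHom ((k' ≫ k) ≫ g)) hy)) s =
        ModSite.germRing (pt y) W' (fib hy) (rC k' (r true)) • c PUnit.unit := by
      have hs2 := congrArg (ModSite.germ (pt y) L W' (fib hy)) (hs' ())
      rw [res_smul, germ_smul] at hs2
      have e1 : ∀ (A : Opens X) (j : W' ⟶ A) (t : Sec L A) (hA : y ∈ A),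
          ModSite.germ (pt y) L W' (fib hy) (_root_.ModSiteLib.res ((_root_.ModSiteLib.jP O).obj L) j.op t) =
            ModSite.germ (pt y) L A (fib hA) t := fun A j t hA =>
        germ_res_of_eq (pt y) L (Subsingleton.elim _ _) t
      have hyW : y ∈ W := (leOfHom k') hy
      rw [e1 W k' _ hyW, e1 W k' _ hyW,
        germ_res_of_eq (pt y) L (v := fib ((leOfHom ((k' ≫ k) ≫ g)) hy)) (Subsingleton.elim _ _),
        germ_res_of_eq (pt y) L (v := fib ((leOfHom (k' ≫ k)) hy)) (Subsingleton.elim _ _), ← hc] at hs2
      exact hs2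
    have h4 : IsUnit (ModSite.germRing (pt y) W' (fib hy) (rC k' (r true))) := by
      refine IsUnit.of_mul_eq_one (ModSite.germRing (pt y) W' (fib hy) (rC k' (r false))) ?_
      rw [← germRing_mul]
      refine (congrArg (ModSite.germRing (pt y) W' (fib hy)) ?_).trans (germRing_one (pt y) _)
      exact ((map_mul (O.obj.map k'.op).hom _ _).symm.trans (hr' ())).trans (map_one _)
    have h5 := repr_mem c hmem
    rw [h3, LinearEquiv.map_smul, c.repr_self, Finsupp.smul_apply, Finsupp.single_eq_same, smul_eq_mul,
      mul_one] at h5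
    exact (IsLocalRing.mem_maximalIdeal _).1 h5 h4
  · intro x hx hs
    haveI := hO x
    obtain ⟨V, g, w, l, q, hw, hlq⟩ := exists_pairing (p := pt x) e (fib hx)
    obtain ⟨b, hb⟩ := exists_basis_of_pairing e V l q hlq (pt x) w
    have hα : IsUnit (b.repr (ModSite.germ (pt x) L U (fib hx) s) PUnit.unit) := by
      by_contra hc
      refine hs ?_
      rw [eq_repr_smul b (ModSite.germ (pt x) L U (fib hx) s)]
      exact Submodule.smul_mem_smul ((IsLocalRing.mem_maximalIdeal _).2 hc) Submodule.mem_top
    obtain ⟨β, hβ⟩ := hα.exists_right_inv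
    refine ⟨fun a a' h => ?_, fun m => ⟨b.repr m PUnit.unit * β, ?_⟩⟩
    · have h' := congrArg (fun m => b.repr m PUnit.unit) h
      simp only [LinearEquiv.map_smul, Finsupp.smul_apply, smul_eq_mul] at h'
      exact hα.mul_right_cancel h'
    · show (b.repr m PUnit.unit * β) • ModSite.germ (pt x) L U (fib hx) s = m
      rw [eq_repr_smul b (ModSite.germ (pt x) L U (fib hx) s), smul_smul, mul_assoc,
        mul_comm β, hβ, mul_one]
      exact (eq_repr_smul b m).symm

end Groth.Agent.S6851
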