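import Groth.Statements.S6856
import Groth.Agent.ModSiteLib.TensorAssoc
import Groth.Agent.ModSiteLib.Flat
import Groth.Agent.ModSiteLib.FlatLocal

set_option autoImplicit false
universe u
open CategoryTheory CategoryTheory.Limits TopologicalSpace
open ModSite

namespace Groth.Agent.S6856

variable {C : Type u} [SmallCategory C] {J : GrothendieckTopology C} (O : Sheaf J CommRingCat.{u})

/-- Tensoring with a tensor product. -/
noncomputable def tensTensIso (L N : ModSite.Mod O) :
    (ModSite.tensorBi O).obj (((ModSite.tensorBi O).obj L).obj N) ≅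
      (ModSite.tensorBi O).obj N ⋙ (ModSite.tensorBi O).obj L :=
  ((ModSiteLib.assocBi O).app L).app N

/-- Tensoring with the structure sheaf. -/
noncomputable def tensUnitIso : (ModSite.tensorBi O).obj (ModSite.unit O) ≅ 𝟭 (ModSite.Mod O) :=
  NatIso.ofComponents (fun M => ModSiteLib.unitTensorIso M) (fun {M N} f => by
    simp only [ModSiteLib.unitTensorIso, Iso.trans_hom, Functor.mapIso_hom, Iso.app_hom, asIso_hom, Functor.id_map]
    refine ((Category.assoc _ _ _).symm.trans (congrArg (fun t => t ≫ (ModSiteLib.adjP O).counit.app N)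
      (((ModSiteLib.aP O).map_comp _ _).symm.trans ((congrArg (ModSiteLib.aP O).map
        (MonoidalCategory.leftUnitor_naturality ((ModSiteLib.jP O).map f))).trans ((ModSiteLib.aP O).map_comp _ _))))).trans ?_
    exact (Category.assoc _ _ _).trans ((congrArg _ ((ModSiteLib.adjP O).counit.naturality f)).trans
      (Category.assoc _ _ _).symm))

/-- On a ringed space (X, O), (1) if L and N are invertible O-modules (tensoring with each is an
equivalence of Mod(O)) then L ⊗_O N is invertible; (2) if L is invertible then Hom_O(L, O) is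
invertible and the evaluation map Hom_O(L, O) ⊗_O L → O, the counit of the adjunction between − ⊗ L
and Hom_O(L, −) at O, is an isomorphism. -/
theorem result {X : TopCat.{u}} (O : TopCat.Sheaf CommRingCat.{u} X)
    (L N : ModSite.Mod O) (hL : ((ModSite.tensorBi O).obj L).IsEquivalence) [ModSite.HasSheafHom L] :
    (((ModSite.tensorBi O).obj N).IsEquivalence →
        ((ModSite.tensorBi O).obj (((ModSite.tensorBi O).obj L).obj N)).IsEquivalence) ∧
      ((ModSite.tensorBi O).obj ((ModSite.sheafHom L).obj (ModSite.unit O))).IsEquivalence ∧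
      IsIso ((ModSite.sheafHomAdj L).counit.app (ModSite.unit O)) := by
  haveI := hL
  have h1 : ((ModSite.tensorBi O).flip.obj L).IsEquivalence :=
    Functor.isEquivalence_of_iso (ModSiteLib.tensorFlipIso O L).symm
  haveI := h1
  haveI : (ModSite.sheafHom L).IsEquivalence :=
    (ModSite.sheafHomAdj L).isEquivalence_right_of_isEquivalence_left
  have h3 : IsIso ((ModSite.sheafHomAdj L).counit.app (ModSite.unit O)) := inferInstance
  refine ⟨fun hN => ?_, ?_, h3⟩
  · haveI := hN
    exact Functor.isEquivalence_of_iso (tensTensIso O L N).symm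
  · let H := (ModSite.sheafHom L).obj (ModSite.unit O)
    let e : ((ModSite.tensorBi O).obj H).obj L ≅ ModSite.unit O :=
      @asIso _ _ _ _ ((ModSite.sheafHomAdj L).counit.app (ModSite.unit O)) h3
    haveI : ((ModSite.tensorBi O).obj L ⋙ (ModSite.tensorBi O).obj H).IsEquivalence :=
      Functor.isEquivalence_of_iso ((tensUnitIso O).symm ≪≫ ((ModSite.tensorBi O).mapIso e).symm ≪≫ tensTensIso O H L)
    exact Functor.isEquivalence_of_comp_left ((ModSite.tensorBi O).obj L) ((ModSite.tensorBi O).obj H)

end Groth.Agent.S6856
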