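import Groth.Statements.S6858
import Groth.Agent.LocalGenLib.Directed

set_option autoImplicit false
set_option backward.isDefEq.respectTransparency false
set_option backward.isDefEq.respectTransparency.types false
universe u
open CategoryTheory CategoryTheory.Limits TopologicalSpace
open ModSite

namespace Groth.Agent.S6858

/-- Let (X, O) be a ringed space all of whose stalks O_{X,x} are nonzero rings and F a locally free
O-module. Then there is a locally constant function rank_F : X → ℕ ∪ {∞} such that for every point
x, every open neighbourhood U of x and every index set I with F|_U ≅ ⊕_{i ∈ I} O_U, the cardinality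
of I (a natural number or ∞) is rank_F(x). -/
theorem result {X : TopCat.{u}} (O : TopCat.Sheaf CommRingCat.{u} X)
    (hO : ∀ x : X, Nontrivial (O.presheaf.stalk x)) (F : ModSite.Mod O)
    [SheafOfModules.IsLocallyFree (R := ModSite.ringSh O) F] :
    ∃ rk : X → ℕ∞, IsLocallyConstant rk ∧
      ∀ (x : X) (U : Opens X) (I : Type u), x ∈ U →
        Nonempty ((ModSite.restr O U).obj F ≅ SheafOfModules.free I) → ENat.card I = rk x := by
  refine Groth.Agent.LocalGenLib.exists_rank (hN := hO) F fun x => ?_
  obtain ⟨q, hq⟩ := (inferInstance : SheafOfModules.IsLocallyFree (R := ModSite.ringSh O) F).exists_isLocallyFreeData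
  obtain ⟨V, g, ⟨i, ⟨k⟩⟩, hxV⟩ := q.coversTop (⊤ : Opens X) x trivial
  haveI := hq.isIso i
  exact ⟨q.X i, _, k.le hxV, ⟨(asIso (q.generators i).π).symm⟩⟩

end Groth.Agent.S6858
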