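import Groth.Statements.S6861
import Groth.Agent.NeronSmoothLib.Main

set_option autoImplicit false
set_option backward.isDefEq.respectTransparency false
set_option backward.isDefEq.respectTransparency.types false
set_option maxRecDepth 8000
set_option maxHeartbeats 1000000
universe u
open Smoothing

namespace Groth.Agent.S6861

/-- Let R ⊆ Λ be an extension of discrete valuation rings of ramification index 1 (m_R Λ = m_Λ) whose
residue field extension is separable (geometrically reduced), π a uniformizer of R, A a flat
R-algebra of finite type with an R-algebra map A → Λ, and 𝔭 ⊆ A the inverse image of m_Λ. Assume R →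
A is smooth at 𝔭. Let A' = A[𝔭/π] ⊆ A_π be the affine blowup algebra (Néron's blowup) and A' → Λ the
induced map, i.e. the A-algebra map compatible with A_π → Λ_π (it exists and is unique; it is taken
as a datum here). Then R → A' is smooth at the inverse image 𝔭' of m_Λ in A'. (The source also gives
a short exact sequence relating the differentials of A and A' at 𝔭'; that part is not restated.) -/
theorem result {R Λ A : Type u} [CommRing R] [IsDomain R]
    [IsDiscreteValuationRing R] [CommRing Λ] [IsDomain Λ] [IsDiscreteValuationRing Λ] [Algebra R Λ]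
    [NoZeroSMulDivisors R Λ] [IsLocalHom (algebraMap R Λ)]
    (he : (IsLocalRing.maximalIdeal R).map (algebraMap R Λ) = IsLocalRing.maximalIdeal Λ)
    (hsep : Algebra.IsGeometricallyReduced (IsLocalRing.ResidueField R) (IsLocalRing.ResidueField Λ))
    [CommRing A] [Algebra R A] [Module.Flat R A] [Algebra.FiniteType R A] [Algebra A Λ] [IsScalarTower R A Λ]
    (π : R) (hπ : IsLocalRing.maximalIdeal R = Ideal.span {π})
    (hsm : Algebra.IsSmoothAt R ((IsLocalRing.maximalIdeal Λ).comap (algebraMap A Λ)))
    (φ' : BlowUp.affineAlgebra A ((IsLocalRing.maximalIdeal Λ).comap (algebraMap A Λ)) (algebraMap R A π) →ₐ[A] Λ)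
    (hφ' : ∀ a' : BlowUp.affineAlgebra A ((IsLocalRing.maximalIdeal Λ).comap (algebraMap A Λ)) (algebraMap R A π),
      algebraMap Λ (Localization.Away (algebraMap A Λ (algebraMap R A π))) (φ' a') =
        Localization.awayMap (algebraMap A Λ) (algebraMap R A π) a'.val) :
    Algebra.IsSmoothAt R ((IsLocalRing.maximalIdeal Λ).comap φ'.toRingHom) := by
  haveI := hsep
  haveI := hsm
  have hπp : algebraMap R A π ∈ (IsLocalRing.maximalIdeal Λ).comap (algebraMap A Λ) := by
    rw [Ideal.mem_comap, ← IsScalarTower.algebraMap_apply R A Λ, IsLocalRing.mem_maximalIdeal, mem_nonunits_iff,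
      isUnit_map_iff (algebraMap R Λ), ← mem_nonunits_iff, ← IsLocalRing.mem_maximalIdeal, hπ]
    exact Ideal.mem_span_singleton_self π
  exact NeronSmoothLib.main π hπ _ hπp (IsLocalRing.ResidueField Λ)
    ((IsLocalRing.residue Λ).comp (algebraMap A Λ))
    (by rw [← RingHom.comap_ker, IsLocalRing.ker_residue])
    (fun r => by
      show IsLocalRing.residue Λ (algebraMap A Λ (algebraMap R A r)) = _
      rw [← IsScalarTower.algebraMap_apply R A Λ]
      rfl)
    _ (Ideal.ext fun a => by
      show φ' (algebraMap A _ a) ∈ IsLocalRing.maximalIdeal Λ ↔ algebraMap A Λ a ∈ IsLocalRing.maximalIdeal Λ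
      rw [φ'.commutes])

end Groth.Agent.S6861
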