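import Groth.Statements.S6862
import Mathlib.Algebra.Module.StablyFree.Basic
import Mathlib.Algebra.Module.Projective
import Mathlib.LinearAlgebra.Prod
import Mathlib.LinearAlgebra.Dimension.Free
import Mathlib.RingTheory.Finiteness.Prod
-- import your own Groth.Agent.* helpers here

set_option autoImplicit false
universe u
open CAlg

namespace Groth.Agent.S6862

/-- Let `R` be a commutative ring and `P'`, `P`, `P''` finitely generated projective `R`-modules in an
exact sequence `0 → P' → P → P'' → 0`. Whenever two of the three are stably free, the remaining one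
is stably free too (all three cases are stated). -/
theorem result {R : Type u} [CommRing R] {P' P P'' : Type u}
    [AddCommGroup P'] [Module R P'] [Module.Finite R P'] [Module.Projective R P']
    [AddCommGroup P] [Module R P] [Module.Finite R P] [Module.Projective R P]
    [AddCommGroup P''] [Module R P''] [Module.Finite R P''] [Module.Projective R P'']
    (f : P' →ₗ[R] P) (g : P →ₗ[R] P'') (hf : Function.Injective f) (hg : Function.Surjective g)
    (hfg : Function.Exact f g) :
    (Module.IsStablyFree R P' → Module.IsStablyFree R P → Module.IsStablyFree R P'') ∧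
    (Module.IsStablyFree R P' → Module.IsStablyFree R P'' → Module.IsStablyFree R P) ∧
    (Module.IsStablyFree R P → Module.IsStablyFree R P'' → Module.IsStablyFree R P') := by
  obtain ⟨s, hs⟩ := Module.projective_lifting_property g LinearMap.id hg
  have hs' : ∀ x, g (s x) = x := LinearMap.congr_fun hs
  let e : (P' × P'') ≃ₗ[R] P := LinearEquiv.ofBijective (f.coprod s) (by
    constructor
    · rw [injective_iff_map_eq_zero]
      rintro ⟨a, b⟩ h
      simp only [LinearMap.coprod_apply] at h
      have hb : b = 0 := by
        have := congrArg g h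
        rwa [map_add, hfg.apply_apply_eq_zero, zero_add, hs', map_zero] at this
      subst hb
      rw [map_zero, add_zero, ← map_zero f] at h
      rw [hf h]
      rfl
    · intro x
      obtain ⟨a, ha⟩ := (hfg (x - s (g x))).1 (by rw [map_sub, hs', sub_self])
      exact ⟨(a, g x), by simp [ha]⟩)
  refine ⟨fun h1 h2 => ?_, fun h1 h2 => ?_, fun h1 h2 => ?_⟩
  · obtain ⟨A, _, _, _, _, _⟩ := @Module.IsStablyFree.exist_free_prod R _ P' _ _ h1
    obtain ⟨B, _, _, _, _, _⟩ := @Module.IsStablyFree.exist_free_prod R _ P _ _ h2
    haveI : Module.Free R (P'' × (B × (P' × A))) := Module.Free.of_equiv (show ((P × B) × A) ≃ₗ[R] (P'' × (B × (P' × A))) from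
      { toFun := fun w => ((e.symm w.1.1).2, (w.1.2, ((e.symm w.1.1).1, w.2)))
        invFun := fun w => ((e (w.2.2.1, w.1), w.2.1), w.2.2.2)
        map_add' := fun _ _ => by simp
        map_smul' := fun _ _ => by simp
        left_inv := fun w => by simp
        right_inv := fun w => by simp })
    exact Module.IsStablyFree.of_free_prod R P'' (B × (P' × A))
  · obtain ⟨A, _, _, _, _, _⟩ := @Module.IsStablyFree.exist_free_prod R _ P' _ _ h1
    obtain ⟨B, _, _, _, _, _⟩ := @Module.IsStablyFree.exist_free_prod R _ P'' _ _ h2
    haveI : Module.Free R (P × (A × B)) := Module.Free.of_equiv (show ((P' × A) × (P'' × B)) ≃ₗ[R] (P × (A × B)) from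
      { toFun := fun w => (e (w.1.1, w.2.1), (w.1.2, w.2.2))
        invFun := fun w => (((e.symm w.1).1, w.2.1), ((e.symm w.1).2, w.2.2))
        map_add' := fun x y => by simp only [Prod.fst_add, Prod.snd_add, Prod.mk_add_mk]; rw [← Prod.mk_add_mk, map_add]
        map_smul' := fun c x => by simp only [Prod.smul_fst, Prod.smul_snd, Prod.smul_mk, RingHom.id_apply]; rw [← Prod.smul_mk, map_smul]
        left_inv := fun w => by simp
        right_inv := fun w => by simp })
    exact Module.IsStablyFree.of_free_prod R P (A × B)
  · obtain ⟨B, _, _, _, _, _⟩ := @Module.IsStablyFree.exist_free_prod R _ P _ _ h1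
    obtain ⟨A, _, _, _, _, _⟩ := @Module.IsStablyFree.exist_free_prod R _ P'' _ _ h2
    haveI : Module.Free R (P' × (B × (P'' × A))) := Module.Free.of_equiv (show ((P × B) × A) ≃ₗ[R] (P' × (B × (P'' × A))) from
      { toFun := fun w => ((e.symm w.1.1).1, (w.1.2, ((e.symm w.1.1).2, w.2)))
        invFun := fun w => ((e (w.1, w.2.2.1), w.2.1), w.2.2.2)
        map_add' := fun _ _ => by simp
        map_smul' := fun _ _ => by simp
        left_inv := fun w => by simp
        right_inv := fun w => by simp })
    exact Module.IsStablyFree.of_free_prod R P' (B × (P'' × A))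

end Groth.Agent.S6862
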