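import Groth.Statements.S6863
import Mathlib.RingTheory.Finiteness.Basic
import Mathlib.RingTheory.Finiteness.Prod
import Mathlib.RingTheory.TensorProduct.Finite
import Mathlib.Algebra.Module.Projective
import Mathlib.RingTheory.Nakayama
import Mathlib.LinearAlgebra.Dimension.Free
import Mathlib.LinearAlgebra.TensorProduct.Tower
import Mathlib.Algebra.Module.StablyFree.Basic


-- import your own Groth.Agent.* helpers here

set_option autoImplicit false
universe u
open TensorProduct
open CAlg

namespace Groth.Agent.S6863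

/-- Let `I` be an ideal of a commutative ring `R` contained in the Jacobson radical (equivalently, `1 +
i` is a unit for each `i ∈ I`). Then each finitely generated stably free module `E` over `R/I`
lifts: there is a finite stably free `R`-module `M` with `M/IM ≅ E` (existence of an isomorphism
only; the published statement names no map). -/
theorem result {R : Type u} [CommRing R] (I : Ideal R)
    (hI : I ≤ Ideal.jacobson (⊥ : Ideal R)) (E : Type u) [AddCommGroup E] [Module (R ⧸ I) E]
    [Module.Finite (R ⧸ I) E] [Module.IsStablyFree (R ⧸ I) E] :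
    ∃ (M : Type u) (_ : AddCommGroup M) (_ : Module R M), Module.Finite R M ∧ Module.IsStablyFree R M ∧
      Nonempty ((R ⧸ I) ⊗[R] M ≃ₗ[R ⧸ I] E) := by
  classical
  obtain ⟨N, _, _, _, _, _⟩ := Module.IsStablyFree.exist_free_prod (R ⧸ I) E
  rcases subsingleton_or_nontrivial (R ⧸ I) with hss | hnt
  · refine ⟨PUnit, inferInstance, inferInstance, inferInstance, inferInstance, ?_⟩
    have : Subsingleton E := Module.subsingleton (R ⧸ I) E
    have : Subsingleton ((R ⧸ I) ⊗[R] PUnit.{u+1}) := Module.subsingleton (R ⧸ I) _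
    exact ⟨LinearEquiv.ofSubsingleton _ _⟩
  have : Module.Finite (R ⧸ I) (E × N) := inferInstance
  set a := Module.finrank (R ⧸ I) N
  set b := Module.finrank (R ⧸ I) (E × N)
  let eN : N ≃ₗ[R ⧸ I] (Fin a → R ⧸ I) := (Module.finBasis (R ⧸ I) N).equivFun
  let eB : (E × N) ≃ₗ[R ⧸ I] (Fin b → R ⧸ I) := (Module.finBasis (R ⧸ I) (E × N)).equivFun
  let p : (Fin b → R ⧸ I) →ₗ[R ⧸ I] (Fin a → R ⧸ I) := eN.toLinearMap ∘ₗ LinearMap.snd _ E N ∘ₗ eB.symm.toLinearMap
  let inclE : E →ₗ[R ⧸ I] (Fin b → R ⧸ I) := eB.toLinearMap ∘ₗ LinearMap.inl _ E N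
  let projE : (Fin b → R ⧸ I) →ₗ[R ⧸ I] E := LinearMap.fst _ E N ∘ₗ eB.symm.toLinearMap
  have hpsurj : Function.Surjective p := fun y => ⟨eB (0, eN.symm y), by simp [p]⟩
  let red : ∀ k : ℕ, (Fin k → R) →ₗ[R] (Fin k → R ⧸ I) := fun k => LinearMap.pi fun i => (Algebra.linearMap R (R ⧸ I)) ∘ₗ LinearMap.proj i
  have hredsurj : ∀ k, Function.Surjective (red k) := fun k y => by
    choose v hv using fun i => Ideal.Quotient.mk_surjective (I := I) (y i)
    exact ⟨v, funext hv⟩
  obtain ⟨pl, hpl⟩ := Module.projective_lifting_property (red a) ((p.restrictScalars R) ∘ₗ red b) (hredsurj a)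
  have hpl' : ∀ v, red a (pl v) = p (red b v) := fun v => LinearMap.congr_fun hpl v
  have hsurj : Function.Surjective pl := by
    rw [← LinearMap.range_eq_top]
    refine top_le_iff.1 (Submodule.le_of_le_smul_of_le_jacobson_bot (Module.Finite.fg_top) hI ?_)
    intro y _
    obtain ⟨w, hw⟩ := hpsurj (red a y)
    obtain ⟨v, rfl⟩ := hredsurj b w
    refine Submodule.mem_sup.2 ⟨pl v, LinearMap.mem_range_self pl v, y - pl v, ?_, add_sub_cancel _ _⟩
    have h0 : ∀ i, (y - pl v) i ∈ I := fun i => Ideal.Quotient.eq_zero_iff_mem.1 (by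
      have := congrFun (hw.symm.trans (hpl' v).symm) i
      show Ideal.Quotient.mk I (y i - pl v i) = 0
      rw [map_sub, sub_eq_zero]; exact this)
    rw [pi_eq_sum_univ' (y - pl v)]
    exact sum_mem fun i _ => Submodule.smul_mem_smul (h0 i) Submodule.mem_top
  obtain ⟨σ, hσ⟩ := Module.projective_lifting_property pl LinearMap.id hsurj
  have hσ' : ∀ y, pl (σ y) = y := fun y => LinearMap.congr_fun hσ y
  let M := LinearMap.ker pl
  let q : (Fin b → R) →ₗ[R] M := (LinearMap.id - σ ∘ₗ pl).codRestrict M fun v => by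
    simp [M, hσ']
  have hqid : ∀ m : M, q m = m := fun m => Subtype.ext (by
    have hm0 : pl (m : Fin b → R) = 0 := m.2
    simp [q, hm0])
  let eM : (Fin b → R) ≃ₗ[R] M × (Fin a → R) := LinearEquiv.ofLinearMap (q.prod pl) (M.subtype.coprod σ)
    (LinearMap.ext fun ⟨m, y⟩ => by
      have hm0 : pl (m : Fin b → R) = 0 := m.2
      refine Prod.ext (Subtype.ext ?_) ?_ <;> simp [q, hm0, hσ'])
    (LinearMap.ext fun v => by simp [q])
  have hMf : Module.Finite R M := Module.Finite.of_surjective q fun m => ⟨m, hqid m⟩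
  have : Module.Free R (M × (Fin a → R)) := Module.Free.of_equiv eM
  have hMs : Module.IsStablyFree R M := Module.IsStablyFree.of_free_prod R M (Fin a → R)
  letI : Module R E := Module.compHom E (Ideal.Quotient.mk I)
  have : IsScalarTower R (R ⧸ I) E := IsScalarTower.of_algebraMap_smul fun r x => rfl
  let φ := ((projE.restrictScalars R) ∘ₗ red b ∘ₗ M.subtype).liftBaseChange (R ⧸ I)
  let c : (Fin b → R ⧸ I) →ₗ[R ⧸ I] (R ⧸ I) ⊗[R] M :=
    Fintype.linearCombination (R ⧸ I) fun i => (1 : R ⧸ I) ⊗ₜ[R] q (Pi.single i 1)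
  have hc : ∀ v, c (red b v) = (1 : R ⧸ I) ⊗ₜ[R] q v := by
    intro v
    conv_rhs => rw [pi_eq_sum_univ' v, map_sum, TensorProduct.tmul_sum]
    simp only [c, Fintype.linearCombination_apply]
    refine Finset.sum_congr rfl fun i _ => ?_
    rw [map_smul, TensorProduct.tmul_smul]
    exact algebraMap_smul (R ⧸ I) (v i) _
  have hproj : ∀ w, p w = 0 → inclE (projE w) = w := by
    intro w hw
    have h2 : (eB.symm w).2 = 0 := eN.injective (by simpa [p] using hw)
    have : ((eB.symm w).1, (0 : N)) = eB.symm w := Prod.ext rfl h2.symm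
    simp [inclE, projE, this]
  have hq0 : ∀ v, p (red b v) = 0 → red b (q v : Fin b → R) = red b v := by
    intro v hv
    show red b (v - σ (pl v)) = _
    rw [map_sub, sub_eq_self]
    have h1 : ∀ i, pl v i ∈ I := fun i => Ideal.Quotient.eq_zero_iff_mem.1 (congrFun ((hpl' v).trans hv) i)
    rw [pi_eq_sum_univ' (pl v), map_sum, map_sum]
    refine Finset.sum_eq_zero fun i _ => funext fun j => ?_
    show Ideal.Quotient.mk I (σ (pl v i • Pi.single i 1) j) = 0
    rw [map_smul, Ideal.Quotient.eq_zero_iff_mem]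
    exact Ideal.mul_mem_right _ _ (h1 i)
  refine ⟨M, inferInstance, inferInstance, hMf, hMs, ⟨LinearEquiv.ofLinearMap φ (c ∘ₗ inclE) ?_ ?_⟩⟩
  · refine LinearMap.ext fun x => ?_
    obtain ⟨v, hv⟩ := hredsurj b (inclE x)
    rw [LinearMap.comp_apply, LinearMap.comp_apply, ← hv, hc, LinearMap.id_apply]
    simp only [φ, LinearMap.liftBaseChange_tmul, one_smul, LinearMap.comp_apply, LinearMap.coe_restrictScalars, Submodule.subtype_apply]
    rw [hq0 v (by rw [hv]; simp [p, inclE]), hv]
    simp [projE, inclE]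
  · refine TensorProduct.AlgebraTensorModule.ext fun t m => ?_
    rw [show t ⊗ₜ[R] m = t • ((1 : R ⧸ I) ⊗ₜ[R] m) by rw [TensorProduct.smul_tmul', smul_eq_mul, mul_one], map_smul, LinearMap.id_apply]
    congr 1
    simp only [φ, LinearMap.comp_apply, LinearMap.liftBaseChange_tmul, one_smul, LinearMap.coe_restrictScalars, Submodule.subtype_apply]
    have hm0 : pl (m : Fin b → R) = 0 := m.2
    rw [hproj _ (by rw [← hpl', hm0, map_zero]), hc, hqid]

end Groth.Agent.S6863
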