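import Groth.Statements.S6864
import Mathlib.RingTheory.Nakayama
import Mathlib.Algebra.Module.Projective
import Mathlib.LinearAlgebra.TensorProduct.Quotient

set_option autoImplicit false
universe u
open TensorProduct
open CAlg

namespace Groth.Agent.S6864

theorem bijective_of_mod {R : Type u} [CommRing R] (I : Ideal R)
    (hI : I ≤ Ideal.jacobson (⊥ : Ideal R)) {P P' : Type u}
    [AddCommGroup P] [Module R P] [Module.Finite R P]
    [AddCommGroup P'] [Module R P'] [Module.Finite R P'] [Module.Projective R P'] (φ : P →ₗ[R] P')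
    (h : Function.Bijective (φ.baseChange (R ⧸ I))) : Function.Bijective φ := by
  have key : ∀ {N : Type u} [AddCommGroup N] [Module R N] (x : N),
      x ∈ I • (⊤ : Submodule R N) ↔ (1 : R ⧸ I) ⊗ₜ[R] x = 0 := fun {N} _ _ x => by
    rw [← (TensorProduct.quotTensorEquivQuotSMul N I).map_eq_zero_iff,
      ← map_one (Ideal.Quotient.mk I), TensorProduct.quotTensorEquivQuotSMul_mk_tmul, one_smul,
      Submodule.Quotient.mk_eq_zero]
  have hsurj : Function.Surjective φ := by
    rw [← LinearMap.range_eq_top]
    refine top_le_iff.1 (Submodule.le_of_le_smul_of_le_jacobson_bot Module.Finite.fg_top hI fun y _ => ?_)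
    obtain ⟨z, hz⟩ := h.2 (1 ⊗ₜ[R] y)
    obtain ⟨x, rfl⟩ : ∃ x, (1 : R ⧸ I) ⊗ₜ[R] x = z := by
      obtain ⟨w, hw⟩ := Submodule.mkQ_surjective _ (TensorProduct.quotTensorEquivQuotSMul P I z)
      refine ⟨w, (TensorProduct.quotTensorEquivQuotSMul P I).injective ?_⟩
      rw [← map_one (Ideal.Quotient.mk I), TensorProduct.quotTensorEquivQuotSMul_mk_tmul, one_smul]
      exact hw
    rw [LinearMap.baseChange_tmul] at hz
    have hd : y - φ x ∈ I • (⊤ : Submodule R P') := by
      rw [key, TensorProduct.tmul_sub, hz, sub_self]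
    exact Submodule.mem_sup.2 ⟨φ x, LinearMap.mem_range_self φ x, y - φ x, hd, add_sub_cancel _ _⟩
  obtain ⟨s, hs⟩ := Module.projective_lifting_property φ LinearMap.id hsurj
  let r : P →ₗ[R] LinearMap.ker φ := (LinearMap.id - s.comp φ).codRestrict _ fun x => by
    have := LinearMap.congr_fun hs (φ x)
    simp only [LinearMap.comp_apply, LinearMap.id_apply] at this
    simp [LinearMap.mem_ker, this]
  have hr : ∀ x : LinearMap.ker φ, r x = x := fun x => Subtype.ext (by simp [r, LinearMap.mem_ker.1 x.2])
  have : Module.Finite R (LinearMap.ker φ) := Module.Finite.of_surjective r fun x => ⟨x, hr x⟩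
  have hk : (⊤ : Submodule R (LinearMap.ker φ)) = ⊥ := by
    refine Submodule.eq_bot_of_le_smul_of_le_jacobson_bot I _ Module.Finite.fg_top (fun x _ => ?_) hI
    have hx : (x : P) ∈ I • (⊤ : Submodule R P) := by
      rw [key]
      apply h.1
      rw [LinearMap.baseChange_tmul, LinearMap.mem_ker.1 x.2, TensorProduct.tmul_zero, map_zero]
    have : r x ∈ (I • (⊤ : Submodule R P)).map r := Submodule.mem_map_of_mem hx
    rw [Submodule.map_smul'', hr] at this
    exact Submodule.smul_mono le_rfl le_top this
  refine ⟨(injective_iff_map_eq_zero φ).2 fun x hx => ?_, hsurj⟩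
  have hmem : (⟨x, hx⟩ : LinearMap.ker φ) ∈ (⊥ : Submodule R (LinearMap.ker φ)) := hk ▸ Submodule.mem_top
  have h0 : (⟨x, hx⟩ : LinearMap.ker φ) = 0 := (Submodule.mem_bot R).1 hmem
  exact congrArg Subtype.val h0

/-- Let `I` be an ideal of a commutative ring `R` contained in the Jacobson radical and let `φ : P → P'`
be an `R`-linear map between finite projective `R`-modules. If the induced map `P/IP → P'/IP'` is
bijective, then `φ` is bijective. -/
theorem result {R : Type u} [CommRing R] (I : Ideal R)
    (hI : I ≤ Ideal.jacobson (⊥ : Ideal R)) {P P' : Type u}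
    [AddCommGroup P] [Module R P] [Module.Finite R P] [Module.Projective R P]
    [AddCommGroup P'] [Module R P'] [Module.Finite R P'] [Module.Projective R P'] (φ : P →ₗ[R] P')
    (h : Function.Bijective (φ.baseChange (R ⧸ I))) : Function.Bijective φ := by
  exact bijective_of_mod I hI φ h

end Groth.Agent.S6864
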