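import Groth.Statements.S6865
import Groth.Agent.S6864

set_option autoImplicit false
universe u
open TensorProduct
open CAlg

namespace Groth.Agent.S6865

/-- Let `I` be an ideal of a commutative ring `R` contained in the Jacobson radical and let `P, P'` be
finite projective `R`-modules. If `P/IP` and `P'/IP'` are isomorphic `R/I`-modules, then `P` and
`P'` are isomorphic. -/
theorem result {R : Type u} [CommRing R] (I : Ideal R)
    (hI : I ≤ Ideal.jacobson (⊥ : Ideal R)) (P P' : Type u)
    [AddCommGroup P] [Module R P] [Module.Finite R P] [Module.Projective R P]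
    [AddCommGroup P'] [Module R P'] [Module.Finite R P'] [Module.Projective R P']
    (e : (R ⧸ I) ⊗[R] P ≃ₗ[R ⧸ I] (R ⧸ I) ⊗[R] P') : Nonempty (P ≃ₗ[R] P') := by
  let eP := TensorProduct.quotTensorEquivQuotSMul P I
  let mkP : P →ₗ[R] TensorProduct R (R ⧸ I) P := TensorProduct.mk R (R ⧸ I) P 1
  let mkP' : P' →ₗ[R] TensorProduct R (R ⧸ I) P' := TensorProduct.mk R (R ⧸ I) P' 1
  have hsurj : Function.Surjective mkP' := fun z => by
    obtain ⟨w, hw⟩ := Submodule.mkQ_surjective _ (TensorProduct.quotTensorEquivQuotSMul P' I z)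
    refine ⟨w, (TensorProduct.quotTensorEquivQuotSMul P' I).injective ?_⟩
    change TensorProduct.quotTensorEquivQuotSMul P' I (1 ⊗ₜ[R] w) = _
    rw [← map_one (Ideal.Quotient.mk I), TensorProduct.quotTensorEquivQuotSMul_mk_tmul, one_smul]
    exact hw
  obtain ⟨φ, hφ⟩ := Module.projective_lifting_property mkP' ((e.toLinearMap.restrictScalars R).comp mkP) hsurj
  have hb : φ.baseChange (R ⧸ I) = e.toLinearMap := by
    refine LinearMap.ext fun z => ?_
    induction z using TensorProduct.induction_on with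
    | zero => simp
    | add a b ha hb => rw [map_add, map_add, ha, hb]
    | tmul c x =>
      have h1 : (1 : R ⧸ I) ⊗ₜ[R] φ x = e (1 ⊗ₜ[R] x) := LinearMap.congr_fun hφ x
      rw [LinearMap.baseChange_tmul, LinearEquiv.coe_coe,
        show c ⊗ₜ[R] φ x = c • ((1 : R ⧸ I) ⊗ₜ[R] φ x) by rw [TensorProduct.smul_tmul', smul_eq_mul, mul_one],
        h1, ← map_smul, TensorProduct.smul_tmul', smul_eq_mul, mul_one]
  exact ⟨LinearEquiv.ofBijective φ (S6864.bijective_of_mod I hI φ (hb ▸ e.bijective))⟩

end Groth.Agent.S6865
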