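import Groth.Statements.S6866
import Mathlib.LinearAlgebra.Basis.VectorSpace
import Mathlib.RingTheory.Localization.FractionRing
import Mathlib.RingTheory.Localization.BaseChange
import Mathlib.RingTheory.Flat.Localization
import Mathlib.RingTheory.Flat.Stability


-- import your own Groth.Agent.* helpers here

set_option autoImplicit false
universe u
open TensorProduct
open CAlg

namespace Groth.Agent.S6866

/-- If `M` is a torsion free module over a domain `R` and `R → R'` is a flat ring map to another domain,
then `R' ⊗_R M` is torsion free over `R'`. -/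
theorem result (R R' : Type u) [CommRing R] [IsDomain R] [CommRing R']
    [IsDomain R'] [Algebra R R'] [Module.Flat R R'] (M : Type u) [AddCommGroup M] [Module R M]
    [Module.IsTorsionFree R M] : Module.IsTorsionFree R' (R' ⊗[R] M) := by
  let K := FractionRing R
  let ι : M →ₗ[R] K ⊗[R] M := TensorProduct.mk R K M 1
  have hι : Function.Injective ι := by
    refine (injective_iff_map_eq_zero ι).2 fun m hm => ?_
    obtain ⟨c, hc⟩ := (IsLocalizedModule.eq_zero_iff (nonZeroDivisors R) (TensorProduct.mk R K M 1)).1 hm
    exact (smul_eq_zero.1 hc).resolve_left (nonZeroDivisors.ne_zero c.2)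
  have : Module.Flat R K := IsLocalization.flat K (nonZeroDivisors R)
  have : Module.Free K (K ⊗[R] M) := Module.Free.of_basis (Module.Basis.ofVectorSpace K _)
  have : Module.Flat K (K ⊗[R] M) := Module.Flat.of_free
  have : Module.Flat R (K ⊗[R] M) := Module.Flat.trans R K (K ⊗[R] M)
  refine ⟨fun r' hr' x y hxy => ?_⟩
  let μ : R' →ₗ[R] R' := (LinearMap.mulLeft R' r').restrictScalars R
  have hμ : Function.Injective μ := hr'.left
  have hinjι : Function.Injective (ι.lTensor R') := Module.Flat.lTensor_preserves_injective_linearMap ι hι
  apply hinjι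
  apply Module.Flat.rTensor_preserves_injective_linearMap (M := K ⊗[R] M) μ hμ
  have hμ' : ∀ z : R' ⊗[R] M, μ.rTensor (K ⊗[R] M) (ι.lTensor R' z) = ι.lTensor R' (r' • z) := by
    intro z
    induction z using TensorProduct.induction_on with
    | zero => simp
    | tmul a m => simp [μ, TensorProduct.smul_tmul']
    | add a b ha hb => rw [map_add, map_add, ha, hb, smul_add, map_add]
  rw [hμ', hμ']
  exact congrArg _ hxy

end Groth.Agent.S6866
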