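import Groth.Statements.S6868
import Mathlib.RingTheory.Ideal.AssociatedPrime.Localization
import Groth.Agent.DepthTwoLib.Reflexive


-- import your own Groth.Agent.* helpers here

set_option autoImplicit false
universe u
open CAlg

namespace Groth.Agent.S6868

/-- (1) ⇔ (3) ⇔ (4): for a Noetherian domain `R` and a nonzero finite `R`-module `M`, torsion-freeness
of `M` is equivalent to `(0)` being the unique associated prime of `M`, and also to the conjunction:
`(0)` belongs to the support of `M` and `M` satisfies Serre's condition `(S_1)`. (The published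
statement also lists embedding into a finite free module and the absence of embedded associated
primes; this row states the other three conditions.) -/
theorem result (R : Type u) [CommRing R]
    [IsDomain R] [IsNoetherianRing R] (M : Type u) [AddCommGroup M] [Module R M] [Module.Finite R M] [Nontrivial M] :
    (Module.IsTorsionFree R M ↔ associatedPrimes R M = {⊥}) ∧
    (Module.IsTorsionFree R M ↔
      (⟨⊥, Ideal.isPrime_bot⟩ : PrimeSpectrum R) ∈ Module.support R M ∧ LocCoh.HasSk 1 R M) := by
  have hTF : Module.IsTorsionFree R M ↔ associatedPrimes R M = {⊥} := by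
    rw [Module.isTorsionFree_iff_smul_eq_zero]
    have hu := biUnion_associatedPrimes_eq_zero_divisors R M
    constructor
    · intro h
      refine Set.eq_singleton_iff_nonempty_unique_mem.2 ⟨associatedPrimes.nonempty R M, fun p hp => ?_⟩
      rw [eq_bot_iff]
      intro r hr
      have : r ∈ {r : R | ∃ x : M, x ≠ 0 ∧ r • x = 0} := hu ▸ Set.mem_biUnion hp hr
      obtain ⟨x, hx, hrx⟩ := this
      exact Ideal.mem_bot.2 ((h r x hrx).resolve_right hx)
    · intro h r x hrx
      refine or_iff_not_imp_right.2 fun hx => ?_
      have : r ∈ ⋃ p ∈ associatedPrimes R M, (p : Set R) := hu.symm ▸ ⟨x, hx, hrx⟩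
      simpa [h] using this
  refine ⟨hTF, fun h => ⟨?_, ?_⟩, fun ⟨hb, hS⟩ => ?_⟩
  · obtain ⟨x, hx⟩ := exists_ne (0 : M)
    exact Module.mem_support_iff'.2 ⟨x, fun r hr h0 => by
      rcases (Module.isTorsionFree_iff_smul_eq_zero.1 h r x h0) with h1 | h1
      · exact hr (by simp [h1])
      · exact hx h1⟩
  · refine DepthTwoLib.hasSk_one.2 fun p _ hd => ?_
    have : IsNoetherianRing (Localization.AtPrime p) := IsLocalization.isNoetherianRing p.primeCompl _ inferInstance
    unfold LocCoh.depth
    rw [DepthTwoLib.one_le_iff]
    have hp : p ≠ ⊥ := by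
      rintro rfl
      obtain ⟨⟨a, _⟩, ⟨b, _⟩, hab⟩ := Order.one_le_krullDim_iff.1 hd
      have hbot : ∀ q : PrimeSpectrum (Localization.AtPrime (⊥ : Ideal R)), q.asIdeal.comap (algebraMap R _) = ⊥ :=
        fun q => eq_bot_iff.2 (((IsLocalization.AtPrime.orderIsoOfPrime _ (⊥ : Ideal R)) ⟨q.asIdeal, q.2⟩).2.2)
      refine hab.ne (Subtype.ext (PrimeSpectrum.ext ?_))
      rw [← IsLocalization.map_under (⊥ : Ideal R).primeCompl _ a.asIdeal,
        ← IsLocalization.map_under (⊥ : Ideal R).primeCompl _ b.asIdeal, Ideal.under, Ideal.under, hbot, hbot]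
    obtain ⟨r, hr, hr0⟩ := Submodule.exists_mem_ne_zero_of_ne_bot hp
    intro m hm
    obtain ⟨⟨x, s⟩, rfl⟩ := IsLocalizedModule.mk'_surjective p.primeCompl (LocalizedModule.mkLinearMap p.primeCompl M) m
    have := hm (algebraMap R _ r) ((IsLocalization.AtPrime.to_map_mem_maximal_iff (Localization.AtPrime p) p r).2 hr)
    rw [Function.uncurry_apply_pair, algebraMap_smul, ← IsLocalizedModule.mk'_smul,
      IsLocalizedModule.mk'_eq_zero'] at this
    obtain ⟨u, hu⟩ := this
    rw [Submonoid.smul_def, smul_smul] at hu
    rcases Module.isTorsionFree_iff_smul_eq_zero.1 h _ _ hu with h1 | h1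
    · rcases mul_eq_zero.1 h1 with h2 | h2
      · exact absurd (by rw [h2]; exact zero_mem _) u.2
      · exact absurd h2 hr0
    · rw [h1, Function.uncurry_apply_pair, IsLocalizedModule.mk'_zero]
  · rw [hTF]
    refine Set.eq_singleton_iff_nonempty_unique_mem.2 ⟨associatedPrimes.nonempty R M, fun p hp => ?_⟩
    by_contra hne
    have hpp : p.IsPrime := IsAssociatedPrime.isPrime hp
    have : IsNoetherianRing (Localization.AtPrime p) := IsLocalization.isNoetherianRing p.primeCompl _ inferInstance
    have hmax : IsLocalRing.maximalIdeal (Localization.AtPrime p) ∈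
        associatedPrimes (Localization.AtPrime p) (LocalizedModule p.primeCompl M) := by
      rw [← Module.associatedPrimes.preimage_comap_associatedPrimes_eq_associatedPrimes_of_isLocalizedModule
        p.primeCompl (Localization.AtPrime p) (LocalizedModule.mkLinearMap p.primeCompl M)]
      show Ideal.comap (algebraMap R (Localization.AtPrime p)) (IsLocalRing.maximalIdeal (Localization.AtPrime p)) ∈ associatedPrimes R M
      rw [← Ideal.under, IsLocalization.AtPrime.under_maximalIdeal (Localization.AtPrime p) p]
      exact hp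
    have hd : 1 ≤ Module.supportDim (Localization.AtPrime p) (LocalizedModule p.primeCompl M) := by
      have : IsDomain (Localization.AtPrime p) := IsLocalization.isDomain_localization p.primeCompl_le_nonZeroDivisors
      refine Order.one_le_krullDim_iff.2 ⟨⟨⟨⊥, Ideal.isPrime_bot⟩, ?_⟩,
        ⟨IsLocalRing.closedPoint _, ?_⟩, ?_⟩
      · rw [DepthTwoLib.mem_support_localized_iff]
        convert hb using 1
        ext1
        exact Ideal.comap_bot_of_injective _ (IsLocalization.injective _ p.primeCompl_le_nonZeroDivisors)
      · rw [DepthTwoLib.mem_support_localized_iff]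
        exact Module.mem_support_mono (show (⟨⊥, Ideal.isPrime_bot⟩ : PrimeSpectrum R) ≤ _ from bot_le) hb
      · refine lt_of_le_of_ne (Subtype.mk_le_mk.2 ((bot_le : (⊥ : Ideal (Localization.AtPrime p)) ≤ IsLocalRing.maximalIdeal _))) fun e => hne ?_
        have e' : (⊥ : Ideal (Localization.AtPrime p)) = IsLocalRing.maximalIdeal _ :=
          congrArg (fun z => z.1.asIdeal) e
        rw [← IsLocalization.AtPrime.under_maximalIdeal (Localization.AtPrime p) p, ← e', Ideal.under]
        exact Ideal.comap_bot_of_injective _ (IsLocalization.injective _ p.primeCompl_le_nonZeroDivisors)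
    have h1 := DepthTwoLib.hasSk_one.1 hS p hd
    unfold LocCoh.depth at h1
    rw [DepthTwoLib.one_le_iff] at h1
    obtain ⟨hmp, x, hx⟩ := isAssociatedPrime_iff.1 hmax
    refine hmp.ne_top ((Ideal.eq_top_iff_one _).2 ?_)
    rw [hx, Submodule.mem_colon_singleton, Submodule.mem_bot, h1 x fun j hj => ?_, smul_zero]
    rw [hx, Submodule.mem_colon_singleton, Submodule.mem_bot] at hj
    exact hj

end Groth.Agent.S6868
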