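import Groth.Statements.S6870
import Mathlib.LinearAlgebra.LinearIndependent.Lemmas
import Mathlib.LinearAlgebra.Dual.Lemmas


-- import your own Groth.Agent.* helpers here

set_option autoImplicit false
universe u
open CAlg

namespace Groth.Agent.S6870

/-- Let `R` be a domain, `M` a finite `R`-module and `j : M → M**` the evaluation map into the double
dual. Then one nonzero `c ∈ R` kills the kernel of `j` and multiplies `M**` into the image of `j`.
(The published statement says only that the kernel and cokernel of `j` are torsion; this row gives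
one such `c` for both.) -/
theorem result (R : Type u) [CommRing R] [IsDomain R] (M : Type u)
    [AddCommGroup M] [Module R M] [Module.Finite R M] :
    ∃ c : R, c ≠ 0 ∧ (∀ x : M, Module.Dual.eval R M x = 0 → c • x = 0) ∧
      ∀ y : Module.Dual R (Module.Dual R M), c • y ∈ LinearMap.range (Module.Dual.eval R M) := by
  classical
  obtain ⟨t, ht⟩ := (Module.Finite.fg_top : (⊤ : Submodule R M).FG)
  obtain ⟨s, ⟨hst, hli⟩, hmax⟩ : ∃ s : Finset M, (s ⊆ t ∧ LinearIndepOn R id (s : Set M)) ∧
      ∀ s' : Finset M, s' ⊆ t ∧ LinearIndepOn R id (s' : Set M) → s'.card ≤ s.card := by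
    obtain ⟨s, hs, hmax⟩ := Finset.exists_max_image (t.powerset.filter fun s : Finset M => LinearIndepOn R id (s : Set M))
      Finset.card ⟨∅, by simp [linearIndepOn_empty]⟩
    exact ⟨s, by simpa using hs, fun s' hs' => hmax s' (by simpa using hs')⟩
  let ι : (s →₀ R) →ₗ[R] M := Finsupp.linearCombination R (fun a : s => (a : M))
  have hι : Function.Injective ι := hli
  have hrange : LinearMap.range ι = Submodule.span R (s : Set M) := by
    rw [Finsupp.range_linearCombination]; congr 1; simp
  have hg : ∀ g ∈ t, ∃ d : R, d ≠ 0 ∧ d • g ∈ LinearMap.range ι := by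
    intro g hg
    by_cases hgs : g ∈ s
    · exact ⟨1, one_ne_zero, by rw [one_smul, hrange]; exact Submodule.subset_span hgs⟩
    · have hni : ¬ LinearIndepOn R id ((insert g s : Finset M) : Set M) := fun h => by
        have := hmax (insert g s) ⟨Finset.insert_subset hg hst, h⟩
        rw [Finset.card_insert_of_notMem hgs] at this; omega
      rw [Finset.coe_insert] at hni
      by_contra hcon
      push Not at hcon
      apply hni
      exact hli.id_insert' fun r hr => by_contra fun hr0 => hcon r hr0 (hrange ▸ hr)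
  choose d hd hdg using hg
  let c := ∏ g ∈ t.attach, d g g.2
  have hc : c ≠ 0 := Finset.prod_ne_zero_iff.2 fun g _ => hd g g.2
  have hcm : ∀ m : M, c • m ∈ LinearMap.range ι := by
    intro m
    have hm : m ∈ Submodule.span R (t : Set M) := ht ▸ Submodule.mem_top
    refine (Submodule.span_le.2 (fun g hg => ?_) :
      Submodule.span R (t : Set M) ≤ (LinearMap.range ι).comap (c • LinearMap.id)) hm
    obtain ⟨e, he⟩ : d g hg ∣ c := Finset.dvd_prod_of_mem (fun g : t => d g g.2) (Finset.mem_attach t ⟨g, hg⟩)
    show c • g ∈ LinearMap.range ι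
    rw [he, mul_comm, mul_smul]
    exact Submodule.smul_mem _ _ (hdg g hg)
  let φ : M →ₗ[R] (s →₀ R) := (LinearEquiv.ofInjective ι hι).symm.toLinearMap ∘ₗ
    (c • LinearMap.id : M →ₗ[R] M).codRestrict (LinearMap.range ι) hcm
  have hιφ : ∀ m, ι (φ m) = c • m := fun m =>
    congrArg Subtype.val ((LinearEquiv.ofInjective ι hι).apply_symm_apply ⟨_, hcm m⟩)
  have hev := Module.bijective_dual_eval R (s →₀ R)
  refine ⟨c, hc, fun x hx => ?_, fun y => ?_⟩
  · have h1 : Module.Dual.eval R (s →₀ R) (φ x) = 0 := LinearMap.ext fun f =>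
      LinearMap.congr_fun hx (f ∘ₗ φ)
    rw [← hιφ, hev.1 (h1.trans (map_zero _).symm), map_zero]
  · obtain ⟨v, hv⟩ := hev.2 (φ.dualMap.dualMap y)
    refine ⟨ι v, LinearMap.ext fun f => ?_⟩
    have h1 : (f ∘ₗ ι) ∘ₗ φ = c • f := LinearMap.ext fun m => by simp [hιφ]
    have := LinearMap.congr_fun hv (f ∘ₗ ι)
    rw [LinearMap.dualMap_apply, LinearMap.dualMap_apply', Module.Dual.eval_apply] at this
    rw [Module.Dual.eval_apply, LinearMap.smul_apply, ← map_smul, ← h1]
    exact this

end Groth.Agent.S6870
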