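import Groth.Statements.S6877
import Groth.Agent.HomDepthLib.Basic


-- import your own Groth.Agent.* helpers here

set_option autoImplicit false
universe u
open CAlg

namespace Groth.Agent.S6877

/-- Let `R` be a Noetherian ring and `M, N` finite `R`-modules. If `N` has `(S_1)`, resp. `(S_2)`, then
so does `Hom_R(M, N)`. (The published statement has a third part, over a domain: `N` torsion free
with `(S_2)` implies the same for `Hom_R(M, N)`; this row states parts one and two.) -/
theorem result (R : Type u) [CommRing R] [IsNoetherianRing R]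
    (M N : Type u) [AddCommGroup M] [Module R M] [Module.Finite R M] [AddCommGroup N] [Module R N] [Module.Finite R N] :
    (LocCoh.HasSk 1 R N → LocCoh.HasSk 1 R (M →ₗ[R] N)) ∧
    (LocCoh.HasSk 2 R N → LocCoh.HasSk 2 R (M →ₗ[R] N)) := by
  have : Module.FinitePresentation R M := Module.finitePresentation_of_finite R M
  have key : ∀ (p : Ideal R) [p.IsPrime],
      (1 ≤ LocCoh.depth (Localization.AtPrime p) (LocalizedModule p.primeCompl N) →
        1 ≤ LocCoh.depth (Localization.AtPrime p) (LocalizedModule p.primeCompl (M →ₗ[R] N))) ∧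
      (2 ≤ LocCoh.depth (Localization.AtPrime p) (LocalizedModule p.primeCompl N) →
        2 ≤ LocCoh.depth (Localization.AtPrime p) (LocalizedModule p.primeCompl (M →ₗ[R] N))) := by
    intro p _
    have : IsNoetherianRing (Localization.AtPrime p) := IsLocalization.isNoetherianRing p.primeCompl _ inferInstance
    have e := DepthTwoLib.homLocEquiv p M N
    unfold LocCoh.depth
    rw [DepthTwoLib.one_le_iff, DepthTwoLib.one_le_iff, DepthTwoLib.two_le_iff, DepthTwoLib.two_le_iff]
    exact ⟨fun h => (h.hom).congr e, fun h => (h.hom).congr e⟩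
  have hs := fun (p : Ideal R) (_ : p.IsPrime) => DepthTwoLib.supportDim_localized_mono p (DepthTwoLib.support_hom_subset M N)
  refine ⟨fun h => DepthTwoLib.hasSk_one.2 fun p hp hd =>
      (key p).1 (DepthTwoLib.hasSk_one.1 h p (hd.trans (hs p hp))),
    fun h => DepthTwoLib.hasSk_two.2 fun p hp => ⟨fun hd =>
      (key p).1 ((DepthTwoLib.hasSk_two.1 h p).1 (hd.trans (hs p hp))), fun hd =>
      (key p).2 ((DepthTwoLib.hasSk_two.1 h p).2 (hd.trans (hs p hp)))⟩⟩

end Groth.Agent.S6877
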