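import Groth.Statements.S6882
import Mathlib.LinearAlgebra.FreeModule.PID
import Mathlib.LinearAlgebra.Dual.Lemmas
import Mathlib.Algebra.Module.Torsion.Basic
import Mathlib.RingTheory.DiscreteValuationRing.Basic

set_option autoImplicit false
universe u
open CAlg

namespace Groth.Agent.S6882

/-- For a finite module `M` over a discrete valuation ring `R`, the evaluation map from `M` to its
double dual `M**` is surjective. -/
theorem result (R : Type u) [CommRing R] [IsDomain R]
    [IsDiscreteValuationRing R] (M : Type u) [AddCommGroup M] [Module R M] [Module.Finite R M] :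
    Function.Surjective (Module.Dual.eval R M) := by
  let T := Submodule.torsion R M
  let q : M →ₗ[R] M ⧸ T := T.mkQ
  have hdual : Function.Surjective q.dualMap := fun l => by
    refine ⟨T.liftQ l fun x hx => ?_, LinearMap.ext fun x => rfl⟩
    obtain ⟨a, ha⟩ := hx
    have h1 : (a : R) • l x = 0 := by rw [← map_smul]; exact (congrArg l ha).trans (map_zero l)
    exact (smul_eq_zero.1 h1).resolve_left (nonZeroDivisors.ne_zero a.2)
  have : Module.Free R (M ⧸ T) := Module.free_of_finite_type_torsion_free'
  intro ξ
  obtain ⟨z, hz⟩ := (Module.bijective_dual_eval R (M ⧸ T)).2 (ξ.comp q.dualMap)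
  obtain ⟨x, rfl⟩ := T.mkQ_surjective z
  refine ⟨x, LinearMap.ext fun l => ?_⟩
  obtain ⟨l', rfl⟩ := hdual l
  exact LinearMap.congr_fun hz l'

end Groth.Agent.S6882
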