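import Groth.Statements.S6884
import Mathlib
import Groth.Agent.FlatDescFiniteLib.Main
import Groth.Agent.FlatLib.StageFlat
-- import your own Groth.Agent.* helpers here

set_option autoImplicit false
universe u
open TensorProduct
open CAlg

namespace Groth.Agent.S6884

set_option maxHeartbeats 400000

open TensorProduct in
/-- Flatness of `R ⊗[A] N` passes between isomorphic presentations of the base change. -/
theorem flat_tensor_of_isBaseChange {A C N X : Type u} [CommRing A] [CommRing C] [Algebra A C]
    [AddCommGroup N] [Module A N] [AddCommGroup X] [Module A X] [Module C X] [IsScalarTower A C X]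
    {ι : N →ₗ[A] X} (h : IsBaseChange C ι) :
    (Module.Flat C X ↔ Module.Flat C (C ⊗[A] N)) :=
  ⟨fun _ => Module.Flat.of_linearEquiv h.equiv, fun _ => Module.Flat.of_linearEquiv h.equiv.symm⟩

open TensorProduct in
attribute [local instance] MvPolynomial.algebraMvPolynomial in
set_option synthInstance.maxHeartbeats 200000 in
set_option maxHeartbeats 1600000 in
theorem main {σ R S : Type u} [Finite σ] [CommRing R] [CommRing S] [Algebra R S] [Algebra.IsIntegral R S]
    (hinj : Function.Injective (algebraMap R S)) (M : Type u) [AddCommGroup M]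
    [Module (MvPolynomial σ R) M] [Module R M] [IsScalarTower R (MvPolynomial σ R) M]
    [Module.FinitePresentation (MvPolynomial σ R) M] [Module.Flat S (S ⊗[R] M)] : Module.Flat R M := by
  classical
  rcases subsingleton_or_nontrivial R with hR | hR
  · have := Module.subsingleton R M
    infer_instance
  obtain ⟨A, M₀, _, _, _, _, hA, _, ⟨e⟩, -⟩ := FlatLib.exists_model (σ := σ) (R := R) (M := M) ∅
    (fun g hg => absurd hg (Finset.notMem_empty g))
  have : IsNoetherianRing A := isNoetherianRing_of_fg hA
  let eR : R ⊗[A] M₀ ≃ₗ[R] M :=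
    (FlatLib.isBaseChange_inc σ A M₀ R).equiv.trans (e.restrictScalars R)
  have hS : Module.Flat S (FlatLib.BC σ A M₀ S) := by
    rw [flat_tensor_of_isBaseChange (FlatLib.isBaseChange_inc σ A M₀ S)]
    exact Module.Flat.of_linearEquiv ((AlgebraTensorModule.cancelBaseChange A R S S M₀).symm.trans
      (AlgebraTensorModule.congr (LinearEquiv.refl S S) eR))
  obtain ⟨F, hF⟩ := FlatLib.exists_flat_stage (σ := σ) (A := A) (M₀ := M₀) (R := S)
  rw [flat_tensor_of_isBaseChange (FlatLib.isBaseChange_inc σ A M₀ (FlatLib.stg A F))] at hF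
  -- a Noetherian subring of `R` over which the elements of `F` are integral
  choose q hq1 hq2 using fun s : S => Algebra.IsIntegral.isIntegral (R := R) s
  let G : Finset R := F.biUnion fun s => (q s).support.image (q s).coeff
  let R₁ : Subalgebra A R := Algebra.adjoin A (G : Set R)
  have : IsNoetherianRing R₁ := isNoetherianRing_of_fg ⟨G, rfl⟩
  have hR₁ : ∀ s ∈ F, IsIntegral R₁ s := fun s hs => by
    have hlift : q s ∈ Polynomial.lifts (algebraMap R₁ R) := by
      rw [Polynomial.lifts_iff_coeff_lifts]
      intro k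
      by_cases hk : k ∈ (q s).support
      · exact ⟨⟨_, Algebra.subset_adjoin
          (Finset.mem_biUnion.2 ⟨s, hs, Finset.mem_image_of_mem _ hk⟩)⟩, rfl⟩
      · exact ⟨0, by rw [map_zero, Polynomial.notMem_support_iff.1 hk]⟩
    obtain ⟨p, hp, -, hmon⟩ := Polynomial.lifts_and_degree_eq_and_monic hlift (hq1 s)
    refine ⟨p, hmon, ?_⟩
    rw [IsScalarTower.algebraMap_eq R₁ R S, ← Polynomial.eval₂_map, hp]
    exact hq2 s
  let S₂ : Subalgebra R₁ S := Algebra.adjoin R₁ (F : Set S)
  have : Module.Finite R₁ S₂ := Algebra.finite_adjoin_of_finite_of_isIntegral F.finite_toSet hR₁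
  have hle : FlatLib.stg A F ≤ S₂.restrictScalars A := Algebra.adjoin_le Algebra.subset_adjoin
  let := (Subalgebra.inclusion hle).toRingHom.toAlgebra
  have : IsScalarTower A (FlatLib.stg A F) (S₂.restrictScalars A) :=
    IsScalarTower.of_algebraMap_eq fun a => ((Subalgebra.inclusion hle).commutes a).symm
  have h2 : Module.Flat (S₂.restrictScalars A) ((S₂.restrictScalars A) ⊗[A] M₀) :=
    Groth.Agent.FlatDescFiniteLib.flat_tensor_of_flat (S := FlatLib.stg A F) M₀
  have h3 : Module.Flat S₂ (S₂ ⊗[A] M₀) := h2
  have h4 : Module.Flat R₁ (R₁ ⊗[A] M₀) :=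
    Groth.Agent.FlatDescFiniteLib.desc R₁ S₂
      (fun x y h => Subtype.ext (hinj (congrArg Subtype.val h))) (R₁ ⊗[A] M₀)
      (Module.Flat.of_linearEquiv (AlgebraTensorModule.cancelBaseChange A R₁ S₂ S₂ M₀))
  have h5 : Module.Flat R (R ⊗[A] M₀) :=
    Groth.Agent.FlatDescFiniteLib.flat_tensor_of_flat (S := R₁) M₀
  exact Module.Flat.of_linearEquiv eR.symm

/-- For an injective integral ring map `R → S` and `n ≥ 0`, let `M` be a module of finite presentation
over the polynomial ring `R[x_1, …, x_n]`. Then flatness of `S ⊗_R M` over `S` forces flatness of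
`M` over `R`. -/
theorem result (R S : Type u) [CommRing R]
    [CommRing S] [Algebra R S] [Algebra.IsIntegral R S] (hinj : Function.Injective (algebraMap R S)) (n : ℕ)
    (M : Type u) [AddCommGroup M] [Module (MvPolynomial (Fin n) R) M] [Module R M]
    [IsScalarTower R (MvPolynomial (Fin n) R) M] [Module.FinitePresentation (MvPolynomial (Fin n) R) M]
    [Module.Flat S (S ⊗[R] M)] : Module.Flat R M := by
  let ρ := (MvPolynomial.renameEquiv R (Equiv.ulift.{u} : ULift.{u} (Fin n) ≃ Fin n))
  let := Module.compHom M ρ.toRingEquiv.toRingHom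
  have : IsScalarTower R (MvPolynomial (ULift.{u} (Fin n)) R) M :=
    IsScalarTower.of_algebraMap_smul fun r m => by
      change ρ (algebraMap R _ r) • m = r • m
      rw [ρ.commutes, algebraMap_smul]
  let := ρ.toRingEquiv.toRingHom.toAlgebra
  have : IsScalarTower (MvPolynomial (ULift.{u} (Fin n)) R) (MvPolynomial (Fin n) R) M :=
    IsScalarTower.of_algebraMap_smul fun _ _ => rfl
  have : Module.FinitePresentation (MvPolynomial (ULift.{u} (Fin n)) R) (MvPolynomial (Fin n) R) :=
    Module.FinitePresentation.of_equiv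
      (LinearEquiv.ofBijective (Algebra.linearMap (MvPolynomial (ULift.{u} (Fin n)) R) _) ρ.bijective)
  have : Module.FinitePresentation (MvPolynomial (ULift.{u} (Fin n)) R) M :=
    Module.FinitePresentation.trans _ M (MvPolynomial (Fin n) R)
  exact main (σ := ULift.{u} (Fin n)) hinj M

end Groth.Agent.S6884
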