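import Groth.Statements.S6887
import Mathlib
-- import your own Groth.Agent.* helpers here

set_option autoImplicit false
universe u
open Polynomial
open CAlg

namespace Groth.Agent.S6887

/-- Let `(A, I)` be a Zariski pair (`I` inside the Jacobson radical) and `A → B` a finite ring map.
Suppose `B/IB ≅ B₁ × B₂` as `A`-algebras with `A → B₁` surjective, and `b ∈ B` maps to `(1, 0)`.
Then there is a monic `f ∈ A[x]` with `f(b) = 0` whose reduction modulo `I` is `(x - 1) x^d` for
some `d ≥ 1`. -/
theorem result (A B : Type u) [CommRing A] [CommRing B]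
    [Algebra A B] [Module.Finite A B] (I : Ideal A) (hI : I ≤ Ideal.jacobson (⊥ : Ideal A))
    (B₁ B₂ : Type u) [CommRing B₁] [CommRing B₂] [Algebra A B₁] [Algebra A B₂]
    (e : (B ⧸ I.map (algebraMap A B)) ≃ₐ[A] B₁ × B₂) (h₁ : Function.Surjective (algebraMap A B₁)) (b : B)
    (hb : e (Ideal.Quotient.mk (I.map (algebraMap A B)) b) = (1, 0)) :
    ∃ (f : A[X]) (d : ℕ), f.Monic ∧ Polynomial.aeval b f = 0 ∧ 1 ≤ d ∧
      f.map (Ideal.Quotient.mk I) = (X - 1) * X ^ d := by
  classical
  let J := I.map (algebraMap A B)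
  obtain ⟨n, g, hg⟩ := Module.Finite.exists_fin (R := A) (M := B)
  have hc : ∀ i : Fin n, ∃ c : B, e (Ideal.Quotient.mk J c) = (0, (e (Ideal.Quotient.mk J (g i))).2) :=
    fun i => by
      obtain ⟨c, hc⟩ := Ideal.Quotient.mk_surjective (e.symm (0, (e (Ideal.Quotient.mk J (g i))).2))
      exact ⟨c, by rw [hc, AlgEquiv.apply_symm_apply]⟩
  choose c hc using hc
  let v : Fin (n + 1 + 1) → B := Fin.cons b (Fin.cons 0 c)
  have hIJ : I • (⊤ : Submodule A B) = J.restrictScalars A := Ideal.smul_top_eq_map I
  have hspan : (⊤ : Submodule A B) ≤ Submodule.span A (Set.range v) := by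
    refine Submodule.le_of_le_smul_of_le_jacobson_bot Module.Finite.fg_top hI ?_ |>.trans le_rfl
    conv_lhs => rw [← hg]
    rw [Submodule.span_le]
    rintro _ ⟨i, rfl⟩
    obtain ⟨a, ha⟩ := h₁ (e (Ideal.Quotient.mk J (g i))).1
    have key : g i - (a • b + c i) ∈ J := by
      rw [← Ideal.Quotient.eq_zero_iff_mem, ← EmbeddingLike.map_eq_zero_iff (f := e)]
      rw [map_sub, map_add, ← Ideal.Quotient.mkₐ_eq_mk A, map_smul, Ideal.Quotient.mkₐ_eq_mk,
        map_sub, map_add, map_smul, hb, hc]
      refine Prod.ext ?_ ?_ <;> simp [Algebra.smul_def, ha]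
    have : g i = (a • b + c i) + (g i - (a • b + c i)) := by ring
    rw [SetLike.mem_coe, this]
    refine Submodule.add_mem_sup (Submodule.add_mem _ (Submodule.smul_mem _ _ ?_) ?_) ?_
    · exact Submodule.subset_span ⟨0, rfl⟩
    · exact Submodule.subset_span ⟨i.succ.succ, by simp [v]⟩
    · rw [hIJ]; exact key
  have hrow : ∀ i : Fin (n + 1 + 1), ∃ r : Fin (n + 1 + 1) → A, (∀ j, r j ∈ I) ∧
      b * v i - (if i = 0 then b else 0) = ∑ j, r j • v j := by
    intro i
    have hm : b * v i - (if i = 0 then b else 0) ∈ I • Submodule.span A (Set.range v) := by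
      rw [top_le_iff.mp hspan, hIJ]
      show _ ∈ J
      rw [← Ideal.Quotient.eq_zero_iff_mem, ← EmbeddingLike.map_eq_zero_iff (f := e)]
      refine Fin.cases ?_ (fun k => ?_) i
      · simp [v, J, hb] at *
      · refine Fin.cases ?_ (fun l => ?_) k
        · simp [v]
        · rw [if_neg (Fin.succ_ne_zero _), sub_zero, map_mul, map_mul, hb]
          simp only [v, Fin.cons_succ, hc]
          simp
    obtain ⟨r, hr, hsum⟩ := (Submodule.mem_ideal_smul_span_iff_exists_sum I v _).mp hm
    refine ⟨r, hr, ?_⟩
    rw [← hsum]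
    exact Finsupp.sum_fintype r (fun j a => a • v j) (fun _ => zero_smul _ _)
  choose r hrI hr using hrow
  let M : Matrix (Fin (n + 1 + 1)) (Fin (n + 1 + 1)) A :=
    Matrix.diagonal (fun i => if i = 0 then 1 else 0) + Matrix.of r
  refine ⟨M.charpoly, n + 1, M.charpoly_monic, ?_, le_add_self, ?_⟩
  · let M' := M.map (algebraMap A B)
    have hv : ∀ i, b * v i = ∑ j, algebraMap A B (M i j) * v j := fun i => by
      simp only [M, Matrix.add_apply, Matrix.of_apply, map_add, add_mul, Finset.sum_add_distrib,
        Matrix.diagonal_apply, apply_ite (algebraMap A B), ite_mul, map_zero, zero_mul,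
        Finset.sum_ite_eq, Finset.mem_univ, if_true]
      have := hr i
      simp only [Algebra.smul_def] at this
      rw [← this]
      by_cases h0 : i = 0
      · subst h0
        simp [v]
      · simp [h0]
    have hker : (Matrix.scalar _ b - M').mulVec v = 0 := by
      funext i
      rw [Matrix.sub_mulVec, Pi.sub_apply, Matrix.scalar_apply, Matrix.mulVec_diagonal]
      exact sub_eq_zero.mpr (hv i)
    have hdet : ∀ i, (Matrix.scalar _ b - M').det * v i = 0 := fun i => by
      have := congrArg (fun w => (Matrix.scalar _ b - M').adjugate.mulVec w i) hker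
      simpa [Matrix.mulVec_mulVec, Matrix.adjugate_mul, Matrix.smul_mulVec] using this
    have h0 : ∀ x ∈ Submodule.span A (Set.range v), (Matrix.scalar _ b - M').det * x = 0 := by
      intro x hx
      induction hx using Submodule.span_induction with
      | mem x hx => obtain ⟨i, rfl⟩ := hx; exact hdet i
      | zero => exact mul_zero _
      | add x y _ _ h1 h2 => rw [mul_add, h1, h2, add_zero]
      | smul a x _ h1 => rw [mul_smul_comm, h1, smul_zero]
    have h1' := h0 1 (hspan trivial)
    rw [mul_one, ← Matrix.eval_charpoly, Matrix.charpoly_map, Polynomial.eval_map] at h1'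
    exact h1'
  · rw [← Matrix.charpoly_map]
    have : M.map (Ideal.Quotient.mk I) = Matrix.diagonal (fun i => if i = 0 then 1 else 0) := by
      ext i j
      simp only [M, Matrix.map_apply, Matrix.add_apply, Matrix.of_apply, map_add,
        Ideal.Quotient.eq_zero_iff_mem.mpr (hrI i j), add_zero, Matrix.diagonal_apply]
      split_ifs <;> simp
    rw [this, Matrix.charpoly_diagonal, Fin.prod_univ_succ]
    simp

end Groth.Agent.S6887
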