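import Groth.Statements.S6888
import Mathlib

set_option autoImplicit false
universe u
open Polynomial
open CAlg

namespace Groth.Agent.S6888


theorem eq_zero_of_idem {A : Type u} [CommRing A] {e : A} (he : IsIdempotentElem e)
    (hj : e ∈ Ideal.jacobson (⊥ : Ideal A)) : e = 0 := by
  have hu : IsUnit (1 - e) := by
    have := Ideal.mem_jacobson_bot.1 hj (-1)
    rwa [mul_neg_one, neg_add_eq_sub] at this
  refine hu.mul_left_cancel ?_
  rw [mul_zero, sub_mul, one_mul, he.eq, sub_self]

theorem derivative_prod_eval {A : Type u} [CommRing A] {n : ℕ} (a : Fin n → A) (x : A) :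
    (derivative (∏ i, (X - C (a i)))).eval x = ∑ i, ∏ j ∈ Finset.univ.erase i, (x - a j) := by
  rw [derivative_prod_finset, eval_finset_sum]
  refine Finset.sum_congr rfl fun i _ => ?_
  simp [eval_prod]


/-- Let `A` be absolutely integrally closed (every monic polynomial over `A` is a product of linear
factors) and `I ⊆ A` an ideal contained in the Jacobson radical such that `A → A/I` is surjective
(hence bijective) on idempotents. Then `(A, I)` is a henselian pair. (The published statement also
records the converse, which holds for every henselian pair; this row states the sufficiency only.) -/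
theorem result (A : Type u) [CommRing A]
    (hA : ∀ f : A[X], f.Monic → ∃ s : Multiset A, f = (s.map fun a => X - C a).prod) (I : Ideal A)
    (hI : I ≤ Ideal.jacobson (⊥ : Ideal A))
    (hidem : ∀ e : A ⧸ I, IsIdempotentElem e → ∃ e' : A, IsIdempotentElem e' ∧ Ideal.Quotient.mk I e' = e) :
    HenselianRing A I := by
  classical
  refine ⟨hI, fun f hf a₀ h0 hu => ?_⟩
  obtain ⟨s, hs⟩ := hA f hf
  obtain ⟨l, rfl⟩ := Quot.exists_rep s
  let a : Fin l.length → A := fun i => l.get i
  have hfa : f = ∏ i, (X - C (a i)) := by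
    rw [hs, Fin.prod_univ_def]
    show ((Multiset.map (fun a => X - C a) (l : Multiset A))).prod = _
    rw [Multiset.map_coe, Multiset.prod_coe]
    congr 1
    rw [← List.ofFn_eq_map, ← List.ofFn_getElem_eq_map]
    rfl
  let π := Ideal.Quotient.mk I
  let b : Fin l.length → A ⧸ I := fun i => π (a₀ - a i)
  let P : Fin l.length → A ⧸ I := fun i => ∏ j ∈ Finset.univ.erase i, b j
  have hall : ∏ i, b i = 0 := by
    rw [← map_prod, Ideal.Quotient.eq_zero_iff_mem]
    rw [hfa, eval_prod] at h0
    simpa using h0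
  have hbP : ∀ i, b i * P i = 0 := fun i => by
    show b i * ∏ j ∈ Finset.univ.erase i, b j = 0
    rw [Finset.mul_prod_erase _ _ (Finset.mem_univ i), hall]
  have hPP : ∀ i j, i ≠ j → P i * P j = 0 := fun i j hij => by
    have : P i = b j * ∏ k ∈ (Finset.univ.erase i).erase j, b k :=
      (Finset.mul_prod_erase _ _ (Finset.mem_erase.2 ⟨hij.symm, Finset.mem_univ j⟩)).symm
    rw [this, mul_assoc, mul_comm _ (P j), ← mul_assoc, hbP, zero_mul]
  have hsum : IsUnit (∑ i, P i) := by
    rw [hfa, derivative_prod_eval, map_sum] at hu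
    simpa [P, b, π, map_prod] using hu
  obtain ⟨u, hu'⟩ := hsum
  let e : Fin l.length → A ⧸ I := fun i => P i * ↑u⁻¹
  have he1 : ∑ i, e i = 1 := by rw [← Finset.sum_mul, ← hu', Units.mul_inv]
  have hee : ∀ i j, i ≠ j → e i * e j = 0 := fun i j hij => by
    show P i * ↑u⁻¹ * (P j * ↑u⁻¹) = 0
    rw [mul_mul_mul_comm, hPP i j hij, zero_mul]
  have hidm : ∀ i, IsIdempotentElem (e i) := fun i => by
    have h1 : e i * ∑ j, e j = e i := by rw [he1, mul_one]
    rwa [Finset.mul_sum, Finset.sum_eq_single i (fun j _ hj => hee i j hj.symm)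
      (fun h => absurd (Finset.mem_univ i) h)] at h1
  choose e' he' hπe using fun i => hidem (e i) (hidm i)
  have hee' : ∀ i j, i ≠ j → e' i * e' j = 0 := fun i j hij =>
    eq_zero_of_idem ((he' i).mul (he' j)) (hI (Ideal.Quotient.eq_zero_iff_mem.1
      (by rw [map_mul, hπe, hπe, hee i j hij])))
  have hsum' : IsIdempotentElem (∑ i, e' i) := by
    show (∑ i, e' i) * (∑ i, e' i) = ∑ i, e' i
    rw [Finset.sum_mul]
    refine Finset.sum_congr rfl fun i _ => ?_
    rw [Finset.mul_sum, Finset.sum_eq_single i (fun j _ hj => hee' i j hj.symm)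
      (fun h => absurd (Finset.mem_univ i) h), (he' i).eq]
  have he'1 : ∑ i, e' i = 1 := by
    refine (sub_eq_zero.1 (eq_zero_of_idem hsum'.one_sub (hI (Ideal.Quotient.eq_zero_iff_mem.1 ?_)))).symm
    rw [map_sub, map_one, map_sum, Finset.sum_congr rfl (fun i _ => hπe i), he1, sub_self]
  have key : ∀ i, e' i * ∑ j, e' j * a j = e' i * a i := fun i => by
    rw [Finset.mul_sum, Finset.sum_eq_single i (fun j _ hj => by rw [← mul_assoc, hee' i j hj.symm, zero_mul])
      (fun h => absurd (Finset.mem_univ i) h), ← mul_assoc, (he' i).eq]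
  refine ⟨∑ j, e' j * a j, ?_, ?_⟩
  · show f.eval _ = 0
    rw [hfa, eval_prod, ← one_mul (∏ i, _), ← he'1, Finset.sum_mul]
    refine Finset.sum_eq_zero fun i _ => ?_
    rw [← Finset.mul_prod_erase _ _ (Finset.mem_univ i), ← mul_assoc, eval_sub, eval_X, eval_C,
      mul_sub, key, sub_self, zero_mul]
  · rw [← Ideal.Quotient.eq, map_sum]
    calc ∑ j, π (e' j * a j) = ∑ j, e j * π a₀ := by
          refine Finset.sum_congr rfl fun j _ => ?_
          rw [map_mul, hπe, eq_comm, ← sub_eq_zero, ← mul_sub, ← map_sub]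
          show P j * ↑u⁻¹ * b j = 0
          rw [mul_right_comm, mul_comm (P j), hbP, zero_mul]
      _ = π a₀ := by rw [← Finset.sum_mul, he1, one_mul]
end Groth.Agent.S6888
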