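import Groth.Statements.S6898
import Mathlib

-- import your own Groth.Agent.* helpers here

set_option autoImplicit false
universe u
open TensorProduct
open CAlg

namespace Groth.Agent.S6898

/-- Let `(A, 𝔪)` be a local ring and `u : M → N` a linear map between flat `A`-modules whose reduction
`M/𝔪M → N/𝔪N` is injective. If `I` is the content ideal of some `x ∈ M` (the least ideal `I` with `x
∈ IM`), then `I` is also the least ideal `J` with `u(x) ∈ J·N`. -/
theorem result {A : Type u} [CommRing A] [IsLocalRing A] {M N : Type u}
    [AddCommGroup M] [Module A M] [Module.Flat A M] [AddCommGroup N] [Module A N] [Module.Flat A N] (u : M →ₗ[A] N)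
    (hu : Function.Injective (u.baseChange (IsLocalRing.ResidueField A))) (x : M) (I : Ideal A)
    (hx : IsLeast {J : Ideal A | x ∈ J • (⊤ : Submodule A M)} I) :
    IsLeast {J : Ideal A | u x ∈ J • (⊤ : Submodule A N)} I := by
  classical
  open scoped TensorProduct in
  focus
    have hmem : ∀ (P : Type u) [AddCommGroup P] [Module A P] (K : Ideal A) (t : K ⊗[A] P), TensorProduct.lid A P ((Submodule.subtype K).rTensor P t) ∈ K • (⊤ : Submodule A P) := by
      intro P _ _ K t
      induction t with
      | zero => simp
      | tmul a p => simpa using Submodule.smul_mem_smul a.2 (Submodule.mem_top (x := p))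
      | add a b ha hb => simpa [map_add] using add_mem ha hb
    have hsub : I • (⊤ : Submodule A M) ≤ (I • (⊤ : Submodule A N)).comap u := by
      rw [Submodule.smul_le]
      exact fun a ha m _ => by simpa using Submodule.smul_mem_smul ha (Submodule.mem_top (x := u m))
    obtain ⟨t, ht⟩ : ∃ t : I ⊗[A] M, TensorProduct.lid A M ((Submodule.subtype I).rTensor M t) = x := by
      refine Submodule.smul_induction_on hx.1 (fun a ha m _ => ⟨⟨a, ha⟩ ⊗ₜ m, by simp⟩) ?_
      rintro a b ⟨s, rfl⟩ ⟨s', rfl⟩
      exact ⟨s + s', by simp [map_add]⟩
    obtain ⟨I', hI'fg, hI'le, hxI'⟩ : ∃ I' : Ideal A, I'.FG ∧ I' ≤ I ∧ x ∈ I' • (⊤ : Submodule A M) := by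
      refine Submodule.smul_induction_on hx.1 (fun a ha m _ => ⟨Ideal.span {a}, ⟨{a}, by simp⟩, by simpa [Ideal.span_le] using ha, Submodule.smul_mem_smul (Ideal.mem_span_singleton_self a) Submodule.mem_top⟩) ?_
      rintro a b ⟨J, h1, h2, h3⟩ ⟨J', h1', h2', h3'⟩
      exact ⟨J ⊔ J', Submodule.FG.sup h1 h1', sup_le h2 h2', add_mem (Submodule.smul_mono_left le_sup_left h3) (Submodule.smul_mono_left le_sup_right h3')⟩
    have hIfg : I.FG := (le_antisymm (hx.2 hxI') hI'le : I = I') ▸ hI'fg
    refine ⟨hsub hx.1, fun J hJ => ?_⟩
    let V := LinearMap.range ((Submodule.mkQ J) ∘ₗ (Submodule.subtype I))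
    let p : I →ₗ[A] V := ((Submodule.mkQ J) ∘ₗ (Submodule.subtype I)).rangeRestrict
    haveI : Module.Finite A I := Module.Finite.iff_fg.2 hIfg
    haveI : Module.Finite A V := Module.Finite.of_surjective p (LinearMap.surjective_rangeRestrict _)
    let q : I →ₗ[A] (IsLocalRing.ResidueField A ⊗[A] V) := (TensorProduct.mk A (IsLocalRing.ResidueField A) V 1) ∘ₗ p
    have hqs : Function.Surjective q := by
      refine (TensorProduct.mk_surjective A V (IsLocalRing.ResidueField A) ?_).comp (LinearMap.surjective_rangeRestrict _)
      exact IsLocalRing.residue_surjective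
    have hnat : ∀ s : I ⊗[A] M, TensorProduct.lid A N ((Submodule.subtype I).rTensor N (u.lTensor I s)) = u (TensorProduct.lid A M ((Submodule.subtype I).rTensor M s)) := fun s => by
      induction s with
      | zero => simp
      | tmul a m => simp
      | add a b ha hb => simp only [map_add, ha, hb]
    have ht' : q.rTensor M t = 0 := by
      have hinj : Function.Injective (u.lTensor (IsLocalRing.ResidueField A ⊗[A] V)) := by
        have h := Module.Flat.lTensor_preserves_injective_linearMap (M := IsLocalRing.ResidueField A ⊗[A] V) (u.baseChange (IsLocalRing.ResidueField A)) hu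
        intro a b hab
        let cM := TensorProduct.AlgebraTensorModule.cancelBaseChange A (IsLocalRing.ResidueField A) (IsLocalRing.ResidueField A) (IsLocalRing.ResidueField A ⊗[A] V) M
        let cN := TensorProduct.AlgebraTensorModule.cancelBaseChange A (IsLocalRing.ResidueField A) (IsLocalRing.ResidueField A) (IsLocalRing.ResidueField A ⊗[A] V) N
        have key : ∀ z, u.lTensor _ (cM z) = cN ((u.baseChange (IsLocalRing.ResidueField A)).lTensor _ z) := by
          intro z
          induction z with
          | zero => simp
          | tmul w z =>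
            induction z with
            | zero => simp
            | tmul r m => simp [cM, cN]
            | add a b ha hb => simp only [TensorProduct.tmul_add, map_add, ha, hb]
          | add a b ha hb => simp only [map_add, ha, hb]
        apply cM.symm.injective
        apply h
        apply cN.injective
        rw [← key, ← key, cM.apply_symm_apply, cM.apply_symm_apply, hab]
      apply hinj
      rw [map_zero, ← LinearMap.comp_apply, LinearMap.lTensor_comp_rTensor, ← LinearMap.rTensor_comp_lTensor, LinearMap.comp_apply]
      set t' := u.lTensor I t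
      have hp : p.rTensor N t' = 0 := by
        apply Module.Flat.rTensor_preserves_injective_linearMap (M := N) V.subtype Subtype.coe_injective
        rw [map_zero, ← LinearMap.comp_apply, ← LinearMap.rTensor_comp, show V.subtype ∘ₗ p = (Submodule.mkQ J) ∘ₗ (Submodule.subtype I) from LinearMap.ext fun _ => rfl, LinearMap.rTensor_comp, LinearMap.comp_apply]
        have e : (Submodule.subtype I).rTensor N t' = (1 : A) ⊗ₜ u x := by
          apply (TensorProduct.lid A N).injective
          rw [TensorProduct.lid_tmul, one_smul, ← ht]
          exact hnat t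
        rw [e, LinearMap.rTensor_tmul]
        refine Submodule.smul_induction_on hJ (fun a ha n _ => ?_) (fun a b ha hb => by rw [TensorProduct.tmul_add, ha, hb, add_zero])
        rw [← TensorProduct.smul_tmul, ← map_smul, smul_eq_mul, mul_one, show Submodule.mkQ J a = 0 from (Submodule.Quotient.mk_eq_zero J).2 ha, TensorProduct.zero_tmul]
      rw [show q = (TensorProduct.mk A (IsLocalRing.ResidueField A) V 1) ∘ₗ p from rfl, LinearMap.rTensor_comp, LinearMap.comp_apply, hp, map_zero]
    have hex : Function.Exact (LinearMap.ker q).subtype q := by intro y; simp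
    obtain ⟨s, hs⟩ := (rTensor_exact M hex hqs t).1 ht'
    have hxK : x ∈ ((LinearMap.ker q).map (Submodule.subtype I) : Ideal A) • (⊤ : Submodule A M) := by
      rw [← ht, ← hs]
      clear hs
      induction s with
      | zero => simp
      | tmul a m =>
        simp only [LinearMap.rTensor_tmul, TensorProduct.lid_tmul]
        exact Submodule.smul_mem_smul (Submodule.mem_map.2 ⟨_, a.2, rfl⟩) (Submodule.mem_top (x := m))
      | add a b ha hb => simpa [map_add] using add_mem ha hb
    have hle := hx.2 hxK
    haveI : Subsingleton (IsLocalRing.ResidueField A ⊗[A] V) := by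
      refine subsingleton_of_forall_eq 0 fun w => ?_
      obtain ⟨i, rfl⟩ := hqs w
      obtain ⟨j, hj, e⟩ := hle i.2
      rw [← Subtype.ext (show (j : A) = i from e)]
      exact hj
    haveI : Subsingleton V := (IsLocalRing.subsingleton_tensorProduct (R := A)).1 inferInstance
    intro a ha
    have := congrArg Subtype.val (Subsingleton.elim (p ⟨a, ha⟩) 0)
    exact (Submodule.Quotient.mk_eq_zero J).1 this

end Groth.Agent.S6898
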