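import Groth.Statements.S6899
import Mathlib
import Groth.Agent.MilnorFlatLib.Basic
import Groth.Agent.MilnorGlueLib.Basic
-- import your own Groth.Agent.* helpers here

set_option autoImplicit false
universe u
open TensorProduct
open EtAlg

namespace Groth.Agent.S6899

set_option maxHeartbeats 400000

/-- Let `B' = B ×_A A'` be a fibre square of rings with `A' → A` surjective, and let `(N₁, M₁', φ₁) →
(N₂, M₂', φ₂)` be a morphism of glueing data (a `B`-linear `u : N₁ → N₂` and an `A'`-linear `v : M₁'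
→ M₂'` compatible with the `φ_i`) with `u` and `v` surjective. Then the induced map of glued modules
`N₁ ×_{φ₁} M₁' → N₂ ×_{φ₂} M₂'` is surjective. -/
theorem result (B' B A' A : Type u) [CommRing B'] [CommRing B] [CommRing A'] [CommRing A]
    [Algebra B' B] [Algebra B' A'] [Algebra B A] [Algebra A' A] [Algebra B' A] [IsScalarTower B' B A] [IsScalarTower B' A' A]
    (hsq : EtMil.IsFibreSquare B' B A' A)
    {N₁ N₂ M₁' M₂' : Type u} [AddCommGroup N₁] [Module B N₁] [Module B' N₁] [IsScalarTower B' B N₁]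
    [AddCommGroup N₂] [Module B N₂] [Module B' N₂] [IsScalarTower B' B N₂]
    [AddCommGroup M₁'] [Module A' M₁'] [Module B' M₁'] [IsScalarTower B' A' M₁']
    [AddCommGroup M₂'] [Module A' M₂'] [Module B' M₂'] [IsScalarTower B' A' M₂']
    (φ₁ : A ⊗[B] N₁ ≃ₗ[A] A ⊗[A'] M₁') (φ₂ : A ⊗[B] N₂ ≃ₗ[A] A ⊗[A'] M₂') (u : N₁ →ₗ[B] N₂) (v : M₁' →ₗ[A'] M₂')
    (hc : (v.baseChange A).comp φ₁.toLinearMap = φ₂.toLinearMap.comp (u.baseChange A))
    (hu : Function.Surjective u) (hv : Function.Surjective v) :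
    ∀ y : N₂ × M₂', y ∈ EtMil.glue B' φ₂ → ∃ x : N₁ × M₁', x ∈ EtMil.glue B' φ₁ ∧ u x.1 = y.1 ∧ v x.2 = y.2 := by
  intro y hy
  obtain ⟨n, hn⟩ := hu y.1
  obtain ⟨m, hm⟩ := Groth.Agent.MilnorGlueLib.exists_one_tmul hsq.1 (φ₁ ((1 : A) ⊗ₜ[B] n))
  have h0 : (1 : A) ⊗ₜ[A'] (v m - y.2) = 0 := by
    have h := LinearMap.congr_fun hc ((1 : A) ⊗ₜ[B] n)
    simp only [LinearMap.comp_apply, LinearEquiv.coe_coe, hm, LinearMap.baseChange_tmul, hn] at h
    rw [TensorProduct.tmul_sub, h, show φ₂ ((1 : A) ⊗ₜ[B] y.1) = (1 : A) ⊗ₜ[A'] y.2 from hy, sub_self]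
  have hk := Groth.Agent.MilnorGlueLib.ker_tmul hsq.1 h0
  have key : ∀ z ∈ RingHom.ker (algebraMap A' A) • (⊤ : Submodule A' M₂'),
      ∃ k : M₁', (1 : A) ⊗ₜ[A'] k = 0 ∧ v k = z := by
    intro z hz
    refine Submodule.smul_induction_on (p := fun z => ∃ k : M₁', (1 : A) ⊗ₜ[A'] k = 0 ∧ v k = z) hz
      (fun i hi w _ => ?_) (fun a b ha hb => ?_)
    · obtain ⟨w, rfl⟩ := hv w
      exact ⟨i • w, by rw [← TensorProduct.smul_tmul, Algebra.smul_def, show algebraMap A' A i = 0 from hi,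
        zero_mul, TensorProduct.zero_tmul], map_smul v i w⟩
    · obtain ⟨c, hc1, rfl⟩ := ha
      obtain ⟨d, hd1, rfl⟩ := hb
      exact ⟨c + d, by rw [TensorProduct.tmul_add, hc1, hd1, add_zero], map_add v c d⟩
  obtain ⟨k, hk1, hk2⟩ := key _ hk
  refine ⟨(n, m - k), ?_, hn, by rw [map_sub, hk2, sub_sub_cancel]⟩
  show φ₁ ((1 : A) ⊗ₜ[B] n) = (1 : A) ⊗ₜ[A'] (m - k)
  rw [hm, TensorProduct.tmul_sub, hk1, sub_zero]

end Groth.Agent.S6899
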