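import Groth.Statements.S6900
import Mathlib
import Groth.Agent.MilnorFlatLib.Basic
import Groth.Agent.MilnorGlueLib.Basic
import Groth.Agent.CornerDetectLib.Basic
-- import your own Groth.Agent.* helpers here

set_option autoImplicit false
universe u
open TensorProduct
open EtAlg

namespace Groth.Agent.S6900

set_option maxHeartbeats 400000

open TensorProduct Groth.Agent.MilnorGlueLib in
theorem exists_equivs (B' B A' A : Type u) [CommRing B'] [CommRing B] [CommRing A'] [CommRing A]
    [Algebra B' B] [Algebra B' A'] [Algebra B A] [Algebra A' A] [Algebra B' A] [IsScalarTower B' B A] [IsScalarTower B' A' A]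
    (hsq : EtMil.IsFibreSquare B' B A' A)
    (D' D C' C : Type u) [CommRing D'] [CommRing D] [CommRing C'] [CommRing C]
    [Algebra D' D] [Algebra D' C'] [Algebra D C] [Algebra C' C] [Algebra D' C] [IsScalarTower D' D C] [IsScalarTower D' C' C]
    (hsq' : EtMil.IsFibreSquare D' D C' C)
    [Algebra B' D'] [Algebra B D] [Algebra A' C'] [Algebra A C]
    [Algebra B' D] [IsScalarTower B' B D] [IsScalarTower B' D' D]
    [Algebra B' C'] [IsScalarTower B' A' C'] [IsScalarTower B' D' C']
    [Algebra B C] [IsScalarTower B A C] [IsScalarTower B D C]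
    [Algebra A' C] [IsScalarTower A' A C] [IsScalarTower A' C' C]
    [h1 : Algebra.IsPushout B D A C] [h2 : Algebra.IsPushout A' C' A C] :
    Nonempty (B ⊗[B'] D' ≃ₐ[B] D) ∧ Nonempty (A' ⊗[B'] D' ≃ₐ[A'] C') := by
  have := h1.symm
  have := h2.symm
  let e := Algebra.IsPushout.equiv B A D C
  let e' := Algebra.IsPushout.equiv A' A C' C
  let φ : A ⊗[B] D ≃ₗ[A] A ⊗[A'] C' := e.toLinearEquiv.trans e'.symm.toLinearEquiv
  have hmem : ∀ (d : D) (c : C'), (d, c) ∈ EtMil.glue B' φ ↔ algebraMap D C d = algebraMap C' C c := by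
    intro d c
    change e'.symm (e ((1 : A) ⊗ₜ[B] d)) = (1 : A) ⊗ₜ[A'] c ↔ _
    rw [← e'.injective.eq_iff, e'.apply_symm_apply, Algebra.IsPushout.equiv_tmul,
      Algebra.IsPushout.equiv_tmul, map_one, one_mul, one_mul]
  let ι : D' →ₗ[B'] EtMil.glue B' φ :=
    ((IsScalarTower.toAlgHom B' D' D).toLinearMap.prod
      (IsScalarTower.toAlgHom B' D' C').toLinearMap).codRestrict (EtMil.glue B' φ) fun x =>
        (hmem _ _).2 (by
          change algebraMap D C (algebraMap D' D x) = algebraMap C' C (algebraMap D' C' x)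
          rw [← IsScalarTower.algebraMap_apply D' D C, ← IsScalarTower.algebraMap_apply D' C' C])
  have hι : Function.Bijective ι := by
    refine ⟨fun x y h => Groth.Agent.MilnorFlatLib.eq_of_fst_snd hsq'
      (congrArg (fun z : EtMil.glue B' φ => z.1.1) h)
      (congrArg (fun z : EtMil.glue B' φ => z.1.2) h), fun ⟨⟨d, c⟩, hdc⟩ => ?_⟩
    obtain ⟨x, ⟨hx1, hx2⟩, -⟩ := hsq'.2 d c ((hmem d c).1 hdc)
    exact ⟨x, Subtype.ext (Prod.ext hx1 hx2)⟩
  let E := LinearEquiv.ofBijective ι hι
  let ψ₁ : B ⊗[B'] D' →ₐ[B] D :=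
    Algebra.TensorProduct.lift (Algebra.ofId B D) (IsScalarTower.toAlgHom B' D' D)
      fun _ _ => Commute.all _ _
  let ψ₂ : A' ⊗[B'] D' →ₐ[A'] C' :=
    Algebra.TensorProduct.lift (Algebra.ofId A' C') (IsScalarTower.toAlgHom B' D' C')
      fun _ _ => Commute.all _ _
  have k1 : ⇑ψ₁ = LinearMap.liftBaseChange B (EtMil.glueFst B' φ) ∘ (E.toLinearMap.lTensor B) := by
    funext t
    induction t using TensorProduct.induction_on with
    | zero => simp
    | add x y hx hy => simp only [Function.comp_apply, map_add] at hx hy ⊢; rw [hx, hy]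
    | tmul b x =>
      rw [Function.comp_apply, LinearMap.lTensor_tmul, LinearMap.liftBaseChange_tmul,
        Algebra.TensorProduct.lift_tmul, Algebra.smul_def]
      rfl
  have k2 : ⇑ψ₂ = LinearMap.liftBaseChange A' (EtMil.glueSnd B' φ) ∘ (E.toLinearMap.lTensor A') := by
    funext t
    induction t using TensorProduct.induction_on with
    | zero => simp
    | add x y hx hy => simp only [Function.comp_apply, map_add] at hx hy ⊢; rw [hx, hy]
    | tmul b x =>
      rw [Function.comp_apply, LinearMap.lTensor_tmul, LinearMap.liftBaseChange_tmul,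
        Algebra.TensorProduct.lift_tmul, Algebra.smul_def]
      rfl
  refine ⟨⟨AlgEquiv.ofBijective ψ₁ ?_⟩, ⟨AlgEquiv.ofBijective ψ₂ ?_⟩⟩
  · rw [k1]
    exact (bijective_glueFst φ hsq).comp (LinearEquiv.lTensor B E).bijective
  · rw [k2]
    exact (bijective_glueSnd φ hsq).comp (LinearEquiv.lTensor A' E).bijective

open TensorProduct in
/-- Every residue field receives one of the two corners. -/
theorem exists_corner_map (B' B A' A : Type u) [CommRing B'] [CommRing B] [CommRing A'] [CommRing A]
    [Algebra B' B] [Algebra B' A'] [Algebra B A] [Algebra A' A] [Algebra B' A] [IsScalarTower B' B A] [IsScalarTower B' A' A]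
    (hsq : EtMil.IsFibreSquare B' B A' A) (p : Ideal B') [p.IsPrime] :
    Nonempty (B →ₐ[B'] p.ResidueField) ∨ Nonempty (A' →ₐ[B'] p.ResidueField) := by
  by_cases hK : RingHom.ker (algebraMap B' B) ≤ p
  · left
    have hs := Groth.Agent.MilnorFlatLib.surjective_fst hsq
    let g : B' →ₐ[B'] B := Algebra.ofId B' B
    have hker : RingHom.ker g ≤ RingHom.ker (Algebra.ofId B' p.ResidueField) := fun x hx => by
      rw [RingHom.mem_ker]
      exact Ideal.algebraMap_residueField_eq_zero.2 (hK hx)
    exact ⟨AlgHom.liftOfSurjective g hs (Algebra.ofId B' p.ResidueField) hker⟩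
  · right
    obtain ⟨k, hk, hkp⟩ := SetLike.not_le_iff_exists.1 hK
    let κ : B' →+* p.ResidueField := algebraMap B' p.ResidueField
    have hk0 : κ k ≠ 0 := fun h => hkp (Ideal.algebraMap_residueField_eq_zero.1 h)
    have hkI : algebraMap B' A' k ∈ RingHom.ker (algebraMap A' A) := by
      rw [RingHom.mem_ker, ← IsScalarTower.algebraMap_apply, IsScalarTower.algebraMap_apply B' B A,
        show algebraMap B' B k = 0 from hk, map_zero]
    choose σ hσ1 hσ2 using fun a : A' => Groth.Agent.MilnorFlatLib.exists_of_ker hsq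
      (a := a * algebraMap B' A' k) ((RingHom.ker (algebraMap A' A)).mul_mem_left a hkI)
    have huniq : ∀ (a : A') (r : B'), algebraMap B' B r = 0 →
        algebraMap B' A' r = a * algebraMap B' A' k → σ a = r := fun a r h1 h2 =>
      Groth.Agent.MilnorFlatLib.eq_of_fst_snd hsq ((hσ1 a).trans h1.symm) ((hσ2 a).trans h2.symm)
    have hone : σ 1 = k := huniq 1 k hk (one_mul _).symm
    have hadd : ∀ a b, σ (a + b) = σ a + σ b := fun a b =>
      huniq _ _ (by rw [map_add, hσ1, hσ1, add_zero]) (by rw [map_add, hσ2, hσ2, add_mul])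
    have hmul : ∀ a b, σ a * σ b = k * σ (a * b) := fun a b =>
      Groth.Agent.MilnorFlatLib.eq_of_fst_snd hsq (by simp [hσ1])
        (by rw [map_mul, map_mul, hσ2, hσ2, hσ2]; ring)
    exact ⟨{
      toFun := fun a => κ (σ a) / κ k
      map_one' := by rw [hone, div_self hk0]
      map_mul' := fun a b => by
        rw [div_mul_div_comm, ← map_mul κ (σ a), hmul, map_mul κ]
        field_simp
      map_zero' := by
        rw [huniq 0 0 (map_zero _) (by rw [map_zero, zero_mul]), map_zero, zero_div]
      map_add' := fun a b => by rw [hadd, map_add, add_div]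
      commutes' := fun r => by
        rw [huniq _ (r * k) (by rw [map_mul, show algebraMap B' B k = 0 from hk, mul_zero])
          (by rw [map_mul]), map_mul, mul_div_assoc, div_self hk0, mul_one] }⟩

open TensorProduct in
theorem smooth_of_square (B' B A' A : Type u) [CommRing B'] [CommRing B] [CommRing A'] [CommRing A]
    [Algebra B' B] [Algebra B' A'] [Algebra B A] [Algebra A' A] [Algebra B' A] [IsScalarTower B' B A] [IsScalarTower B' A' A]
    (hsq : EtMil.IsFibreSquare B' B A' A) (D' : Type u) [CommRing D'] [Algebra B' D']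
    [Module.Flat B' D'] [Algebra.FinitePresentation B' D'] [Algebra.Smooth B (B ⊗[B'] D')]
    [Algebra.Smooth A' (A' ⊗[B'] D')] : Algebra.Smooth B' D' := by
  refine Algebra.Smooth.of_formallySmooth_fiber fun p _ => ?_
  have aux : ∀ (C : Type u) [CommRing C] [Algebra B' C] [Algebra.Smooth C (C ⊗[B'] D')],
      (C →ₐ[B'] p.ResidueField) → Algebra.FormallySmooth p.ResidueField (p.Fiber D') := by
    intro C _ _ _ g
    let := g.toRingHom.toAlgebra
    have : IsScalarTower B' C p.ResidueField := IsScalarTower.of_algebraMap_eq fun r => (g.commutes r).symm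
    exact Algebra.FormallySmooth.of_equiv
      (Algebra.TensorProduct.cancelBaseChange B' C p.ResidueField p.ResidueField D')
  rcases exists_corner_map B' B A' A hsq p with ⟨⟨g⟩⟩ | ⟨⟨g⟩⟩
  · exact aux B g
  · exact aux A' g

/-- Let `B' = B ×_A A'` be a fibre square of rings with `A' → A` surjective. Let `D` be a `B`-algebra
and `C'` an `A'`-algebra with a common base change `C = D ⊗_B A = C' ⊗_{A'} A`, and let `D' = D ×_C
C'` be the fibre product ring with its `B'`-algebra structure. Then `B' → D'` is of finite type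
(resp. flat, resp. flat and of finite presentation, resp. smooth, resp. étale) if and only if `B →
D` and `A' → C'` both are. -/
theorem result (B' B A' A : Type u) [CommRing B'] [CommRing B] [CommRing A'] [CommRing A]
    [Algebra B' B] [Algebra B' A'] [Algebra B A] [Algebra A' A] [Algebra B' A] [IsScalarTower B' B A] [IsScalarTower B' A' A]
    (hsq : EtMil.IsFibreSquare B' B A' A)
    (D' D C' C : Type u) [CommRing D'] [CommRing D] [CommRing C'] [CommRing C]
    [Algebra D' D] [Algebra D' C'] [Algebra D C] [Algebra C' C] [Algebra D' C] [IsScalarTower D' D C] [IsScalarTower D' C' C]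
    (hsq' : EtMil.IsFibreSquare D' D C' C)
    [Algebra B' D'] [Algebra B D] [Algebra A' C'] [Algebra A C]
    [Algebra B' D] [IsScalarTower B' B D] [IsScalarTower B' D' D]
    [Algebra B' C'] [IsScalarTower B' A' C'] [IsScalarTower B' D' C']
    [Algebra B C] [IsScalarTower B A C] [IsScalarTower B D C]
    [Algebra A' C] [IsScalarTower A' A C] [IsScalarTower A' C' C]
    [Algebra.IsPushout B D A C] [Algebra.IsPushout A' C' A C] :
    (Algebra.FiniteType B' D' ↔ Algebra.FiniteType B D ∧ Algebra.FiniteType A' C') ∧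
    (Module.Flat B' D' ↔ Module.Flat B D ∧ Module.Flat A' C') ∧
    (Module.Flat B' D' ∧ Algebra.FinitePresentation B' D' ↔
      (Module.Flat B D ∧ Algebra.FinitePresentation B D) ∧ (Module.Flat A' C' ∧ Algebra.FinitePresentation A' C')) ∧
    (Algebra.Smooth B' D' ↔ Algebra.Smooth B D ∧ Algebra.Smooth A' C') ∧
    (Algebra.Etale B' D' ↔ Algebra.Etale B D ∧ Algebra.Etale A' C') := by
  obtain ⟨⟨e₁⟩, ⟨e₂⟩⟩ := exists_equivs B' B A' A hsq D' D C' C hsq'
  have hd : Groth.Agent.CornerDetectLib.Detects B' B A' := fun Q _ _ h1 h2 => by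
    exact Groth.Agent.MilnorGlueLib.subsingleton_of_square hsq Q
  have hflat : Module.Flat B' D' ↔ Module.Flat B D ∧ Module.Flat A' C' := by
    refine ⟨fun _ => ⟨Module.Flat.of_linearEquiv e₁.symm.toLinearEquiv,
      Module.Flat.of_linearEquiv e₂.symm.toLinearEquiv⟩, fun ⟨_, _⟩ => ?_⟩
    have := Module.Flat.of_linearEquiv e₁.toLinearEquiv
    have := Module.Flat.of_linearEquiv e₂.toLinearEquiv
    exact Groth.Agent.MilnorFlatLib.flat_of_square D' hsq
  have hfp : Module.Flat B' D' ∧ Algebra.FinitePresentation B' D' ↔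
      (Module.Flat B D ∧ Algebra.FinitePresentation B D) ∧
        (Module.Flat A' C' ∧ Algebra.FinitePresentation A' C') := by
    refine ⟨fun ⟨h1, _⟩ => ⟨⟨(hflat.1 h1).1, Algebra.FinitePresentation.equiv e₁⟩,
      (hflat.1 h1).2, Algebra.FinitePresentation.equiv e₂⟩, fun ⟨⟨h1, _⟩, h2, _⟩ => ?_⟩
    have := hflat.2 ⟨h1, h2⟩
    have := Algebra.FinitePresentation.equiv e₁.symm
    have := Algebra.FinitePresentation.equiv e₂.symm
    exact ⟨inferInstance, Groth.Agent.CornerDetectLib.finitePresentation_of_detects hd D'⟩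
  have hsm : Algebra.Smooth B' D' ↔ Algebra.Smooth B D ∧ Algebra.Smooth A' C' := by
    refine ⟨fun _ => ⟨Algebra.Smooth.of_equiv e₁, Algebra.Smooth.of_equiv e₂⟩, fun ⟨_, _⟩ => ?_⟩
    obtain ⟨_, _⟩ := hfp.2 ⟨⟨inferInstance, inferInstance⟩, inferInstance, inferInstance⟩
    have := Algebra.Smooth.of_equiv e₁.symm
    have := Algebra.Smooth.of_equiv e₂.symm
    exact smooth_of_square B' B A' A hsq D'
  refine ⟨⟨fun _ => ⟨Algebra.FiniteType.equiv inferInstance e₁,
      Algebra.FiniteType.equiv inferInstance e₂⟩, fun ⟨h1, h2⟩ => ?_⟩, hflat, hfp, hsm,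
    fun _ => ⟨Algebra.Etale.of_equiv e₁, Algebra.Etale.of_equiv e₂⟩, fun ⟨_, _⟩ => ?_⟩
  · have := Algebra.FiniteType.equiv h1 e₁.symm
    have := Algebra.FiniteType.equiv h2 e₂.symm
    exact Groth.Agent.CornerDetectLib.finiteType_of_detects hd D'
  · obtain ⟨_, _⟩ := hfp.2 ⟨⟨inferInstance, inferInstance⟩, inferInstance, inferInstance⟩
    have := Algebra.Etale.of_equiv e₁.symm
    have := Algebra.Etale.of_equiv e₂.symm
    have := Groth.Agent.CornerDetectLib.formallyUnramified_of_detects hd D'
    exact Algebra.Etale.of_formallyUnramified_of_flat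

end Groth.Agent.S6900
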