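import Groth.Statements.S6909
import Mathlib

set_option autoImplicit false
universe u
open CAlg

namespace Groth.Agent.S6909

theorem shift {A : Type u} [CommRing A] (I : Ideal A) {L M : Type u} [AddCommGroup L] [Module A L]
    [AddCommGroup M] [Module A M] (h : L →ₗ[A] M) (k : ℕ)
    (hh : ∀ x, h x ∈ I ^ k • (⊤ : Submodule A M)) {m : ℕ} {x : L} (hx : x ∈ I ^ m • (⊤ : Submodule A L)) :
    h x ∈ I ^ (m + k) • (⊤ : Submodule A M) := by
  rw [pow_add, Submodule.mul_smul]
  refine (?_ : Submodule.map h (I ^ m • ⊤) ≤ _) ⟨x, hx, rfl⟩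
  rw [Submodule.map_smul'']
  exact Submodule.smul_mono le_rfl (by rintro _ ⟨y, -, rfl⟩; exact hh y)


/-- Let `A` be a Noetherian ring, `I ⊆ A` an ideal inside the Jacobson radical, and `L → M → N` two
complexes `(f, g)` and `(f', g')` of finite `A`-modules with `f' ≡ f` modulo `I^{c+1}M` and `g' ≡ g`
modulo `I^{c+1}N`. If `c` works in the Artin–Rees lemma for `f` and for `g` (that is `f(L) ∩ IⁿM ⊆
f(I^{n-c}L)` for `n ≥ c`, and likewise for `g`) and `(f, g)` is exact, then `c` works for `g'` and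
`(f', g')` is exact. -/
theorem result {A : Type u} [CommRing A] [IsNoetherianRing A] (I : Ideal A)
    (hI : I ≤ Ideal.jacobson (⊥ : Ideal A)) {L M N : Type u} [AddCommGroup L] [Module A L] [Module.Finite A L]
    [AddCommGroup M] [Module A M] [Module.Finite A M] [AddCommGroup N] [Module A N] [Module.Finite A N]
    (f f' : L →ₗ[A] M) (g g' : M →ₗ[A] N) (c : ℕ) (hgf : g.comp f = 0) (hgf' : g'.comp f' = 0)
    (hf : (∀ n : ℕ, c ≤ n → LinearMap.range f ⊓ (I ^ n • (⊤ : Submodule A M)) ≤ Submodule.map f (I ^ (n - c) • (⊤ : Submodule A L))))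
    (hg : (∀ n : ℕ, c ≤ n → LinearMap.range g ⊓ (I ^ n • (⊤ : Submodule A N)) ≤ Submodule.map g (I ^ (n - c) • (⊤ : Submodule A M))))
    (hex : Function.Exact f g)
    (hff' : ∀ x : L, f x - f' x ∈ I ^ (c + 1) • (⊤ : Submodule A M))
    (hgg' : ∀ y : M, g y - g' y ∈ I ^ (c + 1) • (⊤ : Submodule A N)) :
    (∀ n : ℕ, c ≤ n → LinearMap.range g' ⊓ (I ^ n • (⊤ : Submodule A N)) ≤ Submodule.map g' (I ^ (n - c) • (⊤ : Submodule A M))) ∧
    Function.Exact f' g' := by
  have step : ∀ (n m : ℕ) (b : M), m + c + 1 ≤ n → b ∈ I ^ m • (⊤ : Submodule A M) →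
      g' b ∈ I ^ n • (⊤ : Submodule A N) →
      ∃ (a : L) (b' : M), b' ∈ I ^ (m + 1) • (⊤ : Submodule A M) ∧ b = f' a + b' := by
    intro n m b hmn hb hgb
    have h1 : g b ∈ I ^ (m + c + 1) • (⊤ : Submodule A N) := by
      rw [← sub_add_cancel (g b) (g' b)]
      refine add_mem ?_ (Submodule.smul_mono_left (Ideal.pow_le_pow_right hmn) hgb)
      rw [add_assoc]
      exact shift I (g - g') (c + 1) hgg' hb
    obtain ⟨b'', hb'', e''⟩ := hg (m + c + 1) (by omega) ⟨⟨b, rfl⟩, h1⟩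
    rw [show m + c + 1 - c = m + 1 by omega] at hb''
    obtain ⟨a₀, ha₀⟩ := (hex (b - b'')).1 (by rw [map_sub, e'', sub_self])
    have h2 : f a₀ ∈ I ^ m • (⊤ : Submodule A M) := by
      rw [ha₀]
      exact sub_mem hb (Submodule.smul_mono_left (Ideal.pow_le_pow_right (Nat.le_succ m)) hb'')
    obtain ⟨a, ha, hfa⟩ : ∃ a ∈ I ^ (m - c) • (⊤ : Submodule A L), f a = f a₀ := by
      by_cases hmc : c ≤ m
      · obtain ⟨a, ha, e⟩ := hf m hmc ⟨⟨a₀, rfl⟩, h2⟩
        exact ⟨a, ha, e⟩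
      · refine ⟨a₀, ?_, rfl⟩
        rw [show m - c = 0 by omega, pow_zero, Ideal.one_eq_top, Submodule.top_smul]
        trivial
    refine ⟨a, b'' + (f - f') a, add_mem hb'' ?_, ?_⟩
    · exact Submodule.smul_mono_left (Ideal.pow_le_pow_right (by omega)) (shift I (f - f') (c + 1) hff' ha)
    · rw [LinearMap.sub_apply, hfa, ha₀]
      abel
  have hz : ∀ a, g' (f' a) = 0 := fun a => LinearMap.congr_fun hgf' a
  constructor
  · rintro n hn _ ⟨⟨b, rfl⟩, hb⟩
    have key : ∀ m, m ≤ n - c → ∃ b₁ ∈ I ^ m • (⊤ : Submodule A M), g' b₁ = g' b := by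
      intro m
      induction m with
      | zero =>
        refine fun _ => ⟨b, ?_, rfl⟩
        rw [pow_zero, Ideal.one_eq_top, Submodule.top_smul]
        trivial
      | succ m ih =>
        intro hm
        obtain ⟨b₁, hb₁, e₁⟩ := ih (by omega)
        obtain ⟨a, b', hb', rfl⟩ := step n m b₁ (by omega) hb₁ (e₁ ▸ hb)
        refine ⟨b', hb', ?_⟩
        rw [← e₁, map_add, hz, zero_add]
    obtain ⟨b₁, hb₁, e₁⟩ := key (n - c) le_rfl
    exact ⟨b₁, hb₁, e₁⟩
  · refine fun b => ⟨fun hb => ?_, by rintro ⟨a, rfl⟩; exact hz a⟩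
    have key : ∀ m, ∃ a, b - f' a ∈ I ^ m • (⊤ : Submodule A M) := by
      intro m
      induction m with
      | zero =>
        refine ⟨0, ?_⟩
        rw [pow_zero, Ideal.one_eq_top, Submodule.top_smul]
        trivial
      | succ m ih =>
        obtain ⟨a₁, h₁⟩ := ih
        obtain ⟨a, b', hb', e⟩ := step (m + c + 1) m (b - f' a₁) le_rfl h₁ (by rw [map_sub, hb, hz, sub_zero]; exact zero_mem _)
        refine ⟨a₁ + a, ?_⟩
        rw [map_add, ← sub_sub, e, add_sub_cancel_left]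
        exact hb'
    have h0 : Submodule.Quotient.mk (p := LinearMap.range f') b = 0 := by
      rw [← Submodule.mem_bot A, ← Ideal.iInf_pow_smul_eq_bot_of_le_jacobson I hI, Submodule.mem_iInf]
      intro m
      obtain ⟨a, ha⟩ := key m
      have h3 : Submodule.mkQ (LinearMap.range f') (b - f' a) ∈ I ^ m • (⊤ : Submodule A (M ⧸ LinearMap.range f')) := by
        refine (?_ : Submodule.map (Submodule.mkQ _) (I ^ m • ⊤) ≤ _) ⟨_, ha, rfl⟩
        rw [Submodule.map_smul'']
        exact Submodule.smul_mono le_rfl le_top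
      have h4 : Submodule.mkQ (LinearMap.range f') (f' a) = 0 :=
        (Submodule.Quotient.mk_eq_zero _).2 ⟨a, rfl⟩
      rwa [map_sub, h4, sub_zero] at h3
    exact (Submodule.Quotient.mk_eq_zero _).1 h0
end Groth.Agent.S6909
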