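import Groth.Statements.S6911
import Mathlib.RingTheory.Flat.Basic
import Mathlib.RingTheory.TensorProduct.Maps
import Mathlib.LinearAlgebra.TensorProduct.RightExactness
import Mathlib.LinearAlgebra.TensorProduct.Quotient
import Mathlib.RingTheory.Ideal.Operations
-- import your own Groth.Agent.* helpers here

set_option autoImplicit false
universe u
open TensorProduct
open CAlg

namespace Groth.Agent.S6911

/-- Let `A → B` be a flat map of Noetherian rings, `I ⊆ A` an ideal and `f : M → N` a map of finite
`A`-modules such that `c` works for `f` in the Artin–Rees lemma (`f(M) ∩ IⁿN ⊆ f(I^{n-c}M)` for `n ≥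
c`). Then `c` works for `f ⊗ 1 : M ⊗_A B → N ⊗_A B` and the ideal `IB`. -/
theorem result {A B : Type u} [CommRing A] [IsNoetherianRing A] [CommRing B]
    [IsNoetherianRing B] [Algebra A B] [Module.Flat A B] (I : Ideal A) {M N : Type u} [AddCommGroup M] [Module A M]
    [Module.Finite A M] [AddCommGroup N] [Module A N] [Module.Finite A N] (f : M →ₗ[A] N) (c : ℕ)
    (hf : (∀ n : ℕ, c ≤ n → LinearMap.range f ⊓ (I ^ n • (⊤ : Submodule A N)) ≤ Submodule.map f (I ^ (n - c) • (⊤ : Submodule A M)))) :
    ∀ n : ℕ, c ≤ n →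
      LinearMap.range (f.baseChange B) ⊓ ((I.map (algebraMap A B)) ^ n • (⊤ : Submodule B (B ⊗[A] N))) ≤
        Submodule.map (f.baseChange B) ((I.map (algebraMap A B)) ^ (n - c) • (⊤ : Submodule B (B ⊗[A] M))) := by
  intro n hn
  let q := (I ^ n • (⊤ : Submodule A N)).mkQ
  let K := LinearMap.ker (q ∘ₗ f)
  have hK : ∀ k ∈ K, ∃ k' ∈ I ^ (n - c) • (⊤ : Submodule A M), f k' = f k := fun k hk => by
    obtain ⟨k', h1, h2⟩ := hf n hn ⟨LinearMap.mem_range_self f k, (Submodule.Quotient.mk_eq_zero _).mp hk⟩
    exact ⟨k', h1, h2⟩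
  have hpow : ∀ m, ∀ r ∈ I ^ m, algebraMap A B r ∈ (I.map (algebraMap A B)) ^ m := fun m r hr => by
    rw [← Ideal.map_pow]; exact Ideal.mem_map_of_mem _ hr
  -- `B ⊗ I^m X` maps into `(I B)^m (B ⊗ X)`
  have push : ∀ {X : Type u} [AddCommGroup X] [Module A X] (m : ℕ) (x : X) (b : B), x ∈ I ^ m • (⊤ : Submodule A X) →
      b ⊗ₜ[A] x ∈ (I.map (algebraMap A B)) ^ m • (⊤ : Submodule B (B ⊗[A] X)) := by
    intro X _ _ m x b hx
    refine Submodule.smul_induction_on hx (fun r hr y _ => ?_) (fun u v hu hv => by rw [TensorProduct.tmul_add]; exact add_mem hu hv)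
    rw [TensorProduct.tmul_smul, ← algebraMap_smul B r (b ⊗ₜ[A] y)]
    exact Submodule.smul_mem_smul (hpow m r hr) trivial
  rintro y ⟨⟨z, rfl⟩, hz⟩
  have hcomp : (q ∘ₗ f).lTensor B z = 0 := by
    rw [LinearMap.lTensor_comp, LinearMap.comp_apply]
    have : ∀ w ∈ (I.map (algebraMap A B)) ^ n • (⊤ : Submodule B (B ⊗[A] N)), q.lTensor B w = 0 := by
      intro w hw
      refine Submodule.smul_induction_on hw (fun r hr v _ => ?_) (fun u v hu hv => by rw [map_add, hu, hv, add_zero])
      rw [← Ideal.map_pow] at hr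
      show q.baseChange B (r • v) = 0
      rw [map_smul]
      induction hr using Submodule.span_induction with
      | mem r' hr' =>
        obtain ⟨a, ha, rfl⟩ := hr'
        rw [algebraMap_smul]
        have hvv : ∀ t : B ⊗[A] N, a • q.baseChange B t = 0 := fun t => by
          induction t using TensorProduct.induction_on with
          | zero => simp
          | tmul b x =>
            rw [LinearMap.baseChange_tmul, ← TensorProduct.tmul_smul, ← map_smul, Submodule.mkQ_apply,
              (Submodule.Quotient.mk_eq_zero _).mpr (Submodule.smul_mem_smul ha (Submodule.mem_top : x ∈ (⊤ : Submodule A N))), TensorProduct.tmul_zero]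
          | add s t hs ht => rw [map_add, smul_add, hs, ht, add_zero]
        exact hvv v
      | zero => rw [zero_smul]
      | add r s _ _ hr hs => rw [add_smul, hr, hs, add_zero]
      | smul d r _ hr => rw [smul_eq_mul, mul_smul, hr, smul_zero]
    exact this _ hz
  obtain ⟨w, rfl⟩ := (Module.Flat.lTensor_exact B (LinearMap.exact_subtype_ker_map (q ∘ₗ f)) z).mp hcomp
  induction w using TensorProduct.induction_on with
  | zero => simp
  | tmul b k =>
    obtain ⟨k', h1, h2⟩ := hK k k.2
    refine ⟨b ⊗ₜ[A] k', push _ _ b h1, ?_⟩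
    simp [h2]
  | add u v hu hv =>
    rw [map_add, map_add]
    have hmem : ∀ w : B ⊗[A] K, f.baseChange B (K.subtype.lTensor B w) ∈ Submodule.map (f.baseChange B) ((I.map (algebraMap A B)) ^ (n - c) • ⊤) := by
      intro w
      induction w using TensorProduct.induction_on with
      | zero => simp
      | tmul b k =>
        obtain ⟨k', h1, h2⟩ := hK k k.2
        exact ⟨b ⊗ₜ[A] k', push _ _ b h1, by simp [h2]⟩
      | add u v hu hv => rw [map_add, map_add]; exact add_mem hu hv
    exact add_mem (hmem u) (hmem v)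

end Groth.Agent.S6911
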