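import Groth.Statements.S6912
import Mathlib.LinearAlgebra.FreeModule.Finite.Matrix
import Mathlib.Algebra.Module.FinitePresentation
import Mathlib.LinearAlgebra.Dimension.Constructions
import Mathlib.LinearAlgebra.Dimension.Localization
import Mathlib.RingTheory.IsTensorProduct


-- import your own Groth.Agent.* helpers here

set_option autoImplicit false
universe u
open TensorProduct
open CAlg

namespace Groth.Agent.S6912

/-- Let `R` be a domain and `M`, `N` two `R`-modules; rank means dimension over the fraction field after
base change. Then `rank (M ⊗_R N) = rank M · rank N`, and when `M` is finitely presented also `rank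
Hom_R(M, N) = rank M · rank N`. -/
theorem result (R : Type u) [CommRing R] [IsDomain R] (M N : Type u)
    [AddCommGroup M] [Module R M] [AddCommGroup N] [Module R N] :
    Module.rank R (M ⊗[R] N) = Module.rank R M * Module.rank R N ∧
    (Module.FinitePresentation R M → Module.rank R (M →ₗ[R] N) = Module.rank R M * Module.rank R N) := by
  let K := FractionRing R
  have hr : ∀ (P : Type u) [AddCommGroup P] [Module R P], Module.rank K (K ⊗[R] P) = Module.rank R P :=
    fun P _ _ => IsBaseChange.rank_eq (TensorProduct.isBaseChange R P K)
  refine ⟨?_, fun hM => ?_⟩
  · rw [← hr, ← hr M, ← hr N, ← rank_tensorProduct']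
    exact LinearEquiv.rank_eq (TensorProduct.AlgebraTensorModule.distribBaseChange R K M N)
  · have hl : ∀ (P : Type u) [AddCommGroup P] [Module R P],
        Module.rank K (LocalizedModule (nonZeroDivisors R) P) = Module.rank R P :=
      fun P _ _ => IsBaseChange.rank_eq ((isLocalizedModule_iff_isBaseChange (nonZeroDivisors R) K
        (LocalizedModule.mkLinearMap (nonZeroDivisors R) P)).1 inferInstance)
    rw [← hl, ← hl M, ← hl N]
    rw [LinearEquiv.rank_eq ((Module.FinitePresentation.linearEquivMapExtendScalars (nonZeroDivisors R) (M := M) (N := N)).extendScalarsOfIsLocalization (nonZeroDivisors R) K), Module.rank_linearMap, Cardinal.lift_id, Cardinal.lift_id]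

end Groth.Agent.S6912
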