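import Groth.Statements.S6913
import Mathlib.RingTheory.Localization.Module
import Mathlib.LinearAlgebra.Dimension.Finite
import Mathlib.LinearAlgebra.FreeModule.Basic
import Mathlib.LinearAlgebra.Dimension.Free
import Mathlib.RingTheory.Localization.Away.Basic
import Mathlib.Algebra.Module.LocalizedModule.Exact
import Mathlib.LinearAlgebra.Dimension.StrongRankCondition
import Mathlib.LinearAlgebra.FreeModule.StrongRankCondition
-- import your own Groth.Agent.* helpers here

set_option autoImplicit false
universe u
open CAlg

namespace Groth.Agent.S6913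

/-- Let `R` be a domain and `M` a finite `R`-module, of (finite) rank `r`. Then: some linear map `M →
R^r` has torsion kernel and torsion cokernel; some nonzero `f ∈ R` makes `M_f` free of rank `r` over
`R_f`; and some injective linear map `R^r → M` has torsion cokernel. -/
theorem result (R : Type u) [CommRing R] [IsDomain R] (M : Type u) [AddCommGroup M]
    [Module R M] [Module.Finite R M] :
    (∃ h : M →ₗ[R] (Fin (Module.finrank R M) → R),
      (∀ x : M, h x = 0 → ∃ c : R, c ≠ 0 ∧ c • x = 0) ∧
      (∀ y : Fin (Module.finrank R M) → R, ∃ c : R, c ≠ 0 ∧ c • y ∈ LinearMap.range h)) ∧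
    (∃ f : R, f ≠ 0 ∧ Module.Free (Localization.Away f) (LocalizedModule (Submonoid.powers f) M) ∧
      Module.finrank (Localization.Away f) (LocalizedModule (Submonoid.powers f) M) = Module.finrank R M) ∧
    (∃ g : (Fin (Module.finrank R M) → R) →ₗ[R] M, Function.Injective g ∧
      ∀ x : M, ∃ c : R, c ≠ 0 ∧ c • x ∈ LinearMap.range g) := by
  classical
  let r := Module.finrank R M
  obtain ⟨m, hm⟩ := exists_linearIndependent_of_le_finrank (R := R) (M := M) (le_refl r)
  let g : (Fin r → R) →ₗ[R] M := Fintype.linearCombination R m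
  have hg : Function.Injective g := hm.fintypeLinearCombination_injective
  have htor : ∀ x : M, ∃ c : R, c ≠ 0 ∧ c • x ∈ LinearMap.range g := by
    intro x
    by_contra hcon
    push_neg at hcon
    have hli : LinearIndependent R (Fin.cons x m : Fin (r + 1) → M) := by
      rw [Fintype.linearIndependent_iff]
      intro a ha
      rw [Fin.sum_univ_succ] at ha
      simp only [Fin.cons_zero, Fin.cons_succ] at ha
      have ha0 : a 0 = 0 := by
        by_contra h0
        refine hcon _ h0 ⟨fun i => - a i.succ, ?_⟩
        simp only [g, Fintype.linearCombination_apply, neg_smul, Finset.sum_neg_distrib]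
        exact (eq_neg_of_add_eq_zero_left ha).symm
      rw [ha0, zero_smul, zero_add] at ha
      exact Fin.cases ha0 (Fintype.linearIndependent_iff.1 hm _ ha)
    have := hli.fintype_card_le_finrank
    simp [r] at this
  choose c hc hc' using htor
  obtain ⟨T, hT⟩ := Module.Finite.fg_top (R := R) (M := M)
  let c₀ := ∏ t ∈ T, c t
  have hc₀ : c₀ ≠ 0 := Finset.prod_ne_zero_iff.2 fun t _ => hc t
  have hall : ∀ x : M, c₀ • x ∈ LinearMap.range g := by
    intro x
    suffices ⊤ ≤ (LinearMap.range g).comap (c₀ • LinearMap.id) from this (Submodule.mem_top (x := x))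
    rw [← hT, Submodule.span_le]
    intro t ht
    obtain ⟨d, hd⟩ := Finset.dvd_prod_of_mem c (Finset.mem_coe.1 ht)
    show c₀ • t ∈ LinearMap.range g
    rw [show c₀ = c t * d from hd, mul_comm, mul_smul]
    exact Submodule.smul_mem _ _ (hc' t)
  let e := LinearEquiv.ofInjective g hg
  let h : M →ₗ[R] (Fin r → R) := e.symm.toLinearMap.comp ((c₀ • LinearMap.id : M →ₗ[R] M).codRestrict _ hall)
  refine ⟨⟨h, fun x hx => ⟨c₀, hc₀, ?_⟩, fun y => ⟨c₀, hc₀, g y, ?_⟩⟩, ⟨c₀, hc₀, ?_⟩, ⟨g, hg, fun x => ⟨c x, hc x, hc' x⟩⟩⟩
  · have := congrArg Subtype.val (e.symm.map_eq_zero_iff.1 hx)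
    exact this
  · apply e.injective
    rw [show h (g y) = e.symm _ from rfl, e.apply_symm_apply]
    refine Subtype.ext ?_
    show c₀ • g y = g (c₀ • y)
    rw [map_smul]
  · let S := Submonoid.powers c₀
    let gS := LocalizedModule.map S g
    have hbij : Function.Bijective gS := by
      refine ⟨LocalizedModule.map_injective _ _ hg, fun z => ?_⟩
      induction z using LocalizedModule.induction_on with
      | h x s =>
        obtain ⟨y, hy⟩ := hall x
        refine ⟨LocalizedModule.mk y (⟨c₀, 1, pow_one _⟩ * s), ?_⟩
        rw [LocalizedModule.map_mk, hy]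
        exact LocalizedModule.mk_cancel_common_left (⟨c₀, 1, pow_one _⟩ : S) s x
    let b : Module.Basis (Fin r) (Localization S) (LocalizedModule S M) :=
      ((Pi.basisFun R (Fin r)).ofIsLocalizedModule (Localization S) S (LocalizedModule.mkLinearMap S (Fin r → R))).map
        (LinearEquiv.ofBijective gS hbij)
    haveI : Nontrivial (Localization S) :=
      (IsLocalization.injective (Localization S) (powers_le_nonZeroDivisors_of_noZeroDivisors hc₀)).nontrivial
    exact ⟨Module.Free.of_basis b, by
      rw [Module.finrank_eq_card_basis b, Fintype.card_fin]⟩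

end Groth.Agent.S6913
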