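import Groth.Statements.S6916
import Mathlib
import Groth.Agent.MilnorFlatLib.Basic
import Groth.Agent.MilnorGlueLib.Basic
-- import your own Groth.Agent.* helpers here

set_option autoImplicit false
universe u
open TensorProduct
open EtAlg

namespace Groth.Agent.S6916

set_option maxHeartbeats 400000

/-- Let `B' = B ×_A A'` be a fibre square of rings with `A' → A` surjective and `L'` any `B'`-module.
Then the canonical map from `L'` to the glueing of `(L' ⊗_{B'} B, L' ⊗_{B'} A')` is surjective: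
every pair `(x, y) ∈ (B ⊗_{B'} L') × (A' ⊗_{B'} L')` with equal images in `A ⊗_{B'} L'` is of the
form `(1 ⊗ l, 1 ⊗ l)`. (It is in general not injective.) -/
theorem result (B' B A' A : Type u) [CommRing B'] [CommRing B] [CommRing A'] [CommRing A]
    [Algebra B' B] [Algebra B' A'] [Algebra B A] [Algebra A' A] [Algebra B' A] [IsScalarTower B' B A] [IsScalarTower B' A' A]
    (hsq : EtMil.IsFibreSquare B' B A' A)
    (L' : Type u) [AddCommGroup L'] [Module B' L'] (x : B ⊗[B'] L') (y : A' ⊗[B'] L')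
    (hxy : (IsScalarTower.toAlgHom B' B A).toLinearMap.rTensor L' x = (IsScalarTower.toAlgHom B' A' A).toLinearMap.rTensor L' y) :
    ∃ l : L', (1 : B) ⊗ₜ[B'] l = x ∧ (1 : A') ⊗ₜ[B'] l = y := by
  obtain ⟨l0, rfl⟩ : ∃ l, x = (1 : B) ⊗ₜ[B'] l := by
    clear hxy
    induction x using TensorProduct.induction_on with
    | zero => exact ⟨0, (TensorProduct.tmul_zero _ _).symm⟩
    | add a b ha hb =>
      obtain ⟨c, rfl⟩ := ha
      obtain ⟨d, rfl⟩ := hb
      exact ⟨c + d, (TensorProduct.tmul_add _ _ _).symm⟩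
    | tmul b a =>
      obtain ⟨r, rfl⟩ := Groth.Agent.MilnorFlatLib.surjective_fst hsq b
      exact ⟨r • a, by rw [Algebra.algebraMap_eq_smul_one, TensorProduct.smul_tmul]⟩
  let ψ := (IsScalarTower.toAlgHom B' A' A).toLinearMap
  have h0 : ψ.rTensor L' (y - (1 : A') ⊗ₜ[B'] l0) = 0 := by
    rw [map_sub, ← hxy, LinearMap.rTensor_tmul, LinearMap.rTensor_tmul, sub_eq_zero]
    simp [ψ]
  obtain ⟨w, hw⟩ := (rTensor_exact L' (LinearMap.exact_subtype_ker_map ψ) hsq.1 _).1 h0
  have key : ∃ l : L', (1 : B) ⊗ₜ[B'] l = 0 ∧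
      (1 : A') ⊗ₜ[B'] l = (LinearMap.ker ψ).subtype.rTensor L' w := by
    clear hw
    induction w using TensorProduct.induction_on with
    | zero => exact ⟨0, TensorProduct.tmul_zero _ _, by rw [map_zero, TensorProduct.tmul_zero]⟩
    | add a b ha hb =>
      obtain ⟨c, hc1, hc2⟩ := ha
      obtain ⟨d, hd1, hd2⟩ := hb
      exact ⟨c + d, by rw [TensorProduct.tmul_add, hc1, hd1, add_zero],
        by rw [map_add, TensorProduct.tmul_add, hc2, hd2]⟩
    | tmul i l =>
      obtain ⟨r, hr1, hr2⟩ := Groth.Agent.MilnorFlatLib.exists_of_ker hsq (a := (i : A')) i.2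
      refine ⟨r • l, ?_, ?_⟩
      · rw [← TensorProduct.smul_tmul, Algebra.smul_def, hr1, zero_mul, TensorProduct.zero_tmul]
      · rw [← TensorProduct.smul_tmul, Algebra.smul_def, hr2, mul_one]
        rfl
  obtain ⟨l, hl1, hl2⟩ := key
  refine ⟨l0 + l, by rw [TensorProduct.tmul_add, hl1, add_zero], ?_⟩
  rw [TensorProduct.tmul_add, hl2, hw, add_sub_cancel]

end Groth.Agent.S6916
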