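import Groth.Statements.S6917
import Mathlib
import Groth.Agent.PushLib.SpecPush
-- import your own Groth.Agent.* helpers here

set_option autoImplicit false
universe u
open CategoryTheory
open EtAlg

namespace Groth.Agent.S6917

open CategoryTheory Limits Groth.Agent

variable {B' B A' A : Type u} [CommRing B'] [CommRing B] [CommRing A'] [CommRing A] (S : PushLib.FibSq B' B A' A)
  (s : PushoutCocone
    (TopCat.ofHom (ContinuousMap.mk (PrimeSpectrum.comap S.q) (PrimeSpectrum.continuous_comap _)))
    (TopCat.ofHom (ContinuousMap.mk (PrimeSpectrum.comap S.p) (PrimeSpectrum.continuous_comap _))))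

open Classical in
noncomputable def desc (x : PrimeSpectrum B') : s.pt :=
  if h : ∃ R, PrimeSpectrum.comap S.u R = x then s.inl h.choose
  else s.inr ((S.exists_prime_over x).resolve_left h).choose

theorem agree {R : PrimeSpectrum B} {Q : PrimeSpectrum A'}
    (h : PrimeSpectrum.comap S.u R = PrimeSpectrum.comap S.v Q) : s.inl R = s.inr Q := by
  obtain ⟨P, rfl, rfl⟩ := S.comap_eq_cases h
  exact congrArg (fun f : TopCat.of (PrimeSpectrum A) ⟶ s.pt => f P) s.condition

theorem desc_u (R : PrimeSpectrum B) : desc S s (PrimeSpectrum.comap S.u R) = s.inl R := by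
  have h : ∃ R', PrimeSpectrum.comap S.u R' = PrimeSpectrum.comap S.u R := ⟨R, rfl⟩
  rw [desc, dif_pos h]
  exact congrArg _ (PrimeSpectrum.comap_injective_of_surjective _ S.u_surjective h.choose_spec)

theorem desc_v (Q : PrimeSpectrum A') : desc S s (PrimeSpectrum.comap S.v Q) = s.inr Q := by
  by_cases h : ∃ R', PrimeSpectrum.comap S.u R' = PrimeSpectrum.comap S.v Q
  · rw [desc, dif_pos h]; exact agree S s h.choose_spec
  · rw [desc, dif_neg h]
    obtain ⟨j, hQ, hj, hjP⟩ := ((S.exists_prime_over (PrimeSpectrum.comap S.v Q)).resolve_left h).choose_spec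
    refine congrArg _ (PrimeSpectrum.ext (Ideal.ext fun x => ?_))
    rw [S.v_comap_mem Q j hj hjP, S.v_comap_mem _ j hj (show j ∉ (PrimeSpectrum.comap S.v _).asIdeal from hQ.symm ▸ hjP), hQ]

theorem cont : Continuous (desc S s) := by
  refine ⟨fun U hU => S.isOpen_of_preimages _ ?_ ?_⟩
  · rw [← Set.preimage_comp, show desc S s ∘ PrimeSpectrum.comap S.u = s.inl from funext (desc_u S s)]
    exact hU.preimage s.inl.hom.continuous
  · rw [← Set.preimage_comp, show desc S s ∘ PrimeSpectrum.comap S.v = s.inr from funext (desc_v S s)]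
    exact hU.preimage s.inr.hom.continuous


/-- Let `B' = B ×_A A'` be a fibre square of rings with `A' → A` surjective. Then `Spec(B') = Spec(B)
⨿_{Spec(A)} Spec(A')`: the square of prime spectra is a pushout of topological spaces. -/
theorem result (B' B A' A : Type u) [CommRing B'] [CommRing B] [CommRing A'] [CommRing A]
    [Algebra B' B] [Algebra B' A'] [Algebra B A] [Algebra A' A] [Algebra B' A] [IsScalarTower B' B A] [IsScalarTower B' A' A]
    (hsq : EtMil.IsFibreSquare B' B A' A) :
    IsPushout (TopCat.ofHom (ContinuousMap.mk (PrimeSpectrum.comap (algebraMap B A)) (PrimeSpectrum.continuous_comap _))) (TopCat.ofHom (ContinuousMap.mk (PrimeSpectrum.comap (algebraMap A' A)) (PrimeSpectrum.continuous_comap _)))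
      (TopCat.ofHom (ContinuousMap.mk (PrimeSpectrum.comap (algebraMap B' B)) (PrimeSpectrum.continuous_comap _)))
      (TopCat.ofHom (ContinuousMap.mk (PrimeSpectrum.comap (algebraMap B' A')) (PrimeSpectrum.continuous_comap _))) := by
  let S : PushLib.FibSq B' B A' A :=
    { u := algebraMap B' B
      v := algebraMap B' A'
      q := algebraMap B A
      p := algebraMap A' A
      w := fun x => by rw [← IsScalarTower.algebraMap_apply, ← IsScalarTower.algebraMap_apply]
      surj := hsq.1
      inj := fun x y h1 h2 => (hsq.2 _ _ (by rw [← IsScalarTower.algebraMap_apply, ← IsScalarTower.algebraMap_apply])).unique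
        ⟨rfl, rfl⟩ ⟨h1.symm, h2.symm⟩
      lift := fun b a h => (hsq.2 b a h).exists }
  refine IsPushout.of_isColimit (c := PushoutCocone.mk
      (TopCat.ofHom (ContinuousMap.mk (PrimeSpectrum.comap (algebraMap B' B)) (PrimeSpectrum.continuous_comap _)))
      (TopCat.ofHom (ContinuousMap.mk (PrimeSpectrum.comap (algebraMap B' A')) (PrimeSpectrum.continuous_comap _))) ?_)
    (PushoutCocone.IsColimit.mk _ (fun s => TopCat.ofHom ⟨fun x => desc S s x, cont S s⟩)
    (fun s => by ext R; exact desc_u S s R) (fun s => by ext Q; exact desc_v S s Q) (fun s m h1 h2 => ?_))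
  · ext P x
    show algebraMap B A (algebraMap B' B x) ∈ P.asIdeal ↔ algebraMap A' A (algebraMap B' A' x) ∈ P.asIdeal
    rw [← IsScalarTower.algebraMap_apply, ← IsScalarTower.algebraMap_apply]
  · ext x
    rcases S.exists_prime_over x with ⟨R, rfl⟩ | ⟨Q, j, rfl, -, -⟩
    · exact (congrArg (fun f : TopCat.of (PrimeSpectrum B) ⟶ s.pt => f R) h1).trans (desc_u S s R).symm
    · exact (congrArg (fun f : TopCat.of (PrimeSpectrum A') ⟶ s.pt => f Q) h2).trans (desc_v S s Q).symm

end Groth.Agent.S6917
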