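import Groth.Statements.S6919
import Groth.Agent.AInjLib.StalkTest

set_option autoImplicit false
universe u
open FlatMor

namespace Groth.Agent.S6919

open TensorProduct in
/-- A prime over two points with the same contraction. -/
theorem exists_prime_pushout {A A' D D' : Type u} [CommRing A] [CommRing A'] [CommRing D] [CommRing D']
    [Algebra A A'] [Algebra A D] [Algebra D D'] [Algebra A' D'] [Algebra A D'] [IsScalarTower A D D'] [IsScalarTower A A' D']
    [Algebra.IsPushout A D A' D'] (p : Ideal A) [p.IsPrime] (p' : Ideal A') [p'.IsPrime] [p'.LiesOver p]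
    (q : Ideal D) [q.IsPrime] [q.LiesOver p] :
    ∃ (Q : Ideal D') (_ : Q.IsPrime), Q.comap (algebraMap A' D') = p' ∧ Q.comap (algebraMap D D') = q := by
  let κ := p.ResidueField
  let K₁ := p'.ResidueField
  let K₂ := q.ResidueField
  letI : Algebra κ K₁ := (Ideal.ResidueField.mapₐ p p' (Algebra.ofId A A') (Ideal.over_def p' p)).toRingHom.toAlgebra
  letI : Algebra κ K₂ := (Ideal.ResidueField.mapₐ p q (Algebra.ofId A D) (Ideal.over_def q p)).toRingHom.toAlgebra
  haveI : IsScalarTower A κ K₁ := IsScalarTower.of_algebraMap_eq fun a =>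
    ((Ideal.ResidueField.mapₐ p p' (Algebra.ofId A A') (Ideal.over_def p' p)).commutes a).symm
  haveI : IsScalarTower A κ K₂ := IsScalarTower.of_algebraMap_eq fun a =>
    ((Ideal.ResidueField.mapₐ p q (Algebra.ofId A D) (Ideal.over_def q p)).commutes a).symm
  let Ω := K₁ ⊗[κ] K₂
  haveI : Nontrivial Ω := inferInstance
  obtain ⟨M, hM⟩ := Ideal.exists_maximal Ω
  let f₁ : A' →ₐ[A] Ω :=
    ((Algebra.TensorProduct.includeLeft : K₁ →ₐ[A] Ω)).comp (IsScalarTower.toAlgHom A A' K₁)
  let f₂ : D →ₐ[A] Ω :=
    ((Algebra.TensorProduct.includeRight : K₂ →ₐ[κ] Ω).restrictScalars A).comp (IsScalarTower.toAlgHom A D K₂)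
  let f : D' →ₐ[A] Ω := Algebra.pushoutDesc D' f₂ f₁ fun _ _ => Commute.all _ _
  refine ⟨M.comap f.toRingHom, inferInstance, ?_, ?_⟩
  · have h1 : f.toRingHom.comp (algebraMap A' D') =
        (Algebra.TensorProduct.includeLeft : K₁ →ₐ[A] Ω).toRingHom.comp (algebraMap A' K₁) := RingHom.ext fun a =>
      Algebra.pushoutDesc_right (S' := D') f₂ f₁ (fun _ _ => Commute.all _ _) a
    rw [Ideal.comap_comap, h1, ← Ideal.comap_comap, Ideal.eq_bot_of_prime (M.comap _), ← RingHom.ker_eq_comap_bot,
      Ideal.ker_algebraMap_residueField]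
  · have h2 : f.toRingHom.comp (algebraMap D D') =
        (Algebra.TensorProduct.includeRight : K₂ →ₐ[κ] Ω).toRingHom.comp (algebraMap D K₂) := RingHom.ext fun a =>
      Algebra.pushoutDesc_left (S' := D') f₂ f₁ (fun _ _ => Commute.all _ _) a
    rw [Ideal.comap_comap, h2, ← Ideal.comap_comap, Ideal.eq_bot_of_prime (M.comap _), ← RingHom.ker_eq_comap_bot,
      Ideal.ker_algebraMap_residueField]

open TensorProduct in
/-- Flatness descends along a flat local change of the base. -/
theorem flatAt_descend {R R' S S' M M' : Type u} [CommRing R] [CommRing R'] [CommRing S] [CommRing S']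
    [Algebra R R'] [Algebra R S] [Algebra S S'] [Algebra R' S'] [Algebra R S'] [IsScalarTower R S S'] [IsScalarTower R R' S']
    [Algebra.IsPushout R S R' S']
    [AddCommGroup M] [Module S M] [Module R M] [IsScalarTower R S M]
    [AddCommGroup M'] [Module S' M'] [Module R' M'] [IsScalarTower R' S' M'] [Module S M'] [IsScalarTower S S' M']
    (f : M →ₗ[S] M') (hf : IsBaseChange S' f) (p' : Ideal R') [p'.IsPrime] [Module.Flat R (Localization.AtPrime p')]
    (q : Ideal S) [q.IsPrime] (hq : q.comap (algebraMap R S) = p'.comap (algebraMap R R'))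
    (h : ∀ (q' : Ideal S') [q'.IsPrime], q'.comap (algebraMap R' S') = p' → q'.comap (algebraMap S S') = q →
      FlatCA.FlatAt R' q' M') : FlatCA.FlatAt R q M := by
  let L := Localization.AtPrime p'
  obtain ⟨S'', _, _, _, _, _, _, _, N'', _, _, _, _, _, _, _, _, g, hg⟩ :
      ∃ (S'' : Type u) (_ : CommRing S'') (_ : Algebra S S'') (_ : Algebra L S'') (_ : Algebra R S'')
        (_ : IsScalarTower R S S'') (_ : IsScalarTower R L S'') (_ : Algebra.IsPushout R S L S'')
        (N'' : Type u) (_ : AddCommGroup N'') (_ : Module S'' N'') (_ : Module S N'') (_ : IsScalarTower S S'' N'')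
        (_ : Module L N'') (_ : IsScalarTower L S'' N'') (_ : Module R N'') (_ : IsScalarTower R L N'')
        (g : M →ₗ[S] N''), IsBaseChange S'' g := by
    letI : Algebra S (L ⊗[R] S) := Algebra.TensorProduct.rightAlgebra
    exact ⟨L ⊗[R] S, inferInstance, inferInstance, inferInstance, inferInstance, inferInstance, inferInstance,
      inferInstance, (L ⊗[R] S) ⊗[S] M, inferInstance, inferInstance, inferInstance, inferInstance, inferInstance,
      inferInstance, inferInstance, inferInstance, TensorProduct.mk S (L ⊗[R] S) M 1, TensorProduct.isBaseChange _ _ _⟩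
  letI algR'S'' : Algebra R' S'' := ((algebraMap L S'').comp (algebraMap R' L)).toAlgebra
  haveI : IsScalarTower R' L S'' := IsScalarTower.of_algebraMap_eq fun _ => rfl
  haveI : IsScalarTower R R' S'' := IsScalarTower.of_algebraMap_eq fun a => by
    show algebraMap R S'' a = algebraMap L S'' (algebraMap R' L (algebraMap R R' a))
    rw [← IsScalarTower.algebraMap_apply R R' L, ← IsScalarTower.algebraMap_apply]
  letI : Module R' N'' := Module.compHom N'' (algebraMap R' L)
  haveI : IsScalarTower R' L N'' := IsScalarTower.of_compHom _ _ _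
  haveI : IsScalarTower R' S'' N'' := IsScalarTower.of_algebraMap_smul fun a m => by
    show algebraMap L S'' (algebraMap R' L a) • m = algebraMap R' L a • m
    rw [algebraMap_smul]
  haveI : IsScalarTower R S'' N'' := IsScalarTower.of_algebraMap_smul fun a m => by
    rw [IsScalarTower.algebraMap_apply R L S'', algebraMap_smul, algebraMap_smul]
  let ψ : S' →ₐ[R] S'' := Algebra.pushoutDesc S' (IsScalarTower.toAlgHom R S S'') (IsScalarTower.toAlgHom R R' S'')
    fun _ _ => Commute.all _ _
  letI := ψ.toRingHom.toAlgebra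
  haveI : IsScalarTower S S' S'' := IsScalarTower.of_algebraMap_eq fun c =>
    (Algebra.pushoutDesc_left (S' := S') (IsScalarTower.toAlgHom R S S'') (IsScalarTower.toAlgHom R R' S'') (fun _ _ => Commute.all _ _) c).symm
  haveI : IsScalarTower R' S' S'' := IsScalarTower.of_algebraMap_eq fun c =>
    (Algebra.pushoutDesc_right (S' := S') (IsScalarTower.toAlgHom R S S'') (IsScalarTower.toAlgHom R R' S'') (fun _ _ => Commute.all _ _) c).symm
  haveI : IsScalarTower R S' S'' := IsScalarTower.of_algebraMap_eq fun c => by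
    rw [IsScalarTower.algebraMap_apply R R' S', ← IsScalarTower.algebraMap_apply R' S' S'', ← IsScalarTower.algebraMap_apply]
  haveI : Module.Flat R' L := IsLocalization.flat L p'.primeCompl
  haveI : Module.Flat S' S'' :=
    AInjLib.flat_map_of_pushouts (A := R) (A' := R') (L := L) (C := S) (B := S) (C' := S') (B' := S'')
  haveI : Module.Flat S S'' := Module.Flat.isBaseChange R S L S'' (inferInstance : Algebra.IsPushout R S L S'').out
  letI : Module S' N'' := Module.compHom N'' (algebraMap S' S'')
  haveI : IsScalarTower S' S'' N'' := IsScalarTower.of_compHom _ _ _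
  haveI : IsScalarTower S S' N'' := IsScalarTower.of_algebraMap_smul fun c m => by
    show algebraMap S' S'' (algebraMap S S' c) • m = c • m
    rw [← IsScalarTower.algebraMap_apply, algebraMap_smul]
  let i : M' →ₗ[S'] N'' := hf.lift g
  have hi : IsBaseChange S'' i := IsBaseChange.of_comp hf (by rw [hf.lift_comp]; exact hg)
  haveI : q.LiesOver (p'.comap (algebraMap R R')) := ⟨hq.symm⟩
  haveI : (IsLocalRing.maximalIdeal L).LiesOver (p'.comap (algebraMap R R')) := ⟨by
    rw [Ideal.under_def, IsScalarTower.algebraMap_eq R R' L, ← Ideal.comap_comap]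
    exact congrArg (Ideal.comap (algebraMap R R')) (IsLocalization.AtPrime.comap_maximalIdeal L p').symm⟩
  obtain ⟨Q, hQp, hQ1, hQ2⟩ := exists_prime_pushout (A := R) (D' := S'') (p'.comap (algebraMap R R')) (IsLocalRing.maximalIdeal L) q
  haveI := hQp
  haveI : Q.LiesOver q := ⟨hQ2.symm⟩
  refine (FlatInjLib.flatAt_iff_of_isBaseChange g hg q Q).1 ?_
  let q' := Q.comap (algebraMap S' S'')
  haveI : Q.LiesOver q' := ⟨rfl⟩
  have h1 := h q' (by
    rw [Ideal.comap_comap, ← IsScalarTower.algebraMap_eq, IsScalarTower.algebraMap_eq R' L S'', ← Ideal.comap_comap,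
      hQ1]
    exact IsLocalization.AtPrime.comap_maximalIdeal L p') (by
    rw [Ideal.comap_comap, ← IsScalarTower.algebraMap_eq, hQ2])
  haveI h2 : Module.Flat R' (LocalizedModule Q.primeCompl N'') :=
    (FlatInjLib.flatAt_iff_of_isBaseChange i hi q' Q).2 h1
  haveI : Module.Flat L (LocalizedModule Q.primeCompl N'') :=
    (Module.flat_iff_of_isLocalization L p'.primeCompl (LocalizedModule Q.primeCompl N'')).2 h2
  exact Module.Flat.trans R L (LocalizedModule Q.primeCompl N'')

/-- Let `R → S` be a ring map, `J ⊆ S` an ideal, `M` an `S`-module and `I ⊆ R` an ideal; let `R → R'` be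
a ring map and `I' ⊆ R'` an ideal containing `IR'`, and put `S' = S ⊗_R R'`, `M' = M ⊗_R R'`. Assume
that every prime of `R` containing `I` is the contraction of a prime of `R'` containing `I'`, and
that `R'_{𝔭'}` is flat over `R` for every prime `𝔭' ⊇ I'`. If `M'_{𝔮'}` is flat over `R'` for every
prime `𝔮' ⊇ I'S' + JS'` of `S'`, then `M_𝔮` is flat over `R` for every prime `𝔮 ⊇ IS + J` of `S`.
(The published statement descends from a pair `(R'', I'')` to an arbitrary pair `(R', I')` over `R`;
this row takes `(R', I') = (R, I)`.) -/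
theorem result {R S R' S' : Type u} [CommRing R] [CommRing S] [CommRing R'] [CommRing S']
    [Algebra R S] [Algebra R R'] [Algebra S S'] [Algebra R' S'] [Algebra R S'] [IsScalarTower R S S']
    [IsScalarTower R R' S'] [Algebra.IsPushout R S R' S']
    (I : Ideal R) (I' : Ideal R') (hII' : I.map (algebraMap R R') ≤ I')
    {M M' : Type u} [AddCommGroup M] [Module S M] [Module R M] [IsScalarTower R S M]
    [AddCommGroup M'] [Module S' M'] [Module R' M'] [IsScalarTower R' S' M'] [Module S M'] [IsScalarTower S S' M']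
    (f : M →ₗ[S] M') (hf : IsBaseChange S' f) (J : Ideal S)
    (hsurj : ∀ (p : Ideal R) [p.IsPrime], I ≤ p → ∃ (p' : Ideal R') (_ : p'.IsPrime), I' ≤ p' ∧ p'.comap (algebraMap R R') = p)
    (hflat : ∀ (p' : Ideal R') [p'.IsPrime], I' ≤ p' → Module.Flat R (Localization.AtPrime p'))
    (h : (∀ (q : Ideal S') [q.IsPrime], I'.map (algebraMap R' S') ⊔ J.map (algebraMap S S') ≤ q → FlatCA.FlatAt R' q M')) :
    (∀ (q : Ideal S) [q.IsPrime], I.map (algebraMap R S) ⊔ J ≤ q → FlatCA.FlatAt R q M) := by
  intro q _ hle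
  have hp : I ≤ q.comap (algebraMap R S) := Ideal.map_le_iff_le_comap.1 (le_sup_left.trans hle)
  obtain ⟨p', hp'p, hIp', hp'⟩ := hsurj (q.comap (algebraMap R S)) hp
  haveI := hp'p
  haveI := hflat p' hIp'
  refine flatAt_descend f hf p' q hp'.symm fun q' _ h1 h2 => h q' (sup_le ?_ ?_)
  · exact Ideal.map_le_iff_le_comap.2 (h1 ▸ hIp')
  · exact Ideal.map_le_iff_le_comap.2 (h2 ▸ (le_sup_right.trans hle))

end Groth.Agent.S6919
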