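import Groth.Statements.S6920
import Mathlib.Algebra.Category.Ring.Epi
import Mathlib.RingTheory.TensorProduct.Basic
-- import your own Groth.Agent.* helpers here

set_option autoImplicit false
set_option linter.style.haveILetI false
universe u
open CategoryTheory CategoryTheory.Limits MonoidalCategory
open DRing

namespace Groth.Agent.S6920

/-- For an epimorphism of rings `φ : R → S` and a complex `I•` of `S`-modules, if the underlying complex
of `R`-modules of `I•` is K-injective, then `I•` itself is K-injective over `S`. -/
theorem result (R S : Type u) [CommRing R] [CommRing S] (φ : R →+* S)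
    (hφ : Epi (CommRingCat.ofHom φ)) (I : DRing.Cx S)
    [CochainComplex.IsKInjective ((DRing.restrictCx φ).obj I)] : CochainComplex.IsKInjective I := by
  algebraize [φ]
  haveI : Algebra.IsEpi R S := CommRingCat.epi_iff_epi.mp hφ
  haveI : (ModuleCat.restrictScalars.{u} φ).Full := ⟨fun {M N} g => by
    letI : Module R M := Module.compHom M φ
    letI : Module R N := Module.compHom N φ
    haveI : IsScalarTower R S M := ⟨fun r s m => by
      show (φ r * s) • m = φ r • (s • m)
      rw [mul_smul]⟩
    haveI : IsScalarTower R S N := ⟨fun r s m => by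
      show (φ r * s) • m = φ r • (s • m)
      rw [mul_smul]⟩
    let g' : M →ₗ[R] N := g.hom
    have key : ∀ (s : S) (m : M), g' (s • m) = s • g' m := fun s m => by
      have he : (1 : S) ⊗ₜ[R] (s • m) = s ⊗ₜ[R] m :=
        Algebra.injective_lift_lsmul R S M (by simp)
      simpa using congrArg
        (TensorProduct.lift ((LinearMap.restrictScalars₁₂ R R (LinearMap.lsmul S N)).compl₂ g')) he
    exact ⟨ModuleCat.ofHom { toFun := g', map_add' := g'.map_add, map_smul' := key }, rfl⟩⟩
  have hI : CochainComplex.IsKInjective
      (((ModuleCat.restrictScalars φ).mapHomologicalComplex (ComplexShape.up ℤ)).obj I) :=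
    ‹CochainComplex.IsKInjective ((DRing.restrictCx φ).obj I)›
  refine ⟨fun {K} f hK => ?_⟩
  let F := ModuleCat.restrictScalars.{u} φ
  let H := CochainComplex.IsKInjective.homotopyZero
    ((F.mapHomologicalComplex (ComplexShape.up ℤ)).map f)
    (show ((F.mapHomologicalComplex (ComplexShape.up ℤ)).obj K).Acyclic from
      fun i => (hK i).map F)
  choose g hg using fun i j => F.map_surjective (H.hom i j)
  refine ⟨⟨g, fun i j hij => F.map_injective ?_, fun i => F.map_injective ?_⟩⟩
  · rw [hg, H.zero i j hij]
    exact (F.map_zero _ _).symm
  · refine (H.comm i).trans ?_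
    simp only [F.map_add, dNext_eq _ (show (ComplexShape.up ℤ).Rel i (i + 1) from rfl),
      prevD_eq _ (show (ComplexShape.up ℤ).Rel (i - 1) i by simp), Functor.map_comp, hg,
      Functor.map_zero, HomologicalComplex.zero_f]
    rfl

end Groth.Agent.S6920
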