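import Groth.Statements.S6923
import Mathlib.RingTheory.Flat.EquationalCriterion
import Mathlib.RingTheory.Idempotents
import Mathlib.RingTheory.Nakayama
import Mathlib.RingTheory.Noetherian.Nilpotent
import Mathlib.RingTheory.Jacobson.Ideal
import Mathlib.LinearAlgebra.Matrix.ToLin
import Mathlib.Algebra.Module.Projective
-- import your own Groth.Agent.* helpers here

set_option autoImplicit false
universe u
open Hensel

namespace Groth.Agent.S6923

lemma isNilpotent_matrix {R : Type*} [CommRing R] {ι : Type*} [Fintype ι] [DecidableEq ι]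
    {N : Matrix ι ι R} (h : ∀ i j, IsNilpotent (N i j)) : IsNilpotent N := by
  classical
  let J : Ideal R := Ideal.span ((Finset.univ.image fun p : ι × ι => N p.1 p.2 : Finset R) : Set R)
  have hJ : IsNilpotent J := by
    refine (Ideal.FG.isNilpotent_iff_le_nilradical ⟨_, rfl⟩).2 (Ideal.span_le.2 ?_)
    intro x hx
    obtain ⟨p, _, rfl⟩ := Finset.mem_image.1 hx
    exact h _ _
  obtain ⟨m, hm⟩ := hJ
  refine ⟨m, ?_⟩
  have key : ∀ m i j, (N ^ m) i j ∈ J ^ m := by
    intro m
    induction m with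
    | zero => simp
    | succ m ih =>
      intro i j
      rw [pow_succ, pow_succ, Matrix.mul_apply]
      exact Submodule.sum_mem _ fun l _ => Ideal.mul_mem_mul (ih i l)
        (Ideal.subset_span (Finset.mem_coe.2 (Finset.mem_image.2 ⟨(l, j), Finset.mem_univ _, rfl⟩)))
  ext i j
  have := key m i j
  rw [hm] at this
  simpa using this

lemma step {R S : Type*} [CommRing R] [CommRing S] (t : R →+* S) (ht : Function.Surjective t)
    (hnil : ∀ x, t x = 0 → IsNilpotent x) {M N : Type*} [AddCommGroup M] [Module R M] [AddCommGroup N] [Module S N]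
    [Module.Finite R M] [Module.Flat R M] (u : M →ₛₗ[t] N) (hu : Function.Surjective u)
    (hker : LinearMap.ker u = RingHom.ker t • (⊤ : Submodule R M)) {r : ℕ}
    (q : (Fin r → S) →ₗ[S] N) (σ : N →ₗ[S] (Fin r → S)) (hqσ : ∀ m, q (σ m) = m) :
    ∃ (q' : (Fin r → R) →ₗ[R] M) (σ' : M →ₗ[R] (Fin r → R)), (∀ m, q' (σ' m) = m) ∧
      (∀ y, u (q' y) = q (t ∘ y)) ∧ (∀ m, t ∘ σ' m = σ (u m)) := by
  classical
  let e : Matrix (Fin r) (Fin r) S := LinearMap.toMatrix' (σ ∘ₗ q)
  have he : IsIdempotentElem e := by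
    show e * e = e
    rw [← LinearMap.toMatrix'_comp]
    congr 1
    exact LinearMap.ext fun y => by simp [hqσ]
  have heq : ∀ y, e.mulVec y = σ (q y) := fun y => by
    rw [← Matrix.toLin'_apply, Matrix.toLin'_toMatrix']; rfl
  obtain ⟨E, hE, hEe⟩ := exists_isIdempotentElem_eq_of_ker_isNilpotent (t.mapMatrix (m := Fin r)) (fun X hX =>
    isNilpotent_matrix fun i j => hnil _ (congrFun (congrFun hX i) j))
    e ⟨Matrix.of fun i j => (ht (e i j)).choose, by ext i j; exact (ht (e i j)).choose_spec⟩ he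
  have hEt : ∀ y, t ∘ (E.mulVec y) = σ (q (t ∘ y)) := fun y => by
    rw [← heq, ← hEe]
    funext i
    exact RingHom.map_mulVec t E y i
  choose g hg using fun i : Fin r => hu (q (Pi.single i 1))
  let q₁ : (Fin r → R) →ₗ[R] M := Fintype.linearCombination R g
  have hq₁ : ∀ y, u (q₁ y) = q (t ∘ y) := fun y => by
    simp only [q₁, Fintype.linearCombination_apply, map_sum, LinearMap.map_smulₛₗ, hg]
    simp only [← map_smul, ← map_sum]
    congr 1
    funext j
    simp [Finset.sum_apply, Pi.single_apply]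
  let q' := q₁ ∘ₗ Matrix.toLin' E
  have hq' : ∀ y, u (q' y) = q (t ∘ y) := fun y => by
    show u (q₁ (Matrix.toLin' E y)) = _
    rw [hq₁, Matrix.toLin'_apply, hEt, hqσ]
  have hEE : ∀ y, Matrix.toLin' E (Matrix.toLin' E y) = Matrix.toLin' E y := fun y => by
    rw [← LinearMap.comp_apply, ← Matrix.toLin'_mul, hE.eq]
  have hqE : ∀ y, q' (Matrix.toLin' E y) = q' y := fun y => congrArg q₁ (hEE y)
  let G := LinearMap.range (Matrix.toLin' E)
  let h : G →ₗ[R] M := q' ∘ₗ G.subtype
  have hGt : ∀ x ∈ G, t ∘ x = σ (u (q' x)) := by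
    rintro _ ⟨y, rfl⟩
    rw [hqE, hq', Matrix.toLin'_apply, hEt]
  have hI : RingHom.ker t ≤ Ideal.jacobson ⊥ := fun x hx =>
    Ideal.mem_sInf.2 fun {P} hP => hP.2.isPrime.mem_of_pow_mem _ ((hnil x hx).choose_spec ▸ zero_mem P)
  have hsurj : Function.Surjective h := by
    rw [← LinearMap.range_eq_top, eq_top_iff]
    refine Submodule.le_of_le_smul_of_le_jacobson_bot Module.Finite.fg_top hI fun m _ => ?_
    choose y hy using fun i => ht (σ (u m) i)
    have hy' : u (q' y) = u m := by rw [hq', show t ∘ y = σ (u m) from funext hy, hqσ]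
    have : m - q' y ∈ RingHom.ker t • (⊤ : Submodule R M) := by
      rw [← hker, LinearMap.mem_ker, map_sub, hy', sub_self]
    rw [← add_sub_cancel (q' y) m]
    exact Submodule.add_mem_sup ⟨⟨Matrix.toLin' E y, ⟨y, rfl⟩⟩, hqE y⟩ this
  have hinj : Function.Injective h := by
    rw [← LinearMap.ker_eq_bot, eq_bot_iff]
    rintro ⟨x, hx⟩ (hx0 : q' x = 0)
    obtain ⟨k, a, y, hya, hax⟩ := Module.Flat.exists_factorization_of_apply_eq_zero_of_free hx0
    have hq's : Function.Surjective q' := fun m => let ⟨z, hz⟩ := hsurj m; ⟨z, hz⟩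
    obtain ⟨c, hc⟩ := Module.projective_lifting_property q' y hq's
    let ψ : (Fin r → R) →ₗ[R] (Fin r → R) := Matrix.toLin' E ∘ₗ (LinearMap.id - c ∘ₗ a)
    have hxE : Matrix.toLin' E x = x := by
      obtain ⟨z, rfl⟩ := hx
      exact hEE z
    have hψx : ψ x = x := by simp only [ψ, LinearMap.comp_apply, LinearMap.sub_apply, LinearMap.id_apply, hax, map_zero, sub_zero, hxE]
    have hψt : ∀ z i, IsNilpotent (ψ z i) := fun z i => hnil _ (by
      have h0 : q' (ψ z) = 0 := by
        show q' (Matrix.toLin' E (z - c (a z))) = 0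
        rw [hqE, map_sub, show q' (c (a z)) = y (a z) from LinearMap.congr_fun hc (a z)]
        exact sub_eq_zero.2 (LinearMap.congr_fun hya z)
      have := congrFun (hGt (ψ z) ⟨_, rfl⟩) i
      rw [h0, map_zero, map_zero] at this
      exact this)
    obtain ⟨m, hm⟩ := isNilpotent_matrix (N := LinearMap.toMatrix' ψ) fun i j => by
      rw [LinearMap.toMatrix'_apply]; exact hψt _ i
    have hpow : ∀ m : ℕ, ((LinearMap.toMatrix' ψ) ^ m).mulVec x = x := by
      intro m
      induction m with
      | zero => simp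
      | succ m ih => rw [pow_succ, ← Matrix.mulVec_mulVec, LinearMap.toMatrix'_mulVec, hψx, ih]
    have := hpow m
    rw [hm, Matrix.zero_mulVec] at this
    exact Subtype.ext this.symm
  let eh := LinearEquiv.ofBijective h ⟨hinj, hsurj⟩
  have hqσ' : ∀ m, q' (eh.symm m : Fin r → R) = m := fun m => eh.apply_symm_apply m
  exact ⟨q', G.subtype ∘ₗ eh.symm.toLinearMap, hqσ', hq', fun m => by
    rw [LinearMap.comp_apply, Submodule.subtype_apply, LinearEquiv.coe_toLinearMap, hGt _ (eh.symm m).2, hqσ']⟩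

lemma exists_compatible : ∀ (n : ℕ) (An : ℕ → Type u) [∀ k, CommRing (An k)] (t : ∀ k, An (k + 1) →+* An k),
    (∀ k, Function.Surjective (t k)) → ∀ s : An n, ∃ x : ∀ k, An k, (∀ k, t k (x (k + 1)) = x k) ∧ x n = s := by
  intro n
  induction n with
  | zero =>
    intro An _ t ht s
    exact ⟨fun k => Nat.rec (motive := An) s (fun k z => (ht k z).choose) k, fun k => (ht k _).choose_spec, rfl⟩
  | succ n ih =>
    intro An _ t ht s
    obtain ⟨x, hx, hxn⟩ := ih (fun k => An (k + 1)) (fun k => t (k + 1)) (fun k => ht (k + 1)) s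
    refine ⟨fun k => match k with
      | 0 => t 0 (x 0)
      | j + 1 => x j, fun k => ?_, hxn⟩
    match k with
    | 0 => rfl
    | j + 1 => exact hx j


/-- Let `A = lim A_n` be the limit of an inverse system of rings `(A_n)_{n ≥ 0}` in which each map
`A_{n+1} → A_n` is onto and every element of its kernel is nilpotent. Let `M_n` be `A_n`-modules
with compatible maps `M_{n+1} → M_n` such that `M_0` is finite projective, every `M_n` is finite and
flat over `A_n`, and the maps induce isomorphisms `M_{n+1} ⊗_{A_{n+1}} A_n → M_n` (i.e. are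
surjective with kernel `Ker(A_{n+1} → A_n) M_{n+1}`). Then the inverse limit of the `M_n` is a
finitely generated projective `A`-module whose base change to each `A_n` maps onto `M_n`
isomorphically: there is a finite projective `A`-module `P` with compatible maps `P → M_n`, each
surjective with kernel `Ker(A → A_n) P`, through which `P` maps bijectively onto the compatible
sequences in `∏ M_n`. -/
theorem result (A : Type u) [CommRing A] (An : ℕ → Type u)
    [∀ n, CommRing (An n)] (t : ∀ n, An (n + 1) →+* An n) (π : ∀ n, A →+* An n)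
    (ht : ∀ n, Function.Surjective (t n)) (hnil : ∀ n (x : An (n + 1)), t n x = 0 → IsNilpotent x)
    (hA : FlatCA.IsRingLimit A An t π)
    (M : ℕ → Type u) [∀ n, AddCommGroup (M n)] [∀ n, Module (An n) (M n)] (u : ∀ n, M (n + 1) →ₛₗ[t n] M n)
    [Module.Projective (An 0) (M 0)] (hfin : ∀ n, Module.Finite (An n) (M n)) (hflat : ∀ n, Module.Flat (An n) (M n))
    (hu : ∀ n, Function.Surjective (u n) ∧ LinearMap.ker (u n) = RingHom.ker (t n) • (⊤ : Submodule (An (n + 1)) (M (n + 1)))) :
    ∃ (P : Type u) (_ : AddCommGroup P) (_ : Module A P) (p : ∀ n, P →ₛₗ[π n] M n),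
      Module.Finite A P ∧ Module.Projective A P ∧ (∀ n (x : P), u n (p (n + 1) x) = p n x) ∧
      (∀ n, Function.Surjective (p n) ∧ LinearMap.ker (p n) = RingHom.ker (π n) • (⊤ : Submodule A P)) ∧
      (∀ x : (∀ n, M n), (∀ n, u n (x (n + 1)) = x n) → ∃! q : P, ∀ n, p n q = x n) := by
  classical
  obtain ⟨hπt, hsep, hlim⟩ := hA
  have hπ : ∀ n, Function.Surjective (π n) := fun n s => by
    obtain ⟨x, hx, hxn⟩ := exists_compatible n An t ht s
    obtain ⟨a, ha⟩ := hlim x hx
    exact ⟨a, (ha n).trans hxn⟩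
  obtain ⟨r, q0, hq0⟩ := Module.Finite.exists_fin' (An 0) (M 0)
  obtain ⟨σ0, hσ0⟩ := Module.projective_lifting_property q0 LinearMap.id hq0
  let St : ∀ n, Type u := fun n => { p : ((Fin r → An n) →ₗ[An n] M n) × (M n →ₗ[An n] (Fin r → An n)) // ∀ m, p.1 (p.2 m) = m }
  have hstep : ∀ n (p : St n), ∃ p' : St (n + 1), (∀ y, u n (p'.1.1 y) = p.1.1 (t n ∘ y)) ∧ (∀ m, t n ∘ p'.1.2 m = p.1.2 (u n m)) := by
    intro n p
    haveI := hfin (n + 1)
    haveI := hflat (n + 1)
    obtain ⟨q', σ', h1, h2, h3⟩ := step (t n) (ht n) (hnil n) (u n) (hu n).1 (hu n).2 p.1.1 p.1.2 p.2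
    exact ⟨⟨(q', σ'), h1⟩, h2, h3⟩
  choose nxt hn1 hn2 using hstep
  let sys : ∀ n, St n := fun n => Nat.rec (⟨(q0, σ0), LinearMap.congr_fun hσ0⟩ : St 0) nxt n
  let q := fun n => (sys n).1.1
  let σ := fun n => (sys n).1.2
  have hqσ : ∀ n m, q n (σ n m) = m := fun n => (sys n).2
  have hq : ∀ n y, u n (q (n + 1) y) = q n (t n ∘ y) := fun n => hn1 n (sys n)
  have hσ : ∀ n m, t n ∘ σ (n + 1) m = σ n (u n m) := fun n => hn2 n (sys n)
  let e : ∀ n, Matrix (Fin r) (Fin r) (An n) := fun n => LinearMap.toMatrix' (σ n ∘ₗ q n)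
  have he : ∀ n y, (e n).mulVec y = σ n (q n y) := fun n y => by
    rw [← Matrix.toLin'_apply, Matrix.toLin'_toMatrix']; rfl
  have het : ∀ n i j, t n (e (n + 1) i j) = e n i j := fun n i j => by
    simp only [e, LinearMap.toMatrix'_apply, LinearMap.comp_apply]
    have h1 := congrFun (hσ n (q (n + 1) (Pi.single j 1))) i
    rw [hq, show t n ∘ (Pi.single j 1 : Fin r → An (n + 1)) = Pi.single j 1 from
      funext fun j' => by simp [Pi.single_apply, apply_ite (t n)]] at h1
    exact h1
  choose E hE using fun i j => hlim (fun n => e n i j) (fun n => het n i j)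
  let E' : Matrix (Fin r) (Fin r) A := Matrix.of E
  have hEmap : ∀ n, E'.map (π n) = e n := fun n => Matrix.ext fun i j => hE i j n
  have hπE : ∀ n y, π n ∘ (E'.mulVec y) = σ n (q n (π n ∘ y)) := fun n y => by
    rw [← he, ← hEmap]
    funext i
    exact RingHom.map_mulVec (π n) E' y i
  let L := Matrix.toLin' E'
  have hLL : ∀ y, L (L y) = L y := fun y => funext fun i => hsep _ _ fun n => by
    have := congrFun (hπE n (L y)) i
    simp only [Function.comp_apply, L, Matrix.toLin'_apply] at this ⊢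
    rw [this, hπE, hqσ, ← hπE]; rfl
  let P := LinearMap.range L
  have hP : ∀ (x : P), L x = x := fun ⟨_, y, hy⟩ => by subst hy; exact hLL y
  have hPn : ∀ n (x : P), σ n (q n (π n ∘ (x : Fin r → A))) = π n ∘ (x : Fin r → A) := fun n x => by
    rw [← hπE, ← Matrix.toLin'_apply]; exact congrArg (fun z => π n ∘ z) (hP x)
  let p : ∀ n, P →ₛₗ[π n] M n := fun n =>
    { toFun := fun x => q n (π n ∘ (x : Fin r → A))
      map_add' := fun x y => by
        rw [← map_add]; congr 1; funext i; simp
      map_smul' := fun a x => by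
        rw [← map_smul]; congr 1; funext i; simp }
  have hPproj : Module.Projective A P :=
    Module.Projective.of_split P.subtype L.rangeRestrict (LinearMap.ext fun x => Subtype.ext (hP x))
  refine ⟨P, inferInstance, inferInstance, p, Module.Finite.range L, hPproj, fun n x => ?_, fun n => ⟨?_, ?_⟩, ?_⟩
  · show u n (q (n + 1) _) = q n _
    rw [hq]
    congr 1
    funext i
    exact RingHom.congr_fun (hπt n) _
  · intro m
    choose y hy using fun i => hπ n (σ n m i)
    refine ⟨⟨L y, y, rfl⟩, ?_⟩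
    show q n (π n ∘ (L y)) = m
    rw [Matrix.toLin'_apply, hπE, hqσ, show π n ∘ y = σ n m from funext hy, hqσ]
  · refine le_antisymm (fun x hx => ?_) (Submodule.smul_le.2 fun a ha z _ => ?_)
    · have hxi : ∀ i, (x : Fin r → A) i ∈ RingHom.ker (π n) := fun i => by
        have := congrFun (hPn n x) i
        rw [show q n (π n ∘ (x : Fin r → A)) = 0 from hx, map_zero] at this
        exact this.symm
      have : x = ∑ i, (x : Fin r → A) i • (⟨L (Pi.single i 1), _, rfl⟩ : P) := by
        refine Subtype.ext ?_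
        simp only [Submodule.coe_sum, Submodule.coe_smul]
        conv_lhs => rw [← hP x, pi_eq_sum_univ' (x : Fin r → A)]
        simp only [map_sum, map_smul]
      rw [this]
      exact Submodule.sum_mem _ fun i _ => Submodule.smul_mem_smul (hxi i) Submodule.mem_top
    · rw [LinearMap.mem_ker, LinearMap.map_smulₛₗ, ha, zero_smul]
  · intro x hx
    choose y hy using fun i => hlim (fun n => σ n (x n) i) (fun n => by
      have := congrFun (hσ n (x (n + 1))) i
      rw [hx] at this
      exact this)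
    have hy' : ∀ n, π n ∘ y = σ n (x n) := fun n => funext fun i => hy i n
    refine ⟨⟨L y, y, rfl⟩, fun n => ?_, fun z hz => Subtype.ext (funext fun i => hsep _ _ fun n => ?_)⟩
    · show q n (π n ∘ (L y)) = x n
      rw [Matrix.toLin'_apply, hπE, hqσ, hy', hqσ]
    · have h1 := congrFun (hPn n z) i
      rw [show q n (π n ∘ (z : Fin r → A)) = x n from hz n] at h1
      have h2 := congrFun (hπE n y) i
      rw [hy', hqσ] at h2
      exact h1.symm.trans h2.symm


end Groth.Agent.S6923
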