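import Groth.Statements.S6925
import Groth.Agent.AInjLib.LeastIdeal

set_option autoImplicit false
universe u
open TensorProduct
open FlatMor

open scoped TensorProduct

namespace Groth.Agent.S6925

/-- Krull's intersection theorem modulo an ideal. -/
theorem mem_of_forall_mem_sup_pow {R : Type u} [CommRing R] [IsLocalRing R] [IsNoetherianRing R] (J : Ideal R) (hJ : J ≠ ⊤)
    (a : R) (h : ∀ k, a ∈ J ⊔ IsLocalRing.maximalIdeal R ^ (k + 1)) : a ∈ J := by
  rw [← Ideal.Quotient.eq_zero_iff_mem, ← Submodule.mem_bot R,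
    ← Ideal.iInf_pow_smul_eq_bot_of_le_jacobson (M := R ⧸ J) (IsLocalRing.maximalIdeal R)
      (IsLocalRing.maximalIdeal_le_jacobson _), Submodule.mem_iInf]
  intro k
  obtain ⟨y, hy, z, hz, he⟩ := Submodule.mem_sup.1 (h k)
  rw [← he, map_add, Ideal.Quotient.eq_zero_iff_mem.2 hy, zero_add, ← mul_one z, map_mul, map_one]
  rw [show Ideal.Quotient.mk J z * 1 = z • (1 : R ⧸ J) from (Algebra.smul_def z 1).symm]
  exact Submodule.smul_mem_smul (Ideal.pow_le_pow_right k.le_succ hz) trivial

/-- Let `(R, 𝔪)` be a complete Noetherian local ring, `R → S` a ring map with `S` Noetherian and `M` a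
finite `S`-module. Then among ideals contained in `𝔪`, there is a smallest one `I` with the
following property: whenever `𝔮` is a prime of `S` lying over `𝔪`, the module `(M/IM)_𝔮` is
`R/I`-flat. Namely, `I ⊆ 𝔪` has this property, and every ideal `J` with the property contains `I`. -/
theorem result (R S : Type u) [CommRing R] [IsLocalRing R]
    [IsNoetherianRing R] [IsAdicComplete (IsLocalRing.maximalIdeal R) R] [CommRing S] [Algebra R S] [IsNoetherianRing S]
    (M : Type u) [AddCommGroup M] [Module S M] [Module R M] [IsScalarTower R S M] [Module.Finite S M] :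
    ∃ I : Ideal R, I ≤ IsLocalRing.maximalIdeal R ∧
      (∀ (q : Ideal S) [q.IsPrime], q.comap (algebraMap R S) = IsLocalRing.maximalIdeal R →
        Module.Flat (R ⧸ I) ((R ⧸ I) ⊗[R] LocalizedModule q.primeCompl M)) ∧
      ∀ J : Ideal R, (∀ (q : Ideal S) [q.IsPrime], q.comap (algebraMap R S) = IsLocalRing.maximalIdeal R →
        Module.Flat (R ⧸ J) ((R ⧸ J) ⊗[R] LocalizedModule q.primeCompl M)) → I ≤ J := by
  classical
  let K := {q : Ideal S // q.IsPrime ∧ q.comap (algebraMap R S) = IsLocalRing.maximalIdeal R}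
  haveI : ∀ q : K, q.1.IsPrime := fun q => q.2.1
  let m := IsLocalRing.maximalIdeal R
  let X : K → Type u := fun q => LocalizedModule q.1.primeCompl M
  choose L hL0 hLm hL1 hL2 _hL3 using fun k => AInjLib.exists_level (R := R) X k
  have htop : m ≠ ⊤ := (IsLocalRing.maximalIdeal.isMaximal R).ne_top
  have hLtop : ∀ k, L k ≠ ⊤ := fun k h => htop (top_le_iff.1 (h ▸ hLm k))
  have hpow : ∀ {i j : ℕ}, i ≤ j → m ^ (j + 1) ≤ m ^ (i + 1) := fun h => Ideal.pow_le_pow_right (Nat.add_le_add_right h 1)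
  have hdec : ∀ {i j : ℕ}, i ≤ j → L j ≤ L i := fun {i j} h =>
    hL2 j (L i) (hLtop i) ((hpow h).trans (hL0 i)) (hL1 i)
  have hstep : ∀ k, L k ≤ L (k + 1) ⊔ m ^ (k + 1) := fun k =>
    hL2 k _ (fun h => htop (top_le_iff.1 (h ▸ sup_le (hLm (k + 1)) (Ideal.pow_le_self k.succ_ne_zero))))
      le_sup_right fun q => AInjLib.fq_mono le_sup_left (hL1 (k + 1) q)
  let I : Ideal R := ⨅ k, L k
  have hI : ∀ n, I ⊔ m ^ (n + 1) = L n := by
    intro n
    refine le_antisymm (sup_le (iInf_le _ n) (hL0 n)) fun a ha => ?_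
    have hnext : ∀ j (x : {x : R // x ∈ L (n + j)}),
        ∃ y : {y : R // y ∈ L (n + (j + 1))}, y.1 - x.1 ∈ m ^ (n + j + 1) := by
      intro j x
      obtain ⟨y, hy, z, hz, he⟩ := Submodule.mem_sup.1 (hstep (n + j) x.2)
      refine ⟨⟨y, hy⟩, ?_⟩
      show y - x.1 ∈ _
      rw [← he, sub_add_cancel_left]
      exact neg_mem hz
    choose next hnext' using hnext
    obtain ⟨sq, hsq0, hsq⟩ : ∃ sq : ∀ j, {x : R // x ∈ L (n + j)}, (sq 0).1 = a ∧
        ∀ j, (sq (j + 1)).1 - (sq j).1 ∈ m ^ (n + j + 1) :=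
      ⟨fun j => Nat.rec ⟨a, ha⟩ (fun j x => next j x) j, rfl, fun j => hnext' j _⟩
    have hdiff : ∀ {i j : ℕ}, i ≤ j → (sq j).1 - (sq i).1 ∈ m ^ (n + i + 1) := by
      intro i j h
      induction j, h using Nat.le_induction with
      | base => rw [sub_self]; exact zero_mem _
      | succ j hij ih =>
        rw [← sub_add_sub_cancel (sq (j + 1)).1 (sq j).1 (sq i).1]
        exact add_mem (Ideal.pow_le_pow_right (by omega) (hsq j)) ih
    obtain ⟨l, hl⟩ := IsPrecomplete.prec (I := m) (inferInstance : IsPrecomplete m R)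
      (f := fun j => (sq j).1) fun {i j} h => by
        rw [SModEq.sub_mem, Ideal.smul_eq_mul, Ideal.mul_top, ← neg_sub]
        exact neg_mem (Ideal.pow_le_pow_right (by omega) (hdiff h))
    have hl' : ∀ j, l - (sq j).1 ∈ m ^ j := fun j => by
      have := hl j
      rw [SModEq.sub_mem, Ideal.smul_eq_mul, Ideal.mul_top] at this
      rw [← neg_sub]
      exact neg_mem this
    refine Submodule.mem_sup.2 ⟨l, Submodule.mem_iInf _ |>.2 fun k => ?_, a - l, ?_, add_sub_cancel _ _⟩
    · rw [← sub_add_cancel l (sq (k + 1)).1]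
      exact add_mem (hL0 k (hl' (k + 1))) (hdec (by omega) (sq (k + 1)).2)
    · rw [← sub_add_sub_cancel a (sq (n + 1)).1 l]
      refine add_mem ?_ ?_
      · have e : (sq (n + 1)).1 - (sq 0).1 ∈ m ^ (n + 0 + 1) := hdiff (i := 0) (j := n + 1) (Nat.zero_le _)
        rw [Nat.add_zero, hsq0] at e
        rw [← neg_sub]
        exact neg_mem e
      · rw [← neg_sub]
        exact neg_mem (hl' (n + 1))
  refine ⟨I, (iInf_le _ 0).trans (hLm 0), fun q _ hq => ?_, fun J hJ => ?_⟩
  · haveI : IsLocalHom (algebraMap R (Localization.AtPrime q)) := ⟨fun a ha => by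
      by_contra hna
      rw [IsScalarTower.algebraMap_apply R S (Localization.AtPrime q)] at ha
      exact (IsLocalization.AtPrime.isUnit_to_map_iff (Localization.AtPrime q) q _).1 ha
        (hq.ge ((IsLocalRing.mem_maximalIdeal _).2 hna))⟩
    haveI : Module.Finite (Localization.AtPrime q) (LocalizedModule q.primeCompl M) :=
      Module.Finite.of_isLocalizedModule q.primeCompl (LocalizedModule.mkLinearMap q.primeCompl M)
    haveI : IsNoetherianRing (Localization.AtPrime q) := IsLocalization.isNoetherianRing q.primeCompl _ inferInstance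
    refine AInjLib.fq_of_forall_fq_sup_pow (S := Localization.AtPrime q) I fun k => ?_
    rcases k with _ | k
    · rw [pow_zero, Ideal.one_eq_top, sup_top_eq]
      haveI : Subsingleton ((R ⧸ (⊤ : Ideal R)) ⊗[R] LocalizedModule q.primeCompl M) := inferInstance
      exact (inferInstance : Module.Flat (R ⧸ (⊤ : Ideal R)) ((R ⧸ (⊤ : Ideal R)) ⊗[R] LocalizedModule q.primeCompl M))
    · rw [hI k]
      exact hL1 k ⟨q, inferInstance, hq⟩
  · intro a ha
    by_cases hJt : J = ⊤
    · rw [hJt]; trivial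
    have h1 : ∀ k, a ∈ J ⊔ m ^ (k + 1) := fun k =>
      hL2 k _ (fun h => htop (top_le_iff.1 (h ▸ sup_le (IsLocalRing.le_maximalIdeal hJt) (Ideal.pow_le_self k.succ_ne_zero))))
        le_sup_right (fun q => AInjLib.fq_mono le_sup_left (hJ q.1 q.2.2)) (Submodule.mem_iInf _ |>.1 ha k)
    exact mem_of_forall_mem_sup_pow J hJt a h1

end Groth.Agent.S6925
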