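import Groth.Statements.S6926
import Groth.Agent.AInjLib.LeastIdeal

set_option autoImplicit false
universe u
open TensorProduct
open FlatMor

open scoped TensorProduct

namespace Groth.Agent.S6926

open TensorProduct in
/-- Flatness modulo the kernel gives flatness of the base change at the primes above. -/
theorem flatAt_of_fq_ker {R S R' S' M M' : Type u} [CommRing R] [CommRing S] [CommRing R'] [CommRing S'] [Algebra R S]
    [Algebra R R'] [Algebra S S'] [Algebra R' S'] [Algebra R S'] [IsScalarTower R S S'] [IsScalarTower R R' S']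
    [Algebra.IsPushout R S R' S'] [AddCommGroup M] [Module S M] [Module R M] [IsScalarTower R S M]
    [AddCommGroup M'] [Module S' M'] [Module R' M'] [IsScalarTower R' S' M'] [Module S M'] [IsScalarTower S S' M']
    (f : M →ₗ[S] M') (hf : IsBaseChange S' f) (q' : Ideal S') [q'.IsPrime]
    (h : AInjLib.FQ (RingHom.ker (algebraMap R R')) (LocalizedModule (q'.comap (algebraMap S S')).primeCompl M)) :
    FlatCA.FlatAt R' q' M' := by
  let q := q'.comap (algebraMap S S')
  let B := Localization.AtPrime q
  obtain ⟨B', _, _, _, _, _, _, _, _, Y, _, _, _, _, _, _, g, hg⟩ :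
      ∃ (B' : Type u) (_ : CommRing B') (_ : Algebra B B') (_ : Algebra R' B') (_ : Algebra R B')
        (_ : IsScalarTower R B B') (_ : IsScalarTower R R' B') (_ : Algebra.IsPushout R B R' B') (_ : True)
        (Y : Type u) (_ : AddCommGroup Y) (_ : Module B' Y) (_ : Module B Y) (_ : IsScalarTower B B' Y)
        (_ : Module R' Y) (_ : IsScalarTower R' B' Y) (g : LocalizedModule q.primeCompl M →ₗ[B] Y), IsBaseChange B' g := by
    letI : Algebra B (R' ⊗[R] B) := Algebra.TensorProduct.rightAlgebra
    exact ⟨R' ⊗[R] B, inferInstance, inferInstance, inferInstance, inferInstance, inferInstance, inferInstance,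
      inferInstance, trivial, (R' ⊗[R] B) ⊗[B] LocalizedModule q.primeCompl M, inferInstance, inferInstance, inferInstance,
      inferInstance, inferInstance, inferInstance, TensorProduct.mk B (R' ⊗[R] B) _ 1, TensorProduct.isBaseChange _ _ _⟩
  haveI : Module.Flat R' Y := AInjLib.flat_of_fq_ker g hg h
  letI : Algebra S B' := ((algebraMap B B').comp (algebraMap S B)).toAlgebra
  haveI : IsScalarTower S B B' := IsScalarTower.of_algebraMap_eq fun _ => rfl
  haveI : IsScalarTower R S B' := IsScalarTower.of_algebraMap_eq fun a => by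
    show algebraMap R B' a = algebraMap B B' (algebraMap S B (algebraMap R S a))
    rw [← IsScalarTower.algebraMap_apply R S B, ← IsScalarTower.algebraMap_apply]
  let ψ : S' →ₐ[R] B' := Algebra.pushoutDesc S' (IsScalarTower.toAlgHom R S B') (IsScalarTower.toAlgHom R R' B')
    fun _ _ => Commute.all _ _
  letI := ψ.toRingHom.toAlgebra
  haveI : IsScalarTower S S' B' := IsScalarTower.of_algebraMap_eq fun c =>
    (Algebra.pushoutDesc_left (S' := S') (IsScalarTower.toAlgHom R S B') (IsScalarTower.toAlgHom R R' B') (fun _ _ => Commute.all _ _) c).symm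
  haveI : IsScalarTower R' S' B' := IsScalarTower.of_algebraMap_eq fun c =>
    (Algebra.pushoutDesc_right (S' := S') (IsScalarTower.toAlgHom R S B') (IsScalarTower.toAlgHom R R' B') (fun _ _ => Commute.all _ _) c).symm
  haveI : Module.Flat S B := IsLocalization.flat B q.primeCompl
  haveI : Module.Flat S' B' :=
    AInjLib.flat_map_of_pushouts (A := R) (A' := R') (L := R') (C := S) (B := B) (C' := S') (B' := B')
  -- a prime above
  let κ := q'.ResidueField
  have hB : ∀ s : q.primeCompl, IsUnit (algebraMap S κ s) := fun s => Ne.isUnit fun h0 =>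
    s.2 (Ideal.mem_comap.2 ((Ideal.algebraMap_residueField_eq_zero (I := q')).1 (by
      rw [← IsScalarTower.algebraMap_apply]; exact h0)))
  let gB : B →ₐ[R] κ :=
    { IsLocalization.lift (S := B) hB with
      commutes' := fun a => by
        show IsLocalization.lift (S := B) hB (algebraMap R B a) = algebraMap R κ a
        rw [IsScalarTower.algebraMap_apply R S B, IsLocalization.lift_eq, ← IsScalarTower.algebraMap_apply] }
  let γ : B' →ₐ[R] κ := Algebra.pushoutDesc B' gB (IsScalarTower.toAlgHom R R' κ) fun _ _ => Commute.all _ _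
  have hcomp : γ.comp (IsScalarTower.toAlgHom R S' B') = IsScalarTower.toAlgHom R S' κ := by
    refine Algebra.IsPushout.algHom_ext (R := R) (S := S) (R' := R') (S' := S') (AlgHom.ext fun a => ?_) (AlgHom.ext fun c => ?_)
    · show γ (algebraMap S' B' (algebraMap R' S' a)) = algebraMap S' κ (algebraMap R' S' a)
      rw [← IsScalarTower.algebraMap_apply R' S' B', ← IsScalarTower.algebraMap_apply]
      exact Algebra.pushoutDesc_right (S' := B') gB (IsScalarTower.toAlgHom R R' κ) (fun _ _ => Commute.all _ _) a
    · show γ (algebraMap S' B' (algebraMap S S' c)) = algebraMap S' κ (algebraMap S S' c)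
      rw [← IsScalarTower.algebraMap_apply S S' B', IsScalarTower.algebraMap_apply S B B', ← IsScalarTower.algebraMap_apply S S' κ]
      exact (Algebra.pushoutDesc_left (S' := B') gB (IsScalarTower.toAlgHom R R' κ) (fun _ _ => Commute.all _ _) _).trans
        (IsLocalization.lift_eq hB c)
  let Q : Ideal B' := RingHom.ker γ.toRingHom
  haveI : Q.IsPrime := RingHom.ker_isPrime _
  haveI : Q.LiesOver q' := ⟨by
    rw [Ideal.under_def, RingHom.comap_ker, show γ.toRingHom.comp (algebraMap S' B') = algebraMap S' κ from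
      congrArg AlgHom.toRingHom hcomp, Ideal.ker_algebraMap_residueField]⟩
  letI : Module S Y := Module.compHom Y (algebraMap S B)
  haveI : IsScalarTower S B Y := IsScalarTower.of_compHom _ _ _
  haveI : IsScalarTower S B' Y := IsScalarTower.of_algebraMap_smul fun c y => by
    show algebraMap B B' (algebraMap S B c) • y = algebraMap S B c • y
    rw [algebraMap_smul]
  letI : Module S' Y := Module.compHom Y (algebraMap S' B')
  haveI : IsScalarTower S' B' Y := IsScalarTower.of_compHom _ _ _
  haveI : IsScalarTower S S' Y := IsScalarTower.of_algebraMap_smul fun c y => by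
    show algebraMap S' B' (algebraMap S S' c) • y = c • y
    rw [← IsScalarTower.algebraMap_apply, algebraMap_smul]
  let ℓ := LocalizedModule.mkLinearMap q.primeCompl M
  have hℓ : IsBaseChange B ℓ := IsLocalizedModule.isBaseChange q.primeCompl B ℓ
  let i : M' →ₗ[S'] Y := hf.lift (g.restrictScalars S ∘ₗ ℓ)
  have hi : IsBaseChange B' i := IsBaseChange.of_comp hf (by rw [hf.lift_comp]; exact hℓ.comp hg)
  exact (FlatInjLib.flatAt_iff_of_isBaseChange i hi q' Q).1
    (FlatInjLib.flat_of_isLocalizedModule Q.primeCompl (LocalizedModule.mkLinearMap Q.primeCompl Y))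

/-- Let `(R, 𝔪)` be a complete Noetherian local ring, `R → S` with `S` Noetherian, `M` a finite
`S`-module, and `I ⊆ 𝔪` the least ideal with the property that, at each prime `𝔮` of `S` lying above
`𝔪`, the localization `(M/IM)_𝔮` is an `R/I`-flat module. Let `φ : R → R'` be a local homomorphism
to a Noetherian local ring `(R', 𝔪')`, `S' = S ⊗_R R'`, `M' = M ⊗_R R'`. Then `M'_{𝔮'}` is flat over
`R'` for every prime `𝔮'` of `S'` lying over `𝔪'` if and only if `φ(I) = 0`. -/
theorem result {R S R' S' : Type u} [CommRing R] [IsLocalRing R]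
    [IsNoetherianRing R] [IsAdicComplete (IsLocalRing.maximalIdeal R) R] [CommRing S] [IsNoetherianRing S]
    [CommRing R'] [IsLocalRing R'] [IsNoetherianRing R'] [CommRing S']
    [Algebra R S] [Algebra R R'] [IsLocalHom (algebraMap R R')] [Algebra S S'] [Algebra R' S'] [Algebra R S']
    [IsScalarTower R S S'] [IsScalarTower R R' S'] [Algebra.IsPushout R S R' S']
    {M M' : Type u} [AddCommGroup M] [Module S M] [Module R M] [IsScalarTower R S M] [Module.Finite S M]
    [AddCommGroup M'] [Module S' M'] [Module R' M'] [IsScalarTower R' S' M'] [Module S M'] [IsScalarTower S S' M']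
    (f : M →ₗ[S] M') (hf : IsBaseChange S' f) (I : Ideal R) (hIm : I ≤ IsLocalRing.maximalIdeal R)
    (hI : (∀ (q : Ideal S) [q.IsPrime], q.comap (algebraMap R S) = IsLocalRing.maximalIdeal R →
        Module.Flat (R ⧸ I) ((R ⧸ I) ⊗[R] LocalizedModule q.primeCompl M)))
    (hmin : ∀ J : Ideal R, (∀ (q : Ideal S) [q.IsPrime], q.comap (algebraMap R S) = IsLocalRing.maximalIdeal R →
        Module.Flat (R ⧸ J) ((R ⧸ J) ⊗[R] LocalizedModule q.primeCompl M)) → I ≤ J) :
    (∀ (q' : Ideal S') [q'.IsPrime], q'.comap (algebraMap R' S') = IsLocalRing.maximalIdeal R' → FlatCA.FlatAt R' q' M') ↔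
      I ≤ RingHom.ker (algebraMap R R') := by
  classical
  let K := {q : Ideal S // q.IsPrime ∧ q.comap (algebraMap R S) = IsLocalRing.maximalIdeal R}
  haveI : ∀ q : K, q.1.IsPrime := fun q => q.2.1
  let X : K → Type u := fun q => LocalizedModule q.1.primeCompl M
  constructor
  · intro H a ha
    have key : ∀ k, algebraMap R R' a ∈ IsLocalRing.maximalIdeal R' ^ (k + 1) := by
      intro k
      obtain ⟨L, hL0, hLm, hL1, -, hL3⟩ := AInjLib.exists_level (R := R) X k
      have hIL : I ≤ L := hmin L fun q hqp hq => hL1 ⟨q, hqp, hq⟩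
      let J := IsLocalRing.maximalIdeal R' ^ (k + 1)
      have hJ : J ≠ ⊤ := fun h => (IsLocalRing.maximalIdeal.isMaximal R').ne_top
        (top_le_iff.1 (h.ge.trans (Ideal.pow_le_self k.succ_ne_zero)))
      haveI : Nontrivial (R' ⧸ J) := Ideal.Quotient.nontrivial_iff.2 hJ
      haveI : IsLocalRing (R' ⧸ J) := IsLocalRing.of_surjective' (Ideal.Quotient.mk J) Ideal.Quotient.mk_surjective
      haveI : IsLocalHom (Ideal.Quotient.mk J) := IsLocalHom.of_surjective _ Ideal.Quotient.mk_surjective
      haveI : IsLocalHom (algebraMap R (R' ⧸ J)) := RingHom.isLocalHom_comp (Ideal.Quotient.mk J) (algebraMap R R')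
      have hnil : IsLocalRing.maximalIdeal (R' ⧸ J) ^ (k + 1) = ⊥ := by
        have hle : IsLocalRing.maximalIdeal (R' ⧸ J) ≤ (IsLocalRing.maximalIdeal R').map (Ideal.Quotient.mk J) := fun q hq => by
          obtain ⟨a, rfl⟩ := Ideal.Quotient.mk_surjective q
          exact Ideal.mem_map_of_mem _ ((IsLocalRing.mem_maximalIdeal a).2 fun ha => (IsLocalRing.mem_maximalIdeal _).1 hq (ha.map _))
        refine le_bot_iff.1 ((Ideal.pow_right_mono hle (k + 1)).trans ?_)
        rw [← Ideal.map_pow, Ideal.map_quotient_self]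
      have hker : IsLocalRing.maximalIdeal R ^ (k + 1) ≤ RingHom.ker (algebraMap R (R' ⧸ J)) := fun b hb => by
        rw [RingHom.mem_ker, IsScalarTower.algebraMap_apply R R' (R' ⧸ J), Ideal.Quotient.algebraMap_eq,
          Ideal.Quotient.eq_zero_iff_mem]
        have h1 : (IsLocalRing.maximalIdeal R ^ (k + 1)).map (algebraMap R R') ≤ J := by
          rw [Ideal.map_pow]
          exact Ideal.pow_right_mono (Ideal.map_le_iff_le_comap.2 fun c hc => map_nonunit _ _ hc) _
        exact h1 (Ideal.mem_map_of_mem _ hb)
      have h := hL3 (R' ⧸ J) ⟨k + 1, hnil⟩ hker (fun q => AInjLib.flat_quotient_tensor_localized f hf H q.1 J ⟨k + 1, le_rfl⟩) (hIL ha)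
      rw [RingHom.mem_ker, IsScalarTower.algebraMap_apply R R' (R' ⧸ J), Ideal.Quotient.algebraMap_eq,
        Ideal.Quotient.eq_zero_iff_mem] at h
      exact h
    rw [RingHom.mem_ker, ← Submodule.mem_bot R',
      ← Ideal.iInf_pow_eq_bot_of_isLocalRing (IsLocalRing.maximalIdeal R') (IsLocalRing.maximalIdeal.isMaximal R').ne_top,
      Submodule.mem_iInf]
    exact fun k => Ideal.pow_le_pow_right k.le_succ (key k)
  · intro hIk q' _ hq'
    have hq : (q'.comap (algebraMap S S')).comap (algebraMap R S) = IsLocalRing.maximalIdeal R := by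
      rw [Ideal.comap_comap, ← IsScalarTower.algebraMap_eq, IsScalarTower.algebraMap_eq R R' S', ← Ideal.comap_comap, hq']
      exact Ideal.ext fun a => by
        rw [Ideal.mem_comap, IsLocalRing.mem_maximalIdeal, IsLocalRing.mem_maximalIdeal, mem_nonunits_iff, mem_nonunits_iff,
          isUnit_map_iff (algebraMap R R')]
    exact flatAt_of_fq_ker f hf q' (AInjLib.fq_mono hIk (hI _ hq))

end Groth.Agent.S6926
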