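import Groth.Statements.S6927
import Groth.Agent.AInjLib.StalkFQ
import Groth.Agent.HenselLib.Local

set_option autoImplicit false
universe u
open TensorProduct
open FlatMor

namespace Groth.Agent.S6927

/-- Let `(R, 𝔪)` be a complete Noetherian local ring, `R → S` of finite type, `M` a finite `S`-module,
and `I ⊆ 𝔪` the least ideal for which, at every prime `𝔮` of `S` lying over `𝔪`, the localization
`(M/IM)_𝔮` is an `R/I`-flat module. Then for every local homomorphism `φ : R → R'` of local rings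
(`R'` arbitrary), with `S' = S ⊗_R R'` and `M' = M ⊗_R R'`: `M'_{𝔮'}` is flat over `R'` for every
prime `𝔮'` of `S'` over `𝔪'` if and only if `φ(I) = 0`. -/
theorem result {R S R' S' : Type u} [CommRing R] [IsLocalRing R]
    [IsNoetherianRing R] [IsAdicComplete (IsLocalRing.maximalIdeal R) R] [CommRing S]
    [CommRing R'] [IsLocalRing R'] [CommRing S']
    [Algebra R S] [Algebra.FiniteType R S] [Algebra R R'] [IsLocalHom (algebraMap R R')] [Algebra S S'] [Algebra R' S']
    [Algebra R S'] [IsScalarTower R S S'] [IsScalarTower R R' S'] [Algebra.IsPushout R S R' S']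
    {M M' : Type u} [AddCommGroup M] [Module S M] [Module R M] [IsScalarTower R S M] [Module.Finite S M]
    [AddCommGroup M'] [Module S' M'] [Module R' M'] [IsScalarTower R' S' M'] [Module S M'] [IsScalarTower S S' M']
    (f : M →ₗ[S] M') (hf : IsBaseChange S' f) (I : Ideal R) (hIm : I ≤ IsLocalRing.maximalIdeal R)
    (hI : (∀ (q : Ideal S) [q.IsPrime], q.comap (algebraMap R S) = IsLocalRing.maximalIdeal R →
        Module.Flat (R ⧸ I) ((R ⧸ I) ⊗[R] LocalizedModule q.primeCompl M)))
    (hmin : ∀ J : Ideal R, (∀ (q : Ideal S) [q.IsPrime], q.comap (algebraMap R S) = IsLocalRing.maximalIdeal R →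
        Module.Flat (R ⧸ J) ((R ⧸ J) ⊗[R] LocalizedModule q.primeCompl M)) → I ≤ J) :
    (∀ (q' : Ideal S') [q'.IsPrime], q'.comap (algebraMap R' S') = IsLocalRing.maximalIdeal R' → FlatCA.FlatAt R' q' M') ↔
      I ≤ RingHom.ker (algebraMap R R') := by
  classical
  haveI : HenselianLocalRing R := HenselLib.henselianLocalRing_of_henselianRing
  let K := {q : Ideal S // q.IsPrime ∧ q.comap (algebraMap R S) = IsLocalRing.maximalIdeal R}
  have hstalk : ∀ q : K, ∃ Iq : Ideal R,
      (∀ J : Ideal R, J ≠ ⊤ → (haveI := q.2.1; AInjLib.FQ J (LocalizedModule q.1.primeCompl M) ↔ Iq ≤ J)) ∧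
      ((∀ (Q : Ideal S') [Q.IsPrime], Q.comap (algebraMap R' S') = IsLocalRing.maximalIdeal R' →
          Q.comap (algebraMap S S') = q.1 → FlatCA.FlatAt R' Q M') ↔ Iq ≤ RingHom.ker (algebraMap R R')) := by
    rintro ⟨q, hqp, hq⟩
    obtain ⟨Iq, hIq, -⟩ := AInjLib.exists_ideal_stalk (A := R) (C := S) M q hq
    refine ⟨Iq, fun J hJ => AInjLib.fq_iff_le_of_test q hq Iq hIq J hJ, ?_⟩
    have hm : (IsLocalRing.maximalIdeal R').comap (algebraMap R R') = IsLocalRing.maximalIdeal R :=
      (Ideal.ext fun a => by rw [Ideal.mem_comap, IsLocalRing.mem_maximalIdeal, IsLocalRing.mem_maximalIdeal, mem_nonunits_iff, mem_nonunits_iff, isUnit_map_iff (algebraMap R R')])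
    rw [hIq R' (IsLocalRing.maximalIdeal R') hm S' M' f hf, Ideal.map_eq_bot_iff_le_ker]
    refine ⟨fun hle a ha => ?_, fun hle a ha => ?_⟩
    · have h0 : algebraMap R' (Localization.AtPrime (IsLocalRing.maximalIdeal R')) (algebraMap R R' a) = 0 := by
        rw [← IsScalarTower.algebraMap_apply]; exact hle ha
      obtain ⟨⟨s, hs⟩, hs'⟩ := (IsLocalization.map_eq_zero_iff (IsLocalRing.maximalIdeal R').primeCompl _ _).1 h0
      exact (IsLocalRing.notMem_maximalIdeal.1 hs).mul_right_eq_zero.1 hs'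
    · rw [RingHom.mem_ker, IsScalarTower.algebraMap_apply R R' (Localization.AtPrime (IsLocalRing.maximalIdeal R')),
        RingHom.mem_ker.1 (hle ha), map_zero]
  choose J hJfq hJtest using hstalk
  have htop : (IsLocalRing.maximalIdeal R) ≠ ⊤ := (IsLocalRing.maximalIdeal.isMaximal R).ne_top
  have hJI : ∀ q : K, J q ≤ I := fun q =>
    (hJfq q I (fun h => htop (top_le_iff.1 (h ▸ hIm)))).1 (by haveI := q.2.1; exact hI q.1 q.2.2)
  have hIJ : I ≤ ⨆ q : K, J q := hmin _ fun q hq hqm =>
    (hJfq ⟨q, hq, hqm⟩ _ fun h => htop (top_le_iff.1 (h ▸ (iSup_le fun k => (hJI k).trans hIm)))).2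
      (le_iSup J ⟨q, hq, hqm⟩)
  constructor
  · intro H
    exact hIJ.trans (iSup_le fun q => (hJtest q).1 fun Q _ hQ _ => H Q hQ)
  · intro hIk q' _ hq'
    have hq : (q'.comap (algebraMap S S')).comap (algebraMap R S) = IsLocalRing.maximalIdeal R := by
      rw [Ideal.comap_comap, ← IsScalarTower.algebraMap_eq, IsScalarTower.algebraMap_eq R R' S', ← Ideal.comap_comap, hq']
      exact (Ideal.ext fun a => by rw [Ideal.mem_comap, IsLocalRing.mem_maximalIdeal, IsLocalRing.mem_maximalIdeal, mem_nonunits_iff, mem_nonunits_iff, isUnit_map_iff (algebraMap R R')])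
    exact (hJtest ⟨q'.comap (algebraMap S S'), inferInstance, hq⟩).2 ((hJI _).trans hIk) q' hq' rfl

end Groth.Agent.S6927
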