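import Groth.Statements.S6929
import Groth.Agent.FibProdLib.Basic
-- import your own Groth.Agent.* helpers here

set_option autoImplicit false
universe u
open EtAlg

namespace Groth.Agent.S6929

/-- Let `R` be a Noetherian ring, `ι` a finite index type, and `φ_i : A_i → B_i`, `ψ_i : Q → B_i`
surjective `R`-algebra maps, where `Q` and all `A_i`, `B_i` are `R`-algebras of finite type. Then
the fibre product ring `P = Q ×_{∏ B_i} ∏ A_i` (pairs `(q, a)` with `ψ_i(q) = φ_i(a_i)` for all `i`)
is an `R`-algebra of finite type. -/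
theorem result (R : Type u) [CommRing R] [IsNoetherianRing R] {ι : Type u} [Fintype ι]
    (Q : Type u) [CommRing Q] [Algebra R Q] [Algebra.FiniteType R Q] (A B : ι → Type u) [∀ i, CommRing (A i)]
    [∀ i, CommRing (B i)] [∀ i, Algebra R (A i)] [∀ i, Algebra R (B i)] (hA : ∀ i, Algebra.FiniteType R (A i))
    (hB : ∀ i, Algebra.FiniteType R (B i)) (φ : ∀ i, A i →ₐ[R] B i) (ψ : ∀ i, Q →ₐ[R] B i)
    (hφ : ∀ i, Function.Surjective (φ i)) (hψ : ∀ i, Function.Surjective (ψ i)) :
    Algebra.FiniteType R ↥(AlgHom.equalizer ((AlgHom.pi ψ).comp (AlgHom.fst R Q (∀ i, A i)))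
      ((AlgHom.pi fun i => (φ i).comp (Pi.evalAlgHom R A i)).comp (AlgHom.snd R Q (∀ i, A i)))) := by
  classical
  haveI := hA
  choose lq hlq using hψ
  choose la hla using hφ
  let P := AlgHom.equalizer ((AlgHom.pi ψ).comp (AlgHom.fst R Q (∀ i, A i)))
      ((AlgHom.pi fun i => (φ i).comp (Pi.evalAlgHom R A i)).comp (AlgHom.snd R Q (∀ i, A i)))
  haveI : Algebra.FiniteType R (∀ i, A i) := by
    choose S hS using fun i => (hA i).out
    let G : Finset (∀ i, A i) := Finset.univ.biUnion fun i => insert (Pi.single i 1) ((S i).image (Pi.single i))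
    refine ⟨⟨G, eq_top_iff.2 fun x _ => ?_⟩⟩
    rw [← Finset.univ_sum_single x]
    refine Subalgebra.sum_mem _ fun i _ => ?_
    have hm : x i ∈ Algebra.adjoin R (S i : Set (A i)) := by rw [hS i]; trivial
    have h1 : Pi.single i (1 : A i) ∈ Algebra.adjoin R (G : Set (∀ i, A i)) :=
      Algebra.subset_adjoin (by simp only [G, Finset.mem_coe, Finset.mem_biUnion]; exact ⟨i, Finset.mem_univ i, Finset.mem_insert_self _ _⟩)
    generalize x i = y at hm ⊢
    induction hm using Algebra.adjoin_induction with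
    | mem a ha => exact Algebra.subset_adjoin (by simp only [G, Finset.mem_coe, Finset.mem_biUnion]; exact ⟨i, Finset.mem_univ i, Finset.mem_insert_of_mem (Finset.mem_image_of_mem _ ha)⟩)
    | algebraMap r =>
      have he : (Pi.single i (algebraMap R (A i) r) : ∀ i, A i) = r • Pi.single i (1 : A i) := by
        rw [← Pi.single_smul, Algebra.smul_def, mul_one]
      rw [he]
      exact Subalgebra.smul_mem _ h1 r
    | add a b _ _ ha hb => rw [Pi.single_add]; exact Subalgebra.add_mem _ ha hb
    | mul a b _ _ ha hb => rw [Pi.single_mul]; exact Subalgebra.mul_mem _ ha hb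
  refine Groth.Agent.FibProdLib.finiteType_subalgebra P ⟨⟨insert ((1 : Q), (0 : ∀ i, A i))
    (Finset.univ.image fun i => ((0 : Q), Pi.single i (1 : A i))), eq_top_iff.2 fun x _ => ?_⟩⟩
  have hp : ∀ q (a : ∀ i, A i), (∀ i, ψ i q = φ i (a i)) → (q, a) ∈ P := fun q a h => funext h
  let pq : P := ⟨(x.1, fun i => la i (ψ i x.1)), hp _ _ fun i => (hla i _).symm⟩
  let pa : ι → P := fun i =>
    ⟨(lq i (φ i (x.2 i)), Function.update (fun j => la j (ψ j (lq i (φ i (x.2 i))))) i (x.2 i)), hp _ _ fun j => by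
      rcases eq_or_ne j i with rfl | h
      · rw [Function.update_self, hlq]
      · rw [Function.update_of_ne h, hla]⟩
  have hx : x = pq • ((1 : Q), (0 : ∀ i, A i)) + ∑ i, pa i • ((0 : Q), Pi.single i (1 : A i)) := by
    refine Prod.ext ?_ (funext fun j => ?_)
    · simp [Subalgebra.smul_def, pq, Prod.fst_sum]
    · simp only [Subalgebra.smul_def, smul_eq_mul, Prod.snd_add, Prod.snd_sum, Prod.snd_mul, Pi.add_apply,
        Finset.sum_apply, Pi.mul_apply, Pi.zero_apply, mul_zero, zero_add]
      rw [Finset.sum_eq_single j (fun i _ h => by simp [Pi.single_eq_of_ne h.symm]) (fun h => absurd (Finset.mem_univ j) h)]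
      simp [pa]
  rw [hx]
  refine Submodule.add_mem _ (Submodule.smul_mem _ _ (Submodule.subset_span (by simp)))
    (Submodule.sum_mem _ fun i _ => Submodule.smul_mem _ _ (Submodule.subset_span (Finset.mem_coe.2
      (Finset.mem_insert_of_mem (Finset.mem_image_of_mem _ (Finset.mem_univ i))))))

end Groth.Agent.S6929
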