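import Groth.Statements.S6930
import Groth.Agent.BlowFlatLib.Core
import Groth.Prelude.Def_BlowUp2

set_option autoImplicit false
universe u
open TensorProduct
open FlatMor

set_option linter.style.haveILetI false

attribute [local instance] MvPolynomial.algebraMvPolynomial

namespace Groth.Agent.S6930

set_option maxHeartbeats 1600000 in
set_option synthInstance.maxHeartbeats 100000 in

/-- Let `(R, 𝔪)` be a local domain whose maximal ideal is nonzero, with fraction field `K`; let `S` be
an `R`-algebra of finite type, `M` a finite `S`-module and `A ⊆ K` a valuation ring dominating `R`.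
Then one can find a finitely generated ideal `I ⊆ 𝔪` and a nonzero `a ∈ I` with the following
properties, where `R₁ = R[I/a]` denotes the affine blow-up algebra (taken up to `R`-algebra
isomorphism): every `x/a` with `x ∈ I` lies in `A`, so that `R₁ ⊆ A` inside `K`; the ring `R₁/𝔪R₁`
is nonzero; the strict transform of `S` (the quotient of `R₁ ⊗_R S` by its `a`-power torsion) is
flat over `R₁` and is a finitely presented `R₁`-algebra; and the strict transform of `M` (the
quotient of `R₁ ⊗_R M` by its `a`-power torsion) is flat over `R₁`. (The published statement asks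
for these strict transforms to be flat, and the first to be finitely presented, over `R` itself;
that fails for every choice of `(I, a)` already when `R = k[x, y]` localized at `(x, y)` and `S =
R[y/x]`, and the published proof, which passes to the limit over the rings `R[I/a]`, yields flatness
and finite presentation over `R[I/a]`, which is what is stated here. The published statement also
allows `𝔪 = 0`, i.e. `R` a field; then all hypotheses hold with `A = K` while no nonzero `a ∈ 𝔪`
exists, so the hypothesis `𝔪 ≠ 0` is added. Finally, the published statement also asserts that the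
strict transform of `M` is finitely presented over the strict transform of `S`; that clause is not
included.) -/
theorem result (R K : Type u) [CommRing R] [IsDomain R] [IsLocalRing R] [Field K]
    [Algebra R K] [IsFractionRing R K] (S : Type u) [CommRing S] [Algebra R S] [Algebra.FiniteType R S] (M : Type u)
    [AddCommGroup M] [Module S M] [Module R M] [IsScalarTower R S M] [Module.Finite S M]
    (A : Type u) [CommRing A] [IsDomain A] [ValuationRing A] [Algebra A K] [IsFractionRing A K] [Algebra R A]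
    [IsScalarTower R A K] [IsLocalHom (algebraMap R A)] (hm : IsLocalRing.maximalIdeal R ≠ ⊥) :
    ∃ (I : Ideal R) (a : R), I.FG ∧ I ≤ IsLocalRing.maximalIdeal R ∧ a ∈ I ∧ a ≠ 0 ∧
      (∀ x ∈ I, ∃ y : A, algebraMap A K y * algebraMap R K a = algebraMap R K x) ∧
      ∀ (R₁ : Type u) [CommRing R₁] [Algebra R R₁] (e : R₁ ≃ₐ[R] ↥(BlowUp.affineAlgebra R I a)),
        (IsLocalRing.maximalIdeal R).map (algebraMap R R₁) ≠ ⊤ ∧
        Module.Flat R₁ ((R₁ ⊗[R] S) ⧸ FlatCA.powTorsion (R₁ ⊗[R] S) (algebraMap R (R₁ ⊗[R] S) a) (R₁ ⊗[R] S)) ∧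
        Algebra.FinitePresentation R₁
          ((R₁ ⊗[R] S) ⧸ FlatCA.powTorsion (R₁ ⊗[R] S) (algebraMap R (R₁ ⊗[R] S) a) (R₁ ⊗[R] S)) ∧
        Module.Flat R₁ ((R₁ ⊗[R] M) ⧸ FlatCA.powTorsion R₁ (algebraMap R R₁ a) (R₁ ⊗[R] M)) := by
  classical
  -- a presentation
  obtain ⟨σ, hσ, π, hπ⟩ := Algebra.FiniteType.iff_quotient_mvPolynomial'.mp (inferInstance : Algebra.FiniteType R S)
  letI : Algebra (MvPolynomial σ R) S := π.toRingHom.toAlgebra
  haveI : IsScalarTower R (MvPolynomial σ R) S := IsScalarTower.of_algebraMap_eq fun r => (π.commutes r).symm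
  letI : Module (MvPolynomial σ R) M := Module.compHom M π.toRingHom
  haveI : IsScalarTower (MvPolynomial σ R) S M := IsScalarTower.of_algebraMap_smul fun _ _ => rfl
  haveI : IsScalarTower R (MvPolynomial σ R) M := IsScalarTower.of_algebraMap_smul fun r x => by
    show π (algebraMap R (MvPolynomial σ R) r) • x = r • x
    rw [π.commutes, algebraMap_smul]
  haveI : Module.Finite (MvPolynomial σ R) S := Module.Finite.of_surjective (Algebra.linearMap (MvPolynomial σ R) S) hπ
  haveI : Module.Finite (MvPolynomial σ R) M := Module.Finite.trans S M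
  have hAK : Function.Injective (algebraMap A K) := IsFractionRing.injective A K
  have hRK : Function.Injective (algebraMap R K) := IsFractionRing.injective R K
  have hinj : Function.Injective (algebraMap R A) := fun x y h => hRK (by
    rw [IsScalarTower.algebraMap_apply R A K, h, ← IsScalarTower.algebraMap_apply])
  have hfr : ∀ c : A, ∃ n d : R, d ≠ 0 ∧ algebraMap A K c * algebraMap R K d = algebraMap R K n := fun c => by
    obtain ⟨⟨n, d, hd⟩, h⟩ := IsLocalization.surj (nonZeroDivisors R) (algebraMap A K c)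
    exact ⟨n, d, nonZeroDivisors.ne_zero hd, h⟩
  have hfrac : ∀ c : A, c ≠ 0 → ∃ p : R, p ≠ 0 ∧ ∃ q : A, q * c = algebraMap R A p := fun c hc => by
    obtain ⟨n, d, hd, h⟩ := hfr c
    refine ⟨n, fun hn => ?_, algebraMap R A d, hAK ?_⟩
    · rw [hn, map_zero, mul_eq_zero] at h
      exact h.elim (fun h0 => hc (hAK (h0.trans (map_zero _).symm))) ((map_ne_zero_iff _ hRK).2 hd)
    · rw [map_mul, ← IsScalarTower.algebraMap_apply, ← IsScalarTower.algebraMap_apply, mul_comm, h]
  obtain ⟨B₁, hB₁, r₁, hr₁, hS⟩ := BlowFlatLib.exists_flat_stage (σ := σ) (M := S) hfrac hinj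
  obtain ⟨B₂, hB₂, r₂, hr₂, hM⟩ := BlowFlatLib.exists_flat_stage (σ := σ) (M := M) hfrac hinj
  obtain ⟨F, hF⟩ := Subalgebra.FG.sup hB₁ hB₂
  obtain ⟨m₀, hm₀, hm₀0⟩ := (Submodule.ne_bot_iff _).1 hm
  choose nx dx hdx hnx using fun x : F => hfr x
  let a : R := m₀ * (r₁ * r₂) * ∏ x : F, dx x
  have ha0 : a ≠ 0 := mul_ne_zero (mul_ne_zero hm₀0 (mul_ne_zero hr₁ hr₂)) (Finset.prod_ne_zero_iff.2 fun x _ => hdx x)
  let c : F → R := fun x => m₀ * (r₁ * r₂) * (∏ y ∈ Finset.univ.erase x, dx y) * nx x
  have hc : ∀ x : F, algebraMap A K x * algebraMap R K a = algebraMap R K (c x) := fun x => by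
    have e : a = m₀ * (r₁ * r₂) * (∏ y ∈ Finset.univ.erase x, dx y) * dx x := by
      show m₀ * (r₁ * r₂) * _ = _
      rw [← Finset.prod_erase_mul _ dx (Finset.mem_univ x)]
      ring
    rw [e, map_mul, map_mul (algebraMap R K) _ (nx x), ← hnx x]
    ring
  let I : Ideal R := Ideal.span ((insert a (Finset.univ.image c) : Finset R) : Set R)
  have hIm : I ≤ IsLocalRing.maximalIdeal R := Ideal.span_le.2 fun z hz => by
    rcases Finset.mem_insert.1 hz with rfl | hz
    · exact Ideal.mul_mem_right _ _ (Ideal.mul_mem_right _ _ hm₀)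
    · obtain ⟨x, -, rfl⟩ := Finset.mem_image.1 hz
      exact Ideal.mul_mem_right _ _ (Ideal.mul_mem_right _ _ (Ideal.mul_mem_right _ _ hm₀))
  have hIA : ∀ x ∈ I, ∃ y : A, algebraMap A K y * algebraMap R K a = algebraMap R K x := by
    intro x hx
    induction hx using Submodule.span_induction with
    | mem z hz =>
      rcases Finset.mem_insert.1 hz with rfl | hz
      · exact ⟨1, by rw [map_one, one_mul]⟩
      · obtain ⟨x, -, rfl⟩ := Finset.mem_image.1 hz
        exact ⟨x, hc x⟩
    | zero => exact ⟨0, by rw [map_zero, map_zero, zero_mul]⟩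
    | add p q _ _ hp hq =>
      obtain ⟨y, hy⟩ := hp
      obtain ⟨y', hy'⟩ := hq
      exact ⟨y + y', by rw [map_add, map_add, add_mul, hy, hy']⟩
    | smul t p _ hp =>
      obtain ⟨y, hy⟩ := hp
      exact ⟨algebraMap R A t * y, by rw [map_mul, mul_assoc, hy, smul_eq_mul, map_mul, ← IsScalarTower.algebraMap_apply]⟩
  refine ⟨I, a, Submodule.fg_span (Finset.finite_toSet _), hIm, Ideal.subset_span (Finset.mem_insert_self _ _), ha0, hIA, ?_⟩
  -- the blow up algebra inside `A`
  have hu : ∀ y : Submonoid.powers a, IsUnit (Algebra.ofId R K (y : R)) := by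
    rintro ⟨_, k, rfl⟩
    exact IsUnit.mk0 _ ((map_ne_zero_iff _ hRK).2 (pow_ne_zero k ha0))
  let η : Localization.Away a →ₐ[R] K := IsLocalization.liftAlgHom (M := Submonoid.powers a) hu
  have hη : Function.Injective η := by
    refine (injective_iff_map_eq_zero η).2 fun z hz => ?_
    obtain ⟨⟨x, t⟩, hxt⟩ := IsLocalization.surj (Submonoid.powers a) z
    have h1 := congrArg η hxt
    rw [map_mul, hz, zero_mul, η.commutes] at h1
    rw [(map_eq_zero_iff _ hRK).1 h1.symm, map_zero] at hxt
    exact (IsLocalization.map_units (Localization.Away a) t).mul_left_eq_zero.1 hxt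
  have hgen : ∀ x ∈ I, ∀ y : A, algebraMap A K y * algebraMap R K a = algebraMap R K x →
      η (IsLocalization.mk' (Localization.Away a) x ⟨a, Submonoid.mem_powers a⟩) = algebraMap A K y := by
    intro x _ y hy
    have h1 := congrArg η (IsLocalization.mk'_spec (Localization.Away a) x ⟨a, Submonoid.mem_powers a⟩)
    rw [map_mul, η.commutes, η.commutes, ← hy] at h1
    exact mul_right_cancel₀ ((map_ne_zero_iff _ hRK).2 ha0) h1
  have hrange : ∀ z ∈ BlowUp.affineAlgebra R I a, η z ∈ (IsScalarTower.toAlgHom R A K).range := by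
    show BlowUp.affineAlgebra R I a ≤ (IsScalarTower.toAlgHom R A K).range.comap η
    refine Algebra.adjoin_le ?_
    rintro _ ⟨x, hx, rfl⟩
    obtain ⟨y, hy⟩ := hIA x hx
    exact ⟨y, (hgen x hx y hy).symm⟩
  intro R₁ _ _ e
  let toA : ↥(BlowUp.affineAlgebra R I a) →ₐ[R] A :=
    ((AlgEquiv.ofInjective (IsScalarTower.toAlgHom R A K) hAK).symm.toAlgHom).comp
      ((η.comp (BlowUp.affineAlgebra R I a).val).codRestrict (IsScalarTower.toAlgHom R A K).range fun z => hrange z.1 z.2)
  have htoA : ∀ z, algebraMap A K (toA z) = η z.1 := fun z =>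
    congrArg Subtype.val ((AlgEquiv.ofInjective (IsScalarTower.toAlgHom R A K) hAK).apply_symm_apply
      ⟨η z.1, hrange z.1 z.2⟩)
  let j : R₁ →ₐ[R] A := toA.comp e.toAlgHom
  have hj : Function.Injective j := fun x y h => e.injective (Subtype.ext (hη (by
    rw [← htoA, ← htoA]; exact congrArg (algebraMap A K) h)))
  have hBj : B₁ ⊔ B₂ ≤ j.range := by
    rw [← hF, Algebra.adjoin_le_iff]
    intro x hx
    have hxI : c ⟨x, hx⟩ ∈ I :=
      Ideal.subset_span (Finset.mem_insert_of_mem (Finset.mem_image_of_mem c (Finset.mem_univ _)))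
    let z : ↥(BlowUp.affineAlgebra R I a) := ⟨_, Algebra.subset_adjoin ⟨c ⟨x, hx⟩, hxI, rfl⟩⟩
    refine ⟨e.symm z, hAK ?_⟩
    show algebraMap A K (toA (e (e.symm z))) = _
    rw [e.apply_symm_apply, htoA]
    exact hgen _ hxI x (hc ⟨x, hx⟩)
  refine ⟨fun htop => ?_, ?_⟩
  · have hle : (IsLocalRing.maximalIdeal R).map (algebraMap R R₁) ≤ (IsLocalRing.maximalIdeal A).comap j.toRingHom := by
      refine Ideal.map_le_iff_le_comap.2 fun x hx => ?_
      show j (algebraMap R R₁ x) ∈ IsLocalRing.maximalIdeal A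
      rw [j.commutes, IsLocalRing.mem_maximalIdeal]
      exact fun hu => hx (isUnit_of_map_unit (algebraMap R A) x hu)
    rw [htop] at hle
    have h1 := hle (Submodule.mem_top (x := (1 : R₁)))
    rw [Ideal.mem_comap, map_one] at h1
    exact (IsLocalRing.maximalIdeal.isMaximal A).ne_top ((Ideal.eq_top_iff_one _).2 h1)
  obtain ⟨hSflat, hSfp⟩ := hS R₁ j hj (le_sup_left.trans hBj) a
    (Dvd.dvd.mul_right (Dvd.dvd.mul_left (dvd_mul_right r₁ r₂) m₀) _) ha0
  obtain ⟨hMflat, -⟩ := hM R₁ j hj (le_sup_right.trans hBj) a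
    (Dvd.dvd.mul_right (Dvd.dvd.mul_left (dvd_mul_left r₂ r₁) m₀) _) ha0
  -- the algebra
  obtain ⟨ε, hε, hεP⟩ : ∃ ε : MvPolynomial σ R₁ →ₐ[R₁] R₁ ⊗[R] S,
      (∀ p : MvPolynomial σ R, ε (algebraMap (MvPolynomial σ R) (MvPolynomial σ R₁) p) = (1 : R₁) ⊗ₜ π p) ∧
      Function.Surjective ε := by
    refine ⟨MvPolynomial.aeval fun s => (1 : R₁) ⊗ₜ π (MvPolynomial.X s), ?_, ?_⟩
    · intro p
      have : ((MvPolynomial.aeval fun s => (1 : R₁) ⊗ₜ[R] π (MvPolynomial.X s)).toRingHom.comp
          (algebraMap (MvPolynomial σ R) (MvPolynomial σ R₁))) =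
          ((Algebra.TensorProduct.includeRight : S →ₐ[R] R₁ ⊗[R] S).comp π).toRingHom := by
        refine MvPolynomial.ringHom_ext (fun r => ?_) fun s => ?_
        · show MvPolynomial.aeval _ (MvPolynomial.map (algebraMap R R₁) (MvPolynomial.C r)) = (1 : R₁) ⊗ₜ π (MvPolynomial.C r)
          rw [MvPolynomial.map_C, MvPolynomial.aeval_C, ← MvPolynomial.algebraMap_eq, π.commutes,
            ← IsScalarTower.algebraMap_apply]
          exact ((Algebra.TensorProduct.includeRight : S →ₐ[R] R₁ ⊗[R] S).commutes r).symm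
        · show MvPolynomial.aeval _ (MvPolynomial.map (algebraMap R R₁) (MvPolynomial.X s)) = (1 : R₁) ⊗ₜ π (MvPolynomial.X s)
          rw [MvPolynomial.map_X, MvPolynomial.aeval_X]
      exact RingHom.congr_fun this p
    · intro z
      induction z using TensorProduct.induction_on with
      | zero => exact ⟨0, map_zero _⟩
      | add x y hx hy =>
        obtain ⟨p, rfl⟩ := hx
        obtain ⟨q, rfl⟩ := hy
        exact ⟨p + q, map_add _ _ _⟩
      | tmul x y =>
        obtain ⟨p, rfl⟩ := hπ y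
        refine ⟨algebraMap R₁ _ x * MvPolynomial.map (algebraMap R R₁) p, ?_⟩
        rw [map_mul, AlgHom.commutes]
        show _ * MvPolynomial.aeval _ (MvPolynomial.map (algebraMap R R₁) p) = _
        rw [MvPolynomial.aeval_map_algebraMap]
        have : (MvPolynomial.aeval fun s => (1 : R₁) ⊗ₜ[R] π (MvPolynomial.X s)) =
            (Algebra.TensorProduct.includeRight : S →ₐ[R] R₁ ⊗[R] S).comp π := MvPolynomial.algHom_ext fun s => by simp
        rw [this, AlgHom.comp_apply, Algebra.TensorProduct.includeRight_apply, Algebra.TensorProduct.algebraMap_apply,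
          Algebra.TensorProduct.tmul_mul_tmul, one_mul, mul_one]
        rfl
  let B' := R₁ ⊗[R] S
  let Q := B' ⧸ FlatCA.powTorsion B' (algebraMap R B' a) B'
  letI : Algebra (MvPolynomial σ R₁) B' := ε.toRingHom.toAlgebra
  haveI : IsScalarTower R₁ (MvPolynomial σ R₁) B' := IsScalarTower.of_algebraMap_eq fun x => (ε.commutes x).symm
  obtain ⟨eS, heS⟩ : ∃ eS : FlatLib.BC σ R S R₁ ≃ₗ[MvPolynomial σ R₁] B', ∀ s, eS ((1 : MvPolynomial σ R₁) ⊗ₜ s) = 1 ⊗ₜ s := by
    let e₀ : FlatLib.BC σ R S R₁ ≃ₗ[R₁] B' := (FlatLib.isBaseChange_inc σ R S R₁).equiv.symm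
    have he₀ : ∀ s, e₀ ((1 : MvPolynomial σ R₁) ⊗ₜ s) = (1 : R₁) ⊗ₜ[R] s := fun s => by
      rw [LinearEquiv.symm_apply_eq, IsBaseChange.equiv_tmul, one_smul]
      rfl
    have hgen : ∀ (q : MvPolynomial σ R₁) (s : S), e₀ (q ⊗ₜ s) = ε q * ((1 : R₁) ⊗ₜ[R] s) := by
      intro q s
      induction q using MvPolynomial.induction_on generalizing s with
      | C x =>
        rw [show (MvPolynomial.C x) ⊗ₜ[MvPolynomial σ R] s = x • ((1 : MvPolynomial σ R₁) ⊗ₜ[MvPolynomial σ R] s) by
          rw [TensorProduct.smul_tmul', Algebra.smul_def, mul_one, MvPolynomial.algebraMap_eq], map_smul, he₀,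
          ← MvPolynomial.algebraMap_eq, ε.commutes, Algebra.smul_def]
      | add p q hp hq => rw [TensorProduct.add_tmul, map_add, hp, hq, map_add, add_mul]
      | mul_X p i hp =>
        have eX : (MvPolynomial.X i : MvPolynomial σ R₁) =
            algebraMap (MvPolynomial σ R) (MvPolynomial σ R₁) (MvPolynomial.X i) := (MvPolynomial.map_X _ i).symm
        rw [eX, mul_comm, ← Algebra.smul_def, TensorProduct.smul_tmul, hp, Algebra.smul_def, Algebra.smul_def, map_mul, hε,
          mul_comm (1 ⊗ₜ[R] π _), mul_assoc, Algebra.TensorProduct.tmul_mul_tmul, one_mul]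
        rfl
    let eP : FlatLib.BC σ R S R₁ ≃ₗ[MvPolynomial σ R₁] B' :=
      { e₀.toAddEquiv with
        map_smul' := fun q z => by
          show e₀ (q • z) = ε q * e₀ z
          induction z using TensorProduct.induction_on with
          | zero => rw [smul_zero, map_zero, mul_zero]
          | add x y hx hy => rw [smul_add, map_add, hx, hy, map_add, mul_add]
          | tmul p s => rw [TensorProduct.smul_tmul', smul_eq_mul, hgen, hgen, map_mul, mul_assoc] }
    exact ⟨eP, he₀⟩
  have hpow : ∀ {C : Type u} [CommRing C] [Algebra R₁ C] {X : Type u} [AddCommGroup X] [Module C X] [Module R₁ X]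
      [IsScalarTower R₁ C X] (x : X) (t : R₁),
      x ∈ FlatCA.powTorsion C (algebraMap R₁ C t) X ↔ x ∈ FlatCA.powTorsion R₁ t X := by
    intro C _ _ X _ _ _ _ x t
    simp only [Groth.Agent.FittPrincipalLib.mem_powTorsion, ← map_pow, algebraMap_smul]
  have htr : ∀ {C : Type u} [CommRing C] {X Y : Type u} [AddCommGroup X] [Module C X] [AddCommGroup Y] [Module C Y]
      (f : X ≃ₗ[C] Y) (t : C), (FlatCA.powTorsion C t X).map f.toLinearMap = FlatCA.powTorsion C t Y := by
    intro C _ X Y _ _ _ _ f t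
    ext y
    constructor
    · rintro ⟨x, hx, rfl⟩
      obtain ⟨k, hk⟩ := Groth.Agent.FittPrincipalLib.mem_powTorsion.1 hx
      exact Groth.Agent.FittPrincipalLib.mem_powTorsion.2 ⟨k, by
        show t ^ k • f x = 0
        rw [← map_smul, hk, map_zero]⟩
    · intro hy
      obtain ⟨k, hk⟩ := Groth.Agent.FittPrincipalLib.mem_powTorsion.1 hy
      exact ⟨f.symm y, Groth.Agent.FittPrincipalLib.mem_powTorsion.2 ⟨k, by rw [← map_smul, hk, map_zero]⟩,
        f.apply_symm_apply y⟩
  have hPB : (FlatCA.powTorsion B' (algebraMap R B' a) B').restrictScalars (MvPolynomial σ R₁) =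
      FlatCA.powTorsion (MvPolynomial σ R₁) (MvPolynomial.C (algebraMap R R₁ a)) B' := by
    ext x
    rw [Submodule.restrictScalars_mem, IsScalarTower.algebraMap_apply R R₁ B', hpow,
      ← MvPolynomial.algebraMap_eq, hpow]
  let eQ : (FlatLib.BC σ R S R₁ ⧸ FlatCA.powTorsion (MvPolynomial σ R₁) (MvPolynomial.C (algebraMap R R₁ a))
      (FlatLib.BC σ R S R₁)) ≃ₗ[MvPolynomial σ R₁] Q :=
    Submodule.Quotient.equiv _ _ eS ((htr eS _).trans hPB.symm) ≪≫ₗ Submodule.Quotient.restrictScalarsEquiv _ _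
  refine ⟨Module.Flat.of_linearEquiv (eQ.restrictScalars R₁).symm, ?_, ?_⟩
  · haveI : Module.FinitePresentation (MvPolynomial σ R₁) Q := Module.FinitePresentation.of_equiv eQ
    let f : MvPolynomial σ R₁ →ₐ[R₁] Q := IsScalarTower.toAlgHom R₁ (MvPolynomial σ R₁) Q
    have hf : Function.Surjective f := fun z => by
      obtain ⟨b, rfl⟩ := Ideal.Quotient.mk_surjective z
      obtain ⟨p, rfl⟩ := hεP b
      exact ⟨p, rfl⟩
    exact Algebra.FinitePresentation.of_surjective hf
      (Module.FinitePresentation.fg_ker (Algebra.linearMap (MvPolynomial σ R₁) Q) hf)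
  · let eM : FlatLib.BC σ R M R₁ ≃ₗ[R₁] R₁ ⊗[R] M := (FlatLib.isBaseChange_inc σ R M R₁).equiv.symm
    have hres : (FlatCA.powTorsion (MvPolynomial σ R₁) (MvPolynomial.C (algebraMap R R₁ a)) (FlatLib.BC σ R M R₁)).restrictScalars R₁ =
        FlatCA.powTorsion R₁ (algebraMap R R₁ a) (FlatLib.BC σ R M R₁) := by
      ext x
      rw [Submodule.restrictScalars_mem, ← MvPolynomial.algebraMap_eq, hpow]
    let eMQ : (FlatLib.BC σ R M R₁ ⧸ FlatCA.powTorsion (MvPolynomial σ R₁) (MvPolynomial.C (algebraMap R R₁ a))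
        (FlatLib.BC σ R M R₁)) ≃ₗ[R₁] ((R₁ ⊗[R] M) ⧸ FlatCA.powTorsion R₁ (algebraMap R R₁ a) (R₁ ⊗[R] M)) :=
      (Submodule.Quotient.restrictScalarsEquiv R₁ _).symm ≪≫ₗ
        Submodule.Quotient.equiv _ _ eM ((congrArg (Submodule.map eM.toLinearMap) hres).trans (htr eM _))
    exact Module.Flat.of_linearEquiv eMQ.symm

end Groth.Agent.S6930
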