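import Groth.Statements.S6931
import Mathlib.LinearAlgebra.Basis.VectorSpace
import Mathlib.RingTheory.Localization.FractionRing
import Mathlib.RingTheory.Localization.BaseChange
import Mathlib.LinearAlgebra.Dimension.Constructions
import Mathlib.LinearAlgebra.Dimension.Localization


-- import your own Groth.Agent.* helpers here

set_option autoImplicit false
universe u
open TensorProduct
open CAlg

namespace Groth.Agent.S6931

/-- For an injective map of domains `R → R'` and any `R`-module `M`, the rank of `R' ⊗_R M` over `R'`
equals the rank of `M` over `R` (rank over a domain = dimension over the fraction field after base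
change). -/
theorem result (R R' : Type u) [CommRing R] [IsDomain R] [CommRing R'] [IsDomain R']
    [Algebra R R'] (h : Function.Injective (algebraMap R R')) (M : Type u) [AddCommGroup M] [Module R M] :
    Module.rank R' (R' ⊗[R] M) = Module.rank R M := by
  classical
  let K := FractionRing R
  let K' := FractionRing R'
  have : FaithfulSMul R R' := (faithfulSMul_iff_algebraMap_injective _ _).2 h
  have hK : ∀ (A : Type u) [CommRing A] [IsDomain A] (N : Type u) [AddCommGroup N] [Module A N],
      Module.rank (FractionRing A) (FractionRing A ⊗[A] N) = Module.rank A N := fun A _ _ N _ _ => by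
    rw [IsLocalization.rank_eq (FractionRing A) (nonZeroDivisors A) le_rfl,
      IsLocalizedModule.rank_eq (nonZeroDivisors A) le_rfl (TensorProduct.mk A (FractionRing A) N 1)]
  rw [← hK R M, ← hK R' (R' ⊗[R] M)]
  let e₁ : K' ⊗[R'] (R' ⊗[R] M) ≃ₗ[K'] K' ⊗[R] M := TensorProduct.AlgebraTensorModule.cancelBaseChange R R' K' K' M
  let : Algebra K K' := (IsFractionRing.lift (K := K) (g := algebraMap R K') (FaithfulSMul.algebraMap_injective R K')).toAlgebra
  have : IsScalarTower R K K' := IsScalarTower.of_algebraMap_eq fun x => (IsFractionRing.lift_algebraMap _ x).symm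
  let e₂ : K' ⊗[K] (K ⊗[R] M) ≃ₗ[K'] K' ⊗[R] M := TensorProduct.AlgebraTensorModule.cancelBaseChange R K K' K' M
  rw [(e₁.trans e₂.symm).rank_eq, Module.rank_baseChange, Cardinal.lift_id]

end Groth.Agent.S6931
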