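import Groth.Statements.S6933
import Groth.Agent.InjHullLib.Noetherian
-- import your own Groth.Agent.* helpers here

set_option autoImplicit false
universe u
open CategoryTheory
open InjHull

namespace Groth.Agent.S6933

/-- An abelian group `J` that is injective as an object of the category of abelian groups is divisible:
`n J = J` for every nonzero integer `n`. (The published statement is an equivalence; this row states
the implication from injective to divisible.) -/
theorem result (J : Type u) [AddCommGroup J] (hJ : Injective (AddCommGrpCat.of J))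
    (n : ℤ) (hn : n ≠ 0) (x : J) : ∃ y : J, n • y = x := by
  obtain ⟨φ, hφ⟩ : ∃ φ : AddCommGrpCat.of (ULift.{u} ℤ) ⟶ AddCommGrpCat.of J, φ ⟨1⟩ = x :=
    ⟨AddCommGrpCat.ofHom ((zmultiplesHom J x).comp (AddEquiv.ulift : ULift.{u} ℤ ≃+ ℤ).toAddMonoidHom), show (1 : ℤ) • x = x from one_zsmul x⟩
  let m : AddCommGrpCat.of (ULift.{u} ℤ) ⟶ AddCommGrpCat.of (ULift.{u} ℤ) :=
    AddCommGrpCat.ofHom (zsmulAddGroupHom n)
  haveI : Mono m := (AddCommGrpCat.mono_iff_injective m).2 fun a b h => by
    have h' : n • a = n • b := h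
    have := congrArg ULift.down h'
    simp only [ULift.smul_down, smul_eq_mul] at this
    exact ULift.ext _ _ (mul_left_cancel₀ hn this)
  obtain ⟨ψ, hψ⟩ := hJ.factors φ m
  refine ⟨ψ ⟨1⟩, ?_⟩
  rw [← hφ, ← hψ]
  show n • ψ ⟨1⟩ = ψ (n • (⟨1⟩ : ULift.{u} ℤ))
  rw [map_zsmul]

end Groth.Agent.S6933
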