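import Groth.Statements.S6934
import Mathlib.RingTheory.Localization.Away.Basic
-- import your own Groth.Agent.* helpers here

set_option autoImplicit false
universe u
open EtAlg

namespace Groth.Agent.S6934

/-- Let `s : B → R`, `t : R' → R` be ring maps and `B' = B ×_R R'` the fibre product ring, i.e. a ring
`B'` with maps `p : B' → B`, `q : B' → R'`, `s ∘ p = t ∘ q`, such that `(p, q)` is injective with
image the pairs `(b, r')` with `s(b) = t(r')`. Let `h ∈ B'` with images `g = p(h)`, `f = q(h)`. Then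
the square of localizations `B'_h → B_g`, `B'_h → R'_f`, `B_g → R_{s(g)}`, `R'_f → R_{t(f)} =
R_{s(g)}` (the induced maps) is cartesian as well: `B'_h = B_g ×_{R_{s(g)}} R'_f`. -/
theorem result {B R R' B' : Type u} [CommRing B] [CommRing R] [CommRing R'] [CommRing B']
    (s : B →+* R) (t : R' →+* R) (p : B' →+* B) (q : B' →+* R') (hc : s.comp p = t.comp q)
    (hinj : ∀ x y : B', p x = p y → q x = q y → x = y) (hsurj : ∀ (b : B) (r' : R'), s b = t r' → ∃ x : B', p x = b ∧ q x = r')
    (h : B') (Bh Bg Rf Rsg : Type u) [CommRing Bh] [CommRing Bg] [CommRing Rf] [CommRing Rsg]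
    [Algebra B' Bh] [IsLocalization.Away h Bh] [Algebra B Bg] [IsLocalization.Away (p h) Bg]
    [Algebra R' Rf] [IsLocalization.Away (q h) Rf] [Algebra R Rsg] [IsLocalization.Away (s (p h)) Rsg]
    (pL : Bh →+* Bg) (qL : Bh →+* Rf) (sL : Bg →+* Rsg) (tL : Rf →+* Rsg)
    (hp : pL.comp (algebraMap B' Bh) = (algebraMap B Bg).comp p) (hq : qL.comp (algebraMap B' Bh) = (algebraMap R' Rf).comp q)
    (hs : sL.comp (algebraMap B Bg) = (algebraMap R Rsg).comp s) (ht : tL.comp (algebraMap R' Rf) = (algebraMap R Rsg).comp t) :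
    (∀ x y : Bh, pL x = pL y → qL x = qL y → x = y) ∧
    (∀ (b : Bg) (r : Rf), sL b = tL r → ∃ x : Bh, pL x = b ∧ qL x = r) := by
  have hc' : ∀ a, s (p a) = t (q a) := fun a => congrArg (fun f => f a) hc
  have hp' : ∀ a, pL (algebraMap B' Bh a) = algebraMap B Bg (p a) := fun a => congrArg (fun f => f a) hp
  have hq' : ∀ a, qL (algebraMap B' Bh a) = algebraMap R' Rf (q a) := fun a => congrArg (fun f => f a) hq
  have hs' : ∀ a, sL (algebraMap B Bg a) = algebraMap R Rsg (s a) := fun a => congrArg (fun f => f a) hs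
  have ht' : ∀ a, tL (algebraMap R' Rf a) = algebraMap R Rsg (t a) := fun a => congrArg (fun f => f a) ht
  refine ⟨fun x y h1 h2 => ?_, fun b r hbr => ?_⟩
  · obtain ⟨n, a, ha⟩ := IsLocalization.Away.surj h (x - y)
    have hp0 : algebraMap B Bg (p a) = 0 := by rw [← hp', ← ha, map_mul, map_sub, h1, sub_self, zero_mul]
    have hq0 : algebraMap R' Rf (q a) = 0 := by rw [← hq', ← ha, map_mul, map_sub, h2, sub_self, zero_mul]
    obtain ⟨⟨_, m₁, rfl⟩, e1⟩ := (IsLocalization.map_eq_zero_iff (Submonoid.powers (p h)) Bg _).1 hp0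
    obtain ⟨⟨_, m₂, rfl⟩, e2⟩ := (IsLocalization.map_eq_zero_iff (Submonoid.powers (q h)) Rf _).1 hq0
    simp only at e1 e2
    have e : h ^ (m₁ + m₂) * a = 0 := hinj _ _
      (by rw [map_mul, map_pow, pow_add, mul_right_comm, e1, zero_mul, map_zero])
      (by rw [map_mul, map_pow, pow_add, mul_assoc, e2, mul_zero, map_zero])
    have hu : IsUnit (algebraMap B' Bh h) := IsLocalization.Away.algebraMap_isUnit h
    have hx : algebraMap B' Bh (h ^ (m₁ + m₂)) * ((x - y) * algebraMap B' Bh h ^ n) = 0 := by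
      rw [ha, ← map_mul, e, map_zero]
    rw [map_pow, (hu.pow _).mul_right_eq_zero, (hu.pow _).mul_left_eq_zero, sub_eq_zero] at hx
    exact hx
  · obtain ⟨n, b₀, hb⟩ := IsLocalization.Away.surj (p h) b
    obtain ⟨m, r₀, hr⟩ := IsLocalization.Away.surj (q h) r
    have hs0 : algebraMap R Rsg (s b₀) = sL b * algebraMap R Rsg (s (p h)) ^ n := by
      rw [← hs', ← hb, map_mul, map_pow, hs']
    have ht0 : algebraMap R Rsg (t r₀) = sL b * algebraMap R Rsg (s (p h)) ^ m := by
      rw [← ht', ← hr, map_mul, map_pow, ht', hbr, hc' h]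
    have e0 : algebraMap R Rsg (s (b₀ * p h ^ m)) = algebraMap R Rsg (t (r₀ * q h ^ n)) := by
      simp only [map_mul, map_pow]
      rw [hs0, ht0, hc' h]
      ring
    obtain ⟨⟨_, k, rfl⟩, ek⟩ := (IsLocalization.eq_iff_exists (Submonoid.powers (s (p h))) Rsg).1 e0
    simp only at ek
    obtain ⟨x₀, hx1, hx2⟩ := hsurj (p h ^ k * (b₀ * p h ^ m)) (q h ^ k * (r₀ * q h ^ n)) (by
      rw [map_mul s, map_pow, ek]; simp only [map_mul, map_pow, hc'])
    obtain ⟨w, hw⟩ := isUnit_iff_exists_inv.1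
      ((IsLocalization.Away.algebraMap_isUnit h : IsUnit (algebraMap B' Bh h)).pow (k + n + m))
    refine ⟨algebraMap B' Bh x₀ * w, ?_, ?_⟩
    · apply ((IsLocalization.Away.algebraMap_isUnit (p h) : IsUnit (algebraMap B Bg (p h))).pow (k + n + m)).mul_right_cancel
      calc pL (algebraMap B' Bh x₀ * w) * algebraMap B Bg (p h) ^ (k + n + m)
          = pL (algebraMap B' Bh x₀ * (algebraMap B' Bh h ^ (k + n + m) * w)) := by
            rw [← hp', ← map_pow, ← map_mul]; ring_nf
        _ = algebraMap B Bg (p h ^ k * (b₀ * p h ^ m)) := by rw [hw, mul_one, hp', hx1]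
        _ = b * algebraMap B Bg (p h) ^ (k + n + m) := by
            rw [map_mul, map_mul, map_pow, map_pow, ← hb]; ring
    · apply ((IsLocalization.Away.algebraMap_isUnit (q h) : IsUnit (algebraMap R' Rf (q h))).pow (k + n + m)).mul_right_cancel
      calc qL (algebraMap B' Bh x₀ * w) * algebraMap R' Rf (q h) ^ (k + n + m)
          = qL (algebraMap B' Bh x₀ * (algebraMap B' Bh h ^ (k + n + m) * w)) := by
            rw [← hq', ← map_pow, ← map_mul]; ring_nf
        _ = algebraMap R' Rf (q h ^ k * (r₀ * q h ^ n)) := by rw [hw, mul_one, hq', hx2]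
        _ = r * algebraMap R' Rf (q h) ^ (k + n + m) := by
            rw [map_mul, map_mul, map_pow, map_pow, ← hr]; ring

end Groth.Agent.S6934
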