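import Groth.Statements.S6942
import Groth.Agent.DRingLib.PCohMore

set_option autoImplicit false
universe u
open CategoryTheory CategoryTheory.Limits
attribute [local instance] HasDerivedCategory.standard
open DRing

namespace Groth.Agent.S6942

/-- Let R be a Noetherian commutative ring and m an integer. An object K of D(R) is m-pseudo-coherent
exactly when H^i(K) = 0 for all large i and H^i(K) is a finitely generated R-module for each i ≥ m.
Every finitely generated R-module M is pseudo-coherent, and conversely. -/
theorem result (R : Type u) [CommRing R]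
    [IsNoetherianRing R] (m : ℤ) (K : Dual.D R) (M : Type u) [AddCommGroup M] [Module R M] :
    (DRing.IsPseudoCoherent R m K ↔
      (∃ b : ℤ, ∀ i : ℤ, b < i → Subsingleton (Dual.HD R K i)) ∧ ∀ i : ℤ, m ≤ i → Module.Finite R (Dual.HD R K i)) ∧
      (DRing.IsPseudoCoherentModule' R M ↔ Module.Finite R M) := by
  have key : ∀ (n : ℤ) (L : Dual.D R), DRing.IsPseudoCoherent R n L ↔
      (∃ b : ℤ, ∀ i : ℤ, b < i → Subsingleton (Dual.HD R L i)) ∧
        ∀ i : ℤ, n ≤ i → Module.Finite R (Dual.HD R L i) := by
    intro n L
    constructor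
    · intro h
      obtain ⟨E, α, hE, hα⟩ := DRingLib.isPseudoCoherent_iff.1 h
      obtain ⟨b, hb⟩ := hE.bddAbove
      refine ⟨⟨max b n, fun i hi => ?_⟩, fun i hi => ?_⟩
      · have := hα.1 i (by omega)
        exact ModuleCat.subsingleton_of_isZero ((DRingLib.isZero_Hn_Q E i (hb i (by omega))).of_iso
          (asIso ((DRingLib.Hn R i).map α)).symm)
      · have hEX : Module.Finite R (E.X i) := by
          obtain ⟨a, b', -, hf⟩ := hE
          exact (hf _).1
        have := DRingLib.finite_Hn_Q (DRingLib.homology_finite_of_cycles E i inferInstance)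
        have hepi : Epi ((DRingLib.Hn R i).map α) := (hα.mono hi).2
        exact Module.Finite.of_surjective ((DRingLib.Hn R i).map α).hom
          ((ModuleCat.epi_iff_surjective _).1 hepi)
    · rintro ⟨⟨b, hb⟩, hfin⟩
      refine DRingLib.isPseudoCoherent_of_finite_noetherian (b := b) (fun i hi => ?_) hfin
      have := hb i hi
      exact ModuleCat.isZero_of_subsingleton _
  have e := DRingLib.inDEquiv (R := R) M
  have hz : ∀ i : ℤ, i ≠ 0 → IsZero ((DRingLib.Hn R i).obj (Dual.inD R M)) := fun i hi =>
    DRingLib.isZero_Hn_inD M hi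
  refine ⟨key m K, fun h => ?_, fun h => ?_⟩
  · have := ((key 0 (Dual.inD R M)).1 (DRingLib.isPseudoCoherent'_iff_forall.1 h 0)).2 0 le_rfl
    exact Module.Finite.equiv e
  · refine DRingLib.isPseudoCoherent'_iff_forall.2 fun n =>
      (key n (Dual.inD R M)).2 ⟨⟨0, fun i hi => ?_⟩, fun i _ => ?_⟩
    · exact ModuleCat.subsingleton_of_isZero (hz i (by omega))
    · rcases eq_or_ne i 0 with rfl | hi
      · exact Module.Finite.equiv e.symm
      · exact DRingLib.finite_of_isZero (hz i hi)

end Groth.Agent.S6942
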