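import Groth.Statements.S6951
import Groth.Agent.TwoTermLib.RelAmp

set_option autoImplicit false
universe u
open CategoryTheory CategoryTheory.Limits
attribute [local instance] HasDerivedCategory.standard
open DRing

namespace Groth.Agent.S6951

/-- Let R → A → B be homomorphisms of commutative rings with A → B faithfully flat, such that the
derived base change D(A) → D(B) exists, and let K be an object of D(A). Then for all integers a, b,
the following are equivalent: the restriction of K to D(R) is of tor amplitude within [a, b]; the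
restriction of K ⊗^L_A B to D(R) is of tor amplitude within [a, b]. -/
theorem result {R A B : Type u}
    [CommRing R] [CommRing A] [CommRing B] [Algebra R A] [Algebra A B] [Algebra R B] [IsScalarTower R A B]
    [Module.FaithfullyFlat A B] [DRing.HasLBaseChange (algebraMap A B)] (K : Dual.D A) (a b : ℤ) :
    DRing.HasTorAmplitudeIn R a b ((DRing.restrictD (algebraMap R A)).obj K) ↔
      DRing.HasTorAmplitudeIn R a b ((DRing.restrictD (algebraMap R B)).obj ((DRing.LBaseChange (algebraMap A B)).obj K)) := by
  obtain ⟨C, hC, ⟨e⟩⟩ := DRingLib.exists_good_rep K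
  let φ := algebraMap R A
  let ψ := algebraMap A B
  let χ := algebraMap R B
  have hχ : χ = ψ.comp φ := IsScalarTower.algebraMap_eq R A B
  let e₁ : DerivedCategory.Q.obj ((DRing.restrictCx φ).obj C) ≅ (DRing.restrictD φ).obj K :=
    ((ModuleCat.restrictScalars.{u} φ).mapDerivedCategoryFactors.app C).symm ≪≫
      (DRing.restrictD φ).mapIso e
  let e₂ : DerivedCategory.Q.obj ((DRing.restrictCx χ).obj ((DRingLib.extCx ψ).obj C)) ≅
      (DRing.restrictD χ).obj ((DRing.LBaseChange ψ).obj K) :=
    ((ModuleCat.restrictScalars.{u} χ).mapDerivedCategoryFactors.app _).symm ≪≫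
      (DRing.restrictD χ).mapIso
        ((DRingLib.lBaseChangeObjIso ψ C hC.1).symm ≪≫ (DRing.LBaseChange ψ).mapIso e)
  have hiff : ∀ i, TwoTermLib.RelAmp.Vanish φ C i ↔
      TwoTermLib.RelAmp.Vanish χ ((DRingLib.extCx ψ).obj C) i := fun i => forall_congr' fun N => by
    refine Iff.trans ?_ ((HomologicalComplex.homologyFunctor _ (ComplexShape.up ℤ) i).mapIso
      (TwoTermLib.RelAmp.baseChangeIso φ ψ hχ C
        (projectiveResolution N).cochainComplex)).isZero_iff.symm
    exact ⟨DRingLib.isZero_homology_extCx ψ (RingHom.flat_algebraMap_iff.2 inferInstance) _ i,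
      fun h => DRingLib.isZero_homology_of_family (S := fun _ : Unit => B)
        (DRingLib.detectsZero_of_faithfullyFlat (fun _ : Unit => B) ()) _ i fun _ => h⟩
  constructor
  · intro h
    refine DRingLib.hasTorAmplitudeIn_of_iso e₂
      ((TwoTermLib.RelAmp.hasTorAmplitudeIn_res_iff χ _ a b).2 fun i hi => (hiff i).1 ?_)
    exact (TwoTermLib.RelAmp.hasTorAmplitudeIn_res_iff φ C a b).1
      (DRingLib.hasTorAmplitudeIn_of_iso e₁.symm h) i hi
  · intro h
    refine DRingLib.hasTorAmplitudeIn_of_iso e₁
      ((TwoTermLib.RelAmp.hasTorAmplitudeIn_res_iff φ _ a b).2 fun i hi => (hiff i).2 ?_)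
    exact (TwoTermLib.RelAmp.hasTorAmplitudeIn_res_iff χ _ a b).1
      (DRingLib.hasTorAmplitudeIn_of_iso e₂.symm h) i hi

end Groth.Agent.S6951
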