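import Groth.Statements.S6953
import Groth.Agent.TwoTermLib.RelAmp

set_option autoImplicit false
universe u
open CategoryTheory CategoryTheory.Limits
attribute [local instance] HasDerivedCategory.standard
open DRing MonoidalCategory

namespace Groth.Agent.S6953

/-- Let A → B be a homomorphism of commutative rings, K an object of D(B) with tor amplitude in [a, b]
over B, and L a cochain complex of B-modules whose restriction of scalars to A lies in D(A) with tor
amplitude contained in [c, d]. Assume the derived tensor product - ⊗^L_B L exists on D(B). Then K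
⊗^L_B L, with scalars restricted to A, has tor amplitude in [a + c, b + d] over A. -/
theorem result {A B : Type u} [CommRing A] [CommRing B] [Algebra A B]
    (K : Dual.D B) (a b c d : ℤ) (hK : DRing.HasTorAmplitudeIn B a b K) (L : DRing.Cx B)
    (hL : DRing.HasTorAmplitudeIn A c d (DRing.toD ((DRing.restrictCx (algebraMap A B)).obj L)))
    [DRing.HasLTensorCx B L] :
    DRing.HasTorAmplitudeIn A (a + c) (b + d)
      ((DRing.restrictD (algebraMap A B)).obj ((DRing.LTensorCx B L).obj K)) := by
  obtain ⟨E, hEv, hEf, ⟨e⟩⟩ := hK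
  have hE : DRing.IsKFlat B E := DRingLib.isKFlat_of_flatAmplitude hEv hEf
  let φ := algebraMap A B
  refine DRingLib.hasTorAmplitudeIn_of_iso
    (((ModuleCat.restrictScalars.{u} φ).mapDerivedCategoryFactors.app (E ⊗ L)).symm ≪≫
      (DRing.restrictD φ).mapIso
        ((TwoTermLib.LTCx.objIso L E hE).symm ≪≫ (DRing.LTensorCx B L).mapIso e))
    ((TwoTermLib.RelAmp.hasTorAmplitudeIn_res_iff φ _ _ _).2 fun i hi N => ?_)
  let Q := (DRingLib.extCx φ).obj (projectiveResolution N).cochainComplex
  let M := L ⊗ Q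
  have hM : ∀ j, (j < c ∨ d < j) → IsZero (M.homology j) := fun j hj =>
    (TwoTermLib.RelAmp.hasTorAmplitudeIn_res_iff φ L c d).1 hL j hj N
  refine IsZero.of_iso ?_ ((HomologicalComplex.homologyFunctor _ (ComplexShape.up ℤ) i).mapIso
    (α_ E L Q))
  change IsZero ((E ⊗ M).homology i)
  haveI : M.IsLE d := by
    rw [CochainComplex.isLE_iff]
    exact fun j hj => (HomologicalComplex.exactAt_iff_isZero_homology _ j).2 (hM j (Or.inr hj))
  haveI : QuasiIso (M.ιTruncLE d) := (CochainComplex.quasiIso_ιTruncLE_iff M d).2 inferInstance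
  let M₁ := M.truncLE d
  have hM₁ : ∀ j, j < c → IsZero (M₁.homology j) := fun j hj => by
    have : IsIso (HomologicalComplex.homologyMap (M.ιTruncLE d) j) :=
      (quasiIsoAt_iff_isIso_homologyMap _ _).mp (QuasiIso.quasiIsoAt j)
    exact (hM j (Or.inl hj)).of_iso (asIso (HomologicalComplex.homologyMap (M.ιTruncLE d) j))
  haveI : M₁.IsGE c := by
    rw [CochainComplex.isGE_iff]
    exact fun j hj => (HomologicalComplex.exactAt_iff_isZero_homology _ j).2 (hM₁ j hj)
  haveI : QuasiIso (M₁.πTruncGE c) := (CochainComplex.quasiIso_πTruncGE_iff M₁ c).mpr inferInstance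
  have q₁ := (KFlatLib.quasiIso_tMap_left hE (M.ιTruncLE d)).quasiIsoAt i
  have q₂ := (KFlatLib.quasiIso_tMap_left hE (M₁.πTruncGE c)).quasiIsoAt i
  rw [quasiIsoAt_iff_isIso_homologyMap] at q₁ q₂
  have hT := DRingLib.vanishesOutside_truncGE (P := M₁) (b := d)
    (fun j hj => CochainComplex.isZero_of_isStrictlyLE M₁ d j hj) c
  refine IsZero.of_iso ?_ ((@asIso _ _ _ _ _ q₁).symm ≪≫ @asIso _ _ _ _ _ q₂)
  refine (HomologicalComplex.exactAt_iff_isZero_homology _ i).mp
    (ShortComplex.exact_of_isZero_X₂ _ (TwoTermLib.LTCx.isZero_tensor_X i fun p q hpq => ?_))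
  by_cases hp : p < a ∨ b < p
  · exact Or.inl (hEv p hp)
  · exact Or.inr (hT q (by omega))

end Groth.Agent.S6953
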