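import Groth.Statements.S6955
import Groth.Agent.DRingLib.ProjAmplitude
import Mathlib.CategoryTheory.Abelian.Projective.Extend

set_option autoImplicit false
universe u
open CategoryTheory CategoryTheory.Limits
attribute [local instance] HasDerivedCategory.standard
open DRing

namespace Groth.Agent.S6955

/-- Let R be a commutative ring and M an R-module. Then M is perfect (M[0] is isomorphic in D(R) to a
bounded complex of finite projective modules) if and only if M admits a projective resolution of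
finite length whose terms are finitely generated, i.e. a resolution 0 → F_d → ... → F_0 → M → 0 by
finite projective modules. -/
theorem result (R : Type u) [CommRing R] (M : Type u)
    [AddCommGroup M] [Module R M] :
    DRing.IsPerfectModule R M ↔
      ∃ (P : ProjectiveResolution (ModuleCat.of R M)) (d : ℕ),
        (∀ i : ℕ, d < i → IsZero (P.complex.X i)) ∧ ∀ i : ℕ, Module.Finite R (P.complex.X i) := by
  constructor
  · intro h
    obtain ⟨a, c, hac⟩ := DRingLib.hasTorAmplitudeIn_of_isPerfect h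
    obtain ⟨d, hd⟩ : ∃ d : ℕ, -(d : ℤ) ≤ a := ⟨(-a).toNat, by omega⟩
    have hamp := DRingLib.hasTorAmplitudeIn_of_Hn_bound (c' := 0)
      (DRingLib.hasTorAmplitudeIn_mono hd (le_refl c) hac)
      (fun i hi => DRingLib.isZero_Hn_inD M (by omega))
    obtain ⟨E, hE, hp, ⟨e⟩⟩ := DRingLib.exists_finiteProjective_of_amplitude
      (DRingLib.isPseudoCoherent_of_isPerfect h _) hamp
    let C : ChainComplex (ModuleCat.{u} R) ℕ := ChainComplex.of (fun n => E.X (-(n : ℤ)))
      (fun n => E.d (-((n + 1 : ℕ) : ℤ)) (-(n : ℤ))) (fun n => E.d_comp_d _ _ _)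
    have hz1 : E.d 0 1 = 0 := (hE 1 (Or.inr one_pos)).eq_of_tgt _ _
    let eM : E.homology 0 ≅ ModuleCat.of R M :=
      ((DerivedCategory.homologyFunctorFactors (ModuleCat.{u} R) 0).app E).symm ≪≫
        (DRingLib.Hn R 0).mapIso e ≪≫
        (DerivedCategory.singleFunctorCompHomologyFunctorIso (ModuleCat.{u} R) 0).app (ModuleCat.of R M)
    let eO : E.opcycles 0 ≅ ModuleCat.of R M := (E.isoHomologyι 0 1 (by simp) hz1).symm ≪≫ eM
    let π₀ : C.X 0 ⟶ ModuleCat.of R M := E.pOpcycles 0 ≫ eO.hom
    have hC1 : C.d 1 0 = E.d (-1) 0 := ChainComplex.of_d (fun n : ℕ => E.X (-(n : ℤ)))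
      (fun n => E.d (-((n + 1 : ℕ) : ℤ)) (-(n : ℤ))) 0
    have hw : C.d 1 0 ≫ π₀ = 0 := by
      rw [hC1]
      exact (Category.assoc _ _ _).symm.trans (by rw [E.d_pOpcycles, zero_comp])
    have hex : (ShortComplex.mk (C.d 1 0) π₀ hw).Exact ∧ Epi π₀ := by
      refine ⟨?_, inferInstanceAs (Epi (E.pOpcycles 0 ≫ eO.hom))⟩
      have h0 := (ShortComplex.mk (E.d (-1) 0) (E.pOpcycles 0) (E.d_pOpcycles _ _)).exact_of_g_is_cokernel
        (E.opcyclesIsCokernel (-1) 0 (by simp))
      let i₀ : ShortComplex.mk (E.d (-1) 0) (E.pOpcycles 0) (E.d_pOpcycles _ _) ≅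
          ShortComplex.mk (C.d 1 0) π₀ hw :=
        ShortComplex.isoMk (Iso.refl _) (Iso.refl _) eO
          ((Category.id_comp _).trans (hC1.trans (Category.comp_id _).symm))
          (Category.id_comp _)
      exact ShortComplex.exact_of_iso i₀ h0
    let π : C ⟶ (ChainComplex.single₀ (ModuleCat.{u} R)).obj (ModuleCat.of R M) :=
      (ChainComplex.toSingle₀Equiv _ _).symm ⟨π₀, hw⟩
    have hq : QuasiIso π := ⟨fun n => by
      cases n
      · rw [ChainComplex.quasiIsoAt₀_iff, ShortComplex.quasiIso_iff_of_zeros']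
        · refine (ShortComplex.exact_and_epi_g_iff_of_iso ?_).2 hex
          exact ShortComplex.isoMk (Iso.refl _) (Iso.refl _) (Iso.refl _)
            ((Category.id_comp _).trans (Category.comp_id _).symm) ((Category.id_comp _).trans (Category.comp_id _).symm)
        all_goals rfl
      · rename_i n
        rw [quasiIsoAt_iff_exactAt']
        · rw [HomologicalComplex.exactAt_iff' _ (n + 1 + 1) (n + 1) n (by simp) (by simp)]
          have h1 : IsZero (E.homology (-((n + 1 : ℕ) : ℤ))) := DRingLib.isZero_homology_of_Hn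
            ((DRingLib.isZero_Hn_inD M (by omega)).of_iso ((DRingLib.Hn R _).mapIso e))
          rw [← HomologicalComplex.exactAt_iff_isZero_homology,
            HomologicalComplex.exactAt_iff' _ (-((n + 1 + 1 : ℕ) : ℤ)) (-((n + 1 : ℕ) : ℤ)) (-(n : ℤ))
              (by simp; omega) (by simp)] at h1
          let i₁ : HomologicalComplex.sc' E (-((n + 1 + 1 : ℕ) : ℤ)) (-((n + 1 : ℕ) : ℤ)) (-(n : ℤ)) ≅
              HomologicalComplex.sc' C (n + 1 + 1) (n + 1) n :=
            ShortComplex.isoMk (Iso.refl _) (Iso.refl _) (Iso.refl _)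
              ((Category.id_comp _).trans ((ChainComplex.of_d (fun k : ℕ => E.X (-(k : ℤ))) (fun k => E.d (-((k + 1 : ℕ) : ℤ)) (-(k : ℤ))) (n + 1)).trans (Category.comp_id _).symm))
              ((Category.id_comp _).trans ((ChainComplex.of_d (fun k : ℕ => E.X (-(k : ℤ))) (fun k => E.d (-((k + 1 : ℕ) : ℤ)) (-(k : ℤ))) n).trans (Category.comp_id _).symm))
          exact ShortComplex.exact_of_iso i₁ h1
        · exact ChainComplex.exactAt_succ_single_obj _ _⟩
    refine ⟨{ complex := C, projective := fun n => ?_, π := π, quasiIso := hq }, d,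
      fun n hn => hE _ (Or.inl (by omega)), fun n => (hp _).1⟩
    exact (IsProjective.iff_projective (E.X (-(n : ℤ)) : Type u)).mp (hp _).2
  · rintro ⟨P, d, hd, hfin⟩
    have hz : ∀ i, i < -(d : ℤ) ∨ 0 < i → IsZero (P.cochainComplex.X i) := fun i hi => by
      rcases hi with hi | hi
      · obtain ⟨k, rfl⟩ : ∃ k : ℕ, i = -(k : ℤ) := ⟨(-i).toNat, by omega⟩
        exact (hd k (by omega)).of_iso (P.cochainComplexXIso _ k rfl)
      · exact CochainComplex.isZero_of_isStrictlyLE P.cochainComplex 0 i hi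
    refine ⟨P.cochainComplex, -(d : ℤ), 0, hz, fun i => ?_,
      ⟨asIso (DerivedCategory.Q.map P.π') ≪≫
        ((DerivedCategory.singleFunctorIsoCompQ (ModuleCat.{u} R) 0).app (ModuleCat.of R M)).symm⟩⟩
    have hP : Projective (P.cochainComplex.X i) := inferInstance
    refine ⟨?_, (IsProjective.iff_projective (P.cochainComplex.X i : Type u)).mpr hP⟩
    by_cases hi : 0 < i
    · exact DRingLib.finite_of_isZero (hz i (Or.inr hi))
    · obtain ⟨k, rfl⟩ : ∃ k : ℕ, i = -(k : ℤ) := ⟨(-i).toNat, by omega⟩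
      have := hfin k
      exact Module.Finite.equiv (P.cochainComplexXIso _ k rfl).toLinearEquiv.symm

end Groth.Agent.S6955
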