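import Groth.Statements.S6957
import Groth.Agent.DRingLib.Basic

set_option autoImplicit false
universe u
open CategoryTheory CategoryTheory.Limits
attribute [local instance] HasDerivedCategory.standard
open DRing

namespace Groth.Agent.S6957

/-- Let A → B be a homomorphism of commutative rings such that the derived base change D(A) → D(B)
exists, and let K be a perfect object of D(A). Then K ⊗^L_A B is a perfect object of D(B). -/
theorem result {A B : Type u} [CommRing A] [CommRing B] (φ : A →+* B)
    [DRing.HasLBaseChange φ] (K : Dual.D A) (hK : DRing.IsPerfect A K) :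
    DRing.IsPerfect B ((DRing.LBaseChange φ).obj K) := by
  obtain ⟨E, a, b, hab, hproj, ⟨e⟩⟩ := hK
  have hE : DRing.IsKFlat A E :=
    KFlatLib.isKFlat_of_bounded_flat E b (fun i hi => hab i (Or.inr hi)) fun i => by
      have := (hproj i).2
      infer_instance
  exact ⟨(DRingLib.extCx φ).obj E, a, b,
    fun i hi => (ModuleCat.extendScalars.{u, u, u} φ).map_isZero (hab i hi),
    fun i => ⟨DRingLib.finite_extCx φ i (hproj i).1, DRingLib.projective_extCx φ i (hproj i).2⟩,
    ⟨(DRingLib.lBaseChangeObjIso φ E hE).symm ≪≫ (DRing.LBaseChange φ).mapIso e⟩⟩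

end Groth.Agent.S6957
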