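import Groth.Statements.S6959
import Groth.Agent.TwoTermLib.LTCx
import Groth.Agent.DRingLib.Basic
import Groth.Agent.KFlatLib.AlgMore

set_option autoImplicit false
universe u
open CategoryTheory CategoryTheory.Limits
attribute [local instance] HasDerivedCategory.standard
open DRing MonoidalCategory

namespace Groth.Agent.S6959

/-- Let R be a commutative ring, K a perfect object of D(R) and L a cochain complex of R-modules
defining a perfect object of D(R); assume the derived tensor product - ⊗^L_R L exists on D(R). Then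
K ⊗^L_R L is a perfect object of D(R). -/
theorem result (R : Type u) [CommRing R] (K : Dual.D R) (hK : DRing.IsPerfect R K)
    (L : DRing.Cx R) (hL : DRing.IsPerfect R (DRing.toD L)) [DRing.HasLTensorCx R L] :
    DRing.IsPerfect R ((DRing.LTensorCx R L).obj K) := by
  obtain ⟨E, a, b, hEb, hEf, ⟨e⟩⟩ := hK
  obtain ⟨E', a', c, hE'b, hE'f, ⟨e'⟩⟩ := hL
  have hE : DRing.IsKFlat R E :=
    KFlatLib.isKFlat_of_bounded_flat E b (fun i hi => hEb i (Or.inr hi)) fun i => by
      have := (hEf i).2
      infer_instance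
  have : E'.IsKProjective :=
    DRingLib.isKProjective_of_projective E' c (fun i hi => hE'b i (Or.inr hi)) fun i => (hE'f i).2
  obtain ⟨g, hg⟩ := DRingLib.exists_qis_of_iso E' L e'
  have hq : QuasiIso (KFlatLib.tMap (𝟙 E) g) := KFlatLib.quasiIso_tMap_left hE g
  refine ⟨E ⊗ E', a + a', b + c, fun n hn => TwoTermLib.LTCx.isZero_tensor_X n fun p q hpq => ?_,
    fun n => ⟨TwoTermLib.LTCx.finite_tensor_X (fun i => (hEf i).1) (fun i => (hE'f i).1)
        (fun i hi => hEb i (Or.inr hi)) (fun i hi => hE'b i (Or.inr hi)) n,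
      TwoTermLib.LTCx.projective_tensor_X (fun i => (hEf i).2) (fun i => (hE'f i).2) n⟩,
    ⟨@asIso _ _ _ _ _ ((DerivedCategory.isIso_Q_map_iff_quasiIso (φ := KFlatLib.tMap (𝟙 E) g)).2 hq) ≪≫
      (TwoTermLib.LTCx.objIso L E hE).symm ≪≫ (DRing.LTensorCx R L).mapIso e⟩⟩
  by_cases hp : p < a ∨ b < p
  · exact Or.inl (hEb p hp)
  · exact Or.inr (hE'b q (by omega))

end Groth.Agent.S6959
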