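import Groth.Statements.S6963
import Groth.Agent.TwoTermLib.RHomEval

set_option autoImplicit false
universe u
open CategoryTheory CategoryTheory.Limits
attribute [local instance] HasDerivedCategory.standard
open DRing

namespace Groth.Agent.S6963

/-- Let A be a commutative ring and K a perfect object of D(A), represented by a cochain complex E for
which RHom_A(E, -) exists; write K^∨ = RHom_A(E, A). Then K^∨ is a perfect object of D(A), and for
every cochain complex E' representing K^∨ for which RHom_A(E', -) exists, RHom_A(E', A) is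
isomorphic to K in D(A) (existence of an isomorphism only; the canonical one is the double-duality
map). -/
theorem result (A : Type u) [CommRing A] (K : Dual.D A) (hK : DRing.IsPerfect A K)
    (E : DRing.Cx A) (eK : DRing.toD E ≅ K) [DRing.HasRHomCx E] :
    DRing.IsPerfect A ((DRing.RHomCx E).obj (Dual.inD A A)) ∧
      ∀ (E' : DRing.Cx A) (eK' : DRing.toD E' ≅ (DRing.RHomCx E).obj (Dual.inD A A)) [DRing.HasRHomCx E'],
        Nonempty ((DRing.RHomCx E').obj (Dual.inD A A) ≅ K) := by
  obtain ⟨F, a, b, hF, hFp, ⟨i⟩⟩ := hK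
  haveI := DRingLib.isKProjective_of_projective F b (fun j hj => hF j (Or.inr hj)) fun j => (hFp j).2
  let s : Dual.inD A A ≅ DerivedCategory.Q.obj (TwoTermLib.RHomEval.A₀ A) :=
    (DerivedCategory.singleFunctorIsoCompQ (ModuleCat.{u} A) 0).app (ModuleCat.of A A)
  obtain ⟨e⟩ := TwoTermLib.RHomEval.nonempty_rHomIso E (F := F) (i ≪≫ eK.symm)
    (TwoTermLib.RHomEval.A₀ A)
  have hG := TwoTermLib.RHomEval.vanishes_dual F hF
  have hGp := TwoTermLib.RHomEval.finite_projective_dual F hFp
  let eG := e.symm ≪≫ (DRing.RHomCx E).mapIso s.symm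
  refine ⟨⟨_, -b, -a, hG, hGp, ⟨eG⟩⟩, fun E' eK' _ => ?_⟩
  haveI := DRingLib.isKProjective_of_projective (DRing.homCx F (TwoTermLib.RHomEval.A₀ A)) (-a)
    (fun j hj => hG j (Or.inr hj)) fun j => (hGp j).2
  obtain ⟨e'⟩ := TwoTermLib.RHomEval.nonempty_rHomIso E' (F := DRing.homCx F (TwoTermLib.RHomEval.A₀ A))
    (eG ≪≫ eK'.symm) (TwoTermLib.RHomEval.A₀ A)
  haveI := TwoTermLib.RHomEval.quasiIso_evDual F hFp
  exact ⟨(DRing.RHomCx E').mapIso s ≪≫ e' ≪≫
    (asIso (DerivedCategory.Q.map (TwoTermLib.RHomEval.evDual F))).symm ≪≫ i⟩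

end Groth.Agent.S6963
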