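import Groth.Statements.S6967
import Mathlib.Algebra.Module.Projective
-- import your own Groth.Agent.* helpers here

set_option autoImplicit false
universe u
open CAlg

namespace Groth.Agent.S6967

/-- Let R be a commutative ring, I an ideal of R and 0 → K → P → M → 0 a short exact sequence of
R-modules with P projective. If multiplication by a on M factors through a projective R-module for
every a ∈ I, then multiplication by a on K factors through a projective R-module for every a ∈ I. -/
theorem result (R : Type u) [CommRing R] (I : Ideal R)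
    {K P M : Type u} [AddCommGroup K] [Module R K] [AddCommGroup P] [Module R P] [Module.Projective R P]
    [AddCommGroup M] [Module R M] (f : K →ₗ[R] P) (g : P →ₗ[R] M) (hf : Function.Injective f)
    (hg : Function.Surjective g) (hfg : LinearMap.range f = LinearMap.ker g)
    (hM : ∀ a ∈ I, ∃ (P : Type u) (_ : AddCommGroup P) (_ : Module R P) (_ : Module.Projective R P)
        (f : M →ₗ[R] P) (g : P →ₗ[R] M), g ∘ₗ f = a • LinearMap.id) :
    ∀ a ∈ I, ∃ (P : Type u) (_ : AddCommGroup P) (_ : Module R P) (_ : Module.Projective R P)
        (f : K →ₗ[R] P) (g : P →ₗ[R] K), g ∘ₗ f = a • LinearMap.id := by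
  intro a ha
  obtain ⟨P', _, _, _, h, k, hk⟩ := hM a ha
  obtain ⟨k', hk'⟩ := Module.projective_lifting_property g k hg
  let D : P →ₗ[R] P := a • LinearMap.id - k' ∘ₗ h ∘ₗ g
  have hD : ∀ x, D x ∈ LinearMap.range f := fun x => by
    rw [hfg, LinearMap.mem_ker]
    have h1 := DFunLike.congr_fun hk' (h (g x))
    have h2 := DFunLike.congr_fun hk (g x)
    simp only [LinearMap.comp_apply, LinearMap.smul_apply, LinearMap.id_apply] at h1 h2
    simp only [D, LinearMap.sub_apply, LinearMap.smul_apply, LinearMap.id_apply, LinearMap.comp_apply,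
      map_sub, map_smul, h1, h2, sub_self]
  let e := LinearEquiv.ofInjective f hf
  refine ⟨P, inferInstance, inferInstance, inferInstance, f, e.symm.toLinearMap ∘ₗ D.codRestrict _ hD, ?_⟩
  ext x
  refine hf ?_
  have h0 : g (f x) = 0 := LinearMap.mem_ker.mp (hfg ▸ LinearMap.mem_range_self f x)
  simp only [LinearMap.comp_apply, LinearEquiv.coe_coe, LinearMap.smul_apply, LinearMap.id_apply, map_smul]
  rw [← LinearEquiv.ofInjective_apply (h := hf), LinearEquiv.apply_symm_apply]
  simp [D, h0]

end Groth.Agent.S6967
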