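import Groth.Statements.S6969
import Mathlib.Algebra.Module.Projective
import Mathlib.LinearAlgebra.FreeModule.Finite.Basic
import Mathlib.LinearAlgebra.StdBasis

set_option autoImplicit false
universe u
open CAlg

namespace Groth.Agent.S6969

/-- Let R be a commutative ring and φ : M → N an R-linear map which factors through a projective
R-module. If M is finitely generated, then φ factors through a finitely generated projective
R-module. -/
theorem result (R : Type u) [CommRing R] {M N : Type u} [AddCommGroup M]
    [Module R M] [Module.Finite R M] [AddCommGroup N] [Module R N] (φ : M →ₗ[R] N)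
    (h : ∃ (P : Type u) (_ : AddCommGroup P) (_ : Module R P) (_ : Module.Projective R P) (f : M →ₗ[R] P)
      (g : P →ₗ[R] N), g ∘ₗ f = φ) :
    ∃ (P : Type u) (_ : AddCommGroup P) (_ : Module R P) (_ : Module.Projective R P) (_ : Module.Finite R P)
      (f : M →ₗ[R] P) (g : P →ₗ[R] N), g ∘ₗ f = φ := by
  classical
  obtain ⟨P, _, _, _, f, g, rfl⟩ := h
  obtain ⟨s, hs⟩ := Module.projective_def'.1 ‹Module.Projective R P›
  obtain ⟨G, hG⟩ := (Module.Finite.fg_top : (⊤ : Submodule R M).FG)
  let t := G.biUnion fun m => (s (f m)).support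
  have hsupp : ∀ m, s (f m) ∈ Finsupp.supported R R (t : Set P) := fun m => by
    have : (⊤ : Submodule R M) ≤ (Finsupp.supported R R (t : Set P)).comap (s.comp f) := by
      rw [← hG, Submodule.span_le]
      intro y hy z hz
      exact Finset.mem_biUnion.2 ⟨y, hy, hz⟩
    exact this Submodule.mem_top
  let f' : M →ₗ[R] ({x // x ∈ t} → R) := LinearMap.pi fun x => (Finsupp.lapply (x : P)).comp (s.comp f)
  let g' : ({x // x ∈ t} → R) →ₗ[R] N := ∑ x, (LinearMap.proj x).smulRight (g (x : P))
  refine ⟨{x // x ∈ t} → R, inferInstance, inferInstance, inferInstance, inferInstance, f', g',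
    LinearMap.ext fun m => ?_⟩
  have h1 := LinearMap.congr_fun hs (f m)
  rw [LinearMap.comp_apply, LinearMap.id_apply, Finsupp.linearCombination_apply,
    Finsupp.sum_of_support_subset _ (fun z hz => hsupp m hz) _ (fun z _ => zero_smul R (id z))] at h1
  simp only [g', f', LinearMap.comp_apply, LinearMap.sum_apply, LinearMap.smulRight_apply,
    LinearMap.proj_apply, LinearMap.pi_apply, Finsupp.lapply_apply]
  conv_rhs => rw [← h1, map_sum]
  simp only [id, map_smul]
  exact Finset.sum_coe_sort t (fun x => (s (f m)) x • g x)

end Groth.Agent.S6969
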