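import Groth.Statements.S6970
import Groth.Agent.LiftCxLib.Classes
import Groth.Agent.LiftCxLib.Killed
import Groth.Agent.S3168

set_option autoImplicit false
set_option backward.isDefEq.respectTransparency false
set_option backward.isDefEq.respectTransparency.types false
universe u
open CategoryTheory CategoryTheory.Limits
attribute [local instance] HasDerivedCategory.standard
open DRing

namespace Groth.Agent.S6970

/-- Let R be a commutative ring and I a nilpotent ideal of R such that the derived base change D(R) →
D(R/I) exists. Let K be an object of D(R) and E a bounded above cochain complex of projective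
R/I-modules which is isomorphic in D(R/I) to K ⊗^L_R R/I. Then there is a bounded above cochain
complex P of projective R-modules which is isomorphic to K in D(R) and whose termwise reduction P
⊗_R R/I is isomorphic to E as a complex of R/I-modules. -/
theorem result (R : Type u) [CommRing R] (I : Ideal R)
    (hI : IsNilpotent I) [DRing.HasLBaseChange (Ideal.Quotient.mk I)] (K : Dual.D R)
    (E : DRing.Cx (R ⧸ I)) (b : ℤ) (hEb : DRing.VanishesAbove E b)
    (hEp : ∀ i : ℤ, Module.Projective (R ⧸ I) (E.X i))
    (hE : Nonempty (DRing.toD E ≅ (DRing.LBaseChange (Ideal.Quotient.mk I)).obj K)) :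
    ∃ (P : DRing.Cx R) (b' : ℤ), DRing.VanishesAbove P b' ∧ (∀ i : ℤ, Module.Projective R (P.X i)) ∧
      Nonempty (DRing.toD P ≅ K) ∧ Nonempty ((((ModuleCat.extendScalars (Ideal.Quotient.mk I)).mapHomologicalComplex (ComplexShape.up ℤ)).obj P) ≅ E) := by
  obtain ⟨e⟩ := hE
  obtain ⟨F, hFb, hFf, ⟨eF⟩⟩ := LiftCxLib.Killed.exists_free_rep_of_reduction I hI K hEb e
  obtain ⟨P, b', h1, h2, h3, h4⟩ := LiftCxLib.exists_representative (LiftCxLib.cls_proj hI)
    (fun X Y hX hY =>
      haveI : Module.Projective R X := hX
      haveI : Module.Projective R Y := hY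
      show Module.Projective R ((↥X) × (↥Y)) from inferInstance)
    K ⟨F, b, hFb, fun i => haveI := hFf i; (inferInstance : Module.Projective R (F.X i)), ⟨eF⟩⟩ E b hEb
    (fun i => by
      haveI := hEp i
      obtain ⟨X, hA, hM, hX, ⟨l⟩⟩ := Groth.Agent.S3168.result I hI (E.X i)
      exact ⟨ModuleCat.of R X, hX, ⟨l⟩⟩) ⟨e⟩
  exact ⟨P, b', h1, h2, h3, h4⟩

end Groth.Agent.S6970
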