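import Groth.Statements.S6972
import Groth.Agent.TwoTermLib.MinRep

set_option autoImplicit false
universe u
open CategoryTheory CategoryTheory.Limits
attribute [local instance] HasDerivedCategory.standard
open DRing

namespace Groth.Agent.S6972

/-- Let R be a local commutative ring with residue field κ such that the derived base change D(R) → D(κ)
exists, and let K be a pseudo-coherent object of D(R). Write d_i for the κ-dimension of H^i(K ⊗^L_R
κ). Then every H^i(K ⊗^L_R κ) is finite dimensional and vanishes for i large; there is a bounded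
above cochain complex P of finite free R-modules with rank P^i = d_i for all i which is isomorphic
to K in D(R); and any two such complexes are isomorphic as complexes of R-modules. -/
theorem result (R : Type u) [CommRing R] [IsLocalRing R]
    [DRing.HasLBaseChange (IsLocalRing.residue R)] (K : Dual.D R) (hK : DRing.IsPseudoCoherent' R K) :
    let κ := IsLocalRing.ResidueField R
    let Kκ := (DRing.LBaseChange (IsLocalRing.residue R)).obj K
    let Minimal := fun P : DRing.Cx R => (∃ b : ℤ, DRing.VanishesAbove P b) ∧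
      (∀ i : ℤ, Module.Free R (P.X i) ∧ Module.Finite R (P.X i) ∧
        Module.finrank R (P.X i) = Module.finrank κ (Dual.HD κ Kκ i)) ∧ Nonempty (DRing.toD P ≅ K)
    (∀ i : ℤ, Module.Finite κ (Dual.HD κ Kκ i)) ∧ (∃ b : ℤ, ∀ i : ℤ, b < i → Subsingleton (Dual.HD κ Kκ i)) ∧
      (∃ P : DRing.Cx R, Minimal P) ∧ ∀ P Q : DRing.Cx R, Minimal P → Minimal Q → Nonempty (P ≅ Q) := by
  intro κ Kκ Minimal
  obtain ⟨P₀, b, hb, hf, ⟨e₀⟩⟩ := hK
  obtain ⟨Q, hQb, hQf, hQd, ⟨e₁⟩⟩ := TwoTermLib.MinRep.exists_minimal P₀ hf hb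
  have hQK := DRingLib.isKFlat_of_free Q b hQb fun i => (hQf i).1
  have e := fun i => TwoTermLib.MinRep.HDIso hQK (e₁ ≪≫ e₀) i
  have hrank : ∀ i, Module.finrank κ (Dual.HD κ Kκ i) = Module.finrank R (Q.X i) := fun i =>
    ((e i).toLinearEquiv.finrank_eq).trans
      (TwoTermLib.MinRep.finrank_fibre_homology Q (fun i => (hQf i).1) hQd i)
  have hz : ∀ m n, (TwoTermLib.MinRep.fibre Q).d m n = 0 := fun m n => by
    by_cases h : m + 1 = n
    · exact TwoTermLib.MinRep.fibre_d_eq_zero Q m n (hQd m n h)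
    · exact (TwoTermLib.MinRep.fibre Q).shape m n h
  refine ⟨fun i => ?_, ⟨b, fun i hi => ?_⟩, ⟨Q, ⟨b, hQb⟩, fun i => ⟨(hQf i).1, (hQf i).2, (hrank i).symm⟩,
    ⟨e₁ ≪≫ e₀⟩⟩, ?_⟩
  · haveI := (hQf i).2
    haveI : Module.Finite κ ((TwoTermLib.MinRep.fibre Q).X i) :=
      Module.Finite.equiv (DRingLib.extendScalarsEquiv (A := R) (B := κ) (Q.X i)).symm
    exact Module.Finite.equiv ((e i) ≪≫
      ((TwoTermLib.MinRep.fibre Q).isoHomologyπ (i - 1) i (by simp) (hz _ _)).symm ≪≫
      (TwoTermLib.MinRep.fibre Q).iCyclesIso i (i + 1) (by simp) (hz _ _)).symm.toLinearEquiv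
  · refine ModuleCat.subsingleton_of_isZero (IsZero.of_iso ?_ (e i))
    exact (HomologicalComplex.exactAt_iff_isZero_homology _ i).mp (ShortComplex.exact_of_isZero_X₂ _
      ((ModuleCat.extendScalars.{u, u, u} (IsLocalRing.residue R)).map_isZero (hQb i hi)))
  · rintro P P' ⟨⟨c, hc⟩, hP, ⟨eP⟩⟩ ⟨⟨c', hc'⟩, hP', ⟨eP'⟩⟩
    have hd : ∀ (X : DRing.Cx R) (d : ℤ), DRing.VanishesAbove X d → (∀ i : ℤ, Module.Free R (X.X i) ∧
        Module.Finite R (X.X i) ∧ Module.finrank R (X.X i) = Module.finrank κ (Dual.HD κ Kκ i)) →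
        (DRing.toD X ≅ K) → ∀ m n, m + 1 = n →
          (X.d m n).hom.baseChange (IsLocalRing.ResidueField R) = 0 := fun X d hXd hX eX =>
      TwoTermLib.MinRep.baseChange_d_eq_zero X (fun i => ⟨(hX i).1, (hX i).2.1⟩) fun i =>
        ((TwoTermLib.MinRep.HDIso (DRingLib.isKFlat_of_free X d hXd fun i => (hX i).1) eX
          i).toLinearEquiv.finrank_eq.symm).trans (hX i).2.2.symm
    exact TwoTermLib.MinRep.nonempty_iso P P' hc hc' (fun i => ⟨(hP i).1, (hP i).2.1⟩)
      (fun i => ⟨(hP' i).1, (hP' i).2.1⟩) (hd P c hc hP eP) (hd P' c' hc' hP' eP') (eP ≪≫ eP'.symm)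

end Groth.Agent.S6972
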