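import Groth.Statements.S6973
import Groth.Agent.LiftCxLib.Classes
import Groth.Agent.S0534

set_option autoImplicit false
set_option backward.isDefEq.respectTransparency false
set_option backward.isDefEq.respectTransparency.types false
universe u
open CategoryTheory CategoryTheory.Limits
attribute [local instance] HasDerivedCategory.standard
open DRing

namespace Groth.Agent.S6973

/-- Let (R, I) be a henselian pair such that the derived base change D(R) → D(R/I) exists, K a
pseudo-coherent object of D(R), and E a bounded above cochain complex of finite projective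
R/I-modules which is isomorphic in D(R/I) to K ⊗^L_R R/I. Then there is a bounded above cochain
complex P of finite projective R-modules, isomorphic to K in D(R), whose termwise reduction P ⊗_R
R/I is isomorphic to E as a complex, and such that P^i is free for every i for which E^i is free. -/
theorem result (R : Type u) [CommRing R]
    (I : Ideal R) [HenselianRing R I] [DRing.HasLBaseChange (Ideal.Quotient.mk I)] (K : Dual.D R)
    (hK : DRing.IsPseudoCoherent' R K) (E : DRing.Cx (R ⧸ I)) (b : ℤ) (hEb : DRing.VanishesAbove E b)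
    (hEp : DRing.TermwiseFiniteProjective E)
    (hE : Nonempty (DRing.toD E ≅ (DRing.LBaseChange (Ideal.Quotient.mk I)).obj K)) :
    ∃ (P : DRing.Cx R) (b' : ℤ), DRing.VanishesAbove P b' ∧ DRing.TermwiseFiniteProjective P ∧
      Nonempty (DRing.toD P ≅ K) ∧ Nonempty ((((ModuleCat.extendScalars (Ideal.Quotient.mk I)).mapHomologicalComplex (ComplexShape.up ℤ)).obj P) ≅ E) ∧
      ∀ i : ℤ, Module.Free (R ⧸ I) (E.X i) → Module.Free R (P.X i) := by
  obtain ⟨Q, c, hQb, hQf, hQe⟩ := hK
  have hI : I ≤ Ideal.jacobson (⊥ : Ideal R) := HenselianRing.jac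
  obtain ⟨P, b', h1, h2, h3, h4⟩ := LiftCxLib.exists_representative (LiftCxLib.cls_finProj hI)
    (fun X Y hX hY =>
      haveI := hX.1; haveI := hX.2; haveI := hY.1; haveI := hY.2
      ⟨inferInstanceAs (Module.Finite R ((↥X) × (↥Y))), inferInstanceAs (Module.Projective R ((↥X) × (↥Y)))⟩)
    K ⟨Q, c, hQb, fun i => ⟨(hQf i).1, haveI := (hQf i).2; inferInstance⟩, hQe⟩ E b hEb
    (fun i => by
      haveI := (hEp i).1
      haveI := (hEp i).2
      obtain ⟨X, hA, hM, hX₁, hX₂, ⟨l⟩⟩ := Groth.Agent.S0534.result R I (E.X i)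
      exact ⟨ModuleCat.of R X, ⟨hX₁, hX₂⟩, ⟨l⟩⟩) hE
  refine ⟨P, b', h1, h2, h3, h4, fun i hi => ?_⟩
  obtain ⟨e⟩ := h4
  haveI := (h2 i).1
  haveI := (h2 i).2
  exact LiftCxLib.free_of_extI_iso hI e i

end Groth.Agent.S6973
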