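import Groth.Statements.S6975
import Groth.Agent.TwoTermLib.Fibre

set_option autoImplicit false
universe u
open CategoryTheory CategoryTheory.Limits
attribute [local instance] HasDerivedCategory.standard
open DRing

namespace Groth.Agent.S6975

/-- Let R be a local commutative ring with residue field κ such that the derived base change D(R) → D(κ)
exists, and let K be a pseudo-coherent object of D(R). If there is an integer a with H^i(K ⊗^L_R κ)
= 0 for all i < a, then K is perfect. -/
theorem result (R : Type u) [CommRing R] [IsLocalRing R]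
    [DRing.HasLBaseChange (IsLocalRing.residue R)] (K : Dual.D R) (hK : DRing.IsPseudoCoherent' R K) (a : ℤ)
    (h : ∀ i : ℤ, i < a → Subsingleton (Dual.HD (IsLocalRing.ResidueField R)
      ((DRing.LBaseChange (IsLocalRing.residue R)).obj K) i)) :
    DRing.IsPerfect R K := by
  obtain ⟨P, b', hb, hP, ⟨e⟩⟩ := hK
  refine (Groth.Agent.TwoTermLib.Fibre.perfect_of_amp (a := a) (b := max b' a) hb (fun i => hP i)
    (Groth.Agent.TwoTermLib.Fibre.amp_of_fibres (fun i => hP i) fun m hm i hi => ?_) e).1
  obtain rfl := IsLocalRing.eq_maximalIdeal hm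
  refine ⟨IsLocalRing.ResidueField R, inferInstance, (IsLocalRing.residue R).toAlgebra,
    Ideal.Quotient.mk_surjective, Ideal.mk_ker, ?_⟩
  letI := (IsLocalRing.residue R).toAlgebra
  rcases hi with hi | hi
  · exact Groth.Agent.TwoTermLib.Fibre.fibreExact_of_subsingleton (IsLocalRing.residue R)
      (Groth.Agent.DRingLib.isKFlat_of_free P b' hb fun j => (hP j).2) e i (h i hi)
  · haveI : Subsingleton (P.X i) := ModuleCat.subsingleton_of_isZero (hb i (by omega))
    intro z
    exact ⟨fun _ => ⟨0, Subsingleton.elim _ _⟩, fun _ => by rw [Subsingleton.elim z 0, map_zero]⟩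

end Groth.Agent.S6975
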