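import Groth.Statements.S6978
import Groth.Agent.KoszOrthLib.Compact
import Groth.Agent.KoszOrthLib.Aff

set_option autoImplicit false
set_option backward.isDefEq.respectTransparency false
set_option backward.isDefEq.respectTransparency.types false
set_option backward.isDefEq.respectTransparency false
set_option backward.isDefEq.respectTransparency.types false
universe u
open CategoryTheory CategoryTheory.Limits
attribute [local instance] HasDerivedCategory.standard
open DRing

namespace Groth.Agent.KoszOrthLib

open CategoryTheory.Limits PerfCompLib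


theorem hasCoproducts_mod (R : Type u) [CommRing R] :
    HasCoproducts.{u} (DerivedCategory (ModuleCat.{u} R)) := fun J => ⟨fun F => by
  let P := fun j : J => DerivedCategory.Q.objPreimage (F.obj ⟨j⟩)
  exact ⟨⟨⟨_, (IsColimit.precomposeInvEquiv (Discrete.natIso fun i =>
    DerivedCategory.Q.objObjPreimageIso (F.obj i) : Discrete.functor (fun j => DerivedCategory.Q.obj (P j)) ≅ F)
      _).symm (KFlatLib.isColimit_Q_sigma P).some⟩⟩⟩⟩

theorem finFac_of_bijective {D : Type*} [Category D] [Preadditive D] {I : Type*} {M : I → D}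
    [HasCoproduct M] {C : D} (hC : Function.Bijective (CohDer.homSumToHomCoprod C M)) : FinFac M C := by
  classical
  intro f
  obtain ⟨x, rfl⟩ := hC.2 f
  induction x using DirectSum.induction_on with
  | zero => exact ⟨∅, by simp⟩
  | of j a =>
    refine ⟨{j}, ?_⟩
    simp [CohDer.homSumToHomCoprod, Preadditive.rightComp, PerfCompLib.ι_cut]
  | add x y hx hy =>
    obtain ⟨S, hS⟩ := hx
    obtain ⟨T, hT⟩ := hy
    refine ⟨S ∪ T, ?_⟩
    rw [map_add, Preadditive.add_comp, PerfCompLib.comp_cut_of_subset hS Finset.subset_union_left,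
      PerfCompLib.comp_cut_of_subset hT Finset.subset_union_right]

end Groth.Agent.KoszOrthLib

namespace Groth.Agent.S6978

open CategoryTheory.Limits AlgebraicGeometry Groth.Agent in
/-- Let R be a commutative ring and K an object of D(R). Then K is perfect if and only if K is a compact
object of D(R): for every family (E_i) of objects of D(R) indexed by a small type, the canonical map
from the direct sum of the Hom(K, E_i) to Hom(K, ⊕ E_i) is bijective. -/
theorem result (R : Type u) [CommRing R] (K : Dual.D R) :
    DRing.IsPerfect R K ↔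
      ∀ (I : Type u) (E : I → Dual.D R) [HasCoproduct fun i : ULift.{u + 1} I => E i.down],
        Function.Bijective (CohDer.homSumToHomCoprod K (fun i : ULift.{u + 1} I => E i.down)) := by
  classical
  let A : CommRingCat.{u} := CommRingCat.of R
  haveI : PreservesFiniteLimits (tilde.functor A) := HensSchLib.tilde_preservesFiniteLimits A
  let T := KoszOrthLib.tD R
  haveI : PreservesColimitsOfSize.{u + 1, u + 1} T := (TildeDerLib.adjD A).leftAdjoint_preservesColimits
  haveI := KoszOrthLib.hasCoproducts_D (Spec A)
  haveI : PreservesColimitsOfSize.{u, u} T := (TildeDerLib.adjD A).leftAdjoint_preservesColimits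
  haveI : CompactSpace ↥(Spec A) := inferInstance
  constructor
  · intro hK I E _
    refine PerfCompLib.bijective_of_finFac fun f => ?_
    let X := fun i : I => T.obj (E i)
    haveI : HasCoproduct fun i : ULift.{u + 1} I => T.obj (E i.down) :=
      ⟨⟨⟨_, PerfCompLib.isColimitULift (Cofan.mk (∐ X) (Sigma.ι X)) (coproductIsCoproduct X)⟩⟩⟩
    let X' := fun i : ULift.{u + 1} I => T.obj (E i.down)
    let c := PreservesCoproduct.iso T (fun i : ULift.{u + 1} I => E i.down)
    obtain ⟨S, hS⟩ := KoszOrthLib.finFac_ulift_of_isQCohD (TildePCLib.isPerfect_tildeD hK) I X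
      (fun i => TildeDerLib.isQCohD_tildeD A (E i)) (T.map f ≫ c.hom)
    refine ⟨S, T.map_injective ?_⟩
    have hc : T.map (PerfCompLib.cut (fun i : ULift.{u + 1} I => E i.down) S) ≫ c.hom =
        c.hom ≫ PerfCompLib.cut X' S := by
      rw [← cancel_epi c.inv, Iso.inv_hom_id_assoc]
      refine Sigma.hom_ext _ _ fun i => ?_
      simp only [c, PreservesCoproduct.inv_hom, ι_comp_sigmaComparison_assoc, ← Functor.map_comp_assoc,
        PerfCompLib.ι_cut]
      erw [PerfCompLib.ι_cut X' S i]
      by_cases hi : i ∈ S
      · rw [if_pos hi, if_pos hi, ← ι_comp_sigmaComparison, Category.assoc, ← PreservesCoproduct.inv_hom,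
          Iso.inv_hom_id, Category.comp_id]
      · rw [if_neg hi, if_neg hi, Functor.map_zero, zero_comp]
    rw [← cancel_mono c.hom, Functor.map_comp, Category.assoc, hc, ← Category.assoc]
    exact hS
  · intro hc
    refine TildePCLib.isPerfect_of_tildeD ((KoszOrthLib.isCompactObjRel_iff (X := Spec A) (T := Set.univ)
      isClosed_univ (fun O _ _ => by rw [Set.compl_univ, Set.empty_inter]; exact isCompact_empty)
      ⟨TildeDerLib.isQCohD_tildeD A K, fun i x _ => Set.mem_univ x⟩).1 fun I X _ hX => ?_)
    refine KoszOrthLib.bijective_of_finFac' fun f => ?_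
    choose M eM using fun i => (TildeDerLib.isQCohD_iff A (X i)).1 (hX i).1
    haveI := KoszOrthLib.hasCoproducts_mod R
    let e : T.obj (∐ M) ≅ ∐ X := PreservesCoproduct.iso T M ≪≫ Sigma.mapIso fun i => (eM i).some
    haveI : HasCoproduct fun i : ULift.{u + 1} I => M i.down :=
      ⟨⟨⟨_, PerfCompLib.isColimitULift (Cofan.mk (∐ M) (Sigma.ι M)) (coproductIsCoproduct M)⟩⟩⟩
    obtain ⟨g, hg⟩ := T.map_surjective (f ≫ e.inv)
    obtain ⟨S, hS⟩ := KoszOrthLib.finFac_of_ulift M
      (KoszOrthLib.finFac_of_bijective (hc I M)) g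
    refine ⟨S, ?_⟩
    have he : e.inv ≫ T.map (PerfCompLib.cut M S) ≫ e.hom = PerfCompLib.cut X S := by
      refine Sigma.hom_ext _ _ fun i => ?_
      have hi : ∀ j, Sigma.ι X j ≫ e.inv = (eM j).some.inv ≫ T.map (Sigma.ι M j) := fun j => by
        simp [e, PreservesCoproduct.inv_hom, ι_comp_sigmaComparison]
      have hj : ∀ j, T.map (Sigma.ι M j) ≫ e.hom = (eM j).some.hom ≫ Sigma.ι X j := fun j => by
        rw [← cancel_mono e.inv, Category.assoc, Category.assoc, Iso.hom_inv_id, Category.comp_id, hi,
          Iso.hom_inv_id_assoc]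
      rw [reassoc_of% (hi i), ← Functor.map_comp_assoc, PerfCompLib.ι_cut, PerfCompLib.ι_cut]
      split_ifs
      · rw [hj, Iso.inv_hom_id_assoc]
      · simp
    rw [← he, ← Category.assoc f, ← hg, ← Functor.map_comp_assoc, hS, hg, Category.assoc,
      Iso.inv_hom_id, Category.comp_id]

end Groth.Agent.S6978
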