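import Groth.Statements.S6980
import Groth.Agent.TwoTermLib.CRT
import Groth.Agent.TwoTermLib.RelAmp
import Groth.Agent.DRingLib.LBaseChange

set_option autoImplicit false
universe u
open CategoryTheory CategoryTheory.Limits
attribute [local instance] HasDerivedCategory.standard
open DRing

namespace Groth.Agent.S6980

/-- Let R be a commutative ring, I and J ideals of R such that the derived base changes D(R) → D(R/I),
D(R/J), D(R/IJ) exist, and K an object of D(R). If K ⊗^L_R R/I is perfect in D(R/I) and K ⊗^L_R R/J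
is perfect in D(R/J), then K ⊗^L_R R/IJ is perfect in D(R/IJ). -/
theorem result (R : Type u) [CommRing R] (I J : Ideal R)
    [DRing.HasLBaseChange (Ideal.Quotient.mk I)] [DRing.HasLBaseChange (Ideal.Quotient.mk J)]
    [DRing.HasLBaseChange (Ideal.Quotient.mk (I * J))] (K : Dual.D R)
    (hI : DRing.IsPerfect (R ⧸ I) ((DRing.LBaseChange (Ideal.Quotient.mk I)).obj K))
    (hJ : DRing.IsPerfect (R ⧸ J) ((DRing.LBaseChange (Ideal.Quotient.mk J)).obj K)) :
    DRing.IsPerfect (R ⧸ (I * J)) ((DRing.LBaseChange (Ideal.Quotient.mk (I * J))).obj K) := by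
  obtain ⟨P, hP, ⟨e⟩⟩ := DRingLib.exists_good_rep K
  let π := Ideal.Quotient.mk (I * J)
  let φ := Ideal.Quotient.factor (Ideal.mul_le_left : I * J ≤ I)
  let ψ := Ideal.Quotient.factor (Ideal.mul_le_right : I * J ≤ J)
  have hφ : Ideal.Quotient.mk I = φ.comp π := (Ideal.Quotient.factor_comp_mk _).symm
  have hψ : Ideal.Quotient.mk J = ψ.comp π := (Ideal.Quotient.factor_comp_mk _).symm
  have h0 : RingHom.ker φ * RingHom.ker ψ = ⊥ := by
    rw [Ideal.Quotient.factor_ker, Ideal.Quotient.factor_ker, ← Ideal.map_mul, Ideal.map_quotient_self]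
  have iso : ∀ {A B : Type u} [CommRing A] [CommRing B] {f : A →+* B} {K K' : Dual.D B},
      (K ≅ K') → DRing.IsPerfect B K → DRing.IsPerfect B K' := by
    rintro A B _ _ f K K' i ⟨E, a, b, h₁, h₂, ⟨j⟩⟩
    exact ⟨E, a, b, h₁, h₂, ⟨j ≪≫ i⟩⟩
  have base : ∀ {B : Type u} [CommRing B] (χ : (R ⧸ I * J) →+* B) (χ' : R →+* B)
      (h : χ' = χ.comp π) [DRing.HasLBaseChange χ'],
      DRing.IsPerfect B ((DRing.LBaseChange χ').obj K) →
      DRing.IsPerfect B (DerivedCategory.Q.obj
        ((DRingLib.extCx χ).obj ((DRingLib.extCx π).obj P))) := fun χ χ' h _ hB =>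
    iso (f := χ) ((DRing.LBaseChange χ').mapIso e.symm ≪≫ DRingLib.lBaseChangeObjIso χ' P hP.1 ≪≫
      DerivedCategory.Q.mapIso (TwoTermLib.RelAmp.extCompIso π χ h P).symm) hB
  have := TwoTermLib.CRT.perfect_pair φ (Ideal.Quotient.factor_surjective _) ψ
    (Ideal.Quotient.factor_surjective _) h0 ((DRingLib.extCx π).obj P)
    (KFlatLib.isKFlat_extend π hP.1) (fun n => DRingLib.flat_extCx π n (hP.2 n))
    (base φ _ hφ hI) (base ψ _ hψ hJ)
  exact iso (f := π) ((DRingLib.lBaseChangeObjIso π P hP.1).symm ≪≫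
    (DRing.LBaseChange π).mapIso e) this

end Groth.Agent.S6980
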