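import Groth.Statements.S6981
import Groth.Agent.TwoTermLib.Restr

set_option autoImplicit false
universe u
open CategoryTheory CategoryTheory.Limits
attribute [local instance] HasDerivedCategory.standard
open DRing

namespace Groth.Agent.S6981

/-- Let R be a commutative ring, K an object of D(R), m an integer, and R[x] → R the R-algebra
homomorphism sending x to 0. Then K is m-pseudo-coherent over R if and only if K, regarded as an
object of D(R[x]) by restriction of scalars along this map, is m-pseudo-coherent over R[x]. -/
theorem result (R : Type u) [CommRing R] (K : Dual.D R)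
    (m : ℤ) :
    DRing.IsPseudoCoherent R m K ↔
      DRing.IsPseudoCoherent (Polynomial R) m ((DRing.restrictD (Polynomial.evalRingHom (0 : R))).obj K) := by
  letI : Algebra (Polynomial R) R := (Polynomial.evalRingHom (0 : R)).toAlgebra
  refine Groth.Agent.TwoTermLib.Restr.isPseudoCoherent_G_iff (A := Polynomial R) (B := R) ?_ K m
  let X' : ModuleCat.{u} (Polynomial R) := ModuleCat.of (Polynomial R) (Polynomial R)
  let f : X' ⟶ X' := ModuleCat.ofHom (LinearMap.mul (Polynomial R) (Polynomial R) Polynomial.X)
  let g : X' ⟶ ModuleCat.of (Polynomial R) R :=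
    ModuleCat.ofHom (Algebra.linearMap (Polynomial R) R)
  let S : ShortComplex (ModuleCat.{u} (Polynomial R)) := ShortComplex.mk f g (by
    apply ModuleCat.hom_ext
    refine LinearMap.ext fun p => ?_
    exact (Polynomial.eval_mul (x := (0 : R)) (p := Polynomial.X) (q := p)).trans
      (by rw [Polynomial.eval_X, zero_mul]; rfl))
  have hS : S.ShortExact := by
    refine { exact := ?_, mono_f := ?_, epi_g := ?_ }
    · rw [ShortComplex.moduleCat_exact_iff]
      intro p (hp : Polynomial.eval 0 p = 0)
      obtain ⟨q, rfl⟩ := (Polynomial.X_dvd_iff.2 (by rwa [Polynomial.coeff_zero_eq_eval_zero]) : Polynomial.X ∣ p)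
      exact ⟨q, rfl⟩
    · exact (ModuleCat.mono_iff_injective f).2 fun p q h => (Polynomial.monic_X (R := R)).isRegular.left h
    · exact (ModuleCat.epi_iff_surjective g).2 fun r => ⟨Polynomial.C r, Polynomial.eval_C⟩
  refine Groth.Agent.DRingLib.isPseudoCoherent'_iff_forall.2 fun n => ?_
  have hfree : ∀ k : ℤ, DRing.IsPseudoCoherent (Polynomial R) k (Dual.inD (Polynomial R) (Polynomial R)) := fun k =>
    Groth.Agent.DRingLib.isPseudoCoherent_of_iso
      ((DerivedCategory.singleFunctorIsoCompQ (ModuleCat.{u} (Polynomial R)) 0).app X').symm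
      (Groth.Agent.DRingLib.isPseudoCoherent_bddFree
        (E := (HomologicalComplex.single (ModuleCat.{u} (Polynomial R)) (ComplexShape.up ℤ) 0).obj X')
        ⟨0, 0, fun i hi => HomologicalComplex.isZero_single_obj_X _ _ _ _ (by omega), fun i => by
          by_cases hi : i = 0
          · subst hi
            exact ⟨Module.Finite.equiv
                (HomologicalComplex.singleObjXSelf (ComplexShape.up ℤ) 0 X').toLinearEquiv.symm,
              Module.Free.of_equiv
                (HomologicalComplex.singleObjXSelf (ComplexShape.up ℤ) 0 X').toLinearEquiv.symm⟩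
          · exact ⟨Groth.Agent.DRingLib.finite_of_isZero (HomologicalComplex.isZero_single_obj_X _ _ _ _ hi),
              Groth.Agent.DRingLib.free_of_isZero (HomologicalComplex.isZero_single_obj_X _ _ _ _ hi)⟩⟩ k)
  exact Groth.Agent.DRingLib.isPseudoCoherent_obj₃ _ hS.singleTriangle_distinguished n
    (hfree _) (hfree _)

end Groth.Agent.S6981
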