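import Groth.Statements.S6988
import Groth.Agent.DRingLib.ProjAmplitude

set_option autoImplicit false
universe u
open CategoryTheory CategoryTheory.Limits
attribute [local instance] HasDerivedCategory.standard
open DRing

namespace Groth.Agent.S6988

/-- Let R be a commutative ring, K a pseudo-coherent object of D(R) and i an integer. Then some finitely
presented R-module M admits a morphism K → M[-i] in D(R) that is injective on H^i (here H^i(M[-i]) =
M). -/
theorem result (R : Type u) [CommRing R] (K : Dual.D R)
    (hK : DRing.IsPseudoCoherent' R K) (i : ℤ) :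
    ∃ (M : Type u) (_ : AddCommGroup M) (_ : Module R M) (_ : Module.FinitePresentation R M)
      (f : K ⟶ (shiftFunctor (Dual.D R) (-i)).obj (Dual.inD R M)),
      Mono ((DerivedCategory.homologyFunctor (ModuleCat.{u} R) i).map f) := by
  obtain ⟨E, b, hb, hff, ⟨eK⟩⟩ := hK
  let M := E.opcycles i
  have hM : Module.FinitePresentation R M := by
    have := (hff i).1
    have := (hff i).2
    have := (hff (i - 1)).1
    have : Module.FinitePresentation R (E.X i) := Module.finitePresentation_of_projective R _
    have hFP : Module.FinitePresentation R (E.X i ⧸ LinearMap.range (E.d (i - 1) i).hom) := by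
      refine Module.finitePresentation_of_surjective _ (Submodule.mkQ_surjective _) ?_
      rw [Submodule.ker_mkQ, LinearMap.range_eq_map]
      exact Submodule.FG.map _ Module.Finite.fg_top
    exact Module.FinitePresentation.of_equiv
      ((E.opcyclesIsCokernel (i - 1) i (by simp)).coconePointUniqueUpToIso (colimit.isColimit _) ≪≫
        ModuleCat.cokernelIsoRangeQuotient (E.d (i - 1) i)).toLinearEquiv.symm
  let f : E ⟶ (HomologicalComplex.single (ModuleCat.{u} R) (ComplexShape.up ℤ) i).obj M :=
    HomologicalComplex.mkHomToSingle (E.pOpcycles i) (fun j hj => E.d_pOpcycles j i)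
  have hmono : Mono (HomologicalComplex.homologyMap f i) := by
    have h : HomologicalComplex.homologyMap f i ≫
        (HomologicalComplex.singleObjHomologySelfIso (ComplexShape.up ℤ) i M).hom = E.homologyι i := by
      rw [← cancel_epi (E.homologyπ i), HomologicalComplex.homologyπ_naturality_assoc,
        HomologicalComplex.homologyπ_singleObjHomologySelfIso_hom,
        HomologicalComplex.singleObjCyclesSelfIso_hom, HomologicalComplex.cyclesMap_i_assoc,
        HomologicalComplex.homology_π_ι, HomologicalComplex.mkHomToSingle_f, Category.assoc,
        Iso.inv_hom_id, Category.comp_id]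
    have : Mono (HomologicalComplex.homologyMap f i ≫
        (HomologicalComplex.singleObjHomologySelfIso (ComplexShape.up ℤ) i M).hom) := by
      rw [h]
      infer_instance
    exact mono_of_mono _ (HomologicalComplex.singleObjHomologySelfIso (ComplexShape.up ℤ) i M).hom
  have hmono' : Mono ((DRingLib.Hn R i).map (DerivedCategory.Q.map f)) := by
    let e := DerivedCategory.homologyFunctorFactors (ModuleCat.{u} R) i
    exact ((MorphismProperty.monomorphisms _).arrow_mk_iso_iff
      (Arrow.isoMk (e.app _) (e.app _) (e.hom.naturality f).symm)).mpr hmono
  refine ⟨M, inferInstance, inferInstance, hM, eK.inv ≫ DerivedCategory.Q.map f ≫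
    (((DerivedCategory.singleFunctorIsoCompQ (ModuleCat.{u} R) i).app M).symm ≪≫
      (DRingLib.singleShiftIso M i).symm).hom, ?_⟩
  rw [Functor.map_comp, Functor.map_comp]
  infer_instance

end Groth.Agent.S6988
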