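import Groth.Statements.S6989
import Groth.Agent.TwoTermLib.Amp
import Groth.Agent.DRingLib.PCohMore

set_option autoImplicit false
universe u
open CategoryTheory CategoryTheory.Limits
attribute [local instance] HasDerivedCategory.standard
open DRing

namespace Groth.Agent.S6989

/-- Let A be a Noetherian commutative ring, K an object of D(A) whose cohomology vanishes in large
degrees and whose cohomology modules are all finitely generated, m a maximal ideal of A and i an
integer such that m H^i(K) ≠ H^i(K). Then some finitely generated A-module E killed by a power of m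
receives a morphism K → E[-i] in D(A) whose induced map H^i(K) → H^i(E[-i]) is nonzero. -/
theorem result (A : Type u) [CommRing A]
    [IsNoetherianRing A] (K : Dual.D A) (hb : ∃ b : ℤ, ∀ j : ℤ, b < j → Subsingleton (Dual.HD A K j))
    (hfin : ∀ j : ℤ, Module.Finite A (Dual.HD A K j)) (m : Ideal A) [m.IsMaximal] (i : ℤ)
    (hi : m • (⊤ : Submodule A (Dual.HD A K i)) ≠ ⊤) :
    ∃ (E : Type u) (_ : AddCommGroup E) (_ : Module A E) (_ : Module.Finite A E) (n : ℕ)
      (_ : m ^ n • (⊤ : Submodule A E) = ⊥) (f : K ⟶ (shiftFunctor (Dual.D A) (-i)).obj (Dual.inD A E)),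
      (DerivedCategory.homologyFunctor (ModuleCat.{u} A) i).map f ≠ 0 := by
  obtain ⟨b, hb⟩ := hb
  have hpc : DRing.IsPseudoCoherent' A K :=
    Groth.Agent.DRingLib.isPseudoCoherent'_iff_forall.2 fun m' =>
      Groth.Agent.DRingLib.isPseudoCoherent_of_finite_noetherian
        (b := b) (fun j hj => @ModuleCat.isZero_of_subsingleton _ _ _ (hb j hj)) fun j _ => hfin j
  obtain ⟨P, b', hPb, hPf, ⟨e⟩⟩ := hpc
  haveI := Groth.Agent.DRingLib.isKProjective_of_free P b' hPb fun j => (hPf j).2
  have : Module.Finite A (P.X i) := (hPf i).1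
  let d0 := (P.d (i - 1) i).hom
  let Z : Submodule A (P.X i) := LinearMap.range (P.iCycles i).hom
  obtain ⟨k, hk⟩ := Ideal.exists_pow_inf_eq_pow_smul m Z
  let S : Submodule A (P.X i) := LinearMap.range d0 ⊔ m ^ (k + 1) • ⊤
  let π : P.X i ⟶ ModuleCat.of A (P.X i ⧸ S) := ModuleCat.ofHom S.mkQ
  have hπ : ∀ j, j + 1 = i → P.d j i ≫ π = 0 := by
    intro j hj
    obtain rfl : j = i - 1 := by omega
    apply ModuleCat.hom_ext
    ext y
    exact (Submodule.Quotient.mk_eq_zero _).2 (Submodule.mem_sup_left ⟨y, rfl⟩)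
  have hE : m ^ (k + 1) • (⊤ : Submodule A (P.X i ⧸ S)) = ⊥ := by
    rw [← Submodule.range_mkQ S, LinearMap.range_eq_map, ← Submodule.map_smul'',
      ← le_bot_iff, Submodule.map_le_iff_le_comap, Submodule.comap_bot, Submodule.ker_mkQ]
    exact le_sup_right
  refine ⟨P.X i ⧸ S, inferInstance, inferInstance, inferInstance, k + 1, hE,
    e.inv ≫ DerivedCategory.Q.map (Groth.Agent.TwoTermLib.toSn π hπ) ≫
      (Groth.Agent.TwoTermLib.eSn i (ModuleCat.of A (P.X i ⧸ S))).inv, fun h0 => ?_⟩
  let F := Groth.Agent.TwoTermLib.toSn π hπ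
  have h1 : (DerivedCategory.homologyFunctor (ModuleCat.{u} A) i).map
      (DerivedCategory.Q.map F) = 0 := by
    rw [← cancel_mono ((DerivedCategory.homologyFunctor (ModuleCat.{u} A) i).map
      (Groth.Agent.TwoTermLib.eSn i (ModuleCat.of A (P.X i ⧸ S))).inv),
      ← cancel_epi ((DerivedCategory.homologyFunctor (ModuleCat.{u} A) i).map e.inv),
      Limits.zero_comp, Limits.comp_zero, ← Functor.map_comp, ← Functor.map_comp]
    exact h0
  have h2 : HomologicalComplex.homologyMap F i = 0 := by
    have := (DerivedCategory.homologyFunctorFactors (ModuleCat.{u} A) i).hom.naturality F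
    simp only [Functor.comp_map, h1, Limits.zero_comp] at this
    exact (cancel_epi ((DerivedCategory.homologyFunctorFactors (ModuleCat.{u} A) i).hom.app P)).1
      (this.symm.trans Limits.comp_zero.symm)
  have h3 : ∀ z, π (P.iCycles i z) = 0 := by
    intro z
    haveI : IsIso ((Groth.Agent.TwoTermLib.Sn i (ModuleCat.of A (P.X i ⧸ S))).homologyπ i) :=
      HomologicalComplex.isIso_homologyπ _ (i - 1) i (by simp) (HomologicalComplex.single_obj_d ..)
    have h4 : HomologicalComplex.cyclesMap F i = 0 := by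
      rw [← cancel_mono ((Groth.Agent.TwoTermLib.Sn i (ModuleCat.of A (P.X i ⧸ S))).homologyπ i),
        Limits.zero_comp, ← HomologicalComplex.homologyπ_naturality, h2, Limits.comp_zero]
    have h5 : P.iCycles i ≫ π = 0 := by
      rw [← cancel_mono (HomologicalComplex.singleObjXSelf (ComplexShape.up ℤ) i
        (ModuleCat.of A (P.X i ⧸ S))).inv, Limits.zero_comp, Category.assoc]
      rw [← Groth.Agent.TwoTermLib.toSn_f π hπ, ← HomologicalComplex.cyclesMap_i]
      exact (eq_whisker h4 _).trans Limits.zero_comp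
    exact congrArg (fun g => (ConcreteCategory.hom g) z) h5
  apply hi
  rw [eq_top_iff]
  rintro x -
  let eH := (PQLib.homologyIso e i).toLinearEquiv
  obtain ⟨z, hz⟩ := (ModuleCat.epi_iff_surjective (P.homologyπ i)).1 inferInstance (eH x)
  have hz' := (Submodule.Quotient.mk_eq_zero _).1 (h3 z)
  obtain ⟨_, ⟨y, rfl⟩, w, hw, hyw⟩ := Submodule.mem_sup.1 hz'
  let t := P.toCycles (i - 1) i y
  have ht : P.iCycles i t = d0 y := by
    rw [← ModuleCat.comp_apply, HomologicalComplex.toCycles_i]
  have hwZ : w ∈ Z := by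
    refine ⟨z - t, ?_⟩
    rw [map_sub]
    exact (congrArg _ ht).trans (sub_eq_iff_eq_add.2 (hyw.symm.trans (add_comm _ _)))
  have hwm : w ∈ m • Z := by
    have h6 : w ∈ m ^ (k + 1) • ⊤ ⊓ Z := ⟨hw, hwZ⟩
    rw [hk (k + 1) (Nat.le_succ k), Nat.add_sub_cancel_left, pow_one] at h6
    exact Submodule.smul_mono le_rfl inf_le_right h6
  rw [show Z = Submodule.map (P.iCycles i).hom ⊤ from LinearMap.range_eq_map _,
    ← Submodule.map_smul''] at hwm
  obtain ⟨v, hv, rfl⟩ := hwm
  have hzt : z = t + v := Groth.Agent.TwoTermLib.iCycles_injective P i (by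
    rw [map_add, ht]
    exact hyw.symm)
  have h7 : eH x ∈ m • (⊤ : Submodule A (P.homology i)) := by
    rw [← hz, hzt, map_add]
    refine Submodule.add_mem _ ?_ ?_
    · rw [show P.homologyπ i t = 0 by
        rw [← ModuleCat.comp_apply, HomologicalComplex.toCycles_comp_homologyπ]; rfl]
      exact Submodule.zero_mem _
    · have := Submodule.mem_map_of_mem (f := (P.homologyπ i).hom) hv
      rw [Submodule.map_smul''] at this
      exact Submodule.smul_mono le_rfl le_top this
  have := Submodule.mem_map_of_mem (f := eH.symm.toLinearMap) h7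
  rw [Submodule.map_smul''] at this
  rw [show eH.symm.toLinearMap (eH x) = x from eH.symm_apply_apply x] at this
  exact Submodule.smul_mono le_rfl le_top this

end Groth.Agent.S6989
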