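import Groth.Statements.S6990
import Groth.Agent.DRingLib.ProjAmplitude

set_option autoImplicit false
universe u
open CategoryTheory CategoryTheory.Limits
attribute [local instance] HasDerivedCategory.standard
open DRing

namespace Groth.Agent.S6990

open CategoryTheory.Pretriangulated in
/-- Let R be a commutative ring, a, b integers, L an object of D(R) isomorphic to a complex of
projective R-modules vanishing outside [a, b], and K an object of D(R). (1) If H^i(K) = 0 for all i
≥ a, then every morphism L → K in D(R) is zero. (2) If H^i(K) = 0 for all i ≥ a + 1, then for every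
distinguished triangle K → M → L → K[1] there is an isomorphism M ≅ K ⊕ L carrying K → M to the
first inclusion and whose composite with the second projection is M → L. -/
theorem result (R : Type u) [CommRing R] (a b : ℤ)
    (L : Dual.D R) (hL : ∃ P : DRing.Cx R, DRing.VanishesOutside P a b ∧ (∀ i : ℤ, Module.Projective R (P.X i)) ∧
      Nonempty (DRing.toD P ≅ L)) (K : Dual.D R) :
    ((∀ i : ℤ, a ≤ i → Subsingleton (Dual.HD R K i)) → Subsingleton (L ⟶ K)) ∧
      ((∀ i : ℤ, a + 1 ≤ i → Subsingleton (Dual.HD R K i)) → ∀ (T : Triangle (Dual.D R)), T ∈ distinguishedTriangles →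
        T.obj₁ = K → T.obj₃ = L → ∀ [HasBinaryBiproduct T.obj₁ T.obj₃],
          ∃ e : T.obj₂ ≅ T.obj₁ ⊞ T.obj₃, T.mor₁ ≫ e.hom = biprod.inl ∧ e.hom ≫ biprod.snd = T.mor₂) := by
  obtain ⟨P, hP, hproj, ⟨e⟩⟩ := hL
  have := DRingLib.isKProjective_of_projective P b (fun i hi => hP i (Or.inr hi)) hproj
  have key : ∀ C : Dual.D R, (∀ i, a ≤ i → IsZero ((DRingLib.Hn R i).obj C)) → ∀ g : L ⟶ C, g = 0 := by
    intro C hC g
    have h0 : e.hom ≫ g = 0 :=
      DRingLib.hom_eq_zero a (fun i hi => hP i (Or.inl hi)) hC (e.hom ≫ g)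
    exact zero_of_epi_comp e.hom h0
  refine ⟨fun h => ⟨fun f g => ?_⟩, fun h T hT h₁ h₃ => ?_⟩
  · have hz : ∀ i, a ≤ i → IsZero ((DRingLib.Hn R i).obj K) := fun i hi =>
      have : Subsingleton (Dual.HD R K i) := h i hi
      ModuleCat.isZero_of_subsingleton _
    rw [key K hz f, key K hz g]
  · intro _
    subst h₁ h₃
    have h0 : T.mor₃ = 0 := key _ (fun i hi => by
      have : Subsingleton (Dual.HD R T.obj₁ (i + 1)) := h (i + 1) (by omega)
      exact (ModuleCat.isZero_of_subsingleton (ModuleCat.of R (Dual.HD R T.obj₁ (i + 1)))).of_iso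
        (((DerivedCategory.homologyFunctor (ModuleCat.{u} R) 0).shiftIso 1 i (i + 1) (by omega)).app
          T.obj₁)) T.mor₃
    obtain ⟨f, hf₁, hf₂⟩ := Pretriangulated.exists_iso_binaryBiproduct_of_distTriang T hT h0
    exact ⟨f, hf₁, hf₂.symm⟩

end Groth.Agent.S6990
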