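import Groth.Statements.S6995
import Groth.Agent.TwoTermLib.GlDim

set_option autoImplicit false
universe u
open CategoryTheory CategoryTheory.Limits
attribute [local instance] HasDerivedCategory.standard
open DRing

namespace Groth.Agent.S6995

/-- Let R be a Noetherian regular commutative ring of finite Krull dimension d ≥ 1, K a perfect object
of D(R) and k an integer such that H^i(K) = 0 for every i with k - d + 2 ≤ i ≤ k. Then K splits in
D(R) as the direct sum of its canonical truncations: there is an isomorphism K ≅ τ_(≤ k-d+1) K ⊕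
τ_(≥ k+1) K under which the truncation map τ_(≤ k-d+1) K → K becomes the first inclusion and K →
τ_(≥ k+1) K the second projection. -/
theorem result (R : Type u) [CommRing R] [IsNoetherianRing R]
    (hreg : ∀ p : PrimeSpectrum R, IsRegularLocalRing (Localization.AtPrime p.asIdeal)) (d : ℕ) (hd1 : 1 ≤ d)
    (hd : ringKrullDim R = d) (K : Dual.D R) (hK : DRing.IsPerfect R K) (k : ℤ)
    (hgap : ∀ i : ℤ, k - d + 2 ≤ i → i ≤ k → Subsingleton (Dual.HD R K i))
    [HasBinaryBiproduct
      (((DerivedCategory.TStructure.t : Triangulated.TStructure (Dual.D R)).truncLT (k - d + 2)).obj K)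
      (((DerivedCategory.TStructure.t : Triangulated.TStructure (Dual.D R)).truncGE (k + 1)).obj K)] :
    ∃ e : K ≅
      ((DerivedCategory.TStructure.t : Triangulated.TStructure (Dual.D R)).truncLT (k - d + 2)).obj K ⊞
        ((DerivedCategory.TStructure.t : Triangulated.TStructure (Dual.D R)).truncGE (k + 1)).obj K,
      ((DerivedCategory.TStructure.t : Triangulated.TStructure (Dual.D R)).truncLTι (k - d + 2)).app K ≫ e.hom =
          biprod.inl ∧
        e.hom ≫ biprod.snd =
          ((DerivedCategory.TStructure.t : Triangulated.TStructure (Dual.D R)).truncGEπ (k + 1)).app K := by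
  let t : Triangulated.TStructure (Dual.D R) := DerivedCategory.TStructure.t
  obtain ⟨E, a, b, hv, hE, ⟨eE⟩⟩ := hK
  haveI hGl : t.IsGE ((t.truncGE (k + 1)).obj K) (k - d + 2) :=
    haveI := t.isGE_truncGE_obj K (k + 1) (k + 1) le_rfl
    t.isGE_of_ge _ (k - d + 2) (k + 1) (by omega)
  let u := t.descTruncGE ((t.truncGEπ (k + 1)).app K) (k - d + 2)
  have hu : IsIso u := by
    refine Groth.Agent.TwoTermLib.isIso_descTruncGE _ _ fun i hi => ?_
    by_cases hin : k + 1 ≤ i
    · exact Groth.Agent.TwoTermLib.isIso_Hn_truncGEπ K (k + 1) i hin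
    · haveI : DerivedCategory.IsGE ((t.truncGE (k + 1)).obj K) (k + 1) :=
        t.isGE_truncGE_obj K (k + 1) (k + 1) le_rfl
      exact (@ModuleCat.isZero_of_subsingleton _ _ _ (hgap i hi (by omega))).isIso
        (DerivedCategory.isZero_of_isGE _ (k + 1) i (by omega)) _
  have hδ : inv u ≫ (t.truncGEδLT (k - d + 2)).app K = 0 := by
    refine Groth.Agent.TwoTermLib.GlDim.hom_eq_zero d
      (Groth.Agent.TwoTermLib.GlDim.hasProjectiveDimensionLT_of_regular hreg d hd.le) (max b k) k
      (fun i hi => ?_) (fun i hi => ?_) ?_ _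
    · haveI := Groth.Agent.TwoTermLib.isIso_Hn_truncGEπ K (k + 1) i (by omega)
      exact ((Groth.Agent.DRingLib.isZero_Hn_Q E i (hv i (Or.inr (by omega)))).of_iso
        ((Groth.Agent.DRingLib.Hn R i).mapIso eE.symm)).of_iso
        (asIso ((Groth.Agent.DRingLib.Hn R i).map ((t.truncGEπ (k + 1)).app K))).symm
    · haveI : DerivedCategory.IsGE ((t.truncGE (k + 1)).obj K) (k + 1) :=
        t.isGE_truncGE_obj K (k + 1) (k + 1) le_rfl
      exact DerivedCategory.isZero_of_isGE _ (k + 1) i (by omega)
    · haveI := t.isLE_truncLT_obj K (k - d + 2) (k - d + 1)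
      exact t.isLE_shift ((t.truncLT (k - d + 2)).obj K) (k - d + 1) 1 (k - d) (by omega)
  let T := Pretriangulated.Triangle.mk ((t.truncLTι (k - d + 2)).app K) ((t.truncGEπ (k + 1)).app K)
    (inv u ≫ (t.truncGEδLT (k - d + 2)).app K)
  have hT : T ∈ Pretriangulated.distinguishedTriangles := by
    refine Pretriangulated.isomorphic_distinguished _ (t.triangleLTGE_distinguished (k - d + 2) K) _
      (Pretriangulated.Triangle.isoMk _ _ (Iso.refl _) (Iso.refl _) (asIso u).symm ?_ ?_ ?_)
    · exact (Category.comp_id _).trans (Category.id_comp _).symm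
    · show (t.truncGEπ (k + 1)).app K ≫ inv u = 𝟙 K ≫ (t.truncGEπ (k - d + 2)).app K
      rw [Category.id_comp, IsIso.comp_inv_eq, t.π_descTruncGE]
    · show (inv u ≫ (t.truncGEδLT (k - d + 2)).app K) ≫ (𝟙 ((t.truncLT (k - d + 2)).obj K))⟦(1 : ℤ)⟧' =
        inv u ≫ (t.truncGEδLT (k - d + 2)).app K
      simp
  obtain ⟨f, hf1, hf2⟩ := Pretriangulated.exists_iso_binaryBiproduct_of_distTriang T hT hδ
  exact ⟨f, hf1, hf2.symm⟩

end Groth.Agent.S6995
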