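import Groth.Statements.S6999
import Groth.Agent.TwoTermLib.FiltColHom

set_option autoImplicit false
universe u
open CategoryTheory CategoryTheory.Limits
attribute [local instance] HasDerivedCategory.standard
open DRing

namespace Groth.Agent.S6999

/-- Let R be a commutative ring, m an integer, K an m-pseudo-coherent object of D(R), and (M_j) a
diagram of R-modules over a small filtered category with colimit cocone M. Then the canonical map
colim_j Hom(K, M_j[n]) → Hom(K, M[n]) in D(R) is bijective for n < -m and injective for n = -m.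
Unfolded: for n < -m every morphism K → M[n] factors through M_j[n] → M[n] for some j; and for n ≤
-m, a morphism K → M_j[n] whose composite with M_j[n] → M[n] is zero already has zero composite with
M_j[n] → M_(j')[n] for some j → j'. -/
theorem result (R : Type u) [CommRing R] (m : ℤ) (K : Dual.D R)
    (hK : DRing.IsPseudoCoherent R m K) {J : Type u} [SmallCategory J] [IsFiltered J]
    (F : J ⥤ ModuleCat.{u} R) (c : Cocone F) (hc : IsColimit c) :
    (∀ n : ℤ, n < -m → ∀ x : K ⟶ (shiftFunctor (Dual.D R) n).obj (Dual.inD R c.pt),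
      ∃ (j : J) (y : K ⟶ (shiftFunctor (Dual.D R) n).obj (Dual.inD R (F.obj j))),
        y ≫ (shiftFunctor (Dual.D R) n).map
          ((DerivedCategory.singleFunctor (ModuleCat.{u} R) 0).map (c.ι.app j)) = x) ∧
    (∀ n : ℤ, n ≤ -m → ∀ (j : J) (y : K ⟶ (shiftFunctor (Dual.D R) n).obj (Dual.inD R (F.obj j))),
      y ≫ (shiftFunctor (Dual.D R) n).map
          ((DerivedCategory.singleFunctor (ModuleCat.{u} R) 0).map (c.ι.app j)) = 0 →
      ∃ (j' : J) (f : j ⟶ j'), y ≫ (shiftFunctor (Dual.D R) n).map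
          ((DerivedCategory.singleFunctor (ModuleCat.{u} R) 0).map (F.map f)) = 0) := by
  obtain ⟨E, α, hE, hα⟩ := DRingLib.isPseudoCoherent_iff.1 hK
  haveI := hE.isKProjective
  have hEf : ∀ i, Module.Finite R (E.X i) ∧ Module.Free R (E.X i) := by
    obtain ⟨_, _, _, hf⟩ := hE
    exact hf
  obtain ⟨C, p, q, hT⟩ := Pretriangulated.distinguished_cocone_triangle α
  have hz := (DRingLib.Approx.iff_cone m _ hT).1 hα
  haveI : C.IsLE (m - 1) := (DerivedCategory.isLE_iff C (m - 1)).mpr fun i hi => hz i (by omega)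
  let S : ∀ k : ℤ, ModuleCat.{u} R ⥤ Dual.D R := fun k =>
    CochainComplex.singleFunctor (ModuleCat.{u} R) k ⋙ DerivedCategory.Q
  let N : ∀ n : ℤ, DerivedCategory.singleFunctor (ModuleCat.{u} R) 0 ⋙ shiftFunctor (Dual.D R) n ≅
      S (-n) := fun n =>
    (DerivedCategory.singleFunctors (ModuleCat.{u} R)).shiftIso n (-n) 0 (add_neg_cancel n) ≪≫
      DerivedCategory.singleFunctorIsoCompQ (ModuleCat.{u} R) (-n)
  have hGE : ∀ (k : ℤ) (M : ModuleCat.{u} R), DerivedCategory.IsGE ((S k).obj M) k := fun k M =>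
    (DerivedCategory.TStructure.t).isGE_of_iso
      ((DerivedCategory.singleFunctorIsoCompQ (ModuleCat.{u} R) k).app M) k
  have inj : ∀ (k : ℤ) (M : ModuleCat.{u} R), m ≤ k → ∀ z : K ⟶ (S k).obj M, α ≫ z = 0 → z = 0 := by
    intro k M hk z hzz
    obtain ⟨w, rfl⟩ := Pretriangulated.Triangle.yoneda_exact₂ _ hT z hzz
    haveI := hGE k M
    haveI : DerivedCategory.IsLE (Pretriangulated.Triangle.mk α p q).obj₃ (m - 1) := ‹C.IsLE (m - 1)›
    rw [show w = 0 from (DerivedCategory.TStructure.t).zero w (m - 1) k (by omega)]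
    exact comp_zero
  have surj : ∀ (k : ℤ) (M : ModuleCat.{u} R), m < k → ∀ x : DerivedCategory.Q.obj E ⟶ (S k).obj M,
      ∃ z : K ⟶ (S k).obj M, α ≫ z = x := by
    intro k M hk x
    haveI := hGE k M
    haveI : C.IsLE (m - 1) := inferInstance
    haveI : DerivedCategory.IsLE (C⟦(-1 : ℤ)⟧) m :=
      (DerivedCategory.TStructure.t).isLE_shift C (m - 1) (-1) m (by omega)
    haveI : DerivedCategory.IsLE (Pretriangulated.Triangle.mk α p q).invRotate.obj₁ m :=
      ‹DerivedCategory.IsLE (C⟦(-1 : ℤ)⟧) m›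
    obtain ⟨z, hz⟩ := Pretriangulated.Triangle.yoneda_exact₂ _
      (Pretriangulated.inv_rot_of_distTriang _ hT) x
      ((DerivedCategory.TStructure.t).zero _ m k (by omega))
    exact ⟨z, hz.symm⟩
  refine ⟨fun n hn x => ?_, fun n hn j y hy => ?_⟩
  · obtain ⟨j, y, hy⟩ := TwoTermLib.FiltColHom.exists_lift_Q hc hEf (-n) (α ≫ x ≫ (N n).hom.app c.pt)
    obtain ⟨z, rfl⟩ := surj (-n) (F.obj j) (by omega) y
    refine ⟨j, z ≫ (N n).inv.app (F.obj j), ?_⟩
    have h1 : z ≫ (S (-n)).map (c.ι.app j) = x ≫ (N n).hom.app c.pt :=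
      sub_eq_zero.1 (inj (-n) c.pt (by omega) _ (by
        rw [Preadditive.comp_sub, sub_eq_zero]
        exact (Category.assoc _ _ _).symm.trans hy))
    have h2 := (N n).inv.naturality (c.ι.app j)
    calc _ = z ≫ (S (-n)).map (c.ι.app j) ≫ (N n).inv.app c.pt :=
          (Category.assoc _ _ _).trans (congrArg (z ≫ ·) h2.symm)
      _ = (x ≫ (N n).hom.app c.pt) ≫ (N n).inv.app c.pt := by rw [← Category.assoc, h1]
      _ = x := by rw [Category.assoc, Iso.hom_inv_id_app]; exact Category.comp_id x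
  · have h2 := (N n).hom.naturality
    obtain ⟨j', a, ha⟩ := TwoTermLib.FiltColHom.exists_zero_Q hc hEf (-n) (j := j)
      (α ≫ y ≫ (N n).hom.app (F.obj j)) (by
        show (α ≫ y ≫ (N n).hom.app (F.obj j)) ≫ (S (-n)).map (c.ι.app j) = 0
        rw [Category.assoc, Category.assoc, ← h2]
        exact (congrArg (α ≫ ·) ((Category.assoc _ _ _).symm.trans
          ((congrArg (· ≫ (N n).hom.app c.pt) hy).trans zero_comp))).trans comp_zero)
    refine ⟨j', a, ?_⟩
    have h3 := inj (-n) (F.obj j') (by omega) ((y ≫ (N n).hom.app (F.obj j)) ≫ (S (-n)).map (F.map a))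
      ((Category.assoc _ _ _).symm.trans ha)
    rw [Category.assoc, ← h2, ← Category.assoc] at h3
    exact zero_of_comp_mono ((N n).hom.app (F.obj j')) h3

end Groth.Agent.S6999
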