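import Groth.Statements.S7002
import Groth.Agent.SplitTruncLib.Basic
import Groth.Agent.DRingLib.ProjAmplitude

set_option autoImplicit false
set_option backward.isDefEq.respectTransparency false
set_option backward.isDefEq.respectTransparency.types false
universe u
open CategoryTheory CategoryTheory.Limits
attribute [local instance] HasDerivedCategory.standard
open DRing

namespace Groth.Agent.S7002

/-- Let R be a commutative ring, p a prime ideal of R with residue field κ(p), such that the derived
base change D(R) → D(κ(p)) exists; let i be an integer and K a cochain complex of R-modules which is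
pseudo-coherent in D(R) and satisfies H^i(K ⊗^L_R κ(p)) = 0. Then there is an element f ∈ R with f ∉
p such that, for the termwise localization K_f of K over R_f, the truncation τ_(≥ i+1) K_f is
perfect in D(R_f), its tor amplitude lying in [i+1, b] for some integer b, and K_f ≅ τ_(≥ i+1) K_f ⊕
τ_(≤ i-1) K_f in D(R_f) by an isomorphism carrying K_f → τ_(≥ i+1) K_f to the first projection and
τ_(≤ i-1) K_f → K_f to the second inclusion. -/
theorem result (R : Type u) [CommRing R]
    (p : Ideal R) [p.IsPrime] [DRing.HasLBaseChange (algebraMap R p.ResidueField)] (i : ℤ) (K : DRing.Cx R)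
    (hK : DRing.IsPseudoCoherent' R (DRing.toD K))
    (hi : Subsingleton (Dual.HD p.ResidueField ((DRing.LBaseChange (algebraMap R p.ResidueField)).obj (DRing.toD K)) i)) :
    ∃ f : R, f ∉ p ∧
      let Kf := DRing.toD (((ModuleCat.extendScalars (algebraMap R (Localization.Away f))).mapHomologicalComplex
        (ComplexShape.up ℤ)).obj K)
      let t := (DerivedCategory.TStructure.t : Triangulated.TStructure (Dual.D (Localization.Away f)))
      let Kge := (t.truncGE (i + 1)).obj Kf
      let Klt := (t.truncLT i).obj Kf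
      DRing.IsPerfect (Localization.Away f) Kge ∧
        (∃ b : ℤ, DRing.HasTorAmplitudeIn (Localization.Away f) (i + 1) b Kge) ∧
        ∀ [HasBinaryBiproduct Kge Klt], ∃ e : Kf ≅ Kge ⊞ Klt,
          e.hom ≫ biprod.fst = (t.truncGEπ (i + 1)).app Kf ∧ (t.truncLTι i).app Kf ≫ e.hom = biprod.inr := by
  obtain ⟨Q, b, hb, hf, ⟨e⟩⟩ := hK
  let φ := algebraMap R p.ResidueField
  have hk := Groth.Agent.DRingLib.isKFlat_of_free Q b hb fun j => (hf j).2
  have hz : IsZero (((Groth.Agent.DRingLib.extCx φ).obj Q).homology i) := by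
    refine Groth.Agent.DRingLib.isZero_homology_of_Hn (IsZero.of_iso ?_ ((Groth.Agent.DRingLib.Hn _ i).mapIso
      ((Groth.Agent.DRingLib.lBaseChangeObjIso φ Q hk).symm ≪≫ (DRing.LBaseChange φ).mapIso e)))
    exact @ModuleCat.isZero_of_subsingleton _ _ _ hi
  have hF : ∀ j, Module.Free R (Q.X j) ∧ Module.Finite R (Q.X j) := fun j => ⟨(hf j).2, (hf j).1⟩
  haveI := (hF i).2
  haveI := (hF (i + 1)).1
  haveI := (hF (i + 1)).2
  have hx := (Groth.Agent.SplitTruncLib.isZero_iff_exactBC Q (i - 1) i (i + 1) (by omega) rfl).1 hz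
  obtain ⟨f, hfp, hex, q, hq₁, hq₂⟩ := Groth.Agent.PerfFibreLib.exists_away_split p (Q.d (i - 1) i).hom
    (Q.d i (i + 1)).hom (by rw [← ModuleCat.hom_comp, Q.d_comp_d]; rfl) hx
  refine ⟨f, hfp, ?_⟩
  intro Kf t Kge Klt
  let φf := algebraMap R (Localization.Away f)
  have hφ : φf.Flat := RingHom.flat_algebraMap_iff.mpr inferInstance
  let P := (Groth.Agent.DRingLib.extCx φf).obj Q
  obtain ⟨eP⟩ := Groth.Agent.DRingLib.nonempty_extCx_iso φf hφ e
  have hPb : ∀ j, b < j → IsZero (P.X j) := fun j hj =>
    (ModuleCat.extendScalars.{u, u, u} φf).map_isZero (hb j hj)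
  have hPp : ∀ j, Module.Projective (Localization.Away f) (P.X j) := fun j => by
    have := (hF j).1
    exact Groth.Agent.DRingLib.projective_extCx φf j inferInstance
  have hC : Module.Projective (Localization.Away f) (Groth.Agent.TwoTermLib.CK P i (i + 1)) :=
    Groth.Agent.SplitTruncLib.projective_coker_of_splitBC Q i (i + 1) (hPp _) ⟨q, hq₁, hq₂⟩
  have hH : ∀ j, i ≤ j → j < i + 1 →
      IsZero ((DerivedCategory.homologyFunctor (ModuleCat.{u} (Localization.Away f)) j).obj Kf) := by
    intro j hj hj'
    obtain rfl : j = i := by omega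
    refine (Groth.Agent.DRingLib.isZero_Hn_of_homology (P := P) ?_).of_iso
      ((Groth.Agent.DRingLib.Hn _ j).mapIso eP.symm)
    exact (Groth.Agent.SplitTruncLib.isZero_iff_exactBC Q (j - 1) j (j + 1) (by omega) rfl).2 hex
  obtain ⟨eT⟩ := Groth.Agent.TwoTermLib.nonempty_truncGE_iso eP (i + 1)
  have hv := Groth.Agent.DRingLib.vanishesOutside_truncGE hPb (i + 1)
  have hproj := Groth.Agent.TwoTermLib.truncGE_projective hPp (i + 1) i rfl hC
  have hfin : ∀ j, Module.Finite (Localization.Away f) ((P.truncGE (i + 1)).X j) := by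
    intro j
    have hPfin := Groth.Agent.DRingLib.finite_extCx φf j (P := Q) (hF j).2
    rcases lt_trichotomy j (i + 1) with hj | hj | hj
    · exact Groth.Agent.DRingLib.finite_of_isZero (hv j (Or.inl hj))
    · subst hj
      haveI : Module.Finite (Localization.Away f) (P.X (i + 1)) := hPfin
      exact Module.Finite.equiv (Groth.Agent.DRingLib.truncGEXCoker P (i + 1)).symm.toLinearEquiv
    · haveI : Module.Finite (Localization.Away f) (P.X j) := hPfin
      exact Module.Finite.equiv (P.truncGEXIso (i + 1) j hj).symm.toLinearEquiv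
  refine ⟨⟨P.truncGE (i + 1), i + 1, b, hv, fun j => ⟨hfin j, hproj j⟩, ⟨eT⟩⟩,
    ⟨b, Groth.Agent.DRingLib.hasTorAmplitudeIn_of_projective hv hproj eT⟩, ?_⟩
  intro _
  haveI : HasBinaryBiproduct Klt Kge := inferInstance
  obtain ⟨⟨e', h₁, h₂⟩, -⟩ := Groth.Agent.TwoTermLib.exists_split hPp b hPb eP (i + 1) i rfl hC i
    (by omega) hH
  refine ⟨e' ≪≫ biprod.braiding Klt Kge, ?_, ?_⟩
  · rw [Iso.trans_hom, Category.assoc]
    simpa using h₂
  · rw [Iso.trans_hom, reassoc_of% h₁]
    apply biprod.hom_ext <;> simp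
    · exact biprod.inl_snd.trans biprod.inr_fst.symm
    · exact biprod.inl_fst.trans biprod.inr_snd.symm

end Groth.Agent.S7002
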