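import Groth.Statements.S7003
import Groth.Agent.TwoTermLib.Amp

set_option autoImplicit false
universe u
open CategoryTheory CategoryTheory.Limits
attribute [local instance] HasDerivedCategory.standard
open DRing

namespace Groth.Agent.S7003

/-- Let R be a commutative ring, a an integer and K an object of D(R) whose cohomology vanishes in large
degrees. Assume that for every injective R-linear map M → M' the induced map Hom(K, M[-a]) → Hom(K,
M'[-a]) in D(R) is injective. Then K ≅ τ_(≤ a) K ⊕ τ_(≥ a+1) K by an isomorphism carrying τ_(≤ a) K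
→ K to the first inclusion and K → τ_(≥ a+1) K to the second projection, and τ_(≥ a+1) K is
isomorphic in D(R) to a complex of projective modules vanishing outside [a+1, b] for some integer b.
(The published statement also asserts that the decomposition is unique; that part is not restated.) -/
theorem result (R : Type u) [CommRing R] (a : ℤ) (K : Dual.D R)
    (hKb : ∃ b : ℤ, ∀ i : ℤ, b < i → Subsingleton (Dual.HD R K i))
    (h : ∀ (M M' : Type u) [AddCommGroup M] [Module R M] [AddCommGroup M'] [Module R M'] (g : M →ₗ[R] M'),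
      Function.Injective g → Function.Injective (fun x : K ⟶ (shiftFunctor (Dual.D R) (-a)).obj (Dual.inD R M) =>
        x ≫ (shiftFunctor (Dual.D R) (-a)).map
          ((DerivedCategory.singleFunctor (ModuleCat.{u} R) 0).map (ModuleCat.ofHom g))))
    [HasBinaryBiproduct (((DerivedCategory.TStructure.t : Triangulated.TStructure (Dual.D R)).truncLT (a + 1)).obj K) (((DerivedCategory.TStructure.t : Triangulated.TStructure (Dual.D R)).truncGE (a + 1)).obj K)] :
    (∃ e : K ≅ ((DerivedCategory.TStructure.t : Triangulated.TStructure (Dual.D R)).truncLT (a + 1)).obj K ⊞ ((DerivedCategory.TStructure.t : Triangulated.TStructure (Dual.D R)).truncGE (a + 1)).obj K,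
      ((DerivedCategory.TStructure.t : Triangulated.TStructure (Dual.D R)).truncLTι (a + 1)).app K ≫ e.hom = biprod.inl ∧
        e.hom ≫ biprod.snd = ((DerivedCategory.TStructure.t : Triangulated.TStructure (Dual.D R)).truncGEπ (a + 1)).app K) ∧
      ∃ (P : DRing.Cx R) (b : ℤ), DRing.VanishesOutside P (a + 1) b ∧ (∀ i : ℤ, Module.Projective R (P.X i)) ∧
        Nonempty (DRing.toD P ≅ ((DerivedCategory.TStructure.t : Triangulated.TStructure (Dual.D R)).truncGE (a + 1)).obj K) := by
  obtain ⟨b, hb⟩ := hKb
  obtain ⟨P, hPb, hPf, ⟨e⟩⟩ := Groth.Agent.DRingLib.exists_free_rep K b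
    fun i hi => @ModuleCat.isZero_of_subsingleton _ _ _ (hb i hi)
  haveI := Groth.Agent.DRingLib.isKProjective_of_free P b hPb hPf
  have hP : ∀ i, Module.Projective R (P.X i) := fun i => by
    have := hPf i
    exact Module.Projective.of_free
  refine Groth.Agent.TwoTermLib.exists_split hP b hPb e (a + 1) a rfl ?_ (a + 1) le_rfl
    fun i hi hi' => absurd hi' (not_lt.2 hi)
  let S : Submodule R (P.X (a + 1)) := LinearMap.range (P.d a (a + 1)).hom
  let φ : P.X a ⟶ ModuleCat.of R S := ModuleCat.ofHom (P.d a (a + 1)).hom.rangeRestrict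
  let ι : ModuleCat.of R S ⟶ P.X (a + 1) := ModuleCat.ofHom S.subtype
  have hφι : φ ≫ ι = P.d a (a + 1) := rfl
  have hφ : ∀ i, i + 1 = a → P.d i a ≫ φ = 0 := by
    intro i _
    apply ModuleCat.hom_ext
    ext y
    exact (ModuleCat.comp_apply _ _ _).symm.trans
      (congrArg (fun k => (ConcreteCategory.hom k) y) (P.d_comp_d i a (a + 1)))
  open Groth.Agent.TwoTermLib in
  let x : K ⟶ (Dual.inD R S)⟦-a⟧ :=
    e.inv ≫ DerivedCategory.Q.map (toSn φ hφ) ≫ (eSn a (ModuleCat.of R S)).inv
  have hx : x = 0 := by
    apply h S (P.X (a + 1)) S.subtype Subtype.val_injective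
    show x ≫ _ = (0 : K ⟶ _) ≫ _
    rw [Limits.zero_comp]
    have hnat : (Groth.Agent.TwoTermLib.eSn a (ModuleCat.of R S)).inv ≫
        (shiftFunctor (Dual.D R) (-a)).map
          ((DerivedCategory.singleFunctor (ModuleCat.{u} R) 0).map ι) =
        DerivedCategory.Q.map ((HomologicalComplex.single (ModuleCat.{u} R)
          (ComplexShape.up ℤ) a).map ι) ≫ (Groth.Agent.TwoTermLib.eSn a (P.X (a + 1))).inv :=
      (((DerivedCategory.singleFunctors (ModuleCat.{u} R)).shiftIso (-a) a 0
        (neg_add_cancel a)).inv.naturality ι).symm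
    refine (Category.assoc _ _ _).trans ((whisker_eq e.inv ((Category.assoc _ _ _).trans
      ((whisker_eq _ hnat).trans ((Category.assoc _ _ _).symm.trans (eq_whisker
        ((DerivedCategory.Q.map_comp _ _).symm.trans (congrArg DerivedCategory.Q.map
          (Groth.Agent.TwoTermLib.toSn_comp_map φ hφ ι))) _))))).trans ?_)
    rw [(Groth.Agent.TwoTermLib.toSn_comp_eq_zero_iff _ _).2
      ⟨𝟙 _, by rw [hφι, Category.comp_id]⟩, Limits.comp_zero]
  obtain ⟨r, hr⟩ := (Groth.Agent.TwoTermLib.toSn_comp_eq_zero_iff φ hφ).1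
    ((cancel_epi e.inv).1 (hx.trans Limits.comp_zero.symm))
  refine Groth.Agent.TwoTermLib.projective_coker a (a + 1) (hP _) (S.subtype ∘ₗ r.hom)
    (fun y => ?_) fun y => (r y).2
  exact congrArg Subtype.val (congrArg (fun k => (ConcreteCategory.hom k) y) hr).symm

end Groth.Agent.S7003
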