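import Groth.Statements.S7004
import Groth.Agent.TwoTermLib.Amp

set_option autoImplicit false
universe u
open CategoryTheory CategoryTheory.Limits
attribute [local instance] HasDerivedCategory.standard
open DRing

namespace Groth.Agent.S7004

/-- Let R be a commutative ring, a an integer and K an object of D(R) whose cohomology vanishes in large
degrees, such that Hom(K, M[-a]) = 0 in D(R) for every R-module M. Then K ≅ τ_(≤ a-1) K ⊕ τ_(≥ a+1)
K by an isomorphism carrying τ_(≤ a-1) K → K to the first inclusion and K → τ_(≥ a+1) K to the
second projection, and τ_(≥ a+1) K is isomorphic in D(R) to a complex of projective modules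
vanishing outside [a+1, b] for some integer b. (The published statement also asserts that the
decomposition is unique; that part is not restated.) -/
theorem result (R : Type u) [CommRing R] (a : ℤ) (K : Dual.D R)
    (hKb : ∃ b : ℤ, ∀ i : ℤ, b < i → Subsingleton (Dual.HD R K i))
    (h : ∀ (M : Type u) [AddCommGroup M] [Module R M],
      Subsingleton (K ⟶ (shiftFunctor (Dual.D R) (-a)).obj (Dual.inD R M)))
    [HasBinaryBiproduct (((DerivedCategory.TStructure.t : Triangulated.TStructure (Dual.D R)).truncLT a).obj K) (((DerivedCategory.TStructure.t : Triangulated.TStructure (Dual.D R)).truncGE (a + 1)).obj K)] :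
    (∃ e : K ≅ ((DerivedCategory.TStructure.t : Triangulated.TStructure (Dual.D R)).truncLT a).obj K ⊞ ((DerivedCategory.TStructure.t : Triangulated.TStructure (Dual.D R)).truncGE (a + 1)).obj K,
      ((DerivedCategory.TStructure.t : Triangulated.TStructure (Dual.D R)).truncLTι a).app K ≫ e.hom = biprod.inl ∧
        e.hom ≫ biprod.snd = ((DerivedCategory.TStructure.t : Triangulated.TStructure (Dual.D R)).truncGEπ (a + 1)).app K) ∧
      ∃ (P : DRing.Cx R) (b : ℤ), DRing.VanishesOutside P (a + 1) b ∧ (∀ i : ℤ, Module.Projective R (P.X i)) ∧
        Nonempty (DRing.toD P ≅ ((DerivedCategory.TStructure.t : Triangulated.TStructure (Dual.D R)).truncGE (a + 1)).obj K) := by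
  obtain ⟨b, hb⟩ := hKb
  obtain ⟨P, hPb, hPf, ⟨e⟩⟩ := Groth.Agent.DRingLib.exists_free_rep K b
    fun i hi => @ModuleCat.isZero_of_subsingleton _ _ _ (hb i hi)
  haveI := Groth.Agent.DRingLib.isKProjective_of_free P b hPb hPf
  have hP : ∀ i, Module.Projective R (P.X i) := fun i => by
    have := hPf i
    exact Module.Projective.of_free
  refine Groth.Agent.TwoTermLib.exists_split hP b hPb e (a + 1) a rfl
    (Groth.Agent.TwoTermLib.projective_coker_of_vanishing e a (hP _) h) a (by omega) fun i hi hi' => ?_
  obtain rfl : i = a := by omega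
  exact Groth.Agent.TwoTermLib.isZero_homology_of_vanishing e i h

end Groth.Agent.S7004
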