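import Groth.Statements.S7007
import Groth.Agent.RelFPLib.Basic
import Mathlib.RingTheory.Localization.BaseChange
import Mathlib.RingTheory.RingHom.FinitePresentation
import Mathlib.RingTheory.LocalProperties.FinitePresentation
import Mathlib.RingTheory.Localization.Away.Basic
-- import your own Groth.Agent.* helpers here

set_option autoImplicit false
set_option linter.style.haveILetI false
universe u
open CAlg

namespace Groth.Agent.S7007

/-- Let R → A be a finite type homomorphism of commutative rings with a surjective R-algebra
homomorphism α : R[x_1, ..., x_n] → A, M an A-module, f_1, ..., f_r elements of A generating the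
unit ideal, and for each i a surjective R-algebra homomorphism γ_i : R[z_1, ..., z_(k_i)] → A_(f_i).
Then M is finitely presented as an R[x_1, ..., x_n]-module through α if and only if, for every i,
the localization M_(f_i) is finitely presented as an R[z_1, ..., z_(k_i)]-module through γ_i. -/
theorem result {R A : Type u} [CommRing R] [CommRing A] [Algebra R A]
    {n : ℕ} (α : MvPolynomial (Fin n) R →ₐ[R] A) (hα : Function.Surjective α) (M : Type u) [AddCommGroup M]
    [Module A M] {r : ℕ} (f : Fin r → A) (hf : Ideal.span (Set.range f) = ⊤) (k : Fin r → ℕ)
    (γ : ∀ i, MvPolynomial (Fin (k i)) R →ₐ[R] Localization.Away (f i)) (hγ : ∀ i, Function.Surjective (γ i)) :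
    @Module.FinitePresentation (MvPolynomial (Fin n) R) (M) _ _ (Module.compHom (M) α.toRingHom) ↔
      ∀ i, @Module.FinitePresentation (MvPolynomial (Fin (k i)) R) (LocalizedModule (Submonoid.powers (f i)) M) _ _ (Module.compHom (LocalizedModule (Submonoid.powers (f i)) M) (γ i).toRingHom) := by
  classical
  constructor
  · intro h i
    haveI : Algebra.FinitePresentation A (Localization.Away (f i)) :=
      IsLocalization.Away.finitePresentation (f i)
    exact (RelFPLib.fpAlong_congr (γ i).toRingHom
      (LocalizedModule.equivTensorProduct (Submonoid.powers (f i)) M)).2
      (RelFPLib.fpAlong_tensor α hα (γ i) (hγ i) M h)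
  · intro h
    let P := MvPolynomial (Fin n) R
    letI : Module P M := Module.compHom M α.toRingHom
    letI : Algebra P A := α.toRingHom.toAlgebra
    haveI : IsScalarTower P A M := IsScalarTower.of_algebraMap_smul fun _ _ => rfl
    choose F hF using fun i => hα (f i)
    have h1 : (1 : A) ∈ Ideal.span (Set.range f) := hf ▸ trivial
    obtain ⟨c, hc⟩ := Ideal.mem_span_range_iff_exists_fun.1 h1
    choose C hC using fun i => hα (c i)
    let e : P := 1 - ∑ i, C i * F i
    have he : α e = 0 := by simp [e, hC, hF, hc]
    refine Module.FinitePresentation.of_localizationSpan (insert e (Set.range F)) ?_ ?_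
    · rw [Ideal.eq_top_iff_one, show (1 : P) = e + ∑ i, C i * F i from (sub_add_cancel _ _).symm]
      refine Ideal.add_mem _ (Ideal.subset_span (Set.mem_insert _ _))
        (Ideal.sum_mem _ fun i _ => Ideal.mul_mem_left _ _
          (Ideal.subset_span (Set.mem_insert_of_mem _ ⟨i, rfl⟩)))
    · rintro ⟨F', (rfl | ⟨i, rfl⟩)⟩
      · haveI : Subsingleton (LocalizedModule.Away e M) :=
          LocalizedModule.subsingleton_iff.2 fun m =>
            ⟨e, Submonoid.mem_powers e, by show α e • m = 0; rw [he, zero_smul]⟩
        infer_instance
      · -- `P_F → A_f`
        let Mi := LocalizedModule (Submonoid.powers (f i)) M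
        let Ai := Localization.Away (f i)
        have hu : IsUnit (((algebraMap A Ai).comp α.toRingHom) (F i)) := by
          show IsUnit (algebraMap A Ai (α (F i)))
          rw [hF]
          exact IsLocalization.Away.algebraMap_isUnit (f i)
        let ψ : Localization.Away (F i) →+* Ai := IsLocalization.Away.lift (F i) hu
        have hψ : ∀ p, ψ (algebraMap P _ p) = algebraMap A Ai (α p) := fun p =>
          IsLocalization.Away.lift_eq (F i) hu p
        let ψR : Localization.Away (F i) →ₐ[R] Ai :=
          { ψ with
            commutes' := fun r => by
              show ψ (algebraMap R (Localization.Away (F i)) r) = algebraMap R Ai r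
              rw [IsScalarTower.algebraMap_apply R P (Localization.Away (F i)), hψ,
                show α (algebraMap R P r) = algebraMap R A r from α.commutes r,
                ← IsScalarTower.algebraMap_apply] }
        have hψs : Function.Surjective ψR := by
          intro y
          obtain ⟨a, ⟨_, m, rfl⟩, rfl⟩ := IsLocalization.exists_mk'_eq (Submonoid.powers (f i)) y
          obtain ⟨p, rfl⟩ := hα a
          refine ⟨IsLocalization.mk' _ p (⟨F i ^ m, m, rfl⟩ : Submonoid.powers (F i)), ?_⟩
          rw [eq_comm, IsLocalization.mk'_eq_iff_eq_mul]
          show algebraMap A Ai (α p) = ψ _ * algebraMap A Ai (f i ^ m)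
          rw [show f i ^ m = α (F i ^ m) by rw [map_pow, hF], ← hψ, ← hψ, ← map_mul]
          congr 1
          exact (IsLocalization.mk'_spec _ p
            (⟨F i ^ m, m, rfl⟩ : Submonoid.powers (F i))).symm
        haveI : Algebra.FinitePresentation P (Localization.Away (F i)) :=
          IsLocalization.Away.finitePresentation (F i)
        haveI : Algebra.FinitePresentation R (Localization.Away (F i)) :=
          Algebra.FinitePresentation.trans R P (Localization.Away (F i))
        have hfp := (RelFPLib.fpAlong_iff_fpAlong ψR hψs (γ i) (hγ i) Mi).2 (h i)
        letI : Module (Localization.Away (F i)) Mi := Module.compHom Mi ψ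
        haveI hMi : Module.FinitePresentation (Localization.Away (F i)) Mi := hfp
        haveI : IsScalarTower P (Localization.Away (F i)) Mi :=
          IsScalarTower.of_algebraMap_smul fun p x => by
            show ψ (algebraMap P _ p) • x = p • x
            rw [hψ, algebraMap_smul]
            exact algebraMap_smul A p x
        let g : M →ₗ[P] Mi := (LocalizedModule.mkLinearMap (Submonoid.powers (f i)) M).restrictScalars P
        haveI : IsLocalizedModule (Submonoid.powers (F i)) g := by
          have hmap : Algebra.algebraMapSubmonoid A (Submonoid.powers (F i))
              = Submonoid.powers (f i) := by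
            rw [Algebra.algebraMapSubmonoid, Submonoid.map_powers]
            exact congrArg Submonoid.powers (hF i)
          haveI : IsLocalizedModule (Algebra.algebraMapSubmonoid A (Submonoid.powers (F i)))
              (LocalizedModule.mkLinearMap (Submonoid.powers (f i)) M) := by
            rw [hmap]; infer_instance
          exact IsLocalizedModule.restrictScalars (R := P) (A := A) _ _
        let E := (IsLocalizedModule.iso (Submonoid.powers (F i)) g).extendScalarsOfIsLocalization
          (Submonoid.powers (F i)) (Localization.Away (F i))
        exact Module.FinitePresentation.of_equiv E.symm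

end Groth.Agent.S7007
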