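import Groth.Statements.S7008
import Groth.Agent.RelPCLib.Local
import Groth.Agent.RelPCLib.Finite

set_option autoImplicit false
set_option backward.isDefEq.respectTransparency false
set_option backward.isDefEq.respectTransparency.types false
universe u
open CategoryTheory CategoryTheory.Limits
attribute [local instance] HasDerivedCategory.standard
open DerCA

namespace Groth.Agent.S7008

/-- Let R be a commutative ring, f an element of R, A a finite type R_f-algebra, g an element of A, K a
cochain complex of A-modules and m an integer; write K_g for the termwise localization K ⊗_A A_g, a
complex over the finite type R-algebra A_g. Suppose K is m-pseudo-coherent relative to R_f; then K_g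
is m-pseudo-coherent relative to R. Suppose K is pseudo-coherent relative to R_f in every degree;
then so is K_g relative to R. -/
theorem result {R A : Type u} [CommRing R] [CommRing A] (f : R) [Algebra R A]
    [Algebra (Localization.Away f) A] [IsScalarTower R (Localization.Away f) A]
    [Algebra.FiniteType (Localization.Away f) A] (g : A) (K : DRing.Cx A) (m : ℤ) :
    (DerCA.IsRelPseudoCoherent (Localization.Away f) A m (DRing.toD K) →
      DerCA.IsRelPseudoCoherent R (Localization.Away g) m
        (DRing.toD (((ModuleCat.extendScalars (algebraMap A (Localization.Away g))).mapHomologicalComplex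
          (ComplexShape.up ℤ)).obj K))) ∧
      (DerCA.IsRelPseudoCoherentAll (Localization.Away f) A (DRing.toD K) →
        DerCA.IsRelPseudoCoherentAll R (Localization.Away g)
          (DRing.toD (((ModuleCat.extendScalars (algebraMap A (Localization.Away g))).mapHomologicalComplex
            (ComplexShape.up ℤ)).obj K))) := by
  let e := MvPolynomial.uniqueAlgEquiv R (Fin 1)
  let p : MvPolynomial (Fin 1) R →ₐ[R] Localization.Away f :=
    { (RelPCLib.awayPres f).comp e.toRingEquiv.toRingHom with
      commutes' := fun r => by
        change RelPCLib.awayPres f (e (algebraMap R _ r)) = _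
        rw [e.commutes, Polynomial.algebraMap_eq, RelPCLib.awayPres_C] }
  have hp : Function.Surjective p := (RelPCLib.awayPres_surjective f).comp e.surjective
  haveI : Algebra.FiniteType R A :=
    Algebra.FiniteType.trans (S := Localization.Away f) (Algebra.FiniteType.of_surjective p hp) inferInstance
  have hA : DerCA.IsRelPseudoCoherentModuleAll R (Localization.Away f) (Localization.Away f) :=
    fun n => (RelPCLib.isRel_iff p hp _ n).2
      (((RelPCLib.ph_of_bijective _ e.bijective).comp (RelPCLib.ph_awayPres f)) n)
  refine ⟨fun h => ?_, fun h n => ?_⟩
  · exact RelPCLib.isRel_away_of g K m ((RelPCLib.isRel_intermediate_iff hA _ m).1 h)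
  · exact RelPCLib.isRel_away_of g K n ((RelPCLib.isRel_intermediate_iff hA _ n).1 (h n))

end Groth.Agent.S7008
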