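import Groth.Statements.S7009
import Mathlib
import Groth.Agent.PerfStageLib.Descent
import Groth.Agent.DRingLib.Amplitude
-- import your own Groth.Agent.* helpers here

set_option autoImplicit false
universe u
open CategoryTheory CategoryTheory.Limits
attribute [local instance] HasDerivedCategory.standard
open DRing

namespace Groth.Agent.S7009

/-- Let (R_j) be a diagram of commutative rings over a small filtered category with colimit R, such that
the derived base change D(R_j) → D(R) exists for every j, and let K be a perfect object of D(R).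
Then there exist an index j and a perfect object K_j of D(R_j) such that K_j ⊗^L R is isomorphic to
K in D(R). -/
theorem result {J : Type u} [SmallCategory J] [IsFiltered J]
    (F : J ⥤ CommRingCat.{u}) (c : Cocone F) (hc : IsColimit c)
    [∀ j : J, DRing.HasLBaseChange (c.ι.app j).hom] (K : Dual.D c.pt) (hK : DRing.IsPerfect c.pt K) :
    ∃ (j : J) (Kj : Dual.D (F.obj j)), DRing.IsPerfect (F.obj j) Kj ∧
      Nonempty ((DRing.LBaseChange (c.ι.app j).hom).obj Kj ≅ K) := by
  classical
  obtain ⟨E, a, b, hab, hE, ⟨e⟩⟩ := hK
  obtain ⟨n, s, p, hsp⟩ := PerfStageLib.exists_sections E a b hE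
  obtain ⟨j, T, hT⟩ := PerfStageLib.exists_descend F hc (PerfStageLib.model (n := n) hab hsp)
  have hz : DRing.VanishesOutside T.cx a b := fun i hi => T.isZero_cx i fun q hq => by
    have := PerfStageLib.deg_mem (a := a) (b := b) (n := n) q
    omega
  have hp : DRing.TermwiseFiniteProjective T.cx := fun i =>
    ⟨T.finite_term i, T.projective_term i⟩
  have hflat : DRing.TermwiseFlat T.cx := fun i => by
    haveI := T.projective_term i
    exact (inferInstanceAs (Module.Flat (F.obj j) (T.term i)))
  have hk := Groth.Agent.DRingLib.isKFlat_of_flatAmplitude hz hflat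
  refine ⟨j, DRing.toD T.cx, ⟨T.cx, a, b, hz, hp, ⟨CategoryTheory.Iso.refl _⟩⟩, ⟨?_⟩⟩
  exact Groth.Agent.DRingLib.lBaseChangeObjIso (c.ι.app j).hom T.cx hk ≪≫
    DerivedCategory.Q.mapIso (T.cxBaseChange (c.ι.app j).hom ≪≫ CategoryTheory.eqToIso (by rw [hT]) ≪≫
      PerfStageLib.modelIso hab hsp) ≪≫ e

end Groth.Agent.S7009
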