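import Groth.Statements.S7012
import Groth.Agent.LiftCxLib.Reduction

set_option autoImplicit false
set_option backward.isDefEq.respectTransparency false
set_option backward.isDefEq.respectTransparency.types false
universe u
open CategoryTheory CategoryTheory.Limits
attribute [local instance] HasDerivedCategory.standard
open DRing

namespace Groth.Agent.S7012

/-- Let R be a commutative ring, I an ideal of R and Pc a class of R-modules closed under isomorphisms
such that: (1) every module in Pc is projective; (2) if P₁ and P₁ ⊕ P₂ belong to Pc then P₂ belongs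
to Pc; (3) every homomorphism between modules of Pc which is surjective modulo I is surjective. Let
E be a bounded above acyclic cochain complex of R/I-modules each of whose terms is isomorphic to
P/IP for some P in Pc. Then there is a bounded above acyclic cochain complex of R-modules with all
terms in Pc whose termwise reduction modulo I is isomorphic to E as a complex. -/
theorem result (R : Type u) [CommRing R] (I : Ideal R)
    (Pc : ObjectProperty (ModuleCat.{u} R)) [Pc.IsClosedUnderIsomorphisms]
    (h1 : ∀ X : ModuleCat.{u} R, Pc X → Module.Projective R X)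
    (h2 : ∀ X Y : ModuleCat.{u} R, Pc X → Pc (ModuleCat.of R (X × Y)) → Pc Y)
    (h3 : ∀ (X Y : ModuleCat.{u} R) (f : X ⟶ Y), Pc X → Pc Y →
      LinearMap.range f.hom ⊔ I • (⊤ : Submodule R Y) = ⊤ → Function.Surjective f.hom)
    (E : DRing.Cx (R ⧸ I)) (b : ℤ) (hEb : DRing.VanishesAbove E b) (hEa : E.Acyclic)
    (hEt : ∀ i : ℤ, ∃ X : ModuleCat.{u} R, Pc X ∧ Nonempty (TensorProduct R (R ⧸ I) X ≃ₗ[R ⧸ I] E.X i)) :
    ∃ (P : DRing.Cx R) (b' : ℤ), DRing.VanishesAbove P b' ∧ P.Acyclic ∧ (∀ i : ℤ, Pc (P.X i)) ∧
      Nonempty ((((ModuleCat.extendScalars (Ideal.Quotient.mk I)).mapHomologicalComplex (ComplexShape.up ℤ)).obj P) ≅ E) := by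
  open Groth.Agent.LiftCxLib in
  have hc : Cls I Pc := ⟨inferInstance, h1, h2, h3⟩
  obtain ⟨X, p, hX, hp, hz⟩ := LiftCxLib.exists_reds hc E b hEb hEt
  obtain ⟨d, s, hd, hs, hpd⟩ := LiftCxLib.exists_lift_acyclic hc hX hp
    (LiftCxLib.exact_elements (LiftCxLib.acyclic_resI hEa)) b hz
  let P := LiftCxLib.cxOf X d hd
  let g : P ⟶ (LiftCxLib.resI I).obj E :=
    { f := fun i => ConcreteCategory.ofHom (C := ModuleCat.{u} R) (X := X i) (Y := ((LiftCxLib.resI I).obj E).X i) (p i)
      comm' := fun i j hij => by
        obtain rfl : i + 1 = j := hij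
        refine ModuleCat.hom_ext (LinearMap.ext fun x => ?_)
        show (((LiftCxLib.resI I).obj E).d i (i + 1)).hom (p i x) = p (i + 1) ((P.d i (i + 1)).hom x)
        rw [LiftCxLib.cxOf_d]
        exact (hpd i x).symm }
  exact ⟨P, b, hz, LiftCxLib.acyclic_of_contraction X d hd s hs, hX, LiftCxLib.nonempty_extI_iso I g fun i => hp i⟩

end Groth.Agent.S7012
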