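import Groth.Statements.S7014
import Groth.Agent.S0985
import Groth.Agent.S1034
import Groth.Agent.KFlatLib.DerivedCoprod
import Mathlib.Algebra.Category.ModuleCat.AB
import Mathlib.Algebra.Category.Grp.AB

set_option autoImplicit false
universe u
open CategoryTheory CategoryTheory.Limits
attribute [local instance] HasDerivedCategory.standard
open DRing

namespace Groth.Agent.S7014

/-- Let R be a commutative ring and K an object of D(R) such that for every sequence (E_n) of objects of
D(R) the canonical map from the direct sum of the Hom(K, E_n) to Hom(K, ⊕_n E_n) is bijective. Let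
L_0 → L_1 → L_2 → ... be a sequence of cochain complexes of R-modules with colimit L (computed
termwise). Then every morphism K → L in D(R) factors through L_n → L for some n, and a morphism K →
L_n in D(R) whose composite with L_n → L vanishes already has vanishing composite with L_n → L_m for
some m ≥ n. -/
theorem result (R : Type u) [CommRing R] (K : Dual.D R)
    (hK : ∀ (E : ℕ → Dual.D R) [HasCoproduct fun i : ULift.{u + 1} ℕ => E i.down],
      Function.Bijective (CohDer.homSumToHomCoprod K (fun i : ULift.{u + 1} ℕ => E i.down)))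
    (L : ℕ ⥤ DRing.Cx R) (c : Cocone L) (hc : IsColimit c) :
    (∀ x : K ⟶ DRing.toD c.pt, ∃ (n : ℕ) (y : K ⟶ DRing.toD (L.obj n)),
        y ≫ DerivedCategory.Q.map (c.ι.app n) = x) ∧
      (∀ (n : ℕ) (y : K ⟶ DRing.toD (L.obj n)), y ≫ DerivedCategory.Q.map (c.ι.app n) = 0 →
        ∃ (m : ℕ) (h : n ≤ m), y ≫ DerivedCategory.Q.map (L.map (homOfLE h)) = 0) := by
  classical
  let A := ModuleCat.{u} R
  haveI : HasFilteredColimitsOfSize.{0, 0} (ModuleCat.{u} R) :=
    haveI := hasColimitsOfSizeShrink.{0, 0, u, u} (ModuleCat.{u} R)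
    ⟨fun _ _ _ => inferInstance⟩
  haveI : HasFilteredColimitsOfSize.{0, 0} AddCommGrpCat.{u + 1} :=
    haveI := hasColimitsOfSizeShrink.{0, 0, u + 1, u + 1} AddCommGrpCat.{u + 1}
    ⟨fun _ _ _ => inferInstance⟩
  haveI := AB5OfSize_shrink.{0, 0, u, u} (ModuleCat.{u} R)
  haveI := AB5OfSize_shrink.{0, 0, u + 1, u + 1} AddCommGrpCat.{u + 1}
  let U : Discrete (ULift.{u} ℕ) ≌ Discrete ℕ := Discrete.equivalence Equiv.ulift
  haveI hQ : PreservesColimitsOfShape (Discrete (ULift.{u} ℕ)) (DerivedCategory.Q (C := A)) :=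
    ⟨fun {F} => by
      let P : ULift.{u} ℕ → CochainComplex A ℤ := fun i => F.obj ⟨i⟩
      haveI : PreservesColimit (Discrete.functor P) (DerivedCategory.Q (C := A)) :=
        preservesColimit_of_preserves_colimit_cocone
          (coproductIsCoproduct P) ((Cofan.isColimitMapCoconeEquiv _ _ (Cofan.mk (∐ P) (Sigma.ι P))).symm (KFlatLib.isColimit_Q_sigma P).some)
      exact @preservesColimit_of_iso_diagram _ _ _ _ _ _ (Discrete.functor P) F (DerivedCategory.Q (C := A)) (Discrete.natIsoFunctor (F := F)).symm this⟩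
  haveI : PreservesColimitsOfShape (Discrete ℕ) (DerivedCategory.Q (C := A)) :=
    preservesColimitsOfShape_of_equiv U _
  haveI hD' : HasColimitsOfShape (Discrete (ULift.{u} ℕ)) (Dual.D R) := ⟨fun F => by
    let P := fun j : ULift.{u} ℕ => DerivedCategory.Q.objPreimage (F.obj ⟨j⟩)
    exact ⟨⟨⟨_, (IsColimit.precomposeInvEquiv (Discrete.natIso fun i =>
      DerivedCategory.Q.objObjPreimageIso (F.obj i) : Discrete.functor (fun j => DerivedCategory.Q.obj (P j)) ≅ F)
        _).symm (KFlatLib.isColimit_Q_sigma P).some⟩⟩⟩⟩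
  haveI hDn : HasColimitsOfShape (Discrete ℕ) (Dual.D R) := hasColimitsOfShape_of_equivalence U
  haveI hDu : HasColimitsOfShape (Discrete (ULift.{u + 1} ℕ)) (Dual.D R) :=
    hasColimitsOfShape_of_equivalence (Discrete.equivalence (Equiv.ulift.{u + 1}).symm)
  let H : Dual.D R ⥤ AddCommGrpCat.{u + 1} := preadditiveCoyoneda.obj (Opposite.op K)
  haveI : PreservesColimitsOfShape (Discrete ℕ) H := ⟨fun {F} => by
    let E : ℕ → Dual.D R := fun n => F.obj ⟨n⟩
    suffices hE : PreservesColimit (Discrete.functor E) H by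
      haveI := hE
      exact @preservesColimit_of_iso_diagram _ _ _ _ _ _ (Discrete.functor E) F H (Discrete.natIsoFunctor (F := F)).symm hE
    let E' : ULift.{u + 1} ℕ → Dual.D R := fun i => E i.down
    let c0 : Cofan E := Cofan.mk (∐ E') fun n => Sigma.ι E' ⟨n⟩
    have hc0 : IsColimit c0 := Cofan.IsColimit.mk c0 (fun s => Limits.Sigma.desc (f := E') fun i => s.inj i.down)
      (fun s n => Sigma.ι_desc _ _) (fun s m hm => Limits.Sigma.hom_ext (f := E') _ _ fun i =>
        (hm i.down).trans (Sigma.ι_desc (f := E') (fun j => s.inj j.down) i).symm)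
    let eK := AddEquiv.ofBijective _ (hK E)
    have he : ∀ (i : ULift.{u + 1} ℕ) (x : K ⟶ E' i),
        eK.symm (x ≫ Sigma.ι E' i) = DirectSum.of (fun i => K ⟶ E' i) i x := fun i x =>
      eK.symm_apply_eq.2 (by
        show x ≫ Sigma.ι E' i = CohDer.homSumToHomCoprod K E' (DirectSum.of (fun i => K ⟶ E' i) i x)
        unfold CohDer.homSumToHomCoprod
        erw [DirectSum.toAddMonoid_of]
        rfl)
    refine preservesColimit_of_preserves_colimit_cocone hc0 ((Cofan.isColimitMapCoconeEquiv _ _ c0).symm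
      (Cofan.IsColimit.mk _ (fun t => AddCommGrpCat.ofHom
        ((DirectSum.toAddMonoid fun i : ULift.{u + 1} ℕ => (t.inj i.down).hom).comp eK.symm.toAddMonoidHom))
        (fun t n => ?_) (fun t m hm => ?_)))
    · refine AddCommGrpCat.ext fun x => ?_
      show DirectSum.toAddMonoid _ (eK.symm (x ≫ Sigma.ι E' ⟨n⟩)) = _
      rw [he]
      exact DirectSum.toAddMonoid_of _ _ _
    · refine AddCommGrpCat.ext fun z => ?_
      show m z = DirectSum.toAddMonoid _ (eK.symm z)
      obtain ⟨w, rfl⟩ := eK.surjective z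
      rw [eK.symm_apply_apply]
      refine DFunLike.congr_fun (f := m.hom.comp eK.toAddMonoidHom) (DirectSum.addHom_ext fun i x => ?_) w
      rw [DirectSum.toAddMonoid_of]
      show m (eK (DirectSum.of _ i x)) = _
      rw [show eK (DirectSum.of (fun i => K ⟶ E' i) i x) = x ≫ Sigma.ι E' i from
        (eK.symm_apply_eq.1 (he i x)).symm]
      exact ConcreteCategory.congr_hom (hm i.down) x⟩
  haveI : HasCoproduct L.obj := inferInstance
  let Q := DerivedCategory.Q (C := A)
  let K' : ℕ → Dual.D R := fun n => Q.obj (L.obj n)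
  let f : ∀ n, K' n ⟶ K' (n + 1) := fun n => Q.map (L.map (homOfLE (Nat.le_succ n)))
  have hL : DerLim.IsHocolim K' f (Q.obj (colimit L)) (fun n => Q.map (colimit.ι L n)) := Groth.Agent.S0985.result L
  obtain ⟨e, he⟩ := Groth.Agent.S1034.result H K' f _ _ hL
  let G := Functor.ofSequence (fun n => H.map (f n))
  have hG : ∀ n m (h : n ≤ m), G.map (homOfLE h) = H.map (Q.map (L.map (homOfLE h))) := by
    intro n m h
    induction m, h using Nat.le_induction with
    | base =>
      rw [show (homOfLE (le_refl n) : n ⟶ n) = 𝟙 n from rfl, G.map_id, L.map_id, Q.map_id, H.map_id]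
      rfl
    | succ m h ih =>
      rw [← homOfLE_comp h (Nat.le_succ m), G.map_comp, L.map_comp, Q.map_comp, H.map_comp, ih]
      exact congrArg (_ ≫ ·) (Functor.ofSequence_map_homOfLE_succ _ m)
  let σ : colimit L ≅ c.pt := (colimit.isColimit L).coconePointUniqueUpToIso hc
  have hσ : ∀ n, Q.map (colimit.ι L n) ≫ Q.map σ.hom = Q.map (c.ι.app n) := fun n =>
    (Q.map_comp _ _).symm.trans (congrArg Q.map (IsColimit.comp_coconePointUniqueUpToIso_hom _ hc n))
  haveI : PreservesColimit G (forget AddCommGrpCat.{u + 1}) := by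
    haveI : PreservesFilteredColimitsOfSize.{0, 0} (forget AddCommGrpCat.{u + 1}) :=
      preservesSmallestFilteredColimits_of_preservesFilteredColimits _
    infer_instance
  refine ⟨fun x => ?_, fun n y hy => ?_⟩
  · obtain ⟨n, y, hy⟩ := Concrete.colimit_exists_rep G (e.inv (x ≫ Q.map σ.inv))
    refine ⟨n, y, ?_⟩
    have h1 : (colimit.ι G n ≫ e.hom) y = x ≫ Q.map σ.inv := by
      rw [ConcreteCategory.comp_apply, hy, ← ConcreteCategory.comp_apply, e.inv_hom_id]
      rfl
    rw [he n] at h1
    replace h1 : y ≫ Q.map (colimit.ι L n) = x ≫ Q.map σ.inv := h1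
    rw [← hσ n, ← Category.assoc, h1, Category.assoc, ← Q.map_comp, σ.inv_hom_id, Q.map_id]
    exact Category.comp_id x
  · have h1 : y ≫ Q.map (colimit.ι L n) = 0 := by
      rw [← hσ n, ← Category.assoc] at hy
      exact (cancel_mono (Q.map σ.hom)).1 (hy.trans zero_comp.symm)
    have h2 : colimit.ι G n (show G.obj n from y) = 0 := by
      apply (ConcreteCategory.bijective_of_isIso e.hom).1
      rw [← ConcreteCategory.comp_apply, he n, map_zero]
      exact h1
    obtain ⟨m, i, j, hij⟩ := Concrete.colimit_exists_of_rep_eq G (show G.obj n from y) (0 : G.obj n) (h2.trans (map_zero _).symm)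
    rw [map_zero, Subsingleton.elim i (homOfLE (leOfHom i)), hG n m (leOfHom i)] at hij
    exact ⟨m, leOfHom i, hij⟩

end Groth.Agent.S7014
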