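import Groth.Statements.S7015
import Mathlib.LinearAlgebra.TensorProduct.Basis
import Mathlib.LinearAlgebra.TensorProduct.Finiteness
import Mathlib.LinearAlgebra.FreeModule.Finite.Basic
import Mathlib.LinearAlgebra.StdBasis

set_option autoImplicit false
universe u
open CategoryTheory MonoidalCategory
open DRing

namespace Groth.Agent.S7015

/-- Let R be a commutative ring and M, N R-modules such that N is a left dual of M for the tensor
product of R-modules, i.e. there are a coevaluation R → M ⊗ N and an evaluation N ⊗ M → R satisfying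
the triangle identities (an exact pairing). Then M and N are finitely generated projective
R-modules. -/
theorem result (R : Type u) [CommRing R] (M N : Type u) [AddCommGroup M]
    [Module R M] [AddCommGroup N] [Module R N] [ExactPairing (ModuleCat.of R M) (ModuleCat.of R N)] :
    Module.Finite R M ∧ Module.Projective R M ∧ Module.Finite R N ∧ Module.Projective R N := by
  let η : R →ₗ[R] TensorProduct R M N := (η_ (ModuleCat.of R M) (ModuleCat.of R N)).hom
  let ε : TensorProduct R N M →ₗ[R] R := (ε_ (ModuleCat.of R M) (ModuleCat.of R N)).hom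
  have eM : ∀ x : M, (LinearMap.lTensor M ε) ((TensorProduct.assoc R M N M) (η 1 ⊗ₜ[R] x)) =
      ((1 : R) • x) ⊗ₜ[R] (1 : R) := fun x =>
    congr($(ExactPairing.evaluation_coevaluation (ModuleCat.of R M) (ModuleCat.of R N)).hom
      ((1 : R) ⊗ₜ[R] x))
  have eN : ∀ x : N, (LinearMap.rTensor N ε) ((TensorProduct.assoc R N M N).symm (x ⊗ₜ[R] η 1)) =
      (1 : R) ⊗ₜ[R] ((1 : R) • x) := fun x =>
    congr($(ExactPairing.coevaluation_evaluation (ModuleCat.of R M) (ModuleCat.of R N)).hom
      (x ⊗ₜ[R] (1 : R)))
  obtain ⟨k, m, n, hη⟩ := TensorProduct.exists_sum_tmul_eq (η 1)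
  let pM : M →ₗ[R] (Fin k → R) :=
    LinearMap.pi fun i => ε.comp (TensorProduct.mk R N M (n i))
  let sM : (Fin k → R) →ₗ[R] M := ∑ i, (LinearMap.proj i).smulRight (m i)
  let pN : N →ₗ[R] (Fin k → R) :=
    LinearMap.pi fun i => ε.comp ((TensorProduct.mk R N M).flip (m i))
  let sN : (Fin k → R) →ₗ[R] N := ∑ i, (LinearMap.proj i).smulRight (n i)
  have hM : sM.comp pM = LinearMap.id := by
    ext x
    have h := congrArg (TensorProduct.rid R M) (eM x)
    simp only [hη, TensorProduct.sum_tmul, map_sum, TensorProduct.assoc_tmul,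
      LinearMap.lTensor_tmul, TensorProduct.rid_tmul, one_smul] at h
    simpa [sM, pM] using h
  have hN : sN.comp pN = LinearMap.id := by
    ext x
    have h := congrArg (TensorProduct.lid R N) (eN x)
    simp only [hη, TensorProduct.tmul_sum, map_sum, TensorProduct.assoc_symm_tmul,
      LinearMap.rTensor_tmul, TensorProduct.lid_tmul, one_smul] at h
    simpa [sN, pN] using h
  exact ⟨Module.Finite.of_surjective sM fun x => ⟨pM x, LinearMap.congr_fun hM x⟩,
    Module.Projective.of_split pM sM hM,
    Module.Finite.of_surjective sN fun x => ⟨pN x, LinearMap.congr_fun hN x⟩,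
    Module.Projective.of_split pN sN hN⟩

end Groth.Agent.S7015
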