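import Groth.Statements.S7026
import Groth.Agent.RelPCLib.Easy

set_option autoImplicit false
set_option backward.isDefEq.respectTransparency false
set_option backward.isDefEq.respectTransparency.types false
universe u
open CategoryTheory CategoryTheory.Limits
attribute [local instance] HasDerivedCategory.standard
open DerCA

namespace Groth.Agent.S7026

/-- Let R be a Noetherian commutative ring, R → A a finite type ring homomorphism, m an integer, K an
object of D(A) and M an A-module. Then: m-pseudo-coherence of K relative to R is equivalent to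
H^i(K) vanishing for all large i together with H^i(K) being a finitely generated A-module for each i
≥ m; pseudo-coherence of K relative to R (every degree) is equivalent to the same with H^i(K)
finitely generated for every i; and the A-module M is pseudo-coherent relative to R exactly when M
is finitely generated. -/
theorem result {R A : Type u} [CommRing R]
    [IsNoetherianRing R] [CommRing A] [Algebra R A] [Algebra.FiniteType R A] (m : ℤ) (K : Dual.D A)
    (M : Type u) [AddCommGroup M] [Module A M] :
    (DerCA.IsRelPseudoCoherent R A m K ↔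
      (∃ b : ℤ, ∀ i : ℤ, b < i → Subsingleton (Dual.HD A K i)) ∧ ∀ i : ℤ, m ≤ i → Module.Finite A (Dual.HD A K i)) ∧
    (DerCA.IsRelPseudoCoherentAll R A K ↔
      (∃ b : ℤ, ∀ i : ℤ, b < i → Subsingleton (Dual.HD A K i)) ∧ ∀ i : ℤ, Module.Finite A (Dual.HD A K i)) ∧
    (DerCA.IsRelPseudoCoherentModuleAll R A M ↔ Module.Finite A M) := by
  obtain ⟨k, α, hα⟩ := Groth.Agent.RelPCLib.exists_pres R A
  let φ := α.toRingHom
  have key : ∀ (L : Dual.D A) (j : ℤ), DerCA.IsRelPseudoCoherent R A j L ↔
      (∃ b : ℤ, ∀ i : ℤ, b < i → Subsingleton (Dual.HD A L i)) ∧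
        ∀ i : ℤ, j ≤ i → Module.Finite A (Dual.HD A L i) := by
    intro L j
    rw [Groth.Agent.RelPCLib.isRel_iff α hα L j]
    constructor
    · intro h
      obtain ⟨b, hb⟩ := Groth.Agent.RelPCLib.exists_bound_of_pc h
      refine ⟨⟨b, fun i hi => (Groth.Agent.RelPCLib.isZero_restrict_iff φ L i).1 (hb i hi)⟩,
        fun i hi => ?_⟩
      refine (Groth.Agent.RelPCLib.finite_restrict_iff φ hα
        ((Groth.Agent.DRingLib.Hn A i).obj L)).1 ?_
      haveI := Groth.Agent.RelPCLib.finite_of_pc_noetherian h i hi
      exact Module.Finite.equiv (Groth.Agent.RelPCLib.hnIso φ L i).toLinearEquiv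
    · rintro ⟨⟨b, hb⟩, hfin⟩
      refine Groth.Agent.DRingLib.isPseudoCoherent_of_finite_noetherian
        (fun i hi => (Groth.Agent.RelPCLib.isZero_restrict_iff φ L i).2 (hb i hi)) fun i hi => ?_
      haveI := (Groth.Agent.RelPCLib.finite_restrict_iff φ hα
        ((Groth.Agent.DRingLib.Hn A i).obj L)).2 (hfin i hi)
      exact Module.Finite.equiv (Groth.Agent.RelPCLib.hnIso φ L i).toLinearEquiv.symm
  refine ⟨key K m, ?_, ?_⟩
  · constructor
    · intro h
      exact ⟨((key K 0).1 (h 0)).1, fun i => ((key K i).1 (h i)).2 i le_rfl⟩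
    · rintro ⟨hb, hfin⟩ j
      exact (key K j).2 ⟨hb, fun i _ => hfin i⟩
  · constructor
    · intro h
      haveI : Module.Finite A (Dual.HD A (Dual.inD A M) 0) := ((key _ 0).1 (h 0)).2 0 le_rfl
      exact Module.Finite.equiv (Groth.Agent.DRingLib.inDEquiv M)
    · intro h j
      refine (key _ j).2 ⟨⟨0, fun i hi => ModuleCat.subsingleton_of_isZero
        (Groth.Agent.DRingLib.isZero_Hn_inD M (by omega))⟩, fun i _ => ?_⟩
      by_cases hi : i = 0
      · subst hi
        exact Module.Finite.equiv (Groth.Agent.DRingLib.inDEquiv M).symm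
      · exact Groth.Agent.DRingLib.finite_of_isZero (Groth.Agent.DRingLib.isZero_Hn_inD M hi)

end Groth.Agent.S7026
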