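import Groth.Statements.S7031
import Groth.Agent.S6962

set_option autoImplicit false
universe u
open CategoryTheory CategoryTheory.Limits
attribute [local instance] HasDerivedCategory.standard
open DRing

namespace Groth.Agent.S7031

/-- Let R be a regular commutative ring (Noetherian, with regular local rings at all primes) such that
the derived tensor product - ⊗^L_R M exists on D(R) for every R-module M, and let K be an object of
D(R). Then K is perfect if and only if H^i(K) = 0 outside a bounded range of degrees and every
H^i(K) is a finitely generated R-module. -/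
theorem result (R : Type u) [CommRing R] [IsNoetherianRing R]
    (hreg : ∀ p : PrimeSpectrum R, IsRegularLocalRing (Localization.AtPrime p.asIdeal)) [∀ M : ModuleCat.{u} R, DRing.HasLTensor R M] (K : Dual.D R) :
    DRing.IsPerfect R K ↔
      (∃ a b : ℤ, ∀ i : ℤ, (i < a ∨ b < i) → Subsingleton (Dual.HD R K i)) ∧ ∀ i : ℤ, Module.Finite R (Dual.HD R K i) := by
  constructor
  · rintro ⟨E, a, b, hv, hE, ⟨e⟩⟩
    refine ⟨⟨a, b, fun i hi => ModuleCat.subsingleton_of_isZero
      ((Groth.Agent.DRingLib.isZero_Hn_Q E i (hv i hi)).of_iso
        ((DerivedCategory.homologyFunctor (ModuleCat.{u} R) i).mapIso e.symm))⟩, fun i => ?_⟩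
    haveI : Module.Finite R (E.X i) := (hE i).1
    haveI : Module.Finite R (E.cycles i) := Module.Finite.of_injective (E.iCycles i).hom
      ((ModuleCat.mono_iff_injective _).1 inferInstance)
    haveI : Module.Finite R (E.homology i) := Module.Finite.of_surjective (E.homologyπ i).hom
      ((ModuleCat.epi_iff_surjective _).1 inferInstance)
    exact Module.Finite.equiv (PQLib.homologyIso e i).toLinearEquiv.symm
  · rintro ⟨⟨a, b, hab⟩, hfin⟩
    exact Groth.Agent.DRingLib.devissable_isPerfect.of_homology a (b + 1 - a).toNat K
      (fun i hi => @ModuleCat.isZero_of_subsingleton _ _ _ (hab i (by omega))) fun i =>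
      Groth.Agent.DRingLib.isPerfect_singleFunctor
        ((Groth.Agent.S6962.result R hreg _).2 (hfin i)) i

end Groth.Agent.S7031
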