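import Groth.Statements.S7034
import Groth.Agent.S6964
import Groth.Agent.DRingLib.Devissage

set_option autoImplicit false
universe u
open CategoryTheory CategoryTheory.Limits
attribute [local instance] HasDerivedCategory.standard
open DRing

namespace Groth.Agent.S7034

/-- Let R be a commutative ring of global dimension at most d, i.e. every R-module has projective
dimension at most d, such that the derived tensor product - ⊗^L_R M exists on D(R) for every
R-module M. Then: (1) for every R-module M, M[0] is isomorphic in D(R) to a complex of flat modules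
vanishing outside [-d, 0]; (2) every object K of D(R) with H^i(K) = 0 for all i outside [a, b] is
isomorphic in D(R) to a complex of flat modules vanishing outside [a - d, b]. -/
theorem result (R : Type u) [CommRing R] (d : ℕ)
    (hgl : ∀ (M : Type u) [AddCommGroup M] [Module R M], HasProjectiveDimensionLT (ModuleCat.of R M) (d + 1))
    [∀ M : ModuleCat.{u} R, DRing.HasLTensor R M] :
    (∀ (M : Type u) [AddCommGroup M] [Module R M], DRing.HasTorAmplitudeIn R (-(d : ℤ)) 0 (Dual.inD R M)) ∧
      (∀ (K : Dual.D R) (a b : ℤ), (∀ i : ℤ, (i < a ∨ b < i) → Subsingleton (Dual.HD R K i)) →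
        DRing.HasTorAmplitudeIn R (a - d) b K) := by
  have single0 : ∀ (M : Type u) [AddCommGroup M] [Module R M],
      DRing.HasTorAmplitudeIn R (-(d : ℤ)) 0 (Dual.inD R M) := by
    intro M _ _
    have hd := hgl M
    have h4 : (∀ n : ℤ, (n < -(d : ℤ) - 1 ∨ 0 < n) → Subsingleton (Dual.HD R (Dual.inD R M) n)) ∧
        ∀ (N : Type u) [AddCommGroup N] [Module R N],
          Subsingleton (DRing.ExtD R (Dual.inD R M) (Dual.inD R N) (-(-(d : ℤ)) + 1)) := by
      refine ⟨fun n hn => ModuleCat.subsingleton_of_isZero
        (PQLib.isZero_homology_single (ModuleCat.of R M) 0 n (by omega)), fun N _ _ => ?_⟩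
      rw [show (-(-(d : ℤ)) + 1) = ((d + 1 : ℕ) : ℤ) by push_cast; ring]
      haveI := HasProjectiveDimensionLT.subsingleton (ModuleCat.of R M) (d + 1) (d + 1) le_rfl
        (ModuleCat.of R N)
      exact (Abelian.Ext.homEquiv (X := ModuleCat.of R M) (Y := ModuleCat.of R N)
        (n := d + 1)).symm.subsingleton
    obtain ⟨P, hv, hP, e⟩ := ((Groth.Agent.S6964.result R (Dual.inD R M) (-(d : ℤ)) 0).out 3 0).1 h4
    exact ⟨P, hv, fun i => by
      have := hP i
      infer_instance, e⟩
  refine ⟨single0, fun K a b hK => ?_⟩
  refine (Groth.Agent.DRingLib.devissable_amplitude (a - d) b).of_homology a (b + 1 - a).toNat K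
    (fun i hi => @ModuleCat.isZero_of_subsingleton _ _ _ (hK i (by omega))) fun i => ?_
  by_cases hi : a ≤ i ∧ i ≤ b
  · exact Groth.Agent.DRingLib.hasTorAmplitudeIn_singleFunctor
      (Groth.Agent.DRingLib.hasTorAmplitudeIn_mono (by omega) (by omega) (single0 _))
  · exact Groth.Agent.DRingLib.hasTorAmplitudeIn_of_isZero
      ((DerivedCategory.singleFunctor (ModuleCat.{u} R) i).map_isZero
        (@ModuleCat.isZero_of_subsingleton _ _ _ (hK i (by omega)))) _ _

end Groth.Agent.S7034
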