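import Groth.Statements.S7035
import Groth.Agent.TwoTermLib.FibreAmp

set_option autoImplicit false
universe u
open CategoryTheory CategoryTheory.Limits
attribute [local instance] HasDerivedCategory.standard
open DRing

namespace Groth.Agent.S7035

/-- Let A → B be a flat homomorphism of commutative rings and d a natural number such that for every
prime p of A, with residue field κ(p), every module over κ(p) ⊗_A B has projective dimension at most
d; assume the derived tensor products - ⊗^L M exist on D(κ(p) ⊗_A B) for all p and the derived base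
changes D(B) → D(B/m) exist for all ideals m of B. Let a, b be integers and K an object of D(B)
which is pseudo-coherent over B and, with scalars restricted to A, has tor amplitude in [a, b]. Then
K is perfect over B and has tor amplitude in [a - d, b] over B. -/
theorem result {A B : Type u} [CommRing A] [CommRing B] [Algebra A B]
    [Module.Flat A B] (d : ℕ)
    (hgl : ∀ (p : PrimeSpectrum A) (M : Type u) [AddCommGroup M]
      [Module (TensorProduct A p.asIdeal.ResidueField B) M],
      HasProjectiveDimensionLT (ModuleCat.of (TensorProduct A p.asIdeal.ResidueField B) M) (d + 1))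
    [∀ (p : PrimeSpectrum A) (M : ModuleCat.{u} (TensorProduct A p.asIdeal.ResidueField B)),
      DRing.HasLTensor (TensorProduct A p.asIdeal.ResidueField B) M]
    [∀ m : Ideal B, DRing.HasLBaseChange (Ideal.Quotient.mk m)] (a b : ℤ) (K : Dual.D B)
    (hK : DRing.IsPseudoCoherent' B K)
    (hKa : DRing.HasTorAmplitudeIn A a b ((DRing.restrictD (algebraMap A B)).obj K)) :
    DRing.IsPerfect B K ∧ DRing.HasTorAmplitudeIn B (a - d) b K := by
  obtain ⟨P, bK, hPb, hPf, ⟨e⟩⟩ := hK
  have hP : DRing.IsKFlat B P := DRingLib.isKFlat_of_free P bK hPb fun i => (hPf i).2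
  let θ := algebraMap A B
  have hθ : θ.Flat := RingHom.flat_algebraMap_iff.2 inferInstance
  obtain ⟨C, hC, ⟨eC⟩⟩ := DRingLib.exists_good_rep (DerivedCategory.Q.obj ((DRing.restrictCx θ).obj P))
  have hA := DRingLib.amp_of_hasTorAmplitudeIn hKa hC.1
    (eC ≪≫ ((ModuleCat.restrictScalars.{u} θ).mapDerivedCategoryFactors.app P).symm ≪≫
      (DRing.restrictD θ).mapIso e)
  refine TwoTermLib.FibreAmp.perfect_of_fibres hPb hPf e fun m hm i hi => ?_
  letI : Field (B ⧸ m) := Ideal.Quotient.field m
  let p : PrimeSpectrum A := ⟨m.comap θ, inferInstance⟩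
  let g : p.asIdeal.ResidueField →ₐ[A] B ⧸ m := Ideal.ResidueField.liftₐ p.asIdeal
    (Algebra.ofId A (B ⧸ m)) (fun x hx => Ideal.Quotient.eq_zero_iff_mem.2 hx)
    (fun x hx => isUnit_iff_ne_zero.2 fun h => hx (show θ x ∈ m from Ideal.Quotient.eq_zero_iff_mem.1 h))
  let l : TensorProduct A p.asIdeal.ResidueField B →ₐ[A] B ⧸ m :=
    Algebra.TensorProduct.lift g (Ideal.Quotient.mkₐ A m) fun _ _ => Commute.all _ _
  let ψ : B →+* TensorProduct A p.asIdeal.ResidueField B :=
    Algebra.TensorProduct.includeRight.toRingHom
  letI : Module (TensorProduct A p.asIdeal.ResidueField B) (B ⧸ m) := Module.compHom _ l.toRingHom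
  refine TwoTermLib.FibreAmp.isZero_tensorN_of_fibre ψ d (fun M => hgl p M) hP (a := a) (b := b)
    (fun j hj => ?_) (B ⧸ m) (fun r x => ?_) i hi
  · let e' : (ModuleCat.extendScalars.{u, u, u} θ).obj (ModuleCat.of A p.asIdeal.ResidueField) ≅
        (ModuleCat.restrictScalars.{u} ψ).obj
          (ModuleCat.of (TensorProduct A p.asIdeal.ResidueField B)
            (TensorProduct A p.asIdeal.ResidueField B)) :=
      ((DRingLib.extendScalarsEquiv (A := A) (B := B) (ModuleCat.of A p.asIdeal.ResidueField)).trans
        ({ (TensorProduct.comm A B p.asIdeal.ResidueField).toAddEquiv with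
          map_smul' := fun r x => by
            show (TensorProduct.comm A B p.asIdeal.ResidueField) (r • x) =
              ψ r * (TensorProduct.comm A B p.asIdeal.ResidueField) x
            induction x using TensorProduct.induction_on with
            | zero => simp
            | add x y hx hy => simp [smul_add, hx, hy, mul_add]
            | tmul c z => simp [ψ, TensorProduct.smul_tmul', Algebra.TensorProduct.tmul_mul_tmul] } :
          TensorProduct A B p.asIdeal.ResidueField ≃ₗ[B]
            ((ModuleCat.restrictScalars.{u} ψ).obj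
              (ModuleCat.of (TensorProduct A p.asIdeal.ResidueField B)
                (TensorProduct A p.asIdeal.ResidueField B))))).toModuleIso
    rw [← TwoTermLib.FibreAmp.isZero_homology_tensorN_of_iso P e' j,
      ← TwoTermLib.FibreAmp.isZero_tensorN_ext_of_res θ hθ hP hC.1 eC]
    exact hA _ j hj
  · show l (1 ⊗ₜ[A] r) * x = Ideal.Quotient.mk m r * x
    simp [l]

end Groth.Agent.S7035
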