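import Groth.Statements.S7036
import Groth.Agent.DRingLib.Devissage
import Groth.Agent.DualCxLib.InjAmp

set_option autoImplicit false
universe u
open CategoryTheory CategoryTheory.Limits
attribute [local instance] HasDerivedCategory.standard
open DRing

namespace Groth.Agent.S7036

/-- Let R be a commutative ring. (1) If K is an object of D(R) whose cohomology vanishes outside a
bounded range and every cohomology module H^i(K), placed in degree 0, has finite injective
dimension, then K has finite injective dimension. (2) If K is a bounded cochain complex of R-modules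
and every term K^i, placed in degree 0, has finite injective dimension, then K has finite injective
dimension. -/
theorem result (R : Type u) [CommRing R] :
    (∀ (K : Dual.D R), (∃ a b : ℤ, ∀ i : ℤ, (i < a ∨ b < i) → Subsingleton (Dual.HD R K i)) →
        (∀ i : ℤ, DRing.HasFiniteInjDim R (Dual.inD R (Dual.HD R K i))) → DRing.HasFiniteInjDim R K) ∧
      (∀ (K : DRing.Cx R) (a b : ℤ), DRing.VanishesOutside K a b →
        (∀ i : ℤ, DRing.HasFiniteInjDim R (Dual.inD R (K.X i))) → DRing.HasFiniteInjDim R (DRing.toD K)) := by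
  let V : Dual.D R → Prop := fun X => ∃ a b : ℤ, ∀ (M : Type u) [AddCommGroup M] [Module R M] (i : ℤ),
    (i < a ∨ b < i) → Subsingleton (Dual.inD R M ⟶ X⟦i⟧)
  have ofInj : ∀ X : Dual.D R, DRing.HasFiniteInjDim R X → V X := fun X ⟨a, b, h⟩ =>
    ⟨a, b, fun M _ _ i hi => Groth.Agent.DualCxLib.ext_of_hasInjAmplitudeIn h M i hi⟩
  have iso : ∀ {X Y : Dual.D R}, (X ≅ Y) → V X → V Y := fun {X Y} e ⟨a, b, h⟩ =>
    ⟨a, b, fun M _ _ i hi => (((Iso.refl _).homCongr
      ((shiftFunctor (Dual.D R) i).mapIso e))).subsingleton_congr.1 (h M i hi)⟩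
  have hD : Groth.Agent.DRingLib.Devissable V :=
    { iso := iso
      zero := fun {X} hX => ⟨0, 0, fun M _ _ i _ =>
        ⟨fun f g => ((shiftFunctor (Dual.D R) i).map_isZero hX).eq_of_tgt f g⟩⟩
      ext := fun T hT => by
        rintro ⟨a, b, h1⟩ ⟨a', b', h3⟩
        refine ⟨min a a', max b b', fun M _ _ i hi => subsingleton_of_forall_eq 0 fun f => ?_⟩
        have hT' := Pretriangulated.Triangle.shift_distinguished T hT i
        haveI := h3 M i (by omega)
        obtain ⟨g, hg⟩ := Pretriangulated.Triangle.coyoneda_exact₂ _ hT' f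
          (Subsingleton.elim (α := Dual.inD R M ⟶ T.obj₃⟦i⟧) _ _)
        haveI := h1 M i (by omega)
        rw [hg, Subsingleton.elim (α := Dual.inD R M ⟶ T.obj₁⟦i⟧) g 0]
        exact Limits.zero_comp }
  have single : ∀ (N : ModuleCat.{u} R) (n : ℤ), DRing.HasFiniteInjDim R (Dual.inD R N) →
      V ((DerivedCategory.singleFunctor (ModuleCat.{u} R) n).obj N) := by
    intro N n h
    obtain ⟨a, b, hab⟩ := ofInj _ h
    refine iso (Groth.Agent.DRingLib.singleShiftIso N n) ⟨a + n, b + n, fun M _ _ i hi => ?_⟩
    exact (((Iso.refl _).homCongr ((shiftFunctorAdd' (Dual.D R) (-n) i (i - n) (by omega)).app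
      (Dual.inD R N)))).subsingleton_congr.1 (hab M (i - n) (by omega))
  refine ⟨fun K hK h => ?_, fun K a b hv h => ?_⟩
  · obtain ⟨a, b, hab⟩ := hK
    refine Groth.Agent.DualCxLib.hasFiniteInjDim_of_ext (hD.of_homology a (b + 1 - a).toNat K
      (fun i hi => @ModuleCat.isZero_of_subsingleton _ _ _ (hab i (by omega))) fun i => single _ i (h i))
  · refine Groth.Agent.DualCxLib.hasFiniteInjDim_of_ext (hD.of_terms a (b + 1 - a).toNat K
      (fun i hi => hv i (by omega)) fun i => single _ i (h i))

end Groth.Agent.S7036
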