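import Groth.Statements.S7037
import Groth.Agent.TwoTermLib.LTCx
import Groth.Agent.DRingLib.PCohMore
import Groth.Agent.KFlatLib.AlgMore

set_option autoImplicit false
universe u
open CategoryTheory CategoryTheory.Limits
attribute [local instance] HasDerivedCategory.standard
open DRing MonoidalCategory

namespace Groth.Agent.S7037

/-- Let R be a commutative ring, K a pseudo-coherent object of D(R), and L a cochain complex of
R-modules which is pseudo-coherent as an object of D(R); assume the derived tensor product - ⊗^L_R L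
exists on D(R). Then K ⊗^L_R L is pseudo-coherent. -/
theorem result (R : Type u) [CommRing R] (K : Dual.D R) (hK : DRing.IsPseudoCoherent' R K)
    (L : DRing.Cx R) (hL : DRing.IsPseudoCoherent' R (DRing.toD L)) [DRing.HasLTensorCx R L] :
    DRing.IsPseudoCoherent' R ((DRing.LTensorCx R L).obj K) := by
  obtain ⟨E, b, hEb, hEf, ⟨e⟩⟩ := hK
  obtain ⟨E', c, hE'b, hE'f, ⟨e'⟩⟩ := hL
  have hE : DRing.IsKFlat R E := KFlatLib.isKFlat_of_bounded_flat E b hEb fun i => by
    have := (hEf i).2
    infer_instance
  have : E'.IsKProjective := DRingLib.isKProjective_of_projective E' c hE'b fun i => by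
    have := (hE'f i).2
    infer_instance
  obtain ⟨g, hg⟩ := DRingLib.exists_qis_of_iso E' L e'
  have hq : QuasiIso (KFlatLib.tMap (𝟙 E) g) := KFlatLib.quasiIso_tMap_left hE g
  refine DRingLib.isPseudoCoherent'_iff_forall.2 fun m =>
    DRingLib.forall_isPseudoCoherent_of_projective (E ⊗ E') (b + c)
      (fun n hn => TwoTermLib.LTCx.isZero_tensor_X n fun p q hpq => ?_)
      (fun n => ⟨TwoTermLib.LTCx.finite_tensor_X (fun i => (hEf i).1) (fun i => (hE'f i).1)
          hEb hE'b n,
        TwoTermLib.LTCx.projective_tensor_X (fun i => by have := (hEf i).2; infer_instance)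
          (fun i => by have := (hE'f i).2; infer_instance) n⟩)
      (@asIso _ _ _ _ _ ((DerivedCategory.isIso_Q_map_iff_quasiIso (φ := KFlatLib.tMap (𝟙 E) g)).2 hq) ≪≫
        (TwoTermLib.LTCx.objIso L E hE).symm ≪≫ (DRing.LTensorCx R L).mapIso e) m
  by_cases hp : b < p
  · exact Or.inl (hEb p hp)
  · exact Or.inr (hE'b q (by omega))

end Groth.Agent.S7037
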