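import Groth.Statements.S7038
import Mathlib

set_option autoImplicit false
universe u
open LocCoh

namespace Groth.Agent.S7038

/-- For an ideal I of a commutative ring R and an R-module M, if every element of M is killed by a power
of I then the support of M is contained in the closed set V(I); conversely, when I is finitely
generated and the support of M is contained in V(I), every element of M is killed by a power of I.
(Finite generation is used only for the converse.) -/
theorem result {R : Type u} [CommRing R] (I : Ideal R)
    (M : Type u) [AddCommGroup M] [Module R M] :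
    (LocCoh.IsPowerTorsion I M → Module.support R M ⊆ PrimeSpectrum.zeroLocus (I : Set R)) ∧
    (I.FG → Module.support R M ⊆ PrimeSpectrum.zeroLocus (I : Set R) → LocCoh.IsPowerTorsion I M) := by
  refine ⟨fun h p hp => ?_, fun hI h m => ?_⟩
  · rw [PrimeSpectrum.mem_zeroLocus]
    obtain ⟨m, hm⟩ := Module.mem_support_iff'.mp hp
    obtain ⟨n, hn⟩ := h m
    have hle : I ^ n ≤ p.asIdeal := fun a ha => by
      by_contra hc
      exact hm a hc (hn a ha)
    exact p.2.le_of_pow_le hle
  · let J : Ideal R := (Submodule.span R {m}).annihilator
    have hJ : ∀ a, a ∈ J ↔ a • m = 0 := fun a => Submodule.mem_annihilator_span_singleton m a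
    have hle : I ≤ J.radical := by
      rw [Ideal.radical_eq_sInf, le_sInf_iff]
      rintro q ⟨hJq, hq⟩
      have hs : (⟨q, hq⟩ : PrimeSpectrum R) ∈ Module.support R M :=
        Module.mem_support_iff'.mpr ⟨m, fun a ha ham => ha (hJq ((hJ a).mpr ham))⟩
      exact h hs
    obtain ⟨n, hn⟩ := Ideal.exists_pow_le_of_le_radical_of_fg hle hI
    exact ⟨n, fun a ha => (hJ a).mp (hn ha)⟩

end Groth.Agent.S7038
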