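import Groth.Statements.S7039
import Mathlib

set_option autoImplicit false
universe u
open LocCoh

namespace Groth.Agent.S7039

lemma exists_pow_kill {R : Type u} [CommRing R] {M : Type u} [AddCommGroup M] [Module R M]
    (I J : Ideal R) (hJ : J.FG) (m : M) (h : ∀ a ∈ J, ∃ n : ℕ, ∀ b ∈ I ^ n, b • (a • m) = 0) :
    ∃ N : ℕ, ∀ c ∈ J * I ^ N, c • m = 0 := by
  classical
  obtain ⟨s, rfl⟩ := hJ
  choose! n hn using fun a (ha : a ∈ s) => h a (Ideal.subset_span ha)
  refine ⟨s.sup n, fun c hc => ?_⟩
  induction hc using Submodule.mul_induction_on' with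
  | mem_mul_mem a ha b hb =>
    induction ha using Submodule.span_induction with
    | mem x hx =>
      rw [mul_comm, mul_smul]
      exact hn x hx b (Ideal.pow_le_pow_right (Finset.le_sup hx) hb)
    | zero => simp
    | add x y _ _ hx hy => rw [add_mul, add_smul, hx, hy, add_zero]
    | smul r x _ hx => rw [smul_eq_mul, mul_assoc, mul_smul, hx, smul_zero]
  | add x _ y _ hx hy => rw [add_smul, hx, hy, add_zero]


/-- For a finitely generated ideal I of a commutative ring R and any R-module M, the quotient of M by
its submodule of I-power torsion elements has no nonzero element annihilated by I. -/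
theorem result {R : Type u} [CommRing R] (I : Ideal R) (hI : I.FG)
    (M : Type u) [AddCommGroup M] [Module R M] :
    LocCoh.torsionBy I (M ⧸ DRing.torsionSub I M) = ⊥ := by
  refine eq_bot_iff.mpr fun x hx => ?_
  obtain ⟨m, rfl⟩ := Submodule.Quotient.mk_surjective _ x
  rw [Submodule.mem_bot, Submodule.Quotient.mk_eq_zero]
  obtain ⟨N, hN⟩ := exists_pow_kill I I hI m fun a ha => by
    have h1 := (Submodule.mem_torsionBySet_iff _ _).mp hx ⟨a, ha⟩
    have h2 : a • m ∈ DRing.torsionSub I M := (Submodule.Quotient.mk_eq_zero _).mp h1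
    exact h2
  exact ⟨N + 1, fun a ha => hN a (by rwa [pow_succ'] at ha)⟩

end Groth.Agent.S7039
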