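import Groth.Statements.S7040
import Mathlib

set_option autoImplicit false
universe u
open CategoryTheory
open LocCoh

namespace Groth.Agent.S7040

lemma exists_pow_kill {R : Type u} [CommRing R] {M : Type u} [AddCommGroup M] [Module R M]
    (I J : Ideal R) (hJ : J.FG) (m : M) (h : ∀ a ∈ J, ∃ n : ℕ, ∀ b ∈ I ^ n, b • (a • m) = 0) :
    ∃ N : ℕ, ∀ c ∈ J * I ^ N, c • m = 0 := by
  classical
  obtain ⟨s, rfl⟩ := hJ
  choose! n hn using fun a (ha : a ∈ s) => h a (Ideal.subset_span ha)
  refine ⟨s.sup n, fun c hc => ?_⟩
  induction hc using Submodule.mul_induction_on' with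
  | mem_mul_mem a ha b hb =>
    induction ha using Submodule.span_induction with
    | mem x hx =>
      rw [mul_comm, mul_smul]
      exact hn x hx b (Ideal.pow_le_pow_right (Finset.le_sup hx) hb)
    | zero => simp
    | add x y _ _ hx hy => rw [add_mul, add_smul, hx, hy, add_zero]
    | smul r x _ hx => rw [smul_eq_mul, mul_assoc, mul_smul, hx, smul_zero]
  | add x _ y _ hx hy => rw [add_smul, hx, hy, add_zero]


/-- For a finitely generated ideal I of a commutative ring R, the property of being an I-power torsion
module (every element killed by a power of I) is a Serre class in the category of R-modules: it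
holds for 0 and is closed under subobjects, quotients and extensions. -/
theorem result {R : Type u} [CommRing R] (I : Ideal R) (hI : I.FG) :
    ObjectProperty.IsSerreClass (C := ModuleCat.{u} R) (fun M => LocCoh.IsPowerTorsion I M) := by
  exact
  { exists_zero := ⟨ModuleCat.of R PUnit, ModuleCat.isZero_of_subsingleton _,
      fun m => ⟨0, fun a _ => Subsingleton.elim _ _⟩⟩
    prop_of_mono := fun {X Y} f hf hY x => by
      obtain ⟨n, hn⟩ := hY (f.hom x)
      refine ⟨n, fun a ha => (ModuleCat.mono_iff_injective f).mp hf ?_⟩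
      change f.hom (a • x) = f.hom 0
      rw [map_smul, map_zero, hn a ha]
    prop_of_epi := fun {X Y} f hf hX y => by
      obtain ⟨x, rfl⟩ := (ModuleCat.epi_iff_surjective f).mp hf y
      obtain ⟨n, hn⟩ := hX x
      refine ⟨n, fun a ha => ?_⟩
      change a • f.hom x = 0
      rw [← map_smul, hn a ha, map_zero]
    prop_X₂_of_shortExact := fun {S} hS h1 h3 x => by
      obtain ⟨n, hn⟩ := h3 (S.g.hom x)
      obtain ⟨N, hN⟩ := exists_pow_kill I (I ^ n) hI.pow x fun a ha => by
        have h0 : S.g.hom (a • x) = 0 := by rw [map_smul, hn a ha]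
        obtain ⟨w, hw⟩ := (CategoryTheory.ShortComplex.ShortExact.moduleCat_exact_iff_function_exact S).mp hS.exact (a • x) |>.mp h0
        obtain ⟨k, hk⟩ := h1 w
        refine ⟨k, fun b hb => ?_⟩
        rw [← hw, ← map_smul, hk b hb, map_zero]
      exact ⟨n + N, fun a ha => hN a (by rwa [pow_add] at ha)⟩ }

end Groth.Agent.S7040
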