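import Groth.Statements.S7041
import Mathlib


-- import your own Groth.Agent.* helpers here

set_option autoImplicit false
universe u
open TensorProduct
open LocCoh

namespace Groth.Agent.S7041

/-- Let R → R' be a homomorphism of commutative rings and I an ideal of R such that the induced map
R/I^n → R'/I^n R' is bijective for every n > 0. Then for every R-module M in which every element is
killed by a power of I, the map M → R' ⊗_R M sending m to 1 ⊗ m is bijective. -/
theorem result {R R' : Type u} [CommRing R] [CommRing R'] [Algebra R R']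
    (I : Ideal R)
    (hq : ∀ n : ℕ, 0 < n → Function.Bijective
      (Ideal.quotientMap (Ideal.map (algebraMap R R') (I ^ n)) (algebraMap R R') Ideal.le_comap_map))
    (M : Type u) [AddCommGroup M] [Module R M] (hM : LocCoh.IsPowerTorsion I M) :
    Function.Bijective (fun m : M => (1 : R') ⊗ₜ[R] m) := by
  classical
  have hex : ∀ (r : R') (n : ℕ), 0 < n → ∃ s : R, r - algebraMap R R' s ∈ Ideal.map (algebraMap R R') (I ^ n) := fun r n hn => by
    obtain ⟨q, hq'⟩ := (hq n hn).2 (Ideal.Quotient.mk _ r)
    obtain ⟨s, rfl⟩ := Ideal.Quotient.mk_surjective q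
    rw [Ideal.quotientMap_mk] at hq'
    exact ⟨s, Ideal.Quotient.eq.1 hq'.symm⟩
  have huniq : ∀ (s : R) (n : ℕ), 0 < n → algebraMap R R' s ∈ Ideal.map (algebraMap R R') (I ^ n) → s ∈ I ^ n := fun s n hn hs => by
    rw [← Ideal.Quotient.eq_zero_iff_mem]
    apply (hq n hn).1
    rw [Ideal.quotientMap_mk, map_zero, Ideal.Quotient.eq_zero_iff_mem]
    exact hs
  have hkill : ∀ m : M, ∃ n : ℕ, 0 < n ∧ ∀ a ∈ I ^ n, a • m = 0 := fun m => by
    obtain ⟨n, hn⟩ := hM m
    exact ⟨n + 1, n.succ_pos, fun a ha => hn a (Ideal.pow_le_pow_right n.le_succ ha)⟩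
  choose N hN0 hN using hkill
  choose s hs using hex
  let F : R' → M → M := fun r m => s r (N m) (hN0 m) • m
  have hF : ∀ (r : R') (m : M) (n : ℕ), N m ≤ n → ∀ t : R, r - algebraMap R R' t ∈ Ideal.map (algebraMap R R') (I ^ n) → F r m = t • m := by
    intro r m n hn t ht
    have h1 : algebraMap R R' (s r (N m) (hN0 m) - t) ∈ Ideal.map (algebraMap R R') (I ^ N m) := by
      have h2 := Ideal.sub_mem _ (Ideal.map_mono (Ideal.pow_le_pow_right hn) ht) (hs r (N m) (hN0 m))
      rw [map_sub]
      simpa using h2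
    have := hN m _ (huniq _ _ (hN0 m) h1)
    rwa [sub_smul, sub_eq_zero] at this
  have haddm : ∀ r m m', F r (m + m') = F r m + F r m' := by
    intro r m m'
    let n := max (max (N m) (N m')) (N (m + m'))
    have hn : 0 < n := (hN0 m).trans_le ((le_max_left _ _).trans (le_max_left _ _))
    rw [hF r (m + m') n (le_max_right _ _) _ (hs r n hn), hF r m n ((le_max_left _ _).trans (le_max_left _ _)) _ (hs r n hn),
      hF r m' n ((le_max_right _ _).trans (le_max_left _ _)) _ (hs r n hn), smul_add]
  have hsmulm : ∀ (c : R) r m, F r (c • m) = c • F r m := by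
    intro c r m
    let n := max (N m) (N (c • m))
    have hn : 0 < n := (hN0 m).trans_le (le_max_left _ _)
    rw [hF r (c • m) n (le_max_right _ _) _ (hs r n hn), hF r m n (le_max_left _ _) _ (hs r n hn), smul_comm]
  have haddr : ∀ r r' m, F (r + r') m = F r m + F r' m := by
    intro r r' m
    rw [hF (r + r') m (N m) le_rfl (s r _ (hN0 m) + s r' _ (hN0 m)) ?_, add_smul]
    rw [map_add, add_sub_add_comm]
    exact add_mem (hs r _ _) (hs r' _ _)
  have hsmulr : ∀ (c : R) r m, F (c • r) m = c • F r m := by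
    intro c r m
    rw [hF (c • r) m (N m) le_rfl (c * s r _ (hN0 m)) ?_, mul_smul]
    rw [Algebra.smul_def, map_mul, ← mul_sub]
    exact Ideal.mul_mem_left _ _ (hs r _ _)
  let Φ : TensorProduct R R' M →ₗ[R] M := TensorProduct.lift (LinearMap.mk₂ R F haddr hsmulr haddm hsmulm)
  have hone : ∀ m, Φ ((1 : R') ⊗ₜ[R] m) = m := fun m => by
    change F 1 m = m
    rw [hF 1 m (N m) le_rfl 1 (by simp), one_smul]
  refine ⟨fun m m' h => by rw [← hone m, ← hone m']; exact congrArg Φ h, fun z => ⟨Φ z, ?_⟩⟩
  induction z with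
  | zero => simp
  | add a b ha hb => simp only at ha hb ⊢; rw [map_add, TensorProduct.tmul_add, ha, hb]
  | tmul r m =>
    change (1 : R') ⊗ₜ[R] (s r (N m) (hN0 m) • m) = r ⊗ₜ[R] m
    rw [← TensorProduct.smul_tmul, Algebra.smul_def, mul_one, ← sub_eq_zero, ← TensorProduct.sub_tmul]
    have hmem : algebraMap R R' (s r (N m) (hN0 m)) - r ∈ Ideal.map (algebraMap R R') (I ^ N m) := by
      rw [← neg_sub]; exact neg_mem (hs r _ _)
    generalize algebraMap R R' (s r (N m) (hN0 m)) - r = x at hmem ⊢
    induction hmem using Submodule.span_induction with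
    | mem y hy =>
      obtain ⟨a, ha, rfl⟩ := hy
      rw [← mul_one (algebraMap R R' a), ← Algebra.smul_def, TensorProduct.smul_tmul, hN m a ha, TensorProduct.tmul_zero]
    | zero => simp
    | add a b _ _ ha hb => rw [TensorProduct.add_tmul, ha, hb, add_zero]
    | smul c y _ ih => rw [← TensorProduct.smul_tmul', ih, smul_zero]

end Groth.Agent.S7041
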