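import Groth.Statements.S7042
import Groth.Agent.DCompLib.Criterion
import Groth.Agent.DCompLib.FinGen
-- import your own Groth.Agent.* helpers here

set_option autoImplicit false
set_option linter.style.haveILetI false
universe u
attribute [local instance] HasDerivedCategory.standard
open DRing

namespace Groth.Agent.S7042

open Groth.Agent.DCompLib


/-- Let I be a finitely generated ideal of a commutative ring A and let M be an A-module which, placed
in degree 0, is derived complete with respect to I, and in which every element is killed by a power
of I. Then a single power of I kills M. -/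
theorem result {A : Type u} [CommRing A]
    (I : Ideal A) (hI : I.FG) (M : Type u) [AddCommGroup M] [Module A M]
    (hc : DRing.IsDerivedComplete I (Dual.inD A M)) (ht : LocCoh.IsPowerTorsion I M) :
    ∃ n : ℕ, I ^ n • (⊤ : Submodule A M) = ⊥ := by
  rw [isDerivedComplete_inD_iff] at hc
  obtain ⟨s, rfl⟩ := hI
  refine exists_ideal_pow_smul_eq_bot s (fun f hf => hc f (Ideal.subset_span hf)) fun m f hf => ?_
  obtain ⟨n, hn⟩ := ht m
  exact ⟨n, hn _ (Ideal.pow_mem_pow (Ideal.subset_span hf) n)⟩

end Groth.Agent.S7042
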