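import Groth.Statements.S7043
import Groth.Agent.DCompLib.Completion
-- import your own Groth.Agent.* helpers here

set_option autoImplicit false
set_option linter.style.haveILetI false
universe u
attribute [local instance] HasDerivedCategory.standard
open DRing

namespace Groth.Agent.S7043

open Groth.Agent.DCompLib


/-- Let f be an element of a commutative ring A and let M be an A-module which, placed in degree 0, is
derived complete with respect to the ideal (f). Then the ideal J = ⋂ f^n A annihilates the submodule
⋂ f^n M, which is the kernel of M → lim M/f^n M. (The case M = A says that J has square zero when A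
itself is derived complete.) -/
theorem result {A : Type u} [CommRing A] (f : A)
    (M : Type u) [AddCommGroup M] [Module A M]
    (hc : DRing.IsDerivedComplete (Ideal.span {f}) (Dual.inD A M)) :
    (⨅ n : ℕ, Ideal.span {f ^ n}) • (⨅ n : ℕ, (Ideal.span {f ^ n}) • (⊤ : Submodule A M)) = (⊥ : Submodule A M) := by
  have hf := (isDerivedComplete_inD_iff _ M).1 hc f (Ideal.mem_span_singleton_self f)
  rw [eq_bot_iff, Submodule.smul_le]
  intro a ha y hy
  rw [Submodule.mem_bot]
  have ha' : ∀ n : ℕ, ∃ b, a = f ^ n * b := fun n =>
    Ideal.mem_span_singleton'.1 (Submodule.mem_iInf _ |>.1 ha n) |>.imp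
      fun b hb => by rw [← hb, mul_comm]
  choose b hb using ha'
  have hy' : ∀ n : ℕ, ∃ m, f ^ n • m = y := fun n => by
    have := (Submodule.mem_iInf _).1 hy n
    rw [Submodule.ideal_span_singleton_smul, Submodule.mem_smul_pointwise_iff_exists] at this
    obtain ⟨m, -, hm⟩ := this
    exact ⟨m, hm⟩
  have hx := hf.eq_zero (x := fun n => b n • y) fun n => by
    obtain ⟨m, rfl⟩ := hy' n
    rw [smul_smul, smul_smul, smul_smul]
    congr 1
    have h := (hb n).symm.trans (hb (n + 1))
    rw [pow_succ] at h
    linear_combination h
  have h0 := congrFun hx 0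
  rwa [show b 0 = a by rw [hb 0, pow_zero, one_mul]] at h0

end Groth.Agent.S7043
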