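import Groth.Statements.S7044
import Groth.Agent.DCompLib.Criterion
import Groth.Agent.DCompLib.FinGen
-- import your own Groth.Agent.* helpers here

set_option autoImplicit false
set_option linter.style.haveILetI false
universe u
attribute [local instance] HasDerivedCategory.standard
open DRing

namespace Groth.Agent.S7044

open Groth.Agent.DCompLib


/-- Let A be a commutative ring and I an ideal of A; if A, regarded as an object of D(A) sitting in
degree 0, is I-adically derived complete, then the pair (A, I) is henselian: I lies in the Jacobson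
radical and simple roots modulo I of monic polynomials lift to roots in A. -/
theorem result {A : Type u} [CommRing A] (I : Ideal A)
    (hc : DRing.IsDerivedComplete I (Dual.inD A A)) : HenselianRing A I := by
  rw [isDerivedComplete_inD_iff] at hc
  have hj := le_jacobson_of_fComplete hc
  refine ⟨hj, fun p _ a₀ h₁ h₂ => ?_⟩
  let g := p.eval a₀
  let I' : Ideal A := Ideal.span {g}
  have hle : I' ≤ I := (Ideal.span_singleton_le_iff_mem I).2 h₁
  have hU : ∀ a, a - a₀ ∈ I → IsUnit (p.derivative.eval a) := fun a ha => by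
    have := isLocalHom_of_le_jacobson_bot I hj
    apply IsUnit.of_map (Ideal.Quotient.mk I)
    convert! h₂ using 1
    exact SModEq.def.mp ((SModEq.sub_mem.2 ha).eval _)
  have newton : ∀ (a : A) (n : ℕ), a - a₀ ∈ I' → p.eval a ∈ I' ^ (n + 1) →
      ∃ a', a' - a ∈ I' ^ (n + 1) ∧ p.eval a' ∈ I' ^ (n + 1) * I' ^ (n + 1) := by
    intro a n ha hpa
    obtain ⟨u, hu⟩ := hU a (hle ha)
    refine ⟨a + (-(p.eval a) * ↑u⁻¹), ?_, ?_⟩
    · rw [add_sub_cancel_left, neg_mul]
      exact neg_mem (Ideal.mul_mem_right _ _ hpa)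
    · obtain ⟨c, hc⟩ := p.binomExpansion a (-(p.eval a) * ↑u⁻¹)
      rw [hc, ← hu, show (↑u : A) * (-(p.eval a) * ↑u⁻¹) = -(p.eval a) by
        rw [mul_left_comm, Units.mul_inv, mul_one], add_neg_cancel, zero_add, pow_two]
      exact Ideal.mul_mem_left _ c (Ideal.mul_mem_mul
        (Ideal.mul_mem_right _ _ (neg_mem hpa)) (Ideal.mul_mem_right _ _ (neg_mem hpa)))
  choose! nx hnx using newton
  let c : ℕ → A := fun n => Nat.rec a₀ (fun k b => nx b k) n
  have hcn : ∀ n, c n - a₀ ∈ I' ∧ p.eval (c n) ∈ I' ^ (n + 1) := by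
    intro n
    induction n with
    | zero =>
      exact ⟨(sub_self a₀).symm ▸ zero_mem _, by rw [pow_one]; exact Ideal.mem_span_singleton_self g⟩
    | succ n ih =>
      obtain ⟨h1, h2⟩ := hnx (c n) n ih.1 ih.2
      refine ⟨?_, ?_⟩
      · have := add_mem (Ideal.pow_le_self n.succ_ne_zero h1) ih.1
        rwa [sub_add_sub_cancel] at this
      · rw [← pow_add] at h2; exact Ideal.pow_le_pow_right (by omega) h2
  have hcauchy : ∀ {m n}, m ≤ n → c m ≡ c n [SMOD (I' ^ m • ⊤ : Submodule A A)] := by
    intro m n hmn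
    induction n, hmn using Nat.le_induction with
    | base => rfl
    | succ n hn ih =>
      refine ih.trans ?_
      rw [Ideal.smul_eq_mul, Ideal.mul_top, SModEq.sub_mem, ← neg_mem_iff, neg_sub]
      exact Ideal.pow_le_pow_right (by omega) (hnx (c n) n (hcn n).1 (hcn n).2).1
  have hfc : ∀ f ∈ ({g} : Finset A), FComplete f A := by
    simpa using hc g h₁
  obtain ⟨a, ha⟩ := surjective_of A A {g} hfc
    (AdicCompletion.mk _ A ⟨c, fun {m n} hmn => by
      rw [Finset.coe_singleton]; exact hcauchy hmn⟩)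
  have hlim : ∀ n, a - c n ∈ I' ^ n := fun n => by
    have := congrArg (fun z => z.1 n) ha
    simp only [AdicCompletion.of_apply, AdicCompletion.mk_apply_coe, Submodule.mkQ_apply] at this
    have := (Submodule.Quotient.eq _).1 this
    rwa [Ideal.smul_eq_mul, Ideal.mul_top, Finset.coe_singleton] at this
  have h1 : a - a₀ ∈ I' := by
    have := add_mem (show a - c 1 ∈ I' by simpa using hlim 1) (hcn 1).1
    rwa [sub_add_sub_cancel] at this
  have hJ : ∀ n, p.eval a ∈ I' ^ n := fun n => by
    have h3 : p.eval a - p.eval (c n) ∈ I' ^ n :=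
      SModEq.sub_mem.1 ((SModEq.sub_mem.2 (hlim n)).eval p)
    have := add_mem h3 (Ideal.pow_le_pow_right n.le_succ (hcn n).2)
    rwa [sub_add_cancel] at this
  obtain ⟨u, hu⟩ := hU a (hle h1)
  refine ⟨a + (-(p.eval a) * ↑u⁻¹), ?_, ?_⟩
  · obtain ⟨d, hd⟩ := p.binomExpansion a (-(p.eval a) * ↑u⁻¹)
    rw [Polynomial.IsRoot, hd, ← hu, show (↑u : A) * (-(p.eval a) * ↑u⁻¹) = -(p.eval a) by
      rw [mul_left_comm, Units.mul_inv, mul_one], add_neg_cancel, zero_add]
    have hsq : p.eval a * p.eval a = 0 :=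
      smul_eq_zero_of_mem_iInf (hc g h₁) ((Submodule.mem_iInf _).2 fun n => by
        have := hJ n
        rwa [Ideal.span_singleton_pow] at this) fun n => by
        have := hJ n
        rw [Ideal.span_singleton_pow, Ideal.mem_span_singleton'] at this
        obtain ⟨x, hx⟩ := this
        exact ⟨x, by rw [smul_eq_mul, mul_comm, hx]⟩
    linear_combination d * (↑u⁻¹ : A) * (↑u⁻¹ : A) * hsq
  · have := add_mem (hle h1) (I.mul_mem_right (↑u⁻¹ : A)
      (neg_mem (hle (by simpa using hJ 1))))
    convert this using 1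
    ring

end Groth.Agent.S7044
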