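import Groth.Statements.S7046
import Groth.Agent.DCompLib.Criterion
import Groth.Agent.DCompLib.FinGen
-- import your own Groth.Agent.* helpers here

set_option autoImplicit false
set_option linter.style.haveILetI false
universe u
attribute [local instance] HasDerivedCategory.standard
open DRing

namespace Groth.Agent.S7046

open Groth.Agent.DCompLib


/-- A reduced commutative ring A which, placed in degree 0 of D(A), is derived complete with respect to
a finitely generated ideal I is I-adically complete, i.e. separated and complete for the I-adic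
topology. -/
theorem result {A : Type u} [CommRing A] [IsReduced A]
    (I : Ideal A) (hI : I.FG) (hc : DRing.IsDerivedComplete I (Dual.inD A A)) :
    IsAdicComplete I A := by
  rw [isDerivedComplete_inD_iff] at hc
  obtain ⟨s, rfl⟩ := hI
  have h := iInf_pow_pow_two_pow s.toList A (RingHom.id A) fun f hf =>
    hc f (Ideal.subset_span (Finset.mem_toList.1 hf))
  have h0 : (⨅ n : ℕ, Ideal.span (s : Set A) ^ n) = ⊥ := by
    simp only [RingHom.id_apply, Set.image_id', Finset.length_toList, Finset.mem_toList] at h
    rw [eq_bot_iff]
    intro x hx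
    have hxp : x ^ (2 ^ s.card) ∈ (⊥ : Ideal A) := h ▸ Ideal.pow_mem_pow hx _
    exact IsReduced.eq_zero x ⟨_, hxp⟩
  refine (AdicCompletion.of_bijective_iff).1 ⟨(AdicCompletion.of_injective_iff).2 ⟨fun x hx => ?_⟩,
    surjective_of A A s fun f hf => hc f (Ideal.subset_span hf)⟩
  have : x ∈ (⨅ n : ℕ, Ideal.span (s : Set A) ^ n) := (Submodule.mem_iInf _).2 fun n => by
    have := SModEq.zero.1 (hx n)
    rwa [Ideal.smul_eq_mul, Ideal.mul_top] at this
  rwa [h0] at this

end Groth.Agent.S7046
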