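import Groth.Statements.S7053
import Groth.Agent.DCompLib.Completion
-- import your own Groth.Agent.* helpers here

set_option autoImplicit false
set_option linter.style.haveILetI false
universe u
attribute [local instance] HasDerivedCategory.standard
open DRing

namespace Groth.Agent.S7053

open Groth.Agent.DCompLib

theorem subsingleton_of_span {A : Type u} [CommRing A] (s : Finset A) :
    ∀ (M : Type u) [AddCommGroup M] [Module A M], (∀ f ∈ s, FComplete f M) →
      Ideal.span (s : Set A) • (⊤ : Submodule A M) = ⊤ → Subsingleton M := by
  classical
  induction s using Finset.induction_on with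
  | empty =>
    intro M _ _ _ h
    rw [Finset.coe_empty, Ideal.span_empty, Submodule.bot_smul] at h
    exact (Submodule.subsingleton_iff A).1 (subsingleton_iff_bot_eq_top.1 h)
  | insert f s _ ih =>
    intro M _ _ hc h
    let u : M →ₗ[A] M := LinearMap.lsmul A M f
    have hf := hc f (Finset.mem_insert_self f s)
    have h' : Ideal.span (s : Set A) • (⊤ : Submodule A (M ⧸ LinearMap.range u)) = ⊤ := by
      have := congrArg (Submodule.map (LinearMap.range u).mkQ) h
      rw [Submodule.map_smul'', Submodule.map_top, Submodule.range_mkQ, Finset.coe_insert,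
        Ideal.span_insert, Submodule.sup_smul] at this
      rwa [show Ideal.span {f} • (⊤ : Submodule A (M ⧸ LinearMap.range u)) = ⊥ from ?_, bot_sup_eq]
        at this
      rw [eq_bot_iff, Submodule.smul_le]
      intro r hr x _
      obtain ⟨m, rfl⟩ := Submodule.mkQ_surjective _ x
      obtain ⟨c, rfl⟩ := Ideal.mem_span_singleton'.1 hr
      rw [Submodule.mem_bot, ← map_smul]
      exact (Submodule.Quotient.mk_eq_zero _).2 ⟨c • m, by simp [u, smul_smul, mul_comm]⟩
    have := ih _ (fun g hg => (hc g (Finset.mem_insert_of_mem hg)).coker
      (hc g (Finset.mem_insert_of_mem hg)) u) h'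
    refine hf.subsingleton_of_smul_surjective fun m => ?_
    obtain ⟨m', hm⟩ := (Submodule.Quotient.mk_eq_zero (LinearMap.range u)).1
      (Subsingleton.elim (Submodule.Quotient.mk m) 0)
    exact ⟨m', hm⟩


/-- For a commutative ring A, a finitely generated ideal I and an A-module M which, placed in degree 0
of D(A), is derived complete with respect to I, if IM = M then M = 0. -/
theorem result {A : Type u} [CommRing A] (I : Ideal A) (hI : I.FG)
    (M : Type u) [AddCommGroup M] [Module A M] (hc : DRing.IsDerivedComplete I (Dual.inD A M))
    (h : I • (⊤ : Submodule A M) = ⊤) : Subsingleton M := by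
  obtain ⟨s, rfl⟩ := hI
  rw [isDerivedComplete_inD_iff] at hc
  exact subsingleton_of_span s M (fun f hf => hc f (Ideal.subset_span hf)) h

end Groth.Agent.S7053
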