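import Groth.Statements.S7054
import Groth.Agent.DCompLib.Completion
-- import your own Groth.Agent.* helpers here

set_option autoImplicit false
set_option linter.style.haveILetI false
universe u
attribute [local instance] HasDerivedCategory.standard
open DRing

namespace Groth.Agent.S7054

open Groth.Agent.DCompLib


/-- For a commutative ring A and an ideal I such that A, placed in degree 0, is derived complete with
respect to I, every object of D(A) isomorphic to a bounded above complex of finite free A-modules is
derived complete with respect to I. -/
theorem result {A : Type u} [CommRing A] (I : Ideal A)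
    (hA : DRing.IsDerivedComplete I (Dual.inD A A)) (K : Dual.D A) (hK : DRing.IsPseudoCoherent' A K) :
    DRing.IsDerivedComplete I K := by
  obtain ⟨E, b, hb, hf, ⟨e⟩⟩ := hK
  rw [isDerivedComplete_inD_iff] at hA
  rw [isDerivedComplete_iff]
  intro f hfI n
  have hX : ∀ i, FComplete f (E.X i) := fun i => by
    obtain ⟨hfin, hfree⟩ := hf i
    exact FComplete.of_linearEquiv (Module.Free.chooseBasis A (E.X i)).equivFun.symm
      (FComplete.pi fun _ => hA f hfI)
  have hH : FComplete f (E.homology n) := by
    refine FComplete.of_linearEquiv (E.sc n).moduleCatHomologyIso.symm.toLinearEquiv ?_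
    exact (hX _).coker ((hX _).ker (hX _) _) _
  exact hH.of_linearEquiv (((DerivedCategory.homologyFunctorFactors (ModuleCat.{u} A) n).app E).symm ≪≫
    (DerivedCategory.homologyFunctor (ModuleCat.{u} A) n).mapIso e).toLinearEquiv

end Groth.Agent.S7054
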