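import Groth.Statements.S7057
import Groth.Agent.DCompLib.Completion
import Groth.Agent.DerLib.ExactHomology
-- import your own Groth.Agent.* helpers here

set_option autoImplicit false
set_option linter.style.haveILetI false
universe u
attribute [local instance] HasDerivedCategory.standard
open DRing

namespace Groth.Agent.S7057

open Groth.Agent.DCompLib

theorem key {A B : Type u} [CommRing A] [CommRing B] (φ : A →+* B) (L : Dual.D B) (f : A) (n : ℤ) :
    FComplete f (Dual.HD A ((DRing.restrictD φ).obj L) n) ↔ FComplete (φ f) (Dual.HD B L n) := by
  have e : Dual.HD A ((DRing.restrictD φ).obj L) n ≃ₗ[A]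
      ↥((ModuleCat.restrictScalars.{u} φ).obj ((DerivedCategory.homologyFunctor (ModuleCat.{u} B) n).obj L)) :=
    ((DerLib.ExactHomology.homologyIso (ModuleCat.restrictScalars.{u} φ) n).app L).toLinearEquiv
  rw [fComplete_congr e]
  rfl


/-- For a homomorphism of commutative rings A → B, an ideal I of A and an object L of D(B), L is derived
complete with respect to the extended ideal IB if and only if L viewed in D(A) by restriction of
scalars is derived complete with respect to I. -/
theorem result {A B : Type u} [CommRing A] [CommRing B] (φ : A →+* B)
    (I : Ideal A) (L : Dual.D B) :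
    DRing.IsDerivedComplete (I.map φ) L ↔ DRing.IsDerivedComplete I ((DRing.restrictD φ).obj L) := by
  rw [isDerivedComplete_iff]
  constructor
  · intro h
    rw [isDerivedComplete_iff]
    exact fun f hf n => (key φ L f n).2 (h (φ f) (Ideal.mem_map_of_mem φ hf) n)
  · intro h g hg n
    rw [isDerivedComplete_iff] at h
    have : I.map φ ≤ completeIdeal B (Dual.HD B L n) :=
      Ideal.map_le_iff_le_comap.2 fun f hf => (key φ L f n).1 (h f hf n)
    exact this hg

end Groth.Agent.S7057
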