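import Groth.Statements.S7059
import Groth.Agent.DCompLib.Criterion
import Groth.Agent.DCompLib.PSMod
import Groth.Agent.S0544
import Mathlib.RingTheory.AdicCompletion.Completeness
import Mathlib.RingTheory.AdicCompletion.Algebra
-- import your own Groth.Agent.* helpers here

set_option autoImplicit false
set_option linter.style.haveILetI false
universe u
attribute [local instance] HasDerivedCategory.standard
open DRing

namespace Groth.Agent.S7059

/-- Let A be a Noetherian commutative ring, I an ideal and M an A-module which, placed in degree 0 of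
D(A), is derived complete with respect to I. If M/IM is a finite module, then M is I-adically
complete, and M (identified with its I-adic completion) is a finite module over the I-adic
completion of A. -/
theorem result {A : Type u} [CommRing A]
    [IsNoetherianRing A] (I : Ideal A) (M : Type u) [AddCommGroup M] [Module A M]
    (hc : DRing.IsDerivedComplete I (Dual.inD A M))
    (hf : Module.Finite A (M ⧸ I • (⊤ : Submodule A M))) :
    IsAdicComplete I M ∧ Module.Finite (AdicCompletion I A) (AdicCompletion I M) := by
  rw [Groth.Agent.DCompLib.isDerivedComplete_inD_iff] at hc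
  obtain ⟨s, hs⟩ := IsNoetherian.noetherian I
  change Ideal.span (s : Set A) = I at hs
  obtain ⟨n, g, hg⟩ := Module.Finite.exists_fin (R := A) (M := M ⧸ I • (⊤ : Submodule A M))
  choose e he using fun i => Submodule.mkQ_surjective (I • (⊤ : Submodule A M)) (g i)
  have hgen : ∀ m : M, ∃ c : Fin n → A, m - ∑ i, c i • e i ∈ I • (⊤ : Submodule A M) := fun m => by
    have : (Submodule.mkQ (I • (⊤ : Submodule A M)) m) ∈ Submodule.span A (Set.range g) := hg ▸ trivial
    obtain ⟨c, hc⟩ := (Submodule.mem_span_range_iff_exists_fun A).1 this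
    refine ⟨c, (Submodule.Quotient.mk_eq_zero _).1 ?_⟩
    rw [← Submodule.mkQ_apply, map_sub, map_sum, ← hc, sub_eq_zero]
    simp only [map_smul, he]
  have hcomp : ∀ f ∈ s, Groth.Agent.DCompLib.FComplete f M := fun f hf =>
    hc f (hs ▸ Ideal.subset_span hf)
  have hpre := Groth.Agent.DCompLib.surjective_of A M s hcomp
  rw [hs] at hpre
  obtain ⟨C, i1, i2, i3, ι, hfin, hι, hjac, -⟩ :=
    Groth.Agent.DCompLib.exists_finite_powerSeries s.toList s.toList rfl
      (fun f hf => hcomp f (Finset.mem_toList.1 hf)) n e (fun m => by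
        obtain ⟨c, hc⟩ := hgen m
        rw [← hs] at hc
        obtain ⟨y, hy⟩ := Groth.Agent.DCompLib.exists_sum_of_mem s id (x := m - ∑ i, c i • e i)
          (by simpa using hc)
        refine ⟨c, y, ?_⟩
        rw [Finset.sum_map_toList]
        exact sub_eq_iff_eq_add'.1 hy)
  have hhaus : IsHausdorff I M := by
    refine ⟨fun x hx => ?_⟩
    let J := (⊥ : Ideal C).jacobson
    have hmem : ∀ r ∈ I, ∃ c ∈ J, ∀ m : M, c • m = r • m := by
      intro r hr
      rw [← hs] at hr
      induction hr using Submodule.span_induction with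
      | mem r hr => exact hjac r (Finset.mem_toList.2 hr)
      | zero => exact ⟨0, zero_mem _, fun m => by simp⟩
      | add a b _ _ ha hb =>
        obtain ⟨c, hc, hc'⟩ := ha
        obtain ⟨d, hd, hd'⟩ := hb
        exact ⟨c + d, add_mem hc hd, fun m => by rw [add_smul, add_smul, hc', hd']⟩
      | smul a b _ hb =>
        obtain ⟨c, hc, hc'⟩ := hb
        exact ⟨ι a * c, J.mul_mem_left _ hc, fun m => by rw [mul_smul, hι, hc', smul_assoc]⟩
    have hpow : ∀ k : ℕ, ∀ r ∈ I ^ k, ∃ c ∈ J ^ k, ∀ m : M, c • m = r • m := by
      intro k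
      induction k with
      | zero => exact fun r _ => ⟨ι r, by simp, hι r⟩
      | succ k ih =>
        intro r hr
        rw [pow_succ] at hr
        refine Submodule.mul_induction_on hr (fun a ha b hb => ?_) (fun a b ha hb => ?_)
        · obtain ⟨c, hc, hc'⟩ := ih a ha
          obtain ⟨d, hd, hd'⟩ := hmem b hb
          exact ⟨c * d, by rw [pow_succ]; exact Ideal.mul_mem_mul hc hd,
            fun m => by rw [mul_smul, mul_smul, hd', hc']⟩
        · obtain ⟨c, hc, hc'⟩ := ha
          obtain ⟨d, hd, hd'⟩ := hb
          exact ⟨c + d, add_mem hc hd, fun m => by rw [add_smul, add_smul, hc', hd']⟩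
    have : x ∈ (⨅ k : ℕ, J ^ k • ⊤ : Submodule C M) := (Submodule.mem_iInf _).2 fun k => by
      have hxk := SModEq.zero.1 (hx k)
      refine Submodule.smul_induction_on hxk (fun r hr m _ => ?_) fun a b ha hb => add_mem ha hb
      obtain ⟨c, hc, hc'⟩ := hpow k r hr
      rw [← hc']
      exact Submodule.smul_mem_smul hc trivial
    rwa [Ideal.iInf_pow_smul_eq_bot_of_le_jacobson J le_rfl] at this
  refine ⟨{ hhaus, AdicCompletion.of_surjective_iff.1 hpre with }, ?_⟩
  let R' := AdicCompletion I A
  let I' : Ideal R' := I.map (algebraMap A R')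
  haveI : IsAdicComplete I R' := AdicCompletion.isAdicComplete (IsNoetherian.noetherian I)
  haveI : IsAdicComplete I (AdicCompletion I M) :=
    AdicCompletion.isAdicComplete (IsNoetherian.noetherian I)
  haveI : IsAdicComplete I' R' := (IsAdicComplete.map_algebraMap_iff I R').2 ‹_›
  haveI : IsHausdorff I' (AdicCompletion I M) := IsHausdorff.map_algebraMap_iff.2 inferInstance
  classical
  refine Groth.Agent.S0544.result R' I' (AdicCompletion I M) ?_
  refine ⟨⟨Finset.univ.image fun i =>
    Submodule.mkQ (I' • (⊤ : Submodule R' (AdicCompletion I M))) (AdicCompletion.of I M (e i)), ?_⟩⟩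
  rw [eq_top_iff]
  rintro q -
  obtain ⟨y, rfl⟩ := Submodule.mkQ_surjective _ q
  obtain ⟨m, rfl⟩ := hpre y
  obtain ⟨c, hc⟩ := hgen m
  have hz : AdicCompletion.of I M (m - ∑ i, c i • e i) ∈
      I' • (⊤ : Submodule R' (AdicCompletion I M)) := by
    refine Submodule.smul_induction_on hc (fun r hr x _ => ?_) fun a b ha hb => by
      rw [map_add]; exact add_mem ha hb
    rw [map_smul, ← IsScalarTower.algebraMap_smul R' r (AdicCompletion.of I M x)]
    exact Submodule.smul_mem_smul (Ideal.mem_map_of_mem _ hr) trivial
  rw [map_sub, ← Submodule.Quotient.mk_eq_zero, ← Submodule.mkQ_apply, map_sub, sub_eq_zero] at hz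
  rw [hz, map_sum, map_sum]
  refine Submodule.sum_mem _ fun i _ => ?_
  rw [map_smul, ← IsScalarTower.algebraMap_smul R' (c i) (AdicCompletion.of I M (e i)), map_smul]
  exact Submodule.smul_mem _ _ (Submodule.subset_span (by simp))

end Groth.Agent.S7059
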