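import Groth.Statements.S7061
import Groth.Agent.DCompFlatLib.Main

set_option autoImplicit false
universe u
attribute [local instance] HasDerivedCategory.standard
open TensorProduct
open CategoryTheory
open DRing

namespace Groth.Agent.S7061

theorem apply_of_comp {A : Type u} [CommRing A] {X Y Z : ModuleCat.{u} A} (p : X ⟶ Y) (e : Y ≅ Z) (φ : X ⟶ Z)
    (h : p ≫ e.hom = φ) (x : X) : e.toLinearEquiv (p.hom x) = φ.hom x :=
  congrArg (fun t : X ⟶ Z => t.hom x) h

/-- Let A be a Noetherian commutative ring and I an ideal, and assume the derived completion functor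
exists. For a finite A-module M and a flat A-module N, the derived completion of M ⊗_A N (placed in
degree 0) has vanishing cohomology in every nonzero degree, and there is an A-linear isomorphism
from its degree-0 cohomology to the I-adic completion of M ⊗_A N which carries the map M ⊗_A N =
H^0((M ⊗_A N)[0]) → H^0(((M ⊗_A N)[0])^∧) induced by the canonical morphism to the derived
completion to the canonical map from M ⊗_A N to its I-adic completion. -/
theorem result {A : Type u} [CommRing A] [IsNoetherianRing A]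
    (I : Ideal A) [DRing.HasDerivedCompletion I]
    (M N : Type u) [AddCommGroup M] [Module A M] [Module.Finite A M] [AddCommGroup N] [Module A N] [Module.Flat A N] :
    (∀ i : ℤ, i ≠ 0 → Subsingleton (Dual.HD A ((DRing.derivedCompletion I).obj (Dual.inD A (M ⊗[A] N))).obj i)) ∧
      ∃ e : Dual.HD A ((DRing.derivedCompletion I).obj (Dual.inD A (M ⊗[A] N))).obj 0 ≃ₗ[A]
          AdicCompletion I (M ⊗[A] N),
        ∀ x : M ⊗[A] N,
          e ((((DerivedCategory.singleFunctorCompHomologyFunctorIso (ModuleCat.{u} A) 0).inv.app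
                (ModuleCat.of A (M ⊗[A] N))) ≫
              (DerivedCategory.homologyFunctor (ModuleCat.{u} A) 0).map
                (DRing.toDerivedCompletion I (Dual.inD A (M ⊗[A] N)))).hom x) =
            AdicCompletion.of I (M ⊗[A] N) x := by
  obtain ⟨_, _, _, _⟩ := Groth.Agent.DualCxLib.exists_binders A
  let M' := ModuleCat.of A M
  let N' := ModuleCat.of A N
  let C := ModuleCat.of A (AdicCompletion I (M ⊗[A] N))
  let φ : ModuleCat.of A (M ⊗[A] N) ⟶ C := ModuleCat.ofHom (AdicCompletion.of I (M ⊗[A] N))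
  let sF := DerivedCategory.singleFunctor (ModuleCat.{u} A) 0
  let sq := DerivedCategory.singleFunctorIsoCompQ (ModuleCat.{u} A) 0
  obtain ⟨e₀, he₀⟩ := DCompFlatLib.exists_completion_equiv I (M := M) N
  let i₁ : MonoidalCategoryStruct.tensorObj N' M' ≅ ModuleCat.of A (M ⊗[A] N) :=
    (TensorProduct.comm A N M).toModuleIso
  let i₂ : MonoidalCategoryStruct.tensorObj (ModuleCat.of A (AdicCompletion I N)) M' ≅ C := e₀.toModuleIso
  let g₀ : MonoidalCategoryStruct.tensorObj N' M' ⟶
      MonoidalCategoryStruct.tensorObj (ModuleCat.of A (AdicCompletion I N)) M' :=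
    MonoidalCategoryStruct.whiskerRight (ModuleCat.ofHom (AdicCompletion.of I N)) M'
  have hw : g₀ ≫ i₂.hom = i₁.hom ≫ φ := ModuleCat.hom_ext (LinearMap.ext fun x => he₀ x)
  have hq : Groth.Agent.DCompLib.IsRefl I (sF.map φ) := by
    refine DCompTenLib.isRefl_of_arrow ((sq.app _).symm ≪≫ sF.mapIso i₁) ((sq.app _).symm ≪≫ sF.mapIso i₂) ?_
      (DCompFlatLib.isRefl_tensor (I := I) M' N')
    show (sq.inv.app _ ≫ sF.map i₁.hom) ≫ sF.map φ = _ ≫ sq.inv.app _ ≫ sF.map i₂.hom
    rw [Category.assoc, ← Functor.map_comp, ← hw, Functor.map_comp]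
    exact (NatTrans.naturality_assoc sq.inv g₀ _).symm
  have hu := Groth.Agent.DCompLib.isRefl_unit (I := I) (sF.obj (ModuleCat.of A (M ⊗[A] N)))
  obtain ⟨a, ha⟩ := (hu.2 _ hq.1).2 (sF.map φ)
  obtain ⟨b, hb⟩ := (hq.2 _ hu.1).2 (DRing.toDerivedCompletion I _)
  simp only at ha hb
  let ψ : ((DRing.derivedCompletion I).obj (Dual.inD A (M ⊗[A] N))).obj ≅ sF.obj C :=
    ⟨a, b, (hu.2 _ hu.1).1 (by
        show DRing.toDerivedCompletion I _ ≫ a ≫ b = DRing.toDerivedCompletion I _ ≫ 𝟙 _
        rw [← Category.assoc, ha, hb, Category.comp_id]),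
      (hq.2 _ hq.1).1 (by
        show sF.map φ ≫ b ≫ a = sF.map φ ≫ 𝟙 _
        rw [← Category.assoc, hb, ha, Category.comp_id])⟩
  refine ⟨fun i hi => ?_, ?_⟩
  · exact ModuleCat.subsingleton_of_isZero ((Groth.Agent.DRingLib.isZero_Hn_inD (R := A)
      (AdicCompletion I (M ⊗[A] N)) hi).of_iso
        ((DerivedCategory.homologyFunctor (ModuleCat.{u} A) i).mapIso ψ))
  · let κ := DerivedCategory.singleFunctorCompHomologyFunctorIso (ModuleCat.{u} A) 0
    refine ⟨((DerivedCategory.homologyFunctor (ModuleCat.{u} A) 0).mapIso ψ ≪≫ κ.app C).toLinearEquiv, fun x => ?_⟩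
    have key : (κ.inv.app (ModuleCat.of A (M ⊗[A] N)) ≫
        (DerivedCategory.homologyFunctor (ModuleCat.{u} A) 0).map (DRing.toDerivedCompletion I _)) ≫
          (DerivedCategory.homologyFunctor (ModuleCat.{u} A) 0).map a ≫ κ.hom.app C = φ := by
      rw [Category.assoc, ← Functor.map_comp_assoc, ha]
      exact (NatTrans.naturality_assoc κ.inv φ (κ.hom.app C)).symm.trans
        ((congrArg (φ ≫ ·) (κ.inv_hom_id_app C)).trans (Category.comp_id _))
    exact apply_of_comp _ ((DerivedCategory.homologyFunctor (ModuleCat.{u} A) 0).mapIso ψ ≪≫ κ.app C) φ key x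

end Groth.Agent.S7061
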