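import Groth.Statements.S7062
import Mathlib
import Groth.Agent.GlueTorLib.Basic
-- import your own Groth.Agent.* helpers here

set_option autoImplicit false
universe u
open EtGlue

open scoped TensorProduct
namespace Groth.Agent.S7062

set_option maxHeartbeats 400000

/-- For a glueing pair (R → R', f), i.e. R/f^nR → R'/f^nR' is bijective for all n > 0 and the sequence 0
→ R → R' ⊕ R_f → R'_f → 0 is exact, the group Tor_1^R(R', f^n R) vanishes for every n > 0 (Tor
computed by resolving the second argument, the ideal f^n R). -/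
theorem result {R R' : Type u} [CommRing R] [CommRing R'] [Algebra R R']
    (f : R) (h : EtGlue.IsGlueingPair R R' f) (n : ℕ) (hn : 0 < n) :
    Subsingleton (DRing.Tor R 1 R' ↥(Ideal.span ({f ^ n} : Set R))) := by
  let i : Ideal.span ({f ^ n} : Set R) →ₗ[R] R := (Ideal.span ({f ^ n} : Set R)).subtype
  have hi : Function.Bijective (i.baseChange (Localization.Away f)) := by
    refine ⟨Module.Flat.lTensor_preserves_injective_linearMap (M := Localization.Away f) i
      Subtype.val_injective, fun z => ?_⟩
    obtain ⟨a, rfl⟩ : ∃ a, z = a ⊗ₜ[R] (1 : R) := ⟨TensorProduct.rid R _ z,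
      ((TensorProduct.rid R _).symm_apply_apply z).symm.trans (TensorProduct.rid_symm_apply _)⟩
    have hu : IsUnit (algebraMap R (Localization.Away f) (f ^ n)) :=
      IsLocalization.map_units (M := Submonoid.powers f) _ ⟨f ^ n, n, rfl⟩
    obtain ⟨v, hv⟩ := hu
    refine ⟨(a * ↑v⁻¹) ⊗ₜ ⟨f ^ n, Ideal.mem_span_singleton_self _⟩, ?_⟩
    change (a * ↑v⁻¹) ⊗ₜ[R] (f ^ n) = _
    rw [show (f ^ n : R) = f ^ n • (1 : R) by simp, ← TensorProduct.smul_tmul, Algebra.smul_def, ← hv]
    congr 1
    rw [← mul_assoc, mul_comm (↑v : Localization.Away f) a, mul_assoc, v.mul_inv, mul_one]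
  have : Module.Flat (Localization.Away f)
      (Localization.Away f ⊗[R] Ideal.span ({f ^ n} : Set R)) :=
    Module.Flat.of_linearEquiv (LinearEquiv.ofBijective _ hi)
  exact Groth.Agent.GlueTorLib.subsingleton_tor_one h _

end Groth.Agent.S7062
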