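import Groth.Statements.S7063
import Mathlib
import Groth.Agent.GlueTorLib.Basic
-- import your own Groth.Agent.* helpers here

set_option autoImplicit false
universe u
open EtGlue

open scoped TensorProduct
namespace Groth.Agent.S7063

set_option maxHeartbeats 400000

/-- For a glueing pair (R → R', f), the group Tor_1^R(R', R/R[f^∞]) vanishes, where R[f^∞] is the
submodule of elements of R killed by a power of f (Tor computed by resolving the second argument). -/
theorem result {R R' : Type u} [CommRing R] [CommRing R']
    [Algebra R R'] (f : R) (h : EtGlue.IsGlueingPair R R' f) :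
    Subsingleton (DRing.Tor R 1 R' (R ⧸ DRing.torsionSub (Ideal.span ({f} : Set R)) R)) := by
  let q : R →ₗ[R] R ⧸ DRing.torsionSub (Ideal.span ({f} : Set R)) R :=
    (DRing.torsionSub (Ideal.span ({f} : Set R)) R).mkQ
  have hq : Function.Bijective (q.baseChange (Localization.Away f)) := by
    refine ⟨(injective_iff_map_eq_zero _).2 fun z hz => ?_,
      LinearMap.lTensor_surjective _ (Submodule.mkQ_surjective _)⟩
    obtain ⟨w, rfl⟩ := (lTensor_exact (Localization.Away f) (LinearMap.exact_subtype_mkQ _)
      (Submodule.mkQ_surjective _) z).1 hz
    clear hz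
    induction w using TensorProduct.induction_on with
    | zero => rw [map_zero]
    | add a b ha hb => rw [map_add, ha, hb, add_zero]
    | tmul a t =>
      obtain ⟨m, hm⟩ := t.2
      have ht : f ^ m * (t : R) = 0 :=
        hm (f ^ m) (Ideal.pow_mem_pow (Ideal.mem_span_singleton_self f) m)
      have hu : IsUnit (algebraMap R (Localization.Away f) (f ^ m)) :=
        IsLocalization.map_units (M := Submonoid.powers f) _ ⟨f ^ m, m, rfl⟩
      apply hu.smul_left_cancel.1
      rw [smul_zero, algebraMap_smul, LinearMap.lTensor_tmul, Submodule.subtype_apply,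
        ← TensorProduct.tmul_smul, smul_eq_mul, ht, TensorProduct.tmul_zero]
  have : Module.Flat (Localization.Away f)
      (Localization.Away f ⊗[R] (R ⧸ DRing.torsionSub (Ideal.span ({f} : Set R)) R)) :=
    Module.Flat.of_linearEquiv (LinearEquiv.ofBijective _ hq).symm
  exact Groth.Agent.GlueTorLib.subsingleton_tor_one h _

end Groth.Agent.S7063
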