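import Groth.Statements.S7064
import Mathlib
import Groth.Agent.GlueTorLib.Basic
-- import your own Groth.Agent.* helpers here

set_option autoImplicit false
universe u
open EtGlue

open scoped TensorProduct
namespace Groth.Agent.S7064

set_option maxHeartbeats 400000

/-- For a glueing pair (R → R', f) and any R-module M, the group Tor_1^R(R', Coker(M → M_f)) vanishes,
where M_f is the localization of M at the powers of f (Tor computed by resolving the second
argument). -/
theorem result {R R' : Type u} [CommRing R] [CommRing R']
    [Algebra R R'] (f : R) (h : EtGlue.IsGlueingPair R R' f) (M : Type u) [AddCommGroup M] [Module R M] :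
    Subsingleton (DRing.Tor R 1 R'
      (LocalizedModule (Submonoid.powers f) M ⧸
        LinearMap.range (LocalizedModule.mkLinearMap (Submonoid.powers f) M))) := by
  have : Subsingleton (Localization.Away f ⊗[R] (LocalizedModule (Submonoid.powers f) M ⧸
      LinearMap.range (LocalizedModule.mkLinearMap (Submonoid.powers f) M))) := by
    refine subsingleton_of_forall_eq 0 fun z => ?_
    induction z using TensorProduct.induction_on with
    | zero => rfl
    | add a b ha hb => rw [ha, hb, add_zero]
    | tmul a q =>
      obtain ⟨y, rfl⟩ := Submodule.mkQ_surjective _ q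
      obtain ⟨⟨m, ⟨_, k, rfl⟩⟩, hm⟩ := IsLocalizedModule.surj (Submonoid.powers f)
        (LocalizedModule.mkLinearMap (Submonoid.powers f) M) y
      have hu : IsUnit (algebraMap R (Localization.Away f) (f ^ k)) :=
        IsLocalization.map_units (M := Submonoid.powers f) _ ⟨f ^ k, k, rfl⟩
      apply hu.smul_left_cancel.1
      have h0 : (LinearMap.range (LocalizedModule.mkLinearMap (Submonoid.powers f) M)).mkQ (f ^ k • y) = 0 :=
        (Submodule.Quotient.mk_eq_zero _).2 ⟨m, hm.symm⟩
      rw [smul_zero, algebraMap_smul, ← TensorProduct.tmul_smul, ← map_smul, h0, TensorProduct.tmul_zero]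
  exact Groth.Agent.GlueTorLib.subsingleton_tor_one h _

end Groth.Agent.S7064
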