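import Groth.Statements.S7073
import Groth.Agent.RelPerfLib.Basic

set_option autoImplicit false
set_option backward.isDefEq.respectTransparency false
set_option backward.isDefEq.respectTransparency.types false
universe u
attribute [local instance] HasDerivedCategory.standard
open Dual2

namespace Groth.Agent.S7073

/-- For a flat homomorphism of finite presentation R → A of commutative rings, every perfect object of
D(A) is R-perfect, i.e. pseudo-coherent over A and of finite tor dimension as a complex of
R-modules. -/
theorem result (R A : Type u) [CommRing R] [CommRing A] [Algebra R A]
    [Module.Flat R A] [Algebra.FinitePresentation R A] (K : Dual.D A) (hK : DRing.IsPerfect A K) :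
    Dual2.IsRelPerfect R A K := by
  obtain ⟨E, a, b, hE, hp, ⟨e⟩⟩ := hK
  refine RelPerfLib.isRelPerfect_of_rep E a b hE (fun i => ?_) (fun i => ?_) e
  · haveI := (hp i).1; haveI := (hp i).2
    exact Module.finitePresentation_of_projective A _
  · haveI := (hp i).2
    exact RelPerfLib.rflat_of_flat (E.X i)

end Groth.Agent.S7073
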