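import Groth.Statements.S7074
import Groth.Agent.RelPerfLib.Basic

set_option autoImplicit false
set_option backward.isDefEq.respectTransparency false
set_option backward.isDefEq.respectTransparency.types false
universe u
attribute [local instance] HasDerivedCategory.standard
open CategoryTheory
open Dual2

namespace Groth.Agent.S7074

/-- For a flat homomorphism of finite presentation R → A of commutative rings and an object K of D(A), K
is R-perfect (pseudo-coherent over A and of finite tor dimension over R) if and only if K is
isomorphic in D(A) to a bounded complex whose terms are finitely presented A-modules that are flat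
as R-modules. -/
theorem result (R A : Type u) [CommRing R] [CommRing A] [Algebra R A]
    [Module.Flat R A] [Algebra.FinitePresentation R A] (K : Dual.D A) :
    Dual2.IsRelPerfect R A K ↔
      ∃ (E : DRing.Cx A) (a b : ℤ), DRing.VanishesOutside E a b ∧
        (∀ i : ℤ, Module.FinitePresentation A (E.X i) ∧
          Module.Flat R ((ModuleCat.restrictScalars (algebraMap R A)).obj (E.X i))) ∧
        Nonempty (DRing.toD E ≅ K) := by
  constructor
  · intro h
    obtain ⟨F, E, g, a, b, -, -, hg, hE, hT, ⟨e⟩⟩ := RelPerfLib.exists_rep h
    haveI := hg
    haveI : IsIso (DerivedCategory.Q.map g) :=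
      (DerivedCategory.isIso_Q_map_iff_quasiIso (φ := g)).2 hg
    exact ⟨E, a, b, hE, hT, ⟨(asIso (DerivedCategory.Q.map g)).symm ≪≫ e⟩⟩
  · rintro ⟨E, a, b, hE, hT, ⟨e⟩⟩
    exact RelPerfLib.isRelPerfect_of_rep E a b hE (fun i => (hT i).1) (fun i => (hT i).2) e

end Groth.Agent.S7074
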