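import Groth.Statements.S7077
import Groth.Agent.TwoTermLib.Two

set_option autoImplicit false
universe u
attribute [local instance] HasDerivedCategory.standard
open CategoryTheory
open DRing

namespace Groth.Agent.S7077

/-- (1)⇔(2): let R be a commutative ring and K an object of D(R) whose cohomology modules vanish outside
degrees -1 and 0. Then H^{-1}(K) vanishes and H^0(K) is a projective R-module if and only if
Ext^1_R(K, M) = Hom_{D(R)}(K, M[1]) vanishes for every R-module M. -/
theorem result {R : Type u} [CommRing R] (K : Dual.D R)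
    (hK : ∀ i : ℤ, i ≠ -1 → i ≠ 0 → Subsingleton (Dual.HD R K i)) :
    (Subsingleton (Dual.HD R K (-1)) ∧ Module.Projective R (Dual.HD R K 0)) ↔
      ∀ (M : Type u) [AddCommGroup M] [Module R M], Subsingleton (K ⟶ (Dual.inD R M)⟦(1 : ℤ)⟧) := by
  obtain ⟨E, hE, hfree, ⟨e⟩⟩ := Groth.Agent.TwoTermLib.exists_rep K hK
  have hE0 : Module.Projective R (E.X 0) := Module.Projective.of_free
  let eH : ∀ i, (DerivedCategory.homologyFunctor (ModuleCat.{u} R) i).obj K ≅ E.homology i :=
    PQLib.homologyIso e
  have key := Groth.Agent.TwoTermLib.smul_ext_eq_zero_iff hE hE0 (1 : R)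
  constructor
  · rintro ⟨hlow, hhigh⟩ M _ _
    have hd : Function.Injective (E.d (-1) 0).hom := by
      rw [injective_iff_map_eq_zero]
      intro x hx
      obtain ⟨z, rfl⟩ := Groth.Agent.TwoTermLib.exists_low_eq hE x hx
      have : Subsingleton (E.homology (-1)) :=
        (eH (-1)).toLinearEquiv.symm.injective.subsingleton
      rw [Subsingleton.elim z 0, map_zero]
    have hproj : Module.Projective R (E.homology 0) :=
      Module.Projective.of_equiv (eH 0).toLinearEquiv
    obtain ⟨s, hs⟩ := Module.projective_lifting_property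
      (Groth.Agent.TwoTermLib.high hE).hom LinearMap.id
      (Groth.Agent.TwoTermLib.high_surjective hE)
    have hs' : ∀ z, Groth.Agent.TwoTermLib.high hE (s z) = z := fun z => LinearMap.congr_fun hs z
    let π := (Groth.Agent.TwoTermLib.high hE).hom
    have hmem : ∀ x, x - s (π x) ∈ LinearMap.range (E.d (-1) 0).hom := fun x =>
      Groth.Agent.TwoTermLib.exists_of_high_eq_zero hE _ (by simp [π, hs'])
    let h : E.X 0 →ₗ[R] E.X (-1) := (LinearEquiv.ofInjective _ hd).symm.toLinearMap ∘ₗ
      (LinearMap.id - s ∘ₗ π).codRestrict _ hmem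
    have hπd : ∀ y, π (E.d (-1) 0 y) = 0 := fun y => by
      simp only [π, ← ModuleCat.comp_apply, Groth.Agent.TwoTermLib.high_d]
      rfl
    have hh : E.d (-1) 0 ≫ ModuleCat.ofHom h = (1 : R) • 𝟙 _ := by
      rw [one_smul]
      apply ModuleCat.hom_ext
      ext y
      show (LinearEquiv.ofInjective _ hd).symm _ = y
      rw [LinearEquiv.symm_apply_eq]
      apply Subtype.ext
      show E.d (-1) 0 y - s (π (E.d (-1) 0 y)) = E.d (-1) 0 y
      rw [hπd, map_zero, sub_zero]
    refine subsingleton_of_forall_eq 0 fun ξ => ?_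
    have := Groth.Agent.TwoTermLib.smul_ext_iso e (1 : R) (key.2 ⟨_, hh⟩ (ModuleCat.of R M)) ξ
    rwa [one_smul] at this
  · intro H
    obtain ⟨h, hh⟩ := key.1 fun N ξ =>
      Groth.Agent.TwoTermLib.smul_ext_iso e.symm (1 : R) (fun η => by
        have := H N
        exact Subsingleton.elim _ _) ξ
    rw [one_smul] at hh
    have hleft : ∀ x, h (E.d (-1) 0 x) = x := fun x => by
      rw [← ModuleCat.comp_apply, hh]
      rfl
    refine ⟨?_, ?_⟩
    · have : Subsingleton (E.homology (-1)) := subsingleton_of_forall_eq 0 fun z => by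
        apply Groth.Agent.TwoTermLib.low_injective hE
        rw [map_zero, ← hleft (Groth.Agent.TwoTermLib.low hE z),
          Groth.Agent.TwoTermLib.d_low_apply, map_zero]
      exact (eH (-1)).toLinearEquiv.injective.subsingleton
    · let π := (Groth.Agent.TwoTermLib.high hE).hom
      let p : E.X 0 →ₗ[R] E.X 0 := LinearMap.id - (E.d (-1) 0).hom ∘ₗ h.hom
      have hπd : ∀ y, π (E.d (-1) 0 y) = 0 := fun y => by
        simp only [π, ← ModuleCat.comp_apply, Groth.Agent.TwoTermLib.high_d]
        rfl
      have hker : LinearMap.ker π ≤ LinearMap.ker p := fun x hx => by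
        obtain ⟨y, rfl⟩ := Groth.Agent.TwoTermLib.exists_of_high_eq_zero hE x hx
        simp [p, hleft]
      let ι : E.homology 0 →ₗ[R] E.X 0 := (LinearMap.ker π).liftQ p hker ∘ₗ
        (π.quotKerEquivOfSurjective (Groth.Agent.TwoTermLib.high_surjective hE)).symm.toLinearMap
      have : Module.Projective R (E.homology 0) := by
        refine Module.Projective.of_split ι π (LinearMap.ext fun z => ?_)
        obtain ⟨x, rfl⟩ := Groth.Agent.TwoTermLib.high_surjective hE z
        have h' : (π.quotKerEquivOfSurjective (Groth.Agent.TwoTermLib.high_surjective hE)).symm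
            (π x) = Submodule.Quotient.mk x := (LinearEquiv.symm_apply_eq _).2 rfl
        show π (ι (π x)) = π x
        simp [ι, h', p, hπd]
      exact Module.Projective.of_equiv (eH 0).toLinearEquiv.symm

end Groth.Agent.S7077
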