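import Groth.Statements.S7079
import Groth.Agent.TwoTermLib.Two

set_option autoImplicit false
universe u
attribute [local instance] HasDerivedCategory.standard
open CategoryTheory
open DRing

namespace Groth.Agent.S7079

/-- For a Noetherian commutative ring R and an object K of D(R) whose cohomology modules vanish outside
degrees -1 and 0 and are finite modules in those two degrees, K is represented by a two-term complex
K^{-1} → K^0 with K^0 finite free and K^{-1} finite. -/
theorem result {R : Type u} [CommRing R] [IsNoetherianRing R] (K : Dual.D R)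
    (hK : ∀ i : ℤ, i ≠ -1 → i ≠ 0 → Subsingleton (Dual.HD R K i))
    (h1 : Module.Finite R (Dual.HD R K (-1))) (h0 : Module.Finite R (Dual.HD R K 0)) :
    ∃ E : DRing.Cx R, DRing.VanishesOutside E (-1) 0 ∧ Module.Free R (E.X 0) ∧ Module.Finite R (E.X 0) ∧
      Module.Finite R (E.X (-1)) ∧ Nonempty (DRing.toD E ≅ K) := by
  obtain ⟨E, hE, hfree, ⟨e⟩⟩ := Groth.Agent.TwoTermLib.exists_rep K hK
  let π := (Groth.Agent.TwoTermLib.high hE).hom
  have hπ : Function.Surjective π := Groth.Agent.TwoTermLib.high_surjective hE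
  have : Module.Finite R (E.homology 0) :=
    Module.Finite.equiv (PQLib.homologyIso e 0).toLinearEquiv
  have hH1 : Module.Finite R (E.homology (-1)) :=
    Module.Finite.equiv (PQLib.homologyIso e (-1)).toLinearEquiv
  obtain ⟨m, q, hq⟩ := Module.Finite.exists_fin' R (E.homology 0)
  obtain ⟨g, hg⟩ := Module.projective_lifting_property π q hπ
  let d := (E.d (-1) 0).hom
  let P : Submodule R (E.X (-1) × (Fin m → R)) :=
    LinearMap.ker (d ∘ₗ LinearMap.fst R _ _ - g ∘ₗ LinearMap.snd R _ _)
  have hP : ∀ z : P, d z.1.1 = g z.1.2 := fun z => by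
    have h : d z.1.1 - g z.1.2 = 0 := z.2
    exact sub_eq_zero.1 h
  let f : P →ₗ[R] (Fin m → R) := LinearMap.snd R _ _ ∘ₗ P.subtype
  let i : E.homology (-1) →ₗ[R] LinearMap.ker f :=
    LinearMap.codRestrict _ (LinearMap.codRestrict P (LinearMap.inl R _ _ ∘ₗ
      (Groth.Agent.TwoTermLib.low hE).hom) fun z => by
        simp [P, d, Groth.Agent.TwoTermLib.d_low_apply]) fun z => rfl
  have hi : Function.Surjective i := fun z => by
    have hz : z.1.1.2 = 0 := z.2
    have h := hP z.1
    rw [hz, map_zero] at h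
    obtain ⟨w, hw⟩ := Groth.Agent.TwoTermLib.exists_low_eq hE _ h
    exact ⟨w, Subtype.ext (Subtype.ext (Prod.ext hw hz.symm))⟩
  have : Module.Finite R (LinearMap.ker f) := Module.Finite.of_surjective i hi
  have : Module.Finite R (P ⧸ LinearMap.ker f) := Module.Finite.equiv f.quotKerEquivRange.symm
  have hPfin : Module.Finite R P := Module.Finite.of_submodule_quotient (LinearMap.ker f)
  have hrel : (ComplexShape.up ℤ).Rel (-1) 0 := by simp
  let E' : DRing.Cx R := HomologicalComplex.double (ModuleCat.ofHom f) hrel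
  let e1 := HomologicalComplex.doubleXIso₀ (ModuleCat.ofHom f) hrel
  let e0 := HomologicalComplex.doubleXIso₁ (ModuleCat.ofHom f) hrel (by norm_num)
  have hE' : DRing.VanishesOutside E' (-1) 0 := fun j hj =>
    HomologicalComplex.isZero_double_X _ _ j (by omega) (by omega)
  let φ : E' ⟶ E := HomologicalComplex.mkHomFromDouble hrel (by norm_num)
    (ModuleCat.ofHom (LinearMap.fst R _ _ ∘ₗ P.subtype)) (ModuleCat.ofHom g)
    (by
      apply ModuleCat.hom_ext
      ext z
      exact hP z)
    (fun k hk => (hE k (by simp at hk; omega)).eq_of_tgt _ _)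
  have hd' : ∀ x, E'.d (-1) 0 x = e0.inv (f (e1.hom x)) := fun x => by
    rw [HomologicalComplex.double_d _ _ (by norm_num)]
    rfl
  have hφ1 : ∀ x, φ.f (-1) x = (e1.hom x).1.1 := fun x => by
    rw [HomologicalComplex.mkHomFromDouble_f₀]
    rfl
  have hφ0 : ∀ x, φ.f 0 x = g (e0.hom x) := fun x => by
    rw [HomologicalComplex.mkHomFromDouble_f₁]
    rfl
  have : QuasiIso φ := Groth.Agent.TwoTermLib.quasiIso_of_twoTerm φ hE' hE
    (fun x hx hx' => by
      rw [hd'] at hx
      rw [hφ1] at hx'
      have h2 : f (e1.hom x) = 0 :=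
        e0.symm.toLinearEquiv.injective (hx.trans (map_zero _).symm)
      apply e1.toLinearEquiv.injective
      exact (Subtype.ext (Prod.ext hx' h2)).trans (map_zero _).symm)
    (fun y hy => by
      let z : P := ⟨(y, 0), by simp [P, d, hy]⟩
      refine ⟨e1.inv z, ?_, ?_⟩
      · rw [hd', ← ModuleCat.comp_apply e1.inv, e1.inv_hom_id]
        exact map_zero _
      · rw [hφ1, ← ModuleCat.comp_apply e1.inv, e1.inv_hom_id]
        rfl)
    (fun y x hyx => by
      rw [hφ0] at hyx
      let z : P := ⟨(x, e0.hom y), by simp [P, d, hyx]⟩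
      refine ⟨e1.inv z, ?_⟩
      rw [hd', ← ModuleCat.comp_apply e1.inv, e1.inv_hom_id]
      show e0.inv (e0.hom y) = y
      rw [← ModuleCat.comp_apply, e0.hom_inv_id]
      rfl)
    (fun z => by
      obtain ⟨v, hv⟩ := hq (π z)
      have hgv : π (g v) = π z := (LinearMap.congr_fun hg v).trans hv
      obtain ⟨x, hx⟩ := Groth.Agent.TwoTermLib.exists_of_high_eq_zero hE (z - g v)
        (by show π (z - g v) = 0; rw [map_sub, hgv, sub_self])
      refine ⟨e0.inv v, x, ?_⟩
      rw [hφ0, ← ModuleCat.comp_apply e0.inv, e0.inv_hom_id, hx]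
      exact add_sub_cancel _ _)
  exact ⟨E', hE', Module.Free.of_equiv e0.symm.toLinearEquiv,
    Module.Finite.equiv e0.symm.toLinearEquiv, Module.Finite.equiv e1.symm.toLinearEquiv,
    ⟨asIso (DerivedCategory.Q.map φ) ≪≫ e⟩⟩

end Groth.Agent.S7079
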