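import Groth.Statements.S7080
import Groth.Agent.TwoTermLib.Two

set_option autoImplicit false
universe u
attribute [local instance] HasDerivedCategory.standard
open CategoryTheory
open DRing

namespace Groth.Agent.S7080

/-- Let R be a commutative ring and α : K → K' a morphism in D(R) between objects whose cohomology
vanishes outside degrees -1 and 0, such that H^0(α) is an isomorphism and H^{-1}(α) is surjective.
If multiplication by an element f of R is the zero endomorphism of K in D(R), then it is also the
zero endomorphism of K'. -/
theorem result {R : Type u} [CommRing R] {K K' : Dual.D R} (α : K ⟶ K')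
    (hK : ∀ i : ℤ, i ≠ -1 → i ≠ 0 → Subsingleton (Dual.HD R K i))
    (hK' : ∀ i : ℤ, i ≠ -1 → i ≠ 0 → Subsingleton (Dual.HD R K' i))
    (h0 : IsIso ((DerivedCategory.homologyFunctor (ModuleCat.{u} R) 0).map α))
    (h1 : Epi ((DerivedCategory.homologyFunctor (ModuleCat.{u} R) (-1)).map α))
    (f : R) (hf : f • (𝟙 K) = 0) : f • (𝟙 K') = 0 := by
  open Groth.Agent.TwoTermLib in
  refine comp_injective α (-1) (fun i hi => ?_) h1 (HT.isGE hK') _ ?_
  · by_cases hi0 : i = 0
    · subst hi0
      exact h0
    · exact (Groth.Agent.TwoTermLib.HT.isZero hK (by omega) hi0).isIso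
        (Groth.Agent.TwoTermLib.HT.isZero hK' (by omega) hi0) _
  · rw [Linear.comp_smul, Category.comp_id]
    have h := congrArg (· ≫ α) hf
    simpa [Linear.smul_comp] using h

end Groth.Agent.S7080
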