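import Groth.Statements.S7081
import Groth.Agent.TwoTermLib.Two

set_option autoImplicit false
universe u
attribute [local instance] HasDerivedCategory.standard
open CategoryTheory
open DRing

namespace Groth.Agent.S7081

/-- Let R be a commutative ring and φ : K₁ → K₂, ψ : K₂ → K₃ morphisms in D(R) between objects whose
cohomology vanishes outside degrees -1 and 0. If φ induces the zero map on H^0 and ψ induces the
zero map on H^{-1}, then the composite K₁ → K₃ is zero. -/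
theorem result {R : Type u} [CommRing R] {K₁ K₂ K₃ : Dual.D R}
    (φ : K₁ ⟶ K₂) (ψ : K₂ ⟶ K₃)
    (h₁ : ∀ i : ℤ, i ≠ -1 → i ≠ 0 → Subsingleton (Dual.HD R K₁ i))
    (h₂ : ∀ i : ℤ, i ≠ -1 → i ≠ 0 → Subsingleton (Dual.HD R K₂ i))
    (h₃ : ∀ i : ℤ, i ≠ -1 → i ≠ 0 → Subsingleton (Dual.HD R K₃ i))
    (hφ : (DerivedCategory.homologyFunctor (ModuleCat.{u} R) 0).map φ = 0)
    (hψ : (DerivedCategory.homologyFunctor (ModuleCat.{u} R) (-1)).map ψ = 0) :
    φ ≫ ψ = 0 := by
  open Groth.Agent.TwoTermLib in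
  obtain ⟨M, Q, ι, π, δ, hT, -, -⟩ := exists_decomp (K := K₂) h₂
  open Groth.Agent.TwoTermLib in
  have hπ : φ ≫ π = 0 := eq_zero_of_homology _ 0 (HT.isLE h₁) inferInstance (by
    rw [Functor.map_comp, hφ, Limits.zero_comp])
  open Groth.Agent.TwoTermLib in
  have hι : ι ≫ ψ = 0 := eq_zero_of_homology _ (-1) inferInstance (HT.isGE h₃) (by
    rw [Functor.map_comp, hψ, Limits.comp_zero])
  obtain ⟨φ', hφ'⟩ : ∃ φ', φ = φ' ≫ ι :=
    Pretriangulated.Triangle.coyoneda_exact₂ _ hT φ hπ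
  rw [hφ', Category.assoc, hι, Limits.comp_zero]

end Groth.Agent.S7081
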