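import Groth.Statements.S7085
import Mathlib


-- import your own Groth.Agent.* helpers here

set_option autoImplicit false
universe u
open LocCoh

namespace Groth.Agent.S7085

/-- Let R be a commutative ring, I an ideal generated by finitely many elements f_1, …, f_t, and M an
R-module. Then: M has no nonzero element killed by I if and only if it has no nonzero element killed
by I^n for every n ≥ 1; and M has no nonzero element killed by I if and only if an element of M
vanishing in every localization M_{f_i} is zero. -/
theorem result {R : Type u} [CommRing R] {t : ℕ} (f : Fin t → R)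
    (I : Ideal R) (hI : Ideal.span (Set.range f) = I) (M : Type u) [AddCommGroup M] [Module R M] :
    (LocCoh.torsionBy I M = ⊥ ↔ ∀ n : ℕ, 1 ≤ n → LocCoh.torsionBy (I ^ n) M = ⊥) ∧
    (LocCoh.torsionBy I M = ⊥ ↔
      ∀ m : M, (∀ i : Fin t, LocalizedModule.mkLinearMap (Submonoid.powers (f i)) M m = 0) → m = 0) := by
  classical
  subst hI
  set I := Ideal.span (Set.range f)
  have hmem : ∀ (J : Ideal R) (m : M), m ∈ LocCoh.torsionBy J M ↔ ∀ a ∈ J, a • m = 0 := fun J m =>
    (Submodule.mem_torsionBySet_iff _ _).trans Subtype.forall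
  refine ⟨⟨fun h n hn => ?_, fun h => by simpa using h 1 le_rfl⟩, ⟨fun h m hm => ?_, fun h => ?_⟩⟩
  · induction n, hn using Nat.le_induction with
    | base => simpa using h
    | succ n hn ih =>
      rw [eq_bot_iff]
      intro m hm
      have hm' : ∀ a ∈ I, a • m = 0 := fun a ha => by
        have : a • m ∈ LocCoh.torsionBy (I ^ n) M := (hmem _ _).2 fun b hb => by
          rw [← mul_smul]
          exact (hmem _ _).1 hm _ (by rw [pow_succ]; exact Ideal.mul_mem_mul hb ha)
        rwa [ih, Submodule.mem_bot] at this
      have := (hmem I m).2 hm'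
      rwa [h] at this
  · have hN : ∀ i, ∃ N : ℕ, f i ^ N • m = 0 := fun i => by
      obtain ⟨⟨_, N, rfl⟩, e⟩ := (IsLocalizedModule.eq_zero_iff (Submonoid.powers (f i)) _).1 (hm i)
      exact ⟨N, e⟩
    let J : Ideal R := LinearMap.ker (LinearMap.toSpanSingleton R M m)
    have hle : I ≤ J.radical := Ideal.span_le.2 (by
      rintro _ ⟨i, rfl⟩
      obtain ⟨N, e⟩ := hN i
      exact ⟨N, e⟩)
    obtain ⟨k, hk⟩ := Ideal.exists_pow_le_of_le_radical_of_fg hle (Submodule.fg_span (Set.finite_range f))
    have hk' : m ∈ LocCoh.torsionBy (I ^ (k + 1)) M := (hmem _ _).2 fun a ha => hk (Ideal.pow_le_pow_right k.le_succ ha)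
    have hall : ∀ n, 1 ≤ n → LocCoh.torsionBy (I ^ n) M = ⊥ := fun n hn => by
      induction n, hn using Nat.le_induction with
      | base => simpa using h
      | succ n hn ih =>
        rw [eq_bot_iff]
        intro x hx
        have hx' : ∀ a ∈ I, a • x = 0 := fun a ha => by
          have : a • x ∈ LocCoh.torsionBy (I ^ n) M := (hmem _ _).2 fun b hb => by
            rw [← mul_smul]
            exact (hmem _ _).1 hx _ (by rw [pow_succ]; exact Ideal.mul_mem_mul hb ha)
          rwa [ih, Submodule.mem_bot] at this
        have := (hmem I x).2 hx'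
        rwa [h] at this
    rwa [hall (k + 1) (by omega), Submodule.mem_bot] at hk'
  · rw [eq_bot_iff]
    intro m hm
    exact h m fun i => (IsLocalizedModule.eq_zero_iff (Submonoid.powers (f i)) _).2
      ⟨⟨f i, Submonoid.mem_powers _⟩, (hmem _ _).1 hm _ (Ideal.subset_span ⟨i, rfl⟩)⟩

end Groth.Agent.S7085
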