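import Groth.Statements.S7090
import Mathlib
import Groth.Agent.TorsionEquivLib.Basic
-- import your own Groth.Agent.* helpers here

set_option autoImplicit false
universe u
open TensorProduct
open EtAlg

namespace Groth.Agent.S7090

set_option maxHeartbeats 400000

/-- Let R → S be a flat homomorphism of commutative rings and I = (f_1, …, f_t) a finitely generated
ideal such that R/I → S/IS is bijective. Then for every R-module M the glueing complex 0 → M → (S
⊗_R M) × ∏ M_{f_i} → ∏ (S ⊗_R M)_{f_i} × ∏ M_{f_i f_j} is exact. Concretely: an element of M with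
zero image in S ⊗_R M and in every M_{f_i} is zero; and given x in S ⊗_R M and elements m_1, …, m_t
of M and N ≥ 0 such that x and m_i / f_i^N have the same image in (S ⊗_R M)_{f_i} for each i, and
m_i / f_i^N, m_j / f_j^N have the same image in M_{f_i f_j} for all i, j, there is m in M with 1 ⊗ m
= x and m / 1 = m_i / f_i^N in M_{f_i} for every i. -/
theorem result {R S : Type u} [CommRing R] [CommRing S] [Algebra R S] [Module.Flat R S]
    {t : ℕ} (f : Fin t → R) (I : Ideal R) (hI : Ideal.span (Set.range f) = I)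
    (hq : Function.Bijective
      (Ideal.quotientMap (Ideal.map (algebraMap R S) I) (algebraMap R S) Ideal.le_comap_map))
    (M : Type u) [AddCommGroup M] [Module R M] :
    (∀ m : M, (1 : S) ⊗ₜ[R] m = 0 →
        (∀ i : Fin t, LocalizedModule.mkLinearMap (Submonoid.powers (f i)) M m = 0) → m = 0) ∧
    ∀ (x : S ⊗[R] M) (N : ℕ) (m : Fin t → M),
      (∀ i : Fin t, EtGlue.locOfTensor R S (f i) M x =
          EtGlue.tensorOfLoc R S (f i) M (LocalizedModule.mk (m i) ⟨f i ^ N, Submonoid.pow_mem _ (Submonoid.mem_powers (f i)) N⟩)) →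
      (∀ i j : Fin t, ∃ e : ℕ, (f i * f j) ^ e • (f j ^ N • m i - f i ^ N • m j) = 0) →
        ∃ μ : M, (1 : S) ⊗ₜ[R] μ = x ∧
          ∀ i : Fin t, LocalizedModule.mkLinearMap (Submonoid.powers (f i)) M μ =
            LocalizedModule.mk (m i) ⟨f i ^ N, Submonoid.pow_mem _ (Submonoid.mem_powers (f i)) N⟩ := by
  classical
  have hloc : ∀ (g : R) {X : Type u} [AddCommGroup X] [Module R X] (a b : X),
      LocalizedModule.mkLinearMap (Submonoid.powers g) X a =
        LocalizedModule.mkLinearMap (Submonoid.powers g) X b → ∃ n : ℕ, ∀ k ≥ n, g ^ k • a = g ^ k • b := by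
    intro g X _ _ a b h
    obtain ⟨⟨_, n, rfl⟩, hn⟩ := IsLocalizedModule.exists_of_eq (S := Submonoid.powers g) h
    refine ⟨n, fun k hk => ?_⟩
    obtain ⟨d, rfl⟩ := Nat.exists_eq_add_of_le hk
    rw [add_comm, pow_add, mul_smul, mul_smul]
    exact congrArg (g ^ d • ·) hn
  refine ⟨fun m h1 h2 => ?_, fun x N m hx hc => ?_⟩
  · choose n hn using fun i => hloc (f i) m 0 ((h2 i).trans (map_zero _).symm)
    refine Groth.Agent.TorsionEquivLib.eq_zero_of_tmul f hI hq (Finset.univ.sup n) h1 fun i => ?_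
    rw [hn i _ (Finset.le_sup (Finset.mem_univ i)), smul_zero]
  · have hx' : ∀ i, ∃ n : ℕ, ∀ k ≥ n, f i ^ k • f i ^ N • x = f i ^ k • ((1 : S) ⊗ₜ[R] m i) := by
      intro i
      refine hloc (f i) (X := S ⊗[R] M) (f i ^ N • x) ((1 : S) ⊗ₜ[R] m i) ?_
      have h := hx i
      simp only [EtGlue.locOfTensor, EtGlue.tensorOfLoc, IsLocalizedModule.mk_eq_mk',
        IsLocalizedModule.map_mk'] at h
      rw [map_smul, h]
      exact IsLocalizedModule.mk'_cancel' (LocalizedModule.mkLinearMap _ (S ⊗[R] M)) _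
        (⟨f i ^ N, N, rfl⟩ : Submonoid.powers (f i))
    choose n₁ hn₁ using hx'
    choose n₂ hn₂ using hc
    let e := Finset.univ.sup n₁ + Finset.univ.sup fun p : Fin t × Fin t => n₂ p.1 p.2
    have he₁ : ∀ i, n₁ i ≤ e := fun i =>
      le_trans (Finset.le_sup (Finset.mem_univ i)) (Nat.le_add_right _ _)
    have he₂ : ∀ i j, n₂ i j ≤ e := fun i j =>
      le_trans (Finset.le_sup (f := fun p : Fin t × Fin t => n₂ p.1 p.2) (Finset.mem_univ (i, j)))
        (Nat.le_add_left _ _)
    obtain ⟨μ, hμ, hμ'⟩ := Groth.Agent.TorsionEquivLib.exists_glue f hI hq (N + e)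
      (fun i => f i ^ e • m i) x
      (fun i => by rw [add_comm, pow_add, mul_smul, hn₁ i e (he₁ i), TensorProduct.tmul_smul])
      (fun i j => by
        obtain ⟨d, hd⟩ := Nat.exists_eq_add_of_le (he₂ i j)
        have h : (f i * f j) ^ e • (f j ^ N • m i - f i ^ N • m j) = 0 := by
          rw [hd, add_comm, pow_add, mul_smul, hn₂ i j, smul_zero]
        rw [smul_sub, sub_eq_zero, ← mul_smul, ← mul_smul] at h
        rw [← mul_smul, ← mul_smul]
        convert h using 2 <;> ring)
    refine ⟨μ, hμ, fun i => ?_⟩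
    obtain ⟨k, hk⟩ := hμ' i
    rw [LocalizedModule.mkLinearMap_apply]
    refine LocalizedModule.mk_eq.2 ⟨⟨f i ^ (k + e), k + e, rfl⟩, ?_⟩
    rw [smul_sub, sub_eq_zero, pow_add (f i) N, ← mul_smul, ← mul_smul] at hk
    simp only [Submonoid.smul_def, one_smul, ← mul_smul]
    convert hk using 2 <;> ring

end Groth.Agent.S7090
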