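import Groth.Statements.S7091
import Groth.Agent.DCompLib.Range
-- import your own Groth.Agent.* helpers here

set_option autoImplicit false
set_option linter.style.haveILetI false
universe u
attribute [local instance] HasDerivedCategory.standard
open CategoryTheory
open DRing

namespace Groth.Agent.S7091

open Groth.Agent.DCompLib


/-- Let A be a commutative ring, I a finitely generated ideal, and assume the derived completion functor
(left adjoint to the inclusion of derived complete objects) exists. If a morphism K → L in D(A)
induces isomorphisms on cohomology in degrees ≥ 1 and a surjection in degree 0, then so does the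
induced morphism between the derived completions. -/
theorem result {A : Type u} [CommRing A] (I : Ideal A) (hI : I.FG)
    [DRing.HasDerivedCompletion I] {K L : Dual.D A} (φ : K ⟶ L)
    (hiso : ∀ i : ℤ, 1 ≤ i → IsIso ((DerivedCategory.homologyFunctor (ModuleCat.{u} A) i).map φ))
    (hepi : Epi ((DerivedCategory.homologyFunctor (ModuleCat.{u} A) 0).map φ)) :
    (∀ i : ℤ, 1 ≤ i → IsIso ((DerivedCategory.homologyFunctor (ModuleCat.{u} A) i).map
        ((DRing.derivedCompletion I).map φ).hom)) ∧
      Epi ((DerivedCategory.homologyFunctor (ModuleCat.{u} A) 0).map ((DRing.derivedCompletion I).map φ).hom) := by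
  obtain ⟨s, hs⟩ := hI
  obtain ⟨C, C', g, h, g', h', c, hS, hT, hc⟩ := exists_triangle_completion (I := I) φ
  have hC : ∀ i, 0 ≤ i → Van C i := (DRingLib.isoAboveEpiAt_iff _ hS 0).1
    ⟨fun i hi => hiso i hi, hepi⟩
  obtain ⟨h1, h2⟩ := (DRingLib.isoAboveEpiAt_iff _ hT 0).2 fun i hi =>
    van_completion s hs hc i fun j hj _ => hC j (hi.trans hj)
  exact ⟨fun i hi => h1 i hi, h2⟩

end Groth.Agent.S7091
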