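import Groth.Statements.S7093
import Groth.Agent.RelPerfLib.Basic

set_option autoImplicit false
set_option backward.isDefEq.respectTransparency false
set_option backward.isDefEq.respectTransparency.types false
universe u
attribute [local instance] HasDerivedCategory.standard
open CategoryTheory CategoryTheory.Limits
open Dual2

namespace Groth.Agent.S7093

/-- For a flat homomorphism of finite presentation R → A of commutative rings, the R-perfect objects of
D(A) (pseudo-coherent over A, finite tor dimension over R) form a strictly full, saturated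
triangulated subcategory: the property is a triangulated object property (contains zero, stable
under shifts and under extensions in distinguished triangles), is closed under isomorphisms, and
passes to direct summands. -/
theorem result (R A : Type u) [CommRing R] [CommRing A] [Algebra R A]
    [Module.Flat R A] [Algebra.FinitePresentation R A] :
    ObjectProperty.IsTriangulated (C := Dual.D A) (fun K => Dual2.IsRelPerfect R A K) ∧
      ObjectProperty.IsClosedUnderIsomorphisms (C := Dual.D A) (fun K => Dual2.IsRelPerfect R A K) ∧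
      ∀ X Y : Dual.D A, Dual2.IsRelPerfect R A (X ⊞ Y) → Dual2.IsRelPerfect R A X ∧ Dual2.IsRelPerfect R A Y := by
  have hpc : ∀ {K : Dual.D A}, DRing.IsPseudoCoherent' A K ↔ ∀ m, DRing.IsPseudoCoherent A m K :=
    DRingLib.isPseudoCoherent'_iff_forall
  let G := DRing.restrictD (algebraMap R A)
  have hiso : ∀ {K L : Dual.D A}, (K ≅ L) → Dual2.IsRelPerfect R A K → Dual2.IsRelPerfect R A L := by
    intro K L e h
    obtain ⟨h1, a, b, h2⟩ := h
    exact ⟨hpc.2 fun m => DRingLib.isPseudoCoherent_of_iso e (hpc.1 h1 m), a, b,
      DRingLib.hasTorAmplitudeIn_of_iso (G.mapIso e) h2⟩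
  refine ⟨?_, ⟨fun e h => hiso e h⟩, fun X Y h => ?_⟩
  · refine { exists_zero := ?_, isStableUnderShiftBy := fun n => ⟨fun K h => ?_⟩, ext₂' := ?_ }
    · refine ⟨_, isZero_zero _, hpc.2 fun m => DRingLib.isPseudoCoherent_of_isZero fun i _ =>
        (DRingLib.Hn A i).map_isZero (isZero_zero _), 0, 0,
        DRingLib.hasTorAmplitudeIn_of_isZero (G.map_isZero (isZero_zero _)) 0 0⟩
    · obtain ⟨h1, a, b, h2⟩ := h
      exact ⟨hpc.2 fun m => by
          have := DRingLib.isPseudoCoherent_shift (hpc.1 h1 (m + n)) n
          rwa [add_sub_cancel_right] at this, a - n, b - n,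
        DRingLib.hasTorAmplitudeIn_of_iso ((G.commShiftIso n).app K).symm
          (DRingLib.hasTorAmplitudeIn_shift h2 n)⟩
    · intro T hT h₁ h₃
      obtain ⟨h11, a, b, h12⟩ := h₁
      obtain ⟨h31, a', b', h32⟩ := h₃
      exact ObjectProperty.le_isoClosure _ _ ⟨hpc.2 fun m =>
          DRingLib.isPseudoCoherent_obj₂ T hT m (hpc.1 h11 m) (hpc.1 h31 m), min a a', max b b',
        DRingLib.hasTorAmplitudeIn_obj₂ _ (G.map_distinguished T hT)
          (DRingLib.hasTorAmplitudeIn_mono (min_le_left _ _) (le_max_left _ _) h12)
          (DRingLib.hasTorAmplitudeIn_mono (min_le_right _ _) (le_max_right _ _) h32)⟩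
  · obtain ⟨h1, a, b, h2⟩ := h
    haveI : PreservesBinaryBiproducts G := preservesBinaryBiproducts_of_preservesBiproducts _
    have hx := fun m => DRingLib.isPseudoCoherent_of_biprod (hpc.1 h1 m)
    refine ⟨⟨hpc.2 fun m => (hx m).1, a, b, ?_⟩, ⟨hpc.2 fun m => (hx m).2, a, b, ?_⟩⟩
    · exact DRingLib.hasTorAmplitudeIn_of_retract (G.map biprod.inl) (G.map biprod.fst)
        (by rw [← G.map_comp, biprod.inl_fst, G.map_id]) h2
    · exact DRingLib.hasTorAmplitudeIn_of_retract (G.map biprod.inr) (G.map biprod.snd)
        (by rw [← G.map_comp, biprod.inr_snd, G.map_id]) h2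

end Groth.Agent.S7093
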