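import Groth.Statements.S7094
import Groth.Agent.RelFlatLib.FibreGlobal
import Groth.Agent.TwoTermLib.RelAmp
import Groth.Agent.DCompLib.LTQuot
import Groth.Agent.DRingLib.ProjAmplitude

set_option autoImplicit false
set_option backward.isDefEq.respectTransparency false
set_option backward.isDefEq.respectTransparency.types false
universe u
attribute [local instance] HasDerivedCategory.standard
open CategoryTheory
open Dual2

namespace Groth.Agent.S7094

/-- Let R → A be a flat homomorphism of finite presentation of commutative rings and K a pseudo-coherent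
object of D(A). Then K is R-perfect if and only if H^i(K) = 0 for all sufficiently negative i and,
for each prime p of R, H^i(K ⊗^L_R κ(p)) = 0 for all sufficiently negative i; here K is viewed in
D(R) by restriction of scalars and the derived tensor product with the residue field κ(p) is the
total left derived functor, assumed to exist. -/
theorem result (R A : Type u) [CommRing R] [CommRing A] [Algebra R A]
    [Module.Flat R A] [Algebra.FinitePresentation R A]
    [∀ p : PrimeSpectrum R, DRing.HasLTensor R (ModuleCat.of R p.asIdeal.ResidueField)]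
    (K : Dual.D A) (hK : DRing.IsPseudoCoherent' A K) :
    Dual2.IsRelPerfect R A K ↔
      (∃ a : ℤ, ∀ i : ℤ, i < a → Subsingleton (Dual.HD A K i)) ∧
        ∀ p : PrimeSpectrum R, ∃ a : ℤ, ∀ i : ℤ, i < a →
          Subsingleton (Dual.HD R ((DRing.LTensor R (ModuleCat.of R p.asIdeal.ResidueField)).obj
            ((DRing.restrictD (algebraMap R A)).obj K)) i) := by
  obtain ⟨E, b, hEb, hEf, ⟨e⟩⟩ := id hK
  let φ := algebraMap R A
  let P := (Groth.Agent.TwoTermLib.RelAmp.resCx φ).obj E
  let eP : DerivedCategory.Q.obj P ≅ (DRing.restrictD φ).obj K :=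
    ((ModuleCat.restrictScalars.{u} φ).mapDerivedCategoryFactors.app E).symm ≪≫ (DRing.restrictD φ).mapIso e
  have hPk : DRing.IsKFlat R P := KFlatLib.isKFlat_of_bounded_flat P b
    (fun i hi => (ModuleCat.restrictScalars.{u} φ).map_isZero (hEb i hi)) fun i => by
      letI : Module R (E.X i) := Module.compHom (E.X i) φ
      haveI : IsScalarTower R A (E.X i) := IsScalarTower.of_algebraMap_smul fun _ _ => rfl
      haveI := (hEf i).2
      exact (Module.Flat.trans R A (E.X i) : Module.Flat R (E.X i))
  have hHD : ∀ i, Subsingleton (Dual.HD A K i) ↔ Limits.IsZero (E.homology i) := fun i =>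
    ModuleCat.isZero_of_iff_subsingleton.symm.trans
      (((Groth.Agent.DRingLib.Hn A i).mapIso e).symm.isZero_iff.trans
        ⟨fun h => Groth.Agent.DRingLib.isZero_homology_of_Hn h, fun h => Groth.Agent.DRingLib.isZero_Hn_of_homology h⟩)
  have hfib : ∀ (p : PrimeSpectrum R) (i : ℤ), Subsingleton (Dual.HD R ((DRing.LTensor R
      (ModuleCat.of R p.asIdeal.ResidueField)).obj ((DRing.restrictD φ).obj K)) i) ↔
      Limits.IsZero ((KFlatLib.tensorN P (ModuleCat.of R p.asIdeal.ResidueField)).homology i) := fun p i => by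
    let e' := (DRing.LTensor R (ModuleCat.of R p.asIdeal.ResidueField)).mapIso eP.symm ≪≫
      Groth.Agent.DRingLib.leftDerivedObjIso (Groth.Agent.DCompLib.preservesKFlatQis_tensorRight _) P hPk
    exact ModuleCat.isZero_of_iff_subsingleton.symm.trans
      (((Groth.Agent.DRingLib.Hn R i).mapIso e').isZero_iff.trans
        ⟨fun h => Groth.Agent.DRingLib.isZero_homology_of_Hn h, fun h => Groth.Agent.DRingLib.isZero_Hn_of_homology h⟩)
  constructor
  · rintro ⟨-, a, c, hamp⟩
    have h := Groth.Agent.DRingLib.amp_of_hasTorAmplitudeIn hamp hPk eP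
    exact ⟨⟨a, fun i hi => (hHD i).2 ((Groth.Agent.TwoTermLib.RelAmp.isZero_homology_resCx_iff φ E i).1
      (Groth.Agent.DRingLib.isZero_homology_of_amp h i (Or.inl hi)))⟩,
      fun p => ⟨a, fun i hi => (hfib p i).2 (h _ i (Or.inl hi))⟩⟩
  · rintro ⟨⟨a, ha⟩, hf⟩
    obtain ⟨n, hn, hflat⟩ := Groth.Agent.RelFlatLib.exists_flat_truncGE (R := R) E
      (fun i => ⟨(hEf i).2, (hEf i).1⟩) a (fun i hi => (hHD i).1 (ha i hi))
      (fun p => by
        obtain ⟨c, hc⟩ := hf p
        exact ⟨c, fun m hm => (hfib p m).1 (hc m hm)⟩)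
    haveI : E.IsGE n := (CochainComplex.isGE_iff E n).2 fun i hi =>
      (HomologicalComplex.exactAt_iff_isZero_homology _ i).2 ((hHD i).1 (ha i (by omega)))
    haveI : QuasiIso (E.πTruncGE n) := (CochainComplex.quasiIso_πTruncGE_iff E n).mpr inferInstance
    haveI : QuasiIso ((Groth.Agent.TwoTermLib.RelAmp.resCx φ).map (E.πTruncGE n)) :=
      inferInstanceAs (QuasiIso (((ModuleCat.restrictScalars.{u} φ).mapHomologicalComplex (ComplexShape.up ℤ)).map (E.πTruncGE n)))
    exact ⟨hK, n, b, (Groth.Agent.TwoTermLib.RelAmp.resCx φ).obj (E.truncGE n),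
      fun i hi => (ModuleCat.restrictScalars.{u} φ).map_isZero
        (Groth.Agent.DRingLib.vanishesOutside_truncGE hEb n i hi),
      hflat, ⟨(asIso (DerivedCategory.Q.map ((Groth.Agent.TwoTermLib.RelAmp.resCx φ).map (E.πTruncGE n)))).symm ≪≫ eP⟩⟩

end Groth.Agent.S7094
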