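import Groth.Statements.S7099
import Groth.Agent.TwoTermLib.RHomEval
import Groth.Agent.DRingLib.TorBalance

set_option autoImplicit false
universe u
attribute [local instance] HasDerivedCategory.standard
open CategoryTheory
open DRing MonoidalCategory

namespace Groth.Agent.S7099

/-- Let A be a commutative ring, f and g elements of A, and K an object of D(A). Assuming the derived
functors RHom_A(A_f, −), RHom_A(A_g, −) and RHom_A(A_{fg}, −) (total right derived functors of the
Hom complexes out of the localizations placed in degree 0) exist, RHom_A(A_f, RHom_A(A_g, K)) is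
isomorphic in D(A) to RHom_A(A_{fg}, K). (Existence of an isomorphism only.) -/
theorem result {A : Type u} [CommRing A] (f g : A)
    [DRing.HasRHomCx ((HomologicalComplex.single (ModuleCat.{u} A) (ComplexShape.up ℤ) 0).obj
      (ModuleCat.of A (Localization.Away f)))]
    [DRing.HasRHomCx ((HomologicalComplex.single (ModuleCat.{u} A) (ComplexShape.up ℤ) 0).obj
      (ModuleCat.of A (Localization.Away g)))]
    [DRing.HasRHomCx ((HomologicalComplex.single (ModuleCat.{u} A) (ComplexShape.up ℤ) 0).obj
      (ModuleCat.of A (Localization.Away (f * g))))]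
    (K : Dual.D A) :
    Nonempty ((DRing.RHomCx ((HomologicalComplex.single (ModuleCat.{u} A) (ComplexShape.up ℤ) 0).obj
        (ModuleCat.of A (Localization.Away f)))).obj
      ((DRing.RHomCx ((HomologicalComplex.single (ModuleCat.{u} A) (ComplexShape.up ℤ) 0).obj
        (ModuleCat.of A (Localization.Away g)))).obj K) ≅
      (DRing.RHomCx ((HomologicalComplex.single (ModuleCat.{u} A) (ComplexShape.up ℤ) 0).obj
        (ModuleCat.of A (Localization.Away (f * g))))).obj K) := by
  let Af := ModuleCat.of A (Localization.Away f)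
  let Ag := ModuleCat.of A (Localization.Away g)
  let Afg := ModuleCat.of A (Localization.Away (f * g))
  let S := (HomologicalComplex.single (ModuleCat.{u} A) (ComplexShape.up ℤ) 0)
  obtain ⟨M, ⟨eM⟩⟩ : ∃ M : DRing.Cx A, Nonempty (DerivedCategory.Q.obj M ≅ K) :=
    ⟨_, ⟨DerivedCategory.Q.objObjPreimageIso K⟩⟩
  obtain ⟨I, φ, hI, hφ⟩ := TwoTermLib.RHomEval.enoughKInj M
  haveI := hI
  haveI := hφ
  let eI : DerivedCategory.Q.obj I ≅ K := (asIso (DerivedCategory.Q.map φ)).symm ≪≫ eM
  haveI : (DRing.homCx (S.obj Ag) I).IsKInjective := DTenLib.isKInjective_homCx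
    (KFlatLib.isKFlat_of_bounded_flat _ 0
      (fun i hi => HomologicalComplex.isZero_single_obj_X (ComplexShape.up ℤ) 0 Ag i (by omega))
      fun i => by
        rcases eq_or_ne i 0 with rfl | hi
        · exact Module.Flat.of_linearEquiv
            (HomologicalComplex.singleObjXSelf (ComplexShape.up ℤ) 0 Ag).toLinearEquiv
        · haveI := ModuleCat.subsingleton_of_isZero
            (HomologicalComplex.isZero_single_obj_X (ComplexShape.up ℤ) 0 Ag i hi)
          exact inferInstance)
  let l : TensorProduct A (Localization.Away f) (Localization.Away g) ≃ₗ[A]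
      Localization.Away (f * g) := by
    haveI : IsLocalization.Away (algebraMap A (Localization.Away f) g)
        (TensorProduct A (Localization.Away f) (Localization.Away g)) :=
      IsLocalization.Away.tensor g (Localization.Away g)
    haveI : IsLocalization.Away (f * g) (TensorProduct A (Localization.Away f) (Localization.Away g)) :=
      IsLocalization.Away.mul' (Localization.Away f) _ f g
    exact (IsLocalization.algEquiv (Submonoid.powers (f * g))
      (TensorProduct A (Localization.Away f) (Localization.Away g))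
      (Localization.Away (f * g))).toLinearEquiv
  obtain ⟨t⟩ := DRingLib.nonempty_singleTensorIso Af (S.obj Ag)
  let i : S.obj Afg ≅ S.obj Af ⊗ S.obj Ag :=
    S.mapIso l.symm.toModuleIso ≪≫ ((HomologicalComplex.singleMapHomologicalComplex (tensorLeft Af)
      (ComplexShape.up ℤ) 0).app Ag).symm ≪≫ t.symm
  exact ⟨(DRing.RHomCx (S.obj Af)).mapIso ((DRing.RHomCx (S.obj Ag)).mapIso eI.symm ≪≫
      (TwoTermLib.RHomEval.rHomKInjIso (S.obj Ag) I).symm) ≪≫
    (TwoTermLib.RHomEval.rHomKInjIso (S.obj Af) _).symm ≪≫
    DerivedCategory.Q.mapIso (TwoTermLib.HomCx.curryIso (S.obj Af) (S.obj Ag) I ≪≫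
      ⟨DTenLib.homPre I i.hom, DTenLib.homPre I i.inv,
        by rw [← TwoTermLib.HomCx.homPre_comp, i.inv_hom_id, TwoTermLib.HomCx.homPre_id],
        by rw [← TwoTermLib.HomCx.homPre_comp, i.hom_inv_id, TwoTermLib.HomCx.homPre_id]⟩) ≪≫
    TwoTermLib.RHomEval.rHomKInjIso (S.obj Afg) I ≪≫
    (DRing.RHomCx (S.obj Afg)).mapIso eI⟩

end Groth.Agent.S7099
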