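import Groth.Statements.S7104
import Groth.Agent.TorLocLib.Square
import Groth.Agent.TorLocLib.Amp
import Groth.Agent.TorLocLib.Restr
import Groth.Agent.S7100

set_option autoImplicit false
set_option linter.all false
set_option maxHeartbeats 1000000
universe u
attribute [local instance] HasDerivedCategory.standard
open CategoryTheory
open Dual2

namespace Groth.Agent.S7104

/-- Let R be a commutative ring and A an R-algebra which is flat, of finite presentation, and a quotient
of the polynomial ring R[x_1, …, x_d]. Let q be a prime of A lying over the prime p of R, and K a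
pseudo-coherent object of D(A). Write K_q for the derived base change of K to A_q (assumed to exist)
and view it in D(R_p) and in D(R) by restriction of scalars. If the cohomology of K_q ⊗^L_{R_p} κ(p)
(derived tensor with the residue field, assumed to exist) vanishes outside the degrees in [a, b],
then K_q has tor amplitude in [a - d, b] as a complex of R-modules. -/
theorem result (R A : Type u) [CommRing R] [CommRing A] [Algebra R A]
    [Module.Flat R A] [Algebra.FinitePresentation R A] (d : ℕ)
    (ψ : MvPolynomial (Fin d) R →ₐ[R] A) (hψ : Function.Surjective ψ)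
    (q : Ideal A) [q.IsPrime] (p : Ideal R) [p.IsPrime] (hpq : p = Ideal.comap (algebraMap R A) q)
    [DRing.HasLBaseChange (algebraMap A (Localization.AtPrime q))]
    [DRing.HasLTensor (Localization.AtPrime p) (ModuleCat.of (Localization.AtPrime p) p.ResidueField)]
    (K : Dual.D A) (hK : DRing.IsPseudoCoherent' A K) (a b : ℤ)
    (hfib : ∀ i : ℤ, i < a ∨ b < i → Subsingleton (Dual.HD (Localization.AtPrime p)
      ((DRing.LTensor (Localization.AtPrime p) (ModuleCat.of (Localization.AtPrime p) p.ResidueField)).obj
        ((DRing.restrictD (Localization.localRingHom p q (algebraMap R A) hpq)).obj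
          ((DRing.LBaseChange (algebraMap A (Localization.AtPrime q))).obj K))) i)) :
    DRing.HasTorAmplitudeIn R (a - d) b
      ((DRing.restrictD (algebraMap R (Localization.AtPrime q))).obj
        ((DRing.LBaseChange (algebraMap A (Localization.AtPrime q))).obj K)) := by
  let P := MvPolynomial (Fin d) R
  let φ : P →+* A := ψ.toRingHom
  letI : Algebra P A := φ.toAlgebra
  haveI : IsScalarTower R P A := IsScalarTower.of_algebraMap_eq fun r => (ψ.commutes r).symm
  have hres := ((Groth.Agent.S7100.result R P A hψ K).1).1 hK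
  obtain ⟨E, b', hEb, hE, ⟨eE⟩⟩ := hres
  obtain ⟨Z, bZ, hZb, hZ, ⟨eZ⟩⟩ := hK
  have hZf : DRing.IsKFlat A Z := DRingLib.isKFlat_of_free Z bZ hZb fun j => (hZ j).2
  let Q : Ideal P := q.comap φ
  have hp : p = Q.comap MvPolynomial.C := by
    rw [hpq, Ideal.comap_comap]
    congr 1
    exact RingHom.ext fun r => (ψ.commutes r).symm
  let ι := algebraMap P (Localization.AtPrime Q)
  let κ := algebraMap A (Localization.AtPrime q)
  let χA := Localization.localRingHom Q q φ rfl
  let χ := Localization.localRingHom p Q MvPolynomial.C hp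
  have hι : ι.Flat := RingHom.flat_algebraMap_iff.2 inferInstance
  let F := (DRingLib.extCx ι).obj E
  let X := (DRingLib.extCx κ).obj Z
  obtain ⟨eFZ⟩ := DRingLib.nonempty_extCx_iso ι hι
    (eE ≪≫ (DRing.restrictD φ).mapIso eZ.symm ≪≫ TorLocLib.restrictDQ φ Z)
  let eF : DerivedCategory.Q.obj F ≅ DerivedCategory.Q.obj ((DRing.restrictCx χA).obj X) :=
    eFZ ≪≫ DerivedCategory.Q.mapIso (TorLocLib.sqCxIso φ ι κ χA _
      (TorLocLib.isPushSq_localization φ hψ q) Z)
  let eL : (DRing.LBaseChange κ).obj K ≅ DerivedCategory.Q.obj X :=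
    (DRing.LBaseChange κ).mapIso eZ.symm ≪≫ DRingLib.lBaseChangeObjIso κ Z hZf
  have hFb : ∀ i, b' < i → Limits.IsZero (F.X i) := fun i hi =>
    (ModuleCat.extendScalars.{u, u, u} ι).map_isZero (hEb i hi)
  have hF : ∀ i, Module.Finite (Localization.AtPrime Q) (F.X i) ∧
      Module.Free (Localization.AtPrime Q) (F.X i) := fun i =>
    ⟨DRingLib.finite_extCx ι i (hE i).1, DRingLib.free_extCx ι i (hE i).2⟩
  have hC : (MvPolynomial.C : R →+* P).Flat := by
    rw [← MvPolynomial.algebraMap_eq]
    exact RingHom.flat_algebraMap_iff.2 inferInstance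
  have hχ : χ.Flat := RingHom.Flat.localRingHom hC _ _ hp
  have hχA : Localization.localRingHom p q (algebraMap R A) hpq = χA.comp χ := by
    refine IsLocalization.ringHom_ext p.primeCompl (RingHom.ext fun r => ?_)
    simp only [RingHom.comp_apply, χ, χA, Localization.localRingHom_to_map]
    exact congrArg _ (ψ.commutes r).symm
  let G := (DRing.restrictCx χ).obj F
  have hG : DRing.IsKFlat (Localization.AtPrime p) G :=
    KFlatLib.isKFlat_of_bounded_flat G b'
      (fun i hi => (ModuleCat.restrictScalars.{u} χ).map_isZero (hFb i hi))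
      (fun i => TorLocLib.flat_restrictScalars χ hχ _ (by have := (hF i).2; infer_instance))
  let M : ModuleCat.{u} (Localization.AtPrime p) := ModuleCat.of _ p.ResidueField
  let eG : (DRing.restrictD (Localization.localRingHom p q (algebraMap R A) hpq)).obj
      ((DRing.LBaseChange κ).obj K) ≅ DerivedCategory.Q.obj G :=
    (DRing.restrictD _).mapIso eL ≪≫ TorLocLib.restrictDCompQ χ χA _ hχA X ≪≫
      (DRing.restrictD χ).mapIso eF.symm ≪≫ TorLocLib.restrictDQ χ F
  let eT := (DRing.LTensor (Localization.AtPrime p) M).mapIso eG ≪≫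
    DRingLib.leftDerivedObjIso (fun _ _ α hP hQ hα =>
      haveI := hα
      DRingLib.quasiIso_tensorN α hP hQ M) G hG
  have hA : DRingLib.Amp (a - d) b F := by
    refine TorLocLib.amp_of_fibre Q p hp F hFb hF fun i hi => ?_
    have h0 : Limits.IsZero ((KFlatLib.tensorN G M).homology i) :=
      (@ModuleCat.isZero_of_subsingleton _ _ _ (hfib i hi)).of_iso
        ((DerivedCategory.homologyFunctor _ i).mapIso eT ≪≫
          (DerivedCategory.homologyFunctorFactors (ModuleCat.{u} (Localization.AtPrime p)) i).app _).symm
    rw [← HomologicalComplex.exactAt_iff_isZero_homology,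
      HomologicalComplex.exactAt_iff' _ (i - 1) i (i + 1) (by simp) (by simp),
      CategoryTheory.ShortComplex.ShortExact.moduleCat_exact_iff_function_exact] at h0
    exact h0
  have hamp := (TwoTermLib.Fibre.perfect_of_amp hFb hF hA eF).2
  let f : R →+* Localization.AtPrime Q := ι.comp MvPolynomial.C
  have hf : f.Flat := hC.comp hι
  refine DRingLib.hasTorAmplitudeIn_of_iso ?_ (TorLocLib.hasTorAmplitudeIn_restrictD f hf hamp)
  refine (TorLocLib.restrictDCompQ f χA (algebraMap R (Localization.AtPrime q)) ?_ X).symm ≪≫
    (DRing.restrictD _).mapIso eL.symm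
  refine RingHom.ext fun r => ?_
  rw [IsScalarTower.algebraMap_apply R A (Localization.AtPrime q)]
  show κ _ = χA (ι (MvPolynomial.C r))
  rw [Localization.localRingHom_to_map]
  exact congrArg _ (ψ.commutes r).symm

end Groth.Agent.S7104
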