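import Groth.Statements.S7107
import Mathlib.LinearAlgebra.Finsupp.SumProd
import Mathlib.LinearAlgebra.Finsupp.Pi
import Mathlib.SetTheory.Cardinal.Arithmetic
import Mathlib.LinearAlgebra.Finsupp.LSum
import Mathlib.LinearAlgebra.Prod
-- import your own Groth.Agent.* helpers here

set_option autoImplicit false
universe u
open CAlg

namespace Groth.Agent.S7107

/-- Let R be a ring and P, Q modules such that P ⊕ Q is isomorphic to a free module F on an infinite
basis. Then P ⊕ F is isomorphic to F. -/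
theorem result (R : Type u) [CommRing R] (P Q : Type u) [AddCommGroup P] [Module R P]
    [AddCommGroup Q] [Module R Q] (ι : Type u) [Infinite ι] (e : (P × Q) ≃ₗ[R] (ι →₀ R)) :
    Nonempty ((P × (ι →₀ R)) ≃ₗ[R] (ι →₀ R)) := by
  have hcard : Cardinal.mk (ℕ × ι) = Cardinal.mk ι := by
    rw [Cardinal.mk_prod, Cardinal.lift_id', Cardinal.mk_nat, Cardinal.lift_aleph0]
    exact Cardinal.aleph0_mul_eq (Cardinal.aleph0_le_mk ι)
  obtain ⟨σ⟩ := Cardinal.eq.mp hcard
  let eF : (ℕ →₀ (ι →₀ R)) ≃ₗ[R] (ι →₀ R) :=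
    (Finsupp.curryLinearEquiv R).symm.trans (Finsupp.domLCongr σ)
  let eX : (ℕ →₀ (P × Q)) ≃ₗ[R] (ℕ →₀ P) × (ℕ →₀ Q) :=
    LinearEquiv.ofLinearMap
      ((Finsupp.mapRange.linearMap (LinearMap.fst R P Q)).prod (Finsupp.mapRange.linearMap (LinearMap.snd R P Q)))
      ((Finsupp.mapRange.linearMap (LinearMap.inl R P Q)).coprod (Finsupp.mapRange.linearMap (LinearMap.inr R P Q)))
      (by
        refine LinearMap.ext fun z => Prod.ext (Finsupp.ext fun n => ?_) (Finsupp.ext fun n => ?_) <;> simp)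
      (by
        refine LinearMap.ext fun z => Finsupp.ext fun n => Prod.ext ?_ ?_ <;> simp)
  let eP : (P × (ℕ →₀ P)) ≃ₗ[R] (ℕ →₀ P) :=
    (((Finsupp.uniqueLinearEquiv (R := R) (M := P) ()).symm.prodCongr (LinearEquiv.refl R (ℕ →₀ P))).trans
      (Finsupp.sumFinsuppLEquivProdFinsupp R).symm).trans
      (Finsupp.domLCongr ((Equiv.sumComm Unit ℕ).trans Equiv.natSumPUnitEquivNat))
  let eG : (ι →₀ R) ≃ₗ[R] (ℕ →₀ P) × (ℕ →₀ Q) :=
    eF.symm.trans ((Finsupp.mapRange.linearEquiv e.symm).trans eX)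
  exact ⟨(((LinearEquiv.refl R P).prodCongr eG).trans
    ((LinearEquiv.prodAssoc R P (ℕ →₀ P) (ℕ →₀ Q)).symm.trans
      (eP.prodCongr (LinearEquiv.refl R (ℕ →₀ Q))))).trans eG.symm⟩

end Groth.Agent.S7107
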