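import Groth.Statements.S7108
import Groth.Agent.S7107
import Mathlib.Algebra.Module.Projective
import Mathlib.LinearAlgebra.Finsupp.LinearCombination
-- import your own Groth.Agent.* helpers here

set_option autoImplicit false
universe u
open CAlg

namespace Groth.Agent.S7108

/-- Every projective module P over a ring R becomes free after adding a suitable free module: P ⊕ F is
free for some free module F (here F is the free module on some index type). -/
theorem result (R : Type u) [CommRing R] (P : Type u) [AddCommGroup P]
    [Module R P] [Module.Projective R P] : ∃ ι : Type u, Module.Free R (P × (ι →₀ R)) := by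
  classical
  let f : ((P ⊕ ULift.{u} ℕ) →₀ R) →ₗ[R] P := Finsupp.linearCombination R (Sum.elim id 0)
  have hf : Function.Surjective f := fun p => ⟨Finsupp.single (Sum.inl p) 1, by simp [f]⟩
  obtain ⟨s, hs⟩ := Module.projective_lifting_property f LinearMap.id hf
  have hs' : ∀ p, f (s p) = p := fun p => DFunLike.congr_fun hs p
  let e : (P × LinearMap.ker f) ≃ₗ[R] ((P ⊕ ULift.{u} ℕ) →₀ R) :=
    LinearEquiv.ofLinearMap (s.coprod (LinearMap.ker f).subtype)
      (f.prod ((LinearMap.id - s ∘ₗ f).codRestrict (LinearMap.ker f) fun x => by simp [hs']))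
      (LinearMap.ext fun x => by simp)
      (LinearMap.ext fun z => by
        obtain ⟨p, q, hq⟩ := z
        have : f q = 0 := hq
        refine Prod.ext ?_ (Subtype.ext ?_) <;> simp [hs', this])
  obtain ⟨e'⟩ := S7107.result R P (LinearMap.ker f) (P ⊕ ULift.{u} ℕ) e
  exact ⟨P ⊕ ULift.{u} ℕ, Module.Free.of_equiv e'.symm⟩

end Groth.Agent.S7108
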