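import Groth.Statements.S7109
import Mathlib.Algebra.Module.Projective
import Mathlib.LinearAlgebra.Projection
import Mathlib.LinearAlgebra.Finsupp.LinearCombination
import Mathlib.LinearAlgebra.FreeModule.Finite.Basic
-- import your own Groth.Agent.* helpers here

set_option autoImplicit false
universe u
open CAlg

namespace Groth.Agent.S7109

/-- Let P be a projective module over a ring R and s an element of P. Then there are a finite free
module R^n and a direct summand K of R^n ⊕ P which is finite free and contains (0, s). -/
theorem result (R : Type u) [CommRing R] (P : Type u) [AddCommGroup P]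
    [Module R P] [Module.Projective R P] (s : P) :
    ∃ (n : ℕ) (K K' : Submodule R ((Fin n → R) × P)), IsCompl K K' ∧ Module.Free R K ∧ Module.Finite R K ∧
      ((0, s) : (Fin n → R) × P) ∈ K := by
  classical
  obtain ⟨i, hi⟩ := Module.projective_def'.mp (inferInstance : Module.Projective R P)
  let S := (i s).support
  let σ := S.equivFin
  let g : P →ₗ[R] (Fin S.card → R) := LinearMap.pi fun j => Finsupp.lapply (σ.symm j : P) ∘ₗ i
  let h : (Fin S.card → R) →ₗ[R] P :=
    ∑ j, (LinearMap.proj (R := R) (φ := fun _ : Fin S.card => R) j).smulRight (σ.symm j : P)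
  have hg : h (g s) = s := by
    have := DFunLike.congr_fun hi s
    rw [LinearMap.comp_apply, LinearMap.id_apply, Finsupp.linearCombination_apply, Finsupp.sum] at this
    simp only [h, g, LinearMap.coe_sum, Finset.sum_apply, LinearMap.smulRight_apply, LinearMap.proj_apply,
      LinearMap.pi_apply, LinearMap.comp_apply, Finsupp.lapply_apply]
    rw [Equiv.sum_comp σ.symm (fun x : S => (i s) (x : P) • (x : P)), Finset.sum_coe_sort S (fun x => (i s) x • x)]
    simpa using this
  let v : (Fin S.card → R) →ₗ[R] (Fin S.card → R) × P := (LinearMap.id - g ∘ₗ h).prod h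
  let w : (Fin S.card → R) × P →ₗ[R] (Fin S.card → R) := LinearMap.id.coprod g
  have hwv : ∀ a, w (v a) = a := fun a => by simp [w, v]
  have hinj : Function.Injective v := fun a b hab => by rw [← hwv a, hab, hwv b]
  have hproj : ∀ x : LinearMap.range v, ((v ∘ₗ w).codRestrict (LinearMap.range v) fun y => ⟨_, rfl⟩) x = x := by
    rintro ⟨x, a, rfl⟩
    exact Subtype.ext (by simp [hwv])
  refine ⟨S.card, LinearMap.range v, LinearMap.ker w, ?_, ?_, ?_, ⟨g s, ?_⟩⟩
  · have := LinearMap.isCompl_of_proj hproj
    rwa [LinearMap.ker_codRestrict, LinearMap.ker_comp, LinearMap.ker_eq_bot.mpr hinj, Submodule.comap_bot] at this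
  · exact Module.Free.of_equiv (LinearEquiv.ofInjective v hinj)
  · exact Module.Finite.equiv (LinearEquiv.ofInjective v hinj)
  · simp [v, hg]

end Groth.Agent.S7109
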