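import Groth.Statements.S7110
import Mathlib
import Groth.Agent.ProjLib.FreeLocal

set_option autoImplicit false
universe u
open CAlg

namespace Groth.Agent.S7110

theorem finite_localization (R : Type u) [CommRing R] (P : Type u) [AddCommGroup P] [Module R P]
    [Module.Projective R P] (z : Ideal R) [z.IsMaximal] (T : Set P) (hT : T.Finite)
    (h : Submodule.span R T ⊔ z • (⊤ : Submodule R P) = ⊤) :
    Module.Finite (Localization.AtPrime z) (LocalizedModule z.primeCompl P) := by
  classical
  set A := Localization.AtPrime z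
  let ι := LocalizedModule.mkLinearMap z.primeCompl P
  haveI : IsBaseChange A ι := IsLocalizedModule.isBaseChange z.primeCompl A ι
  haveI : Module.Projective A (LocalizedModule z.primeCompl P) :=
    Module.Projective.of_equiv (IsLocalizedModule.isBaseChange z.primeCompl A ι).equiv
  haveI : Module.Free A (LocalizedModule z.primeCompl P) := ProjLib.free_of_projective A _
  let b := Module.Free.chooseBasis A (LocalizedModule z.primeCompl P)
  let U : Set (Module.Free.ChooseBasisIndex A (LocalizedModule z.primeCompl P)) :=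
    ⋃ t ∈ T, ((b.repr (ι t)).support : Set (Module.Free.ChooseBasisIndex A (LocalizedModule z.primeCompl P)))
  have hUf : U.Finite := hT.biUnion fun t _ => Finset.finite_toSet _
  have hU : ∀ a, a ∈ U := by
    intro a
    by_contra ha
    have key : ∀ p : P, b.repr (ι p) a ∈ IsLocalRing.maximalIdeal A := by
      intro p
      have hp : p ∈ Submodule.span R T ⊔ z • (⊤ : Submodule R P) := h.ge Submodule.mem_top
      obtain ⟨q, hq, w, hw, rfl⟩ := Submodule.mem_sup.1 hp
      rw [map_add, map_add, Finsupp.add_apply]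
      refine add_mem ?_ ?_
      · suffices hz : b.repr (ι q) a = 0 by rw [hz]; exact zero_mem _
        clear hp
        induction hq using Submodule.span_induction with
        | mem t ht => exact Finsupp.notMem_support_iff.1 fun h' => ha (Set.mem_biUnion ht h')
        | zero => simp
        | add u v _ _ hu hv => simp [hu, hv]
        | smul c u _ hu =>
          rw [map_smul ι, ← IsScalarTower.algebraMap_smul A c, map_smul b.repr, Finsupp.smul_apply, hu, smul_zero]
      · clear hp
        refine Submodule.smul_induction_on hw (fun r hr u _ => ?_) fun u v hu hv => ?_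
        · rw [map_smul ι, ← IsScalarTower.algebraMap_smul A r, map_smul b.repr, Finsupp.smul_apply, smul_eq_mul]
          exact Ideal.mul_mem_right _ _ ((IsLocalization.AtPrime.to_map_mem_maximal_iff A z r).2 hr)
        · rw [map_add, map_add, Finsupp.add_apply]; exact add_mem hu hv
    obtain ⟨⟨p, t⟩, hp⟩ := IsLocalizedModule.surj z.primeCompl ι (b a)
    have h1 := key p
    rw [← hp, Submonoid.smul_def, ← IsScalarTower.algebraMap_smul A (t : R), map_smul, Module.Basis.repr_self,
      Finsupp.smul_apply, Finsupp.single_eq_same, smul_eq_mul, _root_.mul_one] at h1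
    exact t.2 ((IsLocalization.AtPrime.to_map_mem_maximal_iff A z _).1 h1)
  haveI : Finite (Module.Free.ChooseBasisIndex A (LocalizedModule z.primeCompl P)) :=
    Set.finite_univ_iff.1 (hUf.subset fun a _ => hU a)
  exact Module.Finite.of_basis b

/-- Let R be a ring whose quotient by its Jacobson radical is Noetherian, P a projective R-module such
that for every maximal ideal m the localization P_m is not finitely generated over R_m (P has
infinite rank everywhere), s an element of P and M a submodule with Rs + M = P. Then for some m in M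
the element s + m spans a free direct summand of P of rank one: there is a linear form φ on P with
φ(s + m) = 1. (Rank one is meant: the zero submodule does not count.) -/
theorem result (R : Type u) [CommRing R]
    [IsNoetherianRing (R ⧸ (⊥ : Ideal R).jacobson)]
    (P : Type u) [AddCommGroup P] [Module R P] [Module.Projective R P]
    (hP : ∀ (m : Ideal R) [m.IsMaximal],
      ¬ Module.Finite (Localization.AtPrime m) (LocalizedModule m.primeCompl P))
    (s : P) (M : Submodule R P) (hM : Submodule.span R {s} ⊔ M = ⊤) :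
    ∃ m ∈ M, ∃ φ : P →ₗ[R] R, φ (s + m) = 1 := by
  classical
  set J := (⊥ : Ideal R).jacobson
  let O : P → Ideal R := fun x => LinearMap.range (LinearMap.applyₗ x : (P →ₗ[R] R) →ₗ[R] R)
  let S : Set (Ideal (R ⧸ J)) := (fun m => ((O (s + m)).jacobson).map (Ideal.Quotient.mk J)) '' (M : Set P)
  obtain ⟨-, ⟨m, hm, rfl⟩, hmax⟩ :=
    set_has_maximal_iff_noetherian.2 (isNoetherianRing_iff.1 inferInstance) S ⟨_, Set.mem_image_of_mem _ M.zero_mem⟩
  refine ⟨m, hm, ?_⟩
  suffices hO : O (s + m) = ⊤ by
    obtain ⟨φ, hφ⟩ := (Ideal.eq_top_iff_one _).1 hO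
    exact ⟨φ, hφ⟩
  by_contra hO
  obtain ⟨z, hz, hle⟩ := Ideal.exists_le_maximal _ hO
  obtain ⟨G, hG⟩ := (IsNoetherian.noetherian ((O (s + m)).map (Ideal.Quotient.mk J)) :
    ((O (s + m)).map (Ideal.Quotient.mk J)).FG)
  have hsur : ∀ g : G, ∃ φ : P →ₗ[R] R, Ideal.Quotient.mk J (φ (s + m)) = g.1 := fun g => by
    obtain ⟨r, ⟨φ, rfl⟩, hr⟩ := (Ideal.mem_map_iff_of_surjective (Ideal.Quotient.mk J) Ideal.Quotient.mk_surjective).1
      (hG ▸ Submodule.subset_span g.2 : g.1 ∈ (O (s + m)).map (Ideal.Quotient.mk J))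
    exact ⟨φ, hr⟩
  choose ψ hψ using hsur
  let Φ : P →ₗ[R] (G → R ⧸ J) := LinearMap.pi fun g => (Algebra.linearMap R (R ⧸ J)).comp (ψ g)
  let N : Submodule (R ⧸ J) (G → R ⧸ J) :=
    { carrier := Φ '' M
      zero_mem' := ⟨0, M.zero_mem, map_zero Φ⟩
      add_mem' := by rintro _ _ ⟨a, ha, rfl⟩ ⟨b, hb, rfl⟩; exact ⟨a + b, add_mem ha hb, map_add _ _ _⟩
      smul_mem' := by
        rintro c _ ⟨a, ha, rfl⟩
        obtain ⟨c, rfl⟩ := Ideal.Quotient.mk_surjective c
        exact ⟨c • a, M.smul_mem c ha, map_smul _ _ _⟩ }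
  obtain ⟨T, hT⟩ := (IsNoetherian.noetherian N : N.FG)
  have hTM : ∀ t : T, ∃ a ∈ M, Φ a = t.1 := fun t => (hT ▸ Submodule.subset_span t.2 : t.1 ∈ N)
  choose a ha haT using hTM
  let K : Submodule R P := M ⊓ LinearMap.ker Φ
  have hMK : M ≤ Submodule.span R (Set.range a) ⊔ K := by
    intro x hx
    have h1 : Φ x ∈ Submodule.span R (T : Set (G → R ⧸ J)) := by
      rw [← Submodule.restrictScalars_span R (R ⧸ J) Ideal.Quotient.mk_surjective]
      rw [Submodule.restrictScalars_mem, hT]
      exact ⟨x, hx, rfl⟩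
    have h2 : Submodule.span R (T : Set (G → R ⧸ J)) ≤ (Submodule.span R (Set.range a)).map Φ := by
      rw [Submodule.map_span]
      refine Submodule.span_mono fun t ht => ⟨a ⟨t, ht⟩, ⟨_, rfl⟩, haT ⟨t, ht⟩⟩
    obtain ⟨y, hy, hyx⟩ := h2 h1
    refine Submodule.mem_sup.2 ⟨y, hy, x - y, ⟨sub_mem hx ?_, ?_⟩, add_sub_cancel y x⟩
    · exact (Submodule.span_le.2 (by rintro _ ⟨t, rfl⟩; exact ha t)) hy
    · simp [LinearMap.mem_ker, hyx]
  obtain ⟨y, hyK, φ, hφy⟩ : ∃ y ∈ K, ∃ φ : P →ₗ[R] R, φ y ∉ z := by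
    by_contra hcon
    push Not at hcon
    obtain ⟨i, hi⟩ := Module.projective_def'.mp (inferInstance : Module.Projective R P)
    have hKz : K ≤ z • (⊤ : Submodule R P) := by
      intro x hx
      rw [← LinearMap.id_apply (R := R) x, ← hi, LinearMap.comp_apply, Finsupp.linearCombination_apply]
      refine Submodule.sum_mem _ fun b _ => Submodule.smul_mem_smul ?_ Submodule.mem_top
      exact hcon x hx ((Finsupp.lapply b).comp i)
    refine hP z (finite_localization R P z (insert s (Set.range a)) ((Set.finite_range a).insert s) (eq_top_iff.2 ?_))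
    rw [Submodule.span_insert]
    refine hM.ge.trans ?_
    exact sup_le (le_sup_of_le_left le_sup_left)
      (hMK.trans (sup_le (le_sup_of_le_left le_sup_right) (hKz.trans le_sup_right)))
  have hJz : ∀ w : Ideal R, w.IsMaximal → J ≤ w := fun w hw => sInf_le ⟨bot_le, hw⟩
  have hmono : (O (s + m)).jacobson ≤ (O (s + (m + y))).jacobson := by
    refine le_sInf fun w hw => sInf_le ⟨?_, hw.2⟩
    intro r hr
    have h1 : (O (s + m)).map (Ideal.Quotient.mk J) ≤ w.map (Ideal.Quotient.mk J) := by
      rw [← hG, Ideal.span_le]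
      intro g hg
      rw [SetLike.mem_coe, show g = _ from (hψ ⟨g, hg⟩).symm]
      have h2 : ψ ⟨g, hg⟩ (s + (m + y)) ∈ w := hw.1 ⟨ψ ⟨g, hg⟩, rfl⟩
      have h3 : Ideal.Quotient.mk J (ψ ⟨g, hg⟩ y) = 0 := congrFun (LinearMap.mem_ker.1 hyK.2) ⟨g, hg⟩
      have h4 := Ideal.mem_map_of_mem (Ideal.Quotient.mk J) h2
      rwa [← add_assoc, map_add, map_add, h3, add_zero] at h4
    exact (Ideal.mem_quotient_iff_mem (hJz w hw.2)).1 (h1 (Ideal.mem_map_of_mem _ hr))
  refine hmax _ ⟨m + y, add_mem hm hyK.1, rfl⟩ (lt_of_le_of_ne (Ideal.map_mono hmono) fun he => ?_)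
  have h5 : (O (s + (m + y))).jacobson ≤ z := by
    intro r hr
    have h6 : Ideal.Quotient.mk J r ∈ z.map (Ideal.Quotient.mk J) :=
      Ideal.map_mono (sInf_le ⟨hle, hz⟩ : (O (s + m)).jacobson ≤ z) (he.ge (Ideal.mem_map_of_mem _ hr))
    exact (Ideal.mem_quotient_iff_mem (hJz z hz)).1 h6
  refine hφy ?_
  have h7 : φ (s + (m + y)) ∈ z := h5 (Ideal.le_jacobson ⟨φ, rfl⟩)
  have h8 : φ (s + m) ∈ z := hle ⟨φ, rfl⟩
  rw [← add_assoc, map_add] at h7
  simpa using sub_mem h7 h8

end Groth.Agent.S7110
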