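import Groth.Statements.S7111
import Mathlib
import Groth.Agent.S7109
import Groth.Agent.S7110

set_option autoImplicit false
universe u
open CAlg

namespace Groth.Agent.S7111

theorem finite_of_surjective {R : Type u} [CommRing R] (z : Ideal R) [z.IsMaximal] {A B : Type u}
    [AddCommGroup A] [Module R A] [AddCommGroup B] [Module R B] (f : A →ₗ[R] B) (hf : Function.Surjective f)
    [Module.Finite (Localization.AtPrime z) (LocalizedModule z.primeCompl A)] :
    Module.Finite (Localization.AtPrime z) (LocalizedModule z.primeCompl B) :=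
  Module.Finite.of_surjective (LocalizedModule.map z.primeCompl f) (LocalizedModule.map_surjective z.primeCompl f hf)

theorem finite_of_isCompl {R : Type u} [CommRing R] (z : Ideal R) [z.IsMaximal] {A : Type u}
    [AddCommGroup A] [Module R A] {K K' : Submodule R A} (h : IsCompl K K') [Module.Finite R K]
    [Module.Finite (Localization.AtPrime z) (LocalizedModule z.primeCompl K')] :
    Module.Finite (Localization.AtPrime z) (LocalizedModule z.primeCompl A) := by
  haveI : Module.Finite (Localization.AtPrime z) (LocalizedModule z.primeCompl K) :=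
    Module.Finite.of_isLocalizedModule z.primeCompl (LocalizedModule.mkLinearMap z.primeCompl K)
  refine Module.Finite.of_surjective
    ((LocalizedModule.map z.primeCompl K.subtype).coprod (LocalizedModule.map z.primeCompl K'.subtype)) ?_
  intro y
  induction y using LocalizedModule.induction_on with
  | _ x t =>
    obtain ⟨a, b, rfl⟩ : ∃ (a : K) (b : K'), (a : A) + b = x := by
      obtain ⟨a, ha, b, hb, e⟩ := Submodule.mem_sup.1 (h.sup_eq_top.ge (Submodule.mem_top (x := x)))
      exact ⟨⟨a, ha⟩, ⟨b, hb⟩, e⟩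
    exact ⟨(LocalizedModule.mk a t, LocalizedModule.mk b t), by
      rw [LinearMap.coprod_apply, LocalizedModule.map_mk, LocalizedModule.map_mk, LocalizedModule.mk_add_mk,
        ← smul_add, LocalizedModule.mk_cancel_common_left]
      rfl⟩

theorem step (R : Type u) [CommRing R] [IsNoetherianRing (R ⧸ (⊥ : Ideal R).jacobson)]
    (Q : Type u) [AddCommGroup Q] [Module R Q] [Module.Projective R Q]
    (hQ : ∀ (m : Ideal R) [m.IsMaximal],
      ¬ Module.Finite (Localization.AtPrime m) (LocalizedModule m.primeCompl Q))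
    (s : Q) (K K' : Submodule R (R × Q)) (h : IsCompl K K') [Module.Finite R K] [Module.IsStablyFree R K]
    (hs : ((0, s) : R × Q) ∈ K) :
    ∃ (L L' : Submodule R Q), IsCompl L L' ∧ Module.Finite R L ∧ Module.IsStablyFree R L ∧ s ∈ L := by
  haveI : Module.Projective R K' :=
    Module.Projective.of_split K'.subtype (K'.projectionOnto K h.symm) (LinearMap.ext fun x => by simp)
  let pr : R × Q →ₗ[R] K := K.projectionOnto K' h
  let pr' : R × Q →ₗ[R] K' := K'.projectionOnto K h.symm
  have hsum : ∀ x, (pr x : R × Q) + pr' x = x := fun x => by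
    simp [pr, pr', Submodule.coe_projectionOnto_apply, Submodule.projection_add_projection_eq_self]
  obtain ⟨m, ⟨q₀, rfl⟩, φ, hφ⟩ := Groth.Agent.S7110.result R K'
    (fun z _ hz => hQ z (by
      haveI := finite_of_isCompl z h
      exact finite_of_surjective z (LinearMap.snd R R Q) Prod.snd_surjective))
    (pr' (1, 0)) (LinearMap.range (pr'.comp (LinearMap.inr R R Q))) (by
      refine eq_top_iff.2 fun x _ => Submodule.mem_sup.2 ⟨(x : R × Q).1 • pr' (1, 0), ?_,
        pr' (0, (x : R × Q).2), ⟨_, rfl⟩, ?_⟩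
      · exact Submodule.smul_mem _ _ (Submodule.mem_span_singleton_self _)
      · rw [← map_smul, ← map_add, show (x : R × Q).1 • ((1 : R), (0 : Q)) + (0, (x : R × Q).2) = (x : R × Q) by simp]
        simp [pr'])
  set u : R × Q := (1, q₀) with hu
  have hk : φ (pr' u) = 1 := by
    rw [← hφ, LinearMap.comp_apply, LinearMap.inr_apply, ← map_add]
    simp [hu]
  let ψ : R × Q →ₗ[R] K × R := pr.prod (φ.comp pr')
  let τ : K × R →ₗ[R] R × Q := K.subtype.coprod (LinearMap.toSpanSingleton R _ (pr' u : R × Q))
  have hψτ : ∀ c, ψ (τ c) = c := fun ⟨k, r⟩ => by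
    have h1 : pr (k : R × Q) = k := Submodule.projectionOnto_apply_left h k
    have h2 : pr (pr' u : R × Q) = 0 := Submodule.projectionOnto_apply_right h (pr' u)
    have h3 : pr' (k : R × Q) = 0 := Submodule.projectionOnto_apply_right h.symm k
    have h4 : pr' (pr' u : R × Q) = pr' u := Submodule.projectionOnto_apply_left h.symm (pr' u)
    refine Prod.ext ?_ ?_ <;>
    simp only [ψ, τ, LinearMap.prod_apply, Function.prod, Prod.smul_fst, Prod.smul_snd, Prod.fst_add, Prod.snd_add, LinearMap.coprod_apply, Submodule.subtype_apply,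
      LinearMap.toSpanSingleton_apply, map_add, map_smul, LinearMap.comp_apply, h1, h2, h3, h4, hk,
      smul_zero, map_zero, add_zero, zero_add, smul_eq_mul, _root_.mul_one]
  have hu' : τ (ψ u) = u := by simp [ψ, τ, hk, hsum]
  let πQ : R × Q →ₗ[R] Q := LinearMap.snd R R Q - (LinearMap.toSpanSingleton R Q q₀).comp (LinearMap.fst R R Q)
  have hπ : ∀ y : R × Q, ((0 : R), πQ y) = y - y.1 • u := fun y => by simp [πQ, hu, Prod.ext_iff]
  have hfix : ∀ c, τ (ψ ((0, πQ (τ c)))) = (0, πQ (τ c)) := fun c => by
    rw [hπ, map_sub, map_sub, map_smul, map_smul, hu', hψτ]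
  let e : Q →ₗ[R] Q := πQ ∘ₗ τ ∘ₗ ψ ∘ₗ LinearMap.inr R R Q
  have he : ∀ c, e (πQ (τ c)) = πQ (τ c) := fun c => by
    show πQ (τ (ψ (0, πQ (τ c)))) = _
    rw [hfix]; simp [πQ]
  let L : Submodule R Q := LinearMap.range (πQ ∘ₗ τ)
  have heL : ∀ q, e q ∈ L := fun q => ⟨_, rfl⟩
  refine ⟨L, _, LinearMap.isCompl_of_proj (f := e.codRestrict L heL) ?_, inferInstance, ?_, ?_⟩
  · rintro ⟨_, c, rfl⟩
    exact Subtype.ext (he c)
  · let F : (L × R) ≃ₗ[R] (K × R) := LinearEquiv.ofLinear
      (ψ ∘ₗ ((LinearMap.inr R R Q).comp L.subtype).coprod (LinearMap.toSpanSingleton R _ u))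
      (((πQ ∘ₗ τ).codRestrict L fun c => ⟨c, rfl⟩).prod ((LinearMap.fst R R Q) ∘ₗ τ))
      (LinearMap.ext fun c => by
        show ψ (((0 : R), πQ (τ c)) + (τ c).1 • u) = c
        rw [hπ, sub_add_cancel, hψτ])
      (LinearMap.ext fun x => by
        obtain ⟨⟨_, c, rfl⟩, r⟩ := x
        have h1 : τ (ψ (((0 : R), πQ (τ c)) + r • u)) = ((0 : R), πQ (τ c)) + r • u := by
          rw [map_add, map_add, map_smul, map_smul, hfix, hu']
        refine Prod.ext (Subtype.ext ?_) ?_
        · show πQ (τ (ψ (((0 : R), πQ (τ c)) + r • u))) = πQ (τ c)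
          rw [h1]; simp [πQ, hu]
        · show (τ (ψ (((0 : R), πQ (τ c)) + r • u))).1 = r
          rw [h1]; simp [hu])
    obtain ⟨N, _, _, _, _, _⟩ := Module.IsStablyFree.exist_free_prod R K
    haveI : Module.Free R (L × (R × N)) := Module.Free.of_equiv
      (((LinearEquiv.prodAssoc R L R N).symm.trans (F.prodCongr (LinearEquiv.refl R N))).trans
        ((LinearEquiv.prodAssoc R K R N).trans
          (((LinearEquiv.refl R K).prodCongr (LinearEquiv.prodComm R R N)).trans
            (LinearEquiv.prodAssoc R K N R).symm))).symm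
    exact Module.IsStablyFree.of_free_prod R L (R × N)
  · refine ⟨(⟨(0, s), hs⟩, 0), ?_⟩
    simp [τ, πQ]

theorem descend (R : Type u) [CommRing R] [IsNoetherianRing (R ⧸ (⊥ : Ideal R).jacobson)]
    (P : Type u) [AddCommGroup P] [Module R P] [Module.Projective R P]
    (hP : ∀ (m : Ideal R) [m.IsMaximal],
      ¬ Module.Finite (Localization.AtPrime m) (LocalizedModule m.primeCompl P)) (s : P) :
    ∀ (n : ℕ) (K K' : Submodule R ((Fin n → R) × P)), IsCompl K K' → Module.Finite R K →
      Module.IsStablyFree R K → ((0, s) : (Fin n → R) × P) ∈ K →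
      ∃ (L L' : Submodule R P), IsCompl L L' ∧ Module.Finite R L ∧ Module.IsStablyFree R L ∧ s ∈ L
  | 0, K, K', h, hf, hsf, hs => by
    let c : ((Fin 0 → R) × P) ≃ₗ[R] P :=
      LinearEquiv.ofLinear (LinearMap.snd R _ P) (LinearMap.inr R _ P) (LinearMap.ext fun _ => rfl)
        (LinearMap.ext fun x => Prod.ext (Subsingleton.elim _ _) rfl)
    exact ⟨K.map (c : _ →ₗ[R] P), K'.map (c : _ →ₗ[R] P), by simpa using (Submodule.orderIsoMapComap c).isCompl h,
      Module.Finite.equiv (c.submoduleMap K), Module.IsStablyFree.equiv (c.submoduleMap K), _, hs, rfl⟩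
  | n + 1, K, K', h, hf, hsf, hs => by
    let c : ((Fin (n + 1) → R) × P) ≃ₗ[R] (R × ((Fin n → R) × P)) :=
      ((Fin.consLinearEquiv R (fun _ : Fin (n + 1) => R)).symm.prodCongr (LinearEquiv.refl R P)).trans
        (LinearEquiv.prodAssoc R R (Fin n → R) P)
    haveI := Module.Finite.equiv (c.submoduleMap K)
    haveI := Module.IsStablyFree.equiv (c.submoduleMap K)
    obtain ⟨L, L', hL, hLf, hLs, hsL⟩ := step R ((Fin n → R) × P)
      (fun z _ hz => hP z (finite_of_surjective z (LinearMap.snd R (Fin n → R) P) Prod.snd_surjective))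
      (0, s) (K.map (c : _ →ₗ[R] _)) (K'.map (c : _ →ₗ[R] _)) (by simpa using (Submodule.orderIsoMapComap c).isCompl h)
      ⟨_, hs, by ext <;> simp [c, Fin.consLinearEquiv, Fin.tail]⟩
    exact descend R P hP s n L L' hL hLf hLs hsL

/-- Let R be a ring whose quotient by its Jacobson radical is Noetherian and P a projective R-module
such that for every maximal ideal m the localization P_m is not finitely generated over R_m (P has
infinite rank everywhere). Then every element s of P lies in a direct summand of P which is a finite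
stably free module. -/
theorem result (R : Type u) [CommRing R]
    [IsNoetherianRing (R ⧸ (⊥ : Ideal R).jacobson)]
    (P : Type u) [AddCommGroup P] [Module R P] [Module.Projective R P]
    (hP : ∀ (m : Ideal R) [m.IsMaximal],
      ¬ Module.Finite (Localization.AtPrime m) (LocalizedModule m.primeCompl P))
    (s : P) :
    ∃ (K K' : Submodule R P), IsCompl K K' ∧ Module.Finite R K ∧ Module.IsStablyFree R K ∧ s ∈ K := by
  obtain ⟨n, K, K', h, hfree, hfin, hs⟩ := Groth.Agent.S7109.result R P s
  haveI := hfree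
  exact descend R P hP s n K K' h hfin inferInstance hs

end Groth.Agent.S7111
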