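import Groth.Statements.S7112
import Mathlib
import Groth.Agent.S7111
import Groth.Agent.ProjLib.FreeLocal

set_option autoImplicit false
universe u
open CAlg

namespace Groth.Agent.S7112

/-- Infinite rank at every maximal ideal. -/
def IsBig (R : Type u) [CommRing R] (P : Type u) [AddCommGroup P] [Module R P] : Prop :=
  ∀ (m : Ideal R) [m.IsMaximal], ¬ Module.Finite (Localization.AtPrime m) (LocalizedModule m.primeCompl P)

theorem finite_of_surjective' {R : Type u} [CommRing R] (z : Ideal R) [z.IsMaximal] {A B : Type u}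
    [AddCommGroup A] [Module R A] [AddCommGroup B] [Module R B] (f : A →ₗ[R] B) (hf : Function.Surjective f)
    [Module.Finite (Localization.AtPrime z) (LocalizedModule z.primeCompl A)] :
    Module.Finite (Localization.AtPrime z) (LocalizedModule z.primeCompl B) :=
  Groth.Agent.S7111.finite_of_surjective z f hf

theorem exists_surj (R : Type u) [CommRing R] [IsNoetherianRing (R ⧸ (⊥ : Ideal R).jacobson)]
    (Q : Type u) [AddCommGroup Q] [Module R Q] [Module.Projective R Q] (hQ : IsBig R Q) :
    ∀ k : ℕ, ∃ (π : Q →ₗ[R] (Fin k → R)) (σ : (Fin k → R) →ₗ[R] Q),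
      (∀ c, π (σ c) = c) ∧ IsBig R (LinearMap.ker π)
  | 0 => ⟨0, 0, fun c => Subsingleton.elim _ _, fun m _ hm => hQ m (by
      exact finite_of_surjective' m (LinearMap.ker (0 : Q →ₗ[R] (Fin 0 → R))).subtype fun p => ⟨⟨p, by simp⟩, rfl⟩)⟩
  | k + 1 => by
    obtain ⟨π, σ, hπσ, hbig⟩ := exists_surj R Q hQ k
    let pr : Q →ₗ[R] LinearMap.ker π :=
      LinearMap.codRestrict (LinearMap.ker π) (LinearMap.id - σ.comp π) fun x => by simp [hπσ]
    have hpr : ∀ x : LinearMap.ker π, pr x.1 = x := fun x => Subtype.ext (by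
      simp [pr, LinearMap.mem_ker.1 x.2])
    have hprσ : ∀ c, pr (σ c) = 0 := fun c => Subtype.ext (by simp [pr, hπσ])
    haveI : Module.Projective R (LinearMap.ker π) :=
      Module.Projective.of_split (LinearMap.ker π).subtype pr (LinearMap.ext hpr)
    obtain ⟨t, -, φ, hφ⟩ := Groth.Agent.S7110.result R (LinearMap.ker π) hbig 0 ⊤ (by simp)
    rw [zero_add] at hφ
    let π' : Q →ₗ[R] (Fin (k + 1) → R) :=
      (Fin.consLinearEquiv R (fun _ : Fin (k + 1) => R)).toLinearMap.comp ((φ.comp pr).prod π)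
    let σ' : (Fin (k + 1) → R) →ₗ[R] Q :=
      ((LinearMap.toSpanSingleton R Q t.1).coprod σ).comp
        (Fin.consLinearEquiv R (fun _ : Fin (k + 1) => R)).symm.toLinearMap
    have hσ' : ∀ c, π' (σ' c) = c := fun c => by
      obtain ⟨⟨a, b⟩, rfl⟩ := (Fin.consLinearEquiv R (fun _ : Fin (k + 1) => R)).surjective c
      simp [π', σ', hpr, hprσ, hπσ, hφ, LinearMap.mem_ker.1 t.2]
    refine ⟨π', σ', hσ', fun m _ hm => hQ m ?_⟩
    haveI : Module.Finite R (LinearMap.range σ') := Module.Finite.range σ'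
    let p' : Q →ₗ[R] LinearMap.range σ' := (σ' ∘ₗ π').codRestrict (LinearMap.range σ') fun y => ⟨_, rfl⟩
    have hc := LinearMap.isCompl_of_proj (f := p') fun y => by
      obtain ⟨_, c, rfl⟩ := y
      exact Subtype.ext (by simp [p', hσ'])
    have hk : LinearMap.ker p' = LinearMap.ker π' := by
      rw [LinearMap.ker_codRestrict, LinearMap.ker_comp_of_ker_eq_bot]
      exact LinearMap.ker_eq_bot.2 fun a b h => by rw [← hσ' a, ← hσ' b, h]
    rw [hk] at hc
    exact Groth.Agent.S7111.finite_of_isCompl m hc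

theorem exists_summand (R : Type u) [CommRing R] [Nontrivial R] [IsNoetherianRing (R ⧸ (⊥ : Ideal R).jacobson)]
    (P : Type u) [AddCommGroup P] [Module R P] [Module.Projective R P] (hP : IsBig R P) (x : P) :
    ∃ (n : ℕ) (z : (Fin n → R) →ₗ[R] P) (φ : P →ₗ[R] (Fin n → R)),
      φ.comp z = LinearMap.id ∧ z (φ x) = x ∧ IsBig R (LinearMap.ker φ) := by
  obtain ⟨L, L', h, hLf, hLs, hx⟩ := Groth.Agent.S7111.result R P hP x
  haveI := hLf
  haveI := hLs
  have hL' : IsBig R L' := fun m _ hm => hP m (Groth.Agent.S7111.finite_of_isCompl m h)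
  haveI : Module.Projective R L' := ProjLib.projective_of_isCompl h
  obtain ⟨N, _, _, _, _, _⟩ := Module.IsStablyFree.exist_free_prod R L
  let eN := (Module.finBasis R N).equivFun
  obtain ⟨π, σ, hπσ, hbig⟩ := exists_surj R L' hL' (Module.finrank R N)
  let pr : P →ₗ[R] L := L.projectionOnto L' h
  let pr' : P →ₗ[R] L' := L'.projectionOnto L h.symm
  let eLN : (Fin (Module.finrank R (L × N)) → R) ≃ₗ[R] (L × (Fin (Module.finrank R N) → R)) :=
    (Module.finBasis R (L × N)).equivFun.symm.trans ((LinearEquiv.refl R L).prodCongr eN)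
  let z₀ : (L × (Fin (Module.finrank R N) → R)) →ₗ[R] P := L.subtype.coprod (L'.subtype ∘ₗ σ)
  let φ₀ : P →ₗ[R] (L × (Fin (Module.finrank R N) → R)) := pr.prod (π ∘ₗ pr')
  have h0 : ∀ c, φ₀ (z₀ c) = c := fun c => by
    refine Prod.ext ?_ ?_ <;>
    simp [φ₀, z₀, pr, pr', Submodule.projectionOnto_apply_right, Submodule.projectionOnto_apply_left, hπσ]
  refine ⟨_, z₀ ∘ₗ eLN.toLinearMap, eLN.symm.toLinearMap ∘ₗ φ₀, LinearMap.ext fun c => by simp [h0], ?_, ?_⟩
  · have h1 : pr x = ⟨x, hx⟩ := Submodule.projectionOnto_apply_left h ⟨x, hx⟩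
    have h2 : pr' x = 0 := Submodule.projectionOnto_apply_right h.symm ⟨x, hx⟩
    simp [φ₀, z₀, h1, h2]
  · intro m _ hm
    have hw : ∀ w : LinearMap.ker π, ((w : L') : P) ∈ LinearMap.ker (eLN.symm.toLinearMap ∘ₗ φ₀) := fun w => by
      have h1 : pr ((w : L') : P) = 0 := Submodule.projectionOnto_apply_right h _
      have h2 : pr' ((w : L') : P) = w := Submodule.projectionOnto_apply_left h.symm _
      simp [φ₀, h1, h2, LinearMap.mem_ker.1 w.2]
    refine hbig m ?_
    refine finite_of_surjective' m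
      ((pr' ∘ₗ (LinearMap.ker (eLN.symm.toLinearMap ∘ₗ φ₀)).subtype).codRestrict (LinearMap.ker π) fun y => ?_)
      fun w => ⟨⟨_, hw w⟩, ?_⟩
    · have h1 : φ₀ y.1 = 0 := by simpa [LinearMap.mem_ker] using y.2
      exact congrArg Prod.snd h1
    · exact Subtype.ext (Submodule.projectionOnto_apply_left h.symm w.1)

theorem split_step (R : Type u) [CommRing R] [Nontrivial R] [IsNoetherianRing (R ⧸ (⊥ : Ideal R).jacobson)]
    (P : Type u) [AddCommGroup P] [Module R P] [Module.Projective R P] (d : ProjLib.Split R P) (hd : IsBig R d.C)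
    (x : P) :
    ∃ (d' : ProjLib.Split R P) (F : Submodule R P), Module.Free R F ∧ d.S ⊔ F = d'.S ∧
      F ⊔ d'.C = d.C ∧ Disjoint F d'.C ∧ x ∈ d'.S ∧ IsBig R d'.C := by
  have : Module.Projective R d.C := ProjLib.projective_of_isCompl d.h
  obtain ⟨n, z, φ, hφz, hzx, hker⟩ := exists_summand R d.C hd (d.C.projectionOnto d.S d.h.symm x)
  let F : Submodule R P := LinearMap.range (d.C.subtype.comp z)
  let C' : Submodule R P := (LinearMap.ker φ).map d.C.subtype
  have hinj : Function.Injective (d.C.subtype.comp z) :=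
    d.C.injective_subtype.comp
      (Function.LeftInverse.injective (g := φ) fun v => LinearMap.congr_fun hφz v)
  have hFC : F ⊔ C' = d.C := by
    refine le_antisymm (sup_le ?_ ?_) fun y hy => ?_
    · rintro _ ⟨v, rfl⟩; exact (z v).2
    · rintro _ ⟨v, -, rfl⟩; exact v.2
    · refine Submodule.mem_sup.2 ⟨(z (φ ⟨y, hy⟩) : P), ⟨φ ⟨y, hy⟩, rfl⟩,
        ((⟨y, hy⟩ - z (φ ⟨y, hy⟩) : d.C) : P),
        ⟨(⟨y, hy⟩ - z (φ ⟨y, hy⟩) : d.C), ?_, rfl⟩, ?_⟩
      · show φ _ = 0
        rw [map_sub, ← LinearMap.comp_apply φ z, hφz, LinearMap.id_apply, sub_self]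
      · simp
  have hdisj : Disjoint F C' := by
    rw [Submodule.disjoint_def]
    rintro _ ⟨v, rfl⟩ ⟨w, hw, hwv⟩
    have : w = z v := Subtype.ext hwv
    rw [SetLike.mem_coe, LinearMap.mem_ker, this, ← LinearMap.comp_apply φ z, hφz,
      LinearMap.id_apply] at hw
    rw [hw, map_zero]
  have hcompl : IsCompl (d.S ⊔ F) C' := by
    constructor
    · exact Disjoint.disjoint_sup_left_of_disjoint_sup_right hdisj (by rw [hFC]; exact d.h.disjoint)
    · rw [codisjoint_iff, sup_assoc, hFC, d.h.sup_eq_top]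
  refine ⟨⟨d.S ⊔ F, C', hcompl⟩, F, Module.Free.of_equiv (LinearEquiv.ofInjective _ hinj), rfl,
    hFC, hdisj, ?_, ?_⟩
  have hxsum : ((d.C.projectionOnto d.S d.h.symm x : d.C) : P) +
      (x - (d.C.projectionOnto d.S d.h.symm x : d.C)) = x := by abel
  show x ∈ d.S ⊔ F
  rw [← hxsum]
  refine add_mem (Submodule.mem_sup_right ⟨φ (d.C.projectionOnto d.S d.h.symm x), ?_⟩) (Submodule.mem_sup_left ?_)
  · rw [LinearMap.comp_apply, hzx]; rfl
  · rw [← Submodule.projectionOnto_apply_eq_zero_iff d.h.symm, map_sub,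
      Submodule.projectionOnto_apply_left, sub_self]
  · exact fun m _ hm => hker m (by
      exact finite_of_surjective' m (Submodule.equivMapOfInjective d.C.subtype d.C.injective_subtype
        (LinearMap.ker φ)).symm.toLinearMap (LinearEquiv.surjective _))

theorem free_of_countable (R : Type u) [CommRing R] [Nontrivial R] [IsNoetherianRing (R ⧸ (⊥ : Ideal R).jacobson)]
    (P : Type u) [AddCommGroup P] [Module R P] [Module.Projective R P] (hP : IsBig R P) (s : Set P)
    (hs : s.Countable) (hspan : Submodule.span R s = ⊤) : Module.Free R P := by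
  classical
  obtain ⟨x, hx⟩ := (hs.insert (0 : P)).exists_eq_range (Set.insert_nonempty _ _)
  choose d' F hfree hS hC hdisj hmem hgood using fun (d : {d : ProjLib.Split R P // IsBig R d.C}) x => split_step R P d.1 d.2 x
  let D' : ℕ → {d : ProjLib.Split R P // IsBig R d.C} := fun n =>
    Nat.rec ⟨⟨⊥, ⊤, isCompl_bot_top⟩, fun m _ hm => hP m (by
      exact finite_of_surjective' m (⊤ : Submodule R P).subtype fun p => ⟨⟨p, trivial⟩, rfl⟩)⟩
      (fun k d => ⟨d' d (x k), hgood d (x k)⟩) n
  let D : ℕ → ProjLib.Split R P := fun n => (D' n).1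
  let G : ℕ → Submodule R P := fun n => F (D' n) (x n)
  have hSn : ∀ n, (D (n + 1)).S = (D n).S ⊔ G n := fun n => (hS (D' n) (x n)).symm
  have hanti : ∀ n m, n ≤ m → (D m).C ≤ (D n).C := by
    intro n m h
    induction m, h using Nat.le_induction with
    | base => exact le_rfl
    | succ m _ ih => exact (le_of_le_of_eq le_sup_right (hC (D' m) (x m))).trans ih
  have hGC : ∀ n, G n ≤ (D n).C := fun n => le_of_le_of_eq le_sup_left (hC (D' n) (x n))
  have hGS : ∀ n m, n < m → G n ≤ (D m).S := by
    intro n m h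
    induction m, h using Nat.le_induction with
    | base => rw [hSn]; exact le_sup_right
    | succ m _ ih => rw [hSn]; exact ih.trans le_sup_left
  have hsup : iSup G = ⊤ := by
    have hSle : ∀ n, (D n).S ≤ iSup G := by
      intro n
      induction n with
      | zero => exact bot_le
      | succ n ih => rw [hSn]; exact sup_le ih (le_iSup G n)
    rw [eq_top_iff, ← hspan, Submodule.span_le]
    intro y hy
    obtain ⟨k, rfl⟩ : y ∈ Set.range x := hx ▸ Set.mem_insert_of_mem _ hy
    exact hSle (k + 1) (hmem (D' k) (x k))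
  have hind : iSupIndep G := by
    intro n
    have hle : (⨆ (m) (_ : m ≠ n), G m) ≤ (D n).S ⊔ (D (n + 1)).C := by
      refine iSup₂_le fun m hm => ?_
      rcases lt_or_gt_of_ne hm with h | h
      · exact (hGS m n h).trans le_sup_left
      · exact ((hGC m).trans (hanti (n + 1) m h)).trans le_sup_right
    refine Disjoint.mono_right hle ?_
    rw [sup_comm]
    refine (hdisj (D' n) (x n)).disjoint_sup_right_of_disjoint_sup_left ?_
    rw [show G n ⊔ (D (n + 1)).C = (D n).C from hC (D' n) (x n)]
    exact (D n).h.disjoint.symm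
  have hint := _root_.DirectSum.isInternal_submodule_of_iSupIndep_of_iSup_eq_top hind hsup
  have : ∀ n, Module.Free R (G n) := fun n => hfree _ _
  exact Module.Free.of_basis (hint.collectedBasis fun n => Module.Free.chooseBasis R (G n))

/-- Commutative case of a result of Bass: let R be a ring whose quotient by its Jacobson radical is
Noetherian and P a countably generated projective R-module such that for every maximal ideal m the
localization P_m is not finitely generated over R_m (P has infinite rank everywhere). Then P is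
free. -/
theorem result (R : Type u) [CommRing R]
    [IsNoetherianRing (R ⧸ (⊥ : Ideal R).jacobson)]
    (P : Type u) [AddCommGroup P] [Module R P] [Module.Projective R P]
    (hP : ∀ (m : Ideal R) [m.IsMaximal],
      ¬ Module.Finite (Localization.AtPrime m) (LocalizedModule m.primeCompl P))
    (hc : CAlg.IsCountablyGenerated R P) : Module.Free R P := by
  obtain ⟨t, ht, htop⟩ := hc
  rcases subsingleton_or_nontrivial R with hR | hR
  · exact Module.Free.of_subsingleton' R P
  · exact free_of_countable R P hP t ht htop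

end Groth.Agent.S7112
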