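import Groth.Statements.S7113
import Mathlib
import Groth.Agent.SerreSplitLib.Cancel

set_option autoImplicit false
universe u
open CAlg

namespace Groth.Agent.S7113

/-- Let R be a ring whose set of maximal ideals, with the Zariski topology, is a Noetherian topological
space of Krull dimension at most d, and let M be an R-module of finite presentation whose
localization M_m at each maximal ideal m contains a free direct summand of rank d + 1. Then M is
isomorphic to R ⊕ M' for some M': there are s in M and a linear form φ on M with φ(s) = 1. (The
published statement takes the dimension equal to d; a space of smaller dimension satisfies the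
hypothesis for a smaller d, so the bound form is equivalent.) -/
theorem result (R : Type u) [CommRing R] (d : ℕ)
    [TopologicalSpace.NoetherianSpace (MaximalSpectrum R)]
    (hdim : topologicalKrullDim (MaximalSpectrum R) ≤ d)
    (M : Type u) [AddCommGroup M] [Module R M] [Module.FinitePresentation R M]
    (hM : ∀ (m : Ideal R) [m.IsMaximal],
      ∃ (f : (Fin (d + 1) → Localization.AtPrime m) →ₗ[Localization.AtPrime m] LocalizedModule m.primeCompl M)
        (g : LocalizedModule m.primeCompl M →ₗ[Localization.AtPrime m] (Fin (d + 1) → Localization.AtPrime m)),
        g ∘ₗ f = LinearMap.id) :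
    ∃ (s : M) (φ : M →ₗ[R] R), φ s = 1 := by
  obtain ⟨t, φ, hφ⟩ := Groth.Agent.SerreSplitLib.exists_unimodular_shift (R := R) (M := M) d hdim
    (fun x => by
      obtain ⟨f, g, h⟩ := hM x.asIdeal
      exact Groth.Agent.SerreSplitLib.exists_indep_of_split x f g h)
    0 1 (fun x hx => absurd ((Ideal.eq_top_iff_one _).2 hx) x.isMaximal.ne_top)
  exact ⟨t, φ, by simpa using hφ⟩

end Groth.Agent.S7113
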