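import Groth.Statements.S7114
import Mathlib.RingTheory.Length
import Mathlib.Tactic.LinearCombination
import Mathlib.Tactic.Ring
import Mathlib.Algebra.Ring.NonZeroDivisors
import Mathlib.LinearAlgebra.Quotient.Basic
import Mathlib.RingTheory.Ideal.Quotient.Operations
-- import your own Groth.Agent.* helpers here

set_option autoImplicit false
universe u
open CAlg

namespace Groth.Agent.S7114

/-- Let R be a Noetherian local ring of Krull dimension one and x an element of the maximal ideal lying
in no minimal prime of R. Then for every n the length of R/xⁿR is at most n times the length of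
R/xR, and equality holds when x is a nonzerodivisor. -/
theorem result (R : Type u) [CommRing R] [IsNoetherianRing R] [IsLocalRing R]
    (hdim : ringKrullDim R = 1) (x : R) (hx : x ∈ IsLocalRing.maximalIdeal R)
    (hmin : ∀ p ∈ minimalPrimes R, x ∉ p) (n : ℕ) :
    Module.length R (R ⧸ Ideal.span {x ^ n}) ≤ (n : ℕ∞) * Module.length R (R ⧸ Ideal.span {x}) ∧
      (x ∈ nonZeroDivisors R →
        Module.length R (R ⧸ Ideal.span {x ^ n}) = (n : ℕ∞) * Module.length R (R ⧸ Ideal.span {x})) := by
  have hs : ∀ m : ℕ, Ideal.span {x ^ m} ≤ Submodule.comap (LinearMap.mulLeft R x) (Ideal.span {x ^ (m + 1)}) := by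
    intro m a ha
    obtain ⟨c, rfl⟩ := Ideal.mem_span_singleton'.mp ha
    exact Ideal.mem_span_singleton'.mpr ⟨c, by show c * x ^ (m + 1) = x * (c * x ^ m); ring⟩
  let μ : ∀ m : ℕ, (R ⧸ Ideal.span {x ^ m}) →ₗ[R] R ⧸ Ideal.span {x ^ (m + 1)} := fun m =>
    Submodule.mapQ _ _ (LinearMap.mulLeft R x) (hs m)
  have hle : ∀ m : ℕ, Ideal.span {x ^ (m + 1)} ≤ Ideal.span {x} := fun m =>
    Ideal.span_singleton_le_span_singleton.mpr ⟨x ^ m, by ring⟩
  have hex : ∀ m, Function.Exact (μ m) (Submodule.factor (hle m)) := by
    intro m z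
    obtain ⟨z, rfl⟩ := Submodule.Quotient.mk_surjective _ z
    show Submodule.Quotient.mk z = 0 ↔ _
    rw [Submodule.Quotient.mk_eq_zero]
    constructor
    · intro hz
      obtain ⟨c, rfl⟩ := Ideal.mem_span_singleton'.mp hz
      exact ⟨Submodule.Quotient.mk c, by show Submodule.Quotient.mk (x * c) = _; rw [mul_comm]⟩
    · rintro ⟨w, hw⟩
      obtain ⟨w, rfl⟩ := Submodule.Quotient.mk_surjective _ w
      obtain ⟨c, hc⟩ := Ideal.mem_span_singleton'.mp ((Submodule.Quotient.eq _).mp (show Submodule.Quotient.mk (x * w) = Submodule.Quotient.mk z from hw))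
      exact Ideal.mem_span_singleton'.mpr ⟨w - c * x ^ m, by linear_combination (norm := ring1) -hc⟩
  have hsur : ∀ m, Function.Surjective (Submodule.factor (hle m)) := fun m => Submodule.factor_surjective (hle m)
  induction n with
  | zero =>
    haveI : Subsingleton (R ⧸ Ideal.span {x ^ 0}) := by
      rw [Submodule.Quotient.subsingleton_iff, pow_zero, Ideal.span_singleton_one]
    simp [Module.length_eq_zero]
  | succ m ih =>
    have e := Module.length_eq_add_of_exact (LinearMap.range (μ m)).subtype (Submodule.factor (hle m))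
      (Submodule.injective_subtype _) (hsur m) (LinearMap.exact_iff.mpr (by
        rw [Submodule.range_subtype]; exact LinearMap.exact_iff.mp (hex m)))
    have h1 : Module.length R (LinearMap.range (μ m)) ≤ Module.length R (R ⧸ Ideal.span {x ^ m}) :=
      Module.length_le_of_surjective _ (μ m).surjective_rangeRestrict
    rw [e]
    push_cast
    rw [add_mul, one_mul]
    refine ⟨add_le_add (h1.trans ih.1) le_rfl, fun hnz => ?_⟩
    have hinj : Function.Injective (μ m) := by
      rw [injective_iff_map_eq_zero]
      intro z hz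
      obtain ⟨z, rfl⟩ := Submodule.Quotient.mk_surjective _ z
      obtain ⟨c, hc⟩ := Ideal.mem_span_singleton'.mp ((Submodule.Quotient.mk_eq_zero _).mp (show Submodule.Quotient.mk (x * z) = 0 from hz))
      rw [Submodule.Quotient.mk_eq_zero, Ideal.mem_span_singleton']
      refine ⟨c, (isRegular_iff_mem_nonZeroDivisors.mpr hnz).left ?_⟩
      show x * (c * x ^ m) = x * z
      rw [← hc]; ring
    rw [← (LinearEquiv.ofInjective (μ m) hinj).length_eq, ih.2 hnz]

end Groth.Agent.S7114
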