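import Groth.Statements.S7115
import Mathlib.RingTheory.Ideal.KrullsHeightTheorem
import Mathlib.RingTheory.KrullDimension.Basic
-- import your own Groth.Agent.* helpers here

set_option autoImplicit false
universe u
open CAlg

namespace Groth.Agent.S7115

/-- Let R be a Noetherian local ring of Krull dimension d > 1 with maximal ideal m, let f be an element
of m contained in no minimal prime, and let k be a natural number. Then there are elements g_1, ...,
g_{d-1} of m lying in m^k such that f, g_1, ..., g_{d-1} form a system of parameters: these d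
elements of m generate an ideal whose radical is m. -/
theorem result (R : Type u) [CommRing R] [IsNoetherianRing R] [IsLocalRing R]
    (d : ℕ) (hd : ringKrullDim R = d) (h1 : 1 < d) (f : R) (hf : f ∈ IsLocalRing.maximalIdeal R)
    (hmin : ∀ p ∈ minimalPrimes R, f ∉ p) (k : ℕ) :
    ∃ g : Fin (d - 1) → R, (∀ i, g i ∈ IsLocalRing.maximalIdeal R ^ k) ∧ (∀ i, g i ∈ IsLocalRing.maximalIdeal R) ∧
      IsLocalRing.maximalIdeal R ≤ (Ideal.span (insert f (Set.range g))).radical := by
  classical
  let π := Ideal.Quotient.mk (Ideal.span ({f} : Set R))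
  have hne : Ideal.span ({f} : Set R) ≠ ⊤ := fun h => hf (Ideal.span_singleton_eq_top.1 h)
  haveI : Nontrivial (R ⧸ Ideal.span ({f} : Set R)) := Ideal.Quotient.nontrivial_iff.2 hne
  haveI : IsLocalRing (R ⧸ Ideal.span ({f} : Set R)) := IsLocalRing.of_surjective' π Ideal.Quotient.mk_surjective
  have hsm : StrictMono (PrimeSpectrum.comap π) :=
    Monotone.strictMono_of_injective (fun a b h => Ideal.comap_mono h) (PrimeSpectrum.comap_injective_of_surjective π Ideal.Quotient.mk_surjective)
  have hlen : ∀ s : LTSeries (PrimeSpectrum (R ⧸ Ideal.span ({f} : Set R))), s.length ≤ d - 1 := fun s => by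
    let s' := s.map _ hsm
    obtain ⟨q, hq, hqle⟩ := Ideal.exists_minimalPrimes_le (I := (⊥ : Ideal R)) (J := s'.head.asIdeal) bot_le
    have hfmem : f ∈ s'.head.asIdeal := by
      show π f ∈ s.head.asIdeal
      rw [show π f = 0 from Ideal.Quotient.eq_zero_iff_mem.2 (Ideal.mem_span_singleton_self f)]
      exact zero_mem _
    haveI := hq.1.1
    have hlt : (⟨q, hq.1.1⟩ : PrimeSpectrum R) < s'.head :=
      show q < s'.head.asIdeal from lt_of_le_of_ne hqle fun e => hmin q hq (e ▸ hfmem)
    have h2 : ((s'.cons _ hlt).length : WithBot ℕ∞) ≤ ringKrullDim R := Order.LTSeries.length_le_krullDim (s'.cons _ hlt)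
    rw [hd, RelSeries.cons_length] at h2
    have h3 : s.length + 1 ≤ d := by exact_mod_cast h2
    omega
  have hdimQ : ringKrullDim (R ⧸ Ideal.span ({f} : Set R)) ≤ ((d - 1 : ℕ) : WithBot ℕ∞) :=
    iSup_le fun s => by exact_mod_cast hlen s
  obtain ⟨S, hS, hScard⟩ := (IsLocalRing.maximalIdeal (R ⧸ Ideal.span ({f} : Set R))).exists_finset_card_eq_height_of_isNoetherianRing
  have hcard : S.card ≤ d - 1 := by
    rw [← IsLocalRing.maximalIdeal_height_eq_ringKrullDim, ← hScard] at hdimQ
    exact Nat.cast_le.1 (WithBot.coe_le_coe.1 hdimQ : (S.card : ℕ∞) ≤ ((d - 1 : ℕ) : ℕ∞))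
  choose lift hlift using Ideal.Quotient.mk_surjective (I := Ideal.span ({f} : Set R))
  let e := S.equivFin
  let g : Fin (d - 1) → R := fun i => if h : (i : ℕ) < S.card then lift (e.symm ⟨i, h⟩ : _) ^ (k + 1) else 0
  have hSm : ∀ x ∈ S, lift x ∈ IsLocalRing.maximalIdeal R := fun x hx hu => by
    have h1 := hS.1.2 (Ideal.subset_span (Finset.mem_coe.2 hx))
    have h2 := hu.map π
    rw [hlift] at h2
    exact h1 h2
  refine ⟨g, fun i => ?_, fun i => ?_, ?_⟩
  · simp only [g]
    split_ifs with h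
    · exact Ideal.pow_le_pow_right k.le_succ (Ideal.pow_mem_pow (hSm _ (e.symm ⟨i, h⟩).2) _)
    · exact zero_mem _
  · simp only [g]
    split_ifs with h
    · exact Ideal.pow_mem_of_mem _ (hSm _ (e.symm ⟨i, h⟩).2) _ (Nat.succ_pos k)
    · exact zero_mem _
  · rw [Ideal.radical_eq_sInf]
    refine le_sInf ?_
    rintro P ⟨hP, hPp⟩
    haveI := hPp
    have hfP : f ∈ P := hP (Ideal.subset_span (Set.mem_insert _ _))
    have hgP : ∀ x ∈ S, lift x ∈ P := fun x hx => by
      refine hPp.mem_of_pow_mem (k + 1) (hP (Ideal.subset_span (Set.mem_insert_of_mem _ ?_)))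
      refine ⟨⟨(e ⟨x, hx⟩ : ℕ), lt_of_lt_of_le (e ⟨x, hx⟩).2 hcard⟩, ?_⟩
      simp [g]
    have hPmap : (P.map π).IsPrime := Ideal.map_isPrime_of_surjective Ideal.Quotient.mk_surjective
      (by rw [Ideal.mk_ker, Ideal.span_le]; simpa using hfP)
    have hle : Ideal.span (S : Set (R ⧸ Ideal.span ({f} : Set R))) ≤ P.map π := Ideal.span_le.2 fun x hx => by
      have hm := Ideal.mem_map_of_mem π (hgP x hx)
      rwa [hlift] at hm
    have hmP : IsLocalRing.maximalIdeal (R ⧸ Ideal.span ({f} : Set R)) ≤ P.map π :=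
      hS.2 ⟨hPmap, hle⟩ (IsLocalRing.le_maximalIdeal hPmap.ne_top)
    intro x hx
    have hπx : π x ∈ IsLocalRing.maximalIdeal (R ⧸ Ideal.span ({f} : Set R)) := fun hu => by
      obtain ⟨y, hy⟩ := isUnit_iff_exists_inv.1 hu
      obtain ⟨y, rfl⟩ := Ideal.Quotient.mk_surjective y
      rw [← map_mul, ← map_one π, Ideal.Quotient.eq] at hy
      have : (1 : R) ∈ IsLocalRing.maximalIdeal R := by
        have h1 := sub_mem (Ideal.mul_mem_right y _ hx) ((Ideal.span_singleton_le_iff_mem _).2 hf hy)
        simpa using h1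
      exact this isUnit_one
    obtain ⟨p, hp, hpe⟩ := (Ideal.mem_map_iff_of_surjective π Ideal.Quotient.mk_surjective).1 (hmP hπx)
    have hd' := Ideal.Quotient.eq.1 hpe
    have hxp : p - x ∈ P := (Ideal.span_singleton_le_iff_mem _).2 hfP hd'
    simpa using sub_mem hp hxp

end Groth.Agent.S7115
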