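import Groth.Statements.S7117
import Mathlib
import Groth.Agent.AssocFormulaLib.Bounds
-- import your own Groth.Agent.* helpers here

set_option autoImplicit false
universe u
open CAlg

namespace Groth.Agent.S7117

/-- Let R be a Noetherian local ring of Krull dimension d with maximal ideal m, and suppose g_1, ...,
g_d in m form a system of parameters (they generate an ideal with radical m). Then the number of
minimal prime ideals p of R with R/p of Krull dimension d is at most the length of R/(g_1, ...,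
g_d). -/
theorem result (R : Type u) [CommRing R] [IsNoetherianRing R] [IsLocalRing R]
    (d : ℕ) (hd : ringKrullDim R = d) (g : Fin d → R) (hg : ∀ i, g i ∈ IsLocalRing.maximalIdeal R)
    (hsop : IsLocalRing.maximalIdeal R ≤ (Ideal.span (Set.range g)).radical) :
    (Set.ncard {p : Ideal R | p ∈ minimalPrimes R ∧ ringKrullDim (R ⧸ p) = d} : ℕ∞) ≤
      Module.length R (R ⧸ Ideal.span (Set.range g)) := by
  classical
  set q := Ideal.span (Set.range g)
  have hm : q ≤ IsLocalRing.maximalIdeal R := Ideal.span_le.2 (Set.range_subset_iff.2 hg)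
  have hI : ∃ N : ℕ, IsLocalRing.maximalIdeal R ^ N ≤ q :=
    Ideal.exists_pow_le_of_le_radical_of_fg hsop (IsNoetherian.noetherian _)
  choose! e he1 he using fun p (hp : p ∈ AssocFormulaLib.topSet R d) => AssocFormulaLib.exists_mult q hm hI d p hp
  have hdim : Module.supportDim R R ≤ d := by rw [Module.supportDim_self_eq_ringKrullDim, hd]
  obtain ⟨hfin, hset, hlim⟩ := AssocFormulaLib.assoc_formula q hm hI d e he R hdim
  have hpos : ∀ p : PrimeSpectrum R, AssocFormulaLib.lenp p R ≠ 0 := by
    intro p h0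
    unfold AssocFormulaLib.lenp at h0
    rw [Module.length_eq_zero_iff, LocalizedModule.subsingleton_iff] at h0
    obtain ⟨s, hs, hs1⟩ := h0 1
    rw [smul_eq_mul, mul_one] at hs1
    exact hs (hs1 ▸ p.asIdeal.zero_mem)
  have htop : (AssocFormulaLib.topSet R d).Finite := hset.subset fun p hp => ⟨hp, hpos p⟩
  have hncard : Set.ncard {p : Ideal R | p ∈ minimalPrimes R ∧ ringKrullDim (R ⧸ p) = d} ≤ htop.toFinset.card := by
    rw [← Set.ncard_coe_finset, Set.Finite.coe_toFinset, ← Set.ncard_image_of_injective _ (f := PrimeSpectrum.asIdeal) (fun a b h => PrimeSpectrum.ext h)]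
    refine Set.ncard_le_ncard (fun p hp => ⟨⟨p, hp.1.1.1⟩, hp.2, rfl⟩) (htop.image _)
  -- lower bound
  have hlow : (htop.toFinset.card : ℝ) ≤ ∑ᶠ p ∈ AssocFormulaLib.topSet R d, ((AssocFormulaLib.lenp p R).toNat : ℝ) * e p := by
    rw [finsum_mem_eq_finite_toFinset_sum _ htop, ← nsmul_one]
    refine Finset.card_nsmul_le_sum _ _ _ fun p hp => ?_
    rw [Set.Finite.mem_toFinset] at hp
    have h1 : (1 : ℝ) ≤ ((AssocFormulaLib.lenp p R).toNat : ℝ) := by
      exact_mod_cast Nat.one_le_iff_ne_zero.2 (fun h => (ENat.toNat_eq_zero.1 h).elim (hpos p) (hfin p hp))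
    exact one_le_mul_of_one_le_of_one_le h1 (he1 p hp)
  -- upper bound
  set ℓ := (Module.length R (R ⧸ q)).toNat
  have hup : ∀ᶠ t : ℕ in Filter.atTop, AssocFormulaLib.L q d R t ≤ (ℓ : ℝ) * (((t : ℝ) + d) / t) ^ d := by
    filter_upwards [Filter.eventually_ge_atTop 1] with t ht
    obtain ⟨n, rfl⟩ := Nat.exists_eq_add_of_le' ht
    have h1 : ((CommAlgDim.chi q R (n + 1) : ℕ) : ℝ) ≤ (ℓ : ℝ) * ((d + 1).multichoose n : ℕ) := by
      exact_mod_cast AssocFormulaLib.chi_le_multichoose g hI n
    have h2 : (((d + 1).multichoose n : ℕ) : ℝ) ≤ (((n + 1 : ℕ) : ℝ) + d) ^ d / (d.factorial : ℝ) := by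
      rw [Nat.multichoose_eq, show d + 1 + n - 1 = d + n by omega, ← Nat.choose_symm_add]
      refine (Nat.choose_le_pow_div d (d + n)).trans ?_
      gcongr
      push_cast
      linarith
    rw [AssocFormulaLib.L, div_pow, ← mul_div_assoc]
    refine div_le_div_of_nonneg_right ?_ (by positivity)
    refine (mul_le_mul_of_nonneg_left (h1.trans (mul_le_mul_of_nonneg_left h2 (Nat.cast_nonneg _))) (Nat.cast_nonneg _)).trans (le_of_eq ?_)
    field_simp
  have hlim2 : Filter.Tendsto (fun t : ℕ => (ℓ : ℝ) * (((t : ℝ) + d) / t) ^ d) Filter.atTop (nhds (ℓ : ℝ)) := by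
    have h0 : Filter.Tendsto (fun t : ℕ => ((t : ℝ) + d) / t) Filter.atTop (nhds 1) := by
      have h3 := (tendsto_const_div_atTop_nhds_zero_nat (d : ℝ)).const_add 1
      rw [add_zero] at h3
      refine h3.congr' ?_
      filter_upwards [Filter.eventually_ge_atTop 1] with t ht
      have : (t : ℝ) ≠ 0 := by exact_mod_cast Nat.one_le_iff_ne_zero.1 ht
      field_simp
    simpa using (h0.pow d).const_mul (ℓ : ℝ)
  have hle := le_of_tendsto_of_tendsto hlim hlim2 hup
  have hfinal : (Set.ncard {p : Ideal R | p ∈ minimalPrimes R ∧ ringKrullDim (R ⧸ p) = d}) ≤ ℓ :=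
    hncard.trans (by exact_mod_cast hlow.trans hle)
  refine le_trans (by exact_mod_cast hfinal) (ENat.natCast_toNat ?_).le
  have := AssocFormulaLib.length_fin q hI R
  rwa [(Submodule.quotEquivOfEq _ _ (by simp : q • (⊤ : Submodule R R) = q)).length_eq] at this

end Groth.Agent.S7117
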