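import Groth.Statements.S7118
import Groth.Agent.ReducedDivTwoLib.Basic
import Mathlib
-- import your own Groth.Agent.* helpers here

set_option autoImplicit false
universe u
open CAlg

namespace Groth.Agent.S7118

/-- Let A be a Noetherian normal local domain of Krull dimension 2 and a a nonzero element of the
maximal ideal. Then there is a nonzero element c of A such that A/cA is reduced and a divides some
power cⁿ. (The published statement does not require c to be nonzero and is then satisfied by c = 0;
this row requires c ≠ 0.) -/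
theorem result (A : Type u) [CommRing A] [IsDomain A] [IsNoetherianRing A]
    [IsLocalRing A] [IsIntegrallyClosed A] (hdim : ringKrullDim A = 2) (a : A)
    (ha : a ∈ IsLocalRing.maximalIdeal A) (ha0 : a ≠ 0) :
    ∃ c : A, c ≠ 0 ∧ IsReduced (A ⧸ Ideal.span {c}) ∧ ∃ n : ℕ, a ∣ c ^ n := by
  have hfin : (Ideal.span {a}).minimalPrimes.Finite := Ideal.finite_minimalPrimes_of_isNoetherianRing A _
  have hs : ∀ p ∈ hfin.toFinset, p.IsPrime ∧ p.height = 1 := by
    intro p hp
    rw [Set.Finite.mem_toFinset] at hp
    haveI := hp.1.1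
    refine ⟨hp.1.1, le_antisymm (Ideal.height_le_one_of_isPrincipal_of_mem_minimalPrimes (Ideal.span {a}) p hp) ?_⟩
    have hne : p ≠ ⊥ := fun h => ha0 (by
      have := hp.1.2 (Ideal.mem_span_singleton_self a)
      rwa [h, Ideal.mem_bot] at this)
    rw [Order.one_le_iff_pos, pos_iff_ne_zero]
    exact fun h => hne (Ideal.height_eq_zero_iff_eq_bot.1 h)
  obtain ⟨c, hc0, hc, hred⟩ := ReducedDivTwoLib.exists_reduced hdim hfin.toFinset hs
  refine ⟨c, hc0, hred, ?_⟩
  have : c ∈ (Ideal.span {a}).radical := by
    rw [← Ideal.sInf_minimalPrimes, Ideal.mem_sInf]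
    exact fun p hp => hc p (hfin.mem_toFinset.2 hp)
  obtain ⟨n, hn⟩ := this
  exact ⟨n, Ideal.mem_span_singleton.1 hn⟩

end Groth.Agent.S7118
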