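import Groth.Statements.S7120
import Mathlib.RingTheory.Bezout
import Mathlib.LinearAlgebra.FreeModule.Basic
import Mathlib.RingTheory.Finiteness.Basic
import Mathlib.LinearAlgebra.Pi
import Mathlib.Algebra.Module.Submodule.EqLocus
import Mathlib.LinearAlgebra.Basis.Fin
import Mathlib.RingTheory.Finiteness.Prod
import Mathlib.LinearAlgebra.Basis.Prod
-- import your own Groth.Agent.* helpers here

set_option autoImplicit false
universe u
open CAlg

namespace Groth.Agent.S7120

/-- Over a Bézout domain, a finitely generated submodule of a free module is itself free of finite rank. -/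
theorem result (R : Type u) [CommRing R] [IsDomain R] [IsBezout R]
    (F : Type u) [AddCommGroup F] [Module R F] [Module.Free R F] (N : Submodule R F) (hN : N.FG) :
    Module.Free R N ∧ Module.Finite R N := by
  classical
  have key : ∀ (n : ℕ) (P : Submodule R (Fin n → R)), P.FG → Module.Free R P := by
    intro n
    induction n with
    | zero => intro P _; haveI : Subsingleton P := ⟨fun a b => Subtype.ext (funext fun i => i.elim0)⟩; infer_instance
    | succ n ih =>
      intro P hP
      let π : P →ₗ[R] R := (LinearMap.proj 0) ∘ₗ P.subtype
      haveI : Module.Finite R P := Module.Finite.iff_fg.mpr hP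
      obtain ⟨a, ha⟩ := (IsBezout.isPrincipal_of_FG (LinearMap.range π) (Module.Finite.iff_fg.mp (Module.Finite.range π))).principal
      -- the kernel embeds into `Fin n → R`
      have kerFree : (LinearMap.ker π).FG → Module.Free R (LinearMap.ker π) := fun hfg => by
        let τ : LinearMap.ker π →ₗ[R] (Fin n → R) :=
          LinearMap.funLeft R R Fin.succ ∘ₗ P.subtype ∘ₗ (LinearMap.ker π).subtype
        have hτ : Function.Injective τ := fun u v h => Subtype.ext (Subtype.ext (funext fun i => by
          refine Fin.cases ?_ (fun j => congrFun h j) i
          exact u.2.trans v.2.symm))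
        haveI : Module.Finite R (LinearMap.ker π) := Module.Finite.iff_fg.mpr hfg
        haveI := ih (LinearMap.range τ) (Module.Finite.iff_fg.mp (Module.Finite.range τ))
        exact Module.Free.of_equiv (LinearEquiv.ofInjective τ hτ).symm
      by_cases ha0 : a = 0
      · have : LinearMap.ker π = ⊤ := by
          rw [LinearMap.ker_eq_top, ← LinearMap.range_eq_bot, ha, ha0, Submodule.span_singleton_eq_bot]
        rw [this] at kerFree
        haveI := kerFree Module.Finite.fg_top
        exact Module.Free.of_equiv Submodule.topEquiv
      · obtain ⟨p, hp⟩ : a ∈ LinearMap.range π := ha ▸ Submodule.mem_span_singleton_self a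
        have hdiv : ∀ x, ∃ c : R, c • a = π x := fun x =>
          Submodule.mem_span_singleton.mp (ha ▸ LinearMap.mem_range_self π x)
        choose c hc using hdiv
        let cl : P →ₗ[R] R :=
          { toFun := c
            map_add' := fun x y => mul_right_cancel₀ ha0 (by
              show c (x + y) • a = (c x + c y) • a
              rw [add_smul, hc, hc, hc, map_add])
            map_smul' := fun r x => mul_right_cancel₀ ha0 (by
              show c (r • x) • a = (r • c x) • a
              rw [smul_assoc, hc, hc, map_smul]) }
        have hcp : cl p = 1 := mul_right_cancel₀ ha0 (by show c p • a = (1 : R) • a; rw [hc, hp, one_smul])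
        let σ : P →ₗ[R] LinearMap.ker π := (LinearMap.id - (LinearMap.toSpanSingleton R P p) ∘ₗ cl).codRestrict _ fun x => by
          rw [LinearMap.mem_ker, LinearMap.sub_apply, map_sub]
          show π x - π (cl x • p) = 0
          rw [map_smul, hp, show cl x • a = π x from hc x, sub_self]
        have hσ : Function.Surjective σ := fun y => ⟨y, Subtype.ext (by
          have : cl (y : P) = 0 := mul_right_cancel₀ ha0 (by show c y • a = (0 : R) • a; rw [hc, zero_smul]; exact y.2)
          show (y : P) - cl (y : P) • p = y
          rw [this, zero_smul, sub_zero])⟩
        haveI : Module.Finite R (LinearMap.ker π) := Module.Finite.of_surjective σ hσ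
        haveI := kerFree (Module.Finite.iff_fg.mp inferInstance)
        let e : P ≃ₗ[R] R × LinearMap.ker π :=
          LinearEquiv.ofLinearMap (cl.prod σ) (LinearMap.coprod (LinearMap.toSpanSingleton R P p) (LinearMap.ker π).subtype)
            (LinearMap.ext fun z => by
              obtain ⟨r, y⟩ := z
              have hy : cl (y : P) = 0 := mul_right_cancel₀ ha0 (by show c y • a = (0 : R) • a; rw [hc, zero_smul]; exact y.2)
              refine Prod.ext ?_ (Subtype.ext ?_)
              · show cl (r • p + (y : P)) = r
                rw [map_add, map_smul, hcp, hy, smul_eq_mul, mul_one, add_zero]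
              · show (r • p + (y : P)) - cl (r • p + (y : P)) • p = (y : P)
                rw [map_add, map_smul, hcp, hy, smul_eq_mul, mul_one, add_zero, add_sub_cancel_left])
            (LinearMap.ext fun x => by
              show cl x • p + (x - cl x • p) = x
              rw [add_sub_cancel])
        exact Module.Free.of_basis (((Module.Basis.singleton (Fin 1) R).prod (Module.Free.chooseBasis R (LinearMap.ker π))).map e.symm)
  haveI : Module.Finite R N := Module.Finite.iff_fg.mpr hN
  refine ⟨?_, inferInstance⟩
  obtain ⟨s, hs⟩ := hN
  let b := Module.Free.chooseBasis R F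
  let T := s.biUnion fun x => (b.repr x).support
  let e := T.equivFin
  let g : F →ₗ[R] (Fin T.card → R) := LinearMap.pi fun i => b.coord (e.symm i : Module.Free.ChooseBasisIndex R F)
  have hsupp : ∀ x ∈ N, (b.repr x).support ⊆ T := by
    intro x hx
    rw [← hs] at hx
    induction hx using Submodule.span_induction with
    | mem y hy => exact Finset.subset_biUnion_of_mem (fun x => (b.repr x).support) hy
    | zero => simp
    | add x y _ _ hx hy => rw [map_add]; exact Finsupp.support_add.trans (Finset.union_subset hx hy)
    | smul r x _ hx => rw [map_smul]; exact Finsupp.support_smul.trans hx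
  have hg : Function.Injective (g ∘ₗ N.subtype) := by
    rw [injective_iff_map_eq_zero]
    intro x hx
    refine Subtype.ext (b.repr.injective (Finsupp.ext fun i => ?_))
    rw [Submodule.coe_zero, map_zero, Finsupp.zero_apply]
    by_cases hi : i ∈ T
    · simpa [g] using congrFun hx (e ⟨i, hi⟩)
    · exact Finsupp.notMem_support_iff.mp fun h => hi (hsupp x x.2 h)
  haveI := key _ (LinearMap.range (g ∘ₗ N.subtype)) (Module.Finite.iff_fg.mp (Module.Finite.range _))
  exact Module.Free.of_equiv (LinearEquiv.ofInjective _ hg).symm

end Groth.Agent.S7120
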