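import Groth.Statements.S7121
import Mathlib
import Groth.Agent.PureProjLib.Basic
import Groth.Agent.S7120
-- import your own Groth.Agent.* helpers here

set_option autoImplicit false
universe u
open CAlg

namespace Groth.Agent.S7121

set_option maxHeartbeats 400000
universe v

lemma local_total {R : Type v} [CommRing R] [IsDomain R] [IsBezout R]
    (m : Ideal R) [m.IsMaximal] (a b : Localization.AtPrime m) : a ∣ b ∨ b ∣ a := by
  obtain ⟨a, s, rfl⟩ := IsLocalization.exists_mk'_eq m.primeCompl a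
  obtain ⟨b, t, rfl⟩ := IsLocalization.exists_mk'_eq m.primeCompl b
  suffices algebraMap R (Localization.AtPrime m) a ∣ algebraMap R _ b ∨
      algebraMap R (Localization.AtPrime m) b ∣ algebraMap R _ a by
    have hu : ∀ (x : R) (u : m.primeCompl),
        Associated (IsLocalization.mk' (Localization.AtPrime m) x u) (algebraMap R _ x) := fun x u =>
      ⟨(IsLocalization.map_units _ u).unit, IsLocalization.mk'_spec _ x u⟩
    rwa [(hu a s).dvd_iff_dvd_left, (hu b t).dvd_iff_dvd_right, (hu b t).dvd_iff_dvd_left,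
      (hu a s).dvd_iff_dvd_right]
  obtain ⟨g, hg⟩ := (IsBezout.span_pair_isPrincipal a b).principal
  rw [Ideal.submodule_span_eq] at hg
  obtain ⟨a', ha⟩ := Ideal.mem_span_singleton.mp (hg ▸ Ideal.subset_span (show a ∈ ({a, b} : Set R) by simp))
  obtain ⟨b', hb⟩ := Ideal.mem_span_singleton.mp (hg ▸ Ideal.subset_span (show b ∈ ({a, b} : Set R) by simp))
  obtain ⟨x, y, hxy⟩ := Ideal.mem_span_pair.mp (hg.symm ▸ Ideal.mem_span_singleton_self g)
  rcases eq_or_ne g 0 with rfl | hg0
  · left; simp [ha, hb]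
  have h1 : x * a' + y * b' = 1 := by
    refine mul_left_cancel₀ hg0 ?_
    rw [ha, hb] at hxy
    linear_combination hxy
  by_cases h : a' ∈ m
  · right
    have hb' : b' ∈ m.primeCompl := fun hb' => (Ideal.IsMaximal.ne_top ‹_›) ((Ideal.eq_top_iff_one m).mpr
      (h1 ▸ m.add_mem (m.mul_mem_left x h) (m.mul_mem_left y hb')))
    have hu := IsLocalization.map_units (Localization.AtPrime m) ⟨b', hb'⟩
    rw [ha, hb, map_mul, map_mul]
    exact (hu.mul_right_dvd.mpr dvd_rfl).trans (dvd_mul_right _ _)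
  · left
    have hu := IsLocalization.map_units (Localization.AtPrime m) (⟨a', h⟩ : m.primeCompl)
    rw [ha, hb, map_mul, map_mul]
    exact (hu.mul_right_dvd.mpr dvd_rfl).trans (dvd_mul_right _ _)


/-- Over a Bézout domain R, a finitely presented module M splits as R^r ⊕ M_tors for some r, and its
torsion part M_tors is a retract (direct summand) of R/f_1R ⊕ … ⊕ R/f_nR for some nonzero f_1, …,
f_n. -/
theorem result (R : Type u) [CommRing R] [IsDomain R] [IsBezout R]
    (M : Type u) [AddCommGroup M] [Module R M] [Module.FinitePresentation R M] :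
    (∃ r : ℕ, Nonempty (M ≃ₗ[R] ((Fin r → R) × Submodule.torsion R M))) ∧
      ∃ (n : ℕ) (f : Fin n → R), (∀ j, f j ≠ 0) ∧
        ∃ (i : Submodule.torsion R M →ₗ[R] ((j : Fin n) → R ⧸ Ideal.span {f j}))
          (p : ((j : Fin n) → R ⧸ Ideal.span {f j}) →ₗ[R] Submodule.torsion R M),
          p ∘ₗ i = LinearMap.id := by
  classical
  obtain ⟨l, f, ψ, φ, hφ⟩ := PureProjLib.exists_factor (R := R) (fun m _ => local_total (R := R) m) M
  have hfx : ∀ x, φ (ψ x) = x := LinearMap.congr_fun hφ
  let S0 := {k // f k = 0}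
  let ρ : M →ₗ[R] (S0 → R) := LinearMap.pi fun k =>
    (Submodule.quotEquivOfEqBot _ (by rw [k.2, Ideal.span_singleton_eq_bot])).toLinearMap ∘ₗ
      LinearMap.proj k.1 ∘ₗ ψ
  have hρ0 : ∀ x, ρ x = 0 → ∀ k, f k = 0 → ψ x k = 0 := by
    intro x hx k hk
    have hbot : Ideal.span {f k} = ⊥ := by rw [hk, Ideal.span_singleton_eq_bot]
    exact (Submodule.quotEquivOfEqBot _ hbot).injective ((congrFun hx ⟨k, hk⟩).trans (map_zero _).symm)
  have hker : LinearMap.ker ρ = Submodule.torsion R M := by
    apply le_antisymm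
    · intro x hx
      let P : R := ∏ k, if f k = 0 then 1 else f k
      have hP : P ≠ 0 := Finset.prod_ne_zero_iff.mpr fun k _ => by split_ifs with hk; exacts [one_ne_zero, hk]
      refine ⟨⟨P, mem_nonZeroDivisors_of_ne_zero hP⟩, ?_⟩
      show P • x = 0
      have h0 : ψ (P • x) = 0 := funext fun k => by
        rw [map_smul, Pi.smul_apply, Pi.zero_apply]
        by_cases hk : f k = 0
        · rw [hρ0 x hx k hk, smul_zero]
        · obtain ⟨c, hc⟩ := Submodule.Quotient.mk_surjective _ (ψ x k)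
          rw [← hc, ← Submodule.Quotient.mk_smul, Submodule.Quotient.mk_eq_zero, smul_eq_mul]
          have hd := Finset.dvd_prod_of_mem (fun j => if f j = 0 then 1 else f j) (Finset.mem_univ k)
          simp only [if_neg hk] at hd
          exact Ideal.mul_mem_right _ _ (Ideal.mem_span_singleton.mpr hd)
      rw [← hfx (P • x), h0, map_zero]
    · rintro x ⟨a, ha⟩
      refine funext fun k => ?_
      have h2 : (a : R) * ρ x k = 0 := by
        rw [← smul_eq_mul, ← Pi.smul_apply, ← map_smul]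
        show ρ ((a : R) • x) k = 0
        rw [show (a : R) • x = 0 from ha, map_zero, Pi.zero_apply]
      exact (mul_eq_zero.mp h2).resolve_left (nonZeroDivisors.ne_zero a.2)
  constructor
  · obtain ⟨hfree, hfin⟩ := Groth.Agent.S7120.result R (S0 → R) (LinearMap.range ρ)
      (Module.Finite.iff_fg.mp (Module.Finite.range ρ))
    obtain ⟨r, b⟩ : ∃ r : ℕ, Nonempty (Module.Basis (Fin r) R (LinearMap.range ρ)) :=
      ⟨_, ⟨Module.finBasis R _⟩⟩
    obtain ⟨b⟩ := b
    let e0 := b.equivFun
    obtain ⟨σ, hσ⟩ := ρ.rangeRestrict.exists_rightInverse_of_surjective ρ.range_rangeRestrict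
    have hσ' : ∀ y, ρ.rangeRestrict (σ y) = y := LinearMap.congr_fun hσ
    have hk : LinearMap.ker ρ.rangeRestrict = Submodule.torsion R M := by
      rw [LinearMap.ker_rangeRestrict, hker]
    have hmem : ∀ z, z - σ (ρ.rangeRestrict z) ∈ Submodule.torsion R M := fun z => by
      rw [← hk, LinearMap.mem_ker, map_sub, hσ', sub_self]
    let back : ((Fin r → R) × Submodule.torsion R M) →ₗ[R] M :=
      (σ ∘ₗ e0.symm.toLinearMap).coprod (Submodule.torsion R M).subtype
    refine ⟨r, ⟨(LinearEquiv.ofBijective back ⟨?_, ?_⟩).symm⟩⟩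
    · refine (injective_iff_map_eq_zero _).mpr ?_
      rintro ⟨u, ⟨t, ht⟩⟩ h
      have h1 : σ (e0.symm u) + t = 0 := h
      have h2 := congrArg ρ.rangeRestrict h1
      have ht0 : ρ.rangeRestrict t = 0 := by rwa [← LinearMap.mem_ker, hk]
      rw [map_add, map_zero, hσ', ht0, add_zero, LinearEquiv.map_eq_zero_iff] at h2
      subst h2
      rw [map_zero, map_zero, zero_add] at h1
      exact Prod.ext rfl (Subtype.ext h1)
    · intro z
      refine ⟨(e0 (ρ.rangeRestrict z), ⟨_, hmem z⟩), ?_⟩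
      show σ (e0.symm (e0 _)) + (z - σ (ρ.rangeRestrict z)) = z
      rw [LinearEquiv.symm_apply_apply, add_sub_cancel]
  · let g : Fin l → R := fun k => if f k = 0 then 1 else f k
    have hg : ∀ k, g k ≠ 0 := fun k => by
      simp only [g]; split_ifs with hk; exacts [one_ne_zero, hk]
    have hsub : ∀ k, Ideal.span {f k} ≤ Ideal.span {g k} := fun k => by
      rw [Ideal.span_singleton_le_span_singleton]
      simp only [g]; split_ifs with hk; exacts [one_dvd _, dvd_rfl]
    let P : ∀ k, (R ⧸ Ideal.span {f k}) →ₗ[R] R ⧸ Ideal.span {g k} := fun k =>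
      Submodule.factor (hsub k)
    let Qk : ∀ k, (R ⧸ Ideal.span {g k}) →ₗ[R] R ⧸ Ideal.span {f k} := fun k =>
      if hk : f k = 0 then 0 else Submodule.factor (show Ideal.span {g k} ≤ Ideal.span {f k} by simp [g, hk])
    let tor : (∀ k, R ⧸ Ideal.span {g k}) →ₗ[R] M := φ ∘ₗ LinearMap.pi fun k => Qk k ∘ₗ LinearMap.proj k
    have htor : ∀ u, tor u ∈ Submodule.torsion R M := fun u => by
      refine ⟨⟨∏ k, g k, mem_nonZeroDivisors_of_ne_zero (Finset.prod_ne_zero_iff.mpr fun k _ => hg k)⟩, ?_⟩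
      show (∏ k, g k) • tor u = 0
      rw [← map_smul, show (∏ k, g k) • u = 0 from funext fun k => ?_, map_zero]
      obtain ⟨c, hc⟩ := Submodule.Quotient.mk_surjective _ (u k)
      rw [Pi.smul_apply, Pi.zero_apply, ← hc, ← Submodule.Quotient.mk_smul, Submodule.Quotient.mk_eq_zero,
        smul_eq_mul]
      exact Ideal.mul_mem_right _ _ (Ideal.mem_span_singleton.mpr (Finset.dvd_prod_of_mem g (Finset.mem_univ k)))
    refine ⟨l, g, hg, (LinearMap.pi fun k => P k ∘ₗ LinearMap.proj k ∘ₗ ψ) ∘ₗ (Submodule.torsion R M).subtype,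
      tor.codRestrict _ htor, ?_⟩
    refine LinearMap.ext fun t => Subtype.ext ?_
    show φ (fun k => Qk k (P k (ψ t.1 k))) = t.1
    conv_rhs => rw [← hfx t.1]
    congr 1
    funext k
    obtain ⟨c, hc⟩ := Submodule.Quotient.mk_surjective _ (ψ t.1 k)
    by_cases hk : f k = 0
    · have hx : t.1 ∈ LinearMap.ker ρ := by rw [hker]; exact t.2
      rw [hρ0 _ hx k hk, map_zero, map_zero]
    · simp only [Qk, dif_neg hk, ← hc]
      rfl

end Groth.Agent.S7121
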