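import Groth.Statements.S7122
import Groth.Agent.S7120
import Mathlib.LinearAlgebra.Matrix.Basis
import Mathlib.LinearAlgebra.Dimension.Constructions
import Mathlib.LinearAlgebra.Dimension.Free
import Mathlib.LinearAlgebra.Basis.Fin
import Mathlib.LinearAlgebra.FreeModule.StrongRankCondition
import Mathlib.LinearAlgebra.Matrix.NonsingularInverse
-- import your own Groth.Agent.* helpers here

set_option autoImplicit false
universe u
open CAlg

namespace Groth.Agent.S7122

/-- Let R be a Bézout domain, n ≥ 1, and f_1, ..., f_n elements generating the unit ideal. Then some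
invertible n × n matrix over R has (f_1, ..., f_n) as its first row. -/
theorem result (R : Type u) [CommRing R] [IsDomain R] [IsBezout R]
    (n : ℕ) (f : Fin (n + 1) → R) (hf : Ideal.span (Set.range f) = ⊤) :
    ∃ A : Matrix (Fin (n + 1)) (Fin (n + 1)) R, IsUnit A.det ∧ A 0 = f := by
  classical
  obtain ⟨a, ha⟩ := Ideal.mem_span_range_iff_exists_fun.mp ((Ideal.eq_top_iff_one _).mp hf)
  let φ : (Fin (n + 1) → R) →ₗ[R] R := ∑ i, a i • LinearMap.proj i
  have hφ : φ f = 1 := by simp [φ, LinearMap.sum_apply, ha]
  let K := LinearMap.ker φ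
  let σ : (Fin (n + 1) → R) →ₗ[R] K := (LinearMap.id - (LinearMap.toSpanSingleton R _ f) ∘ₗ φ).codRestrict _ fun v => by
    rw [LinearMap.mem_ker]
    show φ (v - φ v • f) = 0
    rw [map_sub, map_smul, hφ, smul_eq_mul, mul_one, sub_self]
  have hσ : Function.Surjective σ := fun v => ⟨v, Subtype.ext (by
    show (v : Fin (n + 1) → R) - φ v • f = v
    rw [show φ (v : Fin (n + 1) → R) = 0 from v.2, zero_smul, sub_zero])⟩
  haveI : Module.Finite R K := Module.Finite.of_surjective σ hσ
  haveI : Module.Free R K := (Groth.Agent.S7120.result R (Fin (n + 1) → R) K (Module.Finite.iff_fg.mp inferInstance)).1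
  let bK := Module.finBasis R K
  let b := Module.Basis.mkFinCons (N := K) f bK
    (fun c x hx h => by
      have := congrArg φ h
      rw [map_add, map_smul, hφ, show φ x = 0 from hx, add_zero, smul_eq_mul, mul_one, map_zero] at this
      exact this)
    (fun z => ⟨-φ z, by
      show φ (z + (-φ z) • f) = 0
      rw [map_add, map_smul, hφ, smul_eq_mul, mul_one, add_neg_cancel]⟩)
  have hn : Module.finrank R K + 1 = n + 1 := by
    have h1 := Module.finrank_eq_card_basis b
    rw [Module.finrank_pi, Fintype.card_fin, Fintype.card_fin] at h1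
    exact h1.symm
  let b' := b.reindex (finCongr hn)
  refine ⟨(Pi.basisFun R (Fin (n + 1))).toMatrix b' |>.transpose, ?_, ?_⟩
  · rw [Matrix.det_transpose]
    haveI := (Pi.basisFun R (Fin (n + 1))).invertibleToMatrix b'
    exact Matrix.isUnit_det_of_invertible _
  · funext j
    show (Pi.basisFun R (Fin (n + 1))).repr (b' 0) j = f j
    rw [Pi.basisFun_repr]
    simp [b', b, Module.Basis.coe_mkFinCons, finCongr]

end Groth.Agent.S7122
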