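import Groth.Statements.S7123
import Mathlib.Algebra.DirectSum.Module
import Mathlib.LinearAlgebra.Quotient.Basic
import Mathlib.RingTheory.Ideal.Span
-- import your own Groth.Agent.* helpers here

set_option autoImplicit false
universe u
open CAlg

namespace Groth.Agent.S7123

open DirectSum in
/-- For a module P over a ring R these two conditions are equivalent: (1) P is a retract (direct
summand) of a direct sum of cyclic modules R/fR, f ranging over R; (2) for every surjection of
R-modules π : B → C whose kernel A satisfies fA = A ∩ fB for every f in R, each linear map P → C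
lifts through π. -/
theorem result (R : Type u) [CommRing R] (P : Type u)
    [AddCommGroup P] [Module R P] :
    (∃ (ι : Type u) (f : ι → R) (i : P →ₗ[R] (⨁ j, R ⧸ Ideal.span {f j}))
        (p : (⨁ j, R ⧸ Ideal.span {f j}) →ₗ[R] P), p ∘ₗ i = LinearMap.id) ↔
      ∀ (B C : Type u) [AddCommGroup B] [Module R B] [AddCommGroup C] [Module R C] (π : B →ₗ[R] C),
        Function.Surjective π →
        (∀ (f : R) (b : B), π (f • b) = 0 → ∃ a : B, π a = 0 ∧ f • a = f • b) →
        ∀ ψ : P →ₗ[R] C, ∃ φ : P →ₗ[R] B, π ∘ₗ φ = ψ := by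
  classical
  constructor
  · rintro ⟨ι, f, i, p, hip⟩ B C _ _ _ _ π hπ hrd ψ
    have hlift : ∀ j, ∃ b : B, f j • b = 0 ∧
        π b = ψ (p (DirectSum.lof R ι (fun j => R ⧸ Ideal.span {f j}) j (Ideal.Quotient.mk _ 1))) := fun j => by
      obtain ⟨b, hb⟩ := hπ (ψ (p (DirectSum.lof R ι (fun j => R ⧸ Ideal.span {f j}) j (Ideal.Quotient.mk _ 1))))
      have hz : f j • (Ideal.Quotient.mk (Ideal.span {f j}) (1 : R)) = 0 := by
        rw [← Ideal.Quotient.mk_eq_mk, ← Submodule.Quotient.mk_smul, Submodule.Quotient.mk_eq_zero, smul_eq_mul, mul_one]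
        exact Ideal.mem_span_singleton_self _
      obtain ⟨a, ha, hfa⟩ := hrd (f j) b (by
        rw [map_smul, hb, ← map_smul ψ, ← map_smul p, ← map_smul, hz, map_zero, map_zero, map_zero])
      exact ⟨b - a, by rw [smul_sub, hfa, sub_self], by rw [map_sub, ha, sub_zero, hb]⟩
    choose b hb hbπ using hlift
    let Φ : (⨁ j, R ⧸ Ideal.span {f j}) →ₗ[R] B := DirectSum.toModule R ι B fun j =>
      Submodule.liftQ (Ideal.span {f j}) (LinearMap.toSpanSingleton R B (b j)) fun x hx => by
        obtain ⟨c, rfl⟩ := Ideal.mem_span_singleton'.1 hx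
        rw [LinearMap.mem_ker, LinearMap.toSpanSingleton_apply, mul_smul, hb, smul_zero]
    have hΦ : π ∘ₗ Φ = ψ ∘ₗ p := by
      refine DirectSum.linearMap_ext R fun j => ?_
      refine Submodule.linearMap_qext _ (LinearMap.ext_ring ?_)
      show π (Φ (DirectSum.lof R ι _ j (Ideal.Quotient.mk _ 1))) = ψ (p (DirectSum.lof R ι _ j (Ideal.Quotient.mk _ 1)))
      rw [DirectSum.toModule_lof]
      show π ((1 : R) • b j) = _
      rw [one_smul, hbπ]
    exact ⟨Φ ∘ₗ i, by rw [← LinearMap.comp_assoc, hΦ, LinearMap.comp_assoc, hip, LinearMap.comp_id]⟩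
  · intro H
    let ι := {q : R × P // q.1 • q.2 = 0}
    let f : ι → R := fun q => q.1.1
    let p : (⨁ j, R ⧸ Ideal.span {f j}) →ₗ[R] P := DirectSum.toModule R ι P fun j =>
      Submodule.liftQ (Ideal.span {f j}) (LinearMap.toSpanSingleton R P j.1.2) fun x hx => by
        obtain ⟨c, rfl⟩ := Ideal.mem_span_singleton'.1 hx
        rw [LinearMap.mem_ker, LinearMap.toSpanSingleton_apply, mul_smul, j.2, smul_zero]
    have hgen : ∀ j : ι, p (DirectSum.lof R ι _ j (Ideal.Quotient.mk _ 1)) = j.1.2 := fun j => by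
      rw [DirectSum.toModule_lof]
      exact one_smul R _
    obtain ⟨i, hi⟩ := H _ P p (fun x => ⟨_, hgen ⟨(0, x), zero_smul R x⟩⟩) (fun g b hb => by
      let j : ι := ⟨(g, p b), by rw [← map_smul]; exact hb⟩
      refine ⟨b - DirectSum.lof R ι _ j (Ideal.Quotient.mk _ 1), by rw [map_sub, hgen]; exact sub_self _, ?_⟩
      rw [smul_sub, ← map_smul, show g • (Ideal.Quotient.mk (Ideal.span {f j}) (1 : R)) = 0 by
        rw [← Ideal.Quotient.mk_eq_mk, ← Submodule.Quotient.mk_smul, Submodule.Quotient.mk_eq_zero, smul_eq_mul, mul_one]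
        exact Ideal.mem_span_singleton_self _, map_zero, sub_zero]) LinearMap.id
    exact ⟨ι, f, i, p, hi⟩

end Groth.Agent.S7123
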