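import Groth.Statements.S7124
import Mathlib
-- import your own Groth.Agent.* helpers here

set_option autoImplicit false
universe u
open CAlg

namespace Groth.Agent.S7124

set_option maxHeartbeats 400000
universe v w

open IsLocalRing

variable {A B K L : Type v} [CommRing A] [IsDomain A] [ValuationRing A] [CommRing B] [IsDomain B]
  [ValuationRing B] [Field K] [Field L] [Algebra A K] [IsFractionRing A K] [Algebra B L] [IsFractionRing B L]
  [Algebra A B] [Algebra K L] [Algebra A L] [IsScalarTower A K L] [IsScalarTower A B L]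
  [IsLocalHom (algebraMap A B)]

lemma val_eq_one_of_isUnit {b : B} (h : IsUnit b) : ValuationRing.valuation B L (algebraMap B L b) = 1 := by
  obtain ⟨u, rfl⟩ := h
  set v := ValuationRing.valuation B L
  have h1 : v (algebraMap B L u) ≤ 1 := (ValuationRing.mem_integer_iff B L _).mpr ⟨_, rfl⟩
  have h2 : v (algebraMap B L ↑u⁻¹) ≤ 1 := (ValuationRing.mem_integer_iff B L _).mpr ⟨_, rfl⟩
  refine le_antisymm h1 ?_
  calc (1 : ValuationRing.ValueGroup B L) = v (algebraMap B L u) * v (algebraMap B L ↑u⁻¹) := by
        rw [← map_mul, ← map_mul, Units.mul_inv, map_one, map_one]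
    _ ≤ v (algebraMap B L u) * 1 := by gcongr
    _ = v (algebraMap B L u) := mul_one _

lemma exists_inner {κ : Type w} [Fintype κ] (t : κ → B)
    (ht : LinearIndependent (ResidueField A) fun b => residue B (t b))
    (c : κ → K) (hc : c ≠ 0) :
    ∃ (k : Kˣ) (u : B), IsUnit u ∧
      ∑ b, algebraMap K L (c b) * algebraMap B L (t b) = algebraMap K L k * algebraMap B L u := by
  classical
  obtain ⟨b1, hb1⟩ := Function.ne_iff.mp hc
  obtain ⟨b0, -, hmax⟩ := Finset.univ.exists_max_image (fun b => ValuationRing.valuation A K (c b)) ⟨b1, Finset.mem_univ _⟩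
  have hb0 : c b0 ≠ 0 := fun h => hb1 (by
    have := hmax b1 (Finset.mem_univ _)
    rw [h, map_zero] at this
    exact (Valuation.zero_iff _).mp (le_antisymm this zero_le))
  have hint : ∀ b, ∃ a : A, algebraMap A K a = c b / c b0 := fun b => by
    refine (ValuationRing.mem_integer_iff A K _).mp ?_
    rw [Valuation.mem_integer_iff, map_div₀]
    exact (div_le_one₀ ((Valuation.pos_iff _).mpr hb0)).mpr (hmax b (Finset.mem_univ _))
  choose a ha using hint
  let u : B := ∑ b, algebraMap A B (a b) * t b
  refine ⟨Units.mk0 (c b0) hb0, u, ?_, ?_⟩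
  · rw [← residue_ne_zero_iff_isUnit]
    intro h0
    have h1 : ∑ b, residue A (a b) • residue B (t b) = 0 := by
      rw [← h0, map_sum]
      exact Finset.sum_congr rfl fun b _ => by
        rw [map_mul, Algebra.smul_def]; rfl
    have h2 := Fintype.linearIndependent_iff.mp ht _ h1 b0
    have h3 : a b0 = 1 := IsFractionRing.injective A K (by rw [ha, div_self hb0, map_one])
    rw [h3, map_one] at h2
    exact one_ne_zero h2
  · simp only [u, map_sum, map_mul, Finset.mul_sum, Units.val_mk0]
    refine Finset.sum_congr rfl fun b _ => ?_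
    rw [← IsScalarTower.algebraMap_apply A B L, IsScalarTower.algebraMap_apply A K L, ha, ← mul_assoc,
      ← map_mul, mul_div_cancel₀ _ hb0]

lemma linearIndependent_prod {κ : Type w} [Fintype κ] (t : κ → B)
    (ht : LinearIndependent (ResidueField A) fun b => residue B (t b))
    {ι : Type w} [Fintype ι] (x : ι → Lˣ)
    (hx : ∀ i j (k : Kˣ) (u : Bˣ),
      (x i : L) = algebraMap K L k * algebraMap B L u * x j → i = j) :
    LinearIndependent K fun p : ι × κ => (x p.1 : L) * algebraMap B L (t p.2) := by
  classical
  rw [Fintype.linearIndependent_iff]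
  intro c hc
  by_contra hne
  push Not at hne
  obtain ⟨⟨i1, b1⟩, h1⟩ := hne
  let s : ι → L := fun i => ∑ b, algebraMap K L (c (i, b)) * algebraMap B L (t b)
  let T : ι → L := fun i => (x i : L) * s i
  have hsum : ∑ i, T i = 0 := by
    rw [← hc, Fintype.sum_prod_type]
    refine Finset.sum_congr rfl fun i _ => ?_
    simp only [T, s, Finset.mul_sum, Algebra.smul_def]
    exact Finset.sum_congr rfl fun b _ => by ring
  set v := ValuationRing.valuation B L
  have hT : ∀ i, (fun b => c (i, b)) ≠ 0 → ∃ (k : Kˣ) (u : Bˣ), T i = algebraMap K L k * algebraMap B L u * x i := by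
    intro i hi
    obtain ⟨k, u, hu, heq⟩ := exists_inner t ht (fun b => c (i, b)) hi (L := L)
    exact ⟨k, hu.unit, by rw [IsUnit.unit_spec]; show (x i : L) * s i = _; rw [show s i = _ from heq]; ring⟩
  obtain ⟨k1, u1, hT1⟩ := hT i1 (Function.ne_iff.mpr ⟨b1, h1⟩)
  have hT1' : T i1 ≠ 0 := by
    rw [hT1]
    exact mul_ne_zero (mul_ne_zero (by simp) ((map_ne_zero_iff _ (IsFractionRing.injective B L)).mpr u1.ne_zero)) (x i1).ne_zero
  obtain ⟨i0, -, hmax⟩ := Finset.univ.exists_max_image (fun i => v (T i)) ⟨i1, Finset.mem_univ _⟩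
  have h0 : T i0 ≠ 0 := fun h => hT1' ((Valuation.zero_iff v).mp
    (le_antisymm ((hmax i1 (Finset.mem_univ _)).trans (by rw [h, map_zero])) zero_le))
  have hlt : v (∑ i ∈ Finset.univ.erase i0, T i) < v (T i0) := by
    refine Valuation.map_sum_lt v ((Valuation.ne_zero_iff v).mpr h0) fun i hi => ?_
    refine lt_of_le_of_ne (hmax i (Finset.mem_univ _)) fun heq => (Finset.mem_erase.mp hi).1 ?_
    have hi0 : T i ≠ 0 := fun h => h0 ((Valuation.zero_iff v).mp (by rw [← heq, h, map_zero]))
    obtain ⟨k, u, hk⟩ := hT i (fun h => hi0 (by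
      show (x i : L) * s i = 0
      have : s i = 0 := Finset.sum_eq_zero fun b _ => by rw [show c (i, b) = 0 from congrFun h b, map_zero, zero_mul]
      rw [this, mul_zero]))
    obtain ⟨k', u', hk'⟩ := hT i0 (fun h => h0 (by
      show (x i0 : L) * s i0 = 0
      have : s i0 = 0 := Finset.sum_eq_zero fun b _ => by rw [show c (i0, b) = 0 from congrFun h b, map_zero, zero_mul]
      rw [this, mul_zero]))
    have hv : v (T i / T i0) = 1 := by
      rw [map_div₀, heq, div_self ((Valuation.ne_zero_iff v).mpr h0)]
    obtain ⟨b, hb⟩ := (ValuationRing.mem_integer_iff B L _).mp hv.le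
    have hbu : IsUnit b := by
      by_contra hnb
      have hb0 : b ≠ 0 := fun h => by rw [← hb, h, map_zero, map_zero] at hv; exact zero_ne_one hv
      obtain ⟨b', hb'⟩ := (ValuationRing.mem_integer_iff B L ((algebraMap B L b)⁻¹)).mp (by
        rw [Valuation.mem_integer_iff, map_inv₀, hb, hv, inv_one])
      refine hnb (IsUnit.of_mul_eq_one b' (IsFractionRing.injective B L ?_))
      rw [map_mul, hb', map_one, mul_inv_cancel₀ ((map_ne_zero_iff _ (IsFractionRing.injective B L)).mpr hb0)]
    refine hx i i0 (k⁻¹ * k') (hbu.unit * u' * u⁻¹) ?_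
    have e1 : T i = algebraMap B L b * T i0 := by rw [hb, div_mul_cancel₀ _ h0]
    rw [hk, hk'] at e1
    have hu0 : algebraMap B L (u : B) ≠ 0 := (map_ne_zero_iff _ (IsFractionRing.injective B L)).mpr u.ne_zero
    have hk0 : algebraMap K L (k : K) ≠ 0 := by simp
    have hui : algebraMap B L (↑u⁻¹ : B) = (algebraMap B L (u : B))⁻¹ :=
      eq_inv_of_mul_eq_one_left (by rw [← map_mul, Units.inv_mul, map_one])
    simp only [Units.val_mul, IsUnit.unit_spec, map_mul, hui, Units.val_inv_eq_inv_val, map_inv₀]
    field_simp
    linear_combination e1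
  have hneg : ∑ i ∈ Finset.univ.erase i0, T i = -T i0 := by
    rw [eq_neg_iff_add_eq_zero, Finset.sum_erase_add _ _ (Finset.mem_univ i0), hsum]
  rw [hneg, Valuation.map_neg] at hlt
  exact lt_irrefl _ hlt


/-- Let A ⊆ B be an extension of valuation rings (both valuation domains, the inclusion injective and
local) with fraction fields K ⊆ L such that L/K is finite. Then the residue field of B is finite
over that of A, the value group of A has finite index in the value group of B, and (index of value
groups) · (residue degree) ≤ [L : K]. Here the value group of B is written as Lˣ modulo the units of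
B, and that of A as the image of Kˣ in it. -/
theorem result (A B K L : Type u) [CommRing A] [IsDomain A]
    [ValuationRing A] [CommRing B] [IsDomain B] [ValuationRing B] [Field K] [Field L]
    [Algebra A K] [IsFractionRing A K] [Algebra B L] [IsFractionRing B L] [Algebra A B] [Algebra K L]
    [Algebra A L] [IsScalarTower A K L] [IsScalarTower A B L] (hinj : Function.Injective (algebraMap A B))
    [IsLocalHom (algebraMap A B)] [FiniteDimensional K L] :
    let UB : Subgroup Lˣ := (Units.map (algebraMap B L).toMonoidHom).range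
    let ΓA : Subgroup (Lˣ ⧸ UB) := ((QuotientGroup.mk' UB).comp (Units.map (algebraMap K L).toMonoidHom)).range
    Module.Finite (IsLocalRing.ResidueField A) (IsLocalRing.ResidueField B) ∧ ΓA.index ≠ 0 ∧
      ΓA.index * Module.finrank (IsLocalRing.ResidueField A) (IsLocalRing.ResidueField B) ≤
        Module.finrank K L := by
  classical
  intro UB ΓA
  haveI : ΓA.Normal := ⟨fun n hn g => by rwa [mul_comm g n, mul_inv_cancel_right]⟩
  have key : ∀ (S : Finset ((Lˣ ⧸ UB) ⧸ ΓA)) (T : Finset (IsLocalRing.ResidueField B)),
      LinearIndependent (IsLocalRing.ResidueField A) (fun r : T => (r : IsLocalRing.ResidueField B)) →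
      S.card * T.card ≤ Module.finrank K L := by
    intro S T hT
    choose x hx using fun s : S => QuotientGroup.mk_surjective (s : (Lˣ ⧸ UB) ⧸ ΓA)
    choose y hy using fun s : S => QuotientGroup.mk_surjective (x s)
    choose t ht using fun r : T => IsLocalRing.residue_surjective (r : IsLocalRing.ResidueField B)
    have hli := linearIndependent_prod (A := A) (B := B) (K := K) (L := L) t (by simpa only [ht] using hT) y
      (fun i j k u h => by
        have hU : (y i : Lˣ) = Units.map (algebraMap K L).toMonoidHom k *
            Units.map (algebraMap B L).toMonoidHom u * y j := Units.ext (by simpa using h)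
        let F : Lˣ →* (Lˣ ⧸ UB) ⧸ ΓA := (QuotientGroup.mk' ΓA).comp (QuotientGroup.mk' UB)
        have hF : ∀ s : S, F (y s) = (s : (Lˣ ⧸ UB) ⧸ ΓA) := fun s => by
          show QuotientGroup.mk (QuotientGroup.mk (y s)) = _
          rw [hy, hx]
        have hFk : F (Units.map (algebraMap K L).toMonoidHom k) = 1 :=
          (QuotientGroup.eq_one_iff _).mpr ⟨k, rfl⟩
        have hFu : F (Units.map (algebraMap B L).toMonoidHom u) = 1 := by
          show QuotientGroup.mk (QuotientGroup.mk (Units.map (algebraMap B L).toMonoidHom u)) = _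
          rw [show (QuotientGroup.mk (Units.map (algebraMap B L).toMonoidHom u) : Lˣ ⧸ UB) = 1 from
            (QuotientGroup.eq_one_iff _).mpr ⟨u, rfl⟩]
          exact QuotientGroup.mk_one _
        refine Subtype.ext ?_
        have h2 := congrArg F hU
        rw [map_mul, map_mul, hFk, hFu, one_mul, one_mul, hF, hF] at h2
        exact h2)
    simpa using hli.fintype_card_le_finrank
  have hrank : Module.rank (IsLocalRing.ResidueField A) (IsLocalRing.ResidueField B) ≤ (Module.finrank K L : ℕ) :=
    rank_le fun T hT => by simpa using key {1} T hT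
  haveI : Module.Finite (IsLocalRing.ResidueField A) (IsLocalRing.ResidueField B) :=
    Module.rank_lt_aleph0_iff.mp (hrank.trans_lt (Cardinal.natCast_lt_aleph0))
  have hone : LinearIndependent (IsLocalRing.ResidueField A)
      (fun r : ({1} : Finset (IsLocalRing.ResidueField B)) => (r : IsLocalRing.ResidueField B)) := by
    rw [Fintype.linearIndependent_iff]
    intro g hg i
    have hi : (i : IsLocalRing.ResidueField B) = 1 := Finset.mem_singleton.mp i.2
    have hu : (Finset.univ : Finset ({1} : Finset (IsLocalRing.ResidueField B))) = {i} :=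
      Finset.eq_singleton_iff_unique_mem.mpr ⟨Finset.mem_univ _, fun j _ =>
        Subtype.ext ((Finset.mem_singleton.mp j.2).trans hi.symm)⟩
    rw [hu, Finset.sum_singleton, hi] at hg
    exact (smul_eq_zero.mp hg).resolve_right one_ne_zero
  haveI : Finite ((Lˣ ⧸ UB) ⧸ ΓA) := by
    by_contra hinf
    rw [not_finite_iff_infinite] at hinf
    obtain ⟨S, -, hS⟩ := (Set.infinite_univ (α := (Lˣ ⧸ UB) ⧸ ΓA)).exists_subset_card_eq (Module.finrank K L + 1)
    have := key S {1} hone
    simp [hS] at this
  haveI := Fintype.ofFinite ((Lˣ ⧸ UB) ⧸ ΓA)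
  refine ⟨inferInstance, Subgroup.index_ne_zero_of_finite, ?_⟩
  let b := Module.finBasis (IsLocalRing.ResidueField A) (IsLocalRing.ResidueField B)
  have := key Finset.univ (Finset.univ.image b) (by
    have := b.linearIndependent.linearIndepOn_id
    rw [← Set.image_univ, ← Finset.coe_univ, ← Finset.coe_image] at this
    exact this)
  rw [Finset.card_image_of_injective _ b.injective, Finset.card_univ, Finset.card_univ, Fintype.card_fin] at this
  rwa [Subgroup.index, Nat.card_eq_fintype_card]

end Groth.Agent.S7124
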