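import Groth.Statements.S7125
import Groth.Agent.NormalLib.Serre
import Groth.Agent.NormalLib.TensorReduced
import Groth.Agent.NormalLib.Hypersurface
import Mathlib


-- import your own Groth.Agent.* helpers here

set_option autoImplicit false
universe u
open CAlg

namespace Groth.Agent.S7125

/-- Let A and B be Noetherian local normal domains and A → B a flat homomorphism that is local, and let
f in A, h in B, n > 1 and a unit w of B satisfy f = w·hⁿ in B. Assume that for every height-one
prime p of A there is a height-one prime q of B lying over p such that A_p ⊆ B_q is weakly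
unramified, i.e. p generates the maximal ideal of B_q. Then f = u·gⁿ for some g in A and some unit u
of A. -/
theorem result (A B : Type u) [CommRing A] [IsDomain A]
    [IsNoetherianRing A] [IsLocalRing A] [IsIntegrallyClosed A] [CommRing B] [IsDomain B] [IsNoetherianRing B]
    [IsLocalRing B] [IsIntegrallyClosed B] [Algebra A B] [IsLocalHom (algebraMap A B)] [Module.Flat A B]
    (f : A) (h : B) (n : ℕ) (hn : 1 < n) (w : Bˣ) (hf : algebraMap A B f = (w : B) * h ^ n)
    (hram : ∀ (p : Ideal A) [p.IsPrime], p.height = 1 →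
      ∃ (q : Ideal B) (_ : q.IsPrime), q.height = 1 ∧ q.comap (algebraMap A B) = p ∧
        Ideal.map (algebraMap B (Localization.AtPrime q)) (Ideal.map (algebraMap A B) p) =
          IsLocalRing.maximalIdeal (Localization.AtPrime q)) :
    ∃ (g : A) (u : Aˣ), f = (u : A) * g ^ n := by
  open scoped TensorProduct in
  open IsLocalRing in
  classical
  have hff : Module.FaithfullyFlat A B := Module.FaithfullyFlat.of_flat_of_isLocalHom
  have hinj : Function.Injective (algebraMap A B) := FaithfulSMul.algebraMap_injective A B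
  rcases eq_or_ne f 0 with hf0 | hf0
  · exact ⟨0, 1, by rw [hf0, zero_pow (by omega), mul_zero]⟩
  have hh0 : h ≠ 0 := fun e => hf0 (hinj (by rw [hf, e, zero_pow (by omega), mul_zero, map_zero]))
  have hSfin : (associatedPrimes A (A ⧸ Ideal.span {f})).Finite := associatedPrimes.finite A _
  haveI := hSfin.fintype
  have key : ∀ P : associatedPrimes A (A ⧸ Ideal.span {f}), ∃ (π : A) (d : ℕ) (t u : A),
      t ∉ (P : Ideal A) ∧ u ∉ (P : Ideal A) ∧ π ≠ 0 ∧ t * f = u * π ^ (d * n) := by
    intro P
    have hP := P.2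
    haveI : (P : Ideal A).IsPrime := hP.isPrime
    obtain ⟨π, m, T, t, u, hπ0, hT, hTy, hu, htf, ht, hπ⟩ := NormalLib.exists_uniformizer f hf0 (P : Ideal A)
      (NormalLib.mem_associatedPrimes_quotient_of_le hP)
      (NormalLib.maximalIdeal_isPrincipal_of_mem_associatedPrimes hf0 hP)
    obtain ⟨q, hq, -, hcomap, hmax⟩ := hram (P : Ideal A) (NormalLib.height_eq_one_of_mem_associatedPrimes hf0 hP)
    let Bq := Localization.AtPrime q
    haveI : IsDomain Bq := IsLocalization.isDomain_localization q.primeCompl_le_nonZeroDivisors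
    haveI : IsNoetherianRing Bq := IsLocalization.isNoetherianRing q.primeCompl _ inferInstance
    let φ : A →+* Bq := (algebraMap B Bq).comp (algebraMap A B)
    have hunit : ∀ a : A, a ∉ (P : Ideal A) → IsUnit (φ a) := fun a ha =>
      IsLocalization.map_units Bq (⟨algebraMap A B a, fun h' => ha (hcomap ▸ h')⟩ : q.primeCompl)
    have hgen : maximalIdeal Bq = Ideal.span {φ π} := by
      refine le_antisymm ?_ ?_
      · rw [← hmax, Ideal.map_le_iff_le_comap, Ideal.map_le_iff_le_comap]
        intro y hy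
        simp only [Ideal.mem_comap, Ideal.mem_span_singleton]
        obtain ⟨c, hc⟩ := hTy y hy
        have h1 : φ π ∣ φ T * φ y := ⟨φ c, by rw [← map_mul, ← map_mul, hc]⟩
        exact (hunit T hT).dvd_mul_left.1 h1
      · rw [Ideal.span_singleton_le_iff_mem, ← hmax]
        exact Ideal.mem_map_of_mem _ (Ideal.mem_map_of_mem _ hπ)
    have hπu : ¬ IsUnit (φ π) := by
      rw [← mem_nonunits_iff, ← mem_maximalIdeal, hgen]
      exact Ideal.mem_span_singleton_self _
    have hπq0 : φ π ≠ 0 := fun e => hπ0 (hinj (by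
      rw [map_zero]
      exact IsLocalization.injective Bq q.primeCompl_le_nonZeroDivisors (e.trans (map_zero _).symm)))
    obtain ⟨j, v, hv, hhv⟩ := WfDvdMonoid.max_power_factor'
      ((map_ne_zero_iff _ (IsLocalization.injective Bq q.primeCompl_le_nonZeroDivisors)).2 hh0) hπu
    have hvu : IsUnit v := by
      by_contra hc
      exact hv (Ideal.mem_span_singleton.1 (hgen ▸ (mem_maximalIdeal v).2 hc))
    have e := congrArg φ htf
    simp only [map_mul, map_pow] at e
    rw [show φ f = algebraMap B Bq (algebraMap A B f) from rfl, hf, map_mul, map_pow, hhv, mul_pow, ← pow_mul] at e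
    have hwu : IsUnit (algebraMap B Bq (w : B)) := w.isUnit.map _
    have hass : Associated (φ π ^ (j * n)) (φ π ^ m) := by
      have h1 : Associated (φ π ^ (j * n)) (φ t * (algebraMap B Bq w * (φ π ^ (j * n) * v ^ n))) :=
        (associated_unit_mul_right _ _ (hunit t ht)).trans ?_
      · rw [e] at h1
        exact h1.trans (associated_unit_mul_left _ _ (hunit u hu))
      · refine Associated.mul_left _ ?_
        exact (associated_mul_unit_right _ _ (hvu.pow n)).trans (associated_unit_mul_right _ _ hwu)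
    have hmj : m = j * n := le_antisymm ((pow_dvd_pow_iff hπq0 hπu).1 hass.symm.dvd) ((pow_dvd_pow_iff hπq0 hπu).1 hass.dvd)
    exact ⟨π, j, t, u, ht, hu, hπ0, hmj ▸ htf⟩
  choose π d t u ht hu hπ0 htf using key
  let s := t
  let Φ : A →ₗ[A] (∀ P : associatedPrimes A (A ⧸ Ideal.span {f}), A ⧸ Ideal.span {π P ^ d P}) :=
    LinearMap.pi fun P => (Submodule.mkQ _).comp (LinearMap.lsmul A A (s P))
  let I : Ideal A := LinearMap.ker Φ
  have hI : ∀ x, x ∈ I ↔ ∀ P, π P ^ d P ∣ s P * x := fun x =>
    ⟨fun hx P => Ideal.mem_span_singleton.1 ((Submodule.Quotient.mk_eq_zero _).1 (congrFun (LinearMap.mem_ker.1 hx) P)),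
      fun hx => LinearMap.mem_ker.2 (funext fun P => (Submodule.Quotient.mk_eq_zero _).2 (Ideal.mem_span_singleton.2 (hx P)))⟩
  have hIf : ∀ x ∈ I, f ∣ x ^ n := fun x hx => by
    refine NormalLib.dvd_of_forall_associatedPrimes fun P hP => ?_
    haveI := hP.isPrime
    obtain ⟨c, hc⟩ := (hI x).1 hx ⟨P, hP⟩
    refine ⟨u ⟨P, hP⟩ * s ⟨P, hP⟩ ^ n, fun h' => ?_, t ⟨P, hP⟩ * c ^ n, ?_⟩
    · rcases (Ideal.IsPrime.mem_or_mem ‹_› h') with h'' | h''
      · exact hu ⟨P, hP⟩ h''
      · exact ht ⟨P, hP⟩ (Ideal.IsPrime.mem_of_pow_mem ‹_› _ h'')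
    · rw [mul_assoc, ← mul_pow, hc, mul_pow, ← pow_mul, ← mul_assoc, ← htf ⟨P, hP⟩]
      ring
  have hcomp : ∀ P, algebraMap A B (π P) ^ d P ∣ algebraMap A B (s P) * h := by
    intro P
    rw [← IsIntegrallyClosed.pow_dvd_pow_iff (show n ≠ 0 by omega), ← pow_mul, mul_pow]
    refine (w.isUnit.dvd_mul_right).1 ⟨algebraMap A B (u P * t P ^ (n - 1)), ?_⟩
    have e := congrArg (fun z => algebraMap A B (t P ^ (n - 1) * z)) (htf P)
    simp only [map_mul, map_pow, hf] at e
    calc algebraMap A B (s P) ^ n * h ^ n * (w : B)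
        = algebraMap A B (t P) ^ (n - 1) * (algebraMap A B (t P) * ((w : B) * h ^ n)) := by
          rw [← mul_assoc (algebraMap A B (t P) ^ (n - 1)), ← pow_succ, Nat.sub_add_cancel (by omega)]; ring
      _ = _ := by rw [e, map_mul, map_pow]; ring
  have hmem : h ∈ I.map (algebraMap A B) := by
    have hex : Function.Exact ((Submodule.subtype I).lTensor B) (Φ.lTensor B) :=
      Module.Flat.lTensor_exact B (LinearMap.exact_subtype_ker_map Φ)
    obtain ⟨z, hz⟩ := (hex (h ⊗ₜ[A] (1 : A))).1 (by
      apply (TensorProduct.piRight A A B (fun P : associatedPrimes A (A ⧸ Ideal.span {f}) => A ⧸ Ideal.span {π P ^ d P})).injective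
      rw [map_zero]
      funext P
      simp only [LinearMap.lTensor_tmul, TensorProduct.piRight_apply, TensorProduct.piRightHom_tmul, Pi.zero_apply]
      obtain ⟨b, hb⟩ := hcomp P
      have e1 : Φ 1 P = s P • (Submodule.Quotient.mk 1 : A ⧸ Ideal.span {π P ^ d P}) := by
        rw [← Submodule.Quotient.mk_smul]; rfl
      rw [e1, TensorProduct.tmul_smul, TensorProduct.smul_tmul', Algebra.smul_def, hb, ← map_pow, ← Algebra.smul_def,
        TensorProduct.smul_tmul, ← Submodule.Quotient.mk_smul,
        (Submodule.Quotient.mk_eq_zero _).2 (by simp [Ideal.mem_span_singleton]), TensorProduct.tmul_zero])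
    have hrid := congrArg (TensorProduct.rid A B) hz
    rw [TensorProduct.rid_tmul, one_smul] at hrid
    rw [← hrid]
    clear hz hrid
    induction z using TensorProduct.induction_on with
    | zero => simp
    | tmul b x =>
      rw [LinearMap.lTensor_tmul, TensorProduct.rid_tmul, Algebra.smul_def]
      exact Ideal.mul_mem_right _ _ (Ideal.mem_map_of_mem _ x.2)
    | add a b ha hb => rw [map_add, map_add]; exact add_mem ha hb
  have hdiv : ∀ x ∈ I, h ∣ algebraMap A B x := fun x hx => by
    rw [← IsIntegrallyClosed.pow_dvd_pow_iff (show n ≠ 0 by omega), ← map_pow]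
    obtain ⟨c, hc⟩ := hIf x hx
    exact ⟨(w : B) * algebraMap A B c, by rw [hc, map_mul, hf]; ring⟩
  obtain ⟨g, hg, c, hcu, hgc⟩ : ∃ g ∈ I, ∃ c : B, IsUnit c ∧ algebraMap A B g = h * c := by
    by_contra hno
    push Not at hno
    have hle : I.map (algebraMap A B) ≤ Ideal.span {h} * maximalIdeal B := by
      rw [Ideal.map_le_iff_le_comap]
      intro x hx
      obtain ⟨c, hc⟩ := hdiv x hx
      rw [Ideal.mem_comap, Ideal.mem_span_singleton_mul]
      exact ⟨c, (mem_maximalIdeal c).2 fun hu' => hno x hx c hu' hc, hc.symm⟩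
    obtain ⟨c, hc, hhc⟩ := Ideal.mem_span_singleton_mul.1 (hle hmem)
    have : c = 1 := mul_left_cancel₀ hh0 (hhc.trans (mul_one h).symm)
    exact (mem_maximalIdeal c).1 hc (this ▸ isUnit_one)
  obtain ⟨a, ha⟩ := hIf g hg
  have hau : IsUnit a := isUnit_of_map_unit (algebraMap A B) a (by
    have e := congrArg (algebraMap A B) ha
    rw [map_pow, map_mul, hgc, hf, mul_pow, mul_comm (h ^ n), mul_comm ((w : B)), mul_assoc, mul_comm (c ^ n)] at e
    exact (IsUnit.mul_iff.1 (mul_left_cancel₀ (pow_ne_zero n hh0) e ▸ hcu.pow n)).2)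
  exact ⟨g, hau.unit⁻¹, by rw [ha, mul_left_comm, IsUnit.val_inv_mul, mul_one]⟩

end Groth.Agent.S7125
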