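import Groth.Statements.S7130
import Groth.Agent.AbsFlat.Basic

set_option autoImplicit false
universe u
open EtAlg

namespace Groth.Agent.S7130

/-- (2) ⇔ (3) ⇔ (4): for a ring A the following are equivalent: every A-module is flat; A is reduced of
Krull dimension zero, in the sense that every prime ideal of A is maximal; the local ring A_p is a
field for every prime p. (The further equivalent condition 'A has weak dimension at most zero'
coincides with the first condition by definition and is not listed separately.) -/
theorem result (A : Type u) [CommRing A] :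
    List.TFAE [∀ (M : Type u) [AddCommGroup M] [Module A M], Module.Flat A M,
      IsReduced A ∧ ∀ p : Ideal A, p.IsPrime → p.IsMaximal,
      ∀ (p : Ideal A) [p.IsPrime], IsField (Localization.AtPrime p)] := by
  tfae_have 1 → 2 := by
    intro h
    refine ⟨⟨fun a ⟨n, hn⟩ => ?_⟩, fun p hp => ?_⟩
    · obtain ⟨x, hx⟩ := AbsFlat.forall_dvd_of_flat h a
      have : ∀ m, a = a ^ (m + 1) * x ^ m := fun m => by
        induction m with
        | zero => simp
        | succ m ih =>
          calc a = a * a * x := hx
            _ = a * (a ^ (m + 1) * x ^ m) * x := by rw [← ih]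
            _ = a ^ (m + 1 + 1) * x ^ (m + 1) := by ring
      rw [this n, pow_succ, hn, zero_mul, zero_mul]
    · rw [Ideal.isMaximal_iff]
      refine ⟨fun h1 => hp.ne_top ((Ideal.eq_top_iff_one p).mpr h1), fun J a hpJ ha haJ => ?_⟩
      obtain ⟨x, hx⟩ := AbsFlat.forall_dvd_of_flat h a
      have h1 : 1 - a * x ∈ p := (hp.mem_or_mem (x := a) (by
        have : a * (1 - a * x) = 0 := by linear_combination hx
        rw [this]; exact p.zero_mem)).resolve_left ha
      have := J.add_mem (hpJ h1) (J.mul_mem_right x haJ)
      simpa using this
  tfae_have 2 → 3 := by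
    rintro ⟨hr, hmax⟩ p hp
    have : Ring.KrullDimLE 0 A := Ring.KrullDimLE.mk₀ hmax
    have : Ring.KrullDimLE 0 (Localization.AtPrime p) :=
      Ring.KrullDimLE.mk₀ fun q hq => by
        rw [IsLocalRing.isMaximal_iff]
        refine le_antisymm (IsLocalRing.le_maximalIdeal hq.ne_top) ?_
        have h1 : (Ideal.comap (algebraMap A (Localization.AtPrime p)) q) = p := by
          refine (hmax _ inferInstance).eq_of_le hp.ne_top ?_
          exact (Ideal.comap_mono (IsLocalRing.le_maximalIdeal hq.ne_top)).trans
            (IsLocalization.AtPrime.comap_maximalIdeal (Localization.AtPrime p) p).le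
        rw [← Localization.AtPrime.map_eq_maximalIdeal, Ideal.map_le_iff_le_comap, h1]
    exact Ring.KrullDimLE.isField_of_isReduced
  tfae_have 3 → 1 := fun h M _ _ => AbsFlat.flat_of_forall_dvd (AbsFlat.forall_dvd_of_isField h) M
  tfae_finish

end Groth.Agent.S7130
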