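import Groth.Statements.S7132
import Mathlib.NumberTheory.RamificationInertia.Ramification
import Mathlib.RingTheory.DiscreteValuationRing.Basic
import Mathlib.RingTheory.Localization.Module
import Mathlib.LinearAlgebra.Dimension.Finite
import Mathlib.LinearAlgebra.Dimension.StrongRankCondition
import Mathlib.RingTheory.Filtration
import Mathlib.RingTheory.LocalRing.ResidueField.Basic
-- import your own Groth.Agent.* helpers here

set_option autoImplicit false
universe u
open EtAlg

namespace Groth.Agent.S7132

/-- For an injective local homomorphism A → B of discrete valuation rings whose fraction fields K ⊆ L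
form a finite extension, the residue field of B is finite over that of A, and the ramification index
e times the residue degree f is at most [L : K]. -/
theorem result (A B K L : Type u) [CommRing A] [IsDomain A]
    [IsDiscreteValuationRing A] [CommRing B] [IsDomain B] [IsDiscreteValuationRing B] [Algebra A B]
    (hinj : Function.Injective (algebraMap A B)) [IsLocalHom (algebraMap A B)]
    [Field K] [Field L] [Algebra A K] [IsFractionRing A K] [Algebra B L] [IsFractionRing B L]
    [Algebra K L] [Algebra A L] [IsScalarTower A K L] [IsScalarTower A B L] [FiniteDimensional K L] :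
    Module.Finite (IsLocalRing.ResidueField A) (IsLocalRing.ResidueField B) ∧
      Ideal.ramificationIdx' (IsLocalRing.maximalIdeal A) (IsLocalRing.maximalIdeal B) *
          Module.finrank (IsLocalRing.ResidueField A) (IsLocalRing.ResidueField B) ≤
        Module.finrank K L := by
  classical
  obtain ⟨π, hπ⟩ := IsDiscreteValuationRing.exists_irreducible A
  obtain ⟨ϖ, hϖ⟩ := IsDiscreteValuationRing.exists_irreducible B
  have hπ0 : algebraMap A B π ≠ 0 := fun h => hπ.ne_zero (hinj (h.trans (map_zero _).symm))
  obtain ⟨e, u, he⟩ := IsDiscreteValuationRing.eq_unit_mul_pow_irreducible hπ0 hϖ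
  have hmA := (IsDiscreteValuationRing.irreducible_iff_uniformizer π).1 hπ
  have hmB := (IsDiscreteValuationRing.irreducible_iff_uniformizer ϖ).1 hϖ
  have hm : (IsLocalRing.maximalIdeal A).map (algebraMap A B) = Ideal.span {ϖ ^ e} := by
    rw [hmA, Ideal.map_span, Set.image_singleton, he, Ideal.span_singleton_mul_left_unit u.isUnit]
  have hramif : Ideal.ramificationIdx' (IsLocalRing.maximalIdeal A) (IsLocalRing.maximalIdeal B) = e := by
    refine Ideal.ramificationIdx'_spec ?_ ?_
    · rw [hm, hmB, Ideal.span_singleton_pow]
    · rw [hm, hmB, Ideal.span_singleton_pow, Ideal.span_singleton_le_span_singleton]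
      intro h
      have := (pow_dvd_pow_iff hϖ.ne_zero hϖ.not_isUnit).1 h
      omega
  have he1 : 0 < e := by
    by_contra h0
    obtain rfl : e = 0 := by omega
    apply hπ.not_isUnit
    refine isUnit_of_map_unit (algebraMap A B) π ?_
    rw [he, pow_zero, mul_one]
    exact u.isUnit
  have key : ∀ (s : Finset (IsLocalRing.ResidueField B)), LinearIndependent (IsLocalRing.ResidueField A) (fun x : s => (x : IsLocalRing.ResidueField B)) →
      e * s.card ≤ Module.finrank K L := by
    intro s hs
    choose b hb using fun x : s => IsLocalRing.residue_surjective (R := B) (x : IsLocalRing.ResidueField B)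
    let v : Fin e × s → L := fun ij => algebraMap B L (ϖ ^ (ij.1 : ℕ) * b ij.2)
    have hpow : ∀ n (c : Fin e × s → A), ∑ ij, algebraMap A B (c ij) * (ϖ ^ (ij.1 : ℕ) * b ij.2) = 0 →
        ∀ ij, π ^ n ∣ c ij := by
      intro n
      induction n with
      | zero => exact fun c _ ij => by simp
      | succ n ih =>
        intro c hc
        choose d hd using ih c hc
        have hd0 : ∑ ij, algebraMap A B (d ij) * (ϖ ^ (ij.1 : ℕ) * b ij.2) = 0 := by
          have h1 : algebraMap A B π ^ n * ∑ ij, algebraMap A B (d ij) * (ϖ ^ (ij.1 : ℕ) * b ij.2) = 0 := by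
            rw [Finset.mul_sum, ← hc]
            exact Finset.sum_congr rfl fun ij _ => by rw [hd, map_mul, map_pow, mul_assoc]
          exact (mul_eq_zero.1 h1).resolve_left (pow_ne_zero _ hπ0)
        suffices h : ∀ k : ℕ, ∀ ij : Fin e × s, (ij.1 : ℕ) = k → π ∣ d ij from fun ij => by
          rw [hd ij, pow_succ]; exact mul_dvd_mul_left _ (h _ ij rfl)
        intro k
        induction k using Nat.strong_induction_on with
        | _ k ihk =>
          intro ij₀ hij₀
          have hdiv : ∀ ij : Fin e × s, (ij.1 : ℕ) ≠ k → ϖ ^ (k + 1) ∣ algebraMap A B (d ij) * (ϖ ^ (ij.1 : ℕ) * b ij.2) := by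
            intro ij hne
            rcases lt_or_gt_of_ne hne with hlt | hgt
            · obtain ⟨t, ht⟩ := ihk _ hlt ij rfl
              refine Dvd.dvd.mul_right ?_ _
              rw [ht, map_mul, he]
              refine Dvd.dvd.mul_right (Dvd.dvd.mul_left (pow_dvd_pow _ ?_) _) _
              have := ij₀.1.2
              omega
            · exact Dvd.dvd.mul_left (Dvd.dvd.mul_right (pow_dvd_pow _ hgt) _) _
          let i₀ : Fin e := ij₀.1
          have hs0 : ϖ ∣ ∑ j : s, algebraMap A B (d (i₀, j)) * b j := by
            have h1 : ϖ ^ (k + 1) ∣ ∑ ij ∈ Finset.univ.filter (fun ij : Fin e × s => (ij.1 : ℕ) = k),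
                algebraMap A B (d ij) * (ϖ ^ (ij.1 : ℕ) * b ij.2) := by
              have h2 := Finset.sum_filter_add_sum_filter_not Finset.univ (fun ij : Fin e × s => (ij.1 : ℕ) = k)
                (fun ij => algebraMap A B (d ij) * (ϖ ^ (ij.1 : ℕ) * b ij.2))
              rw [hd0] at h2
              rw [eq_neg_of_add_eq_zero_left h2]
              exact dvd_neg.2 (Finset.dvd_sum fun ij hij => hdiv ij (Finset.mem_filter.1 hij).2)
            have h3 : ∑ ij ∈ Finset.univ.filter (fun ij : Fin e × s => (ij.1 : ℕ) = k),
                algebraMap A B (d ij) * (ϖ ^ (ij.1 : ℕ) * b ij.2) = ϖ ^ k * ∑ j : s, algebraMap A B (d (i₀, j)) * b j := by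
              rw [Finset.mul_sum]
              refine Finset.sum_bij' (fun ij _ => ij.2) (fun j _ => (i₀, j)) (fun _ _ => Finset.mem_univ _)
                (fun j _ => Finset.mem_filter.2 ⟨Finset.mem_univ _, hij₀⟩) (fun ij hij => ?_) (fun _ _ => rfl) (fun ij hij => ?_)
              · exact Prod.ext (Fin.ext (hij₀.trans (Finset.mem_filter.1 hij).2.symm)) rfl
              · have e1 : i₀ = ij.1 := Fin.ext (hij₀.trans (Finset.mem_filter.1 hij).2.symm)
                rw [(Finset.mem_filter.1 hij).2, e1, mul_left_comm]
            rw [h3, pow_succ] at h1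
            exact (mul_dvd_mul_iff_left (pow_ne_zero _ hϖ.ne_zero)).1 h1
          obtain ⟨t, ht⟩ := hs0
          have h4 : ∑ j : s, IsLocalRing.residue A (d (i₀, j)) • (j : IsLocalRing.ResidueField B) = 0 := by
            have h5 := congrArg (IsLocalRing.residue B) ht
            rw [map_sum, map_mul, (IsLocalRing.residue_eq_zero_iff ϖ).2 (by rw [hmB]; exact Ideal.mem_span_singleton_self _), zero_mul] at h5
            rw [← h5]
            exact Finset.sum_congr rfl fun j _ => by rw [map_mul, hb, Algebra.smul_def]; rfl
          have h6 := Fintype.linearIndependent_iff.1 hs _ h4 ij₀.2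
          rw [IsLocalRing.residue_eq_zero_iff, hmA, Ideal.mem_span_singleton] at h6
          exact h6
    have hli : LinearIndependent A v := by
      rw [Fintype.linearIndependent_iff]
      intro c hc ij
      have h0 : ∑ ij, algebraMap A B (c ij) * (ϖ ^ (ij.1 : ℕ) * b ij.2) = 0 := by
        apply IsFractionRing.injective B L
        rw [map_sum, map_zero, ← hc]
        exact Finset.sum_congr rfl fun x _ => by rw [map_mul, Algebra.smul_def, ← IsScalarTower.algebraMap_apply]
      have hinf : c ij ∈ ⨅ n : ℕ, IsLocalRing.maximalIdeal A ^ n := by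
        simp only [Submodule.mem_iInf]
        intro n
        rw [hmA, Ideal.span_singleton_pow, Ideal.mem_span_singleton]
        exact hpow n c h0 ij
      rw [Ideal.iInf_pow_eq_bot_of_isLocalRing _ (IsLocalRing.maximalIdeal.isMaximal A).ne_top] at hinf
      exact hinf
    have := ((LinearIndependent.iff_fractionRing A K).1 hli).fintype_card_le_finrank
    simpa using this
  have hrank : ∀ s : Finset (IsLocalRing.ResidueField B), LinearIndependent (IsLocalRing.ResidueField A) (fun x : s => (x : IsLocalRing.ResidueField B)) →
      s.card ≤ Module.finrank K L := fun s hs => le_trans (Nat.le_mul_of_pos_left _ he1) (key s hs)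
  haveI hfin : Module.Finite (IsLocalRing.ResidueField A) (IsLocalRing.ResidueField B) :=
    Module.rank_lt_aleph0_iff.1 (lt_of_le_of_lt (rank_le hrank) (Cardinal.natCast_lt_aleph0))
  refine ⟨hfin, ?_⟩
  rw [hramif]
  let bb := Module.finBasis (IsLocalRing.ResidueField A) (IsLocalRing.ResidueField B)
  have := key (Finset.univ.image bb) (by
    have h := bb.linearIndependent.linearIndepOn_id
    rw [← Set.image_univ, ← Finset.coe_univ, ← Finset.coe_image] at h
    exact h)
  rwa [Finset.card_image_of_injective _ bb.injective, Finset.card_univ, Fintype.card_fin] at this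

end Groth.Agent.S7132
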