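import Groth.Statements.S7133
import Mathlib.NumberTheory.RamificationInertia.Ramification
import Mathlib.RingTheory.DiscreteValuationRing.Basic
import Mathlib.FieldTheory.PurelyInseparable.Basic
import Mathlib.Data.Nat.Prime.Basic
-- import your own Groth.Agent.* helpers here

set_option autoImplicit false
universe u
open EtAlg

namespace Groth.Agent.S7133

/-- For an injective local homomorphism A → B of discrete valuation rings whose fields of fractions are
K ⊆ L: if K has characteristic p > 0 and L/K is purely inseparable, then the ramification index of B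
over A is a power of p. -/
theorem result (A B K L : Type u) [CommRing A] [IsDomain A]
    [IsDiscreteValuationRing A] [CommRing B] [IsDomain B] [IsDiscreteValuationRing B] [Algebra A B]
    (hinj : Function.Injective (algebraMap A B)) [IsLocalHom (algebraMap A B)]
    [Field K] [Field L] [Algebra A K] [IsFractionRing A K] [Algebra B L] [IsFractionRing B L]
    [Algebra K L] [Algebra A L] [IsScalarTower A K L] [IsScalarTower A B L]
    (p : ℕ) (hp : p.Prime) [CharP K p] [IsPurelyInseparable K L] :
    ∃ k : ℕ, Ideal.ramificationIdx' (IsLocalRing.maximalIdeal A) (IsLocalRing.maximalIdeal B) =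
      p ^ k := by
  haveI := Fact.mk hp
  haveI : ExpChar K p := ExpChar.prime hp
  obtain ⟨π, hπ⟩ := IsDiscreteValuationRing.exists_irreducible A
  obtain ⟨ϖ, hϖ⟩ := IsDiscreteValuationRing.exists_irreducible B
  have hπ0 : algebraMap A B π ≠ 0 := fun h => hπ.ne_zero (hinj (h.trans (map_zero _).symm))
  obtain ⟨e, u, he⟩ := IsDiscreteValuationRing.eq_unit_mul_pow_irreducible hπ0 hϖ
  have hm : (IsLocalRing.maximalIdeal A).map (algebraMap A B) = Ideal.span {ϖ ^ e} := by
    rw [(IsDiscreteValuationRing.irreducible_iff_uniformizer π).1 hπ, Ideal.map_span, Set.image_singleton, he,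
      Ideal.span_singleton_mul_left_unit u.isUnit]
  have hramif : Ideal.ramificationIdx' (IsLocalRing.maximalIdeal A) (IsLocalRing.maximalIdeal B) = e := by
    refine Ideal.ramificationIdx'_spec ?_ ?_
    · rw [hm, (IsDiscreteValuationRing.irreducible_iff_uniformizer ϖ).1 hϖ, Ideal.span_singleton_pow]
    · rw [hm, (IsDiscreteValuationRing.irreducible_iff_uniformizer ϖ).1 hϖ, Ideal.span_singleton_pow, Ideal.span_singleton_le_span_singleton]
      intro h
      have := (pow_dvd_pow_iff hϖ.ne_zero hϖ.not_isUnit).1 h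
      omega
  obtain ⟨n, y, hy⟩ := IsPurelyInseparable.pow_mem K p (algebraMap B L ϖ)
  obtain ⟨a, b, hb, rfl⟩ := IsFractionRing.div_surjective (A := A) y
  have hb0 : b ≠ 0 := nonZeroDivisors.ne_zero hb
  have hKb : algebraMap A L b ≠ 0 := by
    rw [IsScalarTower.algebraMap_apply A K L, Ne, map_eq_zero]
    exact fun h => hb0 (IsFractionRing.injective A K (h.trans (map_zero _).symm))
  rw [map_div₀, ← IsScalarTower.algebraMap_apply, ← IsScalarTower.algebraMap_apply, div_eq_iff hKb,
    IsScalarTower.algebraMap_apply A B L, IsScalarTower.algebraMap_apply A B L, ← map_pow, ← map_mul] at hy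
  have hB := IsFractionRing.injective B L hy
  obtain ⟨j, v, rfl⟩ := IsDiscreteValuationRing.eq_unit_mul_pow_irreducible hb0 hπ
  have ha0 : a ≠ 0 := by
    rintro rfl
    rw [map_zero] at hB
    exact mul_ne_zero (pow_ne_zero _ hϖ.ne_zero) (fun h => hb0 (hinj (h.trans (map_zero _).symm))) hB.symm
  obtain ⟨i, w, rfl⟩ := IsDiscreteValuationRing.eq_unit_mul_pow_irreducible ha0 hπ
  simp only [map_mul, map_pow, he, mul_pow] at hB
  let f := Units.map (algebraMap A B).toMonoidHom
  have key : ((f v * u ^ j : Bˣ) : B) * ϖ ^ (p ^ n + e * j) = ((f w * u ^ i : Bˣ) : B) * ϖ ^ (e * i) := by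
    simp only [Units.val_mul, Units.val_pow_eq_pow_val, f, Units.coe_map]
    rw [pow_add, pow_mul, pow_mul]
    convert hB.symm using 1 <;> simp <;> ring
  have h2 := IsDiscreteValuationRing.unit_mul_pow_congr_pow hϖ hϖ _ _ _ _ key
  have hdvd : e ∣ p ^ n := by
    rw [Nat.dvd_add_left (dvd_mul_right e j) |>.symm, h2]
    exact dvd_mul_right e i
  obtain ⟨k, -, hk⟩ := (Nat.dvd_prime_pow hp).1 hdvd
  exact ⟨k, hramif.trans hk⟩

end Groth.Agent.S7133
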