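import Groth.Statements.S7134
import Groth.Agent.AdicFSLib.Main
import Groth.Agent.CohenLib.GeomRed
import Groth.Agent.CohenLib.FSField
import Groth.Agent.CommAlgDim.Regular
import Mathlib.RingTheory.Flat.TorsionFree
import Mathlib.RingTheory.Etale.Basic
-- import your own Groth.Agent.* helpers here

set_option autoImplicit false
universe u
open EtAlg

namespace Groth.Agent.S7134

/-- For an injective local homomorphism A → B of discrete valuation rings, A → B is formally smooth for
the adic topology of the maximal ideal of B if and only if A → B is weakly unramified and the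
residue field of B is a separable (possibly transcendental, i.e. geometrically reduced) extension of
the residue field of A. -/
theorem result (A B : Type u) [CommRing A]
    [IsDomain A] [IsDiscreteValuationRing A] [CommRing B] [IsDomain B] [IsDiscreteValuationRing B] [Algebra A B]
    (hinj : Function.Injective (algebraMap A B)) [IsLocalHom (algebraMap A B)] :
    CAlgX.IsAdicFormallySmooth A B (IsLocalRing.maximalIdeal B) ↔
      EtRam.IsWeaklyUnramified A B ∧
        Algebra.IsGeometricallyReduced (IsLocalRing.ResidueField A) (IsLocalRing.ResidueField B) := by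
  let k₀ := (IsLocalRing.maximalIdeal A).ResidueField
  let k := IsLocalRing.ResidueField A
  let κ := IsLocalRing.ResidueField B
  let F := (IsLocalRing.maximalIdeal A).Fiber B
  haveI := AdicFSLib.isLocalRing_fibre A B
  haveI : IsNoetherianRing F := GeomRedFibLib.isNoetherianRing_fiber A B _
  haveI : FaithfulSMul A B := (faithfulSMul_iff_algebraMap_injective A B).2 hinj
  haveI : Module.Flat A B := inferInstance
  let g := AdicFSLib.toFibre A B
  have hg := AdicFSLib.toFibre_surjective A B
  have hkg := AdicFSLib.ker_toFibre A B
  -- the residue field of `A` in its two guises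
  let ρ : k ≃+* k₀ := RingEquiv.ofBijective (algebraMap (A ⧸ IsLocalRing.maximalIdeal A) k₀)
    (IsLocalRing.maximalIdeal A).bijective_algebraMap_quotient_residueField
  letI : Algebra k₀ k := ρ.symm.toRingHom.toAlgebra
  letI : Algebra k₀ κ := ((algebraMap k κ).comp ρ.symm.toRingHom).toAlgebra
  haveI : IsScalarTower k₀ k κ := .of_algebraMap_eq fun _ => rfl
  haveI : Algebra.FormallyEtale k₀ k := Algebra.FormallyEtale.of_equiv
    (AlgEquiv.ofBijective (Algebra.ofId k₀ k) ρ.symm.bijective)
  have hρ : ∀ a, ρ.symm (algebraMap A k₀ a) = IsLocalRing.residue A a := fun a => by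
    rw [ρ.symm_apply_eq, IsScalarTower.algebraMap_apply A (A ⧸ IsLocalRing.maximalIdeal A) k₀]
    rfl
  have key : RingHom.ker g = IsLocalRing.maximalIdeal B → ∃ e : κ ≃ₐ[k₀] F, True := fun hker => by
    let E : κ ≃+* F := (Ideal.quotEquivOfEq hker.symm).trans
      (RingHom.quotientKerEquivOfSurjective (f := g.toRingHom) hg)
    refine ⟨AlgEquiv.ofRingEquiv (f := E) fun x => ?_, trivial⟩
    obtain ⟨a, rfl⟩ := Ideal.algebraMap_residueField_surjective (IsLocalRing.maximalIdeal A) x
    rw [show algebraMap k₀ κ (algebraMap A k₀ a) = algebraMap k κ (ρ.symm (algebraMap A k₀ a)) from rfl, hρ,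
      ← IsScalarTower.algebraMap_apply A k₀ F]
    show E (IsLocalRing.residue B (algebraMap A B a)) = _
    exact g.commutes a
  constructor
  · intro h
    have hF := AdicFSLib.adicFS_fibre h
    haveI : IsRegularLocalRing F := CohenLib.isRegularLocalRing_of_liftsAdic' hF
    haveI : IsDomain F := CommAlgDim.isDomain_of_isRegularLocalRing F
    haveI hp : (RingHom.ker g).IsPrime := RingHom.ker_isPrime _
    have hne : RingHom.ker g ≠ ⊥ := by
      obtain ⟨x, hx, hx0⟩ := Submodule.exists_mem_ne_zero_of_ne_bot (IsDiscreteValuationRing.not_a_field A)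
      intro hbot
      have h1 := Ideal.mem_map_of_mem (algebraMap A B) hx
      rw [← hkg, hbot, Ideal.mem_bot] at h1
      exact hx0 (hinj (h1.trans (map_zero _).symm))
    have hmax : RingHom.ker g = IsLocalRing.maximalIdeal B :=
      IsLocalRing.eq_maximalIdeal (Ring.DimensionLEOne.maximalOfPrime hne hp)
    refine ⟨hkg.symm.trans hmax, ?_⟩
    obtain ⟨e, -⟩ := key hmax
    haveI : Algebra.FormallySmooth k₀ κ := by
      haveI : Algebra.FormallySmooth k₀ F := Algebra.FormallySmooth.of_comp_surjective fun C _ _ J hJ ψ => by
        refine hF C J hJ ψ ⟨1, fun x hx => ?_⟩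
        have hfield : IsField F := MulEquiv.isField (Field.toIsField κ) e.symm.toMulEquiv
        rw [pow_one, IsLocalRing.isField_iff_maximalIdeal_eq.1 hfield, Ideal.mem_bot] at hx
        rw [hx, map_zero]
      exact Algebra.FormallySmooth.of_equiv e.symm
    haveI : Algebra.FormallySmooth k κ := Algebra.FormallySmooth.of_restrictScalars k₀ k κ
    exact CohenLib.isGeometricallyReduced_of_formallySmooth
  · rintro ⟨hram, hsep⟩
    have hmax : RingHom.ker g = IsLocalRing.maximalIdeal B := hkg.trans hram
    obtain ⟨e, -⟩ := key hmax
    haveI := hsep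
    haveI : Algebra.FormallySmooth k κ := CohenLib.formallySmooth_of_isGeometricallyReduced k κ
    haveI : Algebra.FormallySmooth k₀ κ := Algebra.FormallySmooth.comp k₀ k κ
    haveI : Algebra.FormallySmooth k₀ F := Algebra.FormallySmooth.of_equiv e
    exact AdicFSLib.adicFS_of_flat (JacFSLib.isGeometricallyRegular_of_formallySmooth)

end Groth.Agent.S7134
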