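import Groth.Statements.S7135
import Mathlib.RingTheory.AdicCompletion.Exactness
import Mathlib.RingTheory.AdicCompletion.Functoriality
import Mathlib.RingTheory.AdicCompletion.AsTensorProduct
import Mathlib.RingTheory.Filtration
import Mathlib.RingTheory.OrzechProperty

set_option autoImplicit false
universe u
open CAlg

namespace Groth.Agent.S7135

/-- Compatible up to Artin–Rees: a surjection between high truncations gives a global map which is
surjective modulo the ideal. -/
theorem exists_global {A : Type u} [CommRing A] [IsNoetherianRing A] (I : Ideal A) (M N : Type u)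
    [AddCommGroup M] [Module A M] [Module.Finite A M] [AddCommGroup N] [Module A N] [Module.Finite A N]
    (g : ∀ n : ℕ, (M ⧸ (I ^ n • ⊤ : Submodule A M)) →ₗ[A] (N ⧸ (I ^ n • ⊤ : Submodule A N)))
    (hg : ∀ n, Function.Surjective (g n)) :
    ∃ φ : M →ₗ[A] N, Function.Surjective ((I • ⊤ : Submodule A N).mkQ.comp φ) := by
  obtain ⟨b, π, hπ⟩ := Module.Finite.exists_fin' A M
  obtain ⟨a, R, hR⟩ := Module.Finite.exists_fin' A (LinearMap.ker π)
  let r : Fin a → (Fin b → A) := fun j => (R (Pi.single j 1) : LinearMap.ker π)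
  let E : (Fin b → N) →ₗ[A] (Fin a → N) :=
    LinearMap.pi fun j => ∑ i, r j i • LinearMap.proj i
  obtain ⟨c, hc⟩ := Ideal.exists_pow_inf_eq_pow_smul I (LinearMap.range E)
  let k := c + 1
  let f : (Fin b → A) →ₗ[A] N ⧸ (I ^ k • ⊤ : Submodule A N) :=
    (g k).comp ((I ^ k • ⊤ : Submodule A M).mkQ.comp π)
  choose y hy using fun i => (I ^ k • ⊤ : Submodule A N).mkQ_surjective (f (Pi.single i 1))
  have hfy : ∀ v : Fin b → A, f v = (I ^ k • ⊤ : Submodule A N).mkQ (∑ i, v i • y i) := fun v => by
    conv_lhs => rw [pi_eq_sum_univ' v]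
    simp only [map_sum, map_smul, hy]
  have hEy : E y ∈ (I ^ k • ⊤ : Submodule A (Fin a → N)) := by
    have hmem : ∀ j, E y j ∈ (I ^ k • ⊤ : Submodule A N) := fun j => by
      have h0 : f (r j) = 0 := by
        show g k (Submodule.mkQ _ (π (r j))) = 0
        rw [show π (r j) = 0 from (R (Pi.single j 1)).2, map_zero, map_zero]
      rw [hfy, Submodule.mkQ_apply, Submodule.Quotient.mk_eq_zero] at h0
      simpa [E] using h0
    rw [← Finset.univ_sum_single (E y)]
    refine Submodule.sum_mem _ fun j _ => ?_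
    have := Submodule.mem_map_of_mem (f := LinearMap.single A (fun _ => N) j) (hmem j)
    rw [Submodule.map_smul''] at this
    exact Submodule.smul_mono le_rfl le_top this
  have hEy' : E y ∈ (I • LinearMap.range E : Submodule A (Fin a → N)) := by
    have h1 : E y ∈ (I ^ k • ⊤ ⊓ LinearMap.range E : Submodule A (Fin a → N)) := ⟨hEy, ⟨y, rfl⟩⟩
    rw [hc k (Nat.le_succ c), show k - c = 1 from Nat.add_sub_cancel_left c 1, pow_one] at h1
    exact Submodule.smul_mono le_rfl inf_le_right h1
  rw [show (I • LinearMap.range E : Submodule A (Fin a → N)) = (I • ⊤ : Submodule A (Fin b → N)).map E by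
    rw [Submodule.map_smul'', Submodule.map_top]] at hEy'
  obtain ⟨z, hz, hzy⟩ := hEy'
  let y' : Fin b → N := y - z
  have hy' : E y' = 0 := by rw [map_sub, hzy, sub_self]
  let Φ : (Fin b → A) →ₗ[A] N := ∑ i, (LinearMap.proj i).smulRight (y' i)
  have hΦ : LinearMap.ker π ≤ LinearMap.ker Φ := by
    intro v hv
    obtain ⟨w, hw⟩ := hR ⟨v, hv⟩
    have hv' : v = ∑ j, w j • r j := by
      conv_lhs => rw [show v = ((R w : LinearMap.ker π) : Fin b → A) by rw [hw]]
      conv_lhs => rw [pi_eq_sum_univ' w]
      simp [r]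
    rw [LinearMap.mem_ker, hv', map_sum]
    refine Finset.sum_eq_zero fun j _ => ?_
    have hj := congrFun hy' j
    simp [E] at hj
    rw [map_smul, show Φ (r j) = 0 by simpa [Φ] using hj, smul_zero]
  let φ : M →ₗ[A] N :=
    ((LinearMap.ker π).liftQ Φ hΦ).comp (π.quotKerEquivOfSurjective hπ).symm.toLinearMap
  have hφπ : ∀ v, φ (π v) = Φ v := fun v => by
    show (LinearMap.ker π).liftQ Φ hΦ ((π.quotKerEquivOfSurjective hπ).symm (π v)) = _
    rw [show (π.quotKerEquivOfSurjective hπ).symm (π v) = Submodule.Quotient.mk v from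
      (π.quotKerEquivOfSurjective hπ).symm_apply_apply (Submodule.Quotient.mk v)]
    rfl
  have hzi : ∀ i, z i ∈ (I • ⊤ : Submodule A N) := fun i => by
    have := Submodule.mem_map_of_mem (f := LinearMap.proj (R := A) (φ := fun _ : Fin b => N) i) hz
    rw [Submodule.map_smul''] at this
    exact Submodule.smul_mono le_rfl le_top this
  refine ⟨φ, fun t => ?_⟩
  obtain ⟨n, rfl⟩ := (I • ⊤ : Submodule A N).mkQ_surjective t
  obtain ⟨q, hq⟩ := hg k ((I ^ k • ⊤ : Submodule A N).mkQ n)
  obtain ⟨x, rfl⟩ := (I ^ k • ⊤ : Submodule A M).mkQ_surjective q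
  obtain ⟨v, rfl⟩ := hπ x
  refine ⟨π v, ?_⟩
  have h1 : (I ^ k • ⊤ : Submodule A N).mkQ (∑ i, v i • y i) = (I ^ k • ⊤ : Submodule A N).mkQ n := (hfy v).symm.trans hq
  rw [Submodule.mkQ_apply, Submodule.mkQ_apply, Submodule.Quotient.eq] at h1
  rw [LinearMap.comp_apply, hφπ, Submodule.mkQ_apply, Submodule.mkQ_apply, Submodule.Quotient.eq]
  have h2 : (∑ i, v i • z i) ∈ (I • ⊤ : Submodule A N) :=
    Submodule.sum_mem _ fun i _ => Submodule.smul_mem _ _ (hzi i)
  have h3 : (I ^ k • ⊤ : Submodule A N) ≤ I • ⊤ := Submodule.smul_mono (Ideal.pow_le_self (Nat.succ_ne_zero c)) le_rfl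
  have h4 : Φ v = (∑ i, v i • y i) - ∑ i, v i • z i := by
    simp [Φ, y', smul_sub, Finset.sum_sub_distrib]
  rw [h4, sub_right_comm]
  exact sub_mem (h3 h1) h2

theorem finite_completion {A : Type u} [CommRing A] [IsNoetherianRing A] (I : Ideal A) (M : Type u)
    [AddCommGroup M] [Module A M] [Module.Finite A M] :
    Module.Finite (AdicCompletion I A) (AdicCompletion I M) :=
  Module.Finite.of_surjective (LinearMap.restrictScalars (AdicCompletion I A) (AdicCompletion.ofTensorProduct I M))
    (AdicCompletion.ofTensorProduct_surjective_of_finite I M)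

/-- Let A be a Noetherian ring, I an ideal and M, N finite A-modules. If M/IⁿM and N/IⁿN are isomorphic
for every n, then the I-adic completions of M and N are isomorphic as modules over the I-adic
completion of A. -/
theorem result (A : Type u) [CommRing A] [IsNoetherianRing A] (I : Ideal A)
    (M N : Type u) [AddCommGroup M] [Module A M] [Module.Finite A M] [AddCommGroup N] [Module A N]
    [Module.Finite A N]
    (h : ∀ n : ℕ, Nonempty ((M ⧸ (I ^ n • ⊤ : Submodule A M)) ≃ₗ[A] (N ⧸ (I ^ n • ⊤ : Submodule A N)))) :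
    Nonempty (AdicCompletion I M ≃ₗ[AdicCompletion I A] AdicCompletion I N) := by
  obtain ⟨φ, hφ⟩ := exists_global (A := A) I M N (fun n => (h n).some) (fun n => (h n).some.surjective)
  obtain ⟨ψ, hψ⟩ := exists_global (A := A) I N M (fun n => (h n).some.symm) (fun n => (h n).some.symm.surjective)
  let F := AdicCompletion.map I φ
  let G := AdicCompletion.map I ψ
  have hF : Function.Surjective F := AdicCompletion.map_surjective_of_mkQ_comp_surjective hφ
  have hG : Function.Surjective G := AdicCompletion.map_surjective_of_mkQ_comp_surjective hψ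
  have : Module.Finite (AdicCompletion I A) (AdicCompletion I M) := finite_completion I M
  have hGF : Function.Injective (G.comp F) :=
    OrzechProperty.injective_of_surjective_endomorphism (G.comp F) (hG.comp hF)
  exact ⟨LinearEquiv.ofBijective F ⟨fun a b hab => hGF (congrArg G hab), hF⟩⟩

end Groth.Agent.S7135
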