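import Groth.Statements.S7153
import Mathlib
-- import your own Groth.Agent.* helpers here

set_option autoImplicit false
universe u
open CAlg

namespace Groth.Agent.S7153

set_option maxHeartbeats 400000

/-- Let A be a Noetherian ring, I an ideal and K → L → M a complex of finite A-modules with maps α, β
and homology H = Ker β / Im α; for n ≥ 0 let H_n be the homology of the induced complex K/IⁿK →
L/IⁿL → M/IⁿM, which is β⁻¹(IⁿM)/(Im α + IⁿL). Then there is c > 0 such that for every n: (i) the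
image of H_(n+c) → H_n is contained in, hence equal to, the image of H → H_n; (ii) the kernel and
the cokernel of H/IⁿH → H_n are annihilated by I^c. Everything is phrased with representatives in L. -/
theorem result (A : Type u) [CommRing A] [IsNoetherianRing A] (I : Ideal A)
    (K L M : Type u) [AddCommGroup K] [Module A K] [Module.Finite A K] [AddCommGroup L] [Module A L]
    [Module.Finite A L] [AddCommGroup M] [Module A M] [Module.Finite A M]
    (α : K →ₗ[A] L) (β : L →ₗ[A] M) (hαβ : β ∘ₗ α = 0) :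
    ∃ c : ℕ, 0 < c ∧ ∀ n : ℕ,
      (∀ y ∈ (I ^ (n + c) • ⊤ : Submodule A M).comap β,
        ∃ z ∈ LinearMap.ker β, y - z ∈ LinearMap.range α ⊔ (I ^ n • ⊤ : Submodule A L)) ∧
      (∀ z ∈ LinearMap.ker β, z ∈ LinearMap.range α ⊔ (I ^ n • ⊤ : Submodule A L) →
        ∀ a ∈ I ^ c, a • z ∈ LinearMap.range α ⊔ I ^ n • LinearMap.ker β) ∧
      (∀ y ∈ (I ^ n • ⊤ : Submodule A M).comap β, ∀ a ∈ I ^ c,
        ∃ z ∈ LinearMap.ker β, a • y - z ∈ LinearMap.range α ⊔ (I ^ n • ⊤ : Submodule A L)) := by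
  obtain ⟨k₁, hk₁⟩ := Ideal.exists_pow_inf_eq_pow_smul I (LinearMap.range β)
  obtain ⟨k₂, hk₂⟩ := Ideal.exists_pow_inf_eq_pow_smul I (LinearMap.ker β)
  refine ⟨k₁ + k₂ + 1, by omega, fun n => ?_⟩
  have key : ∀ y : L, β y ∈ (I ^ (n + (k₁ + k₂ + 1)) • ⊤ : Submodule A M) →
      ∃ z ∈ LinearMap.ker β, y - z ∈ LinearMap.range α ⊔ (I ^ n • ⊤ : Submodule A L) := by
    intro y hy
    have h1 : β y ∈ I ^ (n + (k₁ + k₂ + 1) - k₁) • ((I ^ k₁ • ⊤ : Submodule A M) ⊓ LinearMap.range β) := by
      rw [← hk₁ _ (by omega)]; exact ⟨hy, β.mem_range_self y⟩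
    have h2 : β y ∈ (I ^ n • ⊤ : Submodule A L).map β := by
      rw [Submodule.map_smul'', Submodule.map_top]
      exact Submodule.smul_mono (Ideal.pow_le_pow_right (by omega)) inf_le_right h1
    obtain ⟨w, hw, hwy⟩ := h2
    refine ⟨y - w, by rw [LinearMap.mem_ker, map_sub, hwy, sub_self], ?_⟩
    rw [sub_sub_cancel]
    exact Submodule.mem_sup_right hw
  refine ⟨fun y hy => key y hy, ?_, ?_⟩
  · intro z hz hz' a ha
    obtain ⟨_, ⟨x, rfl⟩, w, hw, hsum⟩ := Submodule.mem_sup.mp hz'
    have hwk : w ∈ LinearMap.ker β := by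
      have h := congrArg β hsum
      rw [map_add, ← LinearMap.comp_apply, hαβ, LinearMap.zero_apply, zero_add, LinearMap.mem_ker.mp hz] at h
      exact h
    have h1 : a • w ∈ (I ^ (k₁ + k₂ + 1 + n) • ⊤ : Submodule A L) := by
      rw [pow_add, Submodule.mul_smul]
      exact Submodule.smul_mem_smul ha hw
    have h2 : a • w ∈ I ^ (k₁ + k₂ + 1 + n - k₂) • ((I ^ k₂ • ⊤ : Submodule A L) ⊓ LinearMap.ker β) := by
      rw [← hk₂ _ (by omega)]; exact ⟨h1, Submodule.smul_mem _ _ hwk⟩
    rw [← hsum, smul_add, ← map_smul]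
    exact add_mem (Submodule.mem_sup_left (α.mem_range_self _))
      (Submodule.mem_sup_right (Submodule.smul_mono (Ideal.pow_le_pow_right (by omega)) inf_le_right h2))
  · intro y hy a ha
    refine key (a • y) ?_
    rw [map_smul, add_comm n, pow_add, Submodule.mul_smul]
    exact Submodule.smul_mem_smul ha hy

end Groth.Agent.S7153
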