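import Groth.Statements.S7136
import Mathlib
import Groth.Agent.S7153
-- import your own Groth.Agent.* helpers here

set_option autoImplicit false
universe u
open CAlg

namespace Groth.Agent.S7136

set_option maxHeartbeats 400000

/-- Let A be a Noetherian ring, I an ideal, and M, N finite A-modules; write N_n = N/IⁿN, so that
Hom_A(M/IⁿM, N_n) = Hom_A(M, N_n). Then (1) the inverse system (Hom_A(M, N_n))_n, with transition
maps induced by the projections N_k → N_n, is Mittag-Leffler; (2) there is c ≥ 0 such that for all n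
the kernel and the cokernel of Hom_A(M, N)/IⁿHom_A(M, N) → Hom_A(M, N_n) are annihilated by I^c. -/
theorem result (A : Type u) [CommRing A] [IsNoetherianRing A]
    (I : Ideal A) (M N : Type u) [AddCommGroup M] [Module A M] [Module.Finite A M] [AddCommGroup N] [Module A N]
    [Module.Finite A N] :
    let Nq : ℕ → Submodule A N := fun n => I ^ n • ⊤
    let pr : ∀ n k : ℕ, n ≤ k → (N ⧸ Nq k) →ₗ[A] (N ⧸ Nq n) :=
      fun n k hnk => Submodule.mapQ (Nq k) (Nq n) (LinearMap.id : N →ₗ[A] N) (Submodule.smul_mono_left (Ideal.pow_le_pow_right hnk))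
    let red : ∀ n : ℕ, (M →ₗ[A] N) → (M →ₗ[A] N ⧸ Nq n) := fun n φ => (Nq n).mkQ ∘ₗ φ
    (∀ n : ℕ, ∃ m : ℕ, n ≤ m ∧ ∀ (k : ℕ) (hmk : m ≤ k) (hnm : n ≤ m) (ψ : M →ₗ[A] N ⧸ Nq m),
        ∃ ψ' : M →ₗ[A] N ⧸ Nq k, pr n k (hnm.trans hmk) ∘ₗ ψ' = pr n m hnm ∘ₗ ψ) ∧
    ∃ c : ℕ, ∀ n : ℕ,
      (∀ φ : M →ₗ[A] N, red n φ = 0 → ∀ a ∈ I ^ c, a • φ ∈ (I ^ n • ⊤ : Submodule A (M →ₗ[A] N))) ∧
      (∀ (ψ : M →ₗ[A] N ⧸ Nq n), ∀ a ∈ I ^ c, ∃ φ : M →ₗ[A] N, red n φ = a • ψ) := by
  intro Nq pr red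
  classical
  obtain ⟨p, x, hx⟩ := Module.Finite.exists_fin (R := A) (M := M)
  let π : (Fin p → A) →ₗ[A] M := Fintype.linearCombination A x
  have hπ : Function.Surjective π := by
    rw [← LinearMap.range_eq_top, Fintype.range_linearCombination, hx]
  obtain ⟨q, r, hr⟩ := Submodule.fg_iff_exists_fin_generating_family.mp (IsNoetherian.noetherian (LinearMap.ker π))
  let β : (Fin p → N) →ₗ[A] (Fin q → N) :=
    { toFun := fun u j => ∑ i, r j i • u i
      map_add' := fun u v => funext fun j => by simp [smul_add, Finset.sum_add_distrib]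
      map_smul' := fun a u => funext fun j => by simp [Finset.smul_sum, smul_comm a] }
  obtain ⟨c, -, hc⟩ := Groth.Agent.S7153.result A I PUnit (Fin p → N) (Fin q → N) 0 β (LinearMap.comp_zero _)
  have hxπ : ∀ i, π (Pi.single i 1) = x i := fun i => by
    rw [Fintype.linearCombination_apply_single, one_smul]
  have hrel : ∀ (X : Type u) [AddCommGroup X] [Module A X] (φ : M →ₗ[A] X) (j : Fin q),
      ∑ i, r j i • φ (x i) = 0 := by
    intro X _ _ φ j
    have h0 : π (r j) = 0 := by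
      have : r j ∈ LinearMap.ker π := hr ▸ Submodule.subset_span ⟨j, rfl⟩
      exact this
    rw [Fintype.linearCombination_apply] at h0
    have := congrArg φ h0
    simpa [map_sum] using this
  have hmk : ∀ u ∈ LinearMap.ker β, ∃ φ : M →ₗ[A] N, ∀ i, φ (x i) = u i := by
    intro u hu
    let Φ : (Fin p → A) →ₗ[A] N := Fintype.linearCombination A u
    have hle : LinearMap.ker π ≤ LinearMap.ker Φ := by
      rw [← hr, Submodule.span_le]
      rintro _ ⟨j, rfl⟩
      show Φ (r j) = 0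
      rw [Fintype.linearCombination_apply]
      exact congrFun hu j
    refine ⟨(LinearMap.ker π).liftQ Φ hle ∘ₗ (LinearMap.quotKerEquivOfSurjective π hπ).symm.toLinearMap, fun i => ?_⟩
    rw [LinearMap.comp_apply, ← hxπ i]
    have : (LinearMap.quotKerEquivOfSurjective π hπ).symm (π (Pi.single i 1)) =
        Submodule.Quotient.mk (Pi.single i 1) := (LinearEquiv.symm_apply_eq _).mpr rfl
    rw [LinearEquiv.coe_coe, this, Submodule.liftQ_apply, Fintype.linearCombination_apply_single, one_smul]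
  have hext : ∀ {X : Type u} [AddCommGroup X] [Module A X] (φ ψ : M →ₗ[A] X), (∀ i, φ (x i) = ψ (x i)) → φ = ψ :=
    fun φ ψ h => LinearMap.ext_on_range hx h
  have hpi : ∀ {κ : Type} [Fintype κ] (J : Ideal A) (u : κ → N),
      (∀ i, u i ∈ (J • ⊤ : Submodule A N)) → u ∈ (J • ⊤ : Submodule A (κ → N)) := by
    intro κ _ J u hu
    rw [← Finset.univ_sum_single u]
    refine Submodule.sum_mem _ fun i _ => ?_
    have : (J • ⊤ : Submodule A N).map (LinearMap.single A (fun _ => N) i) ≤ J • ⊤ := by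
      rw [Submodule.map_smul'']; exact Submodule.smul_mono le_rfl le_top
    exact this ⟨_, hu i, rfl⟩
  have hcomp : ∀ (J : Ideal A) (w : Fin p → N), w ∈ (J • ⊤ : Submodule A (Fin p → N)) →
      ∀ i, w i ∈ (J • ⊤ : Submodule A N) := by
    intro J w hw i
    have : (J • ⊤ : Submodule A (Fin p → N)).map (LinearMap.proj i) ≤ J • ⊤ := by
      rw [Submodule.map_smul'']; exact Submodule.smul_mono le_rfl le_top
    exact this ⟨w, hw, rfl⟩
  have hlift : ∀ m (ψ : M →ₗ[A] N ⧸ Nq m), ∃ u : Fin p → N,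
      (∀ i, Submodule.Quotient.mk (u i) = ψ (x i)) ∧ β u ∈ (I ^ m • ⊤ : Submodule A (Fin q → N)) := by
    intro m ψ
    choose u hu using fun i => Submodule.Quotient.mk_surjective _ (ψ (x i))
    refine ⟨u, hu, hpi _ _ fun j => ?_⟩
    rw [← Submodule.Quotient.mk_eq_zero (Nq m)]
    show (Nq m).mkQ (∑ i, r j i • u i) = 0
    rw [map_sum, ← hrel _ ψ j]
    exact Finset.sum_congr rfl fun i _ => by rw [map_smul, Submodule.mkQ_apply, hu]
  refine ⟨fun n => ⟨n + c, Nat.le_add_right _ _, fun k hmk' hnm ψ => ?_⟩, c, fun n => ⟨?_, ?_⟩⟩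
  · obtain ⟨u, hu, hβu⟩ := hlift _ ψ
    obtain ⟨z, hz, hzu⟩ := (hc n).1 u hβu
    rw [LinearMap.range_zero, bot_sup_eq] at hzu
    obtain ⟨φ, hφ⟩ := hmk z hz
    refine ⟨(Nq k).mkQ ∘ₗ φ, hext _ _ fun i => ?_⟩
    simp only [LinearMap.comp_apply, pr, hφ, ← hu, Submodule.mkQ_apply, Submodule.mapQ_apply, LinearMap.id_coe, id_eq]
    refine (Submodule.Quotient.eq _).mpr ?_
    rw [← neg_sub]
    exact Submodule.neg_mem _ (hcomp _ _ hzu i)
  · intro φ hφ a ha
    let z : Fin p → N := fun i => φ (x i)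
    have hz : z ∈ LinearMap.ker β := funext fun j => hrel _ φ j
    have hz' : z ∈ (I ^ n • ⊤ : Submodule A (Fin p → N)) :=
      hpi _ _ fun i => (Submodule.Quotient.mk_eq_zero (Nq n)).mp (LinearMap.congr_fun hφ (x i))
    have h2 := (hc n).2.1 z hz (Submodule.mem_sup_right hz') a ha
    rw [LinearMap.range_zero, bot_sup_eq] at h2
    let ev : (M →ₗ[A] N) →ₗ[A] (Fin p → N) := LinearMap.pi fun i => LinearMap.applyₗ (x i)
    have hev : Function.Injective ev := fun φ ψ h => hext φ ψ fun i => congrFun h i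
    have hrange : LinearMap.ker β ≤ LinearMap.range ev := fun u hu => by
      obtain ⟨φ', hφ'⟩ := hmk u hu; exact ⟨φ', funext hφ'⟩
    have h3 : a • z ∈ (I ^ n • ⊤ : Submodule A (M →ₗ[A] N)).map ev := by
      rw [Submodule.map_smul'', Submodule.map_top]
      exact Submodule.smul_mono le_rfl hrange h2
    obtain ⟨χ, hχ, hχe⟩ := h3
    rwa [hev (hχe.trans (map_smul ev a φ).symm)] at hχ
  · intro ψ a ha
    obtain ⟨u, hu, hβu⟩ := hlift _ ψ
    obtain ⟨z, hz, hzu⟩ := (hc n).2.2 u hβu a ha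
    rw [LinearMap.range_zero, bot_sup_eq] at hzu
    obtain ⟨φ, hφ⟩ := hmk z hz
    refine ⟨φ, hext _ _ fun i => ?_⟩
    simp only [red, LinearMap.comp_apply, LinearMap.smul_apply, hφ, ← hu, Submodule.mkQ_apply, ← Submodule.Quotient.mk_smul]
    refine (Submodule.Quotient.eq _).mpr ?_
    rw [← neg_sub]
    exact Submodule.neg_mem _ (hcomp _ _ hzu i)

end Groth.Agent.S7136
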