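import Groth.Statements.S7137
import Mathlib
import Groth.Agent.PDAddLib.Basic
-- import your own Groth.Agent.* helpers here

set_option autoImplicit false
universe u
open CategoryTheory
open CAlg

namespace Groth.Agent.S7137

/-- Take a Noetherian local ring R, an ideal I and a finite module E ≠ 0 over R/I. Suppose that R/I, as
an R-module, and E, as an R/I-module, both have finite projective dimension. Then E, as an R-module,
has finite projective dimension too, and it equals pd_R(R/I) + pd_{R/I}(E). -/
theorem result (R : Type u) [CommRing R] [IsNoetherianRing R] [IsLocalRing R]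
    (I : Ideal R) (E : Type u) [AddCommGroup E] [Module (R ⧸ I) E] [Module R E] [IsScalarTower R (R ⧸ I) E]
    [Module.Finite (R ⧸ I) E] [Nontrivial E]
    (h1 : projectiveDimension (ModuleCat.of R (R ⧸ I)) ≠ ⊤)
    (h2 : projectiveDimension (ModuleCat.of (R ⧸ I) E) ≠ ⊤) :
    projectiveDimension (ModuleCat.of R E) ≠ ⊤ ∧
      projectiveDimension (ModuleCat.of R E) =
        projectiveDimension (ModuleCat.of R (R ⧸ I)) + projectiveDimension (ModuleCat.of (R ⧸ I) E) := by
  haveI : Nontrivial (R ⧸ I) := Module.nontrivial (R ⧸ I) E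
  have key : ∀ {S : Type u} [CommRing S] (X : ModuleCat.{u} S), Nontrivial X → projectiveDimension X ≠ ⊤ →
      ∃ m : ℕ, projectiveDimension X = (m : WithBot ℕ∞) := by
    intro S _ X hX hfin
    have hbot : projectiveDimension X ≠ ⊥ := by
      rw [ne_eq, projectiveDimension_eq_bot_iff, ModuleCat.isZero_iff_subsingleton, not_subsingleton_iff_nontrivial]
      exact hX
    generalize projectiveDimension X = d at hfin hbot ⊢
    induction d with
    | bot => exact absurd rfl hbot
    | coe d =>
      induction d with
      | top => exact absurd rfl hfin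
      | coe d => exact ⟨d, rfl⟩
  obtain ⟨m, hm⟩ := key (ModuleCat.of R (R ⧸ I)) ‹_› h1
  obtain ⟨n, hn⟩ := key (ModuleCat.of (R ⧸ I) E) ‹_› h2
  haveI : HasProjectiveDimensionLT (ModuleCat.of R (R ⧸ I)) (m + 1) := (projectiveDimension_le_iff _ m).1 hm.le
  have hm' : ¬ HasProjectiveDimensionLT (ModuleCat.of R (R ⧸ I)) m :=
    (projectiveDimension_ge_iff _ m).1 hm.ge
  haveI : Module.Finite R E := Module.Finite.trans (R ⧸ I) E
  obtain ⟨hle, hne⟩ := PDAddLib.main I m (PDAddLib.ext_residue_ne_zero _ m hm') n E
    ((projectiveDimension_le_iff _ n).1 hn.le) ((projectiveDimension_ge_iff _ n).1 hn.ge)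
  have heq : projectiveDimension (ModuleCat.of R E) = ((m + n : ℕ) : WithBot ℕ∞) := by
    refine le_antisymm ((projectiveDimension_le_iff _ _).2 hle) ((projectiveDimension_ge_iff _ _).2 fun h => hne ?_)
    exact h.subsingleton _ (m + n) (m + n) le_rfl _
  refine ⟨?_, ?_⟩
  · rw [projectiveDimension_ne_top_iff]
    exact ⟨m + n, hle⟩
  · rw [heq, hm, hn, Nat.cast_add]

end Groth.Agent.S7137
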