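import Groth.Statements.S7138
import Groth.Agent.SepDescentLib.Main
import Groth.Agent.S0549
-- import your own Groth.Agent.* helpers here

set_option autoImplicit false
universe u
open EtAlg

namespace Groth.Agent.S7138

open TensorProduct in
/-- Let A be a discrete valuation ring, K its field of fractions, A^ its completion and K^ the fraction
field of A^. Every finite separable extension M of K^ arises by base change: M ≅ K^ ⊗_K L as
K^-algebras for some finite separable extension L/K. -/
theorem result (A K : Type u) [CommRing A] [IsDomain A]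
    [IsDiscreteValuationRing A] [Field K] [Algebra A K] [IsFractionRing A K]
    (Kh : Type u) [Field Kh] [Algebra (AdicCompletion (IsLocalRing.maximalIdeal A) A) Kh]
    [IsFractionRing (AdicCompletion (IsLocalRing.maximalIdeal A) A) Kh] [Algebra A Kh] [Algebra K Kh]
    [IsScalarTower A (AdicCompletion (IsLocalRing.maximalIdeal A) A) Kh] [IsScalarTower A K Kh]
    (M : Type u) [Field M] [Algebra Kh M] [FiniteDimensional Kh M] [Algebra.IsSeparable Kh M] :
    ∃ (L : Type u) (_ : Field L) (_ : Algebra K L), FiniteDimensional K L ∧ Algebra.IsSeparable K L ∧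
      Nonempty ((Kh ⊗[K] L) ≃ₐ[Kh] M) := by
  let m := IsLocalRing.maximalIdeal A
  let D := AdicCompletion m A
  obtain ⟨_, _⟩ := (Groth.Agent.S0549.result A).1 ⟨inferInstance, inferInstance⟩
  have hmap : IsLocalRing.maximalIdeal D = m.map (algebraMap A D) := AdicCompletion.maximalIdeal_eq_map
  have hfg : m.FG := IsNoetherian.noetherian _
  haveI : IsAdicComplete (IsLocalRing.maximalIdeal D) D := by
    rw [hmap]
    exact (IsAdicComplete.map_algebraMap_iff _ _).2 (AdicCompletion.isAdicComplete (M := A) hfg)
  obtain ⟨π, hπ⟩ := IsDiscreteValuationRing.exists_irreducible A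
  refine SepDescentLib.exists_descent (A := A) (D := D) π ?_ fun d => ?_
  · exact hmap.trans ((congrArg (Ideal.map (algebraMap A D)) hπ.maximalIdeal_eq).trans (by rw [Ideal.map_span, Set.image_singleton]))
  · obtain ⟨a, ha⟩ := Ideal.Quotient.mk_surjective (AdicCompletion.evalOneₐ m d)
    refine ⟨a, ?_⟩
    rw [hmap, ← AdicCompletion.ker_evalOneₐ_eq_map _ hfg]
    show AdicCompletion.evalOneₐ m (d - algebraMap A D a) = 0
    rw [map_sub, AlgHom.commutes, ← ha, Ideal.Quotient.algebraMap_eq, sub_self]

end Groth.Agent.S7138
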