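import Groth.Statements.S7139
import Groth.Agent.InertiaEtaleLib.Interp
import Groth.Agent.InertiaEtaleLib.Element

set_option autoImplicit false
universe u
open EtAlg

namespace Groth.Agent.S7139

open scoped Pointwise

/-- A is a discrete valuation ring, K its field of fractions, and L/K is finite Galois with Galois group
G. Write B for the integral closure of A in L, equipped with the induced G-action, m a maximal ideal
of B and I ⊆ G its inertia group. Denote by B' the integral closure of A inside the fixed field L^I,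
with a map to B compatible with L^I ⊆ L. Then the image of B' in B is the ring of invariants B^I,
and A → B'_{m'} is étale, where m' = m ∩ B'. -/
theorem result (A K L B : Type u) [CommRing A] [IsDomain A]
    [IsDiscreteValuationRing A] [Field K] [Field L] [Algebra A K] [IsFractionRing A K] [Algebra K L]
    [Algebra A L] [IsScalarTower A K L] [FiniteDimensional K L] [IsGalois K L]
    [CommRing B] [Algebra A B] [Algebra B L] [IsScalarTower A B L] [IsIntegralClosure B A L]
    [MulSemiringAction (L ≃ₐ[K] L) B]
    (hact : ∀ (σ : L ≃ₐ[K] L) (b : B), algebraMap B L (σ • b) = σ (algebraMap B L b))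
    (m : Ideal B) [m.IsMaximal]
    (B' : Type u) [CommRing B'] [Algebra A B'] [Algebra B' B] [IsScalarTower A B' B] [Algebra B' L]
    [IsScalarTower B' B L]
    [Algebra B' (IntermediateField.fixedField (m.inertia (L ≃ₐ[K] L)))]
    [IsScalarTower B' (IntermediateField.fixedField (m.inertia (L ≃ₐ[K] L))) L]
    [IsIntegralClosure B' A (IntermediateField.fixedField (m.inertia (L ≃ₐ[K] L)))] :
    (∀ b : B, (∀ σ ∈ m.inertia (L ≃ₐ[K] L), σ • b = b) ↔ b ∈ Set.range (algebraMap B' B)) ∧
      Algebra.Etale A (Localization.AtPrime (m.comap (algebraMap B' B))) := by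
  have hBL : Function.Injective (algebraMap B L) := IsIntegralClosure.algebraMap_injective B A L
  have hB'F : Function.Injective
      (algebraMap B' (IntermediateField.fixedField (m.inertia (L ≃ₐ[K] L)))) :=
    IsIntegralClosure.algebraMap_injective B' A _
  have hcomp : ∀ x : B', algebraMap B L (algebraMap B' B x) =
      (algebraMap B' (IntermediateField.fixedField (m.inertia (L ≃ₐ[K] L))) x : L) := fun x => by
    rw [← IsScalarTower.algebraMap_apply, IsScalarTower.algebraMap_apply B'
      (IntermediateField.fixedField (m.inertia (L ≃ₐ[K] L))) L]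
    rfl
  have hB'B : Function.Injective (algebraMap B' B) := fun x y h =>
    hB'F (Subtype.ext (by rw [← hcomp, ← hcomp, h]))
  have hfixB' : ∀ (x : B'), ∀ σ ∈ m.inertia (L ≃ₐ[K] L), σ • algebraMap B' B x = algebraMap B' B x :=
    fun x σ hσ => hBL (by
      rw [hact, hcomp]
      exact (IntermediateField.mem_fixedField_iff _ _).1 (Subtype.mem _) σ hσ)
  have : IsScalarTower A (IntermediateField.fixedField (m.inertia (L ≃ₐ[K] L))) L :=
    IsScalarTower.of_algebraMap_eq fun x => by
      rw [Algebra.algebraMap_eq_smul_one x, Algebra.algebraMap_eq_smul_one x]; rfl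
  have hrange : ∀ b : B, (∀ σ ∈ m.inertia (L ≃ₐ[K] L), σ • b = b) ↔ b ∈ Set.range (algebraMap B' B) := by
    refine fun b => ⟨fun hb => ?_, ?_⟩
    · have hmem : algebraMap B L b ∈ IntermediateField.fixedField (m.inertia (L ≃ₐ[K] L)) :=
        (IntermediateField.mem_fixedField_iff _ _).2 fun σ hσ => by rw [← hact, hb σ hσ]
      have hint : IsIntegral A (⟨_, hmem⟩ : IntermediateField.fixedField (m.inertia (L ≃ₐ[K] L))) := by
        refine (isIntegral_algHom_iff (IsScalarTower.toAlgHom A _ L) Subtype.val_injective).1 ?_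
        show IsIntegral A (algebraMap B L b)
        exact (IsIntegralClosure.isIntegral_iff (A := B)).2 ⟨b, rfl⟩
      obtain ⟨x, hx⟩ := (IsIntegralClosure.isIntegral_iff (A := B')).1 hint
      exact ⟨x, hBL (by rw [hcomp, hx])⟩
    · rintro ⟨x, rfl⟩
      exact hfixB' x
  refine ⟨hrange, ?_⟩
  have hAK : ∀ (σ : L ≃ₐ[K] L) (x : A), σ • algebraMap A B x = algebraMap A B x := fun σ x => hBL (by
    rw [hact, ← IsScalarTower.algebraMap_apply, IsScalarTower.algebraMap_apply A K L, AlgEquiv.commutes])
  have hA : ∀ y : B, (∀ σ : L ≃ₐ[K] L, σ • y = y) → y ∈ Set.range (algebraMap A B) := fun y hy => by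
    obtain ⟨z, hz⟩ := (IsGalois.mem_range_algebraMap_iff_fixed (F := K) (algebraMap B L y)).2
      fun σ => by rw [← hact, hy σ]
    have hint : IsIntegral A z := by
      refine (isIntegral_algHom_iff (IsScalarTower.toAlgHom A K L) (algebraMap K L).injective).1 ?_
      show IsIntegral A (algebraMap K L z)
      rw [hz]
      exact (IsIntegralClosure.isIntegral_iff (A := B)).2 ⟨y, rfl⟩
    obtain ⟨x, rfl⟩ := IsIntegrallyClosed.isIntegral_iff.1 hint
    exact ⟨x, hBL (by rw [← IsScalarTower.algebraMap_apply, IsScalarTower.algebraMap_apply A K L, hz])⟩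
  have hAinj : Function.Injective (algebraMap A B) := fun x y h => IsFractionRing.injective A K <|
    (algebraMap K L).injective <| by
      rw [← IsScalarTower.algebraMap_apply A K L, ← IsScalarTower.algebraMap_apply A K L,
        IsScalarTower.algebraMap_apply A B L, h, ← IsScalarTower.algebraMap_apply A B L]
  obtain ⟨a, haI, ham, hae, hsep⟩ := InertiaEtaleLib.exists_element (G := L ≃ₐ[K] L) m
  obtain ⟨a', rfl⟩ := (hrange a).1 haI
  obtain ⟨P, -, ⟨s, hs, hg⟩, hstd⟩ := InertiaEtaleLib.exists_isStandardEtale
    (A := A) (B := B') (R := B) (m.inertia (L ≃ₐ[K] L)) hAinj hB'B hA hAK hfixB' a'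
  set g := Polynomial.aeval a' (Polynomial.derivative P)
  set m' := m.comap (algebraMap B' B)
  have hgm : g ∉ m' := by
    intro hmem
    rw [Ideal.mem_comap, hg] at hmem
    obtain ⟨c, hc, hcq⟩ := (Ideal.IsPrime.prod_mem_iff (p := m)).1 hmem
    refine hsep c.out (fun h => (hs c).1 hc ?_) ?_
    · rw [← QuotientGroup.out_eq' c, QuotientGroup.eq, mul_one, inv_mem_iff]
      exact h
    · rw [← neg_mem_iff, neg_sub]
      exact hcq
  let S := Localization.Away g
  let T := Localization.Away (algebraMap B' S a')
  have : IsLocalization.Away (g * a') T := mul_comm a' g ▸ IsLocalization.Away.mul S T g a'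
  have : Algebra.IsStandardEtale A T := Algebra.IsStandardEtale.of_isLocalizationAway (algebraMap B' S a')
  have : IsLocalization m'.primeCompl T := by
    refine IsLocalization.of_le (M := Submonoid.powers (g * a')) (N := m'.primeCompl) ?_ ?_
    · exact Submonoid.powers_le.2 fun h =>
        ((Ideal.IsPrime.mem_or_mem inferInstance h).elim hgm ham)
    · intro x hx
      suffices a' ∈ (Ideal.span {x}).radical by
        obtain ⟨n, hn⟩ := this
        obtain ⟨c, hc⟩ := Ideal.mem_span_singleton.1 hn
        refine isUnit_of_dvd_unit (map_dvd (algebraMap B' T) (Dvd.intro c hc.symm)) ?_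
        rw [map_pow]
        exact (isUnit_of_dvd_unit (map_dvd (algebraMap B' T) (dvd_mul_left a' g))
          (IsLocalization.Away.algebraMap_isUnit (g * a'))).pow n
      rw [Ideal.radical_eq_sInf, Ideal.mem_sInf]
      rintro 𝔭 ⟨hxp, hp⟩
      rw [Ideal.span_singleton_le_iff_mem] at hxp
      have : IsDomain B := Function.Injective.isDomain _ hBL
      have hBA : Algebra.IsIntegral A B := IsIntegralClosure.isIntegral_algebra A L
      have hBB' : Algebra.IsIntegral B' B := Algebra.IsIntegral.tower_top A
      obtain ⟨𝔓, -, h𝔓, hcomap⟩ := Ideal.exists_ideal_over_prime_of_isIntegral 𝔭 (⊥ : Ideal B)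
        (by rw [Ideal.comap_bot_of_injective _ hB'B]; exact bot_le)
      have hx0 : x ≠ 0 := fun h => hx (h ▸ zero_mem _)
      have hne : 𝔓 ≠ ⊥ := fun h => hx0 (hB'B (by
        have : algebraMap B' B x ∈ 𝔓 := Ideal.mem_comap.1 (hcomap ▸ hxp)
        rw [h, Ideal.mem_bot] at this
        rw [this, map_zero]))
      have : SMulCommClass (L ≃ₐ[K] L) A B := ⟨fun σ r y => by
        rw [Algebra.smul_def, Algebra.smul_def, smul_mul', hAK]⟩
      have : Algebra.IsInvariant A B (L ≃ₐ[K] L) := ⟨fun y hy => hA y hy⟩
      have h1 : 𝔓.under A = m.under A := by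
        have e1 : (𝔓.under A).IsMaximal := (Ideal.IsPrime.under A 𝔓).isMaximal
          (fun h => hne (Ideal.eq_bot_of_comap_eq_bot h))
        have e2 : (m.under A).IsMaximal := Ideal.isMaximal_comap_of_isIntegral_of_isMaximal m
        rw [IsLocalRing.eq_maximalIdeal e1, IsLocalRing.eq_maximalIdeal e2]
      obtain ⟨σ, hσ⟩ := Algebra.IsInvariant.exists_smul_of_under_eq A B (L ≃ₐ[K] L) m 𝔓 h1.symm
      have hσm : σ • m ≠ m := fun h => hx (by
        show algebraMap B' B x ∈ m
        rw [← h, ← hσ, ← Ideal.mem_comap, hcomap]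
        exact hxp)
      rw [← hcomap, Ideal.mem_comap, hσ]
      exact hae σ hσm
  exact Algebra.Etale.of_equiv
    ((IsLocalization.algEquiv m'.primeCompl T (Localization.AtPrime m')).restrictScalars A)

end Groth.Agent.S7139
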