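import Groth.Statements.S7142
import Groth.Agent.KHeartLib.ProjEuler
import Mathlib.Algebra.Homology.DerivedCategory.SingleTriangle
-- import your own Groth.Agent.* helpers here

set_option autoImplicit false
set_option linter.style.haveILetI false
universe u
open CategoryTheory CategoryTheory.Limits
attribute [local instance] HasDerivedCategory.standard
open KZero

namespace Groth.Agent.S7142

open KHeartLib HomologicalComplex

variable {R : Type u} [CommRing R]

/-- Perfect objects. -/
abbrev perf (R : Type u) [CommRing R] : ObjectProperty (Dual.D R) := fun K => DRing.IsPerfect R K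

theorem bdd_single {M : ModuleCat.{u} R} (hM : FProj R M) (n : ℤ) :
    Bdd ((single (ModuleCat.{u} R) (ComplexShape.up ℤ) n).obj M) := by
  refine ⟨fun i => ?_, n, n, fun i hi => isZero_single_obj_X _ n M i (by omega)⟩
  by_cases h : i = n
  · subst h
    exact fproj_of_iso (singleObjXSelf (ComplexShape.up ℤ) i M).symm hM
  · exact fproj_of_isZero (isZero_single_obj_X _ n M i h)

theorem perf_single {M : ModuleCat.{u} R} (hM : FProj R M) (n : ℤ) :
    perf R ((DerivedCategory.singleFunctor (ModuleCat.{u} R) n).obj M) := by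
  obtain ⟨hp, a, b, hz⟩ := bdd_single hM n
  exact ⟨_, a, b, hz, hp,
    ⟨((DerivedCategory.singleFunctorIsoCompQ (ModuleCat.{u} R) n).app M).symm⟩⟩

theorem chi_single {M : ModuleCat.{u} R} (hM : FProj R M) :
    chi ((single (ModuleCat.{u} R) (ComplexShape.up ℤ) 0).obj M) = KZero.clSub (FProj R) M := by
  rw [chi, finsum_eq_single _ 0 fun i hi => ?_]
  · rw [Int.negOnePow_zero, Units.val_one, one_smul]
    exact clSub_congr _ (singleObjXSelf (ComplexShape.up ℤ) 0 M)
  · rw [clSub_eq_zero _ (fproj_of_isZero (isZero_single_obj_X _ 0 M i hi))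
      (isZero_single_obj_X _ 0 M i hi), smul_zero]

theorem clTr_single_perf {M : ModuleCat.{u} R} (hM : FProj R M) (n : ℤ) :
    KZero.clTr (perf R) ((DerivedCategory.singleFunctor (ModuleCat.{u} R) n).obj M) =
      ((n.negOnePow : ℤˣ) : ℤ) •
        KZero.clTr (perf R) ((DerivedCategory.singleFunctor (ModuleCat.{u} R) 0).obj M) := by
  haveI : (perf R).IsClosedUnderIsomorphisms := ⟨fun e h => DRingLib.isPerfect_of_iso e h⟩
  haveI : (perf R).ContainsZero := ⟨_, isZero_zero _, DRingLib.isPerfect_of_isZero (isZero_zero _)⟩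
  have step : ∀ m : ℤ,
      KZero.clTr (perf R) ((DerivedCategory.singleFunctor (ModuleCat.{u} R) m).obj M) =
      -KZero.clTr (perf R) ((DerivedCategory.singleFunctor (ModuleCat.{u} R) (m + 1)).obj M) := by
    intro m
    have e : ((DerivedCategory.singleFunctor (ModuleCat.{u} R) (m + 1)).obj M)⟦(1 : ℤ)⟧ ≅
        (DerivedCategory.singleFunctor (ModuleCat.{u} R) m).obj M :=
      ((DerivedCategory.singleFunctors (ModuleCat.{u} R)).shiftIso 1 m (m + 1) (by omega)).app M
    rw [← clTr_congr _ e, clTr_shift_one _ (perf_single hM _)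
      ((perf R).prop_of_iso e.symm (perf_single hM _))]
  induction n using Int.induction_on with
  | zero => simp
  | succ n ih =>
    rw [neg_eq_iff_eq_neg.1 (step n).symm, ih, Int.negOnePow_succ, Units.val_neg, neg_smul]
  | pred n ih =>
    rw [step (-(n : ℤ) - 1), show -(n : ℤ) - 1 + 1 = -(n : ℤ) by omega, ih,
      show Int.negOnePow (-(n : ℤ)) = -Int.negOnePow (-(n : ℤ) - 1) by
        rw [← Int.negOnePow_succ, show -(n : ℤ) - 1 + 1 = -(n : ℤ) by omega],
      Units.val_neg, neg_smul, neg_neg]


/-- Let R be a ring. There is an isomorphism K₀(R) ≅ K₀(D_perf(R)) between the Grothendieck group of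
finite projective R-modules and that of the triangulated category of perfect objects of D(R),
sending the class of a finite projective module M to the class of M placed in degree 0; under its
inverse the class of a bounded complex M^• of finite projective modules (vanishing outside [a, b])
goes to Σ_i (-1)^i [M^i]. -/
theorem result (R : Type u) [CommRing R] :
    ∃ φ : KZero.K0sub (fun M : ModuleCat.{u} R => Module.Finite R M ∧ Module.Projective R M) ≃+
        KZero.K0tr (fun K : Dual.D R => DRing.IsPerfect R K),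
      (∀ (M : Type u) [AddCommGroup M] [Module R M], Module.Finite R M → Module.Projective R M →
        φ (KZero.clSub (fun M : ModuleCat.{u} R => Module.Finite R M ∧ Module.Projective R M) (ModuleCat.of R M)) =
          KZero.clTr (fun K : Dual.D R => DRing.IsPerfect R K) (Dual.inD R M)) ∧
      ∀ (E : DRing.Cx R) (a b : ℤ), DRing.VanishesOutside E a b → DRing.TermwiseFiniteProjective E →
        φ.symm (KZero.clTr (fun K : Dual.D R => DRing.IsPerfect R K) (DRing.toD E)) =
          (Finset.Icc a b).sum (fun i => (i.negOnePow : ℤ) •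
            KZero.clSub (fun M : ModuleCat.{u} R => Module.Finite R M ∧ Module.Projective R M) (E.X i)) := by
  haveI hiso : (perf R).IsClosedUnderIsomorphisms := ⟨fun e h => DRingLib.isPerfect_of_iso e h⟩
  haveI hzero : (perf R).ContainsZero :=
    ⟨_, isZero_zero _, DRingLib.isPerfect_of_isZero (isZero_zero _)⟩
  obtain ⟨φ₀, hφ⟩ := exists_lift_sub (FProj R)
    (fun M => KZero.clTr (perf R) ((DerivedCategory.singleFunctor (ModuleCat.{u} R) 0).obj M))
    (fun S hS h₁ h₂ h₃ => clTr_add (perf R) hS.singleTriangle hS.singleTriangle_distinguished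
      (perf_single h₁ 0) (perf_single h₂ 0) (perf_single h₃ 0))
  obtain ⟨ψ₀, hψ⟩ := exists_lift_tr (perf R) chiD
    (fun T hT h₁ h₂ _ => chiD_add T hT h₁ h₂)
  have hinv : ∀ x, ψ₀ (φ₀ x) = x := fun x => DFunLike.congr_fun
    (show ψ₀.comp φ₀ = AddMonoidHom.id _ from
      AddMonoidHom.eq_of_eqOn_dense (clSub_closure_eq_top (FProj R)) (by
        rintro _ ⟨M, hM, rfl⟩
        rw [AddMonoidHom.comp_apply, hφ M hM, hψ _ (perf_single hM 0), AddMonoidHom.id_apply,
          chiD_eq (bdd_single hM 0)
            ((DerivedCategory.singleFunctorIsoCompQ (ModuleCat.{u} R) 0).app M).symm,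
          chi_single hM])) x
  have hsurj : ∀ y, y ∈ φ₀.range := by
    have htop : φ₀.range = ⊤ := by
      rw [eq_top_iff, ← clTr_closure_eq_top (perf R), AddSubgroup.closure_le]
      rintro _ ⟨K, hK, rfl⟩
      obtain ⟨E, ⟨hp, a, b, hz⟩, ⟨e⟩⟩ := exists_bdd_of_isPerfect hK
      rw [← clTr_congr (perf R) e]
      have hd : DRingLib.Devissable (fun K : DerivedCategory (ModuleCat.{u} R) =>
          DRing.IsPerfect R K ∧ KZero.clTr (perf R) K ∈ φ₀.range) :=
        { iso := fun e h => ⟨DRingLib.isPerfect_of_iso e h.1, clTr_congr (perf R) e ▸ h.2⟩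
          zero := fun h => ⟨DRingLib.isPerfect_of_isZero h,
            (clTr_eq_zero (perf R) (DRingLib.isPerfect_of_isZero h) h).symm ▸ zero_mem _⟩
          ext := fun T hT h₁ h₃ =>
            have h₂ := DRingLib.isPerfect_obj₂ T hT h₁.1 h₃.1
            ⟨h₂, (clTr_add (perf R) T hT h₁.1 h₂ h₃.1).symm ▸ add_mem h₁.2 h₃.2⟩ }
      refine (hd.of_terms a (b + 1 - a).toNat E (fun i hi => hz i (by omega)) fun i =>
        ⟨perf_single (hp i) i, ?_⟩).2
      rw [clTr_single_perf (hp i) i, ← hφ _ (hp i)]
      exact φ₀.range.zsmul_mem ⟨_, rfl⟩ _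
    exact fun y => htop ▸ AddSubgroup.mem_top y
  let φ := AddEquiv.ofBijective φ₀ ⟨Function.LeftInverse.injective hinv, hsurj⟩
  have hsymm : ∀ y, φ.symm y = ψ₀ y := fun y => by
    obtain ⟨x, rfl⟩ := hsurj y
    rw [hinv]
    exact φ.symm_apply_apply x
  refine ⟨φ, fun M _ _ h₁ h₂ => hφ _ ⟨h₁, h₂⟩, fun E a b hv hp => ?_⟩
  have hE : Bdd E := ⟨hp, a, b, hv⟩
  rw [hsymm, hψ _ ⟨E, a, b, hv, hp, ⟨Iso.refl _⟩⟩, chiD_eq hE (Iso.refl _), chi]
  refine finsum_eq_sum_of_support_subset _ fun i hi => ?_
  by_contra hc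
  refine hi ?_
  dsimp only
  rw [clSub_eq_zero (FProj R) (hp i) (hv i (by simp only [Finset.coe_Icc, Set.mem_Icc, not_and, not_le] at hc; omega)),
    smul_zero]

end Groth.Agent.S7142
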