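import Groth.Statements.S7143
import Mathlib
-- import your own Groth.Agent.* helpers here

set_option autoImplicit false
universe u
open CategoryTheory
open EtAlg

namespace Groth.Agent.S7143

set_option maxHeartbeats 400000
universe v

lemma flat_ideal_of_pi {ι : Type v} (R : ι → Type v) [∀ i, CommRing (R i)] [∀ i, IsDomain (R i)]
    [∀ i, ValuationRing (R i)] (I : Ideal (∀ i, R i)) : Module.Flat (∀ i, R i) I := by
  classical
  haveI hbez : IsBezout (∀ i, R i) := by
    rw [IsBezout.iff_span_pair_isPrincipal]
    intro a b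
    let r : ∀ i, R i := fun i => if a i ∣ b i then 1 else 0
    let s : ∀ i, R i := fun i => if a i ∣ b i then 0 else 1
    let c := r * a + s * b
    refine ⟨c, ?_⟩
    apply le_antisymm
    · rw [Ideal.span_le]
      have key : ∀ i, c i ∣ a i ∧ c i ∣ b i := by
        intro i
        by_cases h : a i ∣ b i
        · have : c i = a i := by simp [c, r, s, h]
          exact ⟨this ▸ dvd_rfl, this ▸ h⟩
        · have : c i = b i := by simp [c, r, s, h]
          exact ⟨this ▸ ((ValuationRing.dvd_total (a i) (b i)).resolve_left h), this ▸ dvd_rfl⟩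
      rintro x (rfl | hx)
      · choose q hq using fun i => (key i).1
        exact Ideal.mem_span_singleton'.mpr ⟨q, funext fun i => by rw [Pi.mul_apply, hq i, mul_comm]⟩
      · rw [Set.mem_singleton_iff.mp hx]
        choose q hq using fun i => (key i).2
        exact Ideal.mem_span_singleton'.mpr ⟨q, funext fun i => by rw [Pi.mul_apply, hq i, mul_comm]⟩
    · rw [Ideal.submodule_span_eq, Ideal.span_singleton_le_iff_mem]
      exact Ideal.add_mem _ (Ideal.mul_mem_left _ _ (Ideal.subset_span (by simp)))
        (Ideal.mul_mem_left _ _ (Ideal.subset_span (by simp)))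
  have hprin : ∀ c : ∀ i, R i, Module.Flat (∀ i, R i) (Ideal.span {c}) := by
    intro c
    let e : ∀ i, R i := fun i => if c i = 0 then 0 else 1
    have huniq : ∀ r r' : ∀ i, R i, r * c = r' * c → e * r = e * r' := by
      intro r r' h
      funext i
      by_cases hc : c i = 0
      · simp [e, hc]
      · have h' := congrFun h i
        simp only [Pi.mul_apply] at h'
        simp [e, hc, mul_right_cancel₀ hc h']
    have hx : ∀ x : Ideal.span {c}, ∃ r, r * c = x.1 := fun x => Ideal.mem_span_singleton'.mp x.2
    choose f hf using hx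
    let i : Ideal.span {c} →ₗ[∀ i, R i] (∀ i, R i) :=
      { toFun := fun x => e * f x
        map_add' := fun x y => by
          rw [← mul_add]
          exact huniq _ _ (by rw [add_mul, hf, hf, hf]; rfl)
        map_smul' := fun t x => by
          simp only [smul_eq_mul, RingHom.id_apply]
          rw [mul_left_comm]
          exact huniq _ _ (by rw [mul_assoc, hf, hf]; rfl) }
    refine Module.Flat.of_retract i (LinearMap.toSpanSingleton _ _
      (⟨c, Ideal.subset_span rfl⟩ : Ideal.span {c})) (LinearMap.ext fun x => Subtype.ext ?_)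
    change (e * f x) * c = x.1
    rw [← hf x]
    funext i
    by_cases hc : c i = 0 <;> simp [e, hc]
  rw [Module.Flat.iff_forall_isTrivialRelation]
  intro l f x h
  obtain ⟨c, hc⟩ := (IsBezout.isPrincipal_of_FG (Ideal.span (Set.range fun k => (x k).1))
    (Submodule.fg_span (Set.finite_range _))).principal
  rw [Ideal.submodule_span_eq] at hc
  have hle : Ideal.span {c} ≤ I := hc ▸ Ideal.span_le.mpr (by rintro _ ⟨k, rfl⟩; exact (x k).2)
  let x' : Fin l → Ideal.span {c} := fun k => ⟨(x k).1, hc ▸ Ideal.subset_span ⟨k, rfl⟩⟩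
  have h' : ∑ k, f k • x' k = 0 := by
    apply Subtype.ext
    have := congrArg Subtype.val h
    simpa [x'] using this
  haveI := hprin c
  obtain ⟨κ, a, y, hy, ha⟩ := Module.Flat.iff_forall_isTrivialRelation.mp (hprin c) h'
  refine ⟨κ, a, fun j => ⟨(y j).1, hle (y j).2⟩, fun k => Subtype.ext ?_, ha⟩
  have := congrArg Subtype.val (hy k)
  simpa [x'] using this


/-- Every normal domain A with fraction field K is the fibre product V ×_L K for suitable rings V and L
with maps A → V, V → L, K → L (together with the given A → K), where every ideal of V is flat (weak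
dimension at most one) and V → L is flat, injective and an epimorphism of rings. -/
theorem result (A K : Type u) [CommRing A] [IsDomain A] [Field K] [Algebra A K]
    [IsFractionRing A K] [IsIntegrallyClosed A] :
    ∃ (V L : Type u) (_ : CommRing V) (_ : CommRing L) (f : A →+* V) (g : V →+* L) (h : K →+* L),
      g.comp f = h.comp (algebraMap A K) ∧
      (∀ I : Ideal V, Module.Flat V I) ∧ g.Flat ∧ Function.Injective g ∧ Epi (CommRingCat.ofHom g) ∧
      ∀ (v : V) (k : K), g v = h k → ∃! a : A, f a = v ∧ algebraMap A K a = k := by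
  classical
  let R : Subring K := (algebraMap A K).range
  haveI : IsIntegrallyClosedIn R K := by
    rw [Subring.isIntegrallyClosedIn_iff]
    intro x hx
    obtain ⟨p, hp, hpx⟩ := hx
    have : IsIntegral A x := by
      have hsurj : Function.Surjective (algebraMap A K).rangeRestrict :=
        (algebraMap A K).rangeRestrict_surjective
      obtain ⟨q, hq, hqd, hqm⟩ :=
        Polynomial.lifts_and_degree_eq_and_monic (f := (algebraMap A K).rangeRestrict)
          ((Polynomial.mem_lifts _).mpr (Polynomial.map_surjective _ hsurj p)) hp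
      refine ⟨q, hqm, ?_⟩
      rw [← hq, Polynomial.eval₂_map] at hpx
      exact hpx
    obtain ⟨a, ha⟩ := IsIntegrallyClosed.isIntegral_iff.mp this
    exact ⟨a, ha⟩
  let ι := {W : ValuationSubring K // R ≤ W.toSubring}
  let g : (∀ W : ι, W.1) →+* (ι → K) := Pi.ringHom fun W => W.1.subtype.comp (Pi.evalRingHom _ W)
  let f : A →+* (∀ W : ι, W.1) :=
    Pi.ringHom fun W => (algebraMap A K).codRestrict W.1 fun a => W.2 ⟨a, rfl⟩
  have hg : Function.Injective g := fun u v h => funext fun W => Subtype.ext (congrFun h W)
  letI : Algebra (∀ W : ι, W.1) (ι → K) := g.toAlgebra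
  let S : Submonoid (∀ W : ι, W.1) :=
    { carrier := {v | ∀ W, v W ≠ 0}
      one_mem' := fun W => one_ne_zero
      mul_mem' := fun hu hv W => mul_ne_zero (hu W) (hv W) }
  haveI : IsLocalization S (ι → K) := by
    refine ⟨?_, ?_, ?_⟩
    · rintro ⟨v, hv⟩
      rw [Pi.isUnit_iff]
      exact fun W => isUnit_iff_ne_zero.mpr fun h => hv W (Subtype.ext h)
    · intro z
      have key : ∀ W : ι, ∃ a b : W.1, b ≠ 0 ∧ z W * (b : K) = (a : K) := by
        intro W
        obtain ⟨a, b, hb, h⟩ := IsFractionRing.div_surjective (A := W.1) (z W)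
        refine ⟨a, b, nonZeroDivisors.ne_zero hb, ?_⟩
        rw [← h]
        exact div_mul_cancel₀ _ (fun h' => nonZeroDivisors.ne_zero hb (Subtype.ext h'))
      choose a b hb h using key
      exact ⟨(a, ⟨b, hb⟩), funext h⟩
    · intro x y h
      exact ⟨1, by rw [hg h]⟩
  refine ⟨∀ W : ι, W.1, ι → K, inferInstance, inferInstance, f, g,
    Pi.ringHom fun _ => RingHom.id K, rfl, fun I => flat_ideal_of_pi _ I, ?_, hg, ?_, ?_⟩
  · exact (RingHom.flat_algebraMap_iff).mpr (IsLocalization.flat (ι → K) S)
  · refine ⟨fun φ ψ h => CommRingCat.hom_ext (IsLocalization.ringHom_ext S ?_)⟩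
    exact congrArg CommRingCat.Hom.hom h
  · intro v k hvk
    have hmem : k ∈ R := by
      rw [Subring.eq_iInf_of_isIntegrallyClosedIn (R := R), Subring.mem_iInf]
      intro W
      have : (v W : K) = k := congrFun hvk W
      exact this ▸ (v W).2
    obtain ⟨a, ha⟩ := hmem
    refine ⟨a, ⟨funext fun W => Subtype.ext ?_, ha⟩, fun a' ha' => ?_⟩
    · exact ha.trans (congrFun hvk W).symm
    · exact IsFractionRing.injective A K (ha'.2.trans ha.symm)

end Groth.Agent.S7143
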