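import Groth.Statements.S7144
import Mathlib.RingTheory.Valuation.ValuationRing
import Mathlib.RingTheory.PrincipalIdealDomain
import Mathlib.RingTheory.LocalRing.Basic

set_option autoImplicit false
universe u
open CAlg

namespace Groth.Agent.S7144

/-- (1) ⇔ (2): let R be a nonzero ring. Then for all a, b in R one of a, b divides the other if and only
if R is local and every finitely generated ideal of R is principal. (The further equivalence with
the total ordering of the set of ideals by inclusion is standard and not restated here.) -/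
theorem result (R : Type u) [CommRing R] [Nontrivial R] :
    PreValuationRing R ↔ IsLocalRing R ∧ IsBezout R := by
  constructor
  · intro _
    have tot : ∀ a b : R, a ∣ b ∨ b ∣ a := fun a b => (PreValuationRing.iff_dvd_total.1 ‹_›).total a b
    refine ⟨IsLocalRing.of_isUnit_or_isUnit_one_sub_self fun a => ?_, IsBezout.iff_span_pair_isPrincipal.2 fun a b => ?_⟩
    · rcases tot a (1 - a) with h | h
      · exact Or.inl (isUnit_of_dvd_one (by simpa using dvd_add h (dvd_refl a)))
      · exact Or.inr (isUnit_of_dvd_one (by simpa using dvd_add (dvd_refl (1 - a)) h))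
    · rcases tot a b with h | h
      · exact ⟨⟨a, le_antisymm (Ideal.span_le.2 (Set.insert_subset (Ideal.mem_span_singleton_self a)
          (Set.singleton_subset_iff.2 (Ideal.mem_span_singleton.2 h))))
          ((Ideal.span_singleton_le_iff_mem _).2 (Ideal.subset_span (Set.mem_insert a _)))⟩⟩
      · exact ⟨⟨b, le_antisymm (Ideal.span_le.2 (Set.insert_subset (Ideal.mem_span_singleton.2 h)
          (Set.singleton_subset_iff.2 (Ideal.mem_span_singleton_self b))))
          ((Ideal.span_singleton_le_iff_mem _).2 (Ideal.subset_span (Set.mem_insert_of_mem a rfl)))⟩⟩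
  · rintro ⟨_, _⟩
    refine PreValuationRing.iff_dvd_total.2 ⟨fun a b => ?_⟩
    let I : Ideal R := Ideal.span {a, b}
    have hI : I.IsPrincipal := IsBezout.span_pair_isPrincipal a b
    obtain ⟨d, hd⟩ := hI.principal
    have hd : I = Ideal.span {d} := hd
    obtain ⟨a', ha⟩ := Ideal.mem_span_singleton'.1 (hd ▸ Ideal.subset_span (Set.mem_insert a {b}) : a ∈ Ideal.span {d})
    obtain ⟨b', hb⟩ := Ideal.mem_span_singleton'.1 (hd ▸ Ideal.subset_span (Set.mem_insert_of_mem a rfl) : b ∈ Ideal.span {d})
    obtain ⟨x, y, hxy⟩ := Ideal.mem_span_pair.1 (hd ▸ Ideal.mem_span_singleton_self d : d ∈ I)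
    have h0 : (1 - (x * a' + y * b')) * d = 0 := by
      have : x * (a' * d) + y * (b' * d) = d := by rw [ha, hb, hxy]
      linear_combination -this
    rcases IsLocalRing.isUnit_or_isUnit_one_sub_self (x * a' + y * b') with h | h
    · rcases IsLocalRing.isUnit_or_isUnit_of_isUnit_add h with h | h
      · left
        obtain ⟨u, hu⟩ := isUnit_of_mul_isUnit_right h
        exact ⟨↑u⁻¹ * b', by rw [← ha, ← hb, ← hu]; rw [mul_assoc, mul_left_comm d, ← mul_assoc (u : R), Units.mul_inv, one_mul, mul_comm]⟩
      · right
        obtain ⟨u, hu⟩ := isUnit_of_mul_isUnit_right h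
        exact ⟨↑u⁻¹ * a', by rw [← ha, ← hb, ← hu]; rw [mul_assoc, mul_left_comm d, ← mul_assoc (u : R), Units.mul_inv, one_mul, mul_comm]⟩
    · rw [h.mul_right_eq_zero] at h0
      subst h0
      exact Or.inl (by rw [← ha, ← hb]; simp)

end Groth.Agent.S7144
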