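import Groth.Statements.S7145
import Mathlib.Algebra.Category.ModuleCat.Basic
import Mathlib.Algebra.Homology.HomologicalComplex
import Mathlib.LinearAlgebra.FreeModule.Basic
import Mathlib.LinearAlgebra.FreeModule.Finite.Basic
-- import your own Groth.Agent.* helpers here

set_option autoImplicit false
universe u
open CategoryTheory CategoryTheory.Limits
open CAlg

namespace Groth.Agent.S7145

/-- Let R be a ring and F a cochain complex of free R-modules that is zero in all sufficiently large
degrees. Given finitely many elements f_i of F, f_i lying in degree n_i, there is a subcomplex G of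
F (a map of complexes G → F injective in every degree) through which every f_i passes, such that G
is zero outside a finite range of degrees and each term of G is a finitely generated free R-module. -/
theorem result (R : Type u) [CommRing R]
    (F : CochainComplex (ModuleCat.{u} R) ℤ) (hfree : ∀ n : ℤ, Module.Free R (F.X n))
    (b : ℤ) (hb : ∀ n : ℤ, b < n → IsZero (F.X n))
    (N : ℕ) (deg : Fin N → ℤ) (f : ∀ i : Fin N, F.X (deg i)) :
    ∃ (G : CochainComplex (ModuleCat.{u} R) ℤ) (ι : G ⟶ F),
      (∀ n : ℤ, Function.Injective (ι.f n)) ∧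
      (∃ a c : ℤ, ∀ n : ℤ, (n < a ∨ c < n) → IsZero (G.X n)) ∧
      (∀ n : ℤ, Module.Finite R (G.X n) ∧ Module.Free R (G.X n)) ∧
      ∀ i : Fin N, f i ∈ Set.range (ι.f (deg i)) := by
  classical
  let β := fun n => Module.Free.chooseBasis R (F.X n)
  let I := fun n : ℤ => Module.Free.ChooseBasisIndex R (F.X n)
  let D : ∀ (T : ∀ n, Finset (I n)) (n : ℤ), Finset (I n) := fun T n =>
    (T (n - 1)).biUnion fun i => ((β n).repr (F.d (n - 1) n (β (n - 1) i))).support
  let T₀ : ∀ n, Finset (I n) := fun n => Finset.univ.biUnion fun i : Fin N =>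
    if h : deg i = n then ((β n).repr (h ▸ f i)).support else ∅
  obtain ⟨a, ha⟩ := (Set.finite_range deg).bddBelow
  let T : ℕ → ∀ n, Finset (I n) := fun k => (fun T n => T n ∪ D T n)^[k] T₀
  have hT : ∀ k n, T (k + 1) n = T k n ∪ D (T k) n := fun k n => by
    simp only [T, Function.iterate_succ_apply']
  have hlow : ∀ k n, n < a → T k n = ∅ := by
    intro k
    induction k with
    | zero =>
      intro n hn
      show Finset.biUnion _ _ = ∅
      refine Finset.eq_empty_of_forall_notMem fun x hx => ?_
      obtain ⟨i, -, hx⟩ := Finset.mem_biUnion.1 hx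
      have hne : ¬ deg i = n := fun h => by have := ha ⟨i, rfl⟩; omega
      rw [dif_neg hne] at hx
      exact Finset.notMem_empty x hx
    | succ k ih =>
      intro n hn
      rw [hT, ih n hn, Finset.empty_union]
      simp only [D, ih (n - 1) (by omega), Finset.biUnion_empty]
  have hmono : ∀ k n, T 0 n ⊆ T k n := by
    intro k
    induction k with
    | zero => exact fun n => Finset.Subset.refl _
    | succ k ih => exact fun n => (ih n).trans (by rw [hT]; exact Finset.subset_union_left)
  have hcl : ∀ (k : ℕ) n, n < a + k → D (T k) n ⊆ T k n := by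
    intro k
    induction k with
    | zero =>
      intro n hn
      simp only [D, hlow 0 (n - 1) (by omega), Finset.biUnion_empty, Finset.empty_subset]
    | succ k ih =>
      intro n hn
      have e : T (k + 1) (n - 1) = T k (n - 1) := by
        rw [hT]; exact Finset.union_eq_left.2 (ih _ (by omega))
      have e2 : D (T (k + 1)) n = D (T k) n := by simp only [D, e]
      rw [e2, hT]
      exact Finset.subset_union_right
  let K := (b + 1 - a).toNat
  let W : ∀ n, Submodule R (F.X n) := fun n => Submodule.span R (Set.range fun i : T K n => β n i.1)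
  have hWd : ∀ n x, x ∈ W n → F.d n (n + 1) x ∈ W (n + 1) := by
    intro n x hx
    suffices hW : W n ≤ (W (n + 1)).comap (F.d n (n + 1)).hom from hW hx
    rw [Submodule.span_le]
    rintro _ ⟨⟨i, hi⟩, rfl⟩
    show F.d n (n + 1) (β n i) ∈ W (n + 1)
    by_cases hn : b < n + 1
    · haveI := ModuleCat.subsingleton_of_isZero (hb _ hn)
      rw [Subsingleton.elim (F.d n (n + 1) (β n i)) 0]
      exact zero_mem _
    have key : ∀ p q : ℤ, p = q - 1 → q ≤ b → ∀ i ∈ T K p, ((β q).repr (F.d p q (β p i))).support ⊆ T K q := by
      rintro p q rfl hq i hi j hj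
      exact hcl K q (by simp only [K]; omega) (Finset.mem_biUnion.2 ⟨i, hi, hj⟩)
    rw [← (β (n + 1)).linearCombination_repr (F.d n (n + 1) (β n i)), Finsupp.linearCombination_apply]
    exact Submodule.sum_mem _ fun j hj => Submodule.smul_mem _ _
      (Submodule.subset_span ⟨⟨j, key n (n + 1) (by omega) (by omega) i hi hj⟩, rfl⟩)
  let d' : ∀ n, ModuleCat.of R (W n) ⟶ ModuleCat.of R (W (n + 1)) := fun n =>
    ModuleCat.ofHom (((F.d n (n + 1)).hom.comp (W n).subtype).codRestrict (W (n + 1)) fun x => hWd n x.1 x.2)
  have hd' : ∀ n, d' n ≫ d' (n + 1) = 0 := fun n => by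
    refine ModuleCat.hom_ext (LinearMap.ext fun x => Subtype.ext ?_)
    exact LinearMap.congr_fun (congrArg ModuleCat.Hom.hom (F.d_comp_d n (n + 1) (n + 1 + 1))) x.1
  let G : CochainComplex (ModuleCat.{u} R) ℤ := CochainComplex.of (fun n => ModuleCat.of R (W n)) d' hd'
  let ι : G ⟶ F :=
    { f := fun n => ModuleCat.ofHom (W n).subtype
      comm' := by
        rintro n m (rfl : n + 1 = m)
        rw [show G.d n (n + 1) = d' n by simp [G]]
        rfl }
  refine ⟨G, ι, fun n => Subtype.val_injective, ⟨a, b, fun n hn => ?_⟩, fun n => ⟨?_, ?_⟩, fun i => ?_⟩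
  · rcases hn with hn | hn
    · have : W n = ⊥ := by
        simp only [W, Submodule.span_eq_bot, Set.mem_range]
        rintro _ ⟨⟨j, hj⟩, rfl⟩
        rw [hlow K n hn] at hj
        exact absurd hj (Finset.notMem_empty j)
      haveI : Subsingleton (W n) := by rw [this]; infer_instance
      exact ModuleCat.isZero_of_subsingleton _
    · haveI := ModuleCat.subsingleton_of_isZero (hb _ hn)
      haveI : Subsingleton (W n) := Subtype.val_injective.subsingleton
      exact ModuleCat.isZero_of_subsingleton _
  · exact Module.Finite.span_of_finite R (Set.finite_range _)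
  · exact Module.Free.of_basis (Module.Basis.span ((β n).linearIndependent.comp _ Subtype.val_injective))
  · refine ⟨⟨f i, ?_⟩, rfl⟩
    rw [← (β (deg i)).linearCombination_repr (f i), Finsupp.linearCombination_apply]
    refine Submodule.sum_mem _ fun j hj => Submodule.smul_mem _ _ (Submodule.subset_span ⟨⟨j, hmono K _ ?_⟩, rfl⟩)
    exact Finset.mem_biUnion.2 ⟨i, Finset.mem_univ _, by rw [dif_pos rfl]; exact hj⟩

end Groth.Agent.S7145
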