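import Groth.Statements.S7146
import Mathlib
-- import your own Groth.Agent.* helpers here

set_option autoImplicit false
universe u
open Filter
open CAlg

namespace Groth.Agent.S7146

section
open Pointwise
variable {R : Type u} [CommRing R]

theorem mem_monomials {d : ℕ} (g : Fin d → R) : ∀ n, ∀ x ∈ Set.range g ^ n,
    ∃ s : Sym (Fin d) n, x = ((s : Multiset (Fin d)).map g).prod := by
  intro n
  induction n with
  | zero =>
    intro x hx
    rw [pow_zero, Set.mem_one] at hx
    exact ⟨Sym.nil, by simp [hx]⟩
  | succ n ih =>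
    intro x hx
    rw [pow_succ, Set.mem_mul] at hx
    obtain ⟨a, ha, _, ⟨i, rfl⟩, rfl⟩ := hx
    obtain ⟨s, rfl⟩ := ih a ha
    exact ⟨i ::ₛ s, by rw [Sym.coe_cons, Multiset.map_cons, Multiset.prod_cons, mul_comm]⟩

theorem monomial_mem {d n : ℕ} (g : Fin d → R) (s : Sym (Fin d) n) :
    ((s : Multiset (Fin d)).map g).prod ∈ Ideal.span (Set.range g) ^ n := by
  induction n with
  | zero => simp
  | succ n ih =>
    obtain ⟨i, s', rfl⟩ := Sym.exists_eq_cons_of_succ s
    rw [Sym.coe_cons, Multiset.map_cons, Multiset.prod_cons, pow_succ']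
    exact Ideal.mul_mem_mul (Ideal.subset_span ⟨i, rfl⟩) (ih s')

theorem length_le_sum {d : ℕ} (g : Fin d → R) (n : ℕ) :
    Module.length R (R ⧸ Ideal.span (Set.range g) ^ (n + 1)) ≤
      (d + 1).multichoose n • Module.length R (R ⧸ Ideal.span (Set.range g)) := by
  classical
  let I := Ideal.span (Set.range g)
  -- length of one graded piece
  have hgr : ∀ i : ℕ, Module.length R ((I ^ i : Ideal R) ⧸ Submodule.comap (Submodule.subtype (I ^ i)) (I ^ (i + 1))) ≤
      d.multichoose i • Module.length R (R ⧸ I) := by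
    intro i
    let Q : Submodule R (I ^ i : Ideal R) := Submodule.comap (Submodule.subtype (I ^ i)) (I ^ (i + 1))
    let e : Sym (Fin d) i → ((I ^ i : Ideal R) ⧸ Q) := fun s => Q.mkQ ⟨_, monomial_mem g s⟩
    have hkill : ∀ s, I ≤ LinearMap.ker (LinearMap.toSpanSingleton R _ (e s)) := fun s a ha => by
      rw [LinearMap.mem_ker, LinearMap.toSpanSingleton_apply]
      show a • Q.mkQ _ = 0
      rw [← map_smul, Submodule.mkQ_apply, Submodule.Quotient.mk_eq_zero, Submodule.mem_comap]
      show a * _ ∈ I ^ (i + 1)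
      rw [pow_succ']
      exact Ideal.mul_mem_mul ha (monomial_mem g s)
    let f : (Sym (Fin d) i → R ⧸ I) →ₗ[R] ((I ^ i : Ideal R) ⧸ Q) :=
      ∑ s, (Submodule.liftQ I _ (hkill s)) ∘ₗ LinearMap.proj s
    have hf : Function.Surjective f := by
      have hspan : ∀ z, (hz : z ∈ I ^ i) → Q.mkQ ⟨z, hz⟩ ∈ LinearMap.range f := by
        intro z hz
        have hI : I ^ i = Submodule.span R (Set.range g ^ i) := Submodule.span_pow _ i
        have hz' : z ∈ Submodule.span R (Set.range g ^ i) := hI ▸ hz
        suffices ∀ hz : z ∈ I ^ i, Q.mkQ ⟨z, hz⟩ ∈ LinearMap.range f from this hz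
        clear hz
        induction hz' using Submodule.span_induction with
        | mem x hx =>
          intro hx'
          obtain ⟨s, rfl⟩ := mem_monomials g i x hx
          refine ⟨Pi.single s (Submodule.Quotient.mk 1), ?_⟩
          simp only [f, LinearMap.sum_apply, LinearMap.comp_apply, LinearMap.proj_apply]
          rw [Finset.sum_eq_single s (fun t _ ht => by rw [Pi.single_eq_of_ne ht, map_zero])
            (fun h => absurd (Finset.mem_univ s) h), Pi.single_eq_same, Submodule.liftQ_apply,
            LinearMap.toSpanSingleton_apply, one_smul]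
        | zero => intro h; exact ⟨0, by rw [map_zero, ← map_zero Q.mkQ]; rfl⟩
        | add a b ha hb iha ihb =>
          intro h
          have h1 := iha (hI.symm ▸ ha)
          have h2 := ihb (hI.symm ▸ hb)
          have := Submodule.add_mem _ h1 h2
          rwa [← map_add] at this
        | smul c a ha iha =>
          intro h
          have := Submodule.smul_mem _ c (iha (hI.symm ▸ ha))
          rwa [← map_smul] at this
      intro z
      obtain ⟨⟨z, hz⟩, rfl⟩ := Q.mkQ_surjective z
      exact hspan z hz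
    refine (Module.length_le_of_surjective f hf).trans (le_of_eq ?_)
    rw [Module.length_pi_of_fintype, Finset.sum_const, Finset.card_univ, Sym.card_sym_eq_multichoose,
      Fintype.card_fin]
  induction n with
  | zero =>
    rw [pow_one, Nat.multichoose_zero_right, one_smul]
  | succ n ih =>
    let Q : Submodule R (I ^ (n + 1) : Ideal R) := Submodule.comap (Submodule.subtype (I ^ (n + 1))) (I ^ (n + 1 + 1))
    let ι : ((I ^ (n + 1) : Ideal R) ⧸ Q) →ₗ[R] R ⧸ I ^ (n + 1 + 1) := Submodule.mapQ _ _ (Submodule.subtype (I ^ (n + 1))) le_rfl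
    have hι : Function.Injective ι := by
      rw [injective_iff_map_eq_zero]
      intro z hz
      obtain ⟨m, rfl⟩ := Submodule.mkQ_surjective _ z
      rw [Submodule.mkQ_apply, Submodule.mapQ_apply, Submodule.Quotient.mk_eq_zero] at hz
      exact (Submodule.Quotient.mk_eq_zero _).2 hz
    have hle : I ^ (n + 1 + 1) ≤ I ^ (n + 1) := Ideal.pow_le_pow_right (Nat.le_succ _)
    have hex : Function.Exact ι (Submodule.factor hle) := by
      intro z
      obtain ⟨m, rfl⟩ := Submodule.mkQ_surjective _ z
      constructor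
      · intro hm
        exact ⟨Submodule.Quotient.mk ⟨m, (Submodule.Quotient.mk_eq_zero _).1 hm⟩, rfl⟩
      · rintro ⟨y, hy⟩
        obtain ⟨y, rfl⟩ := Submodule.mkQ_surjective _ y
        rw [← hy]
        exact (Submodule.Quotient.mk_eq_zero _).2 y.2
    rw [Module.length_eq_add_of_exact ι (Submodule.factor hle) hι (Submodule.factor_surjective _) hex,
      Nat.multichoose_succ_succ, add_smul]
    exact add_le_add (hgr (n + 1)) ih

end

/-- Let R be a Noetherian local ring of Krull dimension d and I the ideal generated by a system of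
parameters g_1, ..., g_d (d elements of the maximal ideal generating an ideal with radical the
maximal ideal); let e_I be the multiplicity of I, i.e. d! times the top coefficient of the numerical
polynomial n ↦ length(R/I^(n+1)), equivalently the limit of d!·length(R/Iⁿ)/n^d. Then e_I ≤
length(R/I). (Stated for a natural number e equal to that limit.) -/
theorem result (R : Type u) [CommRing R] [IsNoetherianRing R] [IsLocalRing R]
    (d : ℕ) (hd : ringKrullDim R = d) (g : Fin d → R) (hg : ∀ i, g i ∈ IsLocalRing.maximalIdeal R)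
    (hsop : IsLocalRing.maximalIdeal R ≤ (Ideal.span (Set.range g)).radical) (e : ℕ)
    (he : Tendsto (fun n : ℕ => (d.factorial : ℝ) * ((Module.length R (R ⧸ Ideal.span (Set.range g) ^ n)).toNat : ℝ) / (n : ℝ) ^ d)
      atTop (nhds (e : ℝ))) :
    (e : ℕ∞) ≤ Module.length R (R ⧸ Ideal.span (Set.range g)) := by
  cases hL : Module.length R (R ⧸ Ideal.span (Set.range g)) with
  | top => exact le_top
  | coe L =>
    have hb : ∀ n : ℕ, 1 ≤ n → (d.factorial : ℝ) *
        ((Module.length R (R ⧸ Ideal.span (Set.range g) ^ n)).toNat : ℝ) / (n : ℝ) ^ d ≤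
        (L : ℝ) * (1 + (d : ℝ) / n) ^ d := by
      intro n hn
      obtain ⟨m, rfl⟩ : ∃ m, n = m + 1 := ⟨n - 1, by omega⟩
      have h1 := length_le_sum g m
      rw [hL, nsmul_eq_mul] at h1
      have h2 : (Module.length R (R ⧸ Ideal.span (Set.range g) ^ (m + 1))).toNat ≤ (d + 1).multichoose m * L := by
        have h3 : ((d + 1).multichoose m : ℕ∞) * (L : ℕ∞) = (((d + 1).multichoose m * L : ℕ) : ℕ∞) := by push_cast; rfl
        rw [h3] at h1
        exact ENat.toNat_le_of_le_coe h1
      have h4 : ((d + 1).multichoose m : ℝ) ≤ ((m + 1 + d : ℕ) : ℝ) ^ d / (d.factorial : ℝ) := by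
        rw [Nat.multichoose_eq, show d + 1 + m - 1 = m + d by omega, Nat.choose_symm_add]
        refine (Nat.choose_le_pow_div d (m + d)).trans ?_
        gcongr
        push_cast; linarith
      have hd0 : (0 : ℝ) < d.factorial := by exact_mod_cast d.factorial_pos
      have hn0 : (0 : ℝ) < ((m + 1 : ℕ) : ℝ) := by positivity
      rw [div_le_iff₀ (by positivity), mul_assoc, ← mul_pow, show (1 + (d : ℝ) / ((m + 1 : ℕ) : ℝ)) * ((m + 1 : ℕ) : ℝ) =
        ((m + 1 + d : ℕ) : ℝ) by field_simp; push_cast; ring]
      have h5 : ((Module.length R (R ⧸ Ideal.span (Set.range g) ^ (m + 1))).toNat : ℝ) ≤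
          ((m + 1 + d : ℕ) : ℝ) ^ d / (d.factorial : ℝ) * L := by
        refine le_trans (Nat.cast_le.2 h2) ?_
        push_cast at h4 ⊢
        exact mul_le_mul_of_nonneg_right h4 (Nat.cast_nonneg L)
      calc _ ≤ (d.factorial : ℝ) * (((m + 1 + d : ℕ) : ℝ) ^ d / (d.factorial : ℝ) * L) :=
            mul_le_mul_of_nonneg_left h5 hd0.le
        _ = _ := by field_simp
    have hlim : Tendsto (fun n : ℕ => (L : ℝ) * (1 + (d : ℝ) / n) ^ d) atTop (nhds (L : ℝ)) := by
      have := ((tendsto_const_div_atTop_nhds_zero_nat (d : ℝ)).const_add 1).pow d |>.const_mul (L : ℝ)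
      simpa using this
    have hle : (e : ℝ) ≤ L := le_of_tendsto_of_tendsto he hlim ((eventually_ge_atTop 1).mono hb)
    exact_mod_cast hle

end Groth.Agent.S7146
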