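import Groth.Statements.S7147
import Mathlib.RingTheory.Localization.Module
import Mathlib.Algebra.Module.FinitePresentation
import Mathlib.LinearAlgebra.Matrix.ToLin
import Mathlib.LinearAlgebra.Matrix.NonsingularInverse
import Mathlib.LinearAlgebra.LinearIndependent.Lemmas
import Mathlib.LinearAlgebra.Dual.Lemmas
import Mathlib.LinearAlgebra.FiniteDimensional.Basic

set_option autoImplicit false
universe u
open CAlg

namespace Groth.Agent.S7147

/-- Let R be a ring, M a finitely presented R-module and x a maximal ideal of R with residue field κ(x);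
write M(x) = M/xM and let B(x) ⊆ M(x) be the orthogonal of the image of Hom_R(M, R) in the dual of
M(x), i.e. the classes of those m in M with φ(m) in x for every linear form φ on M, and V(x) =
M(x)/B(x). For s_1, ..., s_r in M the following are equivalent: (1) there is f in R, f not in x,
such that the map R_f^r → M_f given by the s_i is the inclusion of a direct summand; (2) the images
of s_1, ..., s_r in V(x) are linearly independent over κ(x). -/
theorem result (R : Type u) [CommRing R] (M : Type u)
    [AddCommGroup M] [Module R M] [Module.FinitePresentation R M] (x : Ideal R) [x.IsMaximal]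
    (r : ℕ) (s : Fin r → M) :
    let Mx := M ⧸ (x • ⊤ : Submodule R M)
    let Bx : Submodule (R ⧸ x) Mx :=
      Submodule.span (R ⧸ x) ((x • ⊤ : Submodule R M).mkQ '' {m : M | ∀ φ : M →ₗ[R] R, φ m ∈ x})
    (∃ f : R, f ∉ x ∧
      ∃ g : LocalizedModule (Submonoid.powers f) M →ₗ[Localization.Away f] (Fin r → Localization.Away f),
        g ∘ₗ Fintype.linearCombination (Localization.Away f)
            (fun i => LocalizedModule.mkLinearMap (Submonoid.powers f) M (s i)) = LinearMap.id) ↔
    LinearIndependent (R ⧸ x) (fun i => Bx.mkQ ((x • ⊤ : Submodule R M).mkQ (s i))) := by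
  classical
  intro Mx Bx
  let B0 : Submodule R M := ⨅ φ : M →ₗ[R] R, Submodule.comap φ x
  have hB0 : ∀ m, m ∈ B0 ↔ ∀ φ : M →ₗ[R] R, φ m ∈ x := fun m => by simp [B0]
  have hxB : (x • ⊤ : Submodule R M) ≤ B0 := by
    rw [Submodule.smul_le]
    intro a ha m _
    rw [hB0]
    intro φ
    rw [map_smul, smul_eq_mul]
    exact Ideal.mul_mem_right _ _ ha
  have hmem : ∀ m : M, (x • ⊤ : Submodule R M).mkQ m ∈ Bx ↔ m ∈ B0 := by
    intro m
    refine ⟨fun h => ?_, fun h => Submodule.subset_span ⟨m, (hB0 m).1 h, rfl⟩⟩
    have key : ∀ z ∈ Bx, ∃ b ∈ B0, (x • ⊤ : Submodule R M).mkQ b = z := by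
      intro z hz
      induction hz using Submodule.span_induction with
      | mem z hz =>
        obtain ⟨b, hb, rfl⟩ := hz
        exact ⟨b, (hB0 b).2 hb, rfl⟩
      | zero => exact ⟨0, zero_mem _, map_zero _⟩
      | add p q _ _ hp hq =>
        obtain ⟨a, ha, rfl⟩ := hp
        obtain ⟨b, hb, rfl⟩ := hq
        exact ⟨a + b, add_mem ha hb, map_add _ _ _⟩
      | smul c p _ hp =>
        obtain ⟨a, ha, rfl⟩ := hp
        obtain ⟨c, rfl⟩ := Ideal.Quotient.mk_surjective c
        exact ⟨c • a, B0.smul_mem c ha, map_smul _ _ _⟩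
    obtain ⟨b, hb, he⟩ := key _ h
    rw [Submodule.mkQ_apply, Submodule.mkQ_apply, Submodule.Quotient.eq] at he
    simpa using sub_mem hb (hxB he)
  let v : Fin r → Mx ⧸ Bx := fun i => Bx.mkQ ((x • ⊤ : Submodule R M).mkQ (s i))
  have hcomb : ∀ c : Fin r → R, ∑ i, Ideal.Quotient.mk x (c i) • v i = 0 ↔
      ∀ φ : M →ₗ[R] R, ∑ i, c i * φ (s i) ∈ x := by
    intro c
    have e : ∑ i, Ideal.Quotient.mk x (c i) • v i = Bx.mkQ ((x • ⊤ : Submodule R M).mkQ (∑ i, c i • s i)) := by
      rw [map_sum, map_sum]
      refine Finset.sum_congr rfl fun i _ => ?_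
      rw [map_smul (x • ⊤ : Submodule R M).mkQ]
      rfl
    rw [e, Submodule.mkQ_apply Bx, Submodule.Quotient.mk_eq_zero, hmem, hB0]
    refine forall_congr' fun φ => ?_
    simp [map_sum]
  constructor
  · rintro ⟨f, hf, g, hg⟩
    rw [Fintype.linearIndependent_iff]
    intro c hc j
    choose c' hc' using fun i => Ideal.Quotient.mk_surjective (c i)
    let ψ : M →ₗ[R] Localization.Away f :=
      ((LinearMap.proj j).comp g).restrictScalars R ∘ₗ LocalizedModule.mkLinearMap (Submonoid.powers f) M
    obtain ⟨φ, ⟨_, k, rfl⟩, hφ⟩ := Module.FinitePresentation.exists_lift_of_isLocalizedModule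
      (Submonoid.powers f) (Algebra.linearMap R (Localization.Away f)) ψ
    have hs : ∀ i, algebraMap R (Localization.Away f) (φ (s i)) =
        algebraMap R (Localization.Away f) (f ^ k * if j = i then 1 else 0) := by
      intro i
      have h1 : g (LocalizedModule.mkLinearMap (Submonoid.powers f) M (s i)) = Pi.single i 1 := by
        have := LinearMap.congr_fun hg (Pi.single i 1)
        rwa [LinearMap.comp_apply, Fintype.linearCombination_apply_single, one_smul] at this
      have h2 := LinearMap.congr_fun hφ (s i)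
      change algebraMap R (Localization.Away f) (φ (s i)) = (f ^ k) • ψ (s i) at h2
      have h3 : ψ (s i) = if j = i then 1 else 0 := by
        change g (LocalizedModule.mkLinearMap (Submonoid.powers f) M (s i)) j = _
        rw [h1, Pi.single_apply]
      rw [h2, h3, Algebra.smul_def, map_mul]
      split_ifs <;> simp
    have hsx : ∀ i, φ (s i) - f ^ k * (if j = i then 1 else 0) ∈ x := by
      intro i
      obtain ⟨⟨_, n, rfl⟩, hn⟩ := (IsLocalization.eq_iff_exists (Submonoid.powers f) _).1 (hs i)
      have hn' : f ^ n * (φ (s i) - f ^ k * if j = i then 1 else 0) = 0 := by rw [mul_sub, sub_eq_zero]; exact hn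
      refine (‹x.IsMaximal›.isPrime.mem_or_mem (show f ^ n * _ ∈ x by rw [hn']; exact zero_mem x)).resolve_left ?_
      exact fun h => hf (‹x.IsMaximal›.isPrime.mem_of_pow_mem n h)
    have h4 : ∑ i, c' i * φ (s i) ∈ x := (hcomb c').1 (by simpa only [hc'] using hc) φ
    have h5 : c' j * f ^ k ∈ x := by
      have h6 : ∑ i, c' i * (φ (s i) - f ^ k * if j = i then 1 else 0) ∈ x :=
        sum_mem fun i _ => x.mul_mem_left _ (hsx i)
      have := sub_mem h4 h6
      rw [← Finset.sum_sub_distrib] at this
      simpa [mul_sub, mul_ite, Finset.sum_ite_eq] using this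
    rw [← hc', Ideal.Quotient.eq_zero_iff_mem]
    exact (‹x.IsMaximal›.isPrime.mem_or_mem h5).resolve_right fun h => hf (‹x.IsMaximal›.isPrime.mem_of_pow_mem k h)
  · intro hli
    letI := Ideal.Quotient.field x
    let ev : (M →ₗ[R] R) →ₗ[R] (Fin r → R ⧸ x) :=
      LinearMap.pi fun i => (Algebra.linearMap R (R ⧸ x)).comp (LinearMap.applyₗ (s i))
    have hev : ∀ φ i, ev φ i = Ideal.Quotient.mk x (φ (s i)) := fun φ i => rfl
    let W : Submodule (R ⧸ x) (Fin r → R ⧸ x) :=
      { carrier := Set.range ev
        add_mem' := by rintro _ _ ⟨a, rfl⟩ ⟨b, rfl⟩; exact ⟨a + b, map_add _ _ _⟩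
        zero_mem' := ⟨0, map_zero _⟩
        smul_mem' := by
          rintro c _ ⟨a, rfl⟩
          obtain ⟨c, rfl⟩ := Ideal.Quotient.mk_surjective c
          exact ⟨c • a, map_smul _ _ _⟩ }
    have hW : W = ⊤ := by
      by_contra hW
      obtain ⟨l, hl0, hl⟩ := Submodule.exists_le_ker_of_lt_top W (lt_top_iff_ne_top.2 hW)
      choose c hc using fun i => Ideal.Quotient.mk_surjective (l (Pi.single i 1))
      have hz : ∑ i, Ideal.Quotient.mk x (c i) • v i = 0 := by
        rw [hcomb]
        intro φ
        rw [← Ideal.Quotient.eq_zero_iff_mem, map_sum]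
        have h1 : l (ev φ) = 0 := hl (show ev φ ∈ W from ⟨φ, rfl⟩)
        rw [pi_eq_sum_univ' (ev φ), map_sum] at h1
        refine Eq.trans (Finset.sum_congr rfl fun i _ => ?_) h1
        rw [map_smul, map_mul, hc, hev, smul_eq_mul, mul_comm]
      have h0 := Fintype.linearIndependent_iff.1 hli (fun i => Ideal.Quotient.mk x (c i)) hz
      refine hl0 (LinearMap.pi_ext' fun i => LinearMap.ext_ring ?_)
      have h2 : l (Pi.single i 1) = 0 := by rw [← hc]; exact h0 i
      simpa using h2
    have hφ : ∀ j, ∃ φ : M →ₗ[R] R, ev φ = Pi.single j 1 := fun j =>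
      show Pi.single j 1 ∈ W from hW ▸ Submodule.mem_top
    choose φ hφ using hφ
    let P : Matrix (Fin r) (Fin r) R := Matrix.of fun j i => φ j (s i)
    have hdet : P.det ∉ x := by
      rw [← Ideal.Quotient.eq_zero_iff_mem, RingHom.map_det]
      have : (Ideal.Quotient.mk x).mapMatrix P = 1 := by
        ext j i
        rw [RingHom.mapMatrix_apply, Matrix.map_apply, show P j i = φ j (s i) from rfl, ← hev, hφ, Pi.single_apply, Matrix.one_apply]
        by_cases h : i = j
        · simp [h]
        · simp [h, Ne.symm h]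
      rw [this, Matrix.det_one]
      exact one_ne_zero
    refine ⟨P.det, hdet, ?_⟩
    let A := Localization.Away P.det
    let gj : Fin r → (LocalizedModule (Submonoid.powers P.det) M →ₗ[A] A) := fun j =>
      (IsLocalizedModule.map (Submonoid.powers P.det) (LocalizedModule.mkLinearMap (Submonoid.powers P.det) M)
        (Algebra.linearMap R A) (φ j)).extendScalarsOfIsLocalization (Submonoid.powers P.det) A
    have hgj : ∀ j m, gj j (LocalizedModule.mkLinearMap (Submonoid.powers P.det) M m) = algebraMap R A (φ j m) :=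
      fun j m => IsLocalizedModule.map_apply _ _ _ _ _
    let PA := (algebraMap R A).mapMatrix P
    have hPA : IsUnit PA.det := by
      rw [← RingHom.map_det]
      exact IsLocalization.Away.algebraMap_isUnit P.det
    refine ⟨(Matrix.toLin' PA⁻¹).comp (LinearMap.pi gj), LinearMap.pi_ext' fun i => LinearMap.ext_ring ?_⟩
    simp only [LinearMap.comp_apply, LinearMap.single_apply, LinearMap.id_apply,
      Fintype.linearCombination_apply_single, one_smul]
    have hcol : LinearMap.pi gj (LocalizedModule.mkLinearMap (Submonoid.powers P.det) M (s i)) =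
        Matrix.toLin' PA (Pi.single i 1) := by
      funext j
      rw [LinearMap.pi_apply, hgj, Matrix.toLin'_apply, Matrix.mulVec_single_one]
      rfl
    rw [hcol, ← LinearMap.comp_apply, ← Matrix.toLin'_mul, Matrix.nonsing_inv_mul _ hPA, Matrix.toLin'_one,
      LinearMap.id_apply]

end Groth.Agent.S7147
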