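import Groth.Statements.S7149
import Mathlib
import Groth.Agent.DRingLib.Basic
import Groth.Agent.HomSingleLib.Basic
-- import your own Groth.Agent.* helpers here

set_option autoImplicit false
universe u
open CategoryTheory
attribute [local instance] HasDerivedCategory.standard
open CAlg

namespace Groth.Agent.S7149

/-- Let A be a Noetherian ring, I an ideal, K a pseudo-coherent object of D(A) and M a finite A-module.
For each integer p there is c such that for all n ≥ c the image of Ext^p_A(K, IⁿM) → Ext^p_A(K, M)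
is contained in I^(n-c)·Ext^p_A(K, M); here Ext^p(K, X) = Hom_{D(A)}(K, X[p]) with its natural
A-module structure. -/
theorem result (A : Type u) [CommRing A] [IsNoetherianRing A] (I : Ideal A)
    (K : Dual.D A) (hK : DRing.IsPseudoCoherent' A K) (M : Type u) [AddCommGroup M] [Module A M] [Module.Finite A M]
    (p : ℤ) :
    ∃ c : ℕ, ∀ n : ℕ, c ≤ n →
      ∀ e : K ⟶ (Dual.inD A ↥(I ^ n • ⊤ : Submodule A M))⟦p⟧,
        e ≫ ((DerivedCategory.singleFunctor (ModuleCat.{u} A) 0).map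
              (ModuleCat.ofHom (I ^ n • ⊤ : Submodule A M).subtype))⟦p⟧' ∈
          (I ^ (n - c) • ⊤ : Submodule A (K ⟶ (Dual.inD A M)⟦p⟧)) := by
  obtain ⟨E, b, hb, hf, ⟨e0⟩⟩ := hK
  haveI : E.IsKProjective := DRingLib.isKProjective_of_free E b hb fun i => (hf i).2
  haveI hfree : Module.Free A (E.X (-p)) := (hf (-p)).2
  haveI hfin : Module.Finite A (E.X (-p)) := (hf (-p)).1
  let d₀ : E.X (-p - 1) →ₗ[A] E.X (-p) := (E.d (-p - 1) (-p)).hom
  let Z : Submodule A (E.X (-p) →ₗ[A] M) := LinearMap.ker (LinearMap.lcomp A M d₀)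
  haveI : IsNoetherian A (E.X (-p) →ₗ[A] M) := by
    haveI : Module.Finite A (E.X (-p) →ₗ[A] M) := Module.Finite.linearMap A A _ M
    infer_instance
  obtain ⟨c, hc⟩ := Ideal.exists_pow_inf_eq_pow_smul I Z
  refine ⟨c, fun n hn e => ?_⟩
  have hq : p + -p = 0 := add_neg_cancel p
  obtain ⟨f, hf0, rfl⟩ := HomSingleLib.cls_surjective hq e0 e
  rw [← HomSingleLib.cls_comp hq e0 f hf0]
  set ι : ModuleCat.of A ↥(I ^ n • ⊤ : Submodule A M) ⟶ ModuleCat.of A M := ModuleCat.ofHom (I ^ n • ⊤ : Submodule A M).subtype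
  have hZ : (f ≫ ι).hom ∈ (I ^ n • ⊤ ⊓ Z : Submodule A (E.X (-p) →ₗ[A] M)) := by
    refine ⟨HomSingleLib.mem_smul_top_of_values _ _ fun x => (f.hom x).2, ?_⟩
    change (f ≫ ι).hom ∘ₗ d₀ = 0
    have h1 : E.d (-p - 1) (-p) ≫ f ≫ ι = 0 := by rw [← Category.assoc, hf0, Limits.zero_comp]
    exact congrArg ModuleCat.Hom.hom h1
  rw [hc n hn] at hZ
  have h2 : (f ≫ ι).hom ∈ (I ^ (n - c) • Z : Submodule A (E.X (-p) →ₗ[A] M)) :=
    Submodule.smul_mono le_rfl inf_le_right hZ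
  have key : ∀ g ∈ (I ^ (n - c) • Z : Submodule A (E.X (-p) →ₗ[A] M)), ∃ hg : E.d (-p - 1) (-p) ≫ ModuleCat.ofHom g = 0,
      HomSingleLib.cls hq e0 (ModuleCat.ofHom g) hg ∈ (I ^ (n - c) • ⊤ : Submodule A (K ⟶ (Dual.inD A M)⟦p⟧)) := by
    intro g hg
    induction hg using Submodule.smul_induction_on' with
    | smul r hr g hg =>
      have hg' : E.d (-p - 1) (-p) ≫ ModuleCat.ofHom g = 0 := ModuleCat.hom_ext hg
      refine ⟨ModuleCat.hom_ext (by
        change (r • g) ∘ₗ d₀ = 0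
        rw [LinearMap.smul_comp, show g ∘ₗ d₀ = 0 from hg, smul_zero]), ?_⟩
      have h3 := Submodule.smul_mem_smul hr (Submodule.mem_top (x := HomSingleLib.cls hq e0 (ModuleCat.ofHom g) hg'))
      rw [← HomSingleLib.cls_smul] at h3
      exact h3
    | add g₁ _ g₂ _ h₁ h₂ =>
      obtain ⟨a₁, b₁⟩ := h₁
      obtain ⟨a₂, b₂⟩ := h₂
      have a3 : E.d (-p - 1) (-p) ≫ (ModuleCat.ofHom g₁ + ModuleCat.ofHom g₂) = 0 := by
        rw [Preadditive.comp_add, a₁, a₂, add_zero]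
      refine ⟨a3, ?_⟩
      have h4 := HomSingleLib.cls_sub hq e0 (ModuleCat.ofHom g₁ + ModuleCat.ofHom g₂) (ModuleCat.ofHom g₂) a3 a₂
      rw [HomSingleLib.cls_congr hq e0 _ a₁ (add_sub_cancel_right _ _)] at h4
      have h5 := eq_add_of_sub_eq h4.symm
      change HomSingleLib.cls hq e0 (ModuleCat.ofHom g₁ + ModuleCat.ofHom g₂) a3 ∈ _
      rw [h5]
      exact add_mem b₁ b₂
  obtain ⟨_, h6⟩ := key _ h2
  exact h6

end Groth.Agent.S7149
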