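import Groth.Statements.S7150
import Mathlib
import Groth.Agent.CohenLib.GeomRed
-- import your own Groth.Agent.* helpers here

set_option autoImplicit false
universe u
open EtAlg

namespace Groth.Agent.S7150

/-- Suppose p is a prime with p·1 = 0 in the local ring A and some power of the maximal ideal of A is
zero. Then the residue map A → κ_A has a section σ : κ_A → A that is a ring map. If moreover A → A'
is a local homomorphism to another local ring whose maximal ideal has a vanishing power, and the
residue field extension κ_{A'}/κ_A is separable (possibly transcendental, i.e. geometrically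
reduced), then for any such σ there is a section σ' : κ_{A'} → A' compatible with σ. -/
theorem result (p : ℕ) (hp : p.Prime) (A : Type u) [CommRing A]
    [IsLocalRing A] [CharP A p] (hnil : ∃ n : ℕ, IsLocalRing.maximalIdeal A ^ n = ⊥) :
    (∃ σ : IsLocalRing.ResidueField A →+* A, (IsLocalRing.residue A).comp σ = RingHom.id _) ∧
    ∀ (A' : Type u) [CommRing A'] [IsLocalRing A'] [Algebra A A'] [IsLocalHom (algebraMap A A')],
      (∃ n : ℕ, IsLocalRing.maximalIdeal A' ^ n = ⊥) →
      Algebra.IsGeometricallyReduced (IsLocalRing.ResidueField A) (IsLocalRing.ResidueField A') →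
      ∀ σ : IsLocalRing.ResidueField A →+* A, (IsLocalRing.residue A).comp σ = RingHom.id _ →
        ∃ σ' : IsLocalRing.ResidueField A' →+* A', (IsLocalRing.residue A').comp σ' = RingHom.id _ ∧
          σ'.comp (IsLocalRing.ResidueField.map (algebraMap A A')) = (algebraMap A A').comp σ := by
  have : Fact p.Prime := ⟨hp⟩
  obtain ⟨n, hn⟩ := hnil
  refine ⟨?_, ?_⟩
  · have : CharP (IsLocalRing.ResidueField A) p := (CharP.charP_iff_prime_eq_zero hp).2 (by
      rw [← map_natCast (IsLocalRing.residue A), CharP.cast_eq_zero, map_zero])
    letI : Algebra (ZMod p) A := ZMod.algebra A p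
    letI : Algebra (ZMod p) (IsLocalRing.ResidueField A) := ZMod.algebra _ p
    have := Groth.Agent.PerfectFieldLib.formallySmooth_of_perfectField (ZMod p) (IsLocalRing.ResidueField A)
    let res : A →ₐ[ZMod p] IsLocalRing.ResidueField A :=
      { IsLocalRing.residue A with
        commutes' := fun r => RingHom.congr_fun (Subsingleton.elim
          ((IsLocalRing.residue A).comp (algebraMap (ZMod p) A)) (algebraMap (ZMod p) (IsLocalRing.ResidueField A))) r }
    have hnil : IsNilpotent (RingHom.ker (res : A →+* IsLocalRing.ResidueField A)) := ⟨n, by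
      rw [show RingHom.ker (res : A →+* IsLocalRing.ResidueField A) = IsLocalRing.maximalIdeal A from IsLocalRing.ker_residue, hn]; rfl⟩
    refine ⟨(Algebra.FormallySmooth.liftOfSurjective (AlgHom.id _ _) res IsLocalRing.residue_surjective hnil).toRingHom, ?_⟩
    refine RingHom.ext fun x => ?_
    exact AlgHom.congr_fun (Algebra.FormallySmooth.comp_liftOfSurjective (AlgHom.id _ _) res IsLocalRing.residue_surjective hnil) x
  · intro A' _ _ _ _ ⟨n', hn'⟩ hgr σ hσ
    let κ := IsLocalRing.ResidueField A
    let κ' := IsLocalRing.ResidueField A'
    have := CohenLib.formallySmooth_of_isGeometricallyReduced κ κ'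
    letI : Algebra κ A' := ((algebraMap A A').comp σ).toAlgebra
    let res : A' →ₐ[κ] κ' :=
      { IsLocalRing.residue A' with
        commutes' := fun r => by
          show IsLocalRing.residue A' (algebraMap A A' (σ r)) = algebraMap κ κ' r
          conv_rhs => rw [show r = IsLocalRing.residue A (σ r) from (RingHom.congr_fun hσ r).symm]
          rfl }
    have hnil : IsNilpotent (RingHom.ker (res : A' →+* κ')) := ⟨n', by
      rw [show RingHom.ker (res : A' →+* κ') = IsLocalRing.maximalIdeal A' from IsLocalRing.ker_residue, hn']; rfl⟩
    let g := Algebra.FormallySmooth.liftOfSurjective (AlgHom.id κ κ') res IsLocalRing.residue_surjective hnil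
    refine ⟨g.toRingHom, RingHom.ext fun x => AlgHom.congr_fun (Algebra.FormallySmooth.comp_liftOfSurjective (AlgHom.id κ κ') res IsLocalRing.residue_surjective hnil) x, RingHom.ext fun x => ?_⟩
    exact g.commutes x

end Groth.Agent.S7150
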