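import Groth.Statements.S7151
import Groth.Agent.InsepSepLib.Bound
import Groth.Agent.InsepSepLib.Approx
import Groth.Agent.EtRamStepLib.Step
-- import your own Groth.Agent.* helpers here

set_option autoImplicit false
universe u
open EtAlg

open scoped TensorProduct

set_option maxHeartbeats 2000000

namespace Groth.Agent.S7151

/-- Let p be a prime and A → B an injective local homomorphism of discrete valuation rings whose fields
of fractions are K ⊆ L, where K has characteristic p, L is separable (geometrically reduced) over K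
and B is a Nagata ring. Let K ⊆ K₁ ⊆ K₂ be finite extensions such that K₂ is a solution for A ⊆ B
and K₂/K₁ is purely inseparable of degree p. Then some finite separable extension K₃/K₁ is also a
solution for A ⊆ B. -/
theorem result (p : ℕ) (hp : p.Prime) (A B K L : Type u)
    [CommRing A] [IsDomain A] [IsDiscreteValuationRing A] [CommRing B] [IsDomain B] [IsDiscreteValuationRing B]
    [Algebra A B] (hinj : Function.Injective (algebraMap A B)) [IsLocalHom (algebraMap A B)]
    [Field K] [Field L] [Algebra A K] [IsFractionRing A K] [Algebra B L] [IsFractionRing B L]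
    [Algebra K L] [Algebra A L] [IsScalarTower A K L] [IsScalarTower A B L] [CharP K p]
    [Algebra.IsGeometricallyReduced K L] (hB : CAlg.IsNagata B)
    (K₁ K₂ : Type u) [Field K₁] [Field K₂] [Algebra K K₁] [Algebra K K₂] [Algebra K₁ K₂] [IsScalarTower K K₁ K₂]
    [FiniteDimensional K K₁] [FiniteDimensional K₁ K₂] (hsol : EtRam.IsSolution B K L K₂)
    [IsPurelyInseparable K₁ K₂] (hdeg : Module.finrank K₁ K₂ = p) :
    ∃ (K₃ : Type u) (_ : Field K₃) (_ : Algebra K K₃) (_ : Algebra K₁ K₃) (_ : IsScalarTower K K₁ K₃),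
      FiniteDimensional K₁ K₃ ∧ Algebra.IsSeparable K₁ K₃ ∧ EtRam.IsSolution B K L K₃ := by
  classical
  have : Fact p.Prime := ⟨hp⟩
  obtain ⟨π₀, hπ₀⟩ := IsDiscreteValuationRing.exists_irreducible A
  obtain ⟨ϖ, hϖ⟩ := IsDiscreteValuationRing.exists_irreducible B
  have : CharP K₁ p := charP_of_injective_algebraMap (algebraMap K K₁).injective p
  have : CharP K₂ p := charP_of_injective_algebraMap (algebraMap K K₂).injective p
  have : CharP L p := charP_of_injective_algebraMap (algebraMap K L).injective p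
  -- the purely inseparable generator
  obtain ⟨θ₂, hθ₂⟩ : ∃ θ : K₂, θ ∉ Set.range (algebraMap K₁ K₂) := by
    by_contra h
    push Not at h
    have h1 : Module.finrank K₁ K₂ = 1 := by
      refine (finrank_eq_one_iff_of_nonzero' (1 : K₂) one_ne_zero).2 fun w => ?_
      obtain ⟨c, hc⟩ := h w
      exact ⟨c, by rw [Algebra.smul_def, mul_one, hc]⟩
    exact hp.ne_one (hdeg ▸ h1)
  obtain ⟨a₀, ha₀⟩ := EtRamStepLib.pow_mem_range hp hdeg θ₂
  have htop := EtRamStepLib.adjoin_eq_top_of_prime_finrank hp hdeg hθ₂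
  have hirr₀ : Irreducible (Polynomial.X ^ p - Polynomial.C a₀) := X_pow_sub_C_irreducible_of_prime hp fun b hb => hθ₂ ⟨b, by
    rw [← sub_eq_zero]
    refine pow_eq_zero_iff hp.ne_zero |>.1 ?_
    rw [sub_pow_char, ← map_pow, hb, ha₀, sub_self]⟩
  -- the factors of `L ⊗ K₁`
  let T := L ⊗[K] K₁
  have : IsArtinianRing T := IsArtinianRing.of_finite L T
  have : IsReduced T := isReduced_of_injective (Algebra.TensorProduct.comm K L K₁) (AlgEquiv.injective _)
  have hred₂ : IsReduced (L ⊗[K] K₂) := by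
    have : FiniteDimensional K K₂ := Module.Finite.trans K₁ K₂
    exact isReduced_of_injective (Algebra.TensorProduct.comm K L K₂) (AlgEquiv.injective _)
  have hfinP : Finite (PrimeSpectrum T) := inferInstance
  let a₁ : T := Algebra.TensorProduct.includeRight (R := K) (A := L) a₀
  -- `a₀` stays a non `p`-th power in every factor
  have hna : ∀ (P : Ideal T) [P.IsPrime] (b : T), b ^ p - a₁ ∉ P := by
    intro P hPp b hb
    have := Fintype.ofFinite (PrimeSpectrum T)
    have hsep : ∀ Q : PrimeSpectrum T, Q.asIdeal ≠ P → ∃ e : T, e ∈ Q.asIdeal ∧ e ∉ P := fun Q hQ =>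
      SetLike.not_le_iff_exists.1 fun hle => hQ ((Q.isPrime.isMaximal').eq_of_le hPp.ne_top hle)
    choose! eQ heQ heP using hsep
    let e : T := ∏ Q ∈ Finset.univ.filter (fun Q : PrimeSpectrum T => Q.asIdeal ≠ P), eQ Q
    have heP' : e ∉ P := fun h => by
      obtain ⟨Q, hQ, hm⟩ := hPp.prod_mem_iff.1 h
      exact heP Q (Finset.mem_filter.1 hQ).2 hm
    have hkill : e * (b ^ p - a₁) = 0 := by
      refine IsReduced.eq_zero _ (mem_nilradical.1 ?_)
      rw [nilradical_eq_sInf, Submodule.mem_sInf]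
      intro Q hQ
      have hQp : Ideal.IsPrime Q := hQ
      show _ ∈ (Q : Ideal T)
      by_cases hQP : Q = P
      · exact Ideal.mul_mem_left Q _ (hQP ▸ hb)
      · refine Ideal.mul_mem_right _ Q (Ideal.mem_of_dvd _ (Finset.dvd_prod_of_mem eQ (a := (⟨Q, hQp⟩ : PrimeSpectrum T)) ?_) (heQ ⟨Q, hQp⟩ hQP))
        exact Finset.mem_filter.2 ⟨Finset.mem_univ _, hQP⟩
    let i12 : T →ₐ[L] L ⊗[K] K₂ := Algebra.TensorProduct.map (AlgHom.id L L) (IsScalarTower.toAlgHom K K₁ K₂)
    let θ' : L ⊗[K] K₂ := Algebra.TensorProduct.includeRight θ₂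
    have hθ' : θ' ^ p = i12 a₁ := by
      simp only [θ', a₁, i12]
      rw [← map_pow, ← ha₀]
      rfl
    have : Nontrivial (L ⊗[K] K₂) := inferInstance
    have : CharP (L ⊗[K] K₂) p := charP_of_injective_algebraMap (R := L)
      (FaithfulSMul.algebraMap_injective L (L ⊗[K] K₂)) p
    have hη : i12 e * (θ' - i12 b) = 0 := by
      refine IsReduced.eq_zero _ ⟨p, ?_⟩
      rw [mul_pow, sub_pow_char, hθ', ← map_pow, ← map_pow, ← map_sub, ← map_mul]
      have h2 : e ^ p * (a₁ - b ^ p) = 0 := by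
        rw [show e ^ p = e ^ (p - 1) * e from by rw [← pow_succ]; congr 1; have := hp.pos; omega, mul_assoc,
          show a₁ - b ^ p = -(b ^ p - a₁) by ring, mul_neg, hkill]
        simp
      rw [h2, map_zero]
    -- apply a functional
    let pb₀ := Polynomial.natDegree_X_pow_sub_C (n := p) (r := a₀)
    obtain ⟨φ, hφθ, hφ1⟩ : ∃ φ : K₂ →ₗ[K₁] K₁, φ θ₂ = 1 ∧ φ 1 = 0 := by
      have hli : LinearIndependent K₁ ![(1 : K₂), θ₂] := by
        refine (LinearIndependent.pair_iff' one_ne_zero).2 fun c hc => hθ₂ ⟨c, ?_⟩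
        rw [← hc, Algebra.smul_def, mul_one]
      obtain ⟨φ, hφ⟩ := LinearMap.exists_extend
        (((Finsupp.linearCombination K₁ ![(0 : K₁), 1]).comp hli.repr) : Submodule.span K₁ (Set.range ![(1 : K₂), θ₂]) →ₗ[K₁] K₁)
      refine ⟨φ, ?_, ?_⟩
      · have := LinearMap.congr_fun hφ ⟨θ₂, Submodule.subset_span ⟨1, rfl⟩⟩
        simp only [LinearMap.comp_apply, Submodule.subtype_apply] at this
        rw [this, hli.repr_eq_single 1 ⟨θ₂, _⟩ rfl]
        simp
      · have := LinearMap.congr_fun hφ ⟨1, Submodule.subset_span ⟨0, rfl⟩⟩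
        simp only [LinearMap.comp_apply, Submodule.subtype_apply] at this
        rw [this, hli.repr_eq_single 0 ⟨1, _⟩ rfl]
        simp
    let Φ : L ⊗[K] K₂ →ₗ[K] T := LinearMap.lTensor L (φ.restrictScalars K)
    have hΦ : ∀ (x : T) (w : K₂), Φ (i12 x * Algebra.TensorProduct.includeRight w) = x * Algebra.TensorProduct.includeRight (φ w) := by
      intro x w
      induction x using TensorProduct.induction_on with
      | zero => simp
      | add u v hu hv => rw [map_add, add_mul, map_add, hu, hv, add_mul]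
      | tmul l k =>
        show Φ ((l ⊗ₜ[K] algebraMap K₁ K₂ k) * ((1 : L) ⊗ₜ[K] w)) = (l ⊗ₜ[K] k) * ((1 : L) ⊗ₜ[K] φ w)
        rw [Algebra.TensorProduct.tmul_mul_tmul, Algebra.TensorProduct.tmul_mul_tmul, mul_one]
        refine congrArg (fun m : K₁ => l ⊗ₜ[K] m) ?_
        show φ (algebraMap K₁ K₂ k * w) = k * φ w
        rw [← Algebra.smul_def, map_smul, smul_eq_mul]
    have h1 := congrArg Φ hη
    rw [mul_sub, map_sub, map_zero, hΦ, hφθ, map_one, mul_one,
      show i12 e * i12 b = i12 (e * b) * Algebra.TensorProduct.includeRight (1 : K₂) by rw [map_one, mul_one, map_mul],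
      hΦ, hφ1, map_zero, mul_zero, sub_zero] at h1
    exact heP' (h1 ▸ P.zero_mem)
  -- the factors as fields
  letI hfP : ∀ P : PrimeSpectrum T, Field (T ⧸ P.asIdeal) := fun P =>
    haveI := P.isPrime.isMaximal'
    Ideal.Quotient.field P.asIdeal
  haveI towB : ∀ P : PrimeSpectrum T, IsScalarTower B L (T ⧸ P.asIdeal) := fun P => inferInstance
  -- the exponents
  have hπK : algebraMap A K π₀ ≠ 0 := (map_ne_zero_iff _ (IsFractionRing.injective A K)).2 hπ₀.ne_zero
  let πB : B := algebraMap A B π₀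
  obtain ⟨k₀, u₀, hu₀⟩ := IsDiscreteValuationRing.eq_unit_mul_pow_irreducible
    ((map_ne_zero_iff _ hinj).2 hπ₀.ne_zero) hϖ
  have hπBm : πB ∈ IsLocalRing.maximalIdeal B := fun h => hπ₀.not_isUnit (IsUnit.of_map (algebraMap A B) π₀ h)
  have hk₀ : 1 ≤ k₀ := by
    by_contra h0
    have : k₀ = 0 := by omega
    subst this
    exact hπBm (by rw [show πB = _ from hu₀, pow_zero, mul_one]; exact u₀.isUnit)
  have hdata : ∀ (P : PrimeSpectrum T) (W : ValuationSubring (T ⧸ P.asIdeal)), EtRam.Dominates B (algebraMap B (T ⧸ P.asIdeal)) W →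
      ∃ n : ℕ × ℕ, (∀ c : Fin p → T ⧸ P.asIdeal, (∑ i : Fin p, c i ^ p * Ideal.Quotient.mk P.asIdeal a₁ ^ (i : ℕ)) ∈ W →
        ∀ i, algebraMap B (T ⧸ P.asIdeal) πB ^ n.1 * c i ∈ W) ∧
        algebraMap B (T ⧸ P.asIdeal) πB ^ n.2 * Ideal.Quotient.mk P.asIdeal a₁ ∈ W := by
    intro P W hW
    have : CharP (T ⧸ P.asIdeal) p := charP_of_injective_algebraMap (algebraMap L (T ⧸ P.asIdeal)).injective p
    have : FiniteDimensional L (T ⧸ P.asIdeal) := Module.Finite.of_surjective (Ideal.Quotient.mkₐ L P.asIdeal).toLinearMap Ideal.Quotient.mk_surjective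
    obtain ⟨s, hs⟩ := InsepSepLib.exists_bound (L := L) hp hB hϖ (Ideal.Quotient.mk P.asIdeal a₁) (fun b hb => by
      obtain ⟨b, rfl⟩ := Ideal.Quotient.mk_surjective b
      exact hna P.asIdeal b (Ideal.Quotient.eq.1 (by rw [map_pow]; exact hb))) W hW
    obtain ⟨t, ht⟩ := InsepSepLib.exists_pow_mul_mem (L := L) hϖ W hW (Ideal.Quotient.mk P.asIdeal a₁)
    have hconv : ∀ (n : ℕ) (x : T ⧸ P.asIdeal), algebraMap B _ ϖ ^ n * x ∈ W → algebraMap B _ πB ^ n * x ∈ W := by
      intro n x hx
      have : algebraMap B (T ⧸ P.asIdeal) πB ^ n * x =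
          algebraMap B _ ((u₀ : B) ^ n * ϖ ^ ((k₀ - 1) * n)) * (algebraMap B _ ϖ ^ n * x) := by
        rw [← map_pow, show πB ^ n = ((u₀ : B) ^ n * ϖ ^ ((k₀ - 1) * n)) * ϖ ^ n by
          rw [show πB = _ from hu₀, mul_pow, ← pow_mul, mul_assoc, ← pow_add]
          congr 2
          conv_lhs => rw [show k₀ = (k₀ - 1) + 1 by omega]
          ring, map_mul, map_pow (algebraMap B _) ϖ]
        ring
      rw [this]
      exact W.mul_mem _ _ (hW.1 _) hx
    exact ⟨(s, t), fun c hc i => hconv s _ (hs c hc i), hconv t _ ht⟩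
  choose! st hst using hdata
  have hfinW : ∀ P : PrimeSpectrum T, {W : ValuationSubring (T ⧸ P.asIdeal) | EtRam.Dominates B (algebraMap B (T ⧸ P.asIdeal)) W}.Finite := fun P => by
    have : FiniteDimensional L (T ⧸ P.asIdeal) := Module.Finite.of_surjective (Ideal.Quotient.mkₐ L P.asIdeal).toLinearMap Ideal.Quotient.mk_surjective
    exact InsepSepLib.finite_dominating (L := L) hB
  have := Fintype.ofFinite (PrimeSpectrum T)
  let N : ℕ := Finset.univ.sup fun P : PrimeSpectrum T => (hfinW P).toFinset.sup fun W => ((st P W).1 + 1) * p + (st P W).2 * p + 1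
  -- the separable extension
  let ε : K₁ := algebraMap K K₁ (algebraMap A K π₀) ^ N
  have hε : ε ≠ 0 := pow_ne_zero _ ((_root_.map_ne_zero _).2 hπK)
  let f : Polynomial K₁ := Polynomial.X ^ p + -(Polynomial.C ε * Polynomial.X + Polynomial.C a₀)
  have hdegf : f.natDegree = p := by
    simp only [f]
    rw [Polynomial.natDegree_add_eq_left_of_natDegree_lt, Polynomial.natDegree_X_pow]
    rw [Polynomial.natDegree_X_pow, Polynomial.natDegree_neg]
    exact lt_of_le_of_lt Polynomial.natDegree_linear_le hp.one_lt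
  have hf0 : f ≠ 0 := fun h => hp.ne_zero (by rw [← hdegf, h, Polynomial.natDegree_zero])
  have hsepf : f.Separable := by
    have hd : f.derivative = Polynomial.C (-ε) := by
      simp only [f]
      rw [Polynomial.derivative_add, Polynomial.derivative_X_pow, Polynomial.derivative_neg, Polynomial.derivative_add,
        Polynomial.derivative_C_mul_X, Polynomial.derivative_C, CharP.cast_eq_zero, Polynomial.C_0, zero_mul, zero_add, add_zero,
        Polynomial.C_neg]
    rw [Polynomial.separable_def, hd]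
    exact ⟨0, Polynomial.C (-ε)⁻¹, by rw [zero_mul, zero_add, ← Polynomial.C_mul, inv_mul_cancel₀ (neg_ne_zero.2 hε), Polynomial.C_1]⟩
  have hnu : ¬ IsUnit f := fun h => hp.ne_zero (by rw [← hdegf]; exact Polynomial.natDegree_eq_zero_of_isUnit h)
  let g := Polynomial.factor f
  have hg : Irreducible g := Polynomial.irreducible_factor f
  have hgf : g ∣ f := Polynomial.factor_dvd_of_not_isUnit hnu
  have := Fact.mk hg
  let K₃ := AdjoinRoot g
  let pb₃ := AdjoinRoot.powerBasis (f := g) hg.ne_zero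
  let z₀ : K₃ := AdjoinRoot.root g
  have hfd : FiniteDimensional K₁ K₃ := pb₃.finite
  have hz₀ : z₀ ^ p = algebraMap K₁ K₃ a₀ + algebraMap K₁ K₃ ε * z₀ := by
    have h0 : Polynomial.aeval z₀ f = 0 := by
      obtain ⟨q, hq⟩ := hgf
      rw [hq, map_mul, AdjoinRoot.aeval_eq, AdjoinRoot.mk_self, zero_mul]
    simp only [f, map_add, map_neg, map_mul, map_pow, Polynomial.aeval_C, Polynomial.aeval_X] at h0
    linear_combination h0
  have hsepK₃ : Algebra.IsSeparable K₁ K₃ := by
    have h1 : IsSeparable K₁ pb₃.gen := by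
      refine Polynomial.Separable.of_dvd hsepf (minpoly.dvd K₁ _ ?_)
      obtain ⟨q, hq⟩ := hgf
      rw [hq, map_mul, AdjoinRoot.powerBasis_gen, AdjoinRoot.aeval_eq, AdjoinRoot.mk_self, zero_mul]
    have h2 := (IntermediateField.isSeparable_adjoin_simple_iff_isSeparable K₁ K₃).2 h1
    have h3 : IntermediateField.adjoin K₁ ({pb₃.gen} : Set K₃) = ⊤ := by
      refine top_unique fun w _ => ?_
      exact IntermediateField.algebra_adjoin_le_adjoin K₁ _ (pb₃.adjoin_gen_eq_top ▸ Algebra.mem_top)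
    rw [h3] at h2
    exact AlgEquiv.Algebra.isSeparable IntermediateField.topEquiv
  refine ⟨K₃, inferInstance, inferInstance, inferInstance, inferInstance, hfd, hsepK₃, ?_⟩
  intro Ω _ _ _ _ _ _ hgen W hW
  have : CharP Ω p := charP_of_injective_algebraMap (algebraMap L Ω).injective p
  let σ : K₁ →ₐ[K] Ω := (IsScalarTower.toAlgHom K K₃ Ω).comp (IsScalarTower.toAlgHom K K₁ K₃)
  let χ : T →ₐ[L] Ω := Algebra.TensorProduct.lift (Algebra.ofId L Ω) σ fun _ _ => Commute.all _ _
  let P : PrimeSpectrum T := ⟨RingHom.ker χ.toRingHom, RingHom.ker_isPrime _⟩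
  let M := T ⧸ P.asIdeal
  have : CharP M p := charP_of_injective_algebraMap (algebraMap L M).injective p
  have : FiniteDimensional L M := Module.Finite.of_surjective (Ideal.Quotient.mkₐ L P.asIdeal).toLinearMap Ideal.Quotient.mk_surjective
  let ιM : M →+* Ω := Ideal.Quotient.lift P.asIdeal χ.toRingHom fun x hx => hx
  have hιmk : ∀ x : T, ιM (Ideal.Quotient.mk P.asIdeal x) = χ x := fun x => rfl
  have hιL : ∀ l : L, ιM (algebraMap L M l) = algebraMap L Ω l := fun l => by
    rw [IsScalarTower.algebraMap_apply L T M, Ideal.Quotient.algebraMap_eq, hιmk, χ.commutes]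
  have hισ : ∀ k : K₁, ιM (Ideal.Quotient.mk P.asIdeal (Algebra.TensorProduct.includeRight k)) = algebraMap K₃ Ω (algebraMap K₁ K₃ k) := fun k => by
    rw [hιmk]
    show χ ((1 : L) ⊗ₜ[K] k) = _
    erw [Algebra.TensorProduct.lift_tmul]
    rw [map_one, one_mul]
    rfl
  let W₁ := W.comap ιM
  have hιB : ∀ b : B, ιM (algebraMap B M b) = algebraMap L Ω (algebraMap B L b) := fun b => by
    rw [IsScalarTower.algebraMap_apply B L M, hιL]
  have hW₁ : EtRam.Dominates B (algebraMap B M) W₁ := by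
    refine ⟨fun b => ?_, fun b hb => ?_⟩
    · show ιM _ ∈ W
      rw [hιB]; exact hW.1 b
    · refine lt_of_le_of_ne ((W₁.valuation_le_one_iff _).2 (by show ιM _ ∈ W; rw [hιB]; exact hW.1 b)) fun h1 => ?_
      have h2 : (algebraMap B M b)⁻¹ ∈ W₁ := (W₁.valuation_le_one_iff _).1 (by rw [map_inv₀, h1, inv_one])
      have h3 := (W.valuation_le_one_iff _).2 (show ιM _ ∈ W from h2)
      rw [map_inv₀, hιB, map_inv₀] at h3
      have h4 := hW.2 b hb
      rw [RingHom.comp_apply] at h4
      by_cases hb0 : W.valuation (algebraMap L Ω (algebraMap B L b)) = 0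
      · rw [← hιB, map_eq_zero, map_eq_zero] at hb0
        rw [hb0, map_zero] at h1
        exact zero_ne_one h1
      · exact not_le.2 ((one_lt_inv₀ (zero_lt_iff.2 hb0)).2 h4) h3
  let aM : M := Ideal.Quotient.mk P.asIdeal a₁
  let πM : M := algebraMap B M πB
  let z : Ω := algebraMap K₃ Ω z₀
  have hclose : InsepSepLib.Close (p := p) ιM W πM aM z N (st P W₁).1 (st P W₁).2 := by
    obtain ⟨hbound, hsmall⟩ := hst P W₁ hW₁
    refine ⟨?_, ?_, ?_, fun c hc i => ?_, ?_, ?_⟩
    · show algebraMap B M πB ≠ 0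
      rw [IsScalarTower.algebraMap_apply B L M]
      exact (_root_.map_ne_zero _).2 ((map_ne_zero_iff _ (IsFractionRing.injective B L)).2 ((map_ne_zero_iff _ hinj).2 hπ₀.ne_zero))
    · show W.valuation (ιM (algebraMap B M πB)) < 1
      rw [hιB]; exact hW.2 _ hπBm
    · have h1 := congrArg (algebraMap K₃ Ω) hz₀
      rw [map_pow, map_add, map_mul, ← hισ a₀] at h1
      rw [show z ^ p = _ from h1]
      congr 2
      show algebraMap K₃ Ω (algebraMap K₁ K₃ ε) = ιM (algebraMap B M πB) ^ N
      rw [hιB, map_pow, map_pow, ← IsScalarTower.algebraMap_apply K K₁ K₃, ← IsScalarTower.algebraMap_apply K K₃ Ω,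
        IsScalarTower.algebraMap_apply K L Ω, ← IsScalarTower.algebraMap_apply A K L, IsScalarTower.algebraMap_apply A B L]
    · have h1 := hbound c (by show ιM _ ∈ W; simpa [map_sum, map_mul, map_pow] using hc) i
      have h2 : ιM (algebraMap B M πB ^ (st P W₁).1 * c i) ∈ W := h1
      rwa [map_mul, map_pow] at h2
    · have h2 : ιM (algebraMap B M πB ^ (st P W₁).2 * aM) ∈ W := hsmall
      rwa [map_mul, map_pow] at h2
    · exact le_trans (Finset.le_sup (f := fun W => ((st P W).1 + 1) * p + (st P W).2 * p + 1) ((hfinW P).mem_toFinset.2 hW₁))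
        (Finset.le_sup (f := fun P : PrimeSpectrum T => (hfinW P).toFinset.sup fun W => ((st P W).1 + 1) * p + (st P W).2 * p + 1) (Finset.mem_univ P))
  -- the inseparable field
  have haM : ∀ b : M, b ^ p ≠ aM := fun b hb => by
    obtain ⟨b, rfl⟩ := Ideal.Quotient.mk_surjective b
    exact hna P.asIdeal b (Ideal.Quotient.eq.1 (by rw [map_pow]; exact hb))
  have := Fact.mk (X_pow_sub_C_irreducible_of_prime hp haM)
  let Ω₂ := AdjoinRoot (Polynomial.X ^ p - Polynomial.C aM)
  let θ : Ω₂ := AdjoinRoot.root _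
  have : CharP Ω₂ p := charP_of_injective_algebraMap (algebraMap M Ω₂).injective p
  let F : Ω₂ →+* M := AdjoinRoot.lift (frobenius M p) aM (by simp [frobenius_def])
  have hFof : ∀ m, F (algebraMap M Ω₂ m) = m ^ p := fun m => by
    show F (AdjoinRoot.of _ m) = _
    exact AdjoinRoot.lift_of _
  have hFθ : F θ = aM := AdjoinRoot.lift_root _
  have hθp : θ ^ p = algebraMap M Ω₂ aM := by
    have := AdjoinRoot.eval₂_root (Polynomial.X ^ p - Polynomial.C aM)
    simp only [Polynomial.eval₂_sub, Polynomial.eval₂_pow, Polynomial.eval₂_X, Polynomial.eval₂_C, sub_eq_zero] at this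
    exact this
  let kM : K₁ →+* M := (Ideal.Quotient.mk P.asIdeal).comp (Algebra.TensorProduct.includeRight : K₁ →ₐ[K] T).toRingHom
  let e₂ : AdjoinRoot (Polynomial.X ^ p - Polynomial.C a₀) →+* Ω₂ := AdjoinRoot.lift ((algebraMap M Ω₂).comp kM) θ (by
    simp only [Polynomial.eval₂_sub, Polynomial.eval₂_pow, Polynomial.eval₂_X, Polynomial.eval₂_C, hθp, RingHom.comp_apply]
    exact sub_self _)
  have := Fact.mk hirr₀
  let iso₀ : AdjoinRoot (Polynomial.X ^ p - Polynomial.C a₀) →ₐ[K₁] K₂ := AdjoinRoot.liftAlgHom _ (Algebra.ofId K₁ K₂) θ₂ (by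
    show Polynomial.aeval θ₂ (Polynomial.X ^ p - Polynomial.C a₀) = 0
    rw [map_sub, map_pow, Polynomial.aeval_X, Polynomial.aeval_C, ha₀, sub_self])
  have hiso : Function.Bijective iso₀ := by
    refine ⟨iso₀.toRingHom.injective, ?_⟩
    rw [← AlgHom.range_eq_top, eq_top_iff, ← htop]
    refine Algebra.adjoin_le ?_
    rintro _ rfl
    exact ⟨AdjoinRoot.root _, by simp [iso₀]⟩
  let ise := AlgEquiv.ofBijective iso₀ hiso
  let j₂ : K₂ →+* Ω₂ := e₂.comp ise.symm.toRingHom
  have hj₂k : ∀ k : K₁, j₂ (algebraMap K₁ K₂ k) = algebraMap M Ω₂ (kM k) := fun k => by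
    show e₂ (ise.symm (algebraMap K₁ K₂ k)) = _
    rw [ise.symm.commutes]; exact AdjoinRoot.lift_of _
  have hj₂θ : j₂ θ₂ = θ := by
    show e₂ (ise.symm θ₂) = _
    rw [show θ₂ = ise (AdjoinRoot.root _) by simp [ise, iso₀], AlgEquiv.symm_apply_apply]
    exact AdjoinRoot.lift_root _
  -- coefficientwise comparison
  have hFy : ∀ c : Fin p → M, ιM (F (∑ i : Fin p, algebraMap M Ω₂ (c i) * θ ^ (i : ℕ))) = InsepSepLib.powVal ιM aM c := fun c => by
    simp only [InsepSepLib.powVal, map_sum, map_mul, map_pow, hFof, hFθ]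
  let kΩ : K₁ →+* Ω := (algebraMap K₃ Ω).comp (algebraMap K₁ K₃)
  have hkΩ : ∀ k, ιM (kM k) = kΩ k := hισ
  have hzK : z ^ p = kΩ a₀ + kΩ ε * z := by
    have h1 := congrArg (algebraMap K₃ Ω) hz₀
    rw [map_pow, map_add, map_mul] at h1
    exact h1
  -- closure under `z`
  have hmulz : ∀ (S : Set K₁) (c : Fin p → K₁), ∃ c' : Fin p → K₁,
      z * ∑ i : Fin p, kΩ (c i) * z ^ (i : ℕ) = ∑ i : Fin p, kΩ (c' i) * z ^ (i : ℕ) := by
    intro _ c
    have hspan : ∀ i : Fin p, ∃ c' : Fin p → K₁, z * z ^ (i : ℕ) = ∑ j : Fin p, kΩ (c' j) * z ^ (j : ℕ) := by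
      intro i
      rcases lt_or_eq_of_le (Nat.succ_le_of_lt i.2) with hlt | heq
      · refine ⟨Pi.single ⟨_, hlt⟩ 1, ?_⟩
        rw [Finset.sum_eq_single ⟨_, hlt⟩ (fun j _ hne => by rw [Pi.single_eq_of_ne hne, map_zero, zero_mul]) (fun h => absurd (Finset.mem_univ _) h)]
        simp [pow_succ']
      · refine ⟨Pi.single ⟨0, hp.pos⟩ a₀ + Pi.single ⟨1, hp.one_lt⟩ ε, ?_⟩
        rw [← pow_succ', show (i : ℕ) + 1 = p from heq, hzK]
        simp only [Pi.add_apply, map_add, add_mul, Finset.sum_add_distrib]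
        rw [Finset.sum_eq_single ⟨0, hp.pos⟩ (fun j _ hne => by rw [Pi.single_eq_of_ne hne, map_zero, zero_mul]) (fun h => absurd (Finset.mem_univ _) h),
          Finset.sum_eq_single ⟨1, hp.one_lt⟩ (fun j _ hne => by rw [Pi.single_eq_of_ne hne, map_zero, zero_mul]) (fun h => absurd (Finset.mem_univ _) h)]
        simp
    choose c' hc' using hspan
    refine ⟨fun j => ∑ i, c i * c' i j, ?_⟩
    rw [Finset.mul_sum]
    simp only [map_sum, map_mul, Finset.sum_mul]
    rw [Finset.sum_comm]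
    refine Finset.sum_congr rfl fun i _ => ?_
    rw [mul_left_comm, hc' i, Finset.mul_sum]
    exact Finset.sum_congr rfl fun j _ => by ring
  have hK₃span : ∀ k' : K₃, ∃ c : Fin p → K₁, ∑ i : Fin p, kΩ (c i) * z ^ (i : ℕ) = algebraMap K₃ Ω k' := by
    intro k'
    induction k' using AdjoinRoot.induction_on with
    | ih q =>
      induction q using Polynomial.induction_on with
      | C k =>
        refine ⟨Pi.single ⟨0, hp.pos⟩ k, ?_⟩
        rw [Finset.sum_eq_single ⟨0, hp.pos⟩ (fun j _ hne => by rw [Pi.single_eq_of_ne hne, map_zero, zero_mul]) (fun h => absurd (Finset.mem_univ _) h)]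
        simp [kΩ]
        rfl
      | add q r hq hr =>
        obtain ⟨c, hc⟩ := hq
        obtain ⟨d, hd⟩ := hr
        exact ⟨c + d, by simp only [Pi.add_apply, map_add, add_mul, Finset.sum_add_distrib, hc, hd]⟩
      | monomial n k hk =>
        obtain ⟨c, hc⟩ := hk
        obtain ⟨c', hc'⟩ := hmulz ∅ c
        refine ⟨c', ?_⟩
        rw [← hc', hc, pow_succ, ← mul_assoc (Polynomial.C k), map_mul (AdjoinRoot.mk g) _ Polynomial.X, map_mul]
        rw [mul_comm]
        simp [z, z₀]
  have hΩspan : ∀ x : Ω, ∃ c : Fin p → M, InsepSepLib.evalRoot ιM z c = x := by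
    intro x
    let S : Submodule L Ω :=
      { carrier := {x | ∃ c : Fin p → M, InsepSepLib.evalRoot ιM z c = x}
        zero_mem' := ⟨0, by simp [InsepSepLib.evalRoot]⟩
        add_mem' := fun {u v} hu hv => by
          obtain ⟨c, rfl⟩ := hu
          obtain ⟨d, rfl⟩ := hv
          exact ⟨c + d, by simp [InsepSepLib.evalRoot, add_mul, Finset.sum_add_distrib]⟩
        smul_mem' := fun l u hu => by
          obtain ⟨c, rfl⟩ := hu
          refine ⟨fun i => algebraMap L M l * c i, ?_⟩
          simp only [InsepSepLib.evalRoot, map_mul, hιL, Algebra.smul_def, Finset.mul_sum, mul_assoc] }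
    have hone : (1 : Ω) ∈ S := ⟨fun i => if (i : ℕ) = 0 then 1 else 0, by
      simp only [InsepSepLib.evalRoot]
      rw [Finset.sum_eq_single ⟨0, hp.pos⟩ (fun j _ hne => by rw [if_neg (fun h : (j : ℕ) = 0 => hne (Fin.ext h)), map_zero, zero_mul]) (fun h => absurd (Finset.mem_univ _) h)]
      simp⟩
    have hzmul : ∀ u ∈ S, z * u ∈ S := by
      rintro u ⟨c, rfl⟩
      rw [InsepSepLib.evalRoot, Finset.mul_sum]
      refine Submodule.sum_mem _ fun i _ => ?_
      rcases lt_or_eq_of_le (Nat.succ_le_of_lt i.2) with hlt | heq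
      · refine ⟨Pi.single ⟨_, hlt⟩ (c i), ?_⟩
        rw [InsepSepLib.evalRoot, Finset.sum_eq_single ⟨_, hlt⟩ (fun j _ hne => by rw [Pi.single_eq_of_ne hne, map_zero, zero_mul]) (fun h => absurd (Finset.mem_univ _) h)]
        rw [Pi.single_eq_same, pow_succ']; ring
      · refine ⟨Pi.single ⟨0, hp.pos⟩ (c i * aM) + Pi.single ⟨1, hp.one_lt⟩ (c i * kM ε), ?_⟩
        rw [mul_left_comm, ← pow_succ', show (i : ℕ) + 1 = p from heq, hzK]
        simp only [InsepSepLib.evalRoot, Pi.add_apply, map_add, add_mul, Finset.sum_add_distrib]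
        rw [Finset.sum_eq_single ⟨0, hp.pos⟩ (fun j _ hne => by rw [Pi.single_eq_of_ne hne, map_zero, zero_mul]) (fun h => absurd (Finset.mem_univ _) h),
          Finset.sum_eq_single ⟨1, hp.one_lt⟩ (fun j _ hne => by rw [Pi.single_eq_of_ne hne, map_zero, zero_mul]) (fun h => absurd (Finset.mem_univ _) h)]
        simp only [Pi.single_eq_same, map_mul, hkΩ, pow_zero, mul_one, pow_one]
        rw [show ιM aM = kΩ a₀ from hkΩ a₀]
        ring
    have hkmul : ∀ (k : K₁) (u : Ω), u ∈ S → kΩ k * u ∈ S := by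
      rintro k u ⟨c, rfl⟩
      exact ⟨fun i => kM k * c i, by simp only [InsepSepLib.evalRoot, map_mul, hkΩ, Finset.mul_sum, mul_assoc]⟩
    have hmul : ∀ (k' : K₃) (u : Ω), u ∈ S → algebraMap K₃ Ω k' * u ∈ S := by
      intro k' u hu
      obtain ⟨c, hc⟩ := hK₃span k'
      rw [← hc, Finset.sum_mul]
      refine Submodule.sum_mem _ fun i _ => ?_
      rw [mul_assoc]
      refine hkmul _ _ ?_
      have : ∀ n : ℕ, z ^ n * u ∈ S := fun n => by
        induction n with
        | zero => simpa using hu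
        | succ n ih => rw [pow_succ', mul_assoc]; exact hzmul _ ih
      exact this i
    have hall : ∀ y ∈ Algebra.adjoin L (Set.range (algebraMap K₃ Ω)), ∀ u ∈ S, y * u ∈ S := by
      intro y hy
      induction hy using Algebra.adjoin_induction with
      | mem t ht => obtain ⟨k', rfl⟩ := ht; exact fun u hu => hmul k' u hu
      | algebraMap l => exact fun u hu => by rw [← Algebra.smul_def]; exact S.smul_mem l hu
      | add u v _ _ hu hv => exact fun w hw => by rw [add_mul]; exact S.add_mem (hu w hw) (hv w hw)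
      | mul u v _ _ hu hv => exact fun w hw => by rw [mul_assoc]; exact hu _ (hv w hw)
    have hx : x ∈ S := by simpa using hall x (hgen ▸ Algebra.mem_top) 1 hone
    exact hx
  have hK₂span : ∀ k : K₂, ∃ c : Fin p → K₁, j₂ k = ∑ i : Fin p, algebraMap M Ω₂ (kM (c i)) * θ ^ (i : ℕ) := by
    let pb := AdjoinRoot.powerBasis (f := Polynomial.X ^ p - Polynomial.C a₀) hirr₀.ne_zero
    intro k
    have hdim : pb.dim = p := by rw [AdjoinRoot.powerBasis_dim, Polynomial.natDegree_X_pow_sub_C]
    refine ⟨fun i => pb.basis.repr (ise.symm k) (Fin.cast hdim.symm i), ?_⟩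
    show e₂ (ise.symm k) = _
    conv_lhs => rw [← pb.basis.sum_repr (ise.symm k)]
    rw [map_sum, ← (finCongr hdim.symm).sum_comp]
    refine Finset.sum_congr rfl fun i _ => ?_
    rw [Algebra.smul_def, map_mul, PowerBasis.coe_basis, map_pow, AdjoinRoot.powerBasis_gen]
    simp [e₂, AdjoinRoot.algebraMap_eq]
  -- the hypothesis for `Ω₂`
  letI : Algebra K₂ Ω₂ := j₂.toAlgebra
  have : IsScalarTower K L Ω₂ := IsScalarTower.of_algebraMap_eq fun k => by
    show algebraMap M Ω₂ (algebraMap K M k) = algebraMap M Ω₂ (algebraMap L M (algebraMap K L k))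
    rw [← IsScalarTower.algebraMap_apply K L M]
  have : IsScalarTower K K₂ Ω₂ := IsScalarTower.of_algebraMap_eq fun k => by
    show algebraMap M Ω₂ (algebraMap K M k) = j₂ (algebraMap K K₂ k)
    rw [IsScalarTower.algebraMap_apply K K₁ K₂, hj₂k]
    congr 1
    show algebraMap K M k = Ideal.Quotient.mk P.asIdeal ((Algebra.TensorProduct.includeRight : K₁ →ₐ[K] T) (algebraMap K K₁ k))
    rw [AlgHom.commutes, IsScalarTower.algebraMap_apply K T M, Ideal.Quotient.algebraMap_eq]
  have hgen₂ : Algebra.adjoin L (Set.range (algebraMap K₂ Ω₂)) = ⊤ := by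
    refine eq_top_iff.2 fun w hw => ?_
    clear hw
    let S := Algebra.adjoin L (Set.range (algebraMap K₂ Ω₂))
    have hM : ∀ t : T, algebraMap M Ω₂ (Ideal.Quotient.mk P.asIdeal t) ∈ S := fun t => by
      induction t using TensorProduct.induction_on with
      | zero => rw [map_zero, map_zero]; exact zero_mem _
      | add u v hu hv => rw [map_add, map_add]; exact add_mem hu hv
      | tmul l k =>
        rw [show l ⊗ₜ[K] k = algebraMap L T l * Algebra.TensorProduct.includeRight k by
          show _ = (l ⊗ₜ[K] (1 : K₁)) * ((1 : L) ⊗ₜ[K] k)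
          rw [Algebra.TensorProduct.tmul_mul_tmul, mul_one, one_mul], map_mul, map_mul]
        refine mul_mem ?_ (Algebra.subset_adjoin ⟨algebraMap K₁ K₂ k, hj₂k k⟩)
        rw [← Ideal.Quotient.algebraMap_eq, ← IsScalarTower.algebraMap_apply L T M]
        exact Subalgebra.algebraMap_mem S l
    induction w using AdjoinRoot.induction_on with
    | ih q =>
      induction q using Polynomial.induction_on with
      | C m =>
        obtain ⟨t, rfl⟩ := Ideal.Quotient.mk_surjective m
        exact hM t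
      | add u v hu hv => rw [map_add]; exact add_mem hu hv
      | monomial n m hm =>
        rw [pow_succ, ← mul_assoc, map_mul, AdjoinRoot.mk_X]
        exact mul_mem hm (Algebra.subset_adjoin ⟨θ₂, hj₂θ⟩)
  have hW₂ : EtRam.Dominates B ((algebraMap L Ω₂).comp (algebraMap B L)) (W₁.comap F) := by
    have hF : ∀ b : B, F (algebraMap L Ω₂ (algebraMap B L b)) = algebraMap B M b ^ p := fun b => by
      show F (algebraMap M Ω₂ (algebraMap L M (algebraMap B L b))) = _
      rw [hFof, ← IsScalarTower.algebraMap_apply]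
    refine ⟨fun b => ?_, fun b hb => ?_⟩
    · show F _ ∈ W₁
      rw [RingHom.comp_apply, hF]
      exact pow_mem (hW₁.1 b) p
    · refine lt_of_le_of_ne (((W₁.comap F).valuation_le_one_iff _).2 (by
        show F _ ∈ W₁; rw [RingHom.comp_apply, hF]; exact pow_mem (hW₁.1 b) p)) fun h1 => ?_
      have h2 := ((W₁.comap F).valuation_le_one_iff ((algebraMap L Ω₂).comp (algebraMap B L) b)⁻¹).1 (by rw [map_inv₀, h1, inv_one])
      have h3 := (W₁.valuation_le_one_iff _).2 (show F _ ∈ W₁ from h2)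
      rw [map_inv₀, RingHom.comp_apply, hF, map_inv₀, map_pow] at h3
      by_cases hb0 : algebraMap B M b = 0
      · have : b = 0 := by
          rw [IsScalarTower.algebraMap_apply B L M, map_eq_zero, map_eq_zero_iff _ (IsFractionRing.injective B L)] at hb0
          exact hb0
        subst this
        simp at h1
      · exact not_le.2 ((one_lt_inv₀ (pow_pos (zero_lt_iff.2 ((_root_.map_ne_zero _).2 hb0)) p)).2 (pow_lt_one₀ zero_le (hW₁.2 b hb) hp.ne_zero)) h3
  have hP₂ := hsol Ω₂ hgen₂ (W₁.comap F) hW₂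
  refine hclose.solution hp F j₂ (algebraMap K₃ Ω) (fun x => ?_) (fun k => ?_) (fun k' => ?_) hP₂
  · obtain ⟨c, hc⟩ := hΩspan x
    exact ⟨c, _, hc, hFy c⟩
  · obtain ⟨c, hc⟩ := hK₂span k
    refine ⟨fun i => kM (c i), ∑ i : Fin p, algebraMap K₁ K₃ (c i) * z₀ ^ (i : ℕ), ?_, ?_⟩
    · simp only [InsepSepLib.evalRoot, hkΩ, map_sum, map_mul, map_pow]; rfl
    · rw [hc]; exact hFy fun i => kM (c i)
  · obtain ⟨c, hc⟩ := hK₃span k'
    refine ⟨fun i => kM (c i), ∑ i : Fin p, algebraMap K₁ K₂ (c i) * θ₂ ^ (i : ℕ), ?_, ?_⟩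
    · simp only [InsepSepLib.evalRoot, hkΩ]; exact hc
    · rw [map_sum]
      simp only [map_mul, map_pow, hj₂k, hj₂θ]
      exact hFy fun i => kM (c i)

end Groth.Agent.S7151
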