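import Groth.Statements.S7152
import Mathlib

set_option autoImplicit false
set_option maxHeartbeats 1000000
set_option synthInstance.maxHeartbeats 200000
universe u
open EtAlg

namespace Groth.Agent.S7152

/-- Let A' ⊆ A be an extension of rings and f an element of A'. Assume A is finite over A', f is a
nonzerodivisor on A, and A'_f = A_f. Then there is n₀ > 0 such that for all n ≥ n₀ the following
holds: given a ring B', a nonzerodivisor g of B' and an isomorphism φ' : A'/fⁿA' → B'/gⁿB' sending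
the class of f to the class of g, one can find a ring B containing B' as a subring and finite as a
B'-module, together with a ring isomorphism φ : A/fA → B/gB that agrees with φ' (i.e. the square
formed by the maps A'/fⁿA' → A/fA and B'/gⁿB' → B/gB commutes). -/
theorem result (A' A : Type u) [CommRing A'] [CommRing A] [Algebra A' A]
    (hinj : Function.Injective (algebraMap A' A)) [Module.Finite A' A] (f : A')
    (hf : algebraMap A' A f ∈ nonZeroDivisors A)
    (hloc : Function.Bijective (IsLocalization.Away.map (Localization.Away f)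
      (Localization.Away (algebraMap A' A f)) (algebraMap A' A) f)) :
    ∃ n₀ : ℕ, 0 < n₀ ∧ ∀ n : ℕ, n₀ ≤ n →
      ∀ (B' : Type u) [CommRing B'] (g : B'), g ∈ nonZeroDivisors B' →
        ∀ φ' : (A' ⧸ Ideal.span {f ^ n}) ≃+* (B' ⧸ Ideal.span {g ^ n}),
        φ' (Ideal.Quotient.mk (Ideal.span {f ^ n}) f) = Ideal.Quotient.mk (Ideal.span {g ^ n}) g →
        ∃ (B : Type u) (_ : CommRing B) (_ : Algebra B' B),
          Function.Injective (algebraMap B' B) ∧ Module.Finite B' B ∧
          ∃ φ : (A ⧸ Ideal.span {algebraMap A' A f}) ≃+* (B ⧸ Ideal.span {algebraMap B' B g}),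
            ∀ (a' : A') (b' : B'),
              φ' (Ideal.Quotient.mk (Ideal.span {f ^ n}) a') = Ideal.Quotient.mk (Ideal.span {g ^ n}) b' →
              φ (Ideal.Quotient.mk (Ideal.span {algebraMap A' A f}) (algebraMap A' A a')) =
                Ideal.Quotient.mk (Ideal.span {algebraMap B' B g}) (algebraMap B' B b') := by
  classical
  set F := algebraMap A' A f with hF
  obtain ⟨s, hs⟩ := (Module.Finite.fg_top : (⊤ : Submodule A' A).FG)
  have hex : ∀ a : A, ∃ (k : ℕ) (a' : A'), algebraMap A' A a' = F ^ k * a := by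
    intro a
    obtain ⟨y, hy⟩ := hloc.2 (algebraMap A (Localization.Away F) a)
    obtain ⟨a', ⟨_, k, rfl⟩, rfl⟩ := IsLocalization.exists_mk'_eq (Submonoid.powers f) y
    refine ⟨k, a', ?_⟩
    have hinjA : Function.Injective (algebraMap A (Localization.Away F)) :=
      IsLocalization.injective (Localization.Away F) (Submonoid.powers_le.2 hf)
    apply hinjA
    have h2 := congrArg (fun z => IsLocalization.Away.map (Localization.Away f) (Localization.Away F)
      (algebraMap A' A) f z) (IsLocalization.mk'_spec (Localization.Away f) a'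
        (⟨f ^ k, k, rfl⟩ : Submonoid.powers f))
    simp only [map_mul, IsLocalization.Away.map, IsLocalization.map_eq] at h2
    rw [IsLocalization.Away.map] at hy
    rw [hy] at h2
    rw [← h2, map_mul, map_pow, map_pow, hF, mul_comm]
  choose kk aa hka using hex
  obtain ⟨c, hcgen⟩ : ∃ c : ℕ, ∀ a ∈ s, kk a ≤ c := ⟨s.sup kk, fun a ha => Finset.le_sup ha⟩
  have hcall : ∀ a : A, ∃ a' : A', algebraMap A' A a' = F ^ c * a := by
    intro a
    have ha : a ∈ Submodule.span A' (s : Set A) := by rw [hs]; trivial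
    induction ha using Submodule.span_induction with
    | mem x hx => exact ⟨f ^ (c - kk x) * aa x, by
        rw [map_mul, map_pow, hka, ← mul_assoc, ← pow_add, Nat.sub_add_cancel (hcgen x hx)]⟩
    | zero => exact ⟨0, by simp⟩
    | add x y _ _ hx hy =>
      obtain ⟨x', hx⟩ := hx
      obtain ⟨y', hy⟩ := hy
      exact ⟨x' + y', by rw [map_add, hx, hy, mul_add]⟩
    | smul r x _ hx =>
      obtain ⟨x', hx⟩ := hx
      exact ⟨r * x', by rw [map_mul, hx, Algebra.smul_def]; ring⟩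
  refine ⟨2 * c + 1, by omega, fun n hn B' _ g hg φ' hφg => ?_⟩
  let If := Ideal.span {f ^ n}
  let Ig := Ideal.span {g ^ n}
  let mf := Ideal.Quotient.mk If
  let mg := Ideal.Quotient.mk Ig
  let Lg := Localization.Away g
  let ι := algebraMap B' Lg
  have hι : Function.Injective ι := IsLocalization.injective Lg (Submonoid.powers_le.2 hg)
  set γ := ι g with hγ
  have hγu : IsUnit γ := IsLocalization.Away.algebraMap_isUnit g
  have hpow : ∀ k : ℕ, φ' (mf (f ^ k)) = mg (g ^ k) := fun k => by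
    rw [map_pow, map_pow, map_pow]; exact congrArg (· ^ k) hφg
  let Rel : A → Lg → Prop := fun a x => ∃ (c' : A') (j : B'),
    algebraMap A' A c' = F ^ c * a ∧ φ' (mf c') = mg j ∧ ι j = x * γ ^ c
  have hbase : ∀ (a' : A') (b' : B'), φ' (mf a') = mg b' → Rel (algebraMap A' A a') (ι b') := fun a' b' h =>
    ⟨f ^ c * a', g ^ c * b', by rw [map_mul, map_pow, hF], by rw [map_mul, map_mul, map_mul, hpow, h],
      by rw [map_mul, map_pow, ← hγ, mul_comm]⟩
  have hone : Rel 1 1 := by simpa using hbase 1 1 (by simp)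
  have hzero : Rel 0 0 := by simpa using hbase 0 0 (by simp)
  have hadd : ∀ a b x y, Rel a x → Rel b y → Rel (a + b) (x + y) := fun a b x y ⟨c₁, j₁, h₁, e₁, i₁⟩
      ⟨c₂, j₂, h₂, e₂, i₂⟩ => ⟨c₁ + c₂, j₁ + j₂, by rw [map_add, h₁, h₂, mul_add],
        by rw [map_add, map_add, map_add, e₁, e₂], by rw [map_add, i₁, i₂, add_mul]⟩
  have hneg : ∀ a x, Rel a x → Rel (-a) (-x) := fun a x ⟨c₁, j₁, h₁, e₁, i₁⟩ =>
    ⟨-c₁, -j₁, by rw [map_neg, h₁, mul_neg], by rw [map_neg, map_neg, map_neg, e₁],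
      by rw [map_neg, i₁, neg_mul]⟩
  have hgn : ∀ t : B', Rel 0 (γ ^ (n - c) * ι t) := fun t =>
    ⟨0, g ^ n * t, by simp, by
      rw [map_zero, map_zero]
      exact (Ideal.Quotient.eq_zero_iff_mem.2
        (Ideal.mul_mem_right t _ (Ideal.mem_span_singleton_self _))).symm, by
      rw [map_mul, map_pow, ← hγ, mul_right_comm, ← pow_add, Nat.sub_add_cancel (by omega)]⟩
  have hFc : ∀ a : A, F ^ c * a = 0 → a = 0 := fun a h => by
    rw [mul_comm] at h; exact (mem_nonZeroDivisors_iff_right.1 (pow_mem hf c)) a h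
  have hFn : ∀ t : A', ∀ a : A, algebraMap A' A (f ^ n * t) = F ^ c * a → a ∈ Ideal.span {F} := by
    intro t a h
    refine Ideal.mem_span_singleton'.2 ⟨F ^ (n - c - 1) * algebraMap A' A t, sub_eq_zero.1 (hFc _ ?_)⟩
    rw [mul_sub, ← h, map_mul, map_pow, ← hF]
    rw [show n = c + (n - c - 1) + 1 by omega, pow_succ, pow_add]
    simp only [show c + (n - c - 1) + 1 - c - 1 = n - c - 1 by omega]
    ring
  have hmul : ∀ a b x y, Rel a x → Rel b y → ∃ z t, Rel (a * b) z ∧ x * y = z + γ ^ (n - 2 * c) * ι t := by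
    intro a b x y ⟨c₁, j₁, h₁, e₁, i₁⟩ ⟨c₂, j₂, h₂, e₂, i₂⟩
    obtain ⟨c₃, h₃⟩ := hcall (a * b)
    have hcc : c₁ * c₂ = f ^ c * c₃ := hinj (by
      rw [map_mul, map_mul, map_pow, h₁, h₂, h₃, hF]; ring)
    obtain ⟨j₃, e₃⟩ := Ideal.Quotient.mk_surjective (φ' (mf c₃))
    have h4 : mg (j₁ * j₂) = mg (g ^ c * j₃) := by
      rw [map_mul, ← e₁, ← e₂, ← map_mul, ← map_mul, hcc, map_mul, map_mul, hpow, ← e₃, map_mul]
    obtain ⟨t, ht⟩ := Ideal.mem_span_singleton'.1 (Ideal.Quotient.eq.1 h4)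
    obtain ⟨r, hr⟩ := hγu.pow c
    refine ⟨ι j₃ * ↑r⁻¹, t, ⟨c₃, j₃, h₃, e₃.symm, by rw [mul_assoc, ← hr, Units.inv_mul, mul_one]⟩, ?_⟩
    have h5 := congrArg ι ht
    rw [map_mul, map_sub, map_mul, map_mul, map_pow, map_pow, i₁, i₂, ← hγ,
      show n = (n - 2 * c) + (c + c) by omega, pow_add, pow_add] at h5
    have h6 : ι j₃ = ι j₃ * ↑r⁻¹ * γ ^ c := by rw [mul_assoc, ← hr, Units.inv_mul, mul_one]
    refine (((hγu.pow c).mul (hγu.pow c))).mul_right_cancel ?_
    linear_combination -h5 + γ ^ c * h6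
  have hsurB : ∀ b : B', ∃ a' : A', φ' (mf a') = mg b := fun b => by
    obtain ⟨a', ha'⟩ := Ideal.Quotient.mk_surjective (φ'.symm (mg b))
    exact ⟨a', by rw [show mf a' = φ'.symm (mg b) from ha', RingEquiv.apply_symm_apply]⟩
  have hB : ∀ b : B', ∃ a, Rel a (ι b) := fun b =>
    let ⟨a', ha'⟩ := hsurB b; ⟨_, hbase a' b ha'⟩
  let S : Subalgebra B' Lg :=
    { carrier := {x | ∃ a, Rel a x}
      mul_mem' := by
        rintro x y ⟨a, ha⟩ ⟨b, hb⟩
        obtain ⟨z, t, hz, hxy⟩ := hmul a b x y ha hb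
        obtain ⟨d, hd⟩ := hB (g ^ (n - 2 * c) * t)
        rw [map_mul, map_pow, ← hγ] at hd
        exact ⟨_, hxy ▸ hadd _ _ _ _ hz hd⟩
      one_mem' := ⟨1, hone⟩
      add_mem' := by rintro x y ⟨a, ha⟩ ⟨b, hb⟩; exact ⟨_, hadd _ _ _ _ ha hb⟩
      zero_mem' := ⟨0, hzero⟩
      algebraMap_mem' := hB }
  set gS := algebraMap B' S g
  have hmem : ∀ (k : ℕ), 1 ≤ k → ∀ (t : B') (w : S), (w : Lg) = γ ^ k * ι t → w ∈ Ideal.span {gS} := by
    intro k hk t w hw
    refine Ideal.mem_span_singleton'.2 ⟨algebraMap B' S (g ^ (k - 1) * t), Subtype.ext ?_⟩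
    rw [hw, MulMemClass.coe_mul]
    show ι (g ^ (k - 1) * t) * ι g = _
    rw [← hγ, map_mul, map_pow, ← hγ, mul_right_comm, ← pow_succ, Nat.sub_add_cancel hk]
  have hwd : ∀ (a : A) (x y : S), Rel a (x : Lg) → Rel a (y : Lg) → x - y ∈ Ideal.span {gS} := by
    intro a x y ⟨c₁, j₁, h₁, e₁, i₁⟩ ⟨c₂, j₂, h₂, e₂, i₂⟩
    have hc : c₁ = c₂ := hinj (h₁.trans h₂.symm)
    obtain ⟨t, ht⟩ := Ideal.mem_span_singleton'.1 (Ideal.Quotient.eq.1 (e₁.symm.trans (hc ▸ e₂)))
    refine hmem (n - c) (by omega) t _ ((hγu.pow c).mul_right_cancel ?_)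
    have h5 := congrArg ι ht
    rw [map_mul, map_sub, map_pow, i₁, i₂, ← hγ] at h5
    rw [AddSubgroupClass.coe_sub, mul_right_comm, ← pow_add, Nat.sub_add_cancel (by omega)]
    linear_combination -h5
  have hall : ∀ a : A, ∃ x : S, Rel a (x : Lg) := fun a => by
    obtain ⟨c', hc'⟩ := hcall a
    obtain ⟨j, hj⟩ := Ideal.Quotient.mk_surjective (φ' (mf c'))
    obtain ⟨r, hr⟩ := hγu.pow c
    have hrel : Rel a (ι j * ↑r⁻¹) :=
      ⟨c', j, hc', hj.symm, by rw [mul_assoc, ← hr, Units.inv_mul, mul_one]⟩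
    exact ⟨⟨_, a, hrel⟩, hrel⟩
  choose ψ hψ using hall
  let q := Ideal.Quotient.mk (Ideal.span {gS})
  have hq : ∀ (a : A) (x : S), Rel a (x : Lg) → q (ψ a) = q x := fun a x hx =>
    Ideal.Quotient.eq.2 (hwd a _ _ (hψ a) hx)
  let Φ : A →+* S ⧸ Ideal.span {gS} :=
    { toFun := fun a => q (ψ a)
      map_one' := (hq 1 1 hone).trans (map_one q)
      map_mul' := fun a b => by
        obtain ⟨z, t, hz, hxy⟩ := hmul a b _ _ (hψ a) (hψ b)
        have hzm : z ∈ S := ⟨_, hz⟩
        rw [hq (a * b) ⟨z, hzm⟩ hz, ← map_mul]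
        refine (Ideal.Quotient.eq.2 (hmem (n - 2 * c) (by omega) t _ ?_)).symm
        rw [AddSubgroupClass.coe_sub, MulMemClass.coe_mul, hxy, add_sub_cancel_left]
      map_zero' := (hq 0 0 hzero).trans (map_zero q)
      map_add' := fun a b => (hq (a + b) (ψ a + ψ b) (hadd _ _ _ _ (hψ a) (hψ b))).trans (map_add q _ _) }
  have hΦsurj : Function.Surjective Φ := fun w => by
    obtain ⟨⟨x, a, ha⟩, rfl⟩ := Ideal.Quotient.mk_surjective w
    exact ⟨a, hq a _ ha⟩
  have hΦker : RingHom.ker Φ = Ideal.span {F} := by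
    refine le_antisymm (fun a ha => ?_) ((Ideal.span_singleton_le_iff_mem _).2 ?_)
    · obtain ⟨⟨y, b, hb⟩, hy⟩ := Ideal.mem_span_singleton'.1 (Ideal.Quotient.eq_zero_iff_mem.1 ha)
      have hy' : y * γ = (ψ a : Lg) := congrArg Subtype.val hy
      obtain ⟨c₁, j₁, h₁, e₁, i₁⟩ := hψ a
      obtain ⟨c₂, j₂, h₂, e₂, i₂⟩ := hb
      have hjj : j₁ = g * j₂ := hι (by rw [map_mul, i₁, i₂, ← hγ, ← hy']; ring)
      have h7 : mf c₁ = mf (f * c₂) := φ'.injective (by
        rw [e₁, map_mul, map_mul, e₂, hjj, map_mul]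
        congr 1
        exact hφg.symm)
      obtain ⟨t, ht⟩ := Ideal.mem_span_singleton'.1 (Ideal.Quotient.eq.1 h7)
      have h8 := hFn t (a - F * b) (by
        rw [mul_comm, ht, map_sub, map_mul, h₁, h₂, ← hF]; ring)
      have h9 : F * b ∈ Ideal.span {F} := Ideal.mul_mem_right _ _ (Ideal.mem_span_singleton_self _)
      simpa using add_mem h8 h9
    · show q (ψ F) = 0
      rw [hq F gS (hbase f g hφg), Ideal.Quotient.eq_zero_iff_mem]
      exact Ideal.mem_span_singleton_self _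
  refine ⟨S, inferInstance, inferInstance, fun x y h => hι (congrArg Subtype.val h),
    ⟨⟨insert 1 (s.image ψ), ?_⟩⟩,
    (Ideal.quotEquivOfEq hΦker.symm).trans (RingHom.quotientKerEquivOfSurjective hΦsurj), fun a' b' h => ?_⟩
  · rw [eq_top_iff]
    rintro ⟨x, a, ha⟩ -
    set N := Submodule.span B' ((insert 1 (s.image ψ) : Finset S) : Set S)
    have key : ∀ w : S, ∀ a, Rel a (w : Lg) → w ∈ N := by
      intro w a ha
      suffices ∃ v ∈ N, Rel a (v : Lg) by
        obtain ⟨v, hv, c₂, j₂, h₂, e₂, i₂⟩ := this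
        obtain ⟨c₁, j₁, h₁, e₁, i₁⟩ := ha
        have hc : c₁ = c₂ := hinj (h₁.trans h₂.symm)
        obtain ⟨t, ht⟩ := Ideal.mem_span_singleton'.1 (Ideal.Quotient.eq.1 (e₁.symm.trans (hc ▸ e₂)))
        have : w = v + (g ^ (n - c) * t) • (1 : S) := by
          refine Subtype.ext ((hγu.pow c).mul_right_cancel ?_)
          have h5 := congrArg ι ht
          rw [map_mul, map_sub, map_pow, i₁, i₂, ← hγ] at h5
          rw [AddMemClass.coe_add, SetLike.val_smul, OneMemClass.coe_one, Algebra.smul_def, mul_one]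
          show (w : Lg) * γ ^ c = ((v : Lg) + ι (g ^ (n - c) * t)) * γ ^ c
          rw [map_mul, map_pow, ← hγ, add_mul, mul_right_comm, ← pow_add, Nat.sub_add_cancel (by omega)]
          linear_combination -h5
        rw [this]
        exact add_mem hv (Submodule.smul_mem _ _ (Submodule.subset_span (by simp)))
      have hmem : a ∈ Submodule.span A' (s : Set A) := by rw [hs]; trivial
      clear ha
      induction hmem using Submodule.span_induction with
      | mem y hy => exact ⟨ψ y, Submodule.subset_span (by simp [Finset.mem_image]; exact Or.inr ⟨y, hy, rfl⟩), hψ y⟩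
      | zero => exact ⟨0, zero_mem _, hzero⟩
      | add y z _ _ hy hz =>
        obtain ⟨v, hv, hv'⟩ := hy
        obtain ⟨v', hw, hw'⟩ := hz
        exact ⟨v + v', add_mem hv hw, hadd _ _ _ _ hv' hw'⟩
      | smul r y _ hy =>
        obtain ⟨v, hv, c₁, j₁, h₁, e₁, i₁⟩ := hy
        obtain ⟨b', hb'⟩ := Ideal.Quotient.mk_surjective (φ' (mf r))
        refine ⟨b' • v, Submodule.smul_mem _ _ hv, r * c₁, b' * j₁, ?_, ?_, ?_⟩
        · rw [map_mul, h₁, Algebra.smul_def]; ring
        · rw [map_mul, map_mul, map_mul, e₁, ← hb']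
        · rw [map_mul, i₁, SetLike.val_smul, Algebra.smul_def]; ring
    exact key _ a ha
  · show q (ψ (algebraMap A' A a')) = q (algebraMap B' S b')
    exact hq _ _ (hbase a' b' h)

end Groth.Agent.S7152
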