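import Groth.Statements.S7157
import Groth.Agent.EtRamStepLib.General
import Mathlib.FieldTheory.Separable
-- import your own Groth.Agent.* helpers here

set_option autoImplicit false
universe u
open EtAlg

namespace Groth.Agent.S7157

/-- Let A be a discrete valuation ring, π a uniformizer, K its field of fractions, and suppose the
residue field of A has characteristic p > 0. For every n > 1 and every power q of p there is a
separable degree-q extension L/K that is totally ramified with respect to A and whose ring of
integers B (the integral closure of A in L) contains elements π_B, b, b' with π_B^q = π + πⁿ·b and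
π_B^q = π + π_B^(nq)·b' (π_B is then a uniformizer of B and the ramification index is q). -/
theorem result (p : ℕ) (hp : p.Prime) (A K : Type u)
    [CommRing A] [IsDomain A] [IsDiscreteValuationRing A] [Field K] [Algebra A K] [IsFractionRing A K]
    [CharP (IsLocalRing.ResidueField A) p] (π : A) (hπ : IsLocalRing.maximalIdeal A = Ideal.span {π})
    (n : ℕ) (hn : 1 < n) (k : ℕ) :
    ∃ (L : Type u) (_ : Field L) (_ : Algebra K L) (_ : Algebra A L) (_ : IsScalarTower A K L),
      Module.finrank K L = p ^ k ∧ Algebra.IsSeparable K L ∧ EtRam.IsTotallyRamified A (algebraMap A L) ∧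
      ∃ πB b b' : L, πB ∈ integralClosure A L ∧ b ∈ integralClosure A L ∧ b' ∈ integralClosure A L ∧
        πB ^ (p ^ k) = algebraMap A L π + algebraMap A L π ^ n * b ∧
        πB ^ (p ^ k) = algebraMap A L π + πB ^ (n * p ^ k) * b' := by
  classical
  have hπA : Irreducible π := (IsDiscreteValuationRing.irreducible_iff_uniformizer π).2 hπ
  rcases Nat.eq_zero_or_pos k with rfl | hk
  · refine ⟨K, inferInstance, Algebra.id K, inferInstance, inferInstance, by simp, inferInstance, ?_, algebraMap A K π, 0, 0,
      isIntegral_algebraMap, zero_mem _, zero_mem _, by simp, by simp⟩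
    let V : ValuationSubring K := MoriLib.rangeValuationSubring (D := A) (L := K)
    have hV : EtRam.Dominates A (algebraMap A K) V := by
      refine ⟨fun a => ⟨a, rfl⟩, fun a ha => lt_of_le_of_ne ((V.valuation_le_one_iff _).2 ⟨a, rfl⟩) fun h1 => ha ?_⟩
      have ha0 : algebraMap A K a ≠ 0 := fun h0 => by simp [h0] at h1
      obtain ⟨b, hb⟩ := (V.valuation_le_one_iff (algebraMap A K a)⁻¹).1 (by rw [map_inv₀, h1, inv_one])
      exact IsUnit.of_mul_eq_one b (IsFractionRing.injective A K (by rw [map_mul, hb, mul_inv_cancel₀ ha0, map_one]))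
    have huniq : ∀ V' : ValuationSubring K, EtRam.Dominates A (algebraMap A K) V' → V' = V := by
      intro V' hV'
      refine SetLike.ext fun x => ⟨fun hx => ?_, fun h => by obtain ⟨a, ha⟩ := h; exact ha ▸ hV'.1 a⟩
      by_cases hx0 : x = 0
      · rw [hx0]; exact zero_mem _
      rcases ValuationRing.isInteger_or_isInteger A x with h | ⟨a, ha⟩
      · exact h
      · by_cases hu : IsUnit a
        · obtain ⟨b, hb⟩ := isUnit_iff_exists_inv.1 hu
          refine ⟨b, ?_⟩
          have h1 := congrArg (algebraMap A K) hb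
          rw [map_mul, map_one, ha] at h1
          exact (eq_inv_of_mul_eq_one_right h1).trans (inv_inv x)
        · exfalso
          have h1 := hV'.2 a hu
          rw [ha, map_inv₀] at h1
          have hx1 := (V'.valuation_le_one_iff x).2 hx
          exact not_le.2 h1 ((one_le_inv₀ (zero_lt_iff.2 ((map_ne_zero _).2 hx0))).2 hx1)
    refine ⟨⟨V, hV⟩, fun V₁ V₂ h₁ h₂ => (huniq V₁ h₁).trans (huniq V₂ h₂).symm, fun V₁ h₁ r => ?_⟩
    obtain ⟨⟨x, hx⟩, rfl⟩ := IsLocalRing.residue_surjective r
    obtain ⟨a, ha⟩ := (show x ∈ V from huniq V₁ h₁ ▸ hx)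
    exact ⟨a, congrArg _ (Subtype.ext ha)⟩
  have hq : 1 < p ^ k := Nat.one_lt_pow hk.ne' hp.one_lt
  obtain ⟨m, rfl⟩ : ∃ m, n = m + 1 := ⟨n - 1, by omega⟩
  let f : Polynomial K := EtRamStepLib.stepPoly (algebraMap A K π) (m + 1) (p ^ k)
  have hirr : Irreducible f := EtRamStepLib.irreducible_stepPoly_gen hq hπA (by omega)
  have hsep : f.Separable := by
    rw [Polynomial.separable_iff_derivative_ne_zero hirr]
    intro h0
    have h1 := congrArg (fun g : Polynomial K => g.coeff 0) h0
    simp only [f, EtRamStepLib.stepPoly, Polynomial.derivative_add, Polynomial.derivative_X_pow, Polynomial.derivative_neg,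
      Polynomial.derivative_C_mul_X, Polynomial.derivative_C, add_zero, Polynomial.coeff_add, Polynomial.coeff_C_mul,
      Polynomial.coeff_X_pow, Polynomial.coeff_neg, Polynomial.coeff_C_zero, Polynomial.coeff_zero] at h1
    rw [if_neg (by omega), mul_zero, zero_add, neg_eq_zero, pow_eq_zero_iff (by omega), map_eq_zero_iff _ (IsFractionRing.injective A K)] at h1
    exact hπA.ne_zero h1
  have := Fact.mk hirr
  let L := AdjoinRoot f
  let pb := AdjoinRoot.powerBasis (f := f) hirr.ne_zero
  let x : L := AdjoinRoot.root f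
  have hx : x ^ p ^ k = algebraMap A L π + algebraMap A L π ^ (m + 1) * x := by
    have h0 : Polynomial.aeval x f = 0 := by rw [AdjoinRoot.aeval_eq, AdjoinRoot.mk_self]
    simp only [f, EtRamStepLib.stepPoly, map_add, map_neg, map_mul, map_pow, Polynomial.aeval_C, Polynomial.aeval_X,
      ← IsScalarTower.algebraMap_apply] at h0
    linear_combination h0
  have hint : IsIntegral A x := by
    refine ⟨EtRamStepLib.stepPoly π (m + 1) (p ^ k), EtRamStepLib.stepPoly_monic_gen π _ hq, ?_⟩
    rw [← Polynomial.aeval_def, EtRamStepLib.stepPoly]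
    simp only [map_add, map_neg, map_mul, map_pow, Polynomial.aeval_C, Polynomial.aeval_X]
    linear_combination hx
  have hfin : Module.Finite K L := pb.finite
  refine ⟨L, inferInstance, inferInstance, inferInstance, inferInstance, ?_, ?_, ?_, x, x, ?_⟩
  · rw [pb.finrank, AdjoinRoot.powerBasis_dim]; exact EtRamStepLib.stepPoly_natDegree_gen _ _ hq
  · have h1 : IsSeparable K pb.gen := by
      refine Polynomial.Separable.of_dvd hsep (minpoly.dvd K _ ?_)
      rw [AdjoinRoot.powerBasis_gen, AdjoinRoot.aeval_eq, AdjoinRoot.mk_self]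
    have h2 := (IntermediateField.isSeparable_adjoin_simple_iff_isSeparable K L).2 h1
    have h3 : IntermediateField.adjoin K ({pb.gen} : Set L) = ⊤ := top_unique fun w _ =>
      IntermediateField.algebra_adjoin_le_adjoin K _ (pb.adjoin_gen_eq_top ▸ Algebra.mem_top)
    rw [h3] at h2
    exact AlgEquiv.Algebra.isSeparable IntermediateField.topEquiv
  · rw [IsScalarTower.algebraMap_eq A K L]
    refine EtRamStepLib.totallyRamified_gen hq pb hπA (n := m) (by omega) ?_
    rw [AdjoinRoot.powerBasis_gen, map_pow, map_pow, ← IsScalarTower.algebraMap_apply]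
    linear_combination hx
  let D := integralClosure A L
  let u : D := 1 + algebraMap A D π ^ m * ⟨x, hint⟩
  have hu : IsUnit u := by
    by_contra hn
    obtain ⟨M, hM, huM⟩ := exists_max_ideal_of_mem_nonunits (a := u) hn
    have hπM : algebraMap A D π ∈ M := by
      have := Ideal.isMaximal_comap_of_isIntegral_of_isMaximal (R := A) M
      have h := IsLocalRing.eq_maximalIdeal this
      have : π ∈ M.comap (algebraMap A D) := by rw [h, hπ]; exact Ideal.mem_span_singleton_self π
      exact this
    refine hM.ne_top ((Ideal.eq_top_iff_one M).2 ?_)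
    have h2 : algebraMap A D π ^ m * (⟨x, hint⟩ : D) ∈ M := M.mul_mem_right _ (Ideal.pow_mem_of_mem M hπM m (by omega))
    simpa [u] using M.sub_mem huM h2
  obtain ⟨v, hv⟩ := hu.exists_right_inv
  have hv' : (1 + algebraMap A L π ^ m * x) * (v : L) = 1 := congrArg Subtype.val hv
  refine ⟨x * (v : L) ^ (m + 1), hint, hint, (Subalgebra.mul_mem _ hint (Subalgebra.pow_mem _ v.2 _)), hx, ?_⟩
  have hq2 : x ^ ((m + 1) * p ^ k) = algebraMap A L π ^ (m + 1) * (1 + algebraMap A L π ^ m * x) ^ (m + 1) := by
    rw [mul_comm, pow_mul, hx, ← mul_pow]; congr 1; ring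
  have hv'' : (1 + algebraMap A L π ^ m * x) ^ (m + 1) * (v : L) ^ (m + 1) = 1 := by rw [← mul_pow, hv', one_pow]
  rw [hq2, hx]
  linear_combination (-(algebraMap A L π ^ (m + 1) * x)) * hv''

end Groth.Agent.S7157
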