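import Groth.Statements.S7155
import Groth.Agent.S7157
import Groth.Agent.ASWeakLib.Gen
-- import your own Groth.Agent.* helpers here

set_option autoImplicit false
universe u
open EtAlg

namespace Groth.Agent.S7155

/-- Let A → B → C be injective local homomorphisms of discrete valuation rings whose fields of fractions
are K ⊆ L ⊆ M, where A → B is weakly unramified, K has characteristic p, M/L is Galois of degree p,
and κ_A, inside κ_B, is exactly the set of elements admitting a pⁿ-th root for every n. Then some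
finite separable extension K₁/K that is totally ramified with respect to A is a weak solution for A
→ C. (The published statement asks for K₁/K Galois; this row asks only that K₁/K be separable, which
is what the printed construction provides.) -/
theorem result (p : ℕ) (hp : p.Prime) (A B C K L M : Type u)
    [CommRing A] [IsDomain A] [IsDiscreteValuationRing A] [CommRing B] [IsDomain B] [IsDiscreteValuationRing B]
    [CommRing C] [IsDomain C] [IsDiscreteValuationRing C]
    [Algebra A B] [Algebra B C] [Algebra A C] [IsScalarTower A B C]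
    (hAB : Function.Injective (algebraMap A B)) (hBC : Function.Injective (algebraMap B C))
    [IsLocalHom (algebraMap A B)] [IsLocalHom (algebraMap B C)]
    [Field K] [Field L] [Field M] [Algebra A K] [IsFractionRing A K] [Algebra B L] [IsFractionRing B L]
    [Algebra C M] [IsFractionRing C M] [Algebra K L] [Algebra L M] [Algebra K M] [IsScalarTower K L M]
    [Algebra A L] [IsScalarTower A K L] [IsScalarTower A B L] [Algebra B M] [IsScalarTower B L M] [IsScalarTower B C M]
    [Algebra A M] [IsScalarTower A K M] [IsScalarTower A C M]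
    (hw : EtRam.IsWeaklyUnramified A B) [CharP K p] [IsGalois L M] (hdeg : Module.finrank L M = p)
    (hk : ∀ x : IsLocalRing.ResidueField B, (∀ n : ℕ, ∃ y : IsLocalRing.ResidueField B, y ^ (p ^ n) = x) ↔
      x ∈ Set.range (algebraMap (IsLocalRing.ResidueField A) (IsLocalRing.ResidueField B))) :
    ∃ (K₁ : Type u) (_ : Field K₁) (_ : Algebra K K₁), FiniteDimensional K K₁ ∧ Algebra.IsSeparable K K₁ ∧
      EtRam.IsTotallyRamified A ((algebraMap K K₁).comp (algebraMap A K)) ∧ EtRam.IsWeakSolution C K M K₁ := by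
  classical
  open ASWeakLib in
  obtain ⟨πA, hπA⟩ := IsDiscreteValuationRing.exists_irreducible A
  have hπB : Irreducible (algebraMap A B πA) := (IsDiscreteValuationRing.irreducible_iff_uniformizer _).2 (by
    rw [← hw, hπA.maximalIdeal_eq, Ideal.map_span, Set.image_singleton])
  have : Fact p.Prime := ⟨hp⟩
  have : CharP L p := charP_of_injective_algebraMap (algebraMap K L).injective p
  have : CharP B p := (RingHom.charP_iff (algebraMap B L) (IsFractionRing.injective B L) p).2 inferInstance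
  have : CharP A p := (RingHom.charP_iff (algebraMap A K) (IsFractionRing.injective A K) p).2 inferInstance
  have : CharP (IsLocalRing.ResidueField A) p := (CharP.charP_iff_prime_eq_zero hp).2 (by
    rw [← map_natCast (IsLocalRing.residue A) p, CharP.cast_eq_zero, map_zero])
  have hA : ∀ a : A, algebraMap K L (algebraMap A K a) = algebraMap B L (algebraMap A B a) := fun a => by
    rw [← IsScalarTower.algebraMap_apply, ← IsScalarTower.algebraMap_apply]
  have hBCM : ∀ b : B, algebraMap C M (algebraMap B C b) = algebraMap L M (algebraMap B L b) := fun b => by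
    rw [← IsScalarTower.algebraMap_apply, ← IsScalarTower.algebraMap_apply]
  obtain ⟨z, ξ, hz, hgen⟩ := exists_as_generator hp L M hdeg
  obtain ⟨N, b₁, hξ⟩ := exists_principalPart hπB ξ
  obtain ⟨ψ⟩ := nonempty_section (B := B) hp N
  obtain ⟨c, hc⟩ := exists_sum (p := p) (L := L) hπB ψ b₁
  have hπ0 : algebraMap B L (algebraMap A B πA) ≠ 0 :=
    (map_ne_zero_iff _ (IsFractionRing.injective B L)).2 hπB.ne_zero
  let P₀ := algebraMap B L (algebraMap A B πA)
  let I := ((Finset.Icc 1 N).filter (fun i => N < i * p)).filter (fun i => c i ≠ 0)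
  have hI : ∀ i ∈ I, 1 ≤ i ∧ i ≤ N ∧ N < i * p ∧ c i ≠ 0 := fun i hi => by
    simp only [I, Finset.mem_filter, Finset.mem_Icc] at hi
    exact ⟨hi.1.1.1, hi.1.1.2, hi.1.2, hi.2⟩
  -- rewriting `ξ`
  have hrw : ∀ (cB : ℕ → B) (s : ℕ → ℕ), (∀ i ∈ I, ψ.toFun (c i) - cB i ^ p ^ s i ∈ IsLocalRing.maximalIdeal B ^ N) →
      ∃ (τ : L) (b₀ : B), ξ = τ ^ p - τ + algebraMap B L b₀ + ∑ i ∈ I, algebraMap B L (cB i) ^ p ^ s i / P₀ ^ i := by
    intro cB s hcB
    suffices h : ξ - ∑ i ∈ I, algebraMap B L (cB i) ^ p ^ s i / P₀ ^ i ∈ asTriv p L (B := B) by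
      obtain ⟨τ, b₀, h⟩ := h
      exact ⟨τ, b₀, by rw [← h, sub_add_cancel]⟩
    rw [← hξ] at hc
    have hsub : ∑ i ∈ (Finset.Icc 1 N).filter (fun i => N < i * p), algebraMap B L (ψ.toFun (c i)) / P₀ ^ i -
        ∑ i ∈ I, algebraMap B L (ψ.toFun (c i)) / P₀ ^ i ∈ asTriv p L (B := B) := by
      rw [← Finset.sum_filter_add_sum_filter_not ((Finset.Icc 1 N).filter (fun i => N < i * p)) (fun i => c i ≠ 0),
        add_sub_cancel_left]
      refine sum_mem fun i hi => ?_
      simp only [Finset.mem_filter, Finset.mem_Icc, not_not] at hi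
      rw [hi.2]
      exact div_mem_asTriv hπB hπ0 hi.1.1.2 ψ.zero
    have hsum : ∑ i ∈ I, algebraMap B L (ψ.toFun (c i) - cB i ^ p ^ s i) / P₀ ^ i ∈ asTriv p L (B := B) :=
      sum_mem fun i hi => div_mem_asTriv hπB hπ0 (hI i hi).2.1 (hcB i hi)
    rw [Finset.sum_congr rfl fun i _ => show algebraMap B L (ψ.toFun (c i) - cB i ^ p ^ s i) / P₀ ^ i =
      algebraMap B L (ψ.toFun (c i)) / P₀ ^ i - algebraMap B L (cB i) ^ p ^ s i / P₀ ^ i by
        rw [map_sub, map_pow, sub_div], Finset.sum_sub_distrib] at hsum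
    have h := add_mem (add_mem hc hsub) hsum
    simp only [P₀] at h ⊢
    convert h using 1
    ring
  let J := I.filter (fun i => ¬ ∀ m : ℕ, ∃ y, y ^ p ^ m = c i)
  have hT : ∀ i ∈ I, i ∉ J → ∀ m : ℕ, ∃ y, y ^ p ^ m = c i := fun i hi hiJ => by
    by_contra hn
    exact hiJ (Finset.mem_filter.2 ⟨hi, hn⟩)
  by_cases hJ : J.Nonempty
  · -- the inseparable case
    have hJI : ∀ i ∈ J, i ∈ I := fun i hi => (Finset.mem_filter.1 hi).1
    choose! j d hd hdp using fun i (hi : i ∈ J) => exists_root_max hp (Finset.mem_filter.1 hi).2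
    let k := J.sup j + N + 1
    have hjk : ∀ i ∈ J, j i + (N + 1) ≤ k := fun i hi => by
      have := Finset.le_sup (f := j) hi
      simp only [k]; omega
    have hNk : N ≤ p ^ k := le_trans (by simp only [k]; omega) (Nat.lt_pow_self hp.one_lt).le
    choose! a _ha hag using fun i (hi : i ∈ I) (hiJ : i ∉ J) =>
      exists_lift_pow (A := A) hp hk ψ (hT i hi hiJ) (hI i hi).2.2.2 k hNk
    let s : ℕ → ℕ := fun i => if i ∈ J then j i else k
    let cB : ℕ → B := fun i => if i ∈ J then ψ.toFun (d i) else algebraMap A B (a i)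
    obtain ⟨τ, b₀, hξ'⟩ := hrw cB s (fun i hi => by
      by_cases hiJ : i ∈ J
      · simp only [cB, s, if_pos hiJ]
        rw [hd i hiJ]
        exact ψ.pow _ _
      · simp only [cB, s, if_neg hiJ]
        rw [← neg_sub]
        exact neg_mem (hag i hi hiJ))
    obtain ⟨K₁, _, _, _, _, hrank, hsep, htr, x, b, _, hxint, hbint, -, hx, -⟩ :=
      Groth.Agent.S7157.result p hp A K πA hπA.maximalIdeal_eq (2 * N + 2) (by omega) k
    have hdata := trData_of_root (K := K) hπA (pow_pos hp.pos k) hrank hbint (by omega : 1 < 2 * N + 2) hx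
    refine ⟨K₁, inferInstance, inferInstance, hdata.finite, hsep, hdata.totallyRamified,
      isWeakSolution hp hBCM hdata hπB hA hz hgen fun Ω _ _ _ _ _ _ W hW => ?_⟩
    have : CharP (compF L (Ω := Ω) x) p := charP_of_injective_algebraMap (algebraMap L (compF L (Ω := Ω) x)).injective p
    obtain ⟨hK₁, hU, hres⟩ := hdata.core hπB hA W hW
    let F := compF L (Ω := Ω) x
    let v := W.valuation.comap F.val.toRingHom
    let X := compX L Ω x
    let P : F := algebraMap L F P₀
    have hv : ∀ w : F, v w = W.valuation (w : Ω) := fun _ => rfl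
    have hgB : ∀ w : B, v (algebraMap L F (algebraMap B L w)) ≤ 1 := fun w => (W.valuation_le_one_iff _).2 (hW.1 w)
    have hPΩ : (P : Ω) = algebraMap K₁ Ω (algebraMap A K₁ πA) := by
      show algebraMap L Ω P₀ = _
      rw [IsScalarTower.algebraMap_apply A K K₁, ← IsScalarTower.algebraMap_apply K K₁ Ω, IsScalarTower.algebraMap_apply K L Ω, hA]
    have hjA : ∀ a' : A, algebraMap K₁ Ω (algebraMap A K₁ a') ∈ W := fun a' => by
      rw [IsScalarTower.algebraMap_apply A K K₁, ← IsScalarTower.algebraMap_apply K K₁ Ω, IsScalarTower.algebraMap_apply K L Ω, hA]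
      exact hW.1 _
    have hvP : v P = v X ^ p ^ k := by
      rw [hv, hv, hPΩ]
      show _ = W.valuation (algebraMap K₁ Ω x) ^ p ^ k
      have h := (hdata.val Ω W (algebraMap K₁ Ω) ⟨fun a' => by simpa [← IsScalarTower.algebraMap_apply A K K₁] using hjA a',
        fun a' ha' => by
          show W.valuation (algebraMap K₁ Ω (algebraMap K K₁ (algebraMap A K a'))) < 1
          rw [← IsScalarTower.algebraMap_apply K K₁ Ω, IsScalarTower.algebraMap_apply K L Ω, hA]
          exact hW.2 _ fun hu => ha' (IsUnit.of_map (algebraMap A B) a' hu)⟩).2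
      rw [← h, IsScalarTower.algebraMap_apply A K K₁]
    have hP : v (X ^ p ^ k - P) ≤ v X ^ (p ^ k * (2 * N + 2)) := by
      rw [pow_mul, ← hvP, hv, hv]
      show W.valuation (algebraMap K₁ Ω x ^ p ^ k - (P : Ω)) ≤ _
      rw [← map_pow (algebraMap K₁ Ω), hx, map_add, map_mul, map_pow, ← hPΩ, add_sub_cancel_left, map_mul, map_pow]
      exact mul_le_of_le_one_right zero_le (valuation_le_of_integral hbint W (algebraMap K₁ Ω) hjA)
    obtain ⟨i₀, hi₀, hmaxJ⟩ := J.exists_max_image (fun i => i * p ^ (k - j i)) hJ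
    have hlarge : N < p ^ (k - j i₀) :=
      lt_of_lt_of_le (Nat.lt_succ_self N) ((Nat.lt_pow_self hp.one_lt).le.trans (Nat.pow_le_pow_right hp.pos (by have := hjk i₀ hi₀; omega)))
    obtain ⟨η, t, hsum, hle, hlt⟩ := exists_reduced hp v (x := X) (P := P) hU.ne hU.lt rfl hvP hP (by omega : 2 * N ≤ 2 * N + 2) I
      (fun i hi => (hI i hi).2.1) s
      (fun i hi => by
        by_cases hiJ : i ∈ J
        · simp only [s, if_pos hiJ]; have := hjk i hiJ; omega
        · simp only [s, if_neg hiJ]; exact le_rfl)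
      (fun i => algebraMap L F (algebraMap B L (cB i))) (fun i _ => hgB _) (hJI i₀ hi₀) (hI i₀ (hJI i₀ hi₀)).1
      (fun i hi hne => by
        simp only [s, if_pos hi₀]
        by_cases hiJ : i ∈ J
        · rw [if_pos hiJ]
          refine lt_of_le_of_ne (hmaxJ i hiJ) fun heq => hne ?_
          exact eq_of_mul_pow hp (hI i hi).2.1 (hI i₀ (hJI i₀ hi₀)).2.1 (hI i hi).2.2.1 (hI i₀ (hJI i₀ hi₀)).2.2.1 heq
        · rw [if_neg hiJ, Nat.sub_self, pow_zero, mul_one]
          calc i ≤ N := (hI i hi).2.1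
            _ < p ^ (k - j i₀) := hlarge
            _ ≤ i₀ * p ^ (k - j i₀) := Nat.le_mul_of_pos_left _ (hI i₀ (hJI i₀ hi₀)).1)
    simp only [s, cB, if_pos hi₀] at hle hlt
    refine ⟨η + algebraMap L F (algebraMap B L b₀), t + algebraMap L F τ, ?_, Or.inr ?_⟩
    · rw [hξ', map_add, map_add, map_sub, map_pow, map_sum]
      simp only [map_div₀, map_pow]
      rw [hsum, add_pow_char]
      ring
    refine ⟨i₀ * p ^ (k - j i₀ - 1), Nat.one_le_iff_ne_zero.2 (Nat.mul_ne_zero (by have := (hI i₀ (hJI i₀ hi₀)).1; omega) (pow_ne_zero _ hp.ne_zero)), ?_, ?_⟩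
    all_goals
      have hE : p * (i₀ * p ^ (k - j i₀ - 1)) = i₀ * p ^ (k - j i₀) := by
        rw [mul_left_comm, ← pow_succ', show k - j i₀ - 1 + 1 = k - j i₀ by have := hjk i₀ hi₀; omega]
    · rw [hE]
      show v ((η + algebraMap L F (algebraMap B L b₀)) * X ^ (i₀ * p ^ (k - j i₀))) ≤ 1
      rw [add_mul]
      refine v.map_add_le hle ?_
      rw [map_mul, map_pow]
      exact mul_le_one' (hgB _) (pow_le_one₀ zero_le hU.lt.le)
    intro w hw1
    rw [hE]
    show 1 ≤ v ((η + algebraMap L F (algebraMap B L b₀)) * X ^ (i₀ * p ^ (k - j i₀)) - w ^ p)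
    by_contra hlt1
    push Not at hlt1
    obtain ⟨β, hβ⟩ := hres w w.2 hw1
    have hβ' : v (w - algebraMap L F (algebraMap B L β)) < 1 := hβ
    have h1 : v (algebraMap L F (algebraMap B L (ψ.toFun (d i₀))) - algebraMap L F (algebraMap B L β) ^ p) < 1 := by
      rw [show algebraMap L F (algebraMap B L (ψ.toFun (d i₀))) - algebraMap L F (algebraMap B L β) ^ p =
        ((η + algebraMap L F (algebraMap B L b₀)) * X ^ (i₀ * p ^ (k - j i₀)) - w ^ p) -
        (η * X ^ (i₀ * p ^ (k - j i₀)) - algebraMap L F (algebraMap B L (ψ.toFun (d i₀)))) -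
        algebraMap L F (algebraMap B L b₀) * X ^ (i₀ * p ^ (k - j i₀)) + (w - algebraMap L F (algebraMap B L β)) ^ p by
          rw [sub_pow_char]; ring]
      refine Valuation.map_add_lt _ (Valuation.map_sub_lt _ (Valuation.map_sub_lt _ hlt1 hlt) ?_) ?_
      · rw [map_mul, map_pow]
        exact mul_lt_one_of_nonneg_of_lt_one_right (hgB _) zero_le (pow_lt_one₀ zero_le hU.lt
          (Nat.mul_ne_zero (by have := (hI i₀ (hJI i₀ hi₀)).1; omega) (pow_ne_zero _ hp.ne_zero)))
      · rw [map_pow]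
        exact pow_lt_one₀ zero_le hβ' hp.ne_zero
    rw [← map_pow, ← map_pow, ← map_sub, ← map_sub] at h1
    have hm : ψ.toFun (d i₀) - β ^ p ∈ IsLocalRing.maximalIdeal B := by
      by_contra hn
      exact h1.ne (EtRamStepLib.valuation_eq_one_of_isUnit W hW (not_not.1 hn))
    rw [← IsLocalRing.residue_eq_zero_iff, map_sub, map_pow, ψ.res, sub_eq_zero] at hm
    exact hdp i₀ hi₀ _ hm.symm
  -- all numerators come from the base
  have hJ' : ∀ i ∈ I, i ∉ J := fun i _ hi => hJ ⟨i, hi⟩
  choose! a ha hag using fun i (hi : i ∈ I) =>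
    exists_lift_pow (A := A) hp hk ψ (hT i hi (hJ' i hi)) (hI i hi).2.2.2 N (Nat.lt_pow_self hp.one_lt).le
  obtain ⟨τ, b₀, hξ'⟩ := hrw (fun i => algebraMap A B (a i)) (fun _ => N) (fun i hi => by
    rw [← neg_sub]; exact neg_mem (hag i hi))
  choose! t n hn hin using fun i (hi : i ∈ I) =>
    Nat.exists_eq_pow_mul_and_not_dvd (n := i) (by have := (hI i hi).1; omega) p hp.ne_one
  let η : K := ∑ i ∈ I, algebraMap A K (a i ^ p ^ (N - t i)) / algebraMap A K πA ^ n i
  have hη : ∀ i ∈ I, algebraMap B L (algebraMap A B (a i)) ^ p ^ N / P₀ ^ i =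
      (algebraMap K L (algebraMap A K (a i ^ p ^ (N - t i)) / algebraMap A K πA ^ n i)) ^ p ^ t i := by
    intro i hi
    have hti : t i ≤ N := by
      have h1 : p ^ t i ≤ i := Nat.le_of_dvd (hI i hi).1 ⟨n i, hin i hi⟩
      have := (Nat.lt_pow_self hp.one_lt (n := t i))
      have := (hI i hi).2.1
      omega
    rw [map_div₀, map_pow (algebraMap K L), hA, hA, map_pow (algebraMap A B), map_pow (algebraMap B L), div_pow, ← pow_mul,
      ← pow_mul, ← pow_add, Nat.sub_add_cancel hti, mul_comm (n i), ← hin i hi]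
  -- the solution splitting off the principal part
  have hfin : ∀ (K₁ : Type u) [Field K₁] [Algebra K K₁] (e : ℕ) (x y : K₁), TRData A K K₁ πA e x → Algebra.IsSeparable K K₁ →
      y ^ p - y = algebraMap K K₁ η →
      ∃ (K₁ : Type u) (_ : Field K₁) (_ : Algebra K K₁), FiniteDimensional K K₁ ∧ Algebra.IsSeparable K K₁ ∧
      EtRam.IsTotallyRamified A ((algebraMap K K₁).comp (algebraMap A K)) ∧ EtRam.IsWeakSolution C K M K₁ := by
    intro K₁ _ _ e x y hdata hsep hy
    refine ⟨K₁, inferInstance, inferInstance, hdata.finite, hsep, hdata.totallyRamified,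
      isWeakSolution hp hBCM hdata hπB hA hz hgen fun Ω _ _ _ _ _ _ W hW => ?_⟩
    have : CharP (compF L (Ω := Ω) x) p := charP_of_injective_algebraMap (algebraMap L (compF L (Ω := Ω) x)).injective p
    obtain ⟨hK₁, hU, hres⟩ := hdata.core hπB hA W hW
    let F := compF L (Ω := Ω) x
    let Y : F := ⟨algebraMap K₁ Ω y, hK₁ y⟩
    choose t' ht' using fun i => sub_pow_eq hp (algebraMap L F (algebraMap K L (algebraMap A K (a i ^ p ^ (N - t i)) / algebraMap A K πA ^ n i))) (t i)
    have hY : algebraMap L F (algebraMap K L η) = Y ^ p - Y := by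
      refine Subtype.ext ?_
      show algebraMap L Ω (algebraMap K L η) = algebraMap K₁ Ω y ^ p - algebraMap K₁ Ω y
      rw [← IsScalarTower.algebraMap_apply, IsScalarTower.algebraMap_apply K K₁ Ω, ← hy, map_sub, map_pow]
    refine ⟨algebraMap L F (algebraMap B L b₀), algebraMap L F τ + Y + ∑ i ∈ I, t' i, ?_, Or.inl ((W.valuation_le_one_iff _).2 (hW.1 b₀))⟩
    rw [hξ', Finset.sum_congr rfl hη, map_add, map_add, map_sub, map_pow, map_sum]
    rw [Finset.sum_congr rfl fun i (_ : i ∈ I) => (map_pow (algebraMap L F) _ _).trans (ht' i), Finset.sum_add_distrib,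
      Finset.sum_sub_distrib, ← map_sum, ← map_sum, show ∑ i ∈ I, algebraMap A K (a i ^ p ^ (N - t i)) / algebraMap A K πA ^ n i = η from rfl, hY,
      add_pow_char, add_pow_char, sum_pow_char]
    ring
  by_cases hI0 : I = ∅
  · refine hfin K 1 (algebraMap A K πA) 0 (trData_self hπA) inferInstance ?_
    simp [η, hI0, zero_pow hp.ne_zero]
  · obtain ⟨i₀, hi₀, hmax⟩ := I.exists_max_image n (Finset.nonempty_iff_ne_empty.2 hI0)
    let u : A := ∑ i ∈ I, a i ^ p ^ (N - t i) * πA ^ (n i₀ - n i)
    have hu : IsUnit u := by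
      refine IsLocalRing.notMem_maximalIdeal.1 fun hmem => ?_
      rw [show u = _ from (Finset.add_sum_erase I _ hi₀).symm] at hmem
      have hrest : ∑ i ∈ I.erase i₀, a i ^ p ^ (N - t i) * πA ^ (n i₀ - n i) ∈ IsLocalRing.maximalIdeal A := by
        refine sum_mem fun i hi => ?_
        obtain ⟨hne, hiI⟩ := Finset.mem_erase.1 hi
        refine Ideal.mul_mem_left _ _ (Ideal.pow_mem_of_mem _ (hπA.maximalIdeal_eq ▸ Ideal.mem_span_singleton_self πA) _ ?_)
        refine Nat.sub_pos_of_lt (lt_of_le_of_ne (hmax i hiI) fun heq => hne ?_)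
        refine eq_of_mul_pow hp (hI i hiI).2.1 (hI i₀ hi₀).2.1 (hI i hiI).2.2.1 (hI i₀ hi₀).2.2.1 (a := t i₀) (a' := t i) ?_
        calc i * p ^ t i₀ = p ^ t i * n i * p ^ t i₀ := by rw [← hin i hiI]
          _ = p ^ t i₀ * n i₀ * p ^ t i := by rw [heq]; ring
          _ = i₀ * p ^ t i := by rw [← hin i₀ hi₀]
      have := (IsLocalRing.maximalIdeal A).sub_mem hmem hrest
      rw [add_sub_cancel_right, Nat.sub_self, pow_zero, mul_one] at this
      exact this ((ha i₀ hi₀).pow _)
    obtain ⟨K₁, _, _, x, y, hdata, hsep, hy⟩ := exists_asExt (K := K) hp hπA (hn i₀ hi₀) hu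
    refine hfin K₁ p x y hdata hsep (hy.trans (congrArg _ ?_))
    simp only [η, u, map_sum, Finset.sum_div, map_mul, map_pow]
    refine Finset.sum_congr rfl fun i hi => ?_
    have h0 : algebraMap A K πA ≠ 0 := (map_ne_zero_iff _ (IsFractionRing.injective A K)).2 hπA.ne_zero
    rw [div_eq_div_iff (pow_ne_zero _ h0) (pow_ne_zero _ h0), mul_assoc, ← pow_add, Nat.sub_add_cancel (hmax i hi)]

end Groth.Agent.S7155
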