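import Groth.Statements.S7156
import Groth.Agent.EtRamStepLib.Ext
-- import your own Groth.Agent.* helpers here

set_option autoImplicit false
universe u
open EtAlg

namespace Groth.Agent.S7156

open TensorProduct in
/-- Let A → B → C be injective local homomorphisms of discrete valuation rings whose fields of fractions
are K ⊆ L ⊆ M, and let π be a uniformizer of A; suppose B is a Nagata ring, A → B is weakly
unramified, and M/L is purely inseparable of prime degree p. Then one of the following holds: the
extension A → C is itself weakly unramified; or else C = B[π^(1/p)]; or else there is a separable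
degree-p extension K₁/K, totally ramified with respect to A, for which L ⊗_K K₁ and M ⊗_K K₁ are
fields and the integral closures A₁ → B₁ → C₁ are weakly unramified extensions, i.e. K₁ is a weak
solution for A ⊆ B and for A ⊆ C. -/
theorem result (p : ℕ) (hp : p.Prime) (A B C K L M : Type u)
    [CommRing A] [IsDomain A] [IsDiscreteValuationRing A] [CommRing B] [IsDomain B] [IsDiscreteValuationRing B]
    [CommRing C] [IsDomain C] [IsDiscreteValuationRing C]
    [Algebra A B] [Algebra B C] [Algebra A C] [IsScalarTower A B C]
    (hAB : Function.Injective (algebraMap A B)) (hBC : Function.Injective (algebraMap B C))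
    [IsLocalHom (algebraMap A B)] [IsLocalHom (algebraMap B C)]
    [Field K] [Field L] [Field M] [Algebra A K] [IsFractionRing A K] [Algebra B L] [IsFractionRing B L]
    [Algebra C M] [IsFractionRing C M] [Algebra K L] [Algebra L M] [Algebra K M] [IsScalarTower K L M]
    [Algebra A L] [IsScalarTower A K L] [IsScalarTower A B L] [Algebra B M] [IsScalarTower B L M] [IsScalarTower B C M]
    [Algebra A M] [IsScalarTower A K M] [IsScalarTower A C M]
    (π : A) (hπ : IsLocalRing.maximalIdeal A = Ideal.span {π}) (hB : CAlg.IsNagata B)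
    (hw : EtRam.IsWeaklyUnramified A B) [IsPurelyInseparable L M] (hdeg : Module.finrank L M = p) :
    EtRam.IsWeaklyUnramified A C ∨
      (∃ c : C, c ^ p = algebraMap A C π ∧ Algebra.adjoin B {c} = ⊤) ∨
      ∃ (K₁ : Type u) (_ : Field K₁) (_ : Algebra K K₁),
        Module.finrank K K₁ = p ∧ Algebra.IsSeparable K K₁ ∧
          EtRam.IsTotallyRamified A ((algebraMap K K₁).comp (algebraMap A K)) ∧
          IsField (L ⊗[K] K₁) ∧ IsField (M ⊗[K] K₁) ∧
          EtRam.IsWeakSolution B K L K₁ ∧ EtRam.IsWeakSolution C K M K₁ := by
  classical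
  have hπA : Irreducible π := (IsDiscreteValuationRing.irreducible_iff_uniformizer π).2 hπ
  have hmB : IsLocalRing.maximalIdeal B = Ideal.span {algebraMap A B π} := by
    rw [← hw, hπ, Ideal.map_span, Set.image_singleton]
  have hπB : Irreducible (algebraMap A B π) := (IsDiscreteValuationRing.irreducible_iff_uniformizer _).2 hmB
  by_cases hu : EtRam.IsWeaklyUnramified A C
  · exact Or.inl hu
  have hnot : (IsLocalRing.maximalIdeal B).map (algebraMap B C) ≠ IsLocalRing.maximalIdeal C := fun h => hu (by
    show (IsLocalRing.maximalIdeal A).map (algebraMap A C) = _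
    rw [IsScalarTower.algebraMap_eq A B C, ← Ideal.map_map, hw, h])
  have hex := EtRamStepLib.exists_uniformizer_pow hp hdeg hπB hBC hnot
  by_cases hexact : ∃ c : C, c ^ p = algebraMap B C (algebraMap A B π)
  · obtain ⟨c, hc⟩ := hexact
    refine Or.inr (Or.inl ⟨c, by rw [hc, ← IsScalarTower.algebraMap_apply], ?_⟩)
    exact EtRamStepLib.adjoin_eq_top hp hdeg hπB c 1 (by rw [Units.val_one, one_mul, hc]) hBC
  push Not at hexact
  obtain ⟨n, c, w, hn, -, hc, hws⟩ := EtRamStepLib.exists_max hp hdeg hπB hB hBC hex hexact
  have : ExpChar L p := EtRamStepLib.charP_of_finrank hp hdeg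
  have : ExpChar K p := (RingHom.expChar_iff _ (algebraMap K L).injective p).2 ‹_›
  have : CharP K p := by
    obtain ⟨q, hq⟩ := CharP.exists K
    have := (char_eq_expChar_iff K q p).2 (by
      rcases CharP.char_is_prime_or_zero K q with hq' | hq'
      · exact hq'
      · subst hq'
        have := expChar_one_of_char_zero K p
        exact absurd this hp.ne_one)
    rwa [← this]
  have : ExpChar B p := (RingHom.expChar_iff _ (IsFractionRing.injective B L) p).2 ‹_›
  -- the uniformiser `c`
  obtain ⟨m, rfl⟩ : ∃ m, n = m + 1 := ⟨n - 1, by omega⟩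
  have hu1 : IsUnit (1 + (algebraMap A B π) ^ m * w) := by
    refine IsLocalRing.notMem_maximalIdeal.1 fun h => ?_
    rcases Nat.eq_zero_or_pos m with rfl | hm
    · refine hws (-1) ?_
      rw [show (-1 : B) ^ p = -1 by
        rw [← zero_sub, sub_pow_expChar, zero_pow hp.ne_zero, one_pow]]
      simpa [sub_neg_eq_add, add_comm] using h
    · have h1 : algebraMap A B π ^ m * w ∈ IsLocalRing.maximalIdeal B := by
        rw [hmB, Ideal.mem_span_singleton]; exact Dvd.dvd.mul_right (dvd_pow_self _ hm.ne') w
      exact (IsLocalRing.maximalIdeal.isMaximal B).ne_top ((Ideal.eq_top_iff_one _).2 (by simpa using sub_mem h h1))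
  have hc' : c ^ p = algebraMap B C (hu1.unit * algebraMap A B π) := by
    rw [hc, IsUnit.unit_spec]; congr 1; ring
  have hspan := EtRamStepLib.adjoin_eq_top_of_prime_finrank hp hdeg
    (EtRamStepLib.not_mem_range hp hdeg hπB c hu1.unit hc' hBC)
  -- the extension
  let f : Polynomial K := EtRamStepLib.stepPoly (algebraMap A K π) (m + 1 + 1) p
  have hirr : Irreducible f := EtRamStepLib.irreducible_stepPoly hp hπA (by omega)
  have hmon : f.Monic := EtRamStepLib.stepPoly_monic _ _ hp
  have hπK : algebraMap A K π ≠ 0 := (map_ne_zero_iff _ (IsFractionRing.injective A K)).2 hπA.ne_zero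
  have hsep : f.Separable := EtRamStepLib.separable_stepPoly hp hπK _
  have := Fact.mk hirr
  let pb := AdjoinRoot.powerBasis (f := f) hirr.ne_zero
  have hminp : minpoly K pb.gen = f :=
    (minpoly.eq_of_irreducible_of_monic hirr (by simp [pb, AdjoinRoot.aeval_eq]) hmon).symm
  have hdeg1 : Module.finrank K (AdjoinRoot f) = p := by
    rw [pb.finrank, AdjoinRoot.powerBasis_dim]; exact EtRamStepLib.stepPoly_natDegree _ _ hp
  have hsepK : Algebra.IsSeparable K (AdjoinRoot f) := by
    have h1 : IsSeparable K pb.gen := by
      show (minpoly K pb.gen).Separable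
      rw [hminp]; exact hsep
    have h2 := (IntermediateField.isSeparable_adjoin_simple_iff_isSeparable K (AdjoinRoot f)).2 h1
    have h3 : IntermediateField.adjoin K ({pb.gen} : Set (AdjoinRoot f)) = ⊤ := by
      refine top_unique fun z _ => ?_
      exact IntermediateField.algebra_adjoin_le_adjoin K _ (pb.adjoin_gen_eq_top ▸ Algebra.mem_top)
    rw [h3] at h2
    exact AlgEquiv.Algebra.isSeparable IntermediateField.topEquiv
  have hirrL : Irreducible (f.map (algebraMap K L)) := by
    rw [EtRamStepLib.map_stepPoly, ← IsScalarTower.algebraMap_apply, IsScalarTower.algebraMap_apply A B L]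
    exact EtRamStepLib.irreducible_stepPoly hp hπB (by omega)
  have hirrM : Irreducible (f.map (algebraMap K M)) := by
    rw [IsScalarTower.algebraMap_eq K L M, ← Polynomial.map_map]
    exact Polynomial.Separable.map_irreducible_of_isPurelyInseparable (E := M) hsep.map hirrL
  have hx : pb.gen ^ p = algebraMap K (AdjoinRoot f) (algebraMap A K π) *
      (1 + algebraMap K (AdjoinRoot f) (algebraMap A K π ^ (m + 1)) * pb.gen) := by
    have h0 : Polynomial.aeval pb.gen f = 0 := by
      have := minpoly.aeval K pb.gen
      generalize hq : minpoly K pb.gen = q at this hminp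
      subst hminp
      exact this
    have h1 : f = EtRamStepLib.stepPoly (algebraMap A K π) (m + 1 + 1) p := rfl
    unfold EtRamStepLib.stepPoly at h1
    have h2 := congrArg (Polynomial.aeval pb.gen) h1
    rw [h0, map_add, map_neg, map_add, map_mul, map_pow, Polynomial.aeval_C, Polynomial.aeval_C, Polynomial.aeval_X,
      pow_succ, map_mul] at h2
    linear_combination -h2
  refine Or.inr (Or.inr ⟨AdjoinRoot f, inferInstance, inferInstance, hdeg1, hsepK, ?_, ?_, ?_, ?_, ?_⟩)
  · exact EtRamStepLib.totallyRamified hp pb hπA (Nat.succ_pos m) (by rw [map_pow (algebraMap A K)]; exact hx)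
  · exact EtRamStepLib.isField_tensor pb (by rw [hminp]; exact hirrL)
  · exact EtRamStepLib.isField_tensor pb (by rw [hminp]; exact hirrM)
  · exact EtRamStepLib.weakSolution_base hp pb hπB
      (by rw [← IsScalarTower.algebraMap_apply, IsScalarTower.algebraMap_apply A B L]) (Nat.succ_pos m) hx
  · exact EtRamStepLib.weakSolution_top hp pb hπB
      (by rw [← IsScalarTower.algebraMap_apply, IsScalarTower.algebraMap_apply A B L]) (Nat.succ_pos m) c w hc hws hspan hx

end Groth.Agent.S7156
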