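import Groth.Statements.S7158
import Groth.Agent.ASWeakLib.Gen
import Groth.Agent.SHDescLib.Tools
import Mathlib.FieldTheory.PurelyInseparable.Basic

set_option autoImplicit false
universe u
open EtAlg

namespace Groth.Agent.S7158

open Polynomial IsLocalRing

section

variable {p : ℕ} (hp : p.Prime) {A K L : Type u} [CommRing A] [IsDomain A]
  [IsDiscreteValuationRing A] [Field K] [Algebra A K] [IsFractionRing A K] [Field L] [Algebra K L] [Algebra A L]
  [IsScalarTower A K L] [CharP K p] {π : A} {ξ : K} {z : L} (hz : z ^ p - z = algebraMap K L ξ)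
  (hgen : IntermediateField.adjoin K {z} = ⊤)

include hp

theorem separable_as {F : Type u} [Field F] [CharP F p] (c : F) : (X ^ p - X - C c : F[X]).Separable := by
  rw [separable_def, derivative_sub, derivative_sub, derivative_X_pow, derivative_X, derivative_C, CharP.cast_eq_zero, C_0,
    zero_mul, zero_sub, sub_zero]
  exact ⟨0, -1, by ring⟩

include hz

omit [IsFractionRing A K] [Algebra A L] [IsScalarTower A K L] [CharP K p] in
theorem aeval_as : aeval z (X ^ p - X - C ξ) = 0 := by
  simp only [map_sub, map_pow, aeval_X, aeval_C]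
  exact sub_eq_zero.2 hz

omit [IsFractionRing A K] [Algebra A L] [IsScalarTower A K L] [CharP K p] in
theorem isIntegral_z : IsIntegral K z :=
  ⟨_, ASWeakLib.monic_asPoly hp ξ, by rw [← aeval_def]; exact aeval_as hp hz⟩

include hgen

omit [IsFractionRing A K] [Algebra A L] [IsScalarTower A K L] [CharP K p] in
theorem span_as (ω : L) : ∃ c : Fin p → K, ω = ∑ i : Fin p, algebraMap K L (c i) * z ^ (i : ℕ) := by
  have hω : ω ∈ Algebra.adjoin K ({z} : Set L) := by
    rw [← IntermediateField.adjoin_simple_toSubalgebra_of_isAlgebraic (isIntegral_z hp hz).isAlgebraic, hgen]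
    trivial
  rw [Algebra.adjoin_singleton_eq_range_aeval] at hω
  obtain ⟨Q, hQ⟩ := hω
  have hf := ASWeakLib.monic_asPoly hp ξ
  refine ⟨fun i => (Q %ₘ (X ^ p - X - C ξ)).coeff i, ?_⟩
  rw [← hQ]
  change aeval z Q = _
  rw [← aeval_modByMonic_eq_self_of_root (aeval_as hp hz), aeval_eq_sum_range' (n := p) ?_, Finset.sum_range]
  · exact Finset.sum_congr rfl fun i _ => Algebra.smul_def _ _
  · exact lt_of_lt_of_eq (natDegree_modByMonic_lt Q hf (fun h1 => hp.ne_zero (by
      rw [← ASWeakLib.natDegree_asPoly hp ξ, h1, natDegree_one]))) (ASWeakLib.natDegree_asPoly hp ξ)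

omit [IsFractionRing A K] [Algebra A L] [IsScalarTower A K L] in
theorem finrank_as (h : ∀ r : K, r ^ p - r ≠ ξ) : Module.finrank K L = p := by
  have h2 := minpoly.eq_of_irreducible_of_monic (ASWeakLib.irreducible_asPoly hp ξ h) (aeval_as hp hz)
    (ASWeakLib.monic_asPoly hp ξ)
  have h1 := IntermediateField.adjoin.finrank (isIntegral_z hp hz)
  rw [hgen, IntermediateField.finrank_top', ← h2, ASWeakLib.natDegree_asPoly hp] at h1
  exact h1

omit [IsFractionRing A K] [Algebra A L] [IsScalarTower A K L] in
theorem rootSet_as (w : L) (hw : w ^ p - w = algebraMap K L ξ) :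
    ∃ n : ℕ, w = z + n := by
  have : Fact p.Prime := ⟨hp⟩
  have : CharP L p := charP_of_injective_algebraMap (algebraMap K L).injective p
  have h3 : (w - z) ^ p = w - z := by rw [sub_pow_char]; linear_combination hw - hz
  let ι := ZMod.castHom (dvd_refl p) L
  have hroots : (X ^ p - X : (ZMod p)[X]).roots = Finset.univ.val := by
    have := FiniteField.roots_X_pow_card_sub_X (ZMod p)
    rwa [ZMod.card] at this
  have hmap : ((X ^ p - X : (ZMod p)[X]).map ι).roots = (Finset.univ : Finset (ZMod p)).val.map ι := by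
    rw [← hroots]
    refine (roots_map_of_injective_of_card_eq_natDegree ι.injective ?_).symm
    rw [hroots, FiniteField.X_pow_card_sub_X_natDegree_eq (ZMod p) hp.one_lt, Finset.card_val, Finset.card_univ, ZMod.card]
  have h4 : w - z ∈ ((X ^ p - X : (ZMod p)[X]).map ι).roots := by
    rw [mem_roots]
    · simp [h3]
    · rw [Polynomial.map_ne_zero_iff ι.injective]
      exact FiniteField.X_pow_card_sub_X_ne_zero (ZMod p) hp.one_lt
  rw [hmap, Multiset.mem_map] at h4
  obtain ⟨i, -, hi⟩ := h4
  refine ⟨i.val, ?_⟩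
  rw [← map_natCast ι, ZMod.natCast_zmod_val, hi]
  ring

omit [IsFractionRing A K] [Algebra A L] [IsScalarTower A K L] in
theorem finrank_one {r : K} (hr : r ^ p - r = ξ) : Module.finrank K L = 1 := by
  obtain ⟨n, hn⟩ := rootSet_as hp hz hgen (algebraMap K L r) (by rw [← map_pow, ← map_sub, hr])
  have hbot : (⊤ : IntermediateField K L) = ⊥ := by
    rw [← hgen]
    refine le_bot_iff.1 (IntermediateField.adjoin_simple_le_iff.2 (IntermediateField.mem_bot.2 ⟨r - n, ?_⟩))
    rw [map_sub, hn, map_natCast]
    ring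
  rw [← IntermediateField.finrank_top', hbot, IntermediateField.finrank_bot]

omit [IsFractionRing A K] [Algebra A L] [IsScalarTower A K L] in
theorem galois_as : IsGalois K L := by
  classical
  have : Fact p.Prime := ⟨hp⟩
  have : CharP L p := charP_of_injective_algebraMap (algebraMap K L).injective p
  have hdeg : ((X ^ p - X - C ξ : K[X]).map (algebraMap K L)).natDegree = p := by
    rw [natDegree_map, ASWeakLib.natDegree_asPoly hp]
  have hm : ((X ^ p - X - C ξ : K[X]).map (algebraMap K L)).Monic := (ASWeakLib.monic_asPoly hp ξ).map _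
  have hroot : ∀ i : ZMod p, z + ZMod.castHom dvd_rfl L i ∈ ((X ^ p - X - C ξ : K[X]).map (algebraMap K L)).roots := by
    intro i
    rw [mem_roots hm.ne_zero]
    have h1 : (ZMod.castHom dvd_rfl L i) ^ p = ZMod.castHom dvd_rfl L i := by rw [← map_pow, ZMod.pow_card]
    simp only [IsRoot, Polynomial.map_sub, Polynomial.map_pow, map_X, map_C, eval_sub, eval_pow, eval_X, eval_C]
    rw [add_pow_char, h1]
    linear_combination hz
  have hsplit : ((X ^ p - X - C ξ : K[X]).map (algebraMap K L)).Splits := by
    refine splits_iff_card_roots.2 (le_antisymm (card_roots' _) ?_)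
    rw [hdeg]
    have hle : (Finset.univ : Finset (ZMod p)).image (fun i => z + ZMod.castHom dvd_rfl L i) ⊆
        ((X ^ p - X - C ξ : K[X]).map (algebraMap K L)).roots.toFinset := fun w hw => by
      obtain ⟨i, -, rfl⟩ := Finset.mem_image.1 hw
      exact Multiset.mem_toFinset.2 (hroot i)
    have := (Finset.card_le_card hle).trans (Multiset.toFinset_card_le _)
    rwa [Finset.card_image_of_injective _ (fun i j h => (ZMod.castHom dvd_rfl L).injective (add_left_cancel h)),
      Finset.card_univ, ZMod.card] at this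
  have hsf : (X ^ p - X - C ξ : K[X]).IsSplittingField K L := by
    refine ⟨hsplit, top_unique fun w _ => ?_⟩
    obtain ⟨c, rfl⟩ := span_as hp hz hgen w
    refine sum_mem fun i _ => mul_mem (Subalgebra.algebraMap_mem _ _) (pow_mem (Algebra.subset_adjoin ?_) _)
    rw [mem_rootSet]
    exact ⟨(ASWeakLib.monic_asPoly hp ξ).ne_zero, aeval_as hp hz⟩
  exact IsGalois.of_separable_splitting_field (separable_as hp ξ)

variable (hπ : Irreducible π)
include hπ

/-- `ξ` in `A`: no ramification. -/
theorem case_integral {a : A} (ha : algebraMap A K a = ξ) : EtRam.IsUnramifiedExt A (algebraMap A L) := by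
  intro V hV
  letI : Algebra A V := (RingHom.codRestrict (algebraMap A L) V hV.1).toAlgebra
  intro hloc
  have : Fact p.Prime := ⟨hp⟩
  have hVK : EtRam.Dominates A ((algebraMap K L).comp (algebraMap A K)) V := by
    rw [← IsScalarTower.algebraMap_eq]; exact hV
  have hres : ∀ a : A, algebraMap (ResidueField A) (ResidueField V) (residue A a) =
      residue V ⟨algebraMap K L (algebraMap A K a), hVK.1 a⟩ := fun a => by
    show residue V (algebraMap A V a) = _
    exact congrArg _ (Subtype.ext (IsScalarTower.algebraMap_apply A K L a))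
  have hbot := SHDescLib.unr_bot (A := A) hVK hres
  let O := V.comap (⊥ : IntermediateField K L).val.toRingHom
  let cO : O := ⟨algebraMap K (⊥ : IntermediateField K L) ξ, by
    show algebraMap K L ξ ∈ V
    rw [← ha, ← IsScalarTower.algebraMap_apply]; exact hV.1 a⟩
  have : CharP (⊥ : IntermediateField K L) p := charP_of_injective_algebraMap (algebraMap K _).injective p
  have hcharO : CharP O p := (RingHom.charP_iff O.subtype Subtype.val_injective p).2 ‹_›
  have : CharP (ResidueField O) p := (CharP.charP_iff_prime_eq_zero hp).2 (by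
    rw [← map_natCast (residue O) p, CharP.cast_eq_zero, map_zero])
  have hmon : (X ^ p - X - C cO : O[X]).Monic := by
    rw [sub_sub]
    refine monic_X_pow_sub ?_
    rw [degree_X_add_C]
    exact_mod_cast hp.one_lt
  have hs1 : ((X ^ p - X - C cO : O[X]).map (residue O)).Separable := by
    rw [Polynomial.map_sub, Polynomial.map_sub, Polynomial.map_pow, map_X, map_C]
    exact separable_as hp (residue O cO)
  have hs2 : ((X ^ p - X - C cO : O[X]).map O.subtype).Separable := by
    rw [Polynomial.map_sub, Polynomial.map_sub, Polynomial.map_pow, map_X, map_C]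
    exact separable_as hp (cO : (⊥ : IntermediateField K L))
  have hev : (X ^ p - X - C cO : O[X]).eval₂ ((⊥ : IntermediateField K L).val.toRingHom.comp O.subtype) z = 0 := by
    rw [eval₂_sub, eval₂_sub, eval₂_pow, eval₂_X, eval₂_C]
    exact sub_eq_zero.2 hz
  obtain ⟨F', -, hzF, hF'⟩ := hbot.simpleRoot hVK hres _ hmon hs1 hs2 hev
  have htop : F' = ⊤ := top_unique (hgen ▸ IntermediateField.adjoin_simple_le_iff.2 hzF)
  refine ⟨le_antisymm (Ideal.map_le_iff_le_comap.2 fun b hb hu => hb (isUnit_of_map_unit (algebraMap A V) b hu)) fun w hw => ?_,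
    ⟨fun c => ?_⟩⟩
  · by_cases hw0 : (w : L) = 0
    · rw [show w = 0 from Subtype.ext hw0]; exact zero_mem _
    obtain ⟨k, hk⟩ := hF'.val π hπ (w : L) (htop ▸ trivial) hw0
    rw [← IsScalarTower.algebraMap_apply] at hk
    have hw1 : V.valuation (w : L) < 1 := (V.valuation_lt_one_iff w).1 hw
    set q := V.valuation (algebraMap A L π) with hqdef
    have hq1 : q < 1 := hV.2 π (by rw [hπ.maximalIdeal_eq]; exact Ideal.mem_span_singleton_self π)
    have hπ0 : algebraMap A L π ≠ 0 := by
      rw [IsScalarTower.algebraMap_apply A K L]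
      exact (_root_.map_ne_zero _).2 ((map_ne_zero_iff _ (IsFractionRing.injective A K)).2 hπ.ne_zero)
    have hq0 : 0 < q := zero_lt_iff.2 ((_root_.map_ne_zero _).2 hπ0)
    have hk1 : 1 ≤ k := by
      by_contra hlt
      rw [hk] at hw1
      exact not_le.2 hw1 (one_le_zpow_of_nonpos₀ hq0 hq1.le (by omega))
    have hq : V.valuation ((w : L) / algebraMap A L π) ≤ 1 := by
      rw [map_div₀, hk, ← hqdef, div_eq_mul_inv, ← zpow_sub_one₀ hq0.ne']
      exact zpow_le_one₀ hq0 hq1.le (by omega)
    rw [show w = ⟨_, (V.valuation_le_one_iff _).1 hq⟩ * algebraMap A V π from Subtype.ext (by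
      show (w : L) = (w : L) / algebraMap A L π * algebraMap A L π
      rw [div_mul_cancel₀ _ hπ0])]
    exact Ideal.mul_mem_left _ _ (Ideal.mem_map_of_mem _ (hπ.maximalIdeal_eq ▸ Ideal.mem_span_singleton_self π))
  · obtain ⟨w, rfl⟩ := residue_surjective c
    exact mem_separableClosure_iff.1 (hF'.res w (htop ▸ trivial))

/-- Pole order prime to `p`. -/
theorem case_tame {n : ℕ} (hn : ¬ p ∣ n) {a : Aˣ} (ha : ξ * algebraMap A K π ^ n = algebraMap A K a) :
    EtRam.IsTotallyRamified A (algebraMap A L) ∧ Module.finrank K L = p := by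
  have : Fact p.Prime := ⟨hp⟩
  have hn0 : n ≠ 0 := fun h0 => hn (h0 ▸ dvd_zero p)
  obtain ⟨i, j, hij⟩ : ∃ i j : ℕ, p * j = n * i + 1 := by
    obtain ⟨i, hi⟩ : ∃ i : ℕ, (n * i + 1 : ZMod p) = 0 := by
      have hn' : (n : ZMod p) ≠ 0 := fun h0 => hn ((CharP.cast_eq_zero_iff (ZMod p) p n).1 h0)
      exact ⟨(-(n : ZMod p)⁻¹).val, by rw [ZMod.natCast_zmod_val]; field_simp; ring⟩
    obtain ⟨j, hj⟩ := (CharP.cast_eq_zero_iff (ZMod p) p (n * i + 1)).1 (by push_cast; exact hi)
    exact ⟨i, j, hj.symm⟩
  let π₁ := algebraMap K L (algebraMap A K π)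
  let x := z ^ i * π₁ ^ j
  have hval : ∀ (Ω : Type u) [Field Ω] (W : ValuationSubring Ω) (f : L →+* Ω),
      EtRam.Dominates A (f.comp ((algebraMap K L).comp (algebraMap A K))) W →
      W.valuation (f x) < 1 ∧ W.valuation (f π₁) = W.valuation (f x) ^ p := by
    intro Ω _ W f hW
    have hlt : W.valuation (f π₁) < 1 := hW.2 π (by rw [hπ.maximalIdeal_eq]; exact Ideal.mem_span_singleton_self π)
    have h1 : W.valuation (f (z ^ p - z)) * W.valuation (f π₁) ^ n = 1 := by
      rw [← map_pow, ← map_mul, ← map_pow f, ← map_mul f, hz, ← map_pow (algebraMap K L), ← map_mul, ha]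
      exact EtRamStepLib.valuation_eq_one_of_isUnit W hW a.isUnit
    have hy1 : 1 < W.valuation (f z) := by
      by_contra hle
      push Not at hle
      refine (lt_of_le_of_lt (mul_le_of_le_one_left zero_le ?_) (pow_lt_one₀ zero_le hlt hn0)).ne h1
      rw [map_sub]
      exact W.valuation.map_sub_le (by rw [map_pow, map_pow]; exact pow_le_one₀ zero_le hle) hle
    rw [map_sub, Valuation.map_sub_eq_of_lt_left _ (by
      rw [map_pow, map_pow]; simpa using pow_lt_pow_right₀ hy1 hp.one_lt), map_pow, map_pow] at h1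
    have hv : W.valuation (f π₁) = W.valuation (f x) ^ p := by
      rw [map_mul, map_mul, map_pow, map_pow, map_pow, map_pow, mul_pow, ← pow_mul, ← pow_mul, mul_comm j p, hij,
        pow_succ, ← mul_assoc, mul_comm i p, pow_mul, pow_mul _ n i, ← mul_pow, h1, one_pow, one_mul]
    refine ⟨?_, hv⟩
    by_contra hge
    exact not_le.2 hlt (le_of_le_of_eq (one_le_pow₀ (not_lt.1 hge)) hv.symm)
  have hroot : ∀ r : K, r ^ p - r ≠ ξ := by
    intro r hr
    have h1 := finrank_one hp hz hgen hr
    have hinj : Function.Injective ((algebraMap K L).comp (algebraMap A K)) :=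
      (algebraMap K L).injective.comp (IsFractionRing.injective A K)
    obtain ⟨W, hW⟩ := ASWeakLib.exists_dominating _ hinj
    obtain ⟨hx1, hx2⟩ := hval L W (RingHom.id L) (by simpa using hW)
    simp only [RingHom.id_apply] at hx1 hx2
    have hx0 : x ≠ 0 := fun h0 => by
      rw [h0, map_zero, zero_pow hp.ne_zero, map_eq_zero, map_eq_zero] at hx2
      exact hπ.ne_zero (IsFractionRing.injective A K (by rw [hx2, map_zero]))
    obtain ⟨c, hc⟩ : x ∈ (⊥ : IntermediateField K L) := by
      rw [IntermediateField.bot_eq_top_iff_finrank_eq_one.2 h1]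
      trivial
    obtain ⟨k, hk⟩ := SolSepLib.exists_zpow W hπ hW (l := c) (fun h => hx0 (by rw [← hc, h]; exact map_zero _))
    rw [show algebraMap K L c = x from hc] at hk
    rw [hk, ← zpow_natCast, ← zpow_mul] at hx2
    have hlt : W.valuation π₁ < 1 := hW.2 π (by rw [hπ.maximalIdeal_eq]; exact Ideal.mem_span_singleton_self π)
    have h0 : 0 < W.valuation π₁ := zero_lt_iff.2 ((_root_.map_ne_zero _).2 ((_root_.map_ne_zero _).2
      ((map_ne_zero_iff _ (IsFractionRing.injective A K)).2 hπ.ne_zero)))
    have h2 : (1 : ℤ) = k * p := (zpow_right_strictAnti₀ h0 hlt).injective ((zpow_one _).trans hx2)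
    have h3 : (p : ℤ) ∣ 1 := ⟨k, by rw [h2]; ring⟩
    exact hp.one_lt.ne' (by exact_mod_cast Int.eq_one_of_dvd_one (by positivity) h3)
  have hd := finrank_as hp hz hgen hroot
  refine ⟨?_, hd⟩
  have := (⟨hπ, hp.pos, hd, hval⟩ : ASWeakLib.TRData A K L π p x).totallyRamified
  rwa [← IsScalarTower.algebraMap_eq] at this

/-- The residue field grows inseparably. -/
theorem case_insep {m : ℕ} (hm : 0 < m) {a : A} (hnp : ∀ r : A, residue A a ≠ residue A r ^ p)
    (ha : ξ * algebraMap A K π ^ (p * m) = algebraMap A K a) :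
    (∃ V : ValuationSubring L, EtRam.Dominates A (algebraMap A L) V) ∧
      (∀ V V' : ValuationSubring L, EtRam.Dominates A (algebraMap A L) V → EtRam.Dominates A (algebraMap A L) V' → V = V') ∧
      ∀ (V : ValuationSubring L) (h : EtRam.Dominates A (algebraMap A L) V),
        letI : Algebra A V := (RingHom.codRestrict (algebraMap A L) V h.1).toAlgebra
        ∀ [IsLocalHom (algebraMap A V)],
          EtRam.IsWeaklyUnramified A V ∧
            IsPurelyInseparable (ResidueField A) (ResidueField V) ∧
            Module.finrank (ResidueField A) (ResidueField V) = p := by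
  classical
  have : Fact p.Prime := ⟨hp⟩
  let g := algebraMap A L
  have hg : ∀ b, g b = algebraMap K L (algebraMap A K b) := IsScalarTower.algebraMap_apply A K L
  have hinj : Function.Injective g := by
    rw [show g = (algebraMap K L).comp (algebraMap A K) from IsScalarTower.algebraMap_eq A K L]
    exact (algebraMap K L).injective.comp (IsFractionRing.injective A K)
  have hP : g π ≠ 0 := (map_ne_zero_iff _ hinj).2 hπ.ne_zero
  let w := z * g π ^ m
  have hwp : w ^ p = g a + g π ^ (m * (p - 1)) * w := by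
    have hexp : g π ^ (m * (p - 1)) * g π ^ m = g π ^ (p * m) := by
      rw [← pow_add]; congr 1
      obtain ⟨p', rfl⟩ : ∃ p', p = p' + 1 := ⟨p - 1, by have := hp.pos; omega⟩
      rw [Nat.add_sub_cancel]; ring
    show (z * g π ^ m) ^ p = g a + g π ^ (m * (p - 1)) * (z * g π ^ m)
    rw [hg a, ← ha, map_mul, map_pow, ← hg, ← hz, mul_pow, ← pow_mul, mul_comm m p]
    linear_combination -z * hexp
  have hdata : ∀ V : ValuationSubring L, EtRam.Dominates A g V →
      w ∈ V ∧ V.valuation (g π ^ (m * (p - 1)) * w) < 1 ∧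
        EtRamStepLib.Layer V g 1 (g π) (fun j : Fin p => w ^ (j : ℕ)) π := by
    intro V hV
    have hlt : V.valuation (g π) < 1 := hV.2 π (by rw [hπ.maximalIdeal_eq]; exact Ideal.mem_span_singleton_self π)
    have hw1 : V.valuation w ≤ 1 := by
      by_contra hgt
      push Not at hgt
      have h1 : V.valuation (w ^ p) ≤ V.valuation w := by
        rw [hwp]
        refine V.valuation.map_add_le (((V.valuation_le_one_iff _).2 (hV.1 a)).trans hgt.le) ?_
        rw [map_mul, map_pow]
        exact mul_le_of_le_one_left zero_le (pow_le_one₀ zero_le hlt.le)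
      rw [map_pow] at h1
      have h2 := pow_lt_pow_right₀ hgt hp.one_lt
      rw [pow_one] at h2
      exact not_le.2 h2 h1
    have hd : V.valuation (g π ^ (m * (p - 1)) * w) < 1 := by
      rw [map_mul, map_pow]
      refine mul_lt_one_of_nonneg_of_lt_one_left zero_le (pow_lt_one₀ zero_le hlt ?_) hw1
      have := hp.two_le
      exact Nat.mul_ne_zero (by omega) (by omega)
    refine ⟨(V.valuation_le_one_iff _).1 hw1, hd, hπ, hP, hlt, by rw [pow_one], fun b hb => ?_⟩
    refine EtRamStepLib.indep_root V hV hp hwp hd (fun s hs => hnp s ?_) b hb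
    rw [← map_pow, ← sub_eq_zero, ← map_sub, residue_eq_zero_iff]
    exact hs
  have hcl : ∀ ω : L, EtRamStepLib.Cleared g π 1 (g π) (fun j : Fin p => w ^ (j : ℕ)) ω := by
    intro ω
    obtain ⟨c, rfl⟩ := span_as hp hz hgen ω
    refine Finset.sum_induction _ _ (fun _ _ => EtRamStepLib.Cleared.add) EtRamStepLib.Cleared.zero fun i _ => ?_
    have h1 := (EtRamStepLib.Cleared.monomial (g := g) (π := π) (x := g π) (e := fun j : Fin p => w ^ (j : ℕ)) (0 : Fin 1) i).smul
      (L := K) hπ hg (c i / algebraMap A K π ^ (m * (i : ℕ)))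
    convert h1 using 1
    simp only [Fin.val_zero, pow_zero, one_mul, w, mul_pow, map_div₀, map_pow, ← hg, ← pow_mul]
    field_simp
  have hmem : ∀ V : ValuationSubring L, EtRam.Dominates A g V → ∀ ω, ω ∈ V ↔
      ∃ q : Fin p → A, ω = ∑ j : Fin p, g (q j) * w ^ (j : ℕ) := by
    intro V hV ω
    obtain ⟨hwV, -, hl⟩ := hdata V hV
    constructor
    · intro hω
      obtain ⟨k, b, hb⟩ := hcl ω
      choose q hq using hl.dvd_of_le_one Nat.one_pos k ω b hb ((V.valuation_le_one_iff ω).2 hω)
      refine ⟨fun j => q 0 j, mul_left_cancel₀ ((map_ne_zero_iff _ hinj).2 (pow_ne_zero k hπ.ne_zero)) ?_⟩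
      rw [hb, Fin.sum_univ_one, Fin.val_zero, pow_zero, one_mul, Finset.mul_sum]
      exact Finset.sum_congr rfl fun j _ => by rw [hq, map_mul, mul_assoc]
    · rintro ⟨q, rfl⟩
      exact sum_mem fun j _ => mul_mem (hV.1 _) (pow_mem hwV _)
  refine ⟨ASWeakLib.exists_dominating g hinj,
    fun V V' h h' => SetLike.ext fun ω => (hmem V h ω).trans (hmem V' h' ω).symm, fun V hV => ?_⟩
  letI : Algebra A V := (RingHom.codRestrict g V hV.1).toAlgebra
  intro hloc
  obtain ⟨hwV, hd, hl⟩ := hdata V hV
  let wV : V := ⟨w, hwV⟩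
  have hcoe : ∀ q : Fin p → A, ((∑ j, algebraMap A V (q j) * wV ^ (j : ℕ) : V) : L) = ∑ j, g (q j) * w ^ (j : ℕ) := fun q => by
    simp [wV, g]; rfl
  have hrepr : ∀ v : V, ∃ q : Fin p → A, v = ∑ j, algebraMap A V (q j) * wV ^ (j : ℕ) := fun v => by
    obtain ⟨q, hq⟩ := (hmem V hV (v : L)).1 v.2
    exact ⟨q, Subtype.ext (hq.trans (hcoe q).symm)⟩
  have hnu : ∀ q : Fin p → A, (∑ j, algebraMap A V (q j) * wV ^ (j : ℕ)) ∈ maximalIdeal V → ∀ j, q j ∈ maximalIdeal A := by
    intro q hq j hu
    have h1 := (V.valuation_lt_one_iff _).1 hq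
    rw [hcoe] at h1
    exact h1.ne (hl.indep q ⟨j, hu⟩)
  let β : Fin p → ResidueField V := fun j => residue V wV ^ (j : ℕ)
  have hsmul : ∀ (b : A) (v : ResidueField V), residue A b • v = residue V (algebraMap A V b) * v := fun b v => by
    rw [Algebra.smul_def]; rfl
  have hli : LinearIndependent (ResidueField A) β := by
    refine Fintype.linearIndependent_iff.2 fun l hl0 j => ?_
    choose q hq using fun j => residue_surjective (l j)
    rw [← hq j, residue_eq_zero_iff]
    refine hnu q ?_ j
    rw [← residue_eq_zero_iff, map_sum, ← hl0]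
    exact Finset.sum_congr rfl fun j _ => by rw [← hq j, hsmul, map_mul, map_pow]
  have hsp : ⊤ ≤ Submodule.span (ResidueField A) (Set.range β) := fun c _ => by
    obtain ⟨v, rfl⟩ := residue_surjective c
    obtain ⟨q, rfl⟩ := hrepr v
    rw [map_sum]
    refine sum_mem fun j _ => ?_
    rw [map_mul, map_pow, ← hsmul]
    exact Submodule.smul_mem _ _ (Submodule.subset_span ⟨j, rfl⟩)
  refine ⟨?_, ?_, by rw [Module.finrank_eq_card_basis (Module.Basis.mk hli hsp), Fintype.card_fin]⟩
  · refine le_antisymm (Ideal.map_le_iff_le_comap.2 fun b hb hu => hb (isUnit_of_map_unit (algebraMap A V) b hu)) fun v hv => ?_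
    obtain ⟨q, rfl⟩ := hrepr v
    exact sum_mem fun j _ => Ideal.mul_mem_right _ _ (Ideal.mem_map_of_mem _ (hnu q hv j))
  · have hchar : CharP A p := (RingHom.charP_iff (algebraMap A K) (IsFractionRing.injective A K) p).2 ‹_›
    have : CharP (ResidueField A) p := (CharP.charP_iff_prime_eq_zero hp).2 (by
      rw [← map_natCast (residue A) p, CharP.cast_eq_zero, map_zero])
    have : CharP (ResidueField V) p := charP_of_injective_algebraMap (algebraMap (ResidueField A) (ResidueField V)).injective p
    have : ExpChar (ResidueField A) p := ExpChar.prime hp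
    refine (isPurelyInseparable_iff_pow_mem _ p).2 fun c => ⟨1, ?_⟩
    rw [pow_one]
    obtain ⟨v, rfl⟩ := residue_surjective c
    obtain ⟨q, rfl⟩ := hrepr v
    have hw : residue V wV ^ p = algebraMap (ResidueField A) (ResidueField V) (residue A a) := by
      show _ = residue V (algebraMap A V a)
      rw [← map_pow, ← sub_eq_zero, ← map_sub, residue_eq_zero_iff, V.valuation_lt_one_iff]
      show V.valuation (w ^ p - g a) < 1
      rw [hwp, add_sub_cancel_left]; exact hd
    refine ⟨∑ j : Fin p, residue A (q j) ^ p * residue A a ^ (j : ℕ), ?_⟩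
    rw [map_sum, map_sum, sum_pow_char]
    refine Finset.sum_congr rfl fun j _ => ?_
    rw [map_mul, map_pow, map_pow, map_mul, map_pow, mul_pow, ← pow_mul, mul_comm (j : ℕ), pow_mul, hw]
    rfl

end

/-- Let A be a discrete valuation ring whose fraction field K has characteristic p > 0, let ξ be an
element of K and let L = K(z) be obtained by adjoining a root z of z^p - z = ξ. Then L/K is a Galois
extension, and it falls under one of four cases: (1) L = K; (2) L/K has degree p and is unramified
with respect to A; (3) L/K has degree p and is totally ramified with respect to A (ramification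
index p); (4) exactly one valuation ring of L dominates A (so B, the integral closure of A in L, is
itself a discrete valuation ring), the extension A → B is weakly unramified, and its residue field
extension is purely inseparable of degree p. Moreover, with π a uniformizer of A: (A) if ξ lies in
A, case (1) or (2) holds; (B) if ξ = π⁻ⁿa with n > 0 prime to p and a a unit of A, case (3) holds;
(C) if ξ = π⁻ⁿa with n > 0 divisible by p and the residue class of a not a p-th power, case (4)
holds. -/
theorem result (p : ℕ) (hp : p.Prime) (A K L : Type u) [CommRing A] [IsDomain A]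
    [IsDiscreteValuationRing A] [Field K] [Algebra A K] [IsFractionRing A K] [Field L] [Algebra K L] [Algebra A L]
    [IsScalarTower A K L] [CharP K p] (π : A) (hπ : IsLocalRing.maximalIdeal A = Ideal.span {π})
    (ξ : K) (z : L) (hz : z ^ p - z = algebraMap K L ξ) (hgen : IntermediateField.adjoin K {z} = ⊤) :
    let g : A →+* L := algebraMap A L
    let case1 : Prop := Module.finrank K L = 1
    let case2 : Prop := EtRam.IsUnramifiedExt A g ∧ Module.finrank K L = p
    let case3 : Prop := EtRam.IsTotallyRamified A g ∧ Module.finrank K L = p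
    let case4 : Prop := (∃ V : ValuationSubring L, EtRam.Dominates A g V) ∧
      (∀ V V' : ValuationSubring L, EtRam.Dominates A g V → EtRam.Dominates A g V' → V = V') ∧
      ∀ (V : ValuationSubring L) (h : EtRam.Dominates A g V),
        letI : Algebra A V := (RingHom.codRestrict g V h.1).toAlgebra
        ∀ [IsLocalHom (algebraMap A V)],
          EtRam.IsWeaklyUnramified A V ∧
            IsPurelyInseparable (IsLocalRing.ResidueField A) (IsLocalRing.ResidueField V) ∧
            Module.finrank (IsLocalRing.ResidueField A) (IsLocalRing.ResidueField V) = p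
    IsGalois K L ∧ (case1 ∨ case2 ∨ case3 ∨ case4) ∧
      ((∃ a : A, algebraMap A K a = ξ) → case1 ∨ case2) ∧
      (∀ (n : ℕ) (a : Aˣ), 0 < n → ¬ p ∣ n → ξ * algebraMap A K π ^ n = algebraMap A K a → case3) ∧
      (∀ (n : ℕ) (a : A), 0 < n → p ∣ n → (∀ r : A, IsLocalRing.residue A a ≠ IsLocalRing.residue A r ^ p) →
          ξ * algebraMap A K π ^ n = algebraMap A K a → case4) := by
  intro g case1 case2 case3 case4
  have hirr : Irreducible π := (IsDiscreteValuationRing.irreducible_iff_uniformizer π).2 hπ
  have hA : ∀ (ξ : K) (z : L), z ^ p - z = algebraMap K L ξ → IntermediateField.adjoin K {z} = ⊤ →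
      (∃ a : A, algebraMap A K a = ξ) → case1 ∨ case2 := by
    rintro ξ z hz hgen ⟨a, ha⟩
    by_cases hr : ∃ r : K, r ^ p - r = ξ
    · exact Or.inl (finrank_one hp hz hgen hr.choose_spec)
    · push Not at hr
      exact Or.inr ⟨case_integral hp hz hgen hirr ha, finrank_as hp hz hgen hr⟩
  have hB : ∀ (ξ : K) (z : L), z ^ p - z = algebraMap K L ξ → IntermediateField.adjoin K {z} = ⊤ →
      ∀ (n : ℕ) (a : Aˣ), 0 < n → ¬ p ∣ n → ξ * algebraMap A K π ^ n = algebraMap A K a → case3 :=
    fun ξ z hz hgen n a _ hn ha => case_tame hp hz hgen hirr hn ha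
  have hC : ∀ (ξ : K) (z : L), z ^ p - z = algebraMap K L ξ → IntermediateField.adjoin K {z} = ⊤ →
      ∀ (n : ℕ) (a : A), 0 < n → p ∣ n → (∀ r : A, IsLocalRing.residue A a ≠ IsLocalRing.residue A r ^ p) →
        ξ * algebraMap A K π ^ n = algebraMap A K a → case4 := by
    rintro ξ z hz hgen n a hn ⟨m, rfl⟩ hnp ha
    exact case_insep hp hz hgen hirr (Nat.pos_of_mul_pos_left hn) hnp ha
  refine ⟨galois_as hp hz hgen, ?_, hA ξ z hz hgen, hB ξ z hz hgen, hC ξ z hz hgen⟩
  -- lower the pole order
  have hP : algebraMap A K π ≠ 0 := (map_ne_zero_iff _ (IsFractionRing.injective A K)).2 hirr.ne_zero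
  have hfact : Fact p.Prime := ⟨hp⟩
  suffices ∀ (n : ℕ) (ξ : K) (z : L), z ^ p - z = algebraMap K L ξ → IntermediateField.adjoin K {z} = ⊤ →
      (∃ a : A, ξ * algebraMap A K π ^ n = algebraMap A K a) → case1 ∨ case2 ∨ case3 ∨ case4 by
    obtain ⟨N, b, hb⟩ := ASWeakLib.exists_principalPart (p := p) hirr ξ
    exact this N ξ z hz hgen ⟨b, by rw [hb, div_mul_cancel₀ _ (pow_ne_zero _ hP)]⟩
  intro n
  induction n with
  | zero =>
    rintro ξ z hz hgen ⟨a, ha⟩
    rcases hA ξ z hz hgen ⟨a, by rw [← ha, pow_zero, mul_one]⟩ with h | h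
    · exact Or.inl h
    · exact Or.inr (Or.inl h)
  | succ n ih =>
    rintro ξ z hz hgen ⟨a, ha⟩
    by_cases hu : IsUnit a
    · by_cases hdvd : p ∣ n + 1
      · by_cases hnp : ∀ r : A, residue A a ≠ residue A r ^ p
        · exact Or.inr (Or.inr (Or.inr (hC ξ z hz hgen _ a n.succ_pos hdvd hnp ha)))
        push Not at hnp
        obtain ⟨r, hr⟩ := hnp
        obtain ⟨m, hm⟩ := hdvd
        have : Fact p.Prime := ⟨hp⟩
        have : CharP L p := charP_of_injective_algebraMap (algebraMap K L).injective p
        let ρ : K := algebraMap A K r / algebraMap A K π ^ m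
        refine ih (ξ - (ρ ^ p - ρ)) (z - algebraMap K L ρ) ?_ ?_ ?_
        · rw [sub_pow_char, map_sub, map_sub, map_pow, ← hz]; ring
        · rw [← top_le_iff, ← hgen, IntermediateField.adjoin_simple_le_iff]
          simpa using add_mem (IntermediateField.mem_adjoin_simple_self K (z - algebraMap K L ρ))
            (IntermediateField.algebraMap_mem _ ρ)
        · obtain ⟨b, hb⟩ : π ∣ a - r ^ p := by
            rw [← Ideal.mem_span_singleton, ← hπ, ← residue_eq_zero_iff, map_sub, map_pow, hr, sub_self]
          obtain ⟨k, hk⟩ : ∃ k, n = m + k := ⟨n - m, by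
            have h2 : 2 * m ≤ p * m := Nat.mul_le_mul_right m hp.two_le
            omega⟩
          refine ⟨b + r * π ^ k, mul_right_cancel₀ hP ?_⟩
          have hb' := congrArg (algebraMap A K) hb
          rw [map_sub, map_pow, map_mul] at hb'
          have hρ : ρ * algebraMap A K π ^ m = algebraMap A K r := div_mul_cancel₀ _ (pow_ne_zero _ hP)
          have hρp : ρ ^ p * algebraMap A K π ^ (n + 1) = algebraMap A K r ^ p := by
            rw [hm, mul_comm p m, pow_mul, ← mul_pow, hρ]
          subst hk
          rw [map_add, map_mul, map_pow]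
          rw [pow_succ, pow_add] at ha hρp
          rw [pow_add]
          linear_combination ha - hρp + hb' + (algebraMap A K π ^ k * algebraMap A K π) * hρ
      · exact Or.inr (Or.inr (Or.inl (hB ξ z hz hgen (n + 1) hu.unit n.succ_pos hdvd ha)))
    · obtain ⟨b, rfl⟩ : π ∣ a := by
        rw [← Ideal.mem_span_singleton, ← hπ]; exact hu
      refine ih ξ z hz hgen ⟨b, mul_right_cancel₀ hP ?_⟩
      rw [map_mul] at ha
      rw [mul_comm (algebraMap A K b), ← ha, pow_succ]
      ring

end Groth.Agent.S7158
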