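import Groth.Statements.S7159
import Groth.Agent.KummerStepLib.Main
-- import your own Groth.Agent.* helpers here

set_option autoImplicit false
universe u
open EtAlg

namespace Groth.Agent.S7159

open Polynomial in
/-- Let A be a discrete valuation ring whose fraction field K has characteristic 0 and whose residue
field has characteristic p, and suppose A contains an element ζ with 1 + ζ + ... + ζ^(p-1) = 0 (a
primitive p-th root of unity); set w = 1 - ζ and let P in A[t] be the polynomial with w^p·P(t) = (1
+ wt)^p - 1. Let ξ be an element of K and let L = K(z) be obtained by adjoining a root z of P(z) =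
ξ. Then L/K is a Galois extension, and it falls under one of four cases: (1) L = K; (2) L/K has
degree p and is unramified with respect to A; (3) L/K has degree p and is totally ramified with
respect to A (ramification index p); (4) exactly one valuation ring of L dominates A (so B, the
integral closure of A in L, is itself a discrete valuation ring), the extension A → B is weakly
unramified, and its residue field extension is purely inseparable of degree p. Moreover, with π a
uniformizer of A: (A) if ξ lies in A, case (1) or (2) holds; (B) if ξ = π⁻ⁿa with n > 0 prime to p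
and a a unit of A, case (3) holds; (C) if ξ = π⁻ⁿa with n > 0 divisible by p and the residue class
of a not a p-th power, case (4) holds. -/
theorem result (p : ℕ) (hp : p.Prime) (A K L : Type u) [CommRing A] [IsDomain A]
    [IsDiscreteValuationRing A] [Field K] [Algebra A K] [IsFractionRing A K] [Field L] [Algebra K L] [Algebra A L]
    [IsScalarTower A K L] [CharZero K] [CharP (IsLocalRing.ResidueField A) p] (ζ : A)
    (hζ : aeval ζ (cyclotomic p ℤ) = 0) (P : A[X]) (hP : C ((1 - ζ) ^ p) * P = (1 + C (1 - ζ) * X) ^ p - 1) (π : A) (hπ : IsLocalRing.maximalIdeal A = Ideal.span {π})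
    (ξ : K) (z : L) (hz : aeval z P = algebraMap K L ξ) (hgen : IntermediateField.adjoin K {z} = ⊤) :
    let g : A →+* L := algebraMap A L
    let case1 : Prop := Module.finrank K L = 1
    let case2 : Prop := EtRam.IsUnramifiedExt A g ∧ Module.finrank K L = p
    let case3 : Prop := EtRam.IsTotallyRamified A g ∧ Module.finrank K L = p
    let case4 : Prop := (∃ V : ValuationSubring L, EtRam.Dominates A g V) ∧
      (∀ V V' : ValuationSubring L, EtRam.Dominates A g V → EtRam.Dominates A g V' → V = V') ∧
      ∀ (V : ValuationSubring L) (h : EtRam.Dominates A g V),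
        letI : Algebra A V := (RingHom.codRestrict g V h.1).toAlgebra
        ∀ [IsLocalHom (algebraMap A V)],
          EtRam.IsWeaklyUnramified A V ∧
            IsPurelyInseparable (IsLocalRing.ResidueField A) (IsLocalRing.ResidueField V) ∧
            Module.finrank (IsLocalRing.ResidueField A) (IsLocalRing.ResidueField V) = p
    IsGalois K L ∧ (case1 ∨ case2 ∨ case3 ∨ case4) ∧
      ((∃ a : A, algebraMap A K a = ξ) → case1 ∨ case2) ∧
      (∀ (n : ℕ) (a : Aˣ), 0 < n → ¬ p ∣ n → ξ * algebraMap A K π ^ n = algebraMap A K a → case3) ∧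
      (∀ (n : ℕ) (a : A), 0 < n → p ∣ n → (∀ r : A, IsLocalRing.residue A a ≠ IsLocalRing.residue A r ^ p) →
          ξ * algebraMap A K π ^ n = algebraMap A K a → case4) := by
  intro g case1 case2 case3 case4
  haveI hp' := Fact.mk hp
  have hinj : Function.Injective (algebraMap A K) := IsFractionRing.injective A K
  have hA : ∀ n : ℕ, (n : A) = 0 → n = 0 := fun n hn => by
    have := congrArg (algebraMap A K) hn
    rwa [map_natCast, map_zero, Nat.cast_eq_zero] at this
  have hroot : ζ ^ p = 1 := by
    obtain ⟨Q, hQ⟩ := cyclotomic.dvd_X_pow_sub_one p ℤ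
    have := congrArg (aeval ζ) hQ
    rwa [map_mul, hζ, zero_mul, map_sub, map_pow, aeval_X, map_one, sub_eq_zero] at this
  have hne : ζ ≠ 1 := fun h1 => by
    rw [h1, aeval_def, eval₂_eq_eval_map, map_cyclotomic, eval_one_cyclotomic_prime] at hζ
    exact hp.ne_zero (hA p hζ)
  have h : KummerStepLib.Data p A ζ P := ⟨hp, inferInstance, hroot, hne, hP⟩
  have hπ' : Irreducible π := (IsDiscreteValuationRing.irreducible_iff_uniformizer π).2 hπ
  have hgK : g = (algebraMap K L).comp (algebraMap A K) := IsScalarTower.algebraMap_eq A K L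
  have hz' : P.eval₂ ((algebraMap K L).comp (algebraMap A K)) z = algebraMap K L ξ := by
    rw [← hgK]; exact hz
  have hprim : IsPrimitiveRoot (algebraMap A K ζ) p := by
    have := (orderOf_eq_prime (x := algebraMap A K ζ) (by rw [← map_pow, hroot, map_one])
      (fun h1 => hne (hinj (by rw [h1, map_one]))))
    exact this ▸ IsPrimitiveRoot.orderOf _
  set w : K := algebraMap A K (1 - ζ) with hw
  have hw0 : w ≠ 0 := (map_ne_zero_iff _ hinj).2 h.w_ne
  set y : L := 1 + algebraMap K L w * z with hy
  have hyp : y ^ p = algebraMap K L (1 + w ^ p * ξ) := by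
    have h2 := h.eval_eq ((algebraMap K L).comp (algebraMap A K)) z
    rw [hz'] at h2
    simp only [RingHom.comp_apply, ← hw, ← hy] at h2
    rw [map_add, map_one, map_mul, map_pow, h2]; ring
  have hgeny : IntermediateField.adjoin K {y} = ⊤ := by
    refine KummerStepLib.gen_of_mem hgen ?_
    rw [show z = (y - 1) / algebraMap K L w by rw [hy, add_sub_cancel_left, mul_div_cancel_left₀ _ ((_root_.map_ne_zero _).2 hw0)]]
    exact div_mem (sub_mem (IntermediateField.mem_adjoin_simple_self _ _) (one_mem _)) (IntermediateField.algebraMap_mem _ _)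
  obtain ⟨hfd, hgal, hdeg⟩ := KummerStepLib.kummer hp hprim hyp hgeny
  have e2 : KummerStepLib.Case2 p A K L → case2 := fun hc => by
    obtain ⟨h1, h2⟩ := hc
    refine ⟨?_, h2⟩
    rw [hgK]; exact h1
  have e3 : KummerStepLib.Case3 p A K L → case3 := fun hc => by
    obtain ⟨h1, h2⟩ := hc
    refine ⟨?_, h2⟩
    rw [hgK]; exact h1
  have e4 : KummerStepLib.Case4 p A K L → case4 := fun hc => by
    unfold KummerStepLib.Case4 at hc
    simp only [case4]
    clear_value g
    subst hgK
    exact hc
  refine ⟨hgal, ?_, ?_, ?_, ?_⟩
  · rcases KummerStepLib.classify h hdeg hπ' hyp hgeny with h1 | h1 | h1 | h1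
    exacts [Or.inl h1, Or.inr (Or.inl (e2 h1)), Or.inr (Or.inr (Or.inl (e3 h1))), Or.inr (Or.inr (Or.inr (e4 h1)))]
  · rintro ⟨a, rfl⟩
    exact (KummerStepLib.case12_of_integral h hdeg hgen hz').imp id e2
  · exact fun n a hn hpn hξ => e3 (KummerStepLib.case3_of_pole h hdeg hπ' hz' hn hpn a.isUnit hξ)
  · exact fun n a hn hpn ha hξ => e4 (KummerStepLib.case4_of_pole h hdeg hπ' hz' hn hpn
      (fun r => ha r) hξ)

end Groth.Agent.S7159
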