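import Groth.Statements.S7160
import Groth.Agent.DRingLib.Basic


-- import your own Groth.Agent.* helpers here

set_option autoImplicit false
universe u
open CategoryTheory CategoryTheory.Pretriangulated
attribute [local instance] HasDerivedCategory.standard
open CAlg

namespace Groth.Agent.S7160

/-- Let R be a ring, f an element of R, M an object of D(R) and C the cone of f : M → M. Suppose that
H^i(M)_f = 0 whenever i < 0 (every element of H^i(M) is killed by a power of f) and that H^i(C) = 0
whenever i < -1. Then H^i(M) vanishes for every i < 0. -/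
theorem result (R : Type u) [CommRing R] (f : R) (M C : Dual.D R)
    (g : M ⟶ C) (h : C ⟶ M⟦(1 : ℤ)⟧) (hT : Triangle.mk (f • 𝟙 M) g h ∈ distinguishedTriangles)
    (hloc : ∀ i : ℤ, i < 0 → ∀ x : Dual.HD R M i, ∃ n : ℕ, f ^ n • x = 0)
    (hC : ∀ i : ℤ, i < -1 → Subsingleton (Dual.HD R C i)) :
    ∀ i : ℤ, i < 0 → Subsingleton (Dual.HD R M i) := by
  intro i hi
  have hM := DerivedCategory.HomologySequence.exact₁ _ hT (i - 1) i (by omega)
  have hC' : Subsingleton (Dual.HD R C (i - 1)) := hC (i - 1) (by omega)
  have hmap : (DerivedCategory.homologyFunctor (ModuleCat.{u} R) i).map (f • 𝟙 M) = f • 𝟙 _ := by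
    haveI : Functor.Linear R (HomologicalComplex.homologyFunctor (ModuleCat.{u} R) (ComplexShape.up ℤ) i) :=
      { map_smul := fun φ a => by
          exact ShortComplex.homologyMap_smul ((HomologicalComplex.shortComplexFunctor (ModuleCat.{u} R) (ComplexShape.up ℤ) i).map φ) a }
    haveI : Functor.Linear R (DerivedCategory.homologyFunctor (ModuleCat.{u} R) i) := by
      letI : Localization.Lifting DerivedCategory.Q (HomologicalComplex.quasiIso (ModuleCat.{u} R) (ComplexShape.up ℤ))
          (HomologicalComplex.homologyFunctor (ModuleCat.{u} R) (ComplexShape.up ℤ) i)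
          (DerivedCategory.homologyFunctor (ModuleCat.{u} R) i) := ⟨DerivedCategory.homologyFunctorFactors _ i⟩
      exact (Localization.functor_linear_iff DerivedCategory.Q
        (HomologicalComplex.quasiIso (ModuleCat.{u} R) (ComplexShape.up ℤ)) R
        (HomologicalComplex.homologyFunctor (ModuleCat.{u} R) (ComplexShape.up ℤ) i) _).1 inferInstance
    rw [Functor.map_smul, CategoryTheory.Functor.map_id]
  have key : ∀ x : Dual.HD R M i, f • x = 0 → x = 0 := by
    intro x hx
    obtain ⟨y, hy⟩ := (ShortComplex.moduleCat_exact_iff _).1 hM x (by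
      change ((DerivedCategory.homologyFunctor (ModuleCat.{u} R) i).map (f • 𝟙 M)).hom x = 0
      rw [hmap]
      exact hx)
    rw [← hy, Subsingleton.elim (α := Dual.HD R C (i - 1)) y 0]
    exact map_zero _
  refine ⟨fun a b => ?_⟩
  have h0 : ∀ (n : ℕ) (x : Dual.HD R M i), f ^ n • x = 0 → x = 0 := by
    intro n
    induction n with
    | zero => intro x hx; simpa using hx
    | succ n ih => intro x hx; exact key x (ih _ (by rwa [smul_smul, ← pow_succ]))
  have hz : ∀ x : Dual.HD R M i, x = 0 := fun x => by
    obtain ⟨n, hn⟩ := hloc i hi x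
    exact h0 n x hn
  rw [hz a, hz b]

end Groth.Agent.S7160
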