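import Groth.Statements.S7162
import Groth.Agent.SHDescLib.Descend
-- import your own Groth.Agent.* helpers here

set_option autoImplicit false
universe u
open EtAlg

namespace Groth.Agent.S7162

set_option maxHeartbeats 4000000 in
set_option synthInstance.maxHeartbeats 200000 in
/-- Let A → B be an injective local homomorphism of discrete valuation rings whose fields of fractions
are K ⊆ L. There is a commutative square of such extensions A ⊆ A', B ⊆ B', A' ⊆ B' (with fraction
fields K', L') such that (1) K'/K and L'/L are separable algebraic, (2) the residue field of A' is a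
separable algebraic closure of that of A, and likewise for B' over B, and (3) whenever A' ⊆ B'
admits a solution (respectively a separable solution), so does A ⊆ B. (The published statement
asserts (3) for weak solutions as well; that clause is left out here: a weak solution for A' ⊆ B'
descends to a finite extension of K but controls only those local extensions attached to embeddings
compatible with K ⊆ K', and weak solutions, unlike solutions, are not preserved under passing to a
normal closure; the clause can fail when the residue field of A is not separably closed in that of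
B.) -/
theorem result (A B K L : Type u) [CommRing A] [IsDomain A]
    [IsDiscreteValuationRing A] [CommRing B] [IsDomain B] [IsDiscreteValuationRing B] [Algebra A B]
    (hinj : Function.Injective (algebraMap A B)) [IsLocalHom (algebraMap A B)]
    [Field K] [Field L] [Algebra A K] [IsFractionRing A K] [Algebra B L] [IsFractionRing B L]
    [Algebra K L] [Algebra A L] [IsScalarTower A K L] [IsScalarTower A B L] :
    ∃ (A' B' K' L' : Type u) (_ : CommRing A') (_ : IsDomain A') (_ : IsDiscreteValuationRing A')
      (_ : CommRing B') (_ : IsDomain B') (_ : IsDiscreteValuationRing B') (_ : Field K') (_ : Field L')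
      (_ : Algebra A A') (_ : Algebra B B') (_ : Algebra A' B') (_ : Algebra A B')
      (_ : IsScalarTower A B B') (_ : IsScalarTower A A' B')
      (_ : Algebra A' K') (_ : IsFractionRing A' K') (_ : Algebra B' L') (_ : IsFractionRing B' L')
      (_ : Algebra K' L') (_ : Algebra A' L') (_ : IsScalarTower A' K' L') (_ : IsScalarTower A' B' L')
      (_ : Algebra K K') (_ : Algebra A K') (_ : IsScalarTower A K K') (_ : IsScalarTower A A' K')
      (_ : Algebra L L') (_ : Algebra B L') (_ : IsScalarTower B L L') (_ : IsScalarTower B B' L')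
      (hA : IsLocalHom (algebraMap A A')) (hB : IsLocalHom (algebraMap B B')) (_ : IsLocalHom (algebraMap A' B')),
      Function.Injective (algebraMap A A') ∧ Function.Injective (algebraMap B B') ∧
      Function.Injective (algebraMap A' B') ∧
      Algebra.IsSeparable K K' ∧ Algebra.IsSeparable L L' ∧
      (letI := (IsLocalRing.ResidueField.map (algebraMap A A')).toAlgebra
       IsSepClosure (IsLocalRing.ResidueField A) (IsLocalRing.ResidueField A')) ∧
      (letI := (IsLocalRing.ResidueField.map (algebraMap B B')).toAlgebra
       IsSepClosure (IsLocalRing.ResidueField B) (IsLocalRing.ResidueField B')) ∧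
      ((∃ (K₁ : Type u) (_ : Field K₁) (_ : Algebra K' K₁), FiniteDimensional K' K₁ ∧ EtRam.IsSolution B' K' L' K₁) →
        ∃ (K₁ : Type u) (_ : Field K₁) (_ : Algebra K K₁), FiniteDimensional K K₁ ∧ EtRam.IsSolution B K L K₁) ∧
      ((∃ (K₁ : Type u) (_ : Field K₁) (_ : Algebra K' K₁), FiniteDimensional K' K₁ ∧ Algebra.IsSeparable K' K₁ ∧
          EtRam.IsSolution B' K' L' K₁) →
        ∃ (K₁ : Type u) (_ : Field K₁) (_ : Algebra K K₁), FiniteDimensional K K₁ ∧ Algebra.IsSeparable K K₁ ∧
          EtRam.IsSolution B K L K₁) := by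
  classical
  open SHDescLib IsLocalRing in
  let Ω := SeparableClosure L
  have : IsGalois L Ω := inferInstance
  letI : Algebra B Ω := ((algebraMap L Ω).comp (algebraMap B L)).toAlgebra
  have : IsScalarTower B L Ω := IsScalarTower.of_algebraMap_eq fun _ => rfl
  letI : Algebra K Ω := ((algebraMap L Ω).comp (algebraMap K L)).toAlgebra
  have : IsScalarTower K L Ω := IsScalarTower.of_algebraMap_eq fun _ => rfl
  have hA : ∀ a : A, algebraMap K L (algebraMap A K a) = algebraMap B L (algebraMap A B a) := fun a =>
    (IsScalarTower.algebraMap_apply A K L a).symm.trans (IsScalarTower.algebraMap_apply A B L a)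
  obtain ⟨W, hWL⟩ := ASWeakLib.exists_dominating ((algebraMap L Ω).comp (algebraMap B L))
    ((algebraMap L Ω).injective.comp (IsFractionRing.injective B L))
  have hWA : EtRam.Dominates A ((algebraMap K Ω).comp (algebraMap A K)) W := by
    have he : ∀ a, ((algebraMap K Ω).comp (algebraMap A K)) a = algebraMap L Ω (algebraMap B L (algebraMap A B a)) := fun a => by
      show algebraMap L Ω (algebraMap K L (algebraMap A K a)) = _
      rw [hA]
    exact ⟨fun a => he a ▸ hWL.1 _, fun a ha => he a ▸ hWL.2 _ fun hu => ha (IsUnit.of_map (algebraMap A B) a hu)⟩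
  -- the larger field
  obtain ⟨L', hL', hmaxL⟩ : ∃ L' : IntermediateField L Ω, (letI := (toRes W hWL).toAlgebra; Unr B W L') ∧
      ∀ F : IntermediateField L Ω, L' ≤ F → (letI := (toRes W hWL).toAlgebra; Unr B W F) → F = L' := by
    letI := (toRes W hWL).toAlgebra
    obtain ⟨F, -, hF, hmax⟩ := exists_maximal hWL (fun _ => rfl) (⊤ : IntermediateField L Ω)
    exact ⟨F, hF, fun F' h h' => hmax F' h le_top h'⟩
  have hcL : IsSepClosed (ResidueField (W.comap L'.val.toRingHom)) := by
    letI := (toRes W hWL).toAlgebra
    refine hL'.isSepClosed hWL (fun _ => rfl) le_top (fun F h _ h' => hmaxL F h h') fun f hf hirr hsep => ?_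
    obtain ⟨rb, hrb⟩ := (hL'.exists_lift hWL (fun _ => rfl) hf hirr hsep).1
    exact ⟨rb, hrb, fun _ _ _ _ _ _ _ => le_top⟩
  obtain ⟨πA, hπA⟩ := IsDiscreteValuationRing.exists_irreducible A
  obtain ⟨πB, hπB⟩ := IsDiscreteValuationRing.exists_irreducible B
  have hUB := (letI := (toRes W hWL).toAlgebra; hL'.unif hWL (fun _ => rfl) hπB)
  -- the smaller field
  obtain ⟨K', hK'S, hK', hmaxK⟩ : ∃ K' : IntermediateField K Ω, K' ≤ separableClosure K Ω ⊓ L'.restrictScalars K ∧
      (letI := (toRes W hWA).toAlgebra; Unr A W K') ∧
      ∀ F : IntermediateField K Ω, K' ≤ F → F ≤ separableClosure K Ω ⊓ L'.restrictScalars K →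
        (letI := (toRes W hWA).toAlgebra; Unr A W F) → F = K' := by
    letI := (toRes W hWA).toAlgebra
    exact exists_maximal hWA (fun _ => rfl) _
  have hKL' : ∀ z ∈ K', z ∈ L' := fun z hz => (hK'S hz).2
  let iKL : K' →+* L' := K'.val.toRingHom.codRestrict L'.toSubfield.toSubring fun z => hKL' z z.2
  letI : Algebra K' L' := iKL.toAlgebra
  have hcK : IsSepClosed (ResidueField (W.comap K'.val.toRingHom)) := by
    letI := (toRes W hWA).toAlgebra
    refine hK'.isSepClosed hWA (fun _ => rfl) hK'S hmaxK fun f hf hirr hsep => ?_
    -- the root in the residue field of the larger ring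
    let iO : W.comap K'.val.toRingHom →+* W.comap L'.val.toRingHom :=
      (iKL.comp (W.comap K'.val.toRingHom).subtype).codRestrict (W.comap L'.val.toRingHom).toSubring fun z => z.2
    have : IsLocalHom iO := ⟨fun a ha =>
      isUnit_of_map_unit (EtRam.inclOfComap W K'.val.toRingHom) a (ha.map (EtRam.inclOfComap W L'.val.toRingHom))⟩
    obtain ⟨c, hc⟩ := IsSepClosed.exists_root (k := ResidueField (W.comap L'.val.toRingHom)) (f.map (ResidueField.map iO))
      (by rw [Polynomial.degree_map]; exact (Polynomial.degree_pos_of_irreducible hirr).ne') hsep.map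
    have hcomp : (ResidueField.map (EtRam.inclOfComap W L'.val.toRingHom)).comp (ResidueField.map iO) =
        ResidueField.map (EtRam.inclOfComap W K'.val.toRingHom) := RingHom.ext fun r => by
      obtain ⟨r, rfl⟩ := residue_surjective r
      rfl
    refine ⟨ResidueField.map (EtRam.inclOfComap W L'.val.toRingHom) c, ?_, fun r F' _ _ hrF' hF' hg => ?_⟩
    · rw [← hcomp, ← Polynomial.eval₂_map, Polynomial.eval₂_at_apply, hc, map_zero]
    refine IntermediateField.adjoin_le_iff.2 (Set.union_subset (fun z hz => hK'S hz) (Set.singleton_subset_iff.2 ?_))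
    refine ⟨mem_separableClosure_iff.2 (hF'.sep _ hrF'), ?_⟩
    -- the root lies in the larger field, by maximality
    letI := (toRes W hWL).toAlgebra
    obtain ⟨g, hg, hgf, hgsep, hroot⟩ := hg
    obtain ⟨G, hLG, hrG, hG⟩ := hL'.simpleRoot hWL (fun _ => rfl) (g.map iO) (hg.map _)
      (by
        rw [Polynomial.map_map, show (residue _).comp iO = (ResidueField.map iO).comp (residue _) from RingHom.ext fun _ => rfl,
          ← Polynomial.map_map, hgf]
        exact hsep.map)
      (by
        rw [Polynomial.map_map, show (W.comap L'.val.toRingHom).subtype.comp iO = iKL.comp (W.comap K'.val.toRingHom).subtype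
          from RingHom.ext fun _ => rfl, ← Polynomial.map_map]
        exact hgsep.map)
      (r := (r : Ω)) (by rw [Polynomial.eval₂_map]; exact hroot)
    show (r : Ω) ∈ L'
    exact hmaxL G hLG hG ▸ hrG
  have hUA := (letI := (toRes W hWA).toAlgebra; hK'.unif hWA (fun _ => rfl) hπA)
  have : IsDiscreteValuationRing (W.comap K'.val.toRingHom) := hUA.isDVR
  have : IsDiscreteValuationRing (W.comap L'.val.toRingHom) := hUB.isDVR
  let iO : W.comap K'.val.toRingHom →+* W.comap L'.val.toRingHom :=
    (iKL.comp (W.comap K'.val.toRingHom).subtype).codRestrict (W.comap L'.val.toRingHom).toSubring fun z => z.2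
  have hiO : IsLocalHom iO := ⟨fun a ha =>
    isUnit_of_map_unit (EtRam.inclOfComap W K'.val.toRingHom) a (ha.map (EtRam.inclOfComap W L'.val.toRingHom))⟩
  letI : Algebra A (W.comap K'.val.toRingHom) := (toO W hWA K').toAlgebra
  letI : Algebra B (W.comap L'.val.toRingHom) := (toO W hWL L').toAlgebra
  letI : Algebra (W.comap K'.val.toRingHom) (W.comap L'.val.toRingHom) := iO.toAlgebra
  letI : Algebra A (W.comap L'.val.toRingHom) :=
    ((algebraMap B (W.comap L'.val.toRingHom)).comp (algebraMap A B)).toAlgebra
  letI : Algebra (W.comap K'.val.toRingHom) L' := (iKL.comp (W.comap K'.val.toRingHom).subtype).toAlgebra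
  letI : Algebra A K' := ((algebraMap K K').comp (algebraMap A K)).toAlgebra
  letI : Algebra B L' := ((algebraMap L L').comp (algebraMap B L)).toAlgebra
  have t1 : IsScalarTower A B (W.comap L'.val.toRingHom) := IsScalarTower.of_algebraMap_eq fun _ => rfl
  have t2 : IsScalarTower A (W.comap K'.val.toRingHom) (W.comap L'.val.toRingHom) := IsScalarTower.of_algebraMap_eq fun a =>
    Subtype.ext (Subtype.ext (congrArg (algebraMap L Ω) (hA a)).symm)
  have t3 : IsScalarTower (W.comap K'.val.toRingHom) K' L' := IsScalarTower.of_algebraMap_eq fun _ => rfl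
  have t4 : IsScalarTower (W.comap K'.val.toRingHom) (W.comap L'.val.toRingHom) L' := IsScalarTower.of_algebraMap_eq fun _ => rfl
  have t5 : IsScalarTower A K K' := IsScalarTower.of_algebraMap_eq fun _ => rfl
  have t6 : IsScalarTower A (W.comap K'.val.toRingHom) K' := IsScalarTower.of_algebraMap_eq fun _ => rfl
  have t7 : IsScalarTower B L L' := IsScalarTower.of_algebraMap_eq fun _ => rfl
  have t8 : IsScalarTower B (W.comap L'.val.toRingHom) L' := IsScalarTower.of_algebraMap_eq fun _ => rfl
  refine ⟨W.comap K'.val.toRingHom, W.comap L'.val.toRingHom, K', L', inferInstance, inferInstance, inferInstance,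
    inferInstance, inferInstance, inferInstance, inferInstance, inferInstance, inferInstance, inferInstance, inferInstance,
    inferInstance, t1, t2, inferInstance, inferInstance, inferInstance, inferInstance, inferInstance, inferInstance, t3, t4,
    inferInstance, inferInstance, t5, t6, inferInstance, inferInstance, t7, t8,
    isLocalHom_toO W hWA K', isLocalHom_toO W hWL L', hiO, ?_, ?_, ?_, ?_, ?_, ?_, ?_, ?_, ?_⟩
  · exact fun a a' h => IsFractionRing.injective A K ((algebraMap K K').injective (congrArg Subtype.val h))
  · exact fun a a' h => IsFractionRing.injective B L ((algebraMap L L').injective (congrArg Subtype.val h))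
  · exact fun a a' h => Subtype.ext (iKL.injective (congrArg Subtype.val h))
  · exact ⟨fun z => (isSeparable_map_iff K'.val K'.val.toRingHom.injective).1
      (letI := (toRes W hWA).toAlgebra; hK'.sep z z.2)⟩
  · exact ⟨fun z => (isSeparable_map_iff L'.val L'.val.toRingHom.injective).1
      (letI := (toRes W hWL).toAlgebra; hL'.sep z z.2)⟩
  · exact @IsSepClosure.mk _ _ _ _ (_) hcK (hK'.isSeparable_residue W hWA)
  · exact @IsSepClosure.mk _ _ _ _ (_) hcL (hL'.isSeparable_residue W hWL)
  · rintro ⟨K₁', _, _, hfin, hsol⟩
    obtain ⟨K₁, _, _, h1, -, h3⟩ := descend (K := K) (L := L) (Ω := Ω) (W := W) hWL hA hWA hWL K' hK' L' hL'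
      (fun _ => rfl) K₁' hsol
    exact ⟨K₁, inferInstance, inferInstance, h1, h3⟩
  · rintro ⟨K₁', _, _, hfin, hsep, hsol⟩
    obtain ⟨K₁, _, _, h1, h2, h3⟩ := descend (K := K) (L := L) (Ω := Ω) (W := W) hWL hA hWA hWL K' hK' L' hL'
      (fun _ => rfl) K₁' hsol
    exact ⟨K₁, inferInstance, inferInstance, h1, h2 hsep, h3⟩

end Groth.Agent.S7162
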