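import Groth.Statements.S7164
import Groth.Agent.HomSingleLib.Basic
import Groth.Agent.DRingLib.Basic

set_option autoImplicit false
universe u
open CategoryTheory
attribute [local instance] HasDerivedCategory.standard
open CAlg

namespace Groth.Agent.S7164

/-- Let A be a Noetherian ring, I an ideal, K a pseudo-coherent object of D(A) and a an integer. Assume
that for every finite A-module M and every i ≥ a the module Ext^i_A(K, M) is I-power torsion. Then
for i ≥ a and M finite the inverse system (Ext^i_A(K, M/IⁿM))_n is essentially constant with value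
Ext^i_A(K, M) (so that Ext^i_A(K, M) = lim Ext^i_A(K, M/IⁿM)): concretely, some comparison map
Ext^i(K, M) → Ext^i(K, M/I^mM) is injective and for every n there is m' ≥ n such that the image of
the transition map Ext^i(K, M/I^(m')M) → Ext^i(K, M/IⁿM) is contained in the image of Ext^i(K, M).
Here Ext^i(K, X) = Hom_{D(A)}(K, X[i]). -/
theorem result (A : Type u) [CommRing A] [IsNoetherianRing A]
    (I : Ideal A) (K : Dual.D A) (hK : DRing.IsPseudoCoherent' A K) (a : ℤ)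
    (htors : ∀ (M : Type u) [AddCommGroup M] [Module A M], Module.Finite A M → ∀ i : ℤ, a ≤ i →
      ∀ e : K ⟶ (Dual.inD A M)⟦i⟧, ∃ n : ℕ, ∀ x ∈ I ^ n, x • e = 0)
    (M : Type u) [AddCommGroup M] [Module A M] [Module.Finite A M] (i : ℤ) (hi : a ≤ i) :
    let Mq : ℕ → Submodule A M := fun n => I ^ n • ⊤
    let c : ∀ n : ℕ, (K ⟶ (Dual.inD A M)⟦i⟧) → (K ⟶ (Dual.inD A (M ⧸ Mq n))⟦i⟧) :=
      fun n e => e ≫ ((DerivedCategory.singleFunctor (ModuleCat.{u} A) 0).map (ModuleCat.ofHom (Mq n).mkQ))⟦i⟧'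
    let t : ∀ n m : ℕ, n ≤ m → (K ⟶ (Dual.inD A (M ⧸ Mq m))⟦i⟧) → (K ⟶ (Dual.inD A (M ⧸ Mq n))⟦i⟧) :=
      fun n m hnm e => e ≫ ((DerivedCategory.singleFunctor (ModuleCat.{u} A) 0).map (ModuleCat.ofHom
        (Submodule.mapQ (Mq m) (Mq n) (LinearMap.id : M →ₗ[A] M) (Submodule.smul_mono_left (Ideal.pow_le_pow_right hnm)))))⟦i⟧'
    (∃ m : ℕ, Function.Injective (c m)) ∧
      ∀ n : ℕ, ∃ (m' : ℕ) (hnm : n ≤ m'), Set.range (t n m' hnm) ⊆ Set.range (c n) := by
  intro Mq c t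
  obtain ⟨E, b, hb, hf, ⟨e⟩⟩ := hK
  have hE : E.IsKProjective := DRingLib.isKProjective_of_free E b hb fun j => (hf j).2
  have hfree : ∀ j, Module.Free A (E.X j) := fun j => (hf j).2
  have hfin : ∀ j, Module.Finite A (E.X j) := fun j => (hf j).1
  -- deep cocycles in a degree `q` are coboundaries
  have deep : ∀ (N : Type u) [AddCommGroup N] [Module A N], Module.Finite A N →
      ∀ (j q : ℤ), a ≤ j → j + q = 0 → ∃ m₀ : ℕ, ∀ m ≥ m₀, ∀ f : E.X q →ₗ[A] N,
        f ∘ₗ (E.d (q - 1) q).hom = 0 → (∀ p, f p ∈ (I ^ m • ⊤ : Submodule A N)) →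
        ∃ g, g ∘ₗ (E.d q (q + 1)).hom = f := by
    intro N _ _ hN j q hj hjq
    refine HomSingleLib.exists_deep_coboundary I _ _ fun f hf' => ?_
    have hf'' : E.d (q - 1) q ≫ ModuleCat.ofHom f = 0 := ModuleCat.hom_ext hf'
    obtain ⟨n, hn⟩ := htors N hN j hj (HomSingleLib.cls hjq e (ModuleCat.ofHom f) hf'')
    refine ⟨n, fun x hx => ?_⟩
    have h0 := hn x hx
    rw [← HomSingleLib.cls_smul hjq e x (ModuleCat.ofHom f) hf''] at h0
    obtain ⟨g, hg⟩ := (HomSingleLib.cls_eq_zero_iff hjq e _ _).1 h0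
    exact ⟨g.hom, congrArg ModuleCat.Hom.hom hg⟩
  obtain ⟨q, hq⟩ : ∃ q : ℤ, i + q = 0 := ⟨-i, add_neg_cancel i⟩
  -- lifting through a surjection
  have lift : ∀ (j : ℤ) (n : ℕ) (g : E.X j →ₗ[A] M ⧸ Mq n), ∃ g' : E.X j →ₗ[A] M, (Mq n).mkQ ∘ₗ g' = g := by
    intro j n g
    exact Module.projective_lifting_property _ g (Submodule.mkQ_surjective _)
  refine ⟨?_, fun n => ?_⟩
  · obtain ⟨m, hm⟩ := deep M inferInstance i q hi hq
    refine ⟨m, fun φ ψ hφψ => ?_⟩
    obtain ⟨f₁, hf₁, rfl⟩ := HomSingleLib.cls_surjective hq e φ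
    obtain ⟨f₂, hf₂, rfl⟩ := HomSingleLib.cls_surjective hq e ψ
    rw [← sub_eq_zero, ← HomSingleLib.cls_sub, HomSingleLib.cls_eq_zero_iff]
    have h0 : HomSingleLib.cls hq e ((f₁ - f₂) ≫ ModuleCat.ofHom (Mq m).mkQ)
        (by rw [← Category.assoc, Preadditive.comp_sub, hf₁, hf₂, sub_zero, Limits.zero_comp]) = 0 := by
      rw [HomSingleLib.cls_comp hq e (f₁ - f₂) (by rw [Preadditive.comp_sub, hf₁, hf₂, sub_zero]),
        HomSingleLib.cls_sub hq e f₁ f₂ hf₁ hf₂, Preadditive.sub_comp, sub_eq_zero]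
      exact hφψ
    obtain ⟨g, hg⟩ := (HomSingleLib.cls_eq_zero_iff hq e _ _).1 h0
    obtain ⟨g', hg'⟩ := lift (q + 1) m g.hom
    let f : E.X q →ₗ[A] M := (f₁ - f₂).hom - g' ∘ₗ (E.d q (q + 1)).hom
    have hfd : f ∘ₗ (E.d (q - 1) q).hom = 0 := by
      have h1 : E.d (q - 1) q ≫ (f₁ - f₂ - E.d q (q + 1) ≫ ModuleCat.ofHom g') = 0 := by
        rw [Preadditive.comp_sub, Preadditive.comp_sub, hf₁, hf₂, HomologicalComplex.d_comp_d_assoc,
          Limits.zero_comp, sub_zero, sub_zero]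
      exact congrArg ModuleCat.Hom.hom h1
    obtain ⟨k, hk⟩ := hm m le_rfl f hfd fun p => by
      rw [← Submodule.Quotient.mk_eq_zero]
      have h1 := congr($(congrArg ModuleCat.Hom.hom hg) p)
      have h2 := LinearMap.congr_fun hg' ((E.d q (q + 1)).hom p)
      change (Mq m).mkQ ((f₁ - f₂).hom p - g' ((E.d q (q + 1)).hom p)) = 0
      rw [map_sub, sub_eq_zero]
      exact h1.symm.trans h2.symm
    refine ⟨ModuleCat.ofHom (k + g'), ModuleCat.hom_ext ?_⟩
    change (k + g') ∘ₗ (E.d q (q + 1)).hom = (f₁ - f₂).hom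
    rw [LinearMap.add_comp, hk, sub_add_cancel]
  · haveI : Module.Finite A (Mq n) := Module.Finite.iff_fg.2 (IsNoetherian.noetherian _)
    obtain ⟨m₁, hm₁⟩ := deep (Mq n) inferInstance (i + 1) (q - 1) (by omega) (by omega)
    refine ⟨n + m₁, Nat.le_add_right n m₁, ?_⟩
    rintro _ ⟨φ, rfl⟩
    obtain ⟨fb, hfb, rfl⟩ := HomSingleLib.cls_surjective hq e φ
    obtain ⟨f, hf'⟩ := lift q (n + m₁) fb.hom
    let u : E.X (q - 1) →ₗ[A] M := f ∘ₗ (E.d (q - 1) q).hom
    have hu : ∀ p, u p ∈ Mq (n + m₁) := fun p => by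
      rw [← Submodule.Quotient.mk_eq_zero]
      exact (LinearMap.congr_fun hf' _).trans congr($(congrArg ModuleCat.Hom.hom hfb) p)
    have hle : Mq (n + m₁) ≤ Mq n := Submodule.smul_mono_left (Ideal.pow_le_pow_right (Nat.le_add_right n m₁))
    let u' : E.X (q - 1) →ₗ[A] Mq n := u.codRestrict _ fun p => hle (hu p)
    have hu' : u' ∘ₗ (E.d (q - 1 - 1) (q - 1)).hom = 0 := by
      refine LinearMap.ext fun p => Subtype.ext ?_
      change f ((E.d (q - 1 - 1) (q - 1) ≫ E.d (q - 1) q).hom p) = 0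
      rw [HomologicalComplex.d_comp_d]
      exact map_zero f
    have hval : ∀ p, u' p ∈ (I ^ m₁ • ⊤ : Submodule A (Mq n)) := fun p => by
      have h1 : u p ∈ Submodule.map (Mq n).subtype (I ^ m₁ • ⊤ : Submodule A (Mq n)) := by
        rw [Submodule.map_smul'', Submodule.map_subtype_top, ← Submodule.smul_assoc, smul_eq_mul, ← pow_add,
          add_comm]
        exact hu p
      obtain ⟨y, hy, hy'⟩ := h1
      rwa [show u' p = y from Subtype.ext hy'.symm]
    obtain ⟨g, hg⟩ := hm₁ m₁ le_rfl u' hu' hval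
    obtain ⟨g₀, hg₀⟩ : ∃ g₀ : E.X q →ₗ[A] Mq n, g₀ ∘ₗ (E.d (q - 1) q).hom = u' := by
      revert g
      rw [sub_add_cancel]
      exact fun g hg => ⟨g, hg⟩
    let f' : E.X q →ₗ[A] M := f - (Mq n).subtype ∘ₗ g₀
    have hf'd : E.d (q - 1) q ≫ ModuleCat.ofHom f' = 0 := ModuleCat.hom_ext (LinearMap.ext fun p => by
      change f ((E.d (q - 1) q).hom p) - (g₀ ((E.d (q - 1) q).hom p) : M) = 0
      rw [show g₀ ((E.d (q - 1) q).hom p) = u' p from LinearMap.congr_fun hg₀ p]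
      exact sub_self _)
    refine ⟨HomSingleLib.cls hq e (ModuleCat.ofHom f') hf'd, ?_⟩
    change HomSingleLib.cls hq e _ hf'd ≫ _ = HomSingleLib.cls hq e fb hfb ≫ _
    rw [← HomSingleLib.cls_comp hq e, ← HomSingleLib.cls_comp hq e]
    refine HomSingleLib.cls_congr hq e _ _ (ModuleCat.hom_ext (LinearMap.ext fun p => ?_))
    change (Mq n).mkQ (f p - (g₀ p : M)) = Submodule.mapQ _ _ LinearMap.id (show Mq (n + m₁) ≤ Submodule.comap LinearMap.id (Mq n) from hle) (fb.hom p)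
    rw [← LinearMap.congr_fun hf' p, map_sub]
    simp

end Groth.Agent.S7164
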