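import Groth.Statements.S7165
import Groth.Agent.IntClosEss.Basic

set_option autoImplicit false
universe u
open EtAlg

namespace Groth.Agent.S7165

open TensorProduct in
/-- Let A → B be an injective local homomorphism of discrete valuation rings whose fields of fractions
are K ⊆ L, the A-algebra B being essentially of finite type. Let K' ⊇ K be an algebraic extension
field for which A', the integral closure of A in K', is a Noetherian ring, and let L' = (L ⊗_K
K')_red. Then B', the integral closure of B in L', is a Noetherian ring. (The published statement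
also asserts that Spec B' → Spec A' is surjective and that the residue field extensions are finitely
generated; this row states only that B' is Noetherian.) -/
theorem result (A B K L : Type u) [CommRing A] [IsDomain A]
    [IsDiscreteValuationRing A] [CommRing B] [IsDomain B] [IsDiscreteValuationRing B] [Algebra A B]
    (hinj : Function.Injective (algebraMap A B)) [IsLocalHom (algebraMap A B)] [Algebra.EssFiniteType A B]
    [Field K] [Field L] [Algebra A K] [IsFractionRing A K] [Algebra B L] [IsFractionRing B L]
    [Algebra K L] [Algebra A L] [IsScalarTower A K L] [IsScalarTower A B L]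
    (K' : Type u) [Field K'] [Algebra K K'] [Algebra A K'] [IsScalarTower A K K'] [Algebra.IsAlgebraic K K']
    (hA' : IsNoetherianRing (integralClosure A K'))
    (L' : Type u) [CommRing L'] [IsReduced L'] [Algebra K L'] [Algebra L L'] [Algebra K' L'] [Algebra B L']
    [IsScalarTower K L L'] [IsScalarTower K K' L'] [IsScalarTower B L L']
    (q : L ⊗[K] K' →ₐ[K] L') (hq : Function.Surjective q) (hker : RingHom.ker q.toRingHom = nilradical (L ⊗[K] K'))
    (hqL : ∀ y : L, q (y ⊗ₜ 1) = algebraMap L L' y) (hqK : ∀ z : K', q (1 ⊗ₜ z) = algebraMap K' L' z) :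
    IsNoetherianRing (integralClosure B L') := by
  haveI : Algebra.EssFiniteType B L := Algebra.EssFiniteType.of_isLocalization L (nonZeroDivisors B)
  haveI : Algebra.EssFiniteType A L := Algebra.EssFiniteType.comp A B L
  haveI : Algebra.EssFiniteType K L := Algebra.EssFiniteType.of_comp A K L
  haveI : IsNoetherianRing (K' ⊗[K] L) := Algebra.EssFiniteType.isNoetherianRing K' _
  haveI : IsNoetherianRing L' :=
    isNoetherianRing_of_surjective (K' ⊗[K] L) L'
      (q.toRingHom.comp (Algebra.TensorProduct.comm K K' L).toRingEquiv.toRingHom)
      (hq.comp (Algebra.TensorProduct.comm K K' L).surjective)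
  haveI hint : Algebra.IsIntegral L L' := ⟨fun x => by
    obtain ⟨t, rfl⟩ := hq x
    induction t using TensorProduct.induction_on with
    | zero => rw [map_zero]; exact isIntegral_zero
    | add s t hs ht => rw [map_add]; exact hs.add ht
    | tmul y z =>
      rw [show y ⊗ₜ[K] z = (y ⊗ₜ 1) * (1 ⊗ₜ z) by simp, map_mul, hqL, hqK]
      refine isIntegral_algebraMap.mul ?_
      exact ((Algebra.IsAlgebraic.isAlgebraic (R := K) z).isIntegral.map
        (IsScalarTower.toAlgHom K K' L')).tower_top⟩
  haveI : IsArtinianRing L' := by
    refine isArtinianRing_iff_isNoetherianRing_krullDimLE_zero.2 ⟨inferInstance, ?_⟩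
    refine Ring.krullDimLE_zero_iff.2 fun P hP => ?_
    haveI := hP
    haveI : (P.comap (algebraMap L L')).IsMaximal := by
      have h := (inferInstance : (P.comap (algebraMap L L')).IsPrime)
      rcases Ideal.eq_bot_or_top (P.comap (algebraMap L L')) with h' | h'
      · rw [h']; exact Ideal.bot_isMaximal
      · exact absurd h' h.ne_top
    exact Ideal.isMaximal_of_isIntegral_of_isMaximal_comap (R := L) P inferInstance
  refine IntClosEss.isNoetherianRing_of_quotients B L' fun m hm => ?_
  haveI := hm
  letI := Ideal.Quotient.field m
  refine IntClosEss.isNoetherianRing_of_compositum A B K L K' (L' ⧸ m) hA'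
    ((Ideal.Quotient.mk m).comp (algebraMap L L')) ((Ideal.Quotient.mk m).comp (algebraMap K' L'))
    (fun b => ?_) (fun a => ?_) ?_
  · rw [RingHom.comp_apply, ← IsScalarTower.algebraMap_apply B L L']; rfl
  · rw [RingHom.comp_apply, IsScalarTower.algebraMap_apply A K K', ← IsScalarTower.algebraMap_apply K K' L',
      IsScalarTower.algebraMap_apply K L L', ← IsScalarTower.algebraMap_apply A K L,
      IsScalarTower.algebraMap_apply A B L, ← IsScalarTower.algebraMap_apply B L L']
    rfl
  · rw [eq_top_iff]
    intro x _
    obtain ⟨x, rfl⟩ := Ideal.Quotient.mk_surjective x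
    obtain ⟨t, rfl⟩ := hq x
    induction t using TensorProduct.induction_on with
    | zero => rw [map_zero, map_zero]; exact zero_mem _
    | add s t hs ht => rw [map_add, map_add]; exact add_mem (hs trivial) (ht trivial)
    | tmul y z =>
      rw [show y ⊗ₜ[K] z = (y ⊗ₜ 1) * (1 ⊗ₜ z) by simp, map_mul, hqL, hqK, map_mul]
      exact mul_mem (Subring.subset_closure (Or.inl ⟨y, rfl⟩)) (Subring.subset_closure (Or.inr ⟨z, rfl⟩))

end Groth.Agent.S7165
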