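import Groth.Statements.S7177
import Groth.Agent.S1412
import Groth.Agent.AbsFlat.Basic
import Mathlib
-- import your own Groth.Agent.* helpers here

set_option autoImplicit false
universe u
open FlatMor

namespace Groth.Agent.S7177
section
open AlgebraicGeometry CategoryTheory Limits
set_option linter.all false
theorem lmul_flat {X Y : Scheme.{u}} (f : X ⟶ Y) [Flat (pullback.diagonal f)] (x : X) :
    (letI := (f.stalkMap x).hom.toAlgebra
     (Algebra.TensorProduct.lmul' (S := ↑(X.presheaf.stalk x)) (↑(Y.presheaf.stalk (f x)))).toRingHom.Flat) := by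
  have key : ∀ x : X, ∃ (k : pullback (X.fromSpecStalk x ≫ f) (X.fromSpecStalk x ≫ f) ⟶ pullback f f),
      (∀ z, IsIso (k.stalkMap z)) ∧
      pullback.diagonal (X.fromSpecStalk x ≫ f) ≫ k = X.fromSpecStalk x ≫ pullback.diagonal f := fun x => by
    haveI : Flat (X.fromSpecStalk x) := AlgSpLib.flat_fromSpecStalk x
    let k := pullback.map (X.fromSpecStalk x ≫ f) (X.fromSpecStalk x ≫ f) f f (X.fromSpecStalk x)
      (X.fromSpecStalk x) (𝟙 Y) (Category.comp_id _) (Category.comp_id _)
    haveI : Flat k := MorphismProperty.pullbackMap (P := @Flat) ‹_› ‹_› rfl rfl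
    haveI : IsPreimmersion k :=
      MorphismProperty.pullbackMap (P := @IsPreimmersion) inferInstance inferInstance rfl rfl
    refine ⟨k, fun z => AffContLib.isIso_stalkMap_of_flat_preimmersion k z, ?_⟩
    refine pullback.hom_ext ?_ ?_
    · erw [Category.assoc, pullback.lift_fst, pullback.diagonal_fst_assoc, Category.assoc,
        pullback.diagonal_fst, Category.comp_id]
    · erw [Category.assoc, pullback.lift_snd, pullback.diagonal_snd_assoc, Category.assoc,
        pullback.diagonal_snd, Category.comp_id]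
  refine (Groth.Agent.S1412.flat_lmul_iff f x).2 ?_
  haveI : Flat (X.fromSpecStalk x) := AlgSpLib.flat_fromSpecStalk x
  obtain ⟨k, hk, hkd⟩ := key x
  refine Flat.of_stalkMap _ fun z => ?_
  have h2 : ((pullback.diagonal (X.fromSpecStalk x ≫ f) ≫ k).stalkMap z).hom.Flat := by
    rw [hkd]
    exact Flat.stalkMap _ z
  rw [Scheme.Hom.stalkMap_comp] at h2
  haveI := hk ((pullback.diagonal (X.fromSpecStalk x ≫ f)).base z)
  have h3 := Groth.Agent.S2758.flat_comp (inv (k.stalkMap _)) _ (RingHom.Flat.of_bijective
    ((ConcreteCategory.isIso_iff_bijective (inv (k.stalkMap ((pullback.diagonal (X.fromSpecStalk x ≫ f)).base z)))).mp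
      inferInstance)) h2
  rwa [IsIso.inv_hom_id_assoc] at h3

end


open AlgebraicGeometry CategoryTheory Limits in
/-- Let f : X → Y have flat diagonal and let F be an O_X-module flat over Y. Then F is flat as an
O_X-module. -/
theorem result {X Y : Scheme.{u}} (f : X ⟶ Y) [Flat (pullback.diagonal f)] (F : X.Modules)
    (hF : FlatMod.IsFlatOver f F) : FlatMod.IsFlat F := by
  intro x
  letI := (f.stalkMap x).hom.toAlgebra
  letI := FlatMod.moduleStalkOver f F x
  haveI : IsScalarTower (Y.presheaf.stalk (f x)) (X.presheaf.stalk x) (F.presheaf.stalk x) :=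
    ⟨fun a b m => mul_smul ((f.stalkMap x).hom a) b m⟩
  haveI : Module.Flat (Y.presheaf.stalk (f x)) (F.presheaf.stalk x) := hF x
  exact AbsFlat.flat_of_flat_mul (lmul_flat f x) (F.presheaf.stalk x)

end Groth.Agent.S7177
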