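import Groth.Statements.S7178
import Groth.Agent.WEtReducedLib.Basic
-- import your own Groth.Agent.* helpers here

set_option autoImplicit false
set_option backward.isDefEq.respectTransparency false
universe u
open FlatMor AlgebraicGeometry CategoryTheory Limits

namespace Groth.Agent.S7178

open AlgebraicGeometry CategoryTheory Limits in
/-- (1) ⇔ (2): f : X → S is weakly étale if and only if, whenever U ⊆ X and V ⊆ S are affine opens and f
maps U into V, the ring O_X(U) is a weakly étale O_S(V)-algebra (flat, with flat multiplication map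
O_X(U) ⊗ O_X(U) → O_X(U) over O_S(V)). -/
theorem result {X S : Scheme.{u}} (f : X ⟶ S) :
    WeaklyEtale f ↔ ∀ (U : X.Opens) (V : S.Opens) (_ : IsAffineOpen U) (_ : IsAffineOpen V) (hUV : U ≤ f ⁻¹ᵁ V),
      (letI := (f.appLE V U hUV).hom.toAlgebra
       Algebra.WeaklyEtale Γ(S, V) Γ(X, U)) := by
  refine ⟨fun _ U V hU hV e => Groth.Agent.WEtReducedLib.weaklyEtale_appLE f hU hV e, fun h => ?_⟩
  let ι := {p : X.Opens × S.Opens // IsAffineOpen p.1 ∧ IsAffineOpen p.2 ∧ p.1 ≤ f ⁻¹ᵁ p.2}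
  have htop : iSup (fun p : ι => p.1.1) = ⊤ := by
    refine top_le_iff.1 fun x _ => ?_
    obtain ⟨V, hV, hxV, -⟩ := exists_isAffineOpen_mem_and_subset (x := f.base x) (U := ⊤) trivial
    obtain ⟨U, hU, hxU, hUV⟩ := exists_isAffineOpen_mem_and_subset (x := x) (U := f ⁻¹ᵁ V) hxV
    exact TopologicalSpace.Opens.mem_iSup.2 ⟨(⟨(U, V), hU, hV, hUV⟩ : ι), hxU⟩
  refine (IsZariskiLocalAtSource.iff_of_iSup_eq_top (P := @AlgebraicGeometry.WeaklyEtale) _ htop).2 ?_
  rintro ⟨⟨U, V⟩, hU, hV, e⟩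
  letI := (f.appLE V U e).hom.toAlgebra
  haveI := h U V hU hV e
  haveI h1 : AlgebraicGeometry.WeaklyEtale (Spec.map (f.appLE V U e)) := by
    haveI : MorphismProperty.RespectsIso (@Flat : MorphismProperty Scheme.{u}) := MorphismProperty.IsStableUnderBaseChange.respectsIso
    have h0 : AlgebraicGeometry.WeaklyEtale (Spec.map (CommRingCat.ofHom (algebraMap Γ(S, V) Γ(X, U)))) := by
      refine ⟨(HasRingHomProperty.Spec_iff (P := @Flat)).2 (RingHom.flat_algebraMap_iff.2 inferInstance), ?_⟩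
      rw [diagonal_SpecMap]
      exact (MorphismProperty.cancel_right_of_respectsIso (P := @Flat) _ _).2
        ((HasRingHomProperty.Spec_iff (P := @Flat)).2 (Algebra.WeaklyEtale.flat_lmul' Γ(S, V) Γ(X, U)))
    exact h0
  show AlgebraicGeometry.WeaklyEtale (U.ι ≫ f)
  rw [← hU.isoSpec_hom_fromSpec, Category.assoc, ← hV.SpecMap_appLE_fromSpec f hU e]
  infer_instance

end Groth.Agent.S7178
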