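import Groth.Statements.S7181
import Mathlib
import Groth.Agent.PushLib.Over
import Groth.Agent.ProperOverLib.Basic
import Groth.Agent.Thickening.Basic
-- import your own Groth.Agent.* helpers here

set_option autoImplicit false
universe u
open FlatMor

namespace Groth.Agent.S7181

open AlgebraicGeometry CategoryTheory Limits in
/-- In the pushout P = Y ⨿_Z X of a closed immersion i : Z → X and an integral morphism j : Z → Y over a
base S (each fibre of j contained in the preimage of an affine open of X), if X and Y are separated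
(resp. quasi-separated) over S then so is P. -/
theorem result {X Y Z P S : Scheme.{u}} (i : Z ⟶ X) (j : Z ⟶ Y) [IsClosedImmersion i] [IsIntegralHom j]
    (haff : ∀ y : Y, ∃ U : X.Opens, IsAffineOpen U ∧ j ⁻¹' {y} ⊆ (i ⁻¹ᵁ U : Set ↑Z))
    (a : X ⟶ P) (b : Y ⟶ P) (hP : IsPushout i j a b) (p : X ⟶ S) (q : Y ⟶ S) (r : P ⟶ S)
    (hp : a ≫ r = p) (hq : b ≫ r = q) :
    ((IsSeparated p ∧ IsSeparated q) → IsSeparated r) ∧ ((QuasiSeparated p ∧ QuasiSeparated q) → QuasiSeparated r) := by
  have hY : ∀ y : Y, ∃ p : PushLib.Nice i j, y ∈ p.V := fun y => by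
    obtain ⟨U, hU, h⟩ := haff y
    obtain ⟨p, hp, -⟩ := PushLib.exists_nice i j y U hU fun z hz => h hz
    exact ⟨p, hp⟩
  haveI := PushLib.isIntegralHom_of_isPushout hY hP
  haveI := PushLib.isClosedImmersion_of_isPushout hY hP
  haveI : Surjective (coprod.desc a b) := PushLib.surjective_desc hY hP
  have hc : coprod.desc a b ≫ r = coprod.desc p q := by ext <;> simp [hp, hq]
  refine ⟨fun ⟨h₁, h₂⟩ => ?_, fun ⟨h₁, h₂⟩ => ?_⟩
  · haveI : IsSeparated (coprod.desc a b ≫ r) := hc ▸ PushLib.isSeparated_coprodDesc p q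
    exact ProperOverLib.isSeparated_of_comp_surjective (coprod.desc a b) r
  · exact ThickeningLib.quasiSeparated_of_comp_surjective (coprod.desc a b) r (hc ▸ PushLib.quasiSeparated_coprodDesc p q)

end Groth.Agent.S7181
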