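import Groth.Statements.S7185
import Groth.Agent.WeightLib.Comp
-- import your own Groth.Agent.* helpers here

set_option autoImplicit false
universe u
open FlatMor

namespace Groth.Agent.S7185

open CategoryTheory CategoryTheory.Limits AlgebraicGeometry

open AlgebraicGeometry CategoryTheory Limits in
/-- The restriction of a weighting of a locally quasi-finite morphism f : X → Y (locally of finite type
with discrete fibres) to an open subscheme X' of X is a weighting of X' → Y. -/
theorem result {X Y : Scheme.{u}} (f : X ⟶ Y) [LocallyQuasiFinite f] [LocallyOfFiniteType f] (w : X → ℤ)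
    (hw : MoreMor.IsWeighting f w) (X' : X.Opens) : MoreMor.IsWeighting (X'.ι ≫ f) (fun x => w (X'.ι x)) := by
  intro V g _ U hU
  let m : pullback (X'.ι ≫ f) g ⟶ pullback f g :=
    pullback.map (X'.ι ≫ f) g f g X'.ι (𝟙 V) (𝟙 Y) (by simp) (by simp)
  haveI : IsOpenImmersion m := by dsimp [m]; infer_instance
  let U' : (pullback f g).Opens := m ''ᵁ U
  have hmU : Set.range (U.ι ≫ m) = Set.range U'.ι := by
    rw [Scheme.Opens.range_ι, Scheme.Hom.coe_image, Scheme.Hom.comp_base, TopCat.coe_comp,
      Set.range_comp, Scheme.Opens.range_ι]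
  let e : (U : Scheme) ≅ U' := IsOpenImmersion.isoOfRangeEq (U.ι ≫ m) U'.ι hmU
  have he : e.hom ≫ U'.ι = U.ι ≫ m := IsOpenImmersion.isoOfRangeEq_hom_fac _ _ _
  have hsnd : U.ι ≫ pullback.snd (X'.ι ≫ f) g = e.hom ≫ U'.ι ≫ pullback.snd f g := by
    rw [← Category.assoc, he, Category.assoc]
    congr 1
    exact ((pullback.lift_snd _ _ _).trans (Category.comp_id _)).symm
  haveI hfin : IsFinite (U'.ι ≫ pullback.snd f g) :=
    (MorphismProperty.cancel_left_of_respectsIso (P := @IsFinite) e.hom _).1 (hsnd ▸ hU)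
  have hpt : ∀ u, X'.ι (pullback.fst (X'.ι ≫ f) g (U.ι u)) = pullback.fst f g (U'.ι (e.hom u)) := fun u => by
    simp only [← Scheme.Hom.comp_apply]
    rw [he]
    simp [m, pullback.map, pullback.lift_fst]
  convert hw V g U' hfin using 1
  funext v
  simp only [hpt]
  rw [hsnd]
  exact WeightLib.fibreIntegral_iso (U'.ι ≫ pullback.snd f g) e
    (fun u => w (pullback.fst f g (U'.ι u))) v (Scheme.Hom.finite_preimage_singleton _ v)

end Groth.Agent.S7185
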