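import Groth.Statements.S7186
import Groth.Agent.CohCmpLib.FamilyPic
import Groth.Agent.CubeLib.UnivO
import Groth.Agent.CohCmpLib.PicApps
import Groth.Agent.AVIndexLib.HodgeDim
import Groth.Agent.LocFreeCorepLib.Main

set_option autoImplicit false
set_option backward.isDefEq.respectTransparency false
set_option backward.isDefEq.respectTransparency.types false
set_option maxHeartbeats 1000000
universe u
open FlatMor

namespace Groth.Agent.S7186

open AlgebraicGeometry CategoryTheory Limits
section Helpers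

open TopologicalSpace

local notation "pb" => Scheme.Modules.pullback

theorem rank_fibre {X S : Scheme.{u}} {f : X ⟶ S} {M : X.Modules} {s : S} {r : ℕ}
    (e : (pb (f.fiberι s)).obj M ≅ FlatMod.freeMod (f.fiber s) r) {U : X.Opens} {n : ℕ}
    (hU : Nonempty (M.restrict U.ι ≅ FlatMod.freeMod (↑U) n)) {x : X} (hx : x ∈ U) (hs : f x = s) : n = r := by
  subst hs
  obtain ⟨eU⟩ := hU
  obtain ⟨z, hz⟩ : x ∈ Set.range (f.fiberι (f x)) := by rw [f.range_fiberι]; rfl
  let j := f.fiberι (f x)
  refine CohCmpLib.rank_unique ((pb j).obj M) (O := j ⁻¹ᵁ U) (O' := ⊤) (x := z)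
    (show j z ∈ U from (congrArg (fun y => y ∈ U) hz).mpr hx) trivial ?_ ?_
  · exact ⟨(KFlatLib.restrictPullIso j U).app M ≪≫ (pb (j ∣_ U)).mapIso eU ≪≫
      KFlatLib.pullFreeIso (j ∣_ U) n⟩
  · exact ⟨(Scheme.Modules.restrictFunctor _).mapIso e ≪≫
      (Scheme.Modules.restrictFunctorIsoPullback (⊤ : (f.fiber (f x)).Opens).ι).app _ ≪≫
      KFlatLib.pullFreeIso _ r⟩

theorem isIso_of_epi_free {X : Scheme.{u}} {A B : X.Modules} [Coh.IsQCoh A] [Coh.IsQCoh B] (φ : A ⟶ B) [Epi φ]
    (h : ∀ x : X, ∃ (U₁ U₂ : X.Opens) (r : ℕ), x ∈ U₁ ∧ x ∈ U₂ ∧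
      Nonempty (A.restrict U₁.ι ≅ FlatMod.freeMod (↑U₁) r) ∧
      Nonempty (B.restrict U₂.ι ≅ FlatMod.freeMod (↑U₂) r)) : IsIso φ := by
  refine RpushLib.isIso_of_bijective_basis φ (B := {V : X.Opens | IsAffineOpen V ∧ ∃ r : ℕ,
    RankLocusLib.FreeAlong r A V.ι ∧ RankLocusLib.FreeAlong r B V.ι}) ?_ fun V hV => ?_
  · refine Opens.isBasis_iff_nbhd.mpr fun {O z} hz => ?_
    obtain ⟨U₁, U₂, r, h₁, h₂, e₁, e₂⟩ := h z
    obtain ⟨V, hV, hzV, hle⟩ := exists_isAffineOpen_mem_and_subset (X := X) (x := z) (U := O ⊓ (U₁ ⊓ U₂)) ⟨hz, h₁, h₂⟩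
    have hle' : V ≤ O ⊓ (U₁ ⊓ U₂) := hle
    have f₁ := RankLocusLib.freeAlong_comp ((RankLocusLib.freeAlong_restrict_iff A U₁).2 e₁)
      (X.homOfLE (hle'.trans (inf_le_right.trans inf_le_left)))
    have f₂ := RankLocusLib.freeAlong_comp ((RankLocusLib.freeAlong_restrict_iff B U₂).2 e₂)
      (X.homOfLE (hle'.trans (inf_le_right.trans inf_le_right)))
    rw [Scheme.homOfLE_ι] at f₁ f₂
    exact ⟨V, ⟨hV, r, f₁, f₂⟩, hzV, hle'.trans inf_le_left⟩
  · obtain ⟨hV, r, f₁, f₂⟩ := hV
    obtain ⟨a⟩ := RankLocusLib.nonempty_basis_of_freeAlong A f₁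
    obtain ⟨b⟩ := RankLocusLib.nonempty_basis_of_freeAlong B f₂
    let l : Γ(A, V) →ₗ[Γ(X, V)] Γ(B, V) :=
      { toFun := φ.app V, map_add' := map_add _, map_smul' := fun c m => QCohLib.app_smul φ V c m }
    have hl : Function.Surjective l := FormalLib.app_surjective_of_epi _ φ hV
    let E := a.equivFun.toLinearMap ∘ₗ (b.equivFun.trans a.equivFun.symm).toLinearMap ∘ₗ l ∘ₗ a.equivFun.symm.toLinearMap
    have hE : Function.Injective E := OrzechProperty.injective_of_surjective_endomorphism E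
      (a.equivFun.surjective.comp ((b.equivFun.trans a.equivFun.symm).surjective.comp (hl.comp a.equivFun.symm.surjective)))
    refine ⟨fun x y h => ?_, hl⟩
    refine a.equivFun.injective (hE ?_)
    simp only [E, LinearMap.comp_apply, LinearEquiv.coe_coe, LinearEquiv.symm_apply_apply]
    rw [show l x = l y from h]

variable {X S : Scheme.{u}} (f : X ⟶ S)

/-- The counit is invertible at pullbacks of finite locally free modules. -/
theorem isIso_counit_free [IsIso (ClSub.unitToPush f)] (r : ℕ) {N : X.Modules}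
    (e : N ≅ FlatMod.freeMod X r) :
    IsIso ((Scheme.Modules.pullbackPushforwardAdjunction f).counit.app N) := by
  let a := Scheme.Modules.pullbackPushforwardAdjunction f
  let M := FlatMod.freeMod S r
  have := CohCmpLib.isIso_unit_of_unitToPush f (Groth.Agent.LocFreeCorepLib.isFinLocFree_freeMod (X := S) r)
  have h : IsIso ((pb f).map (a.unit.app M) ≫ a.counit.app ((pb f).obj M)) := by
    rw [a.left_triangle_components M]; infer_instance
  have h2 : IsIso (a.counit.app ((pb f).obj M)) := IsIso.of_isIso_comp_left ((pb f).map (a.unit.app M)) _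
  exact (NatTrans.isIso_app_iff_of_iso a.counit (e ≪≫ (KFlatLib.pullFreeIso f r).symm)).2 h2

variable [IsProper f] [Flat f] [LocallyOfFinitePresentation f]

theorem isPullback_of_free_fibres (hf : CubeLib.UnivO f) (E : X.Modules) (hE : FlatMod.IsFinLocFree E)
    (hfib : ∀ s : S, ∃ r : ℕ, Nonempty ((pb (f.fiberι s)).obj E ≅ FlatMod.freeMod (f.fiber s) r))
    [IsReduced S] :
    FlatMod.IsFinLocFree ((Scheme.Modules.pushforward f).obj E) ∧
      IsIso ((Scheme.Modules.pullbackPushforwardAdjunction f).counit.app E) := by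
  obtain ⟨hQ, hfp, hfl⟩ := CohCmpLib.locFree_hyps f hE
  choose r hr using hfib
  have huniv : ∀ s : S, CubeLib.UnivO (f.fiberToSpecResidueField s) := fun s =>
    hf.of_isPullback (IsPullback.of_hasPullback f (S.fromSpecResidueField s))
  have h0 : ∀ s : S, Module.finrank (S.residueField s) Γ(f.fiber s, ⊤) = 1 := fun s => by
    have : IsIso (f.fiberToSpecResidueField s).appTop :=
      hf _ _ _ _ _ (IsPullback.of_hasPullback f (S.fromSpecResidueField s)) ⊤
    have hb : Function.Bijective (algebraMap (S.residueField s) Γ(f.fiber s, ⊤)) :=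
      ConcreteCategory.bijective_of_isIso ((Scheme.ΓSpecIso (S.residueField s)).inv ≫
        (f.fiberToSpecResidueField s).appTop)
    exact ((LinearEquiv.ofBijective (Algebra.linearMap (S.residueField s) Γ(f.fiber s, ⊤)) hb).finrank_eq).symm.trans
      (Module.finrank_self _)
  have hrank : ∀ s, CohIII.fiberRank f E 0 s = r s := fun s => by
    let k : Type u := S.residueField s
    letI : (f.fiber s).Over (Spec (CommRingCat.of k)) := ⟨f.fiberToSpecResidueField s⟩
    haveI : IsProper ((f.fiber s) ↘ Spec (CommRingCat.of k)) := MorphismProperty.pullback_snd f _ inferInstance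
    have h1 : Module.finrank k (Coh.HH (f.fiber s) (Coh.structureModule (f.fiber s)) 0) = 1 :=
      ((CurvLib.hIso (k := k) (KFlatLib.pullUnitIso (f.fiberι s)) 0).finrank_eq).symm.trans
        ((CohCmpLib.finrank_global_eq (f := f) s).trans (h0 s))
    refine ((CurvLib.hIso (k := k) (hr s).some 0).finrank_eq).trans ?_
    rw [(AVIndexLib.finrank_HH_free (k := k) (X := f.fiber s) 0 (r s)).2, h1, mul_one]
  have hne : Function.Surjective f := fun s => by
    by_contra hs
    haveI : IsEmpty (f.fiber s) := ⟨fun z => hs ⟨f.fiberι s z, by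
      have : f.fiberι s z ∈ Set.range (f.fiberι s) := ⟨z, rfl⟩
      rw [f.range_fiberι] at this; exact this⟩⟩
    haveI : Subsingleton Γ(f.fiber s, ⊤) := inferInstance
    have := Module.nontrivial_of_finrank_eq_succ (h0 s)
    exact not_nontrivial _ this
  have hlc : IsLocallyConstant (CohIII.fiberRank f E 0) := by
    rw [funext hrank]
    refine IsLocallyConstant.iff_isOpen_fiber.2 fun n => ?_
    let T : Set X := {x | r (f x) ≠ n}
    have hT : IsClosed T := by
      refine isOpen_compl_iff.1 (isOpen_iff_forall_mem_open.2 fun x hx => ?_)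
      obtain ⟨U, m, hxU, eU⟩ := hE x
      exact ⟨U, fun y hy hy' => hy' <| (rank_fibre (hr (f y)).some eU hy rfl).symm.trans
        ((rank_fibre (hr (f x)).some eU hxU rfl).trans (not_not.1 hx)), U.2, hxU⟩
    have himg : f '' T = {s | r s = n}ᶜ := by
      ext s
      refine ⟨fun ⟨x, hx, he⟩ => he ▸ hx, fun hs => ?_⟩
      obtain ⟨x, rfl⟩ := hne s
      exact ⟨x, hs, rfl⟩
    exact isClosed_compl_iff.1 (himg ▸ f.isClosedMap T hT)
  have he : ∀ s, Epi (CohBC.bc0 f (S.fromSpecResidueField s) (f.fiberToSpecResidueField s) (f.fiberι s)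
      (f.fiber_fac s) E) := fun s => CohCmpLib.epi_bc0_of_locallyConstant f hfp hfl hlc s
  haveI : HasInjectiveResolutions X.Modules := inferInstance
  obtain ⟨Δ, ⟨EE⟩⟩ := CohCmpLib.exists_sectCmp f
  have hP : FlatMod.IsFinLocFree ((Scheme.Modules.pushforward f).obj E) := fun s => by
    obtain ⟨W, K, V, hle, hV, hsV, a⟩ := CohCmpLib.compatAt_of_epi hfp hfl s (he s)
    obtain ⟨O, hO, e⟩ := K.exists_free_nhd EE hV hle 0 (K.flAt_zero hle) a hsV
    exact ⟨O, _, hO, CohCmpLib.exists_push_free e⟩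
  have hbc : ∀ s, IsIso (CohBC.bc0 f (S.fromSpecResidueField s) (f.fiberToSpecResidueField s) (f.fiberι s)
      (f.fiber_fac s) E) := fun s => by
    haveI : HasInjectiveResolutions (f.fiber s).Modules := inferInstance
    obtain ⟨Δ', ⟨E'⟩⟩ := CohCmpLib.exists_sectCmp (f.fiberToSpecResidueField s)
    let B := CohCmpLib.genBC (f.fiber_fac s) EE E'
    have : IsIso (B.bc 0 E) := CohCmpLib.isIso_bc_of_compatAt EE
      (IsPullback.of_hasPullback f (S.fromSpecResidueField s)) E' B 0
      fun z => CohCmpLib.compatAt_of_epi hfp hfl _ (he _)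
    exact CohCmpLib.isIso_bc0_of_bc B E
  refine ⟨hP, ?_⟩
  let φ := (Scheme.Modules.pullbackPushforwardAdjunction f).counit.app E
  have hA := KFlatLib.isFinLocFree_pull f hP
  have hfib : ∀ s, IsIso ((pb (f.fiberι s)).map φ) := fun s => by
    haveI := hbc s
    haveI := CubeLib.isIso_unitToPush (huniv s)
    haveI := isIso_counit_free (f.fiberToSpecResidueField s) (r s) (hr s).some
    have e := CohCmpLib.bc0_counit (f.fiber_fac s) E
    have : IsIso ((CohCmpLib.sqIso (f.fiber_fac s)).hom.app ((Scheme.Modules.pushforward f).obj E) ≫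
        (pb (f.fiberι s)).map φ) := by
      rw [← e]
      infer_instance
    exact IsIso.of_isIso_comp_left ((CohCmpLib.sqIso (f.fiber_fac s)).hom.app _) _
  have hAc := (LocSuppLib.isCoh_of_isFinLocFree hA).1
  have : Coh.IsQCoh ((Scheme.Modules.pushforward f ⋙ pb f).obj E) := hAc
  have : Coh.IsQCoh ((𝟭 X.Modules).obj E) := hQ
  have : Epi φ := by
    refine CohCmpLib.epi_of_epi_pullbacks (LocSuppLib.isCoh_of_isFinLocFree hE).2 _ fun x => ?_
    obtain ⟨z, hz⟩ : x ∈ Set.range (f.fiberι (f x)) := by rw [f.range_fiberι]; rfl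
    haveI := hfib (f x)
    exact ⟨_, f.fiberι (f x), z, hz, inferInstance⟩
  refine isIso_of_epi_free φ fun x => ?_
  obtain ⟨U₁, a, h₁, e₁⟩ := hA x
  obtain ⟨U₂, b, h₂, e₂⟩ := hE x
  haveI := hfib (f x)
  obtain rfl := rank_fibre (asIso ((pb (f.fiberι (f x))).map φ) ≪≫ (hr (f x)).some) e₁ h₁ rfl
  obtain rfl := rank_fibre (hr (f x)).some e₂ h₂ rfl
  exact ⟨U₁, U₂, _, h₁, h₂, e₁, e₂⟩

end Helpers

open AlgebraicGeometry CategoryTheory Limits in
/-- Let f : X → S be flat, proper and of finite presentation such that O_T → (f_T)_* O_{X_T} is an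
isomorphism for every base change T → S. Suppose E is an O_X-module that is finite locally free and
whose restriction to each fibre X_s is free, and let S be reduced. Then E is isomorphic to the
pullback of a finite locally free O_S-module. -/
theorem result {X S : Scheme.{u}} (f : X ⟶ S) [Flat f] [IsProper f] [LocallyOfFinitePresentation f]
    (hO : ∀ (T : Scheme.{u}) (g : T ⟶ S) (U : T.Opens), IsIso ((pullback.snd f g).app U))
    (E : X.Modules) (hE : FlatMod.IsFinLocFree E)
    (hfib : ∀ s : S, ∃ r : ℕ, Nonempty ((Scheme.Modules.pullback (f.fiberι s)).obj E ≅ FlatMod.freeMod (f.fiber s) r))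
    [IsReduced S] :
    ∃ N : S.Modules, FlatMod.IsFinLocFree N ∧ Nonempty ((Scheme.Modules.pullback f).obj N ≅ E) := by
  obtain ⟨hP, _⟩ := isPullback_of_free_fibres f (CubeLib.univO_of_app hO) E hE hfib
  exact ⟨_, hP, ⟨asIso ((Scheme.Modules.pullbackPushforwardAdjunction f).counit.app E)⟩⟩

end Groth.Agent.S7186
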