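import Groth.Statements.S7192
import Groth.Agent.WeightLib.Descent
-- import your own Groth.Agent.* helpers here

set_option autoImplicit false
universe u
open CategoryTheory AlgebraicGeometry
open FlatMor

namespace Groth.Agent.S7192

/-- Let Y = lim Y_i be a cofiltered limit of affine schemes and f₀ : X₀ → Y_{i₀} a quasi-finite morphism
of finite presentation between affine schemes, with base changes f : X → Y and f_i : X_i → Y_i. If w
is a weighting of f, then for some i → i₀ there is a weighting w_i of f_i which pulls back to w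
along X → X_i. -/
theorem result {I : Type u} [SmallCategory I] [IsCofiltered I]
    (D : I ⥤ Scheme.{u}) (c : Limits.Cone D) (hc : Limits.IsLimit c) [∀ i, IsAffine (D.obj i)]
    (i0 : I) {X0 X : Scheme.{u}} [IsAffine X0] (f0 : X0 ⟶ D.obj i0) [LocallyQuasiFinite f0] [LocallyOfFinitePresentation f0] [QuasiCompact f0]
    (f : X ⟶ c.pt) (pX : X ⟶ X0) (hX : IsPullback pX f f0 (c.π.app i0))
    (w : X → ℤ) (hw : MoreMor.IsWeighting f w) :
    ∃ (i : I) (a : i ⟶ i0) (Xi : Scheme.{u}) (fi : Xi ⟶ D.obj i) (pXi : Xi ⟶ X0) (g : X ⟶ Xi) (wi : Xi → ℤ),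
      IsPullback pXi fi f0 (D.map a) ∧ g ≫ fi = f ≫ c.π.app i ∧ g ≫ pXi = pX ∧
      MoreMor.IsWeighting fi wi ∧ ∀ x : X, wi (g x) = w x := by
  let e := hX.isoPullback
  have : LocallyQuasiFinite f := MorphismProperty.of_isPullback hX ‹_›
  have : LocallyOfFinitePresentation f := MorphismProperty.of_isPullback hX ‹_›
  have : IsIso (𝟙 c.pt) := IsIso.id _
  have he : CategoryTheory.IsPullback e.inv (Limits.pullback.snd f0 (c.π.app i0)) f (𝟙 c.pt) :=
    IsPullback.of_horiz_isIso ⟨by simp [e]⟩
  obtain ⟨j, wj, hwj, hcomp⟩ := WeightLib.exists_weighting_descent c hc i0 f0 _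
    (WeightLib.isWeighting_baseChange (w := w)
      (f := f) hw he)
  refine ⟨j.left, j.hom, Limits.pullback f0 (D.map j.hom), Limits.pullback.snd _ _,
    Limits.pullback.fst _ _, e.hom ≫ (WeightLib.baseCone D c i0 f0).π.app j, wj,
    IsPullback.of_hasPullback _ _, ?_, ?_, hwj, fun x => ?_⟩
  · refine (Category.assoc _ _ _).trans ?_
    refine (congrArg (e.hom ≫ ·) (WeightLib.isPullback_basePi f0 j).w).trans ?_
    exact (Category.assoc _ _ _).symm.trans (congrArg (· ≫ _) hX.isoPullback_hom_snd)
  · refine (Category.assoc _ _ _).trans ?_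
    refine Eq.trans ?_ hX.isoPullback_hom_fst
    exact congrArg (e.hom ≫ ·) ((Limits.pullback.lift_fst _ _ _).trans (Category.comp_id _))
  · refine (congrArg wj (Scheme.Hom.comp_apply _ _ _)).trans ((hcomp _).trans ?_)
    exact congrArg w ((Scheme.Hom.comp_apply _ _ _).symm.trans (by rw [Iso.hom_inv_id]; rfl))

end Groth.Agent.S7192
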