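import Groth.Statements.S7196
import Groth.Agent.MorRepLib.Main
import Groth.Agent.QuotLib.Exists
import Mathlib.AlgebraicGeometry.ZariskisMainTheorem

set_option backward.isDefEq.respectTransparency false
set_option backward.isDefEq.respectTransparency.types false

set_option autoImplicit false
universe u
open CategoryTheory AlgebraicGeometry
open FlatMor

namespace Groth.Agent.S7196

/-- For Z → S finite locally free and X → S separated, locally of finite type and with discrete fibres
(locally quasi-finite), the functor T ↦ {S-morphisms T ×_S Z → X} on S-schemes is represented by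
some S-scheme. -/
theorem result {Z X S : Scheme.{u}} (g : Z ⟶ S) (f : X ⟶ S) (hg : Mor2.IsFinLocFree g)
    [IsSeparated f] [LocallyQuasiFinite f] [LocallyOfFiniteType f] :
    (Flatn.morS g f).IsRepresentable := by
  obtain ⟨h₁, h₂, h₃⟩ := hg
  haveI := h₁
  haveI := h₂
  haveI := h₃
  refine MorRep.isRepresentable_morS fun s d x hx => ?_
  obtain ⟨V, hV, hsV, -⟩ := exists_isAffineOpen_mem_and_subset (x := s) (U := ⊤) trivial
  choose A hA hxA hAV using fun i => exists_isAffineOpen_mem_and_subset (x := x i) (U := f ⁻¹ᵁ V)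
    (show f (x i) ∈ V by rw [hx i]; exact hsV)
  let W : X.Opens := ⨆ i, A i
  have hWV : W ≤ f ⁻¹ᵁ V := iSup_le hAV
  haveI : CompactSpace ↥W := by
    apply isCompact_iff_compactSpace.1
    show IsCompact ((⨆ i, A i : X.Opens) : Set X)
    rw [TopologicalSpace.Opens.coe_iSup]
    exact isCompact_iUnion fun i => (hA i).isCompact
  haveI : IsAffine V.toScheme := hV
  let h : W.toScheme ⟶ V := f.resLE V W hWV
  haveI : LocallyQuasiFinite h := inferInstance
  haveI : LocallyOfFiniteType h := inferInstance
  haveI : IsSeparated h := by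
    haveI : IsSeparated (h ≫ V.ι) := by rw [Scheme.Hom.resLE_comp_ι]; infer_instance
    exact IsSeparated.of_comp h V.ι
  haveI : QuasiCompact h := HasAffineProperty.iff_of_isAffine.2 (inferInstanceAs (CompactSpace ↥W))
  haveI : IsAffine h.normalization := isAffine_of_isAffineHom h.fromNormalization
  let j := h.toNormalization
  obtain ⟨r, hr, hxr⟩ := QuotLib.exists_basicOpen_of_finite (U := (⊤ : h.normalization.Opens)) (isAffineOpen_top _)
    (W := j.opensRange) le_top (Set.range fun i => j ⟨x i, TopologicalSpace.Opens.mem_iSup.2 ⟨i, hxA i⟩⟩)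
    (Set.finite_range _) (by rintro _ ⟨i, rfl⟩; exact ⟨_, rfl⟩)
  have hB : IsAffineOpen (j ⁻¹ᵁ h.normalization.basicOpen r) := by
    rw [← Scheme.Hom.isAffineOpen_iff_of_isOpenImmersion j, Scheme.Hom.image_preimage_eq_opensRange_inf,
      inf_eq_right.2 hr]
    exact (isAffineOpen_top _).basicOpen r
  refine ⟨W.ι ''ᵁ (j ⁻¹ᵁ h.normalization.basicOpen r), hB.image_of_isOpenImmersion W.ι, fun i => ?_⟩
  exact ⟨⟨x i, TopologicalSpace.Opens.mem_iSup.2 ⟨i, hxA i⟩⟩, hxr ⟨i, rfl⟩, rfl⟩

end Groth.Agent.S7196
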