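import Groth.Statements.S7198
import Groth.Agent.FppfTowerLib.Basic

set_option autoImplicit false
universe w u
open FlatMor

namespace Groth.Agent.S7198

open AlgebraicGeometry CategoryTheory Limits in
/-- Any fppf covering {S_i → S} is refined by a family built in four steps — cover S by Zariski opens
U_j; over each U_j take a surjective finite locally free W_j → U_j; cover each W_j by Zariski opens
W_{j,k}; over each of those take a surjective finite locally free T_{j,k} → W_{j,k} — where every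
composite T_{j,k} → S factors through some S_i. Stated pointwise: around every point of S, and then
around every point of the finite locally free cover, such data exist. -/
theorem result {S : Scheme.{u}} (E : PreZeroHypercover.{w} S)
    (hflat : ∀ i, Flat (E.f i)) (hfp : ∀ i, LocallyOfFinitePresentation (E.f i))
    (hsurj : ∀ s : S, ∃ (i : E.I₀) (x : E.X i), E.f i x = s) (s : S) :
    ∃ (U : S.Opens) (W : Scheme.{u}) (π : W ⟶ U.toScheme), s ∈ U ∧ Mor2.IsFinLocFree π ∧ Surjective π ∧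
      ∀ w : W, ∃ (W' : W.Opens) (T : Scheme.{u}) (ρ : T ⟶ W'.toScheme) (i : E.I₀) (r : T ⟶ E.X i),
        w ∈ W' ∧ Mor2.IsFinLocFree ρ ∧ Surjective ρ ∧ r ≫ E.f i = ρ ≫ W'.ι ≫ π ≫ U.ι := by
  obtain ⟨i, x, hx⟩ := hsurj s
  haveI := hflat i
  haveI := hfp i
  let U₀ : S.Opens := ⟨Set.range (E.f i), (E.f i).isOpenMap.isOpen_range⟩
  haveI : Surjective (E.f i ∣_ U₀) := ⟨fun ⟨y, z, hz⟩ => ⟨⟨z, ⟨z, rfl⟩⟩, Subtype.ext (by
    rw [morphismRestrict_base_coe]; exact hz)⟩⟩
  obtain ⟨U, W, π, hsU, hπ, hπs, hW⟩ := FppfTowerLib.exists_tower (E.f i ∣_ U₀) ⟨s, x, hx⟩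
  haveI := hπ.1
  haveI := hπ.2.1
  haveI := hπ.2.2
  haveI := hπs
  refine ⟨U₀.ι ''ᵁ U, W, π ≫ (U₀.ι.isoImage U).hom, ⟨⟨s, x, hx⟩, hsU, rfl⟩,
    ⟨inferInstance, inferInstance, inferInstance⟩, inferInstance, fun w => ?_⟩
  obtain ⟨W', T, ρ, r, hwW', hρ, hρs, hr⟩ := hW w
  refine ⟨W', T, ρ, i, r ≫ (E.f i ⁻¹ᵁ U₀).ι, hwW', hρ, hρs, ?_⟩
  simp only [Category.assoc]
  rw [Scheme.Hom.isoImage_hom_ι, ← morphismRestrict_ι, ← Category.assoc, hr]
  simp only [Category.assoc]

end Groth.Agent.S7198
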