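import Groth.Statements.S7200
import Mathlib
import Mathlib
import Groth.Agent.FieldBertiniLib.Basic
import Groth.Agent.GeomIrrLib.Basic
-- import your own Groth.Agent.* helpers here

set_option autoImplicit false
universe u
open FlatMor

namespace Groth.Agent.S7200

set_option maxHeartbeats 400000
theorem equiv_smul {k K A : Type u} [CommSemiring k] [CommSemiring K] [Semiring A] [Algebra k K] [Algebra K A]
    [Algebra k A] [IsScalarTower k K A] (f : A ≃ₐ[K] A) (r : k) (y : A) : f (r • y) = r • f y :=
  LinearMap.map_smul_of_tower f.toLinearMap r y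

open Polynomial in
theorem sc_base {k K Ω : Type u} [Field k] [Field K] [Field Ω] [Algebra k K] [Algebra K Ω] [Algebra k Ω]
    [IsScalarTower k K Ω] (hk : ∀ a : K, IsSeparable k a → a ∈ Set.range (algebraMap k K)) :
    FieldBertiniLib.SC (algebraMap k Ω).fieldRange (algebraMap K Ω).fieldRange := by
  rintro _ ⟨b, rfl⟩ ⟨p, hp, hpa⟩
  let e : k ≃+* (algebraMap k Ω).fieldRange := RingEquiv.ofBijective (algebraMap k Ω).rangeRestrictField
    ⟨(algebraMap k Ω).rangeRestrictField.injective, fun ⟨y, z, hz⟩ => ⟨z, Subtype.ext hz⟩⟩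
  have hmap : (p.map e.symm.toRingHom).map (algebraMap k Ω) = p.map (algebraMap k Ω).fieldRange.subtype := by
    rw [Polynomial.map_map]
    refine congrArg (fun g => Polynomial.map g p) (RingHom.ext fun y => ?_)
    exact congrArg Subtype.val (e.apply_symm_apply y)
  have h1 : Polynomial.aeval b (p.map e.symm.toRingHom) = 0 := by
    apply (algebraMap K Ω).injective
    rw [← Polynomial.aeval_algebraMap_apply, Polynomial.aeval_def, ← Polynomial.eval_map, hmap,
      Polynomial.eval_map, map_zero]
    exact hpa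
  obtain ⟨d, hd⟩ := hk b (hp.map.of_dvd (minpoly.dvd k b h1))
  exact ⟨d, by rw [← hd, ← IsScalarTower.algebraMap_apply]⟩

theorem transcendental_form {k K Ω : Type u} [Field k] [Field K] [Field Ω] [Algebra k K] [Algebra K Ω]
    [Algebra k Ω] [IsScalarTower k K Ω] {n : ℕ} (x : Fin n → Ω) (hx : AlgebraicIndependent K x)
    (a : Fin n → k) (ha : a ≠ 0) : Transcendental K (∑ i, a i • x i) := by
  classical
  set ℓ : Ω := ∑ i, a i • x i with hℓ
  obtain ⟨i₀, hi₀⟩ := Function.ne_iff.mp ha
  intro halg
  obtain ⟨p, hp0, hp⟩ := halg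
  let L : MvPolynomial (Fin n) K := ∑ i, MvPolynomial.C (algebraMap k K (a i)) * MvPolynomial.X i
  have hL : MvPolynomial.aeval x L = ℓ := by
    simp [L, hℓ, Algebra.smul_def, ← IsScalarTower.algebraMap_apply]
  have h1 : Polynomial.aeval L p = 0 := hx (by
    rw [map_zero, ← Polynomial.aeval_algHom_apply, hL, hp])
  have h2 := congrArg (MvPolynomial.aeval (fun i => if i = i₀ then
    Polynomial.C (algebraMap k K (a i₀))⁻¹ * Polynomial.X else 0)) h1
  rw [map_zero, ← Polynomial.aeval_algHom_apply] at h2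
  have h3 : MvPolynomial.aeval (fun i => if i = i₀ then
      Polynomial.C (algebraMap k K (a i₀))⁻¹ * Polynomial.X else 0) L = (Polynomial.X : Polynomial K) := by
    simp only [L, map_sum, map_mul, MvPolynomial.aeval_C, MvPolynomial.aeval_X, mul_ite, mul_zero,
      Finset.sum_ite_eq', Finset.mem_univ, if_true, Polynomial.algebraMap_eq]
    rw [← mul_assoc, ← map_mul, mul_inv_cancel₀ (by simpa using hi₀), map_one, one_mul]
  rw [h3, Polynomial.aeval_X_left_apply] at h2
  exact hp0 h2

open Polynomial in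
/-- The lemma over an arbitrary index. -/
theorem core {k K Ω : Type u} [Field k] [Field K] [Field Ω] [Algebra k K] [Algebra K Ω] [Algebra k Ω]
    [IsScalarTower k K Ω]
    (hfg : (⊤ : IntermediateField k Ω).FG) (hk : ∀ a : K, IsSeparable k a → a ∈ Set.range (algebraMap k K))
    {n : ℕ} (x : Fin n → Ω) (hx : AlgebraicIndependent K x) (hgen : IntermediateField.adjoin K (Set.range x) = ⊤)
    (ξ η : Ω) (hη : Transcendental (IntermediateField.adjoin k (Set.range x ∪ {ξ})) η)
    (c : Fin n → k) (a : Fin n → k) (hac : ∑ i, a i * c i = 0) (ha : a ≠ 0)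
    (σ : Ω → Ω ≃ₐ[K] Ω)
    (hσx : ∀ s ∈ Algebra.adjoin k ({∑ i, a i • x i} : Set Ω), ∀ i, σ s (x i) = x i + c i • s)
    (hσξ : ∀ s ∈ Algebra.adjoin k ({∑ i, a i • x i} : Set Ω), σ s ξ = ξ + s * η)
    (hσK : ∀ s, σ s η = η) :
    ∀ α : Ω, IsSeparable (IntermediateField.adjoin k (Set.range x ∪ {ξ})) α →
      α ∈ IntermediateField.adjoin k (Set.range x ∪ {ξ}) := by
  classical
  let F := IntermediateField.adjoin k (Set.range x)
  -- the base change step
  have h0 : FieldBertiniLib.SC (algebraMap k Ω).fieldRange (algebraMap K Ω).fieldRange := sc_base hk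
  have hle : (algebraMap k Ω).fieldRange ≤ (algebraMap K Ω).fieldRange := by
    rintro _ ⟨d, rfl⟩
    exact ⟨algebraMap k K d, (IsScalarTower.algebraMap_apply k K Ω d).symm⟩
  have htr : ∀ i : Fin n, FieldBertiniLib.Tr
      (Subfield.closure (((algebraMap K Ω).fieldRange : Set Ω) ∪ x '' {j | j < i})) (x i) := by
    intro i
    have h1 : Transcendental (Algebra.adjoin K (x '' {j | j < i})) (x i) :=
      hx.transcendental_adjoin (by simp)
    have h2 : Transcendental (IntermediateField.adjoin K (x '' {j | j < i})) (x i) :=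
      (IntermediateField.transcendental_adjoin_iff).mpr h1
    exact fun p hp => transcendental_iff.mp h2 p hp
  have hF : FieldBertiniLib.SC F.toSubfield ⊤ := by
    have h := h0.adjoinFamily hle x htr
    have hE : Subfield.closure (((algebraMap K Ω).fieldRange : Set Ω) ∪ Set.range x) = ⊤ := by
      show (IntermediateField.adjoin K (Set.range x)).toSubfield = ⊤
      rw [hgen]; rfl
    rw [hE] at h
    exact h
  -- translations
  set ℓ : Ω := ∑ i, a i • x i with hℓ
  have hℓF : ∀ s ∈ Algebra.adjoin k ({ℓ} : Set Ω), s ∈ F := fun s hs => by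
    have : Algebra.adjoin k ({ℓ} : Set Ω) ≤ F.toSubalgebra := Algebra.adjoin_le (Set.singleton_subset_iff.mpr
      (sum_mem fun i _ => F.toSubalgebra.smul_mem (IntermediateField.subset_adjoin k _ ⟨i, rfl⟩) _))
    exact this hs
  have hpow : ∀ j : ℕ, ℓ ^ j ∈ Algebra.adjoin k ({ℓ} : Set Ω) := fun j =>
    pow_mem (Algebra.subset_adjoin (Set.mem_singleton ℓ)) j
  have hfixℓ : ∀ j : ℕ, σ (ℓ ^ j) ℓ = ℓ := fun j => by
    have : ∑ i, (a i * c i) • ℓ ^ j = (0 : Ω) := by rw [← Finset.sum_smul, hac, zero_smul]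
    rw [hℓ, map_sum]
    simp only [equiv_smul, hσx _ (hℓ ▸ hpow j), smul_add, smul_smul,
      Finset.sum_add_distrib]
    rw [← hℓ, this, add_zero]
  have hℓinj : Function.Injective (fun j : ℕ => ℓ ^ j) := by
    have hℓt : Transcendental K ℓ := transcendental_form x hx a ha
    intro i j hij
    by_contra hne
    exact hℓt ⟨Polynomial.X ^ i - Polynomial.X ^ j, sub_ne_zero.mpr fun e => hne (by
      simpa using congrArg Polynomial.natDegree e), by simpa [sub_eq_zero] using hij⟩
  have hmem : ∀ (τ : Ω ≃ₐ[k] Ω), (∀ i, τ (x i) ∈ F) → ∀ y ∈ F, τ y ∈ F := fun τ h y hy => by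
    have : F ≤ F.comap (τ : Ω →ₐ[k] Ω) := IntermediateField.adjoin_le_iff.mpr (by
      rintro _ ⟨i, rfl⟩; exact h i)
    exact this hy
  have hsfix : ∀ j : ℕ, σ (ℓ ^ j) (ℓ ^ j) = ℓ ^ j := fun j => by rw [map_pow, hfixℓ]
  have hinv : ∀ (j : ℕ) (i : Fin n), (σ (ℓ ^ j)).symm (x i) = x i - c i • ℓ ^ j := fun j i => by
    rw [AlgEquiv.symm_apply_eq, map_sub, hσx _ (hpow j), equiv_smul, hsfix, add_sub_cancel_right]
  have h := FieldBertiniLib.sc_adjoin_of_translates hfg F hF ξ η
    (by
      rw [show IntermediateField.adjoin k ((F : Set Ω) ∪ {ξ}) =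
        IntermediateField.adjoin k (Set.range x ∪ {ξ}) from by
          rw [IntermediateField.adjoin_union, IntermediateField.adjoin_union, IntermediateField.adjoin_self]]
      exact hη)
    (fun j => ℓ ^ j) (fun j => hℓF _ (hpow j)) hℓinj (fun j => (σ (ℓ ^ j)).restrictScalars k)
    (fun j => hmem _ fun i => by
      show σ (ℓ ^ j) (x i) ∈ F
      rw [hσx _ (hpow j)]
      exact add_mem (IntermediateField.subset_adjoin k _ ⟨i, rfl⟩)
        (IntermediateField.smul_mem F (hℓF _ (hpow j))))
    (fun j => hmem _ fun i => by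
      show (σ (ℓ ^ j)).symm (x i) ∈ F
      rw [hinv]
      exact sub_mem (IntermediateField.subset_adjoin k _ ⟨i, rfl⟩)
        (IntermediateField.smul_mem F (hℓF _ (hpow j))))
    (fun j => hσξ _ (hpow j)) (fun j => hσK _) hsfix
  intro α hα
  have e : IntermediateField.adjoin k (Set.range x ∪ {ξ}) =
      IntermediateField.adjoin k ((F : Set Ω) ∪ {ξ}) := by
    rw [IntermediateField.adjoin_union, IntermediateField.adjoin_union, IntermediateField.adjoin_self]
  have h1 : FieldBertiniLib.Sep (IntermediateField.adjoin k (Set.range x ∪ {ξ})).toSubfield α :=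
    FieldBertiniLib.sep_iff.mpr hα
  rw [e] at h1 ⊢
  exact h α trivial h1

/-- A nonzero linear form killing a given vector. -/
theorem exists_form {k : Type u} [Field k] (m : ℕ) (c : Fin (m + 2) → k) :
    ∃ a : Fin (m + 2) → k, a ≠ 0 ∧ ∑ i, a i * c i = 0 := by
  by_cases h : c 0 = 0
  · exact ⟨Pi.single 0 1, by simp, by simp [Pi.single_apply, h]⟩
  · refine ⟨Pi.single 1 (c 0) - Pi.single 0 (c 1), fun e => h ?_, ?_⟩
    · simpa using congrFun e 1
    · simp [sub_mul, Finset.sum_sub_distrib, Pi.single_apply]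
      ring

/-- Translation of the variables. -/
theorem exists_shift {k K : Type u} [Field k] [Field K] [Algebra k K] {n : ℕ} (c : Fin n → k)
    (a : Fin n → k) (hac : ∑ i, a i * c i = 0)
    (P : MvPolynomial (Fin n) K) (hP : P ∈ Algebra.adjoin k
      ({∑ i, a i • MvPolynomial.X i} : Set (MvPolynomial (Fin n) K))) :
    ∃ τ : MvPolynomial (Fin n) K ≃ₐ[K] MvPolynomial (Fin n) K,
      ∀ i, τ (MvPolynomial.X i) = MvPolynomial.X i + c i • P := by
  let f : k → MvPolynomial (Fin n) K →ₐ[K] MvPolynomial (Fin n) K := fun e =>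
    MvPolynomial.aeval fun i => MvPolynomial.X i + (e * c i) • P
  have hfX : ∀ e i, f e (MvPolynomial.X i) = MvPolynomial.X i + (e * c i) • P :=
    fun e i => MvPolynomial.aeval_X _ i
  have hfix : ∀ e, f e P = P := by
    intro e
    have : Algebra.adjoin k ({∑ i, a i • MvPolynomial.X i} : Set (MvPolynomial (Fin n) K)) ≤
        AlgHom.equalizer ((f e).restrictScalars k) (AlgHom.id k _) := by
      refine Algebra.adjoin_le (Set.singleton_subset_iff.mpr ?_)
      show f e _ = _
      rw [map_sum]
      simp only [AlgHom.map_smul_of_tower, hfX, smul_add, smul_smul,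
        Finset.sum_add_distrib, ← Finset.sum_smul]
      rw [show ∑ i, a i * (e * c i) = 0 from by
        simp only [mul_left_comm, ← Finset.mul_sum, hac, mul_zero], zero_smul, add_zero]
      rfl
    exact this hP
  have hcomp : ∀ e e', e + e' = 0 → (f e).comp (f e') = AlgHom.id K _ := fun e e' he =>
    MvPolynomial.algHom_ext fun i => by
      rw [AlgHom.comp_apply, hfX, map_add, hfX, AlgHom.map_smul_of_tower, hfix, add_assoc, ← add_smul,
        ← add_mul, he, zero_mul, zero_smul, add_zero]
      rfl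
  refine ⟨AlgEquiv.ofAlgHom (f 1) (f (-1)) (hcomp _ _ (by simp)) (hcomp _ _ (by simp)), fun i => ?_⟩
  show f 1 _ = _
  rw [hfX, one_mul]


open AlgebraicGeometry in
/-- Suppose K/k is a finitely generated field extension with K geometrically irreducible over k; let n ≥
1 and g_1, …, g_n ∈ K, and suppose some c ∈ kⁿ makes the n + 2 elements x_1, …, x_n, ξ = Σ g_i x_i,
Σ c_i g_i of Ω = K(x_1, …, x_n) algebraically independent over k. Then Ω remains geometrically
irreducible over its subfield generated over k by x_1, …, x_n and ξ. -/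
theorem result {k K : Type u} [Field k] [Field K] [Algebra k K]
    (hfg : (⊤ : IntermediateField k K).FG)
    [GeometricallyIrreducible (Spec.map (CommRingCat.ofHom (algebraMap k K)))]
    (m : ℕ) (g : Fin (m + 1) → K) (c : Fin (m + 1) → k)
    (hind : AlgebraicIndependent k
      (Sum.elim
        (fun i : Fin (m + 1) => algebraMap (MvPolynomial (Fin (m + 1)) K) (FractionRing (MvPolynomial (Fin (m + 1)) K)) (MvPolynomial.X i))
        ![∑ i, algebraMap K (FractionRing (MvPolynomial (Fin (m + 1)) K)) (g i) * algebraMap (MvPolynomial (Fin (m + 1)) K) (FractionRing (MvPolynomial (Fin (m + 1)) K)) (MvPolynomial.X i),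
          algebraMap K (FractionRing (MvPolynomial (Fin (m + 1)) K)) (∑ i, c i • g i)])) :
    GeometricallyIrreducible (Spec.map (CommRingCat.ofHom (algebraMap
      ↥(IntermediateField.adjoin k
        (Set.range (fun i : Fin (m + 1) => algebraMap (MvPolynomial (Fin (m + 1)) K) (FractionRing (MvPolynomial (Fin (m + 1)) K)) (MvPolynomial.X i)) ∪
          {∑ i, algebraMap K (FractionRing (MvPolynomial (Fin (m + 1)) K)) (g i) * algebraMap (MvPolynomial (Fin (m + 1)) K) (FractionRing (MvPolynomial (Fin (m + 1)) K)) (MvPolynomial.X i)}))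
      (FractionRing (MvPolynomial (Fin (m + 1)) K))))) := by
  classical
  rw [GeomIrrLib.gi_iff_tensor]
  refine (Groth.Agent.S2150.result).2 ?_
  have hk : ∀ a : K, IsSeparable k a → a ∈ Set.range (algebraMap k K) :=
    (Groth.Agent.S2150.result).1 (GeomIrrLib.gi_iff_tensor.mp inferInstance)
  -- two variables at least
  obtain _ | m := m
  · exfalso
    refine absurd (hind (a₁ := MvPolynomial.C (c 0) * MvPolynomial.X (Sum.inr 0) -
      MvPolynomial.X (Sum.inl 0) * MvPolynomial.X (Sum.inr 1)) (a₂ := 0) ?_) ?_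
    · simp [Algebra.smul_def, ← IsScalarTower.algebraMap_apply]
      ring
    · intro h
      have := congrArg (MvPolynomial.coeff (Finsupp.single (Sum.inl (0 : Fin 1)) 1 +
        Finsupp.single (Sum.inr (1 : Fin 2)) 1)) h
      simp [MvPolynomial.coeff_X', MvPolynomial.X, MvPolynomial.monomial_mul, MvPolynomial.C_mul_monomial,
        MvPolynomial.coeff_monomial, Finsupp.ext_iff] at this
  set P := MvPolynomial (Fin (m + 1 + 1)) K
  set Ω := FractionRing P
  set x : Fin (m + 1 + 1) → Ω := fun i => algebraMap P Ω (MvPolynomial.X i) with hxdef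
  set ξ : Ω := ∑ i, algebraMap K Ω (g i) * x i with hξ
  intro α hα
  obtain ⟨a, ha, hac⟩ := exists_form m c
  have hx : AlgebraicIndependent K x :=
    (MvPolynomial.algebraicIndependent_X (Fin (m + 1 + 1)) K).map' (f := IsScalarTower.toAlgHom K P Ω)
      (IsFractionRing.injective P Ω)
  have hgen : IntermediateField.adjoin K (Set.range x) = ⊤ := by
    refine top_le_iff.mp fun y _ => ?_
    obtain ⟨p, q, -, rfl⟩ := IsFractionRing.div_surjective (A := P) y
    have key : ∀ p : P, algebraMap P Ω p ∈ IntermediateField.adjoin K (Set.range x) := fun p => by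
      induction p using MvPolynomial.induction_on with
      | C r =>
        rw [← MvPolynomial.algebraMap_eq, ← IsScalarTower.algebraMap_apply]
        exact IntermediateField.algebraMap_mem _ r
      | add p q hp hq => rw [map_add]; exact add_mem hp hq
      | mul_X p i hp => rw [map_mul]; exact mul_mem hp (IntermediateField.subset_adjoin K _ ⟨i, rfl⟩)
    exact div_mem (key p) (key q)
  have hfgΩ : (⊤ : IntermediateField k Ω).FG := by
    haveI : Algebra.EssFiniteType k K := IntermediateField.fg_top_iff.mp hfg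
    haveI : Algebra.EssFiniteType K Ω :=
      IntermediateField.fg_top_iff.mp (hgen ▸ IntermediateField.fg_adjoin_of_finite (Set.finite_range x))
    haveI : Algebra.EssFiniteType k Ω := Algebra.EssFiniteType.comp k K Ω
    exact IntermediateField.fg_top_iff.mpr inferInstance
  set η : Ω := algebraMap K Ω (∑ i, c i • g i) with hηdef
  have hη : Transcendental (IntermediateField.adjoin k (Set.range x ∪ {ξ})) η := by
    rw [IntermediateField.transcendental_adjoin_iff]
    have h := hind.transcendental_adjoin (s := Set.range Sum.inl ∪ {Sum.inr 0}) (i := Sum.inr 1) (by simp)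
    rw [Set.image_union, Set.image_singleton, ← Set.range_comp] at h
    exact h
  choose τ hτ using fun (p : P) (hp : p ∈ Algebra.adjoin k ({∑ i, a i • MvPolynomial.X i} : Set P)) =>
    exists_shift c a hac p hp
  have hspec : ∀ s ∈ Algebra.adjoin k ({∑ i, a i • x i} : Set Ω), ∃ σ : Ω ≃ₐ[K] Ω,
      ∀ i, σ (x i) = x i + c i • s := by
    intro s hs
    have himg : Algebra.adjoin k ({∑ i, a i • x i} : Set Ω) =
        (Algebra.adjoin k ({∑ i, a i • MvPolynomial.X i} : Set P)).map (IsScalarTower.toAlgHom k P Ω) := by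
      rw [AlgHom.map_adjoin, Set.image_singleton, map_sum]
      simp only [map_smul]
      rfl
    rw [himg] at hs
    obtain ⟨p, hp, rfl⟩ := hs
    refine ⟨IsFractionRing.algEquivOfAlgEquiv (τ p hp), fun i => ?_⟩
    show IsFractionRing.algEquivOfAlgEquiv (τ p hp) (algebraMap P Ω (MvPolynomial.X i)) = _
    rw [IsFractionRing.algEquivOfAlgEquiv_algebraMap, hτ, map_add]
    exact congrArg (_ + ·) (map_smul (IsScalarTower.toAlgHom k P Ω) (c i) p)
  let σ : Ω → Ω ≃ₐ[K] Ω := fun s =>
    if hs : s ∈ Algebra.adjoin k ({∑ i, a i • x i} : Set Ω) then (hspec s hs).choose else AlgEquiv.refl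
  have hσx : ∀ s ∈ Algebra.adjoin k ({∑ i, a i • x i} : Set Ω), ∀ i, σ s (x i) = x i + c i • s := by
    intro s hs
    simp only [σ, dif_pos hs]
    exact (hspec s hs).choose_spec
  have hσξ : ∀ s ∈ Algebra.adjoin k ({∑ i, a i • x i} : Set Ω), σ s ξ = ξ + s * η := by
    intro s hs
    rw [hξ, map_sum]
    simp only [map_mul, AlgEquiv.commutes, hσx s hs, mul_add, Finset.sum_add_distrib]
    rw [hηdef, map_sum, Finset.mul_sum]
    refine congrArg _ (Finset.sum_congr rfl fun i _ => ?_)
    rw [Algebra.smul_def, Algebra.smul_def, map_mul, ← IsScalarTower.algebraMap_apply]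
    ring
  exact ⟨⟨α, core hfgΩ hk x hx hgen ξ η hη c a hac ha σ hσx hσξ (fun s => (σ s).commutes _) α hα⟩, rfl⟩

end Groth.Agent.S7200
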