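import Groth.Statements.S7203
import Groth.Agent.ApproxLib.CommonNbhd
import Groth.Agent.ApproxLib.Pair

set_option autoImplicit false
universe u
open FlatMor

namespace Groth.Agent.S7203

open AlgebraicGeometry CategoryTheory Limits in
/-- Let S be locally Noetherian, p : X → S and q : Y → S locally of finite type, x in X and y in Y over
the same point s with O_{S,s} a G-ring, and φ : O_{Y,y}^∧ ≅ O_{X,x}^∧ an isomorphism of
O_{S,s}-algebras between the completed local rings. For every N ≥ 1 there are a scheme U, a point u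
and morphisms e : U → X, f : U → Y over S which are both elementary étale neighbourhoods (of (X, x)
and of (Y, y)) such that O_{Y,y}^∧ → O_{U,u}^∧ and O_{Y,y}^∧ → O_{X,x}^∧ → O_{U,u}^∧ (φ followed by
the map induced by e) agree modulo m_u^N; the last condition is written on O_{U,u}/m_u^N through
lifts modulo the N-th powers of the maximal ideals. -/
theorem result {X Y S : Scheme.{u}} [IsLocallyNoetherian S]
    (p : X ⟶ S) (q : Y ⟶ S) [LocallyOfFiniteType p] [LocallyOfFiniteType q] (x : X) (y : Y) (hxy : p x = q y)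
    (hG : CAlg.IsGRing ↑(S.presheaf.stalk (p x)))
    (φ : (AdicCompletion (IsLocalRing.maximalIdeal ↑(Y.presheaf.stalk y)) ↑(Y.presheaf.stalk y)) ≃+* (AdicCompletion (IsLocalRing.maximalIdeal ↑(X.presheaf.stalk x)) ↑(X.presheaf.stalk x)))
    (hφ : φ.toRingHom.comp ((algebraMap ↑(Y.presheaf.stalk y) (AdicCompletion (IsLocalRing.maximalIdeal ↑(Y.presheaf.stalk y)) ↑(Y.presheaf.stalk y))).comp
        ((q.stalkMap y).hom.comp (S.presheaf.stalkCongr (Inseparable.of_eq hxy)).hom.hom)) =
      (algebraMap ↑(X.presheaf.stalk x) (AdicCompletion (IsLocalRing.maximalIdeal ↑(X.presheaf.stalk x)) ↑(X.presheaf.stalk x))).comp (p.stalkMap x).hom)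
    (N : ℕ) (hN : 1 ≤ N) :
    ∃ (U : Scheme.{u}) (u : U) (e : U ⟶ X) (heu : e u = x) (f : U ⟶ Y) (hfu : f u = y),
      Etale e ∧ Function.Bijective (e.residueFieldMap u) ∧ Etale f ∧ Function.Bijective (f.residueFieldMap u) ∧
      f ≫ q = e ≫ p ∧
      ∀ (b : (AdicCompletion (IsLocalRing.maximalIdeal ↑(Y.presheaf.stalk y)) ↑(Y.presheaf.stalk y))) (cY : ↑(Y.presheaf.stalk y)) (cX : ↑(X.presheaf.stalk x)),
        AdicCompletion.evalₐ (IsLocalRing.maximalIdeal ↑(Y.presheaf.stalk y)) N b =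
          Ideal.Quotient.mk (IsLocalRing.maximalIdeal ↑(Y.presheaf.stalk y) ^ N) cY →
        AdicCompletion.evalₐ (IsLocalRing.maximalIdeal ↑(X.presheaf.stalk x)) N (φ b) =
          Ideal.Quotient.mk (IsLocalRing.maximalIdeal ↑(X.presheaf.stalk x) ^ N) cX →
        Ideal.Quotient.mk (IsLocalRing.maximalIdeal ↑(U.presheaf.stalk u) ^ N)
            ((f.stalkMap u).hom ((Y.presheaf.stalkCongr (Inseparable.of_eq hfu)).inv.hom cY)) =
          Ideal.Quotient.mk (IsLocalRing.maximalIdeal ↑(U.presheaf.stalk u) ^ N)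
            ((e.stalkMap u).hom ((X.presheaf.stalkCongr (Inseparable.of_eq heu)).inv.hom cX)) := by
  let M := max N 2
  let LX := X.presheaf.stalk x
  let AY := Y.presheaf.stalk y
  haveI : IsLocallyNoetherian X := LocallyOfFiniteType.isLocallyNoetherian p
  haveI : IsLocallyNoetherian Y := LocallyOfFiniteType.isLocallyNoetherian q
  have hφm : ∀ (k : ℕ) (z : AdicCompletion (IsLocalRing.maximalIdeal AY) AY),
      z ∈ (IsLocalRing.maximalIdeal AY ^ k).map (algebraMap AY (AdicCompletion (IsLocalRing.maximalIdeal AY) AY)) →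
      φ z ∈ (IsLocalRing.maximalIdeal LX ^ k).map (algebraMap LX (AdicCompletion (IsLocalRing.maximalIdeal LX) LX)) := by
    intro k z hz
    rw [Ideal.map_pow, ← AdicCompletion.maximalIdeal_eq_map] at hz
    rw [Ideal.map_pow, ← AdicCompletion.maximalIdeal_eq_map,
      ← IsLocalRing.map_maximalIdeal_of_surjective φ.toRingHom φ.surjective, ← Ideal.map_pow]
    exact Ideal.mem_map_of_mem φ.toRingHom hz
  obtain ⟨U, e, u, heu, f, hfu, het, hbij, hcomm, happ⟩ := ApproxLib.exists_etale_nbhd_approx p q x y hxy hG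
    (φ.toRingHom.comp (algebraMap AY (AdicCompletion (IsLocalRing.maximalIdeal AY) AY)))
    (by rw [RingHom.comp_assoc]; exact hφ)
    (fun b hb => by
      have h := hφm 1 _ (Ideal.mem_map_of_mem _ (by rwa [pow_one]))
      rw [pow_one] at h
      exact h) M (show 1 ≤ M by omega)
  haveI := het
  haveI : IsLocallyNoetherian U := LocallyOfFiniteType.isLocallyNoetherian e
  haveI : LocallyOfFiniteType (f ≫ q) := by rw [hcomm]; infer_instance
  haveI : LocallyOfFiniteType f := locallyOfFiniteType_of_comp f q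
  subst heu
  subst hfu
  have happ' : ∀ b c, AdicCompletion.evalₐ (IsLocalRing.maximalIdeal LX) M (φ (algebraMap AY _ b)) =
      Ideal.Quotient.mk (IsLocalRing.maximalIdeal LX ^ M) c →
      (f.stalkMap u).hom b - (e.stalkMap u).hom c ∈ IsLocalRing.maximalIdeal (U.presheaf.stalk u) ^ M := by
    intro b c h
    have h1 := Ideal.Quotient.eq.1 (happ b c h)
    simpa [TopCat.Presheaf.stalkCongr_inv, TopCat.Presheaf.stalkSpecializes_refl] using h1
  obtain ⟨-, -, hem, -⟩ := EtStalkLib.stalk_props e u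
  have heres : ∀ z : U.presheaf.stalk u, ∃ c, z - (e.stalkMap u).hom c ∈ IsLocalRing.maximalIdeal (U.presheaf.stalk u) := by
    intro z
    obtain ⟨k, hk⟩ := hbij.2 (U.residue u z)
    obtain ⟨c, rfl⟩ := Ideal.Quotient.mk_surjective k
    exact ⟨c, Ideal.Quotient.eq.1 hk.symm⟩
  obtain ⟨hflat, hm, hres⟩ := ApproxLib.flat_and_unramified_of_approx (f.stalkMap u).hom (e.stalkMap u).hom
    (Flat.stalkMap e u) hem heres φ (show 2 ≤ M by omega) happ'
  obtain ⟨U', j, hj, u', hu', hetf⟩ := ApproxLib.exists_open_etale f u hflat hm hres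
  subst hu'
  refine ⟨U', u', j ≫ e, rfl, j ≫ f, rfl, inferInstance, ?_, hetf, ?_, by rw [Category.assoc, Category.assoc, hcomm],
    fun b cY cX hY hX => ?_⟩
  · rw [Scheme.residueFieldMap_comp]
    exact (ConcreteCategory.bijective_of_isIso (j.residueFieldMap u')).comp hbij
  · rw [Scheme.residueFieldMap_comp]
    refine (ConcreteCategory.bijective_of_isIso (j.residueFieldMap u')).comp ⟨RingHom.injective _, fun k => ?_⟩
    obtain ⟨z, rfl⟩ := Ideal.Quotient.mk_surjective k
    obtain ⟨b, hb⟩ := hres z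
    exact ⟨Y.residue _ b, (Ideal.Quotient.eq.2 hb).symm⟩
  have h0 := ApproxLib.evalₐ_eq_zero _ _ _ (hφm N _ (ApproxLib.sub_mem_of_evalₐ_eq _ N b cY hY.symm))
  rw [map_sub, map_sub, sub_eq_zero] at h0
  obtain ⟨c', hc'⟩ := Ideal.Quotient.mk_surjective
    (AdicCompletion.evalₐ (IsLocalRing.maximalIdeal LX) M (φ (algebraMap AY _ cY)))
  have h1 := Ideal.pow_le_pow_right (show N ≤ M from le_max_left _ _) (happ' cY c' hc'.symm)
  have h2 : c' - cX ∈ IsLocalRing.maximalIdeal LX ^ N := by
    obtain ⟨w, hw⟩ := AdicRingLib.exists_sub_mem_map_pow (IsNoetherian.noetherian (IsLocalRing.maximalIdeal LX)) M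
      (φ (algebraMap AY _ cY))
    have hM := ApproxLib.evalₐ_eq_zero _ _ _ hw
    have hN' := ApproxLib.evalₐ_eq_zero _ _ _ (Ideal.map_mono (Ideal.pow_le_pow_right (show N ≤ M from le_max_left _ _)) hw)
    rw [map_sub, AlgHom.commutes, ← hc', Ideal.Quotient.algebraMap_eq, sub_eq_zero, Ideal.Quotient.eq] at hM
    rw [map_sub, AlgHom.commutes, ← h0, hX, Ideal.Quotient.algebraMap_eq, sub_eq_zero, Ideal.Quotient.eq] at hN'
    have h := sub_mem (Ideal.pow_le_pow_right (show N ≤ M from le_max_left _ _) hM) hN'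
    rwa [sub_sub_sub_cancel_right] at h
  have h3 : (e.stalkMap (j u')).hom (c' - cX) ∈ IsLocalRing.maximalIdeal (U.presheaf.stalk (j u')) ^ N := by
    rw [← hem, ← Ideal.map_pow]
    exact Ideal.mem_map_of_mem (e.stalkMap (j u')).hom h2
  have h4 := add_mem h1 h3
  rw [map_sub, sub_add_sub_cancel] at h4
  refine Ideal.Quotient.eq.2 ?_
  have h5 := Ideal.mem_map_of_mem (j.stalkMap u').hom h4
  rw [Ideal.map_pow, IsLocalRing.map_maximalIdeal_of_surjective (j.stalkMap u').hom
    (ConcreteCategory.bijective_of_isIso (j.stalkMap u')).2, map_sub] at h5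
  simp [Scheme.Hom.stalkMap_comp, TopCat.Presheaf.stalkCongr_inv, TopCat.Presheaf.stalkSpecializes_refl]
  exact h5

end Groth.Agent.S7203
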