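import Groth.Statements.S7204
import Mathlib
-- import your own Groth.Agent.* helpers here

set_option autoImplicit false
universe w u
open FlatMor

namespace Groth.Agent.S7204

open AlgebraicGeometry CategoryTheory Limits in
/-- Let (X_i)_{i ∈ I} be a diagram of schemes and (W, X_i → W) a cocone under it. If there is an fpqc
covering {W_a → W} such that each W_a is the colimit (in schemes) of the base-changed diagram (X_i
×_W W_a), and each W_a ×_W W_b is the colimit of (X_i ×_W W_a ×_W W_b), then W is the colimit of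
(X_i) in the category of schemes. -/
theorem result {J : Type u} [SmallCategory J] (D : J ⥤ Scheme.{u}) (c : Cocone D)
    (F : PreZeroHypercover.{w} c.pt) (hF : F.presieve₀ ∈ Scheme.fpqcPrecoverage c.pt)
    (h1 : ∀ a : F.I₀, Nonempty (IsColimit ((Over.forgetCocone (F.X a)).whisker
      (D.toOver c.pt (fun j => c.ι.app j) (fun g => c.w g) ⋙ Over.pullback (F.f a)))))
    (h2 : ∀ a b : F.I₀, Nonempty (IsColimit ((Over.forgetCocone (pullback (F.f a) (F.f b))).whisker
      (D.toOver c.pt (fun j => c.ι.app j) (fun g => c.w g) ⋙ Over.pullback (pullback.fst (F.f a) (F.f b) ≫ F.f a))))) :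
    Nonempty (IsColimit c) := by
  classical
  have hJ : Sieve.generate F.presieve₀ ∈ Scheme.fpqcTopology c.pt :=
    Precoverage.generate_mem_toGrothendieck hF
  have hsh : ∀ T : Scheme.{u}, Presieve.IsSheaf Scheme.fpqcTopology (yoneda.obj T) := fun T =>
    GrothendieckTopology.Subcanonical.isSheaf_of_isRepresentable _
  refine ⟨IsColimit.ofExistsUnique fun s => ?_⟩
  let G : ∀ a : F.I₀, Cocone ((D.toOver c.pt (fun j => c.ι.app j) (fun g => c.w g) ⋙
      Over.pullback (F.f a)) ⋙ Over.forget _) := fun a =>
    { pt := s.pt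
      ι :=
        { app := fun j => pullback.fst (c.ι.app j) (F.f a) ≫ s.ι.app j
          naturality := fun i j g => by
            show pullback.lift _ _ _ ≫ pullback.fst _ _ ≫ _ = (pullback.fst _ _ ≫ _) ≫ 𝟙 _
            rw [pullback.lift_fst_assoc, Category.comp_id]
            show (pullback.fst _ _ ≫ D.map g) ≫ s.ι.app j = _
            rw [Category.assoc, s.w g]
            rfl } }
  let m : ∀ a, F.X a ⟶ s.pt := fun a => (h1 a).some.desc (G a)
  have hm : ∀ a j, pullback.snd (c.ι.app j) (F.f a) ≫ m a = pullback.fst (c.ι.app j) (F.f a) ≫ s.ι.app j :=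
    fun a j => (h1 a).some.fac (G a) j
  have hcomp : ∀ a b, pullback.fst (F.f a) (F.f b) ≫ m a = pullback.snd (F.f a) (F.f b) ≫ m b := by
    intro a b
    refine (h2 a b).some.hom_ext fun j => ?_
    let w := pullback.fst (F.f a) (F.f b) ≫ F.f a
    show pullback.snd (c.ι.app j) w ≫ _ = pullback.snd (c.ι.app j) w ≫ _
    let la : pullback (c.ι.app j) w ⟶ pullback (c.ι.app j) (F.f a) :=
      pullback.lift (pullback.fst _ _) (pullback.snd _ _ ≫ pullback.fst _ _)
        (by rw [pullback.condition, Category.assoc])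
    let lb : pullback (c.ι.app j) w ⟶ pullback (c.ι.app j) (F.f b) :=
      pullback.lift (pullback.fst _ _) (pullback.snd _ _ ≫ pullback.snd _ _)
        (by
          rw [Category.assoc, ← pullback.condition]
          exact pullback.condition)
    have ha := la ≫= hm a j
    have hb := lb ≫= hm b j
    simp only [la, lb, pullback.lift_snd_assoc, pullback.lift_fst_assoc, Category.assoc] at ha hb
    rw [ha, hb]
  have hS : Presieve.IsSheafFor (yoneda.obj s.pt) (Presieve.ofArrows F.X F.f) := by
    rw [Presieve.isSheafFor_iff_generate]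
    exact (hsh s.pt) _ hJ
  rw [Presieve.isSheafFor_arrows_iff] at hS
  have hcompat : Presieve.Arrows.Compatible (yoneda.obj s.pt) F.f m := by
    intro a b Z ga gb hg
    show ga ≫ m a = gb ≫ m b
    have := pullback.lift ga gb hg ≫= hcomp a b
    simpa only [pullback.lift_fst_assoc, pullback.lift_snd_assoc] using this
  obtain ⟨M, hM, hMuniq⟩ := hS m hcompat
  have hM' : ∀ a, F.f a ≫ M = m a := hM
  refine ⟨M, fun j => ?_, fun M' hM'' => hMuniq M' fun a => ?_⟩
  · refine ((hsh s.pt) _ (Scheme.fpqcTopology.pullback_stable (c.ι.app j) hJ)).isSeparatedFor.ext ?_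
    intro Z h hh
    obtain ⟨W, g, e, ⟨a⟩, he⟩ := hh
    show h ≫ c.ι.app j ≫ M = h ≫ s.ι.app j
    have hl := pullback.lift h g he.symm ≫= hm a j
    simp only [pullback.lift_snd_assoc, pullback.lift_fst_assoc] at hl
    rw [← hl, ← hM' a, ← Category.assoc, ← he, Category.assoc]
  · show F.f a ≫ M' = m a
    refine (h1 a).some.hom_ext fun j => ?_
    show pullback.snd (c.ι.app j) (F.f a) ≫ _ = pullback.snd (c.ι.app j) (F.f a) ≫ _
    rw [hm a j, ← Category.assoc, ← pullback.condition, Category.assoc, hM'' j]

end Groth.Agent.S7204
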