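import Groth.Statements.S7221
import Mathlib
import Groth.Agent.NLBCLib.Main
-- import your own Groth.Agent.* helpers here

set_option autoImplicit false
universe u
open CategoryTheory CategoryTheory.Limits TensorProduct
attribute [local instance] HasDerivedCategory.standard
open FlatMor

namespace Groth.Agent.S7221

/-- Let R → S and R → R' be ring homomorphisms and let S' be an algebra over R' and over S making the
square cocartesian, S' = S ⊗_R R'. Let G be a presentation of S over R by a polynomial algebra and
G' the presentation of S' over R' on the same set of variables, each variable mapping to the image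
of the corresponding generator (the base change of G). Then the canonical map H^{-1}(NL(G) ⊗_S S') →
H^{-1}(NL(G')) is surjective. The same holds for the canonical map H^{-1}(NL_{S/R} ⊗_S S') →
H^{-1}(NL_{S'/R'}) between the complexes of the presentations on all elements. (In degree 0 the
corresponding map S' ⊗_S Ω_{S/R} → Ω_{S'/R'} is bijective; that part is not restated.) -/
theorem result (R S R' S' : Type u) [CommRing R] [CommRing S] [CommRing R']
    [CommRing S'] [Algebra R S] [Algebra R' S'] [Algebra R R'] [Algebra S S'] [Algebra R S']
    [IsScalarTower R R' S'] [IsScalarTower R S S'] [Algebra.IsPushout R R' S S']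
    {ι : Type u} (G : Algebra.Generators R S ι) (G' : Algebra.Generators R' S' ι)
    (h : ∀ i, G'.val i = algebraMap S S' (G.val i)) :
    Function.Surjective (NLCx.bcH1Map (NLCx.sameVarsHom G G' h).toExtensionHom) ∧
      Function.Surjective (NLCx.bcH1Map
        ((Algebra.Generators.self R S).defaultHom (Algebra.Generators.self R' S')).toExtensionHom) := by
  refine ⟨NLBCLib.surjective_bcH1Map G G' h, ?_⟩
  let G₁ := NLBCLib.pushGen (R := R) (S := S) (R' := R') (S' := S')
  let s := (NLCx.sameVarsHom (Algebra.Generators.self R S) G₁ fun _ => rfl).toExtensionHom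
  let g₁ := (G₁.defaultHom (Algebra.Generators.self R' S')).toExtensionHom
  let g₂ := ((Algebra.Generators.self R' S').defaultHom G₁).toExtensionHom
  let f₀ := ((Algebra.Generators.self R S).defaultHom (Algebra.Generators.self R' S')).toExtensionHom
  intro y
  obtain ⟨z, hz⟩ := NLBCLib.surjective_bcH1Map (Algebra.Generators.self R S) G₁ (fun _ => rfl)
    (Algebra.Extension.H1Cotangent.map g₂ y)
  refine ⟨z, ?_⟩
  have hy : Algebra.Extension.H1Cotangent.map g₁ (Algebra.Extension.H1Cotangent.map g₂ y) = y :=
    (Algebra.Extension.H1Cotangent.map_comp_apply g₂ g₁ y).symm.trans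
      ((LinearMap.congr_fun (Algebra.Extension.H1Cotangent.map_eq _ (Algebra.Extension.Hom.id _)) y).trans
        (LinearMap.congr_fun Algebra.Extension.H1Cotangent.map_id y))
  rw [← hz] at hy
  refine Eq.trans (Subtype.ext ?_) hy
  change (Algebra.Extension.Cotangent.map f₀).liftBaseChange S' z.1 =
    Algebra.Extension.Cotangent.map g₁ ((Algebra.Extension.Cotangent.map s).liftBaseChange S' z.1)
  have key : (Algebra.Extension.Cotangent.map f₀).liftBaseChange S' =
      Algebra.Extension.Cotangent.map g₁ ∘ₗ (Algebra.Extension.Cotangent.map s).liftBaseChange S' +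
        (f₀.sub (g₁.comp s)).liftBaseChange S' ∘ₗ (Algebra.Generators.self R S).toExtension.cotangentComplex.baseChange S' := by
    refine TensorProduct.AlgebraTensorModule.ext fun t x => ?_
    change t • Algebra.Extension.Cotangent.map f₀ x = Algebra.Extension.Cotangent.map g₁ (t • Algebra.Extension.Cotangent.map s x) +
      t • (f₀.sub (g₁.comp s)) ((Algebra.Generators.self R S).toExtension.cotangentComplex x)
    rw [map_smul, ← smul_add]
    refine congrArg (t • ·) ?_
    have h1 := LinearMap.congr_fun (Algebra.Extension.Cotangent.map_sub_map f₀ (g₁.comp s)) x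
    rw [LinearMap.sub_apply, sub_eq_iff_eq_add,
      Algebra.Extension.Cotangent.map_comp (P'' := (Algebra.Generators.self R' S').toExtension) s g₁] at h1
    exact h1.trans (add_comm _ _)
  refine (LinearMap.congr_fun key z.1).trans ?_
  rw [LinearMap.add_apply, LinearMap.comp_apply, LinearMap.comp_apply, LinearMap.mem_ker.1 z.2, map_zero, add_zero]

end Groth.Agent.S7221
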