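import Groth.Statements.S7225
import Mathlib
import Groth.Agent.NLBCLib.Main
-- import your own Groth.Agent.* helpers here

set_option autoImplicit false
universe u
open CategoryTheory CategoryTheory.Limits TensorProduct
attribute [local instance] HasDerivedCategory.standard
open FlatMor

namespace Groth.Agent.S7225

/-- Let A be a ring, M a submonoid of A, A' a localization of A at M and B an A'-algebra, viewed also as
an A-algebra. Let G be a presentation of B over A by a polynomial algebra and G' the presentation of
B over A' with the same generators (G'(i) = G(i), written through the identity algebra map of B).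
Then the canonical chain map NL(G) → NL(G') from the naive cotangent complex of the presentation
over A to that of the presentation over A' is an isomorphism of complexes (so that NL_{B/A} →
NL_{B/A'} is a homotopy equivalence). -/
theorem result (A A' B : Type u) [CommRing A] [CommRing A'] [CommRing B]
    [Algebra A A'] (M : Submonoid A) [IsLocalization M A'] [Algebra A' B] [Algebra A B] [IsScalarTower A A' B]
    {ι : Type u} (G : Algebra.Generators A B ι) (G' : Algebra.Generators A' B ι) (h : ∀ i, G'.val i = algebraMap B B (G.val i)) :
    IsIso (NLCx.map (NLCx.sameVarsHom (S' := B) G G' h).toExtensionHom) := by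
  haveI : IsLocalization (Algebra.algebraMapSubmonoid B M) B := IsLocalization.self (by
    rintro _ ⟨m, hm, rfl⟩
    rw [IsUnit.mem_submonoid_iff, IsScalarTower.algebraMap_apply A A' B]
    exact (IsLocalization.map_units A' ⟨m, hm⟩).map _)
  haveI : Algebra.IsPushout A A' B B := (Algebra.isPushout_of_isLocalization (R := A) (A := A') M B B).symm
  haveI : Module.Flat A A' := IsLocalization.flat A' M
  let f := (NLCx.sameVarsHom (S' := B) G G' h).toExtensionHom
  have h1 : Function.Bijective ((Algebra.Extension.Cotangent.map f).liftBaseChange B) :=
    ⟨NLBCLib.cotangent_injective f _ (NLBCLib.ringEquiv_tmul G G' h) (Or.inl inferInstance),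
      NLBCLib.cotangent_surjective f _ (NLBCLib.ringEquiv_tmul G G' h)⟩
  have h2 : Function.Bijective ((Algebra.Extension.CotangentSpace.map f).liftBaseChange B) :=
    NLBCLib.bijective_cotangentSpace G G' h
  have h1' : IsIso (ModuleCat.ofHom (Algebra.Extension.Cotangent.map f)) := by
    refine (ConcreteCategory.isIso_iff_bijective _).2 ?_
    have e : ∀ x, (Algebra.Extension.Cotangent.map f).liftBaseChange B ((TensorProduct.lid B G.toExtension.Cotangent).symm x) =
        Algebra.Extension.Cotangent.map f x := fun x => by simp
    have hh := h1.comp (TensorProduct.lid B G.toExtension.Cotangent).symm.bijective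
    rw [show (_ ∘ _ : _ → _) = _ from funext e] at hh
    exact hh
  have h2' : IsIso (ModuleCat.ofHom (Algebra.Extension.CotangentSpace.map f)) := by
    refine (ConcreteCategory.isIso_iff_bijective _).2 ?_
    have e : ∀ x, (Algebra.Extension.CotangentSpace.map f).liftBaseChange B ((TensorProduct.lid B G.toExtension.CotangentSpace).symm x) =
        Algebra.Extension.CotangentSpace.map f x := fun x => by simp
    have hh := h2.comp (TensorProduct.lid B G.toExtension.CotangentSpace).symm.bijective
    rw [show (_ ∘ _ : _ → _) = _ from funext e] at hh
    exact hh
  refine NLBCLib.isIso_two _ (fun i a b => NLBCLib.isZero_cx_X G'.toExtension i a b) ?_ ?_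
  · simp only [NLCx.map, HomologicalComplex.mkHomFromDouble_f₀]
    infer_instance
  · simp only [NLCx.map, HomologicalComplex.mkHomFromDouble_f₁]
    infer_instance

end Groth.Agent.S7225
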