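import Groth.Statements.S7230
import Groth.Agent.Dual3Lib.RelPerf

set_option autoImplicit false
set_option backward.isDefEq.respectTransparency false
set_option backward.isDefEq.respectTransparency.types false
universe u
open CategoryTheory CategoryTheory.Limits AlgebraicGeometry Opposite TopologicalSpace
attribute [local instance] HasDerivedCategory.standard
open FlatMor

namespace Groth.Agent.S7230

/-- Let A be a ring and X a scheme separated, of finite presentation and flat over A, with structure
morphism π : X ⟶ Spec A. Let K be a cochain complex of O_X-modules whose class in D(O_X) has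
quasi-coherent cohomology sheaves. Assume, the functors Rπ_* and - ⊗^L K being taken to exist, that
for every perfect object E of D(O_X) the object Rπ_*(E ⊗^L K) of D(O_{Spec A}) is perfect. Then K is
perfect relative to Spec A: its class is pseudo-coherent on X in the absolute sense
(m-pseudo-coherent for every m) and, locally on X, every representing complex has finite tor
amplitude stalkwise over the local rings of Spec A. (The published statement asks RΓ(X, E ⊗^L K) to
be perfect in D(A); on Spec A the two formulations correspond under the equivalence of D(A) with the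
quasi-coherent derived category.) -/
theorem result (A : Type u) [CommRing A]
    {X : Scheme.{u}} (π : X ⟶ Spec (CommRingCat.of A)) [IsSeparated π] [QuasiCompact π]
    [LocallyOfFinitePresentation π] [Flat π] [DCoh.HasRpush π] (K : CochainComplex X.Modules ℤ)
    [DCoh.HasLTensorCx K] (hK : DCoh.IsQCohD (DCoh.toD X K))
    (h : ∀ E : DCoh.D X, DCoh.IsPerfect E → DCoh.IsPerfect ((DCoh.Rpush π).obj ((DCoh.LTensorCx K).obj E))) :
    (∀ m : ℤ, DCoh.IsPseudoCoherentD m (DCoh.toD X K)) ∧ DerSch.LocFiniteTorAmplitudeD π (DCoh.toD X K) := by
  have h' : ∀ E : DCoh.D X, DCoh.IsPerfect E →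
      DCoh.IsPerfect ((DCoh.Rpush π).obj (Dual3Lib.ten (DCoh.toD X K) E)) := fun E hE => by
    obtain ⟨a⟩ := Dual3Lib.ten_lTensor (A := E) K (Iso.refl (DCoh.toD X K))
    obtain ⟨b⟩ := Dual3Lib.ten_comm E (DCoh.toD X K)
    exact PerfLib.isPerfect_of_iso ((DCoh.Rpush π).mapIso (a ≪≫ b)) (h E hE)
  exact ⟨fun m => Dual3Lib.isPC_of_relAll π (Dual3Lib.isPC_relAll_of_test π hK fun E hE k =>
    RelFlatLib.isPC_of_isPerfect (h' E hE) k) m, Dual3Lib.locFiniteTorAmplitude_of_test π hK h'⟩

end Groth.Agent.S7230
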