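import Groth.Statements.S7238
import Groth.Agent.ApproxLib.ChartPoint

set_option autoImplicit false
universe u
open FlatMor

namespace Groth.Agent.S7238

open AlgebraicGeometry CategoryTheory Limits IsLocalRing in
/-- Let S be a locally Noetherian scheme and T a scheme of finite type over ℤ; let p : X ⟶ S and q : Y ⟶
T be locally of finite type; let x ∈ X with image s ∈ S such that O_{S,s} is a G-ring, and y ∈ Y
with image t ∈ T. Let σ : O_{T,t} → O_{S,s}^∧ be a local homomorphism into the completion, let Y_σ =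
Y ×_T Spec(O_{S,s}^∧) be the base change of q along Spec(O_{S,s}^∧) → Spec(O_{T,t}) → T, let y_σ ∈
Y_σ be a point lying over y and over the closed point of Spec(O_{S,s}^∧), and let φ : O_{X,x}^∧ ≅
O_{Y_σ,y_σ}^∧ be an isomorphism of completed local rings compatible with the two O_{S,s}-algebra
structures. Then there are: an elementary étale neighbourhood e : (V, v) ⟶ (S, s) (étale, v ↦ s,
trivial residue field extension) together with τ : V ⟶ T with τ(v) = t; an elementary étale
neighbourhood a : (W, w) ⟶ (X, x); and a morphism b : W ⟶ Y ×_{T,τ} V with W ⟶ X ⟶ S equal to W ⟶ Y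
×_T V ⟶ V ⟶ S, such that b is étale and b(w) lies over y and over v with trivial residue field
extension. (The published statement says more precisely that (W, w) is an elementary étale
neighbourhood of the point y_τ of Y ×_T V corresponding to y_σ under the identification of the fibre
of Y_σ over the closed point with the fibre of Y ×_T V over v; that identification is not expressed
here, only that b(w) lies over y and v.) -/
theorem result {X Y S T : Scheme.{u}} [IsLocallyNoetherian S]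
    (p : X ⟶ S) (q : Y ⟶ T) [LocallyOfFiniteType p] [LocallyOfFiniteType q]
    [LocallyOfFiniteType (specULiftZIsTerminal.from T)] [CompactSpace T]
    (x : X) (hG : CAlg.IsGRing ↑(S.presheaf.stalk (p x))) (y : Y)
    (σ : ↑(T.presheaf.stalk (q y)) →+*
      AdicCompletion (maximalIdeal ↑(S.presheaf.stalk (p x))) ↑(S.presheaf.stalk (p x)))
    [IsLocalHom σ]
    (yσ : ↑(pullback q (Spec.map (CommRingCat.ofHom σ) ≫ T.fromSpecStalk (q y))))
    (hyσ : (pullback.fst q (Spec.map (CommRingCat.ofHom σ) ≫ T.fromSpecStalk (q y))) yσ = y)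
    (hyσc : (pullback.snd q (Spec.map (CommRingCat.ofHom σ) ≫ T.fromSpecStalk (q y))) yσ =
      closedPoint (AdicCompletion (maximalIdeal ↑(S.presheaf.stalk (p x))) ↑(S.presheaf.stalk (p x))))
    (φ : AdicCompletion (maximalIdeal ↑(X.presheaf.stalk x)) ↑(X.presheaf.stalk x) ≃+*
      AdicCompletion (maximalIdeal ↑((pullback q (Spec.map (CommRingCat.ofHom σ) ≫ T.fromSpecStalk (q y))).presheaf.stalk yσ))
        ↑((pullback q (Spec.map (CommRingCat.ofHom σ) ≫ T.fromSpecStalk (q y))).presheaf.stalk yσ))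
    (hφ : φ.toRingHom.comp ((algebraMap ↑(X.presheaf.stalk x)
        (AdicCompletion (maximalIdeal ↑(X.presheaf.stalk x)) ↑(X.presheaf.stalk x))).comp (p.stalkMap x).hom) =
      ((algebraMap _ (AdicCompletion (maximalIdeal
          ↑((pullback q (Spec.map (CommRingCat.ofHom σ) ≫ T.fromSpecStalk (q y))).presheaf.stalk yσ)) _)).comp
        ((pullback.snd q (Spec.map (CommRingCat.ofHom σ) ≫ T.fromSpecStalk (q y))).stalkMap yσ).hom).comp
        ((((Spec (CommRingCat.of (AdicCompletion (maximalIdeal ↑(S.presheaf.stalk (p x))) ↑(S.presheaf.stalk (p x))))).presheaf.germ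
            ⊤ ((pullback.snd q (Spec.map (CommRingCat.ofHom σ) ≫ T.fromSpecStalk (q y))) yσ) trivial).hom.comp
          ((Scheme.ΓSpecIso (CommRingCat.of (AdicCompletion (maximalIdeal ↑(S.presheaf.stalk (p x)))
            ↑(S.presheaf.stalk (p x))))).inv.hom.comp
            (algebraMap ↑(S.presheaf.stalk (p x))
              (AdicCompletion (maximalIdeal ↑(S.presheaf.stalk (p x))) ↑(S.presheaf.stalk (p x)))))))) :
    ∃ (V : Scheme.{u}) (v : V) (e : V ⟶ S) (τ : V ⟶ T) (W : Scheme.{u}) (w : W) (a : W ⟶ X)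
      (b : W ⟶ pullback q τ),
      Etale e ∧ e v = p x ∧ Function.Bijective (e.residueFieldMap v) ∧ τ v = q y ∧
      Etale a ∧ a w = x ∧ Function.Bijective (a.residueFieldMap w) ∧
      a ≫ p = b ≫ pullback.snd q τ ≫ e ∧
      Etale b ∧ (pullback.fst q τ) (b w) = y ∧ (pullback.snd q τ) (b w) = v ∧
      Function.Bijective (b.residueFieldMap w) := by
  obtain ⟨V₀, hV₀, hsV, -⟩ := exists_isAffineOpen_mem_and_subset (x := p x) (U := ⊤) trivial
  obtain ⟨T₀, hT₀, htT, -⟩ := exists_isAffineOpen_mem_and_subset (x := q y) (U := ⊤) trivial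
  obtain ⟨U₀, hU₀, hxU, hpU⟩ := exists_isAffineOpen_mem_and_subset (x := x) (U := p ⁻¹ᵁ V₀) hsV
  obtain ⟨U₁, hU₁, hyU, hqU⟩ := exists_isAffineOpen_mem_and_subset (x := y) (U := q ⁻¹ᵁ T₀) htT
  let R := Γ(S, V₀)
  let B := Γ(X, U₀)
  let D := Γ(T, T₀)
  let C := Γ(Y, U₁)
  let Rs := S.presheaf.stalk (p x)
  let Tc := AdicCompletion (maximalIdeal ↑Rs) ↑Rs
  haveI hRn : IsNoetherianRing R := IsLocallyNoetherian.component_noetherian ⟨V₀, hV₀⟩
  letI : Algebra R B := (p.appLE V₀ U₀ hpU).hom.toAlgebra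
  letI : Algebra D C := (q.appLE T₀ U₁ hqU).hom.toAlgebra
  haveI : Algebra.FiniteType R B := p.finiteType_appLE hV₀ hU₀ hpU
  haveI : Algebra.FiniteType D C := q.finiteType_appLE hT₀ hU₁ hqU
  haveI : Algebra.FiniteType ℤ D := by
    have h := (specULiftZIsTerminal.from T).finiteType_appLE (isAffineOpen_top _) hT₀ le_top
    let e := (Scheme.ΓSpecIso (CommRingCat.of (ULift.{u} ℤ))).inv
    have h1 : (e.hom.comp (ULift.ringEquiv.symm.toRingHom : ℤ →+* ULift.{u} ℤ)).FiniteType :=
      RingHom.FiniteType.of_surjective _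
        ((ConcreteCategory.bijective_of_isIso e).2.comp (ULift.ringEquiv.symm.surjective))
    have h2 := h.comp h1
    rw [RingHom.ext_int (((specULiftZIsTerminal.from T).appLE ⊤ T₀ le_top).hom.comp _) (algebraMap ℤ D)] at h2
    exact RingHom.finiteType_algebraMap.1 h2
  letI : Algebra R Rs := S.presheaf.algebra_section_stalk ⟨p x, hsV⟩
  let pR : Ideal R := (hV₀.primeIdealOf ⟨p x, hsV⟩).asIdeal
  haveI : IsLocalization.AtPrime Rs pR := hV₀.isLocalization_stalk ⟨p x, hsV⟩
  haveI : IsNoetherianRing Rs := IsLocalization.isNoetherianRing pR.primeCompl Rs inferInstance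
  letI : Algebra B (X.presheaf.stalk x) := X.presheaf.algebra_section_stalk ⟨x, hxU⟩
  let PB : Ideal B := (hU₀.primeIdealOf ⟨x, hxU⟩).asIdeal
  haveI : IsLocalization.AtPrime (X.presheaf.stalk x) PB := hU₀.isLocalization_stalk ⟨x, hxU⟩
  have hρ : (p.stalkMap x).hom.comp (algebraMap R Rs) =
      (algebraMap B (X.presheaf.stalk x)).comp (algebraMap R B) := RingHom.ext fun r => by
    show (p.stalkMap x).hom (S.presheaf.germ V₀ (p x) hsV r) = X.presheaf.germ U₀ x hxU (p.appLE V₀ U₀ hpU r)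
    rw [Scheme.Hom.appLE, CommRingCat.comp_apply, TopCat.Presheaf.germ_res_apply]
    exact Scheme.Hom.germ_stalkMap_apply p V₀ x hsV r
  letI : Algebra D Tc := (σ.comp (T.presheaf.germ T₀ (q y) htT).hom).toAlgebra
  let f := Spec.map (CommRingCat.ofHom σ) ≫ T.fromSpecStalk (q y)
  let sD : D ⟶ CommRingCat.of Tc := CommRingCat.ofHom (algebraMap D Tc)
  let sC : D ⟶ C := q.appLE T₀ U₁ hqU
  have hf : f = Spec.map sD ≫ hT₀.fromSpec := by
    show Spec.map (CommRingCat.ofHom σ) ≫ T.fromSpecStalk (q y) = _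
    rw [← hT₀.fromSpecStalk_eq_fromSpecStalk htT, IsAffineOpen.fromSpecStalk, ← Spec.map_comp_assoc]
    rfl
  have hqC : Spec.map sC ≫ hT₀.fromSpec = hU₁.fromSpec ≫ q :=
    IsAffineOpen.SpecMap_appLE_fromSpec q hT₀ hU₁ hqU
  let jm : pullback (Spec.map (CommRingCat.ofHom (algebraMap D C))) (Spec.map (CommRingCat.ofHom (algebraMap D Tc))) ⟶
      pullback q f :=
    pullback.map _ _ _ _ hU₁.fromSpec (𝟙 _) hT₀.fromSpec hqC (by rw [Category.id_comp, hf])
  let cm : CommRingCat.of (TensorProduct D C Tc) ⟶ CommRingCat.of (TensorProduct D Tc C) :=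
    (Algebra.TensorProduct.comm D C Tc).toRingEquiv.toCommRingCatIso.hom
  haveI : IsIso cm := Iso.isIso_hom _
  let jσ : Spec (CommRingCat.of (TensorProduct D Tc C)) ⟶ pullback q f :=
    Spec.map cm ≫ (pullbackSpecIso D C Tc).inv ≫ jm
  have hjσy : yσ ∈ Set.range jσ := by
    have h1 : yσ ∈ Set.range jm := by
      rw [Scheme.Pullback.range_map]
      exact ⟨by rw [Set.mem_preimage, hyσ, hU₁.range_fromSpec]; exact hyU, ⟨_, rfl⟩⟩
    obtain ⟨a, ha⟩ := h1
    obtain ⟨b, hb⟩ := (Spec.map cm ≫ (pullbackSpecIso D C Tc).inv).surjective a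
    exact ⟨b, by rw [← ha, ← hb]; rfl⟩
  obtain ⟨z, ψ, hzy, hψloc, hψ₁, hψ₂⟩ := ApproxLib.exists_stalk_localization jσ yσ hjσy
  let gC : C ⟶ CommRingCat.of (TensorProduct D Tc C) :=
    CommRingCat.ofHom (Algebra.TensorProduct.includeRight : C →ₐ[D] TensorProduct D Tc C).toRingHom
  let gT : CommRingCat.of Tc ⟶ CommRingCat.of (TensorProduct D Tc C) :=
    CommRingCat.ofHom (algebraMap Tc (TensorProduct D Tc C))
  have hfst : jσ ≫ pullback.fst q f = Spec.map gC ≫ hU₁.fromSpec := by
    simp only [jσ, jm, Category.assoc, pullback.lift_fst]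
    rw [pullbackSpecIso_inv_fst_assoc, ← Spec.map_comp_assoc]
    rfl
  have hsnd : jσ ≫ pullback.snd q f = Spec.map gT := by
    simp only [jσ, jm, Category.assoc, pullback.lift_snd, Category.comp_id]
    rw [pullbackSpecIso_inv_snd, ← Spec.map_comp]
    rfl
  letI : Algebra (TensorProduct D Tc C) ((pullback q f).presheaf.stalk yσ) := ψ.toAlgebra
  haveI : IsLocalization.AtPrime ((pullback q f).presheaf.stalk yσ) z.asIdeal := hψloc
  have hφR : ∀ r : Rs, φ (algebraMap _ _ ((p.stalkMap x).hom r)) = algebraMap _ _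
      (algebraMap (TensorProduct D Tc C) ((pullback q f).presheaf.stalk yσ) (algebraMap Rs Tc r ⊗ₜ[D] (1 : C))) := by
    intro r
    refine (RingHom.congr_fun hφ r).trans ?_
    refine congrArg (algebraMap ↑((pullback q f).presheaf.stalk yσ) (AdicCompletion (maximalIdeal ↑((pullback q f).presheaf.stalk yσ)) _)) ?_
    exact hψ₂ (pullback.snd q f) gT hsnd (algebraMap Rs Tc r)
  obtain ⟨R', _, _, _, hR', p', hp', E, _, fB, θ, w, hw, hcomap, hfrac, hpD, hfB, hθ, hcompat, hwB, hwC, hwR,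
      hfracB, hfracθ⟩ :=
    ApproxLib.exists_ring_model (R := R) (Rs := Rs) (B := B) (Lx := X.presheaf.stalk x) (D := D) (C := C)
      (LY := (pullback q f).presheaf.stalk yσ) pR hG PB (p.stalkMap x).hom hρ z.asIdeal φ hφR
  let V : Scheme.{u} := Spec (CommRingCat.of R')
  let v : V := ⟨p', hp'⟩
  let iR : R ⟶ CommRingCat.of R' := CommRingCat.ofHom (algebraMap R R')
  let iD : D ⟶ CommRingCat.of R' := CommRingCat.ofHom (algebraMap D R')
  let e : V ⟶ S := Spec.map iR ≫ hV₀.fromSpec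
  let τ : V ⟶ T := Spec.map iD ≫ hT₀.fromSpec
  let W : Scheme.{u} := Spec (CommRingCat.of E)
  let iB : B ⟶ CommRingCat.of E := CommRingCat.ofHom fB
  let iθ : CommRingCat.of (TensorProduct D C R') ⟶ CommRingCat.of E := CommRingCat.ofHom θ
  let a : W ⟶ X := Spec.map iB ≫ hU₀.fromSpec
  let k : pullback (Spec.map (CommRingCat.ofHom (algebraMap D C))) (Spec.map (CommRingCat.ofHom (algebraMap D R'))) ⟶
      pullback q τ :=
    pullback.map _ _ _ _ hU₁.fromSpec (𝟙 _) hT₀.fromSpec hqC (by rw [Category.id_comp])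
  let k' : Spec (CommRingCat.of (TensorProduct D C R')) ⟶ pullback q τ := (pullbackSpecIso D C R').inv ≫ k
  let b : W ⟶ pullback q τ := Spec.map iθ ≫ k'
  let iC : C ⟶ CommRingCat.of E :=
    CommRingCat.ofHom (θ.comp (Algebra.TensorProduct.includeLeftRingHom : C →+* TensorProduct D C R'))
  let iV : CommRingCat.of R' ⟶ CommRingCat.of E :=
    CommRingCat.ofHom (θ.comp (Algebra.TensorProduct.includeRight : R' →ₐ[D] TensorProduct D C R').toRingHom)
  have hbfst : b ≫ pullback.fst q τ = Spec.map iC ≫ hU₁.fromSpec := by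
    simp only [b, k', k, Category.assoc, pullback.lift_fst]
    rw [pullbackSpecIso_inv_fst_assoc, ← Spec.map_comp_assoc]
    rfl
  have hbsnd : b ≫ pullback.snd q τ = Spec.map iV := by
    simp only [b, k', k, Category.assoc, pullback.lift_snd, Category.comp_id]
    rw [pullbackSpecIso_inv_snd, ← Spec.map_comp]
    rfl
  let w' : W := ⟨w, hw⟩
  have hav : (Spec.map iV) w' = v := PrimeSpectrum.ext (Ideal.ext fun r => hwR r)
  have hQy : (Spec.map gC) z = hU₁.primeIdealOf ⟨y, hyU⟩ := by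
    refine hU₁.fromSpec.isOpenEmbedding.injective ?_
    show (Spec.map gC ≫ hU₁.fromSpec) z = _
    rw [hU₁.fromSpec_primeIdealOf, ← hfst, Scheme.Hom.comp_apply, hzy, hyσ]
  have hbw : (Spec.map iC) w' = hU₁.primeIdealOf ⟨y, hyU⟩ := by
    rw [← hQy]
    exact PrimeSpectrum.ext (Ideal.ext fun c => hwC c)
  refine ⟨V, v, e, τ, W, w', a, b, ?_, ?_, ?_, ?_, ?_, ?_, ?_, ?_, ?_, ?_, ?_, ?_⟩
  · haveI : Etale (Spec.map iR) := (HasRingHomProperty.Spec_iff (P := @Etale)).2 (RingHom.etale_algebraMap.2 hR')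
    exact inferInstanceAs (Etale (Spec.map iR ≫ hV₀.fromSpec))
  · show hV₀.fromSpec ((Spec.map iR) v) = p x
    rw [show (Spec.map iR) v = hV₀.primeIdealOf ⟨p x, hsV⟩ from PrimeSpectrum.ext hcomap, hV₀.fromSpec_primeIdealOf]
  · exact ApproxLib.residueFieldMap_bijective_of_isFrac hV₀ iR v hfrac
  · show hT₀.fromSpec ((Spec.map iD) v) = q y
    have h1 : (Spec.map iD) v = hT₀.primeIdealOf ⟨q y, htT⟩ := by
      refine PrimeSpectrum.ext (Ideal.ext fun d => ?_)
      refine (SetLike.ext_iff.1 hpD d).trans ?_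
      letI : Algebra D (T.presheaf.stalk (q y)) := T.presheaf.algebra_section_stalk ⟨q y, htT⟩
      haveI := hT₀.isLocalization_stalk ⟨q y, htT⟩
      show σ (T.presheaf.germ T₀ (q y) htT d) ∈ maximalIdeal Tc ↔ _
      rw [← IsLocalization.AtPrime.to_map_mem_maximal_iff (T.presheaf.stalk (q y))
        (hT₀.primeIdealOf ⟨q y, htT⟩).asIdeal d, mem_maximalIdeal, mem_maximalIdeal, mem_nonunits_iff, mem_nonunits_iff,
        isUnit_map_iff]
      rfl
    rw [h1, hT₀.fromSpec_primeIdealOf]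
  · haveI : Etale (Spec.map iB) := (HasRingHomProperty.Spec_iff (P := @Etale)).2 hfB
    exact inferInstanceAs (Etale (Spec.map iB ≫ hU₀.fromSpec))
  · show hU₀.fromSpec ((Spec.map iB) w') = x
    rw [show (Spec.map iB) w' = hU₀.primeIdealOf ⟨x, hxU⟩ from PrimeSpectrum.ext hwB, hU₀.fromSpec_primeIdealOf]
  · exact ApproxLib.residueFieldMap_bijective_of_isFrac hU₀ iB w' hfracB
  · rw [← Category.assoc b, hbsnd]
    show (Spec.map iB ≫ hU₀.fromSpec) ≫ p = Spec.map iV ≫ Spec.map iR ≫ hV₀.fromSpec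
    rw [Category.assoc, ← IsAffineOpen.SpecMap_appLE_fromSpec p hV₀ hU₀ hpU, ← Spec.map_comp_assoc,
      ← Spec.map_comp_assoc]
    congr 2
    ext r
    exact hcompat r
  · haveI : Etale (Spec.map iθ) := (HasRingHomProperty.Spec_iff (P := @Etale)).2 hθ
    exact inferInstanceAs (Etale (Spec.map iθ ≫ k'))
  · rw [← Scheme.Hom.comp_apply, hbfst, Scheme.Hom.comp_apply, hbw, hU₁.fromSpec_primeIdealOf]
  · rw [← Scheme.Hom.comp_apply, hbsnd, hav]
  · show Function.Bijective ((Spec.map iθ ≫ k').residueFieldMap w')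
    rw [Scheme.residueFieldMap_comp]
    haveI : IsIso (k'.residueFieldMap ((Spec.map iθ) w')) := inferInstance
    exact (ApproxLib.residueFieldMap_bijective_specMap iθ w' hfracθ).comp
      (ConcreteCategory.bijective_of_isIso (k'.residueFieldMap ((Spec.map iθ) w')))

end Groth.Agent.S7238
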