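import Groth.Statements.S7244
import Groth.Agent.RelFlatLib.LpullStalk
import Groth.Agent.RelFlatLib.Absolute
import Groth.Agent.DRingLib.AmplitudeBC

set_option autoImplicit false
set_option backward.isDefEq.respectTransparency false
set_option backward.isDefEq.respectTransparency.types false
universe u
open CategoryTheory CategoryTheory.Limits AlgebraicGeometry
attribute [local instance] HasDerivedCategory.standard
open Perf

namespace Groth.Agent.S7244

/-- Let f : X ⟶ Y be a flat and surjective morphism of schemes, E ∈ D(O_Y) and a, b ∈ ℤ. Assuming the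
derived pullback Lf^* exists, if Lf^*E has tor amplitude in [a, b] then so does E; tor amplitude is
stated in the flat-representative form (isomorphic to a complex of flat modules vanishing outside
[a, b]), equivalent to the derived-tensor form. (The converse, that derived pullback preserves tor
amplitude, holds for any f.) -/
theorem result {X Y : Scheme.{u}} (f : X ⟶ Y) [Flat f] [Surjective f]
    [DCoh.HasLpull f] (E : DCoh.D Y) (a b : ℤ) (h : DCoh.HasFlatAmplitudeIn a b ((DCoh.Lpull f).obj E)) :
    DCoh.HasFlatAmplitudeIn a b E := by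
  obtain ⟨P, hP, ⟨e⟩⟩ := KFlatLib.exists_good_rep E
  refine (RelFlatLib.flatAmp_iff_ampD E a b).2 fun y => (RelFlatLib.ampD_rep (𝟙 Y) e y).2 ?_
  obtain ⟨x, rfl⟩ := Surjective.surj (f := f) y
  have hidX : ((𝟙 X : X ⟶ X).stalkMap x).hom = RingHom.id (X.presheaf.stalk x) := by
    rw [Scheme.Hom.stalkMap_id]; rfl
  have hidY : ((𝟙 Y : Y ⟶ Y).stalkMap (f x)).hom = RingHom.id (Y.presheaf.stalk (f x)) := by
    rw [Scheme.Hom.stalkMap_id]; rfl
  have h1 : RelFlatLib.AmpD (𝟙 X) a b ((DCoh.Lpull f).obj E) x := (RelFlatLib.flatAmp_iff_ampD _ a b).1 h x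
  have h2 := (RelFlatLib.ampD_rep (𝟙 X) ((KFlatLib.lpullObjIso f P hP.1).symm ≪≫ (DCoh.Lpull f).mapIso e) x).1 h1
  have h3 : DRing.HasTorAmplitudeIn (X.presheaf.stalk x) a b
      (DerivedCategory.Q.obj ((KFlatLib.extCx f x).obj ((KFlatLib.stalkCx Y (f x)).obj P))) :=
    DRingLib.hasTorAmplitudeIn_of_iso (DerivedCategory.Q.mapIso
      (RelFlatLib.stalkOverPullIso f (𝟙 X) x P ≪≫
        (NatIso.mapHomologicalComplex (ModuleCat.restrictScalarsId' _ hidX) (ComplexShape.up ℤ)).app _ ≪≫
        (Functor.mapHomologicalComplexIdIso _ _).app _)) h2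
  letI := (f.stalkMap x).hom.toAlgebra
  haveI : Module.FaithfullyFlat (Y.presheaf.stalk (f x)) (X.presheaf.stalk x) :=
    @Module.FaithfullyFlat.of_flat_of_isLocalHom _ _ _ _ _ _ _ (Flat.stalkMap f x) (f.toLRSHom.prop x)
  have h4 := DRingLib.hasTorAmplitudeIn_of_family (S := fun _ : Unit => (X.presheaf.stalk x : Type u))
    (DRingLib.detectsZero_of_faithfullyFlat _ Unit.unit) ((KFlatLib.stalkCx Y (f x)).obj P) a b fun _ => h3
  exact DRingLib.hasTorAmplitudeIn_of_iso (DerivedCategory.Q.mapIso
    ((Functor.mapHomologicalComplexIdIso _ _).symm.app _ ≪≫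
      (NatIso.mapHomologicalComplex (ModuleCat.restrictScalarsId' _ hidY).symm (ComplexShape.up ℤ)).app _)) h4

end Groth.Agent.S7244
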