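import Groth.Statements.S7247
import Groth.Agent.KoszOrthLib.Hocolim

set_option autoImplicit false
set_option backward.isDefEq.respectTransparency false
set_option backward.isDefEq.respectTransparency.types false
universe u
open CategoryTheory CategoryTheory.Limits AlgebraicGeometry
attribute [local instance] HasDerivedCategory.standard
open Perf

namespace Groth.Agent.S7247

open Groth.Agent.KoszOrthLib
open scoped ZeroObject


/-- Let X be a quasi-compact and quasi-separated scheme, T ⊆ X a closed subset whose complement is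
quasi-compact, and K ∈ D(O_X) supported on T (every cohomology sheaf of K has support contained in
T). Assuming countable direct sums exist in D(O_X) (they do), K is pseudo-coherent if and only if K
is a homotopy colimit of a sequence of perfect objects Kₙ supported on T whose structure maps Kₙ ⟶ K
induce isomorphisms τ_{≥ -n}Kₙ ⟶ τ_{≥ -n}K for every n. -/
theorem result (X : Scheme.{u}) [CompactSpace ↥X] [QuasiSeparatedSpace ↥X]
    [HasColimitsOfShape (Discrete ℕ) (DCoh.D X)] (T : Set ↥X) (hT : IsClosed T) (hTc : IsCompact Tᶜ)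
    (K : DCoh.D X) (hK : ∀ i : ℤ, CohB1.support (DCoh.HD K i) ⊆ T) :
    (∀ m : ℤ, DCoh.IsPseudoCoherentD m K) ↔
    ∃ (E : ℕ → DCoh.D X) (f : ∀ n, E n ⟶ E (n + 1)) (i : ∀ n, E n ⟶ K),
      (∀ n, DCoh.IsPerfect (E n)) ∧ (∀ (n : ℕ) (j : ℤ), CohB1.support (DCoh.HD (E n) j) ⊆ T) ∧
      DerLim.IsHocolim E f K i ∧
      ∀ n : ℕ, IsIso (((DerivedCategory.TStructure.t : CategoryTheory.Triangulated.TStructure (DCoh.D X)).truncGE (-(n : ℤ))).map (i n)) := by
  constructor
  · intro hKp
    have hTr : IsRetrocompact Tᶜ := fun O hc ho =>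
      QuasiSeparatedSpace.inter_isCompact _ _ hT.isOpen_compl hTc ho hc
    obtain ⟨r, hr⟩ := approxHolds_of_qcqs X T hT hTr
    have hKq := KiehlLib.isQCohD_of_isPC hKp
    let St := Σ' (P : DCoh.D X) (_ : P ⟶ K),
      DCoh.IsPerfect P ∧ ∀ i : ℤ, CohB1.support (DCoh.HD P i) ⊆ T
    let Ok : St → ℕ → Prop := fun s n =>
      ∀ j : ℤ, -(n : ℤ) ≤ j → IsIso ((DerivedCategory.homologyFunctor X.Modules j).map s.2.1)
    have hstep : ∀ (s : St) (n : ℕ), ∃ (s' : St) (f : s.1 ⟶ s'.1), Ok s' n ∧ f ≫ s'.2.1 = s.2.1 := by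
      rintro ⟨P₀, α₀, hP₀⟩ n
      obtain ⟨lo, hi, -, hvan⟩ := PerfHomLib.exists_van_of_isPerfect hP₀.1
      let c : ℤ := min lo (-(n : ℤ) - 1)
      obtain ⟨P, α, hP, hPT, hiso, he⟩ := hr c K hKq (hKp _) fun i _ => hK i
      obtain ⟨C, p, δ, hTr'⟩ := Pretriangulated.distinguished_cocone_triangle α
      have hC : ∀ j, c ≤ j → IsZero (DCoh.HD C j) := (isoAboveEpiAtX_iff _ hTr' c).1 ⟨hiso, he⟩
      have hCq : DCoh.IsQCohD C := KiehlLib.isQCohD_of_isPC fun k =>
        Groth.Agent.PerfLib.isPC_obj₃ _ hTr' k (Groth.Agent.RelFlatLib.isPC_of_isPerfect hP _) (hKp k)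
      obtain ⟨f, hf⟩ := Pretriangulated.Triangle.coyoneda_exact₂ _ hTr' α₀
        (hvan C hCq (fun j h₁ _ => hC j ((min_le_left _ _).trans h₁)) _)
      exact ⟨⟨P, α, hP, hPT⟩, f,
        fun j hj => hiso j (by have := min_le_right lo (-(n : ℤ) - 1); omega), hf.symm⟩
    choose nx fn hok hfn using hstep
    let base : St := ⟨(0 : DCoh.D X), 0, Groth.Agent.PerfLib.isPerfect_of_isZero (isZero_zero _), fun i x hx =>
      absurd ((DCohRestrLib.isZero_iff_subsingleton_stalks _).1 ((DerivedCategory.homologyFunctor X.Modules i).map_isZero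
        (isZero_zero _)) x) hx⟩
    let S : ℕ → St := fun n => Nat.rec (nx base 0) (fun m s => nx s (m + 1)) n
    have hS : ∀ n, Ok (S n) n := by
      intro n
      cases n with
      | zero => exact hok base 0
      | succ m => exact hok (S m) (m + 1)
    refine ⟨fun n => (S n).1, fun n => fn (S n) (n + 1), fun n => (S n).2.1, fun n => (S n).2.2.1,
      fun n => (S n).2.2.2,
      isHocolim_of_isIso_HD _ _ _ (fun n => hfn (S n) (n + 1)) hS, fun n => ?_⟩
    exact (isIso_truncGE_map_iff _ _).2 (hS n)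
  · rintro ⟨E, f, i, hE, -, -, h⟩ m
    exact isPC_of_approx E i hE h m

end Groth.Agent.S7247
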