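import Groth.Statements.S7248
import Groth.Agent.RelFlatLib.Basic
import Groth.Agent.KFlatLib.PerfectPull
import Groth.Agent.PerfLib.PCoh

set_option autoImplicit false
set_option backward.isDefEq.respectTransparency false
set_option backward.isDefEq.respectTransparency.types false
universe u
open CategoryTheory CategoryTheory.Limits AlgebraicGeometry
attribute [local instance] HasDerivedCategory.standard
open Perf

namespace Groth.Agent.S7248

/-- Let f : X ⟶ S be flat and locally of finite presentation. Then a perfect object E of D(O_X) is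
S-perfect, that is, E is pseudo-coherent (m-pseudo-coherent for every m) and, locally on X, the tor
dimension of E over the sheaf of rings f⁻¹O_S is finite (locally represented by a bounded complex of
O_X-modules flat over S). -/
theorem result {X S : Scheme.{u}} (f : X ⟶ S) [Flat f] [LocallyOfFinitePresentation f]
    (E : DCoh.D X) (hE : DCoh.IsPerfect E) :
    (∀ m : ℤ, DCoh.IsPseudoCoherentD m E) ∧ DCoh.LocHasFiniteRelTorDim f E := by
  refine ⟨fun m => (PerfLib.isPC_iff m E).2 fun x => ?_, fun x => ?_⟩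
  · obtain ⟨V, j, hj, y, hy, G, hG, ⟨e⟩⟩ := (PerfLib.isPerfect_iff E).1 hE x
    exact ⟨V, j, hj, y, hy, G, e.inv, hG, PerfLib.IAE.of_isIso _ m⟩
  · obtain ⟨V, hx, hV⟩ := hE x
    obtain ⟨G, ⟨⟨a, b, hab⟩, hfl⟩, ⟨e⟩⟩ := hV _ ⟨DerivedCategory.Q.objObjPreimageIso E⟩
    refine ⟨V, a, b, hx, fun F' hF' => ?_⟩
    obtain ⟨G', ⟨⟨a', b', hab'⟩, hfl'⟩, ⟨e'⟩⟩ := hV F' hF'
    obtain ⟨c⟩ := hF'
    exact ⟨G, hab, fun i => RelFlatLib.isFlatOver_of_isFlat _ (KFlatLib.isFlat_of_isFinLocFree (hfl i)),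
      ⟨e.symm ≪≫ ((Groth.Agent.PerfLib.resDQIso V.ι _).symm ≪≫
        (Groth.Agent.PerfLib.resD V.ι).mapIso (DerivedCategory.Q.objObjPreimageIso E ≪≫ c.symm) ≪≫
        Groth.Agent.PerfLib.resDQIso V.ι F')⟩⟩

end Groth.Agent.S7248
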