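import Groth.Statements.S7249
import Groth.Agent.TensorPCLib.Sch
import Groth.Agent.TensorPCLib.External
import Groth.Agent.RelFlatLib.Absolute
import Groth.Agent.RelFlatLib.LpullTensorStalk
import Groth.Agent.S6240
import Groth.Agent.Dual3Lib.LpullTensorNat

set_option autoImplicit false
set_option backward.isDefEq.respectTransparency false
set_option backward.isDefEq.respectTransparency.types false
set_option maxHeartbeats 1600000
universe u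
open CategoryTheory CategoryTheory.Limits AlgebraicGeometry
attribute [local instance] HasDerivedCategory.standard
open Perf

namespace Groth.Agent.S7249

section Helpers

open HomologicalComplex MonoidalCategory

open Groth.Agent.Dual3Lib (ten ten_congr ten_comm ten_restrict ten_lTensor ten_cx)
open Groth.Agent.PerfLib (resD resDQIso)

theorem isLE_res_of_le {X : Scheme.{u}} {U V : X.Opens} (h : U ≤ V) (K : DCoh.D X) (b : ℤ)
    [((resD V.ι).obj K).IsLE b] : ((resD U.ι).obj K).IsLE b := by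
  obtain ⟨e⟩ := PerfLib.nonempty_resD_comp (X.homOfLE h) V.ι K
  obtain ⟨e'⟩ := PerfLib.nonempty_resD_congr (X.homOfLE_ι h) K
  haveI := TensorPCLib.isLE_resD (X.homOfLE h) ((resD V.ι).obj K) b
  exact (DerivedCategory.isLE_iff _ _).mpr fun i hi => (DerivedCategory.isZero_of_isLE _ b i hi).of_iso
    ((DerivedCategory.homologyFunctor _ i).mapIso (e'.symm ≪≫ e))

theorem isLE_of_rep {X : Scheme.{u}} (E : CochainComplex X.Modules ℤ) (b : ℤ)
    (h : ∀ i, b < i → IsZero (E.X i)) {K : DCoh.D X} (e : DCoh.toD X E ≅ K) : K.IsLE b := by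
  refine (DerivedCategory.isLE_iff _ _).mpr fun i hi => (KFlatLib.isZero_HD_iff e i).2 ?_
  exact (HomologicalComplex.exactAt_iff_isZero_homology _ i).mp (ShortComplex.exact_of_isZero_X₂ _ (h i hi))

/-- Tor amplitude over the base of a tensor product, at a point. -/
theorem ampD_ten {X S : Scheme.{u}} (f : X ⟶ S) (K M : DCoh.D X) (x : X) {a b c d : ℤ}
    (hK : RelFlatLib.AmpD (𝟙 X) a b K x) (hM : RelFlatLib.AmpD f c d M x) :
    RelFlatLib.AmpD f (a + c) (b + d) (ten K M) x := by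
  haveI := KFlatLib.hasLpull (𝟙 X)
  obtain ⟨F, ⟨eF⟩⟩ : ∃ F : CochainComplex X.Modules ℤ, Nonempty (DCoh.toD X F ≅ K) :=
    ⟨_, ⟨DerivedCategory.Q.objObjPreimageIso K⟩⟩
  haveI := KFlatLib.hasLTensorCx F
  obtain ⟨P, hP, ⟨eP⟩⟩ := KFlatLib.exists_good_rep M
  obtain ⟨eT⟩ := KFlatLib.exists_lTensorCxObjIso F ((KFlatLib.pullCx (𝟙 X)).obj P)
    (KFlatLib.isKFlat_pull (𝟙 X) hP.1)
  obtain ⟨eid0⟩ := Groth.Agent.Dual3Lib.nonempty_lpull_id (𝟙 X) rfl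
  let eid := eid0.app M
  obtain ⟨e1⟩ := ten_lTensor (A := M) F eF
  obtain ⟨e2⟩ := ten_comm M K
  let eAll : DCoh.toD _ (((DCoh.tensorCx (X := X)).obj ((KFlatLib.pullCx (𝟙 X)).obj P)).obj F) ≅ ten K M :=
    eT.symm ≪≫ (DCoh.LTensorCx F).mapIso
      ((KFlatLib.lpullObjIso (𝟙 X) P hP.1).symm ≪≫ (DCoh.Lpull (𝟙 X)).mapIso eP ≪≫ eid) ≪≫ e1 ≪≫ e2
  have h := RelFlatLib.amp_res_ext_tensor (f.stalkMap ((𝟙 X : X ⟶ X).base x)).hom
    ((𝟙 X : X ⟶ X).stalkMap x).hom (χ := (((𝟙 X) ≫ f).stalkMap x).hom)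
    (by rw [Scheme.Hom.stalkMap_comp]; rfl) (F := (KFlatLib.stalkCx X x).obj F) (a := a) (b := b)
    ((RelFlatLib.ampD_rep (𝟙 X) eF x).1 hK) (KFlatLib.stalks_isKFlat hP.1 ((𝟙 X : X ⟶ X) x))
    ((RelFlatLib.ampD_rep f eP ((𝟙 X : X ⟶ X) x)).1 hM)
  have h2 : RelFlatLib.AmpD (𝟙 X ≫ f) (a + c) (b + d) (ten K M) x :=
    (RelFlatLib.ampD_rep (𝟙 X ≫ f) eAll x).2 (DRingLib.hasTorAmplitudeIn_of_iso (DerivedCategory.Q.mapIso
      (((ModuleCat.restrictScalars.{u} ((𝟙 X ≫ f).stalkMap x).hom).mapHomologicalComplex (ComplexShape.up ℤ)).mapIso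
        (RelFlatLib.stalkPullTensorIso (𝟙 X) x P F).symm)) h)
  rw [RelFlatLib.ampD_congr (Category.id_comp f)] at h2
  exact h2

theorem exists_perfect_nhd {X : Scheme.{u}} {K : DCoh.D X} (hK : DCoh.IsPerfect K) (x : X) :
    ∃ (V : X.Opens) (a b : ℤ), x ∈ V ∧ DCoh.HasFlatAmplitudeIn a b ((resD V.ι).obj K) := by
  obtain ⟨V, hx, hV⟩ := hK x
  obtain ⟨E, ⟨⟨a, b, hE⟩, hf⟩, ⟨e⟩⟩ := hV _ ⟨DerivedCategory.Q.objObjPreimageIso K⟩
  exact ⟨V, a, b, hx, E, hE, fun i => KFlatLib.isFlat_of_isFinLocFree (hf i),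
    ⟨e.symm ≪≫ (resDQIso V.ι _).symm ≪≫ (resD V.ι).mapIso (DerivedCategory.Q.objObjPreimageIso K)⟩⟩

end Helpers

/-- Let f : X ⟶ S be flat and locally of finite presentation, K a perfect object of D(O_X), and M a
cochain complex of O_X-modules whose image in D(O_X) is S-perfect (pseudo-coherent, and locally on X
represented by a bounded complex of O_X-modules flat over S). Assuming the derived functor - ⊗^L M
exists, K ⊗^L_{O_X} M is S-perfect. -/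
theorem result {X S : Scheme.{u}} (f : X ⟶ S) [Flat f] [LocallyOfFinitePresentation f]
    (K : DCoh.D X) (hK : DCoh.IsPerfect K) (M : CochainComplex X.Modules ℤ)
    (hMpc : ∀ m : ℤ, DCoh.IsPseudoCoherentD m (DCoh.toD X M)) (hMtor : DCoh.LocHasFiniteRelTorDim f (DCoh.toD X M))
    [DCoh.HasLTensorCx M] :
    (∀ m : ℤ, DCoh.IsPseudoCoherentD m ((DCoh.LTensorCx M).obj K)) ∧
      DCoh.LocHasFiniteRelTorDim f ((DCoh.LTensorCx M).obj K) := by
  obtain ⟨e⟩ := Groth.Agent.Dual3Lib.ten_lTensor (A := K) M (Iso.refl (DCoh.toD X M))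
  refine ⟨fun m => PerfLib.isPC_of_iso e.symm (PerfLib.isPC_local fun x => ?_), ?_⟩
  · obtain ⟨V₁, a, b, hx₁, E₁, hE₁, -, ⟨i₁⟩⟩ := exists_perfect_nhd hK x
    obtain ⟨V₂, c, d, hx₂, hV₂⟩ := hMtor x
    obtain ⟨E₂, hE₂, -, ⟨i₂⟩⟩ := hV₂ M ⟨Iso.refl _⟩
    haveI := isLE_of_rep E₁ b (fun i hi => hE₁ i (Or.inr hi)) i₁
    haveI := isLE_of_rep E₂ d (fun i hi => hE₂ i (Or.inr hi)) (i₂ ≪≫ (PerfLib.resDQIso V₂.ι M).symm)
    haveI := isLE_res_of_le (inf_le_left : V₁ ⊓ V₂ ≤ V₁) K b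
    haveI := isLE_res_of_le (inf_le_right : V₁ ⊓ V₂ ≤ V₂) (DCoh.toD X M) d
    refine ⟨_, (V₁ ⊓ V₂).ι, inferInstance, ⟨x, hx₁, hx₂⟩, rfl, ?_⟩
    obtain ⟨r⟩ := Groth.Agent.Dual3Lib.ten_restrict (V₁ ⊓ V₂) K (DCoh.toD X M)
    refine PerfLib.isPC_of_iso r.symm ?_
    have h := TensorPCLib.isPC_ten ((PerfLib.resD (V₁ ⊓ V₂).ι).obj K)
      ((PerfLib.resD (V₁ ⊓ V₂).ι).obj (DCoh.toD X M)) (n := m - d) (n' := m - b) (b := b) (b' := d)
      (PerfLib.isPC_res (RelFlatLib.isPC_of_isPerfect hK _) _) (PerfLib.isPC_res (hMpc _) _)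
    rwa [show max (m - d + d) (b + (m - b)) = m by omega] at h
  · refine (RelFlatLib.loc_iff_ampD f).2 fun x => ?_
    obtain ⟨V₁, a, b, hx₁, h₁⟩ := exists_perfect_nhd hK x
    obtain ⟨V₂, c, d, hx₂, h₂⟩ := (RelFlatLib.loc_iff_ampD f).1 hMtor x
    refine ⟨V₁ ⊓ V₂, a + c, b + d, ⟨hx₁, hx₂⟩, fun y hy => RelFlatLib.ampD_of_iso f e.symm ?_⟩
    exact ampD_ten f K _ y ((RelFlatLib.ampD_id_res_iff V₁.ι ⟨y, hy.1⟩ a b K).1
      ((RelFlatLib.flatAmp_iff_ampD _ a b).1 h₁ ⟨y, hy.1⟩)) (h₂ y hy.2)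

end Groth.Agent.S7249
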