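import Groth.Statements.S7250
import Groth.Agent.RelFlatLib.Derived
import Groth.Agent.PerfLib.PCohSummand
import Groth.Agent.PerfLib.PCoh

set_option autoImplicit false
set_option backward.isDefEq.respectTransparency false
set_option backward.isDefEq.respectTransparency.types false
universe u
open CategoryTheory CategoryTheory.Limits AlgebraicGeometry
open scoped ZeroObject
attribute [local instance] HasDerivedCategory.standard
open Perf

namespace Groth.Agent.S7250

/-- Let f : X ⟶ S be flat and locally of finite presentation. The S-perfect objects of D(O_X)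
(pseudo-coherent and locally of finite tor dimension over f⁻¹O_S, the latter in the form: locally
represented by a bounded complex of O_X-modules flat over S) form a saturated triangulated
subcategory: the property contains zero, is stable under all shifts, is closed under the middle term
of distinguished triangles, and is stable under retracts. -/
theorem result {X S : Scheme.{u}} (f : X ⟶ S) [Flat f] [LocallyOfFinitePresentation f] :
    ObjectProperty.IsTriangulated (fun E : DCoh.D X => (∀ m : ℤ, DCoh.IsPseudoCoherentD m E) ∧ DCoh.LocHasFiniteRelTorDim f E) ∧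
    ObjectProperty.IsStableUnderRetracts (fun E : DCoh.D X => (∀ m : ℤ, DCoh.IsPseudoCoherentD m E) ∧ DCoh.LocHasFiniteRelTorDim f E) := by
  constructor
  · refine { exists_zero := ?_, isStableUnderShiftBy := ?_, ext₂' := ?_ }
    · exact ⟨_, isZero_zero _, fun m => PerfLib.isPC_of_isZero_above fun i _ =>
        (DerivedCategory.homologyFunctor X.Modules i).map_isZero (isZero_zero _),
        RelFlatLib.loc_zero f (isZero_zero _)⟩
    · exact fun n => ⟨fun K hK => ⟨fun m => by
        have := PerfLib.isPC_shift (hK.1 (m + n)) n
        rwa [add_sub_cancel_right] at this, RelFlatLib.loc_shift f hK.2 n⟩⟩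
    · exact fun T hT h₁ h₃ => ObjectProperty.le_isoClosure _ _
        ⟨fun m => PerfLib.isPC_obj₂ T hT m (h₁.1 m) (h₃.1 m), RelFlatLib.loc_obj₂ f T hT h₁.2 h₃.2⟩
  · refine ⟨fun {K L} r hL => ⟨fun m => ?_, RelFlatLib.loc_retract f r hL.2⟩⟩
    obtain ⟨C, g, h, hT⟩ := Pretriangulated.distinguished_cocone_triangle r.i
    have h0 : h = 0 := by
      have h1 : h ≫ r.i⟦(1 : ℤ)⟧' = 0 := Pretriangulated.comp_distTriang_mor_zero₃₁ _ hT
      rw [← Category.comp_id h, ← (shiftFunctor (DCoh.D X) (1 : ℤ)).map_id, ← r.retract, Functor.map_comp,
        ← Category.assoc, h1, zero_comp]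
    obtain ⟨e, -⟩ := Pretriangulated.exists_iso_binaryBiproduct_of_distTriang _ hT h0
    exact PerfLib.isPC_summand m C K (PerfLib.isPC_of_iso (e ≪≫ biprod.braiding K C) (hL.1 m))

end Groth.Agent.S7250
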