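import Groth.Statements.S7251
import Groth.Agent.KFlatLib.QCohLpull

set_option autoImplicit false
universe u
open CategoryTheory CategoryTheory.Limits AlgebraicGeometry
attribute [local instance] HasDerivedCategory.standard
open Perf

namespace Groth.Agent.S7251

/-- Let f : X ⟶ Y be a quasi-compact and quasi-separated morphism of schemes. Assume Rf_* exists and
sends D_QCoh(O_X) into D_QCoh(O_Y), let an adjunction Lf^* ⊣ Rf_* be given as data, and assume the
inclusion functors D_QCoh ⥤ D have (chosen) right adjoints DQ_X and DQ_Y. Then Rf_* ∘ DQ_X = DQ_Y ∘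
Rf_*: for every K ∈ D(O_X) the comparison map Rf_*(DQ_X K) ⟶ DQ_Y(Rf_* K) in D_QCoh(O_Y),
corresponding under the adjunction to Rf_* applied to the counit DQ_X K ⟶ K, is an isomorphism. -/
theorem result {X Y : Scheme.{u}} (f : X ⟶ Y) [QuasiCompact f] [QuasiSeparated f]
    [DCoh.HasRpush f] (h : DCoh.RpushPreservesQCoh f) [DCoh.HasLpull f] (adj : DCoh.Lpull f ⊣ DCoh.Rpush f)
    [(ObjectProperty.ι (DCoh.IsQCohD (X := X))).IsLeftAdjoint] [(ObjectProperty.ι (DCoh.IsQCohD (X := Y))).IsLeftAdjoint]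
    (K : DCoh.D X) :
    IsIso ((Adjunction.ofIsLeftAdjoint (ObjectProperty.ι (DCoh.IsQCohD (X := Y)))).homEquiv
      (⟨(DCoh.Rpush f).obj (((ObjectProperty.ι (DCoh.IsQCohD (X := X))).rightAdjoint.obj K).obj),
        h _ (((ObjectProperty.ι (DCoh.IsQCohD (X := X))).rightAdjoint.obj K).property)⟩ : DCoh.DQCoh Y)
      ((DCoh.Rpush f).obj K)
      ((DCoh.Rpush f).map ((Adjunction.ofIsLeftAdjoint (ObjectProperty.ι (DCoh.IsQCohD (X := X)))).counit.app K))) := by
  let ιX := ObjectProperty.ι (DCoh.IsQCohD (X := X))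
  let ιY := ObjectProperty.ι (DCoh.IsQCohD (X := Y))
  let aX := Adjunction.ofIsLeftAdjoint ιX
  let aY := Adjunction.ofIsLeftAdjoint ιY
  let P : DCoh.DQCoh Y := ⟨(DCoh.Rpush f).obj ((ιX.rightAdjoint.obj K).obj),
    h _ (ιX.rightAdjoint.obj K).property⟩
  let c : ιY.obj P ⟶ (DCoh.Rpush f).obj K := (DCoh.Rpush f).map (aX.counit.app K)
  show IsIso (aY.homEquiv P ((DCoh.Rpush f).obj K) c)
  rw [isIso_iff_yoneda_map_bijective]
  intro M
  let LM : DCoh.DQCoh X := ⟨(DCoh.Lpull f).obj M.obj, KFlatLib.isQCohD_lpull f M.obj M.property⟩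
  let e₁ : (M ⟶ P) ≃ (ιY.obj M ⟶ (DCoh.Rpush f).obj ((ιX.rightAdjoint.obj K).obj)) :=
    (ObjectProperty.fullyFaithfulι (DCoh.IsQCohD (X := Y))).homEquiv (X := M) (Y := P)
  let e₂ := (adj.homEquiv M.obj (ιX.rightAdjoint.obj K).obj).symm
  let e₃ : ((DCoh.Lpull f).obj M.obj ⟶ (ιX.rightAdjoint.obj K).obj) ≃ (LM ⟶ ιX.rightAdjoint.obj K) :=
    ((ObjectProperty.fullyFaithfulι (DCoh.IsQCohD (X := X))).homEquiv (X := LM) (Y := ιX.rightAdjoint.obj K)).symm
  let e₄ := (aX.homEquiv LM K).symm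
  let e₅ := adj.homEquiv M.obj K
  let e₆ := aY.homEquiv M ((DCoh.Rpush f).obj K)
  let e := e₁.trans (e₂.trans (e₃.trans (e₄.trans (e₅.trans e₆))))
  convert e.bijective using 1
  funext g
  refine (aY.homEquiv_naturality_left g c).symm.trans (congrArg (aY.homEquiv M _) ?_)
  symm
  refine Eq.trans (congrArg (adj.homEquiv M.obj K) (aX.homEquiv_counit (g := e₃ (e₂ (e₁ g))))) ?_
  refine (adj.homEquiv_naturality_right _ _).trans ?_
  exact congrArg (fun q => q ≫ c) (Equiv.apply_symm_apply (adj.homEquiv M.obj (ιX.rightAdjoint.obj K).obj) g.hom)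

end Groth.Agent.S7251
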