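import Groth.Statements.S7253
import Mathlib
import Groth.Agent.LocEqnLib.Basic
-- import your own Groth.Agent.* helpers here

set_option autoImplicit false
universe u
open CategoryTheory CategoryTheory.Limits AlgebraicGeometry
attribute [local instance] HasDerivedCategory.standard
open Perf

namespace Groth.Agent.S7253

/-- Let X be a scheme, U ⊆ X an open subscheme and Z = X ∖ U. Assume that, locally on X, Z is the
vanishing set of a Koszul-regular sequence having c elements: every point of X has an affine open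
neighbourhood V and a sequence f₁, …, f_c in O_X(V), Koszul-regular in the ring O_X(V), whose common
zero locus meets V exactly in Z ∩ V. Then the local cohomology sheaves ℋ^i_Z(F) (right derived
functors, computed with injective resolutions, of F ↦ ker(F → j_*(F|_U))) vanish for every i ≠ c and
every flat quasi-coherent O_X-module F. -/
theorem result {X : Scheme.{u}} (U : X.Opens) [HasInjectiveResolutions X.Modules]
    (c : ℕ) (hZ : ∀ x : X, ∃ (V : X.Opens) (fs : List Γ(X, V)), x ∈ V ∧ IsAffineOpen V ∧ fs.length = c ∧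
      LCI.IsKoszulRegularSeq Γ(X, V) fs ∧
      X.zeroLocus (U := V) {a | a ∈ fs} ∩ (V : Set ↥X) = (U : Set ↥X)ᶜ ∩ (V : Set ↥X))
    (F : X.Modules) (hF : Coh.IsQCoh F) (hFl : FlatMod.IsFlat F) (i : ℕ) (hi : i ≠ c) :
    IsZero (((DCoh.gammaZ U.ι).rightDerived i).obj F) := by
  haveI := hF
  refine LocEqnLib.isZero_rightDerived_gammaZ U F
    (B := {W | IsAffineOpen W ∧ ∃ (V : X.Opens) (fs : List Γ(X, V)), W ≤ V ∧ IsAffineOpen V ∧ fs.length = c ∧
      LCI.IsKoszulRegularSeq Γ(X, V) fs ∧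
      X.zeroLocus (U := V) {a | a ∈ fs} ∩ (V : Set ↥X) = (U : Set ↥X)ᶜ ∩ (V : Set ↥X)}) ?_ i ?_
  · refine TopologicalSpace.Opens.isBasis_iff_nbhd.2 fun {O x} hx => ?_
    obtain ⟨V, fs, hxV, hVa, hfs, hreg, hV⟩ := hZ x
    obtain ⟨W, hW, hxW, hWle⟩ :=
      TopologicalSpace.Opens.isBasis_iff_nbhd.1 X.isBasis_affineOpens (U := O ⊓ V) ⟨hx, hxV⟩
    exact ⟨W, ⟨hW, V, fs, hWle.trans inf_le_right, hVa, hfs, hreg, hV⟩, hxW, hWle.trans inf_le_left⟩
  · rintro W ⟨hW, V, fs, hWV, hVa, hlen, hreg, hV⟩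
    have hWV' : W.ι ''ᵁ ⊤ ≤ V := by simpa using hWV
    haveI : IsAffine W.toScheme := hW
    have hW' : IsAffineOpen (W.ι ''ᵁ ⊤) := (isAffineOpen_top W.toScheme).image_of_isOpenImmersion W.ι
    refine LocEqnLib.subsingleton_HZ_affine U hW _ (LocEqnLib.iSup_basicOpen_restr U hWV' fs hV) i fun N e => ?_
    have h2 : ((𝟙 X : X ⟶ X).appLE V (W.ι ''ᵁ ⊤) hWV').hom.Flat :=
      (𝟙 X : X ⟶ X).flat_appLE hVa hW' hWV'
    rw [show (𝟙 X : X ⟶ X).appLE V (W.ι ''ᵁ ⊤) hWV' = X.presheaf.map (homOfLE hWV').op by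
      simp only [Scheme.Hom.appLE, Scheme.Hom.id_app]; exact Category.id_comp _] at h2
    letI : Algebra Γ(X, V) Γ(X, W.ι ''ᵁ ⊤) := (X.presheaf.map (homOfLE hWV').op).hom.toAlgebra
    haveI : Module.Flat Γ(X, V) Γ(X, W.ι ''ᵁ ⊤) := h2
    haveI : Module.Flat Γ(X, W.ι ''ᵁ ⊤) Γ(F, W.ι ''ᵁ ⊤) := LocEqnLib.flat_sections F hFl hW'
    haveI : Module.Flat Γ(X, W.ι ''ᵁ ⊤) N := Module.Flat.of_linearEquiv e.toLinearEquiv
    exact KoszPowLib.subsingleton_koszulHLim_of_koszulRegular (KoszPowLib.isKoszulRegularSeq_map hreg) N i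
      (by rw [List.length_map]; omega)

end Groth.Agent.S7253
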