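import Groth.Statements.S7254
import Groth.Agent.QRlimLib.Vanishing

set_option autoImplicit false
universe u
open CategoryTheory CategoryTheory.Limits AlgebraicGeometry
attribute [local instance] HasDerivedCategory.standard
open Perf

namespace Groth.Agent.S7254

/-- Let X be a scheme, F an additive functor from O_X-modules to abelian groups and N ≥ 0 an integer
such that F commutes with countable direct products and RᵖF(G) = 0 (right derived functors computed
with injective resolutions) for every p ≥ N and every quasi-coherent O_X-module G. Assume the total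
right derived functor RF : D(O_X) ⥤ D(Ab) exists. If E ∈ D(O_X) has quasi-coherent cohomology
sheaves and Hⁱ(E) = 0 for i ∉ [a, b], then Hⁱ(RF(E)) = 0 for i ∉ [a, b + N - 1]. -/
theorem result {X : Scheme.{u}} (F : X.Modules ⥤ AddCommGrpCat.{u}) [F.Additive]
    [PreservesLimitsOfShape (Discrete ℕ) F] [HasInjectiveResolutions X.Modules] (N : ℕ)
    (hF : ∀ G : X.Modules, Coh.IsQCoh G → ∀ p : ℕ, N ≤ p → IsZero ((F.rightDerived p).obj G))
    [(F.mapHomotopyCategory (ComplexShape.up ℤ) ⋙ DerivedCategory.Qh).HasRightDerivedFunctor (HomotopyCategory.quasiIso X.Modules (ComplexShape.up ℤ))]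
    (E : DCoh.D X) (hE : DCoh.IsQCohD E) (a b : ℤ) (hab : ∀ i : ℤ, i < a ∨ b < i → IsZero (DCoh.HD E i))
    (i : ℤ) (hi : i < a ∨ b + N - 1 < i) :
    IsZero ((DerivedCategory.homologyFunctor AddCommGrpCat.{u} i).obj
      (((F.mapHomotopyCategory (ComplexShape.up ℤ) ⋙ DerivedCategory.Qh).totalRightDerived DerivedCategory.Qh
        (HomotopyCategory.quasiIso X.Modules (ComplexShape.up ℤ))).obj E)) := by
  let α := (F.mapHomotopyCategory (ComplexShape.up ℤ) ⋙ DerivedCategory.Qh).totalRightDerivedUnit
    DerivedCategory.Qh (HomotopyCategory.quasiIso X.Modules (ComplexShape.up ℤ))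
  let RF := (F.mapHomotopyCategory (ComplexShape.up ℤ) ⋙ DerivedCategory.Qh).totalRightDerived
    DerivedCategory.Qh (HomotopyCategory.quasiIso X.Modules (ComplexShape.up ℤ))
  haveI : EnoughInjectives X.Modules := IsGrothendieckAbelian.enoughInjectives.{u}
  have low : ∀ c : ℤ, E.IsGE c → i < c →
      IsZero ((DerivedCategory.homologyFunctor AddCommGrpCat.{u} i).obj (RF.obj E)) := fun c hc hic =>
    Groth.Agent.DerLib.Amplitude.leftBound_rightDerived F RF α KFlatLib.enoughKInj_modules E c i hc
      (by omega)
  by_cases hba : b < a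
  · refine low (i + 1) ?_ (by omega)
    rw [DerivedCategory.isGE_iff]
    exact fun j _ => hab j (by omega)
  haveI : E.IsGE a := (DerivedCategory.isGE_iff E a).2 fun j hj => hab j (Or.inl hj)
  rcases hi with hi | hi
  · exact low a ‹_› hi
  obtain ⟨k, hk⟩ := Int.le.dest (show a ≤ b by omega)
  haveI : E.IsLE (a + k) := (DerivedCategory.isLE_iff E (a + k)).2 fun j hj => hab j (Or.inr (by omega))
  obtain ⟨_, _⟩ := Groth.Agent.DerLib.KInjDerived.exists_isTriangulated_map KFlatLib.enoughKInj_modules
    F RF α
  exact QRlimLib.isZero_homology_of_qcoh_single RF N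
    (fun M hM j hj => QRlimLib.isZero_rightDerived_single F RF α M N (hF M hM) j hj)
    a k E hE i (by omega)

end Groth.Agent.S7254
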