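import Groth.Statements.S7255
import Groth.Agent.DQBoundLib.Main
import Groth.Agent.KFlatLib.PerfectPull

set_option autoImplicit false
set_option backward.isDefEq.respectTransparency false
set_option backward.isDefEq.respectTransparency.types false
universe u
open CategoryTheory CategoryTheory.Limits AlgebraicGeometry
attribute [local instance] HasDerivedCategory.standard
open Perf

namespace Groth.Agent.S7255

/-- Let X be a quasi-compact and quasi-separated scheme and let DQ_X be the (chosen) right adjoint of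
the inclusion D_QCoh(O_X) ⥤ D(O_X). Assuming the derived global sections functors RΓ(U, -) exist on
D(O_U) for the opens U of X, there is an integer N = N(X) ≥ 0 with the following property: if K ∈
D(O_X) satisfies Hⁱ(U, K|_U) = 0 for every affine open U ⊆ X and every i ∉ [a, b], then the
cohomology sheaves Hⁱ(DQ_X(K)) are zero for i ∉ [a, b + N]. -/
theorem result (X : Scheme.{u}) [CompactSpace ↥X] [QuasiSeparatedSpace ↥X]
    [(ObjectProperty.ι (DCoh.IsQCohD (X := X))).IsLeftAdjoint] [∀ U : X.Opens, DCoh.HasRΓ (U : Scheme.{u})] :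
    ∃ N : ℕ, ∀ (K : DCoh.D X) (a b : ℤ),
      (∀ U : X.Opens, IsAffineOpen U → ∀ i : ℤ, (i < a ∨ b < i) →
        IsZero ((DerivedCategory.homologyFunctor AddCommGrpCat.{u} i).obj
          ((DCoh.RΓ (U : Scheme.{u})).obj ((DCoh.restrictD U.ι).obj K)))) →
      ∀ i : ℤ, (i < a ∨ b + (N : ℤ) < i) →
        IsZero (DCoh.HD (((ObjectProperty.ι (DCoh.IsQCohD (X := X))).rightAdjoint.obj K).obj) i) := by
  obtain ⟨N, hN⟩ := DQBoundLib.bd_of_qcqs (X := X)
  refine ⟨N, fun K a b h i hi => ?_⟩
  let ι := ObjectProperty.ι (DCoh.IsQCohD (X := X))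
  let adj := Adjunction.ofIsLeftAdjoint ι
  have hq : DQBoundLib.IsDQ (adj.counit.app K) := by
    refine ⟨(ι.rightAdjoint.obj K).property, fun M hM => ?_⟩
    have hb := (((DCoh.IsQCohD (X := X)).fullyFaithfulι.homEquiv (X := ⟨M, hM⟩) (Y := ι.rightAdjoint.obj K)).symm.trans
      (adj.homEquiv ⟨M, hM⟩ K).symm).bijective
    convert hb using 1
    funext f
    simp [Adjunction.homEquiv_counit]
    rfl
  refine hN K a b (fun Z g _ hZ j hj φ => ?_) _ _ hq i hi
  let U := g.opensRange
  let c := g.isoOpensRange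
  have hU : IsAffineOpen U := isAffineOpen_opensRange g
  let L := (DCoh.restrictD U.ι).obj K
  obtain ⟨e₁⟩ := PerfLib.nonempty_resD_congr (show g = c.hom ≫ U.ι from (Scheme.Hom.isoOpensRange_hom_ι g).symm) K
  obtain ⟨e₂⟩ := PerfLib.nonempty_resD_comp c.hom U.ι K
  haveI := (KoszOrthLib.full_restrictD_iso c.hom).1
  let R := DCoh.restrictD c.hom
  let eO : R.obj (DCoh.inD (U : Scheme.{u}) (Coh.structureModule (U : Scheme.{u}))) ≅
      PerfHomLib.free0 (⊤ : Z.Opens) :=
    ((Scheme.Modules.restrictFunctor c.hom).mapDerivedCategorySingleFunctor 0).app _ ≪≫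
      (DerivedCategory.singleFunctor Z.Modules 0).mapIso
        ((Scheme.Modules.restrictFunctorIsoPullback c.hom).app _ ≪≫ KFlatLib.pullUnitIso c.hom ≪≫
          (KFlatLib.structureIso Z).symm) ≪≫
      (DerivedCategory.singleFunctorIsoCompQ Z.Modules 0).app _
  let eK : R.obj (L⟦j⟧) ≅ ((DCoh.restrictD g).obj K)⟦j⟧ :=
    (R.commShiftIso j).app L ≪≫ (shiftFunctor _ j).mapIso (e₁ ≪≫ e₂).symm
  obtain ⟨ψ, hψ⟩ := R.map_surjective (eO.hom ≫ φ ≫ eK.inv)
  have hψ0 : ψ = 0 := KoszOrthLib.hom_unit_shift_eq_zero L j (h U hU j hj) ψ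
  rw [hψ0, Functor.map_zero] at hψ
  exact zero_of_epi_comp eO.hom (zero_of_comp_mono eK.inv (by rw [Category.assoc]; exact hψ.symm))

end Groth.Agent.S7255
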