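import Groth.Statements.S7271
import Groth.Agent.CoheratorPushLib.Main
import Groth.Agent.KFlatLib.LpullAdj
import Groth.Agent.KFlatLib.QCohPull
import Groth.Agent.CohGenLib.Pro
import Mathlib.CategoryTheory.Adjunction.Unique
import Mathlib.CategoryTheory.Adjunction.FullyFaithful
-- import your own Groth.Agent.* helpers here

set_option autoImplicit false
universe u
open CategoryTheory CategoryTheory.Limits AlgebraicGeometry
attribute [local instance] HasDerivedCategory.standard
open Perf

namespace Groth.Agent.S7271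

/-- Let f : X ⟶ Y be a quasi-compact, quasi-separated and flat morphism of schemes. Granting that
quasi-coherent modules on X and on Y contain zero and are closed under kernels, cokernels and finite
products, with exact inclusions (instance hypotheses making QCoh abelian), let Q_X and Q_Y be
coherators (right adjoints of the inclusions QCoh ⥤ Mod, given with their adjunctions), let RQ_X,
RQ_Y be their total right derived functors and Φ the total right derived functor of f_* : QCoh(O_X)
⥤ QCoh(O_Y) (existence binders; f_* preserves quasi-coherence by hypothesis hf). Then RQ_Y ∘ Rf_* =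
Φ ∘ RQ_X as functors D(O_X) ⥤ D(QCoh(O_Y)) (existence of a natural isomorphism only). -/
theorem result {X Y : Scheme.{u}} (f : X ⟶ Y)
    [QuasiCompact f] [QuasiSeparated f] [Flat f] [DCoh.HasRpush f]
    [ObjectProperty.ContainsZero (fun M : X.Modules => Coh.IsQCoh M)] [ObjectProperty.IsClosedUnderKernels (fun M : X.Modules => Coh.IsQCoh M)]
    [ObjectProperty.IsClosedUnderCokernels (fun M : X.Modules => Coh.IsQCoh M)] [ObjectProperty.IsClosedUnderFiniteProducts (fun M : X.Modules => Coh.IsQCoh M)]
    [PreservesFiniteLimits (ObjectProperty.ι (fun M : X.Modules => Coh.IsQCoh M))] [PreservesFiniteColimits (ObjectProperty.ι (fun M : X.Modules => Coh.IsQCoh M))]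
    [ObjectProperty.ContainsZero (fun M : Y.Modules => Coh.IsQCoh M)] [ObjectProperty.IsClosedUnderKernels (fun M : Y.Modules => Coh.IsQCoh M)]
    [ObjectProperty.IsClosedUnderCokernels (fun M : Y.Modules => Coh.IsQCoh M)] [ObjectProperty.IsClosedUnderFiniteProducts (fun M : Y.Modules => Coh.IsQCoh M)]
    [PreservesFiniteLimits (ObjectProperty.ι (fun M : Y.Modules => Coh.IsQCoh M))] [PreservesFiniteColimits (ObjectProperty.ι (fun M : Y.Modules => Coh.IsQCoh M))]
    (QX : X.Modules ⥤ ObjectProperty.FullSubcategory (fun M : X.Modules => Coh.IsQCoh M)) (adjX : ObjectProperty.ι (fun M : X.Modules => Coh.IsQCoh M) ⊣ QX)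
    (QY : Y.Modules ⥤ ObjectProperty.FullSubcategory (fun M : Y.Modules => Coh.IsQCoh M)) (adjY : ObjectProperty.ι (fun M : Y.Modules => Coh.IsQCoh M) ⊣ QY)
    [QX.Additive] [QY.Additive]
    [(QX.mapHomotopyCategory (ComplexShape.up ℤ) ⋙ DerivedCategory.Qh).HasRightDerivedFunctor (HomotopyCategory.quasiIso X.Modules (ComplexShape.up ℤ))] [(QY.mapHomotopyCategory (ComplexShape.up ℤ) ⋙ DerivedCategory.Qh).HasRightDerivedFunctor (HomotopyCategory.quasiIso Y.Modules (ComplexShape.up ℤ))]
    (hf : ∀ M : X.Modules, Coh.IsQCoh M → Coh.IsQCoh ((Scheme.Modules.pushforward f).obj M))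
    [(ObjectProperty.lift (fun M : Y.Modules => Coh.IsQCoh M) (ObjectProperty.ι (fun M : X.Modules => Coh.IsQCoh M) ⋙ Scheme.Modules.pushforward f) (fun M => hf M.obj M.property)).Additive]
    [((ObjectProperty.lift (fun M : Y.Modules => Coh.IsQCoh M) (ObjectProperty.ι (fun M : X.Modules => Coh.IsQCoh M) ⋙ Scheme.Modules.pushforward f) (fun M => hf M.obj M.property)).mapHomotopyCategory (ComplexShape.up ℤ) ⋙ DerivedCategory.Qh).HasRightDerivedFunctor (HomotopyCategory.quasiIso (ObjectProperty.FullSubcategory (fun M : X.Modules => Coh.IsQCoh M)) (ComplexShape.up ℤ))] :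
    Nonempty (DCoh.Rpush f ⋙ (QY.mapHomotopyCategory (ComplexShape.up ℤ) ⋙ DerivedCategory.Qh).totalRightDerived DerivedCategory.Qh (HomotopyCategory.quasiIso Y.Modules (ComplexShape.up ℤ)) ≅
      (QX.mapHomotopyCategory (ComplexShape.up ℤ) ⋙ DerivedCategory.Qh).totalRightDerived DerivedCategory.Qh (HomotopyCategory.quasiIso X.Modules (ComplexShape.up ℤ)) ⋙
        ((ObjectProperty.lift (fun M : Y.Modules => Coh.IsQCoh M) (ObjectProperty.ι (fun M : X.Modules => Coh.IsQCoh M) ⋙ Scheme.Modules.pushforward f) (fun M => hf M.obj M.property)).mapHomotopyCategory (ComplexShape.up ℤ) ⋙ DerivedCategory.Qh).totalRightDerived DerivedCategory.Qh (HomotopyCategory.quasiIso (ObjectProperty.FullSubcategory (fun M : X.Modules => Coh.IsQCoh M)) (ComplexShape.up ℤ))) := by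
  haveI := CohGenLib.preservesFiniteLimits_pullback_flat f
  haveI : (Scheme.Modules.pullback f).Additive :=
    (Scheme.Modules.pullbackPushforwardAdjunction f).left_adjoint_additive
  haveI : PreservesFiniteColimits (Scheme.Modules.pullback f) :=
    haveI := (Scheme.Modules.pullbackPushforwardAdjunction f).leftAdjoint_preservesColimits
    inferInstance
  let WX := fun M : X.Modules => Coh.IsQCoh M
  let WY := fun M : Y.Modules => Coh.IsQCoh M
  let PF := ObjectProperty.lift WY (ObjectProperty.ι WX ⋙ Scheme.Modules.pushforward f) (fun M => hf M.obj M.property)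
  let PB := ObjectProperty.lift WX (ObjectProperty.ι WY ⋙ Scheme.Modules.pullback f)
    (fun M => @KFlatLib.isQCoh_pullback _ _ f M.obj M.property)
  let adjP : PB ⊣ PF := (Scheme.Modules.pullbackPushforwardAdjunction f).restrictFullyFaithful
    (ObjectProperty.fullyFaithfulι WY) (ObjectProperty.fullyFaithfulι WX) (Iso.refl _) (Iso.refl _)
  let ε : Scheme.Modules.pushforward f ⋙ QY ≅ QX ⋙ PF :=
    (adjY.comp (Scheme.Modules.pullbackPushforwardAdjunction f)).rightAdjointUniq
      ((adjP.comp adjX).ofNatIsoLeft (Iso.refl _))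
  let c := ComplexShape.up ℤ
  let εK : (Scheme.Modules.pushforward f).mapHomotopyCategory c ⋙ (QY.mapHomotopyCategory c ⋙ DerivedCategory.Qh) ≅
      QX.mapHomotopyCategory c ⋙ (PF.mapHomotopyCategory c ⋙ DerivedCategory.Qh) :=
    (Functor.associator _ _ _).symm ≪≫ Functor.isoWhiskerRight
      (Functor.mapHomotopyCategoryCompIso (Iso.refl (Scheme.Modules.pushforward f ⋙ QY)) c ≪≫
        (Functor.mapHomotopyCategoryCompIso ε.symm c).symm) DerivedCategory.Qh ≪≫ Functor.associator _ _ _
  let βf := (DCoh.pushKh f).totalRightDerivedUnit DerivedCategory.Qh (HomotopyCategory.quasiIso X.Modules c)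
  let βX := (QX.mapHomotopyCategory c ⋙ DerivedCategory.Qh).totalRightDerivedUnit DerivedCategory.Qh
    (HomotopyCategory.quasiIso X.Modules c)
  haveI := Functor.IsRightDerivedFunctor.isLeftKanExtension
    ((QY.mapHomotopyCategory c ⋙ DerivedCategory.Qh).totalRightDerived DerivedCategory.Qh
      (HomotopyCategory.quasiIso Y.Modules c))
    ((QY.mapHomotopyCategory c ⋙ DerivedCategory.Qh).totalRightDerivedUnit DerivedCategory.Qh
      (HomotopyCategory.quasiIso Y.Modules c)) (HomotopyCategory.quasiIso Y.Modules c)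
  haveI := Functor.IsRightDerivedFunctor.isLeftKanExtension
    ((PF.mapHomotopyCategory c ⋙ DerivedCategory.Qh).totalRightDerived DerivedCategory.Qh
      (HomotopyCategory.quasiIso _ c))
    ((PF.mapHomotopyCategory c ⋙ DerivedCategory.Qh).totalRightDerivedUnit DerivedCategory.Qh
      (HomotopyCategory.quasiIso _ c)) (HomotopyCategory.quasiIso _ c)
  exact CoheratorPushLib.nonempty_comp_iso
    (DerLib.KInjDerived.derivedAdj (Scheme.Modules.pullbackPushforwardAdjunction f) (DCoh.Rpush f) βf
      KFlatLib.enoughKInj_modules)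
    (DerLib.KInjDerived.mapHomotopyCategoryAdj (Scheme.Modules.pullbackPushforwardAdjunction f) c)
    (Scheme.Modules.pullback f).mapDerivedCategoryFactorsh _
    ((QY.mapHomotopyCategory c ⋙ DerivedCategory.Qh).totalRightDerivedUnit DerivedCategory.Qh
      (HomotopyCategory.quasiIso Y.Modules c))
    (DerLib.KInjDerived.derivedAdj adjX _ βX KFlatLib.enoughKInj_modules)
    (DerLib.KInjDerived.mapHomotopyCategoryAdj adjX c)
    (ObjectProperty.ι WX).mapDerivedCategoryFactorsh _
    ((PF.mapHomotopyCategory c ⋙ DerivedCategory.Qh).totalRightDerivedUnit DerivedCategory.Qh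
      (HomotopyCategory.quasiIso _ c))
    εK

end Groth.Agent.S7271
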