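import Groth.Statements.S7275
import Groth.Agent.RelFlatLib.RelOpen

set_option autoImplicit false
set_option backward.isDefEq.respectTransparency false
set_option backward.isDefEq.respectTransparency.types false
universe u
open CategoryTheory CategoryTheory.Limits AlgebraicGeometry
attribute [local instance] HasDerivedCategory.standard
open Perf

namespace Groth.Agent.S7275

/-- Let f : X ⟶ S be flat and locally of finite presentation and E ∈ D(O_X). Then E is S-perfect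
(pseudo-coherent, and locally on X represented by a bounded complex of O_X-modules flat over S) if
and only if E satisfies the alternative definition of relative perfectness: locally on X, E becomes
isomorphic in the derived category to a bounded complex whose terms are O_X-modules of finite
presentation that are S-flat (every point has an open neighbourhood V such that the restriction to V
of any representing complex is isomorphic in D(O_V) to such a complex). -/
theorem result {X S : Scheme.{u}} (f : X ⟶ S)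
    [Flat f] [LocallyOfFinitePresentation f] (E : DCoh.D X) :
    ((∀ m : ℤ, DCoh.IsPseudoCoherentD m E) ∧ DCoh.LocHasFiniteRelTorDim f E) ↔
      ∀ x : X, ∃ V : X.Opens, x ∈ V ∧ ∀ F : CochainComplex X.Modules ℤ, Nonempty (DCoh.toD X F ≅ E) →
        ∃ (G : CochainComplex (V : Scheme.{u}).Modules ℤ) (a b : ℤ), DCoh.VanishesOutside G a b ∧
          (∀ i : ℤ, CohB1.IsFP (G.X i) ∧ FlatMod.IsFlatOver (V.ι ≫ f) (G.X i)) ∧
          Nonempty (DerivedCategory.Q.obj ((DCoh.restrictCx V).obj F) ≅ DerivedCategory.Q.obj G) := by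
  obtain ⟨F₀, ⟨e₀⟩⟩ : ∃ F : CochainComplex X.Modules ℤ, Nonempty (DCoh.toD X F ≅ E) :=
    ⟨_, ⟨DerivedCategory.Q.objObjPreimageIso E⟩⟩
  constructor
  · rintro ⟨hpc, hloc⟩ x
    obtain ⟨V, a, b, hxV, hamp⟩ := (RelFlatLib.loc_iff_ampD f).1 hloc x
    let K := (PerfLib.resD V.ι).obj E
    let g := V.ι ≫ f
    let eK : DCoh.toD _ ((PerfLib.resC V.ι).obj F₀) ≅ K :=
      (PerfLib.resDQIso V.ι F₀).symm ≪≫ (PerfLib.resD V.ι).mapIso e₀
    have hK : ∀ v, RelFlatLib.AmpD g a b K v := fun v =>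
      (RelFlatLib.ampD_res_iff V.ι f v a b E).2 (hamp _ v.2)
    have hHK : ∀ i, i < a → IsZero (DCoh.HD K i) := fun i hi =>
      (RelFlatLib.isZero_homology_of_ampAt g (F := (PerfLib.resC V.ι).obj F₀) (Or.inl hi)
        (fun v => (RelFlatLib.ampD_rep g eK v).1 (hK v))).of_iso
        (((DerivedCategory.homologyFunctor _ i).mapIso eK).symm ≪≫
          (DerivedCategory.homologyFunctorFactors _ i).app _)
    obtain ⟨W, k, hk, w, T, B, hkw, hTv, hTflat, hTfp, ⟨eT⟩⟩ :=
      RelFlatLib.exists_trunc_model (PerfLib.isPC_res (hpc _) V.ι) hHK ⟨x, hxV⟩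
    have hfl : ∀ i, FlatMod.IsFlatOver (k ≫ g) (T.X i) := fun i => by
      rcases lt_trichotomy i a with hi | hi | hi
      · exact RelFlatLib.isFlatOver_of_isZero _ (hTv i (Or.inl hi))
      · subst hi
        exact fun z => RelFlatLib.isFlatOverAt_of_amp (k ≫ g) hTv
          (fun j hj => RelFlatLib.isFlatOver_of_isFlat _ (hTflat j hj))
          (RelFlatLib.ampD_of_iso _ eT.symm ((RelFlatLib.ampD_res_iff k g z i b K).2 (hK _)))
      · exact RelFlatLib.isFlatOver_of_isFlat _ (hTflat i hi)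
    let l := k ≫ V.ι
    let r := (Scheme.Hom.isoOpensRange l).inv
    have hr : r ≫ l = l.opensRange.ι := Scheme.Hom.isoOpensRange_inv_comp l
    refine ⟨l.opensRange, ⟨w, congrArg Subtype.val hkw⟩, fun F ⟨eF⟩ => ?_⟩
    refine ⟨(PerfLib.resC r).obj T, a, B, fun i hi => (PerfLib.res r).map_isZero (hTv i hi),
      fun i => ⟨RelFlatLib.isFP_of_fpfree ((hTfp i).res r), ?_⟩, ?_⟩
    · have h1 : FlatMod.IsFlatOver (r ≫ k ≫ g) (((PerfLib.resC r).obj T).X i) :=
        RelFlatLib.isFlatOver_res_of r fun z => hfl i _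
      have he : r ≫ k ≫ g = l.opensRange.ι ≫ f := by rw [← hr]; simp [l, g]
      rwa [he] at h1
    · obtain ⟨c₁⟩ := PerfLib.nonempty_resD_comp k V.ι E
      obtain ⟨c₂⟩ := PerfLib.nonempty_resD_comp r l E
      obtain ⟨c₃⟩ := PerfLib.nonempty_resD_congr hr E
      exact ⟨(PerfLib.resDQIso l.opensRange.ι F).symm ≪≫ (PerfLib.resD _).mapIso eF ≪≫ c₃.symm ≪≫ c₂ ≪≫
        (PerfLib.resD r).mapIso (c₁ ≪≫ eT.symm) ≪≫ PerfLib.resDQIso r T⟩
  · intro h
    have hloc : ∀ x : X, ∃ (V : X.Opens) (a b : ℤ) (G : CochainComplex (V : Scheme.{u}).Modules ℤ),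
        x ∈ V ∧ DCoh.VanishesOutside G a b ∧
        (∀ i : ℤ, CohB1.IsFP (G.X i) ∧ FlatMod.IsFlatOver (V.ι ≫ f) (G.X i)) ∧
        Nonempty (DCoh.toD _ G ≅ (PerfLib.resD V.ι).obj E) := fun x => by
      obtain ⟨V, hxV, hV⟩ := h x
      obtain ⟨G, a, b, hv, hG, ⟨eG⟩⟩ := hV F₀ ⟨e₀⟩
      exact ⟨V, a, b, G, hxV, hv, hG,
        ⟨eG.symm ≪≫ (PerfLib.resDQIso V.ι F₀).symm ≪≫ (PerfLib.resD V.ι).mapIso e₀⟩⟩
    refine ⟨fun m => (PerfLib.isPC_iff m E).2 fun x => ?_, (RelFlatLib.loc_iff_ampD f).2 fun x => ?_⟩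
    · obtain ⟨V, a, b, G, hxV, hv, hG, ⟨e⟩⟩ := hloc x
      have hG' : DCoh.IsPseudoCoherentD m (DCoh.toD _ G) :=
        (RelFlatLib.rel_id_iff (V.ι ≫ f) m _).1 (RelPCSchLib.relAll_of_flat_terms (V.ι ≫ f) G b
          (fun i hi => hv i (Or.inr hi)) (fun i => (hG i).2)
          (fun i => (RelFlatLib.rel_id_iff (V.ι ≫ f) (-1) _).2 (PerfLib.isPC_neg_one_of_isFP (hG i).1)) m)
      obtain ⟨Z, j, hj, z, hz, hm⟩ := (PerfLib.isPC_iff m _).1 (PerfLib.isPC_of_iso e hG') ⟨x, hxV⟩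
      exact ⟨Z, j ≫ V.ι, inferInstance, z, congrArg Subtype.val hz, PerfLib.hasPC_of_res j V.ι hm⟩
    · obtain ⟨V, a, b, G, hxV, hv, hG, ⟨e⟩⟩ := hloc x
      exact ⟨V, a, b, hxV, fun x' hx' => (RelFlatLib.ampD_res_iff V.ι f ⟨x', hx'⟩ a b E).1
        ((RelFlatLib.ampD_rep _ e _).2
          (RelPCSchLib.hasTorAmplitude_of_flat_terms (V.ι ≫ f) G a b hv (fun i => (hG i).2) _))⟩

end Groth.Agent.S7275
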