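import Groth.Statements.S7278
import Groth.Agent.RelFlatLib.Local
import Groth.Agent.RelFlatLib.Affine
import Groth.Agent.TildePCLib.Main
import Groth.Agent.TildeDerLib.Affine
import Groth.Agent.AffPushPCLib.Main
import Groth.Agent.S7264

set_option autoImplicit false
set_option backward.isDefEq.respectTransparency false
set_option backward.isDefEq.respectTransparency.types false
universe u
open CategoryTheory CategoryTheory.Limits AlgebraicGeometry Opposite
attribute [local instance] HasDerivedCategory.standard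
open Perf

namespace Groth.Agent.S7278

/-- Let f : X ⟶ S be flat and locally of finite presentation and E an object of D(O_X) with
quasi-coherent cohomology sheaves (tilde recorded as exact). For affine opens U ⊆ X and V ⊆ S with
f(U) ⊆ V, say that E is algebraically perfect on U over V when every M ∈ D(Γ(U, O_X)) whose
associated object M~ on Spec Γ(U, O_X) is isomorphic to the restriction E|_U (transported along U ≅
Spec Γ(U, O_X)) is Γ(V, O_S)-perfect: pseudo-coherent as a complex of Γ(U, O_X)-modules and of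
finite tor dimension over Γ(V, O_S) through f^♯ (such M exist and are unique up to isomorphism,
namely RΓ(U, E)). Then: E is S-perfect (pseudo-coherent, and locally on X represented by a bounded
complex of O_X-modules flat over S) if and only if E is algebraically perfect on every affine open U
over every affine open V with U ⊆ f⁻¹V; and E is S-perfect as soon as this holds for the members
U_ij of affine open coverings f⁻¹V_i = ⋃ U_ij attached to an affine open covering S = ⋃ V_i. -/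
theorem result {X S : Scheme.{u}} (f : X ⟶ S) [Flat f] [LocallyOfFinitePresentation f]
    [∀ R : CommRingCat.{u}, PreservesFiniteLimits (tilde.functor R)]
    (E : DCoh.D X) (hE : DCoh.IsQCohD E) :
    (((∀ m : ℤ, DCoh.IsPseudoCoherentD m E) ∧ DCoh.LocHasFiniteRelTorDim f E) ↔
      ∀ (U : X.Opens) (hU : IsAffineOpen U) (V : S.Opens) (hV : IsAffineOpen V) (hUV : U ≤ f ⁻¹ᵁ V)
        (M : DerivedCategory (ModuleCat.{u} Γ(X, U))),
        Nonempty ((DCoh.restrictD hU.isoSpec.inv).obj ((DCoh.restrictD U.ι).obj E) ≅ (DCoh.tildeD Γ(X, U)).obj M) →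
          @Dual2.IsRelPerfect Γ(S, V) Γ(X, U) _ _ (f.appLE V U hUV).hom.toAlgebra M) ∧
    (∀ (ι : Type u) (V : ι → S.Opens) (hV : ∀ i, IsAffineOpen (V i)) (hVcov : ⨆ i, V i = ⊤)
        (κ : ι → Type u) (U : ∀ i, κ i → X.Opens) (hU : ∀ i j, IsAffineOpen (U i j))
        (hUV : ∀ i j, U i j ≤ f ⁻¹ᵁ V i) (hUcov : ∀ i, ⨆ j, U i j = f ⁻¹ᵁ V i),
        (∀ (i : ι) (j : κ i) (M : DerivedCategory (ModuleCat.{u} Γ(X, U i j))),
          Nonempty ((DCoh.restrictD (hU i j).isoSpec.inv).obj ((DCoh.restrictD (U i j).ι).obj E) ≅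
              (DCoh.tildeD Γ(X, U i j)).obj M) →
            @Dual2.IsRelPerfect Γ(S, V i) Γ(X, U i j) _ _ (f.appLE (V i) (U i j) (hUV i j)).hom.toAlgebra M) →
        (∀ m : ℤ, DCoh.IsPseudoCoherentD m E) ∧ DCoh.LocHasFiniteRelTorDim f E) := by
  have hres : ∀ (U : X.Opens) (hU : IsAffineOpen U),
      Nonempty ((DCoh.restrictD hU.isoSpec.inv).obj ((DCoh.restrictD U.ι).obj E) ≅
        (PerfLib.resD hU.fromSpec).obj E) := fun U hU => by
    obtain ⟨c⟩ := PerfLib.nonempty_resD_comp hU.isoSpec.inv U.ι E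
    obtain ⟨d⟩ := PerfLib.nonempty_resD_congr hU.isoSpec_inv_ι E
    exact ⟨c.symm ≪≫ d⟩
  have key : ∀ (ι : Type u) (V : ι → S.Opens) (hV : ∀ i, IsAffineOpen (V i)) (hVcov : ⨆ i, V i = ⊤)
      (κ : ι → Type u) (U : ∀ i, κ i → X.Opens) (hU : ∀ i j, IsAffineOpen (U i j))
      (hUV : ∀ i j, U i j ≤ f ⁻¹ᵁ V i) (hUcov : ∀ i, ⨆ j, U i j = f ⁻¹ᵁ V i),
      (∀ (i : ι) (j : κ i) (M : DerivedCategory (ModuleCat.{u} Γ(X, U i j))),
        Nonempty ((DCoh.restrictD (hU i j).isoSpec.inv).obj ((DCoh.restrictD (U i j).ι).obj E) ≅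
            (DCoh.tildeD Γ(X, U i j)).obj M) →
          @Dual2.IsRelPerfect Γ(S, V i) Γ(X, U i j) _ _ (f.appLE (V i) (U i j) (hUV i j)).hom.toAlgebra M) →
      (∀ m : ℤ, DCoh.IsPseudoCoherentD m E) ∧ DCoh.LocHasFiniteRelTorDim f E := by
    intro ι V hV hVcov κ U hU hUV hUcov H
    have hp : ∀ x : X, ∃ i j, x ∈ U i j := fun x => by
      obtain ⟨i, hi⟩ := TopologicalSpace.Opens.mem_iSup.1 (show f x ∈ ⨆ i, V i by rw [hVcov]; trivial)
      exact ⟨i, TopologicalSpace.Opens.mem_iSup.1 (show x ∈ ⨆ j, U i j by rw [hUcov]; exact hi)⟩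
    have hloc : ∀ i j, (∀ m : ℤ, DCoh.IsPseudoCoherentD m ((PerfLib.resD (hU i j).fromSpec).obj E)) ∧
        DCoh.LocHasFiniteRelTorDim (Spec.map (f.appLE (V i) (U i j) (hUV i j)))
          ((PerfLib.resD (hU i j).fromSpec).obj E) := fun i j => by
      letI := (f.appLE (V i) (U i j) (hUV i j)).hom.toAlgebra
      haveI : Module.Flat Γ(S, V i) Γ(X, U i j) := f.flat_appLE (hV i) (hU i j) (hUV i j)
      haveI : Algebra.FinitePresentation Γ(S, V i) Γ(X, U i j) :=
        f.finitePresentation_appLE (hV i) (hU i j) (hUV i j)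
      obtain ⟨M, ⟨e⟩⟩ := (TildeDerLib.isQCohD_iff Γ(X, U i j) _).1
        (AffPushPCLib.isQCohD_res (hU i j).fromSpec hE)
      obtain ⟨c⟩ := hres (U i j) (hU i j)
      haveI : Flat (Spec.map (CommRingCat.ofHom (algebraMap Γ(S, V i) Γ(X, U i j)))) :=
        RelFlatLib.flat_specMap_appLE f (hU i j) (hV i) (hUV i j)
      obtain ⟨h₁, h₂⟩ := (Groth.Agent.S7264.result Γ(S, V i) Γ(X, U i j) M).2 (H i j M ⟨c ≪≫ e.symm⟩)
      refine ⟨fun m => PerfLib.isPC_of_iso e (h₁ m), ?_⟩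
      exact (RelFlatLib.loc_iff_ampD _).2 fun y => by
        obtain ⟨W, a, b, hy, hW⟩ := (RelFlatLib.loc_iff_ampD _).1 h₂ y
        exact ⟨W, a, b, hy, fun y' hy' => RelFlatLib.ampD_of_iso _ e (hW y' hy')⟩
    refine ⟨fun m => PerfLib.isPC_local fun x => ?_, RelFlatLib.loc_of_charts f fun x => ?_⟩
    · obtain ⟨i, j, hx⟩ := hp x
      obtain ⟨y, hy⟩ : x ∈ Set.range (hU i j).fromSpec := by rw [(hU i j).range_fromSpec]; exact hx
      exact ⟨_, (hU i j).fromSpec, inferInstance, y, hy, (hloc i j).1 m⟩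
    · obtain ⟨i, j, hx⟩ := hp x
      exact ⟨U i j, hU i j, V i, hV i, hUV i j, hx, (hloc i j).2⟩
  refine ⟨⟨fun h U hU V hV hUV M hM => ?_, fun H => ?_⟩, key⟩
  · obtain ⟨e⟩ := hM
    obtain ⟨c⟩ := hres U hU
    letI := (f.appLE V U hUV).hom.toAlgebra
    haveI : Module.Flat Γ(S, V) Γ(X, U) := f.flat_appLE hV hU hUV
    haveI : Algebra.FinitePresentation Γ(S, V) Γ(X, U) := f.finitePresentation_appLE hV hU hUV
    haveI : Flat (Spec.map (CommRingCat.ofHom (algebraMap Γ(S, V) Γ(X, U)))) :=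
      RelFlatLib.flat_specMap_appLE f hU hV hUV
    refine (Groth.Agent.S7264.result Γ(S, V) Γ(X, U) M).1
      ⟨fun m => PerfLib.isPC_of_iso (c.symm ≪≫ e) (PerfLib.isPC_res (h.1 m) hU.fromSpec), ?_⟩
    refine (RelFlatLib.loc_iff_ampD _).2 fun y => ?_
    obtain ⟨W, a, b, hy, hW⟩ := (RelFlatLib.loc_iff_ampD _).1 (RelFlatLib.loc_chart f hU hV hUV h.2) y
    exact ⟨W, a, b, hy, fun y' hy' => RelFlatLib.ampD_of_iso _ (c.symm ≪≫ e) (hW y' hy')⟩
  · exact key (ULift.{u} S.affineOpens) (fun V => (V.down : S.Opens)) (fun V => V.down.2)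
      (top_unique (fun x _ => by
        obtain ⟨_, ⟨W, hW, rfl⟩, hx, -⟩ :=
          S.isBasis_affineOpens.exists_subset_of_mem_open (Set.mem_univ x) isOpen_univ
        exact TopologicalSpace.Opens.mem_iSup.2 ⟨⟨⟨W, hW⟩⟩, hx⟩))
      (fun V => {U : X.affineOpens // (U : X.Opens) ≤ f ⁻¹ᵁ (V.down : S.Opens)})
      (fun _ U => (U.1 : X.Opens)) (fun _ U => U.1.2) (fun _ U => U.2)
      (fun V => le_antisymm (iSup_le fun U => U.2) fun x hx => by
        obtain ⟨_, ⟨W, hW, rfl⟩, hxW, hWV⟩ :=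
          X.isBasis_affineOpens.exists_subset_of_mem_open hx (f ⁻¹ᵁ (V.down : S.Opens)).2
        exact TopologicalSpace.Opens.mem_iSup.2 ⟨⟨⟨W, hW⟩, hWV⟩, hxW⟩)
      (fun i j M hM => H _ j.1.2 _ i.down.2 j.2 M hM)

end Groth.Agent.S7278
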