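import Groth.Statements.S7279
import Groth.Agent.Dual3Lib.Supported
import Groth.Agent.S1114
import Groth.Agent.S1115
import Groth.Agent.S6515
import Groth.Agent.BidualSchLib.Exists
import Groth.Agent.PerfBaseLib.FlatProper

set_option autoImplicit false
set_option backward.isDefEq.respectTransparency false
set_option backward.isDefEq.respectTransparency.types false
universe u
open CategoryTheory CategoryTheory.Limits AlgebraicGeometry
attribute [local instance] HasDerivedCategory.standard
open Perf

namespace Groth.Agent.S7279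

/-- Let X be a quasi-compact and quasi-separated scheme, U ⊆ X a quasi-compact open with closed
complement T = X ∖ U, P a cochain complex of O_X-modules with quasi-coherent cohomology sheaves and
E ∈ D_QCoh(O_X) supported on T (every cohomology sheaf of E has support in T). Assume either (1) P
is perfect, or (2) P is pseudo-coherent and E is bounded below, and assume the derived functors -
⊗^L P and RHom(P, -) exist. Then for every morphism γ : O_X[0] ⊗^L P ⟶ E there exist a perfect I ∈
D(O_X) and a morphism i : I ⟶ O_X[0] such that the composition of i ⊗^L P with γ is zero and the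
restriction i|_U is an isomorphism. (The published statement is about a morphism α : P ⟶ E and the
induced map I ⊗^L P ⟶ E; composing with the unit isomorphism O_X[0] ⊗^L P ≅ P identifies morphisms α
with morphisms γ, so the present form, quantified over all γ, is the same assertion.) -/
theorem result (X : Scheme.{u}) [CompactSpace ↥X]
    [QuasiSeparatedSpace ↥X] (U : X.Opens) (hU : IsCompact (U : Set X))
    (P : CochainComplex X.Modules ℤ) (hPq : DCoh.IsQCohD (DCoh.toD X P)) [DCoh.HasLTensorCx P] [DCoh.HasRSheafHom P]
    (E : DCoh.D X) (hEq : DCoh.IsQCohD E) (hEsupp : ∀ i : ℤ, CohB1.support (DCoh.HD E i) ⊆ (U : Set X)ᶜ)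
    (h : DCoh.IsPerfect (DCoh.toD X P) ∨ ((∀ m : ℤ, DCoh.IsPseudoCoherentD m (DCoh.toD X P)) ∧ ∃ a : ℤ, E.IsGE a))
    (γ : (DCoh.LTensorCx P).obj (DCoh.inD X (Coh.structureModule X)) ⟶ E) :
    ∃ (I : DCoh.D X) (i : I ⟶ DCoh.inD X (Coh.structureModule X)), DCoh.IsPerfect I ∧
      (DCoh.LTensorCx P).map i ≫ γ = 0 ∧ IsIso ((DCoh.restrictD U.ι).map i) := by
  let adj := DCoh.RSheafHomAdj P
  let E' := (DCoh.RSheafHom P).obj E
  have hq : DCoh.IsQCohD E' := by
    rcases h with h | ⟨h, a, ha⟩
    · exact S1114.result X P h E hEq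
    · haveI := ha
      exact S1115.result X P h E hEq a
  have hE : IsZero ((DCoh.restrictD U.ι).obj E) :=
    KoszOrthLib.isZero_restrictD_of_support U hEsupp fun _ hx hx' => hx' hx
  have hEV : IsZero ((DCoh.restrictD U.ι).obj E') := by
    haveI := KFlatLib.hasLTensorCx ((DCoh.restrictCx U).obj P)
    haveI := BidualSchLib.hasRSheafHom ((DCoh.restrictCx U).obj P)
    obtain ⟨e⟩ := S6515.result U P E
    refine IsZero.of_iso ?_ e
    rw [IsZero.iff_id_eq_zero]
    apply ((DCoh.RSheafHomAdj ((DCoh.restrictCx U).obj P)).homEquiv _ _).symm.injective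
    exact hE.eq_of_tgt _ _
  let ξ := adj.homEquiv _ _ γ
  obtain ⟨I, i, hI, hi, hkill⟩ := Dual3Lib.exists_kill U hU
    (show DCoh.IsPerfect (DCoh.inD X (Coh.structureModule X)) from PerfLib.isPerfect_of_iso
      ((DerivedCategory.singleFunctorIsoCompQ X.Modules 0).app _).symm (PerfBaseLib.isPerfect_unitCx X)) hq hEV ξ
  refine ⟨I, i, hI, ?_, hi⟩
  apply (adj.homEquiv _ _).injective
  rw [Adjunction.homEquiv_naturality_left, hkill, Adjunction.homEquiv_unit, Functor.map_zero, comp_zero]

end Groth.Agent.S7279
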