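import Groth.Statements.S7280
import Mathlib
import Groth.Agent.RgammaCopLib.Main
-- import your own Groth.Agent.* helpers here

set_option autoImplicit false
universe u
open CategoryTheory CategoryTheory.Limits AlgebraicGeometry
attribute [local instance] HasDerivedCategory.standard
open Perf

namespace Groth.Agent.S7280

/-- Let X be a scheme, j : U ⟶ X an open immersion which is quasi-compact, and T = X ∖ U (a closed
subset with retrocompact complement). Assuming the unbounded derived functor RΓ_T = i_* RH_T of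
sections with support in T exists on D(O_X): for every family Eᵢ of objects of D_QCoh(O_X) indexed
by a small type whose direct sums ∐ Eᵢ and ∐ RΓ_T(Eᵢ) exist in D(O_X), the canonical map ∐ RΓ_T(Eᵢ)
⟶ RΓ_T(∐ Eᵢ) is an isomorphism. (The published statement is RH_T(⊕ Eᵢ) = ⊕ RH_T(Eᵢ) in D(i⁻¹O_X) for
the inclusion i : T → X; since i_* identifies D(i⁻¹O_X) with the objects of D(O_X) supported on T
and commutes with direct sums, this is the same assertion for i_* RH_T = RΓ_T.) -/
theorem result {U X : Scheme.{u}} (j : U ⟶ X) [IsOpenImmersion j] [QuasiCompact j]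
    [CxOX.HasRgammaZ j] {ι : Type u} (E : ι → DCoh.D X) (hE : ∀ i, DCoh.IsQCohD (E i)) [HasCoproduct E]
    [HasCoproduct (fun i => (CxOX.RgammaZ j).obj (E i))] :
    IsIso (Sigma.desc (fun i => (CxOX.RgammaZ j).map (Sigma.ι E i))) := by
  haveI : QuasiCompact j.opensRange.ι := by
    haveI : QuasiCompact (j.isoOpensRange.inv ≫ j) := inferInstance
    simpa [Scheme.Hom.isoOpensRange_inv_comp] using this
  obtain ⟨hW, ⟨φ⟩⟩ := RgammaCopLib.rgammaIso j j.opensRange.ι (by rw [Scheme.Opens.opensRange_ι])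
  haveI := hW
  haveI : HasCoproduct (fun i => (CxOX.RgammaZ j.opensRange.ι).obj (E i)) := Groth.Agent.DerLib.KInjUse.hasCoproduct _
  have hiso : IsIso (Sigma.desc (fun i => (CxOX.RgammaZ j.opensRange.ι).map (Sigma.ι E i))) :=
    RgammaCopLib.isIso_sigmaDesc j.opensRange E hE
  let eσ : (∐ fun i => (CxOX.RgammaZ j).obj (E i)) ≅ ∐ fun i => (CxOX.RgammaZ j.opensRange.ι).obj (E i) :=
    ⟨Limits.Sigma.map fun i => φ.hom.app (E i), Limits.Sigma.map fun i => φ.inv.app (E i),
      Sigma.hom_ext _ _ fun i => by simp,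
      Sigma.hom_ext _ _ fun i => by simp⟩
  have h : Sigma.desc (fun i => (CxOX.RgammaZ j).map (Sigma.ι E i)) =
      eσ.hom ≫ Sigma.desc (fun i => (CxOX.RgammaZ j.opensRange.ι).map (Sigma.ι E i)) ≫ φ.inv.app (∐ E) := by
    refine Sigma.hom_ext _ _ fun i => ?_
    rw [Sigma.ι_desc]
    show _ = Sigma.ι (fun i => (CxOX.RgammaZ j).obj (E i)) i ≫ (Limits.Sigma.map fun i => φ.hom.app (E i)) ≫
      Sigma.desc (fun i => (CxOX.RgammaZ j.opensRange.ι).map (Sigma.ι E i)) ≫ φ.inv.app (∐ E)
    rw [Sigma.ι_map_assoc, Sigma.ι_desc_assoc]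
    rw [← φ.hom.naturality_assoc, Iso.hom_inv_id_app, Category.comp_id]
  rw [h]
  exact IsIso.comp_isIso' (Iso.isIso_hom eσ) (IsIso.comp_isIso' hiso inferInstance)

end Groth.Agent.S7280
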