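import Groth.Statements.S7287
import Groth.Agent.TrdegPairLib.Scheme

set_option autoImplicit false
set_option backward.isDefEq.respectTransparency false
set_option backward.isDefEq.respectTransparency.types false
set_option linter.style.haveILetI false
set_option maxHeartbeats 1000000
open CategoryTheory CategoryTheory.Limits AlgebraicGeometry Opposite
universe u
open RelCyc

namespace Groth.Agent.S7287

/-- Let f from X to S be locally of finite type, r a natural number and g from S' to S a surjective
morphism. Let S'' be the fibre product of S' with itself over S (projections p, q), X' the base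
change of X along g (structure map f', projection g' to X), and X'' the base change of X along S''
with structure map f'' and the two projections p', q' to X' lying over p and q and compatible with
the projections to X. Let x be a point of X whose residue field has transcendence degree r over that
of f(x). If x1 and x2 are points of X' mapping to x whose residue fields have transcendence degree r
over those of their images in S', then there is a point of X'' whose residue field has transcendence
degree r over that of its image in S'' and whose two projections are x1 and x2. -/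
theorem result {X S S' S'' X' X'' : Scheme.{u}}
    (f : X ⟶ S) [LocallyOfFiniteType f] (r : ℕ) (g : S' ⟶ S) [Surjective g]
    (p q : S'' ⟶ S') (hS : IsPullback p q g g)
    (f' : X' ⟶ S') (g' : X' ⟶ X) (hX : IsPullback g' f' f g)
    (f'' : X'' ⟶ S'') (p' q' : X'' ⟶ X') (hp : IsPullback p' f'' f' p) (hq : IsPullback q' f'' f' q)
    (hpq : p' ≫ g' = q' ≫ g')
    (x : ↥X) (hx : Dual3.resTrdeg f x = r)
    (x₁ x₂ : ↥X') (h₁ : g'.base x₁ = x) (h₂ : g'.base x₂ = x)
    (hx₁ : Dual3.resTrdeg f' x₁ = r) (hx₂ : Dual3.resTrdeg f' x₂ = r) :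
    ∃ x'' : ↥X'', Dual3.resTrdeg f'' x'' = r ∧ p'.base x'' = x₁ ∧ q'.base x'' = x₂ := by
  -- `X'' = X' ×_X X'`
  have hsq : IsPullback p' (q' ≫ f') (g' ≫ f) g := by
    have h := hp.paste_vert hS
    rwa [← hq.w, ← hX.w] at h
  have hXX : IsPullback p' q' g' g' := IsPullback.of_bot hsq hpq hX
  have hg₁ : g.base (f'.base x₁) = f.base x := by
    rw [← h₁, ← Scheme.Hom.comp_apply, ← Scheme.Hom.comp_apply, hX.w]
  have hg₂ : g.base (f'.base x₂) = f.base x := by
    rw [← h₂, ← Scheme.Hom.comp_apply, ← Scheme.Hom.comp_apply, hX.w]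
  -- fields
  let k := S.residueField (f.base x)
  let K := X.residueField x
  letI : Algebra k K := (f.residueFieldMap x).hom.toAlgebra
  let a : k →+* K := algebraMap k K
  have ha : Spec.map (CommRingCat.ofHom a) ≫ S.fromSpecResidueField _ = X.fromSpecResidueField x ≫ f :=
    f.SpecMap_residueFieldMap_fromSpecResidueField x
  obtain ⟨d₁, hd₁⟩ := TrdegPairLib.exists_desc (S'.fromSpecResidueField (f'.base x₁) ≫ g) (f.base x)
    (fun z => by
      rw [TrdegPairLib.point_comp]
      refine Eq.trans (congrArg _ ?_) hg₁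
      exact Scheme.fromSpecResidueField_apply _ z)
  obtain ⟨d₂, hd₂⟩ := TrdegPairLib.exists_desc (S'.fromSpecResidueField (f'.base x₂) ≫ g) (f.base x)
    (fun z => by
      rw [TrdegPairLib.point_comp]
      refine Eq.trans (congrArg _ ?_) hg₂
      exact Scheme.fromSpecResidueField_apply _ z)
  obtain ⟨c₁, hc₁⟩ := TrdegPairLib.exists_desc (X'.fromSpecResidueField x₁ ≫ g') x
    (fun z => by
      rw [TrdegPairLib.point_comp]
      refine Eq.trans (congrArg _ ?_) h₁
      exact Scheme.fromSpecResidueField_apply _ z)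
  obtain ⟨c₂, hc₂⟩ := TrdegPairLib.exists_desc (X'.fromSpecResidueField x₂ ≫ g') x
    (fun z => by
      rw [TrdegPairLib.point_comp]
      refine Eq.trans (congrArg _ ?_) h₂
      exact Scheme.fromSpecResidueField_apply _ z)
  letI : Algebra k (S'.residueField (f'.base x₁)) := d₁.toAlgebra
  letI : Algebra k (S'.residueField (f'.base x₂)) := d₂.toAlgebra
  letI : Algebra (S'.residueField (f'.base x₁)) (X'.residueField x₁) := (f'.residueFieldMap x₁).hom.toAlgebra
  letI : Algebra (S'.residueField (f'.base x₂)) (X'.residueField x₂) := (f'.residueFieldMap x₂).hom.toAlgebra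
  have hb₁ : Spec.map (CommRingCat.ofHom (algebraMap (S'.residueField (f'.base x₁)) (X'.residueField x₁))) ≫
      S'.fromSpecResidueField _ = X'.fromSpecResidueField x₁ ≫ f' :=
    f'.SpecMap_residueFieldMap_fromSpecResidueField x₁
  have hb₂ : Spec.map (CommRingCat.ofHom (algebraMap (S'.residueField (f'.base x₂)) (X'.residueField x₂))) ≫
      S'.fromSpecResidueField _ = X'.fromSpecResidueField x₂ ≫ f' :=
    f'.SpecMap_residueFieldMap_fromSpecResidueField x₂
  let b₁ : S'.residueField (f'.base x₁) →+* X'.residueField x₁ := (f'.residueFieldMap x₁).hom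
  have comm₁ : c₁.comp a = b₁.comp d₁ := by
    refine TrdegPairLib.hom_ext_of_eq _ _ ?_
    rw [CommRingCat.ofHom_comp, CommRingCat.ofHom_comp, Spec.map_comp, Spec.map_comp, Category.assoc,
      Category.assoc, ha, hd₁, ← Category.assoc, hc₁, ← Category.assoc,
      show Spec.map (CommRingCat.ofHom b₁) ≫ S'.fromSpecResidueField _ = X'.fromSpecResidueField x₁ ≫ f' from hb₁,
      Category.assoc, Category.assoc, hX.w]
  let b₂ : S'.residueField (f'.base x₂) →+* X'.residueField x₂ := (f'.residueFieldMap x₂).hom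
  have comm₂ : c₂.comp a = b₂.comp d₂ := by
    refine TrdegPairLib.hom_ext_of_eq _ _ ?_
    rw [CommRingCat.ofHom_comp, CommRingCat.ofHom_comp, Spec.map_comp, Spec.map_comp, Category.assoc,
      Category.assoc, ha, hd₂, ← Category.assoc, hc₂, ← Category.assoc,
      show Spec.map (CommRingCat.ofHom b₂) ≫ S'.fromSpecResidueField _ = X'.fromSpecResidueField x₂ ≫ f' from hb₂,
      Category.assoc, Category.assoc, hX.w]
  -- a transcendence basis
  haveI : FaithfulSMul k K := (faithfulSMul_iff_algebraMap_injective k K).mpr a.injective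
  obtain ⟨σ, t, ht⟩ := exists_isTranscendenceBasis' k K
  have hcard : Cardinal.mk σ = r := ht.cardinalMk_eq_trdeg.trans hx
  haveI : Finite σ := Cardinal.mk_lt_aleph0_iff.mp (hcard ▸ Cardinal.natCast_lt_aleph0 (n := r))
  haveI := ht.isAlgebraic
  have hgen₁ : ∀ C : Subfield (X'.residueField x₁), Set.range c₁ ⊆ (C : Set (X'.residueField x₁)) →
      Set.range (algebraMap (S'.residueField (f'.base x₁)) (X'.residueField x₁)) ⊆ (C : Set (X'.residueField x₁)) → C = ⊤ :=
    TrdegPairLib.generated hX x₁ c₁ _ _ _ hc₁ hb₁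
  have hgen₂ : ∀ C : Subfield (X'.residueField x₂), Set.range c₂ ⊆ (C : Set (X'.residueField x₂)) →
      Set.range (algebraMap (S'.residueField (f'.base x₂)) (X'.residueField x₂)) ⊆ (C : Set (X'.residueField x₂)) → C = ⊤ :=
    TrdegPairLib.generated hX x₂ c₂ _ _ _ hc₂ hb₂
  haveI := TrdegPairLib.isAlgebraic_of_generated (k := k) (K := K) (k₁ := S'.residueField (f'.base x₁))
    (B := X'.residueField x₁) c₁ d₁ comm₁ hgen₁ t
  haveI := TrdegPairLib.isAlgebraic_of_generated (k := k) (K := K) (k₁ := S'.residueField (f'.base x₂))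
    (B := X'.residueField x₂) c₂ d₂ comm₂ hgen₂ t
  have ht₁ := (Algebra.IsAlgebraic.isTranscendenceBasis_of_le_trdeg_of_finite
    (R := S'.residueField (f'.base x₁)) (A := X'.residueField x₁) (c₁ ∘ t) (hcard.trans hx₁.symm).le).1
  have ht₂ := (Algebra.IsAlgebraic.isTranscendenceBasis_of_le_trdeg_of_finite
    (R := S'.residueField (f'.base x₂)) (A := X'.residueField x₂) (c₂ ∘ t) (hcard.trans hx₂.symm).le).1
  obtain ⟨F, L, _, _, _, e₁, e₂, hK, hind, hL₁, hL₂⟩ :=
    TrdegPairLib.exists_field_pair (k := k) (K := K) (k₁ := S'.residueField (f'.base x₁))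
      (k₂ := S'.residueField (f'.base x₂)) (B₁ := X'.residueField x₁) (B₂ := X'.residueField x₂) c₁ c₂ comm₁ comm₂ t ht ht₁ ht₂
  -- the point
  have hw : (Spec.map (CommRingCat.ofHom e₁) ≫ X'.fromSpecResidueField x₁) ≫ g' =
      (Spec.map (CommRingCat.ofHom e₂) ≫ X'.fromSpecResidueField x₂) ≫ g' := by
    rw [Category.assoc, Category.assoc, ← hc₁, ← hc₂, ← Category.assoc, ← Category.assoc, ← Spec.map_comp,
      ← Spec.map_comp, ← CommRingCat.ofHom_comp, ← CommRingCat.ofHom_comp, hK]
  let w := hXX.lift _ _ hw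
  let z₀ : Spec (CommRingCat.of F) := IsLocalRing.closedPoint F
  let x'' : X'' := w.base z₀
  have hw₁ : w ≫ p' = Spec.map (CommRingCat.ofHom e₁) ≫ X'.fromSpecResidueField x₁ := hXX.lift_fst _ _ _
  have hw₂ : w ≫ q' = Spec.map (CommRingCat.ofHom e₂) ≫ X'.fromSpecResidueField x₂ := hXX.lift_snd _ _ _
  have hp'x : p'.base x'' = x₁ := by
    show (w ≫ p').base z₀ = x₁
    rw [hw₁, TrdegPairLib.point_comp]
    exact Scheme.fromSpecResidueField_apply _ _
  have hq'x : q'.base x'' = x₂ := by
    show (w ≫ q').base z₀ = x₂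
    rw [hw₂, TrdegPairLib.point_comp]
    exact Scheme.fromSpecResidueField_apply _ _
  haveI : Subsingleton (Spec (CommRingCat.of F)) := inferInstanceAs (Subsingleton (PrimeSpectrum F))
  obtain ⟨ψ, hψ⟩ := TrdegPairLib.exists_desc w x'' (fun z => congrArg w.base (Subsingleton.elim z z₀))
  refine ⟨x'', ?_, hp'x, hq'x⟩
  let k'' := S''.residueField (f''.base x'')
  let B := X''.residueField x''
  letI : Algebra k'' B := (f''.residueFieldMap x'').hom.toAlgebra
  have hb : Spec.map (CommRingCat.ofHom (algebraMap k'' B)) ≫ S''.fromSpecResidueField _ =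
      X''.fromSpecResidueField x'' ≫ f'' :=
    f''.SpecMap_residueFieldMap_fromSpecResidueField x''
  have hp0 : p.base (f''.base x'') = f'.base x₁ := by
    rw [← hp'x]; exact (congr($(hp.w).base x'')).symm
  have hq0 : q.base (f''.base x'') = f'.base x₂ := by
    rw [← hq'x]; exact (congr($(hq.w).base x'')).symm
  obtain ⟨π₁, hπ₁⟩ := TrdegPairLib.exists_desc (S''.fromSpecResidueField (f''.base x'') ≫ p) (f'.base x₁)
    (fun z => by
      rw [TrdegPairLib.point_comp]
      refine Eq.trans (congrArg _ ?_) hp0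
      exact Scheme.fromSpecResidueField_apply _ z)
  obtain ⟨π₂, hπ₂⟩ := TrdegPairLib.exists_desc (S''.fromSpecResidueField (f''.base x'') ≫ q) (f'.base x₂)
    (fun z => by
      rw [TrdegPairLib.point_comp]
      refine Eq.trans (congrArg _ ?_) hq0
      exact Scheme.fromSpecResidueField_apply _ z)
  obtain ⟨β, hβ⟩ := TrdegPairLib.exists_desc (X''.fromSpecResidueField x'' ≫ p') x₁
    (fun z => by
      rw [TrdegPairLib.point_comp]
      refine Eq.trans (congrArg _ ?_) hp'x
      exact Scheme.fromSpecResidueField_apply _ z)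
  -- images in `F`
  have hψe : ψ.comp β = e₁ := by
    refine TrdegPairLib.hom_ext_of_eq _ _ ?_
    rw [CommRingCat.ofHom_comp, Spec.map_comp, Category.assoc, hβ, ← Category.assoc, hψ, hw₁]
  have hπe₁ : (ψ.comp (algebraMap k'' B)).comp π₁ = e₁.comp b₁ := by
    refine TrdegPairLib.hom_ext_of_eq _ _ ?_
    simp only [CommRingCat.ofHom_comp, Spec.map_comp, Category.assoc]
    rw [hπ₁, ← Category.assoc (Spec.map (CommRingCat.ofHom (algebraMap k'' B))), hb,
      show Spec.map (CommRingCat.ofHom b₁) ≫ S'.fromSpecResidueField _ = X'.fromSpecResidueField x₁ ≫ f' from hb₁,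
      ← Category.assoc, ← Category.assoc, hψ, Category.assoc, ← hp.w, ← Category.assoc, hw₁, Category.assoc]
  have hπe₂ : (ψ.comp (algebraMap k'' B)).comp π₂ = e₂.comp b₂ := by
    refine TrdegPairLib.hom_ext_of_eq _ _ ?_
    simp only [CommRingCat.ofHom_comp, Spec.map_comp, Category.assoc]
    rw [hπ₂, ← Category.assoc (Spec.map (CommRingCat.ofHom (algebraMap k'' B))), hb,
      show Spec.map (CommRingCat.ofHom b₂) ≫ S'.fromSpecResidueField _ = X'.fromSpecResidueField x₂ ≫ f' from hb₂,
      ← Category.assoc, ← Category.assoc, hψ, Category.assoc, ← hq.w, ← Category.assoc, hw₂, Category.assoc]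
  have hk''L : ∀ b : k'', ψ (algebraMap k'' B b) ∈ (algebraMap L F).fieldRange := by
    have h := TrdegPairLib.generated hS (f''.base x'') π₁ π₂ _ _ hπ₁ hπ₂
      ((algebraMap L F).fieldRange.comap (ψ.comp (algebraMap k'' B)))
      (by
        rintro _ ⟨b, rfl⟩
        obtain ⟨l, hl⟩ := hL₁ ⟨b, rfl⟩
        exact ⟨l, hl.trans (RingHom.congr_fun hπe₁ b).symm⟩)
      (by
        rintro _ ⟨b, rfl⟩
        obtain ⟨l, hl⟩ := hL₂ ⟨b, rfl⟩
        exact ⟨l, hl.trans (RingHom.congr_fun hπe₂ b).symm⟩)
    intro b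
    exact (h ▸ Subfield.mem_top b : b ∈ (algebraMap L F).fieldRange.comap (ψ.comp (algebraMap k'' B)))
  choose φ hφ using hk''L
  let φ' : k'' →+* L :=
    { toFun := φ
      map_one' := (algebraMap L F).injective (by simp [hφ])
      map_mul' := fun a b => (algebraMap L F).injective (by simp [hφ])
      map_zero' := (algebraMap L F).injective (by simp [hφ])
      map_add' := fun a b => (algebraMap L F).injective (by simp [hφ]) }
  have hindB : AlgebraicIndependent k'' (β ∘ c₁ ∘ t : σ → B) := by
    refine AlgebraicIndependent.of_ringHom_of_comp_eq (R := k'') (A := B) φ' ψ ?_ φ'.injective (RingHom.ext hφ)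
    convert hind using 1
    funext i
    exact RingHom.congr_fun hψe (c₁ (t i))
  -- algebraicity
  have hgen : ∀ C : Subfield B, Set.range (β.comp c₁) ⊆ (C : Set B) →
      Set.range (algebraMap k'' B) ⊆ (C : Set B) → C = ⊤ := fun C h1 h2 => by
    refine TrdegPairLib.generated hp x'' β (algebraMap k'' B) _ _ hβ hb C ?_ h2
    have hk₁ : β.comp b₁ =
        (algebraMap k'' B).comp π₁ := RingHom.ext fun b => ψ.injective <| by
      show (ψ.comp β) _ = ((ψ.comp (algebraMap k'' B)).comp π₁) b
      rw [hψe, hπe₁]; rfl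
    have h := hgen₁ (C.comap β) (by rintro _ ⟨b, rfl⟩; exact h1 ⟨b, rfl⟩) (by
      rintro _ ⟨b, rfl⟩
      exact h2 ⟨π₁ b, (RingHom.congr_fun hk₁ b).symm⟩)
    rintro _ ⟨b, rfl⟩
    exact (h ▸ Subfield.mem_top b : b ∈ C.comap β)
  haveI := TrdegPairLib.isAlgebraic_of_generated (k := k) (K := K) (k₁ := k'') (B := B) (β.comp c₁) (π₁.comp d₁) (by
    refine RingHom.ext fun b => ψ.injective ?_
    show (ψ.comp β) (c₁ (a b)) = ((ψ.comp (algebraMap k'' B)).comp π₁) (d₁ b)
    rw [hψe, hπe₁]
    exact congrArg e₁ (RingHom.congr_fun comm₁ b)) hgen t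
  have halg : Algebra.IsAlgebraic (Algebra.adjoin k'' (Set.range ((β ∘ c₁ ∘ t : σ → B)))) B := this
  have hbasis : IsTranscendenceBasis k'' (β ∘ c₁ ∘ t : σ → B) := hindB.isTranscendenceBasis_iff_isAlgebraic.mpr halg
  exact hbasis.cardinalMk_eq_trdeg.symm.trans hcard

end Groth.Agent.S7287
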