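import Groth.Statements.S7289
import Groth.Agent.IndEtLib.Basic

set_option autoImplicit false
open CategoryTheory CategoryTheory.Limits AlgebraicGeometry Opposite
universe u
open ProEtW

namespace Groth.Agent.S7289

/-- Ind-etale A-algebras are stable under filtered colimits, i.e. any colimit over a filtered index
category of such algebras is again ind-etale over A. Concretely: if D is a filtered diagram of rings
under A all of whose values are ind-etale A-algebras, and the A-algebra B is a colimit of D in the
category of rings under A, then B is ind-etale over A. -/
theorem result (A B : Type u) [CommRing A] [CommRing B] [Algebra A B]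
    {J : Type u} [SmallCategory J] [IsFiltered J] (D : J ⥤ Under (CommRingCat.of A))
    (hD : ∀ j, letI := (D.obj j).hom.hom.toAlgebra; EtPBC.IsIndEtale A ↥(D.obj j).right)
    (c : Cocone D) (hc : IsColimit c)
    (e : c.pt ≅ Under.mk (CommRingCat.ofHom (algebraMap A B))) :
    EtPBC.IsIndEtale A B := by
  rw [IndEtLib.isIndEtale_iff, ← MorphismProperty.ind_ind IndEtLib.et_le.{u}, MorphismProperty.ind_iff_ind_underMk]
  exact ⟨J, inferInstance, inferInstance, (ColimitPresentation.mk D c.ι hc).ofIso e, fun j =>
    (@IndEtLib.isIndEtale_iff A _ _ _ (D.obj j).hom.hom.toAlgebra).1 (hD j)⟩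

end Groth.Agent.S7289
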