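import Groth.Statements.S7291
import Groth.Agent.RzLib.LimitVal

set_option autoImplicit false
open CategoryTheory CategoryTheory.Limits AlgebraicGeometry Opposite
universe w u
open HTop

namespace Groth.Agent.S7291

/-- Let Y be an affine scheme and let X be the limit (as a scheme) of a cofiltered system of affine
schemes X_i over Y. Then the one-member family X over Y is a standard V covering exactly when, for
every i, the one-member family X_i over Y is a standard V covering. -/
theorem result {Y : Scheme.{u}} [IsAffine Y]
    {I : Type u} [SmallCategory I] [IsCofiltered I] (D : I ⥤ Over Y) [∀ i, IsAffine (D.obj i).left]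
    (c : Cone D) (hc : IsLimit ((Over.forget Y).mapCone c)) :
    HTop.IsStandardV (PreZeroHypercover.singleton.{w} c.pt.hom) ↔
      ∀ i, HTop.IsStandardV (PreZeroHypercover.singleton.{w} (D.obj i).hom) := by
  refine ⟨fun h i => ⟨h.isAffine, h.finite_index, fun _ => inferInstanceAs (IsAffine (D.obj i).left), fun V _ _ g => ?_⟩,
    fun h => ⟨inferInstance, inferInstanceAs (Finite PUnit), fun _ => ?_, RzLib.hasValLift_singleton_of_isLimit D c hc fun i => (h i).lift⟩⟩
  · obtain ⟨W, h₁, h₂, φ, hφ, _j, l, hl⟩ := h.lift V g
    let l' : Spec W ⟶ c.pt.left := l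
    have hl' : l' ≫ c.pt.hom = Spec.map φ ≫ g := hl
    refine ⟨W, h₁, h₂, φ, hφ, PUnit.unit, l' ≫ (c.π.app i).left, ?_⟩
    change (l' ≫ (c.π.app i).left) ≫ (D.obj i).hom = _
    rw [Category.assoc, Over.w (c.π.app i)]
    exact hl'
  · haveI : ∀ i, IsAffine ((D ⋙ Over.forget Y).obj i) := fun i => inferInstanceAs (IsAffine (D.obj i).left)
    exact (Scheme.isAffine_of_isLimit _ hc : IsAffine c.pt.left)

end Groth.Agent.S7291
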