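import Groth.Statements.S7294
import Groth.Agent.EtLamFinLib.Main
import Groth.Agent.ConsFiniteLib.Proper
import Groth.Agent.EtShLib.Shriek
-- import your own Groth.Agent.* helpers here

set_option autoImplicit false
open CategoryTheory CategoryTheory.Limits AlgebraicGeometry Opposite
universe u
open EtShriek

namespace Groth.Agent.S7294

/-- Let k be an algebraically closed field, Λ a Noetherian ring, X a scheme separated and of finite type
over k of dimension at most 1, and L a constructible sheaf of Λ-modules on the small etale site of X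
whose underlying abelian sheaf is torsion. Then the compactly supported cohomology modules H^q_c(X,
L) are finitely generated Λ-modules; concretely, for every open immersion j of X into a scheme P
proper over k, compatible with the structure maps and with P of dimension at most 1, and every q,
the Λ-module H^q(P, j_! L) is finitely generated. (The published statement does not mention P; its
proof computes H^q_c through such a compactification of dimension at most 1, which is the form
stated here.) -/
theorem result (Λ : Type) [CommRing Λ] [IsNoetherianRing Λ]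
    (k : Type u) [Field k] [IsAlgClosed k] {X P : Scheme.{u}}
    (f : X ⟶ Spec (CommRingCat.of k)) [IsSeparated f] [LocallyOfFiniteType f] [QuasiCompact f]
    (hdim : topologicalKrullDim ↥X ≤ 1) (L : EtLam.Sheaf Λ X) (hL : EtLam.IsConstructible L)
    (hLt : EtCoh.IsTorsion L.carrier)
    (j : X ⟶ P) [IsOpenImmersion j] (b : P ⟶ Spec (CommRingCat.of k)) [IsProper b] (hj : j ≫ b = f)
    (hdimP : topologicalKrullDim ↥P ≤ 1) (q : ℕ) :
    Module.Finite Λ (EtCoh.H P (FinFr.extZeroLam j L).carrier q) := by
  haveI : AlgebraicGeometry.IsNoetherian P := @AlgebraicGeometry.IsNoetherian.mk P (LocallyOfFiniteType.isLocallyNoetherian b)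
    (QuasiCompact.compactSpace_of_compactSpace b)
  haveI : CompactSpace X := QuasiCompact.compactSpace_of_compactSpace f
  haveI : QuasiSeparatedSpace X := quasiSeparatedSpace_of_quasiSeparated f
  obtain ⟨a, V, s, hV, hgen⟩ := EtLamFinLib.exists_generates L hL
  let W : Fin a → P.Etale := fun i => (EtShriek.compEtale j).obj (V i)
  let t : ∀ i, (FinFr.extZeroLam j L).carrier.obj.obj (op (W i)) := fun i =>
    ((EtShriek.extZeroAdj j).unit.app L.carrier).hom.app (op (V i)) (s i)
  haveI : ∀ i, CompactSpace (W i).left := fun i => haveI := hV i; inferInstanceAs (CompactSpace (V i).left)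
  haveI : ∀ i, QuasiSeparatedSpace (W i).left := fun i => haveI := hV i; inferInstanceAs (QuasiSeparatedSpace (V i).left)
  refine EtLamFinLib.finite_H_of_generates (FinFr.extZeroLam j L) W t (fun Ω _ _ ξ => ?_) (ok := fun n => 0 < n) one_pos
    (fun a b ha hb => Nat.mul_pos ha hb) (fun a ha => ha) (fun N hN p hp hpN => ?_) (fun i => ?_) q
  · unfold EtLamFinLib.Generates
    rw [eq_top_iff]
    intro z _
    by_cases h : ξ.base default ∈ Set.range j.base
    swap
    · haveI := AddCommGrpCat.subsingleton_of_isZero (EtShLib.isZero_stalk_extZero j L.carrier ξ h)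
      rw [Subsingleton.elim (α := (EtShLib.stk (A := AddCommGrpCat.{u + 1}) ξ).obj ((EtShriek.extZero j).obj L.carrier)) z 0]
      exact zero_mem _
    obtain ⟨y, hy⟩ := h
    obtain ⟨l, hl, -⟩ := Scheme.exists_fac_of_etale_of_isSepClosed j ξ y hy
    let u₀ : {u : Spec (CommRingCat.of Ω) ⟶ X // u ≫ j = ξ} := ⟨l, hl⟩
    haveI := EtShLib.isIso_inclStalk j L.carrier ξ u₀
    obtain ⟨z', rfl⟩ := (ConcreteCategory.bijective_of_isIso (EtShLib.inclStalk j L.carrier ξ u₀)).2 z
    induction (hgen Ω l).ge (AddSubgroup.mem_top z') using AddSubgroup.closure_induction with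
    | mem w hw =>
      obtain ⟨i, v, r, rfl⟩ := hw
      refine AddSubgroup.subset_closure ⟨i, (EtShLib.fibComp j u₀).app (V i) v, r, ?_⟩
      refine Eq.trans ?_ (ConcreteCategory.congr_hom (EtShLib.germ_inclStalk j L.carrier ξ u₀ (V i) v) _).symm
      refine congrArg (EtShLib.germ ξ ((EtShriek.extZero j).obj L.carrier) _ _) ?_
      exact (congrArg (fun m : L.carrier ⟶ _ => m.hom.app (op (V i)) (s i))
        ((EtShriek.extZeroAdj j).unit.naturality (L.act r))).symm
    | zero => rw [map_zero]; exact zero_mem _
    | add x y _ _ hx hy => rw [map_add]; exact add_mem (hx trivial) (hy trivial)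
    | neg x _ hx => rw [map_neg]; exact neg_mem (hx trivial)
  · refine ⟨fun F hF r hr => EtLamFinLib.subsingleton_H_of_killed k b hdimP hp.pos F hF r hr, fun U hU r => ?_⟩
    haveI := Fact.mk hp
    haveI := hU
    exact ConsFiniteLib.finite_H_of_hypOn k b hdimP (ConsFiniteLib.hypOn_proper k b p hp.pos) hp.pos r _
      ((EtShLib.isConstructible_iff _).2 (EtShLib.isCons_extConst U (ZMod p)))
      (EtLamFinLib.nsmul_id_extConst' U p)
  · haveI := hV i
    obtain ⟨n, hn, hn'⟩ := EtLamFinLib.exists_killing (ok := fun n => 0 < n) one_pos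
      (fun a b ha hb => Nat.mul_pos ha hb) (U := V i) (s i) (fun x => by
        obtain ⟨W', g, hv, h⟩ := hLt (V i) (s i) x
        obtain ⟨n, hn, hn'⟩ := isOfFinAddOrder_iff_nsmul_eq_zero.1 h
        exact ⟨W', g, n, hv, hn, hn'⟩)
    refine ⟨n, hn, ?_⟩
    show n • ((EtShriek.extZeroAdj j).unit.app L.carrier).hom.app (op (V i)) (s i) = 0
    rw [← map_nsmul, hn', map_zero]

end Groth.Agent.S7294
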