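import Groth.Statements.S7296
import Mathlib.CategoryTheory.Adjunction.Triple
import Mathlib.CategoryTheory.Sites.CoverLifting
import Mathlib.CategoryTheory.Sites.DenseSubsite.InducedTopology
import Mathlib.CategoryTheory.Abelian.RightDerived
import Mathlib.CategoryTheory.Functor.KanExtension.Adjunction
import Mathlib.Algebra.Category.Grp.Limits
-- import your own Groth.Agent.* helpers here

set_option autoImplicit false
set_option backward.isDefEq.respectTransparency false
set_option backward.isDefEq.respectTransparency.types false
set_option linter.style.haveILetI false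
set_option synthInstance.maxHeartbeats 400000
open CategoryTheory CategoryTheory.Limits AlgebraicGeometry Opposite
universe u
open ProEtS

namespace Groth.Agent.S7296

/-- For an abelian sheaf F on the small pro-etale site of a scheme S: write u for the inclusion of the
small pro-etale site into the big pro-etale site of S (schemes over S with the pro-etale topology),
u_s for pullback of abelian sheaves along u (left adjoint to the restriction u^s). Then the unit F →
u^s u_s F is an isomorphism and R^q u^s (u_s F) = 0 for every q > 0; together these say that F → R
u^s (u_s F) is an isomorphism. (Additivity of the restriction functor and the existence of injective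
resolutions for abelian sheaves on the big pro-etale site, both of which hold, are recorded as
instance hypotheses.) -/
theorem result (S : Scheme.{u})
    [((Scheme.ProEt.forget S).sheafPushforwardContinuous AddCommGrpCat.{u + 1} (Scheme.ProEt.topology S)
      (Scheme.proetaleTopology.over S)).Additive]
    [HasInjectiveResolutions (Sheaf (Scheme.proetaleTopology.over S) AddCommGrpCat.{u + 1})]
    (F : ProEtS.AbP S) :
    IsIso (((Scheme.ProEt.forget S).sheafAdjunctionContinuous AddCommGrpCat.{u + 1}
      (Scheme.ProEt.topology S) (Scheme.proetaleTopology.over S)).unit.app F) ∧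
    ∀ q : ℕ, 0 < q →
      IsZero ((((Scheme.ProEt.forget S).sheafPushforwardContinuous AddCommGrpCat.{u + 1}
        (Scheme.ProEt.topology S) (Scheme.proetaleTopology.over S)).rightDerived q).obj
        (((Scheme.ProEt.forget S).sheafPullback AddCommGrpCat.{u + 1} (Scheme.ProEt.topology S)
          (Scheme.proetaleTopology.over S)).obj F)) := by
  let u' := Scheme.ProEt.forget S
  haveI hc : u'.IsCocontinuous (Scheme.ProEt.topology S) (Scheme.proetaleTopology.over S) := by
    rw [show Scheme.ProEt.topology S = u'.restrictedTopology (Scheme.proetaleTopology.over S) from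
      MorphismProperty.toGrothendieck_comap_forget_eq_restrictedTopology _
        Scheme.proetalePrecoverage_le_precoverage_weaklyEtale]
    infer_instance
  let adj₂ := u'.sheafAdjunctionCocontinuous AddCommGrpCat.{u + 1} (Scheme.ProEt.topology S) (Scheme.proetaleTopology.over S)
  let adj₁ := u'.sheafAdjunctionContinuous AddCommGrpCat.{u + 1} (Scheme.ProEt.topology S) (Scheme.proetaleTopology.over S)
  haveI : IsIso adj₂.counit := by
    haveI : ∀ G, IsIso (adj₂.counit.app G) := fun G => by
      haveI : IsIso ((sheafToPresheaf _ AddCommGrpCat.{u + 1}).map (adj₂.counit.app G)) := by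
        show IsIso (adj₂.counit.app G).hom
        rw [Functor.sheafAdjunctionCocontinuous_counit_app_hom, Functor.ranAdjunction_counit]
        infer_instance
      exact isIso_of_reflects_iso (adj₂.counit.app G) (sheafToPresheaf _ AddCommGrpCat.{u + 1})
    exact NatIso.isIso_of_isIso_app _
  let t : Adjunction.Triple _ _ _ := { adj₁ := adj₁, adj₂ := adj₂ }
  haveI : IsIso adj₁.unit := t.isIso_unit_iff_isIso_counit.2 ‹IsIso adj₂.counit›
  refine ⟨NatIso.isIso_app_of_isIso adj₁.unit F, ?_⟩
  let R := u'.sheafPushforwardContinuous AddCommGrpCat.{u + 1} (Scheme.ProEt.topology S) (Scheme.proetaleTopology.over S)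
  haveI : PreservesFiniteLimits R := by
    haveI := adj₁.rightAdjoint_preservesLimits
    infer_instance
  haveI : PreservesFiniteColimits R := by
    haveI := adj₂.leftAdjoint_preservesColimits
    infer_instance
  rintro q hq
  obtain ⟨p, rfl⟩ : ∃ p, q = p + 1 := ⟨q - 1, by omega⟩
  let G := (u'.sheafPullback AddCommGrpCat.{u + 1} (Scheme.ProEt.topology S) (Scheme.proetaleTopology.over S)).obj F
  let I := (inferInstance : HasInjectiveResolution G).out.some
  refine IsZero.of_iso ?_ (I.isoRightDerivedObj R (p + 1))
  refine HomologicalComplex.exactAt_iff_isZero_homology _ _ |>.1 ?_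
  exact (I.cocomplex_exactAt_succ p).map R

end Groth.Agent.S7296
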