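import Groth.Statements.S7298
import Mathlib
import Groth.Agent.S7297
import Groth.Agent.BlowRegLib.RegLocal
-- import your own Groth.Agent.* helpers here

set_option autoImplicit false
universe u
open CategoryTheory CategoryTheory.Limits AlgebraicGeometry
open Resolve

namespace Groth.Agent.S7298

/-- Let A be a local normal Nagata domain of dimension two defining a rational singularity, and f : X →
Spec A a proper morphism from an integral normal scheme which is an isomorphism over some nonempty
open of Spec A. Then H^1(X, F) = 0 for every quasi-coherent O_X-module F which is globally generated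
(a quotient of a free O_X-module). -/
theorem result (A : Type u) [CommRing A] [IsDomain A] [IsLocalRing A] [IsNoetherianRing A]
    [IsIntegrallyClosed A] (hN : CAlg.IsNagata A) (hdim : ringKrullDim A = 2) (hA : Curv2.IsRationalSing A)
    (X : Scheme.{u}) (f : X ⟶ Spec (CommRingCat.of A)) [IsProper f] [IsIntegral X] (hXn : Pi1.IsNormalScheme X)
    (hbir : ∃ U : (Spec (CommRingCat.of A)).Opens, (U : Set (Spec (CommRingCat.of A))).Nonempty ∧ IsIso (f ∣_ U))
    (F : X.Modules) (hF : Coh.IsQCoh F) (hgg : Curv2.IsGloballyGenerated F) : Subsingleton (Coh.HH X F 1) := by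
  have hv : ∀ (G : X.Modules), Coh.IsQCoh G → Subsingleton (Coh.HH X G 2) :=
    fun G hG => Groth.Agent.S7297.result A hN hdim hA X f hXn hbir G hG 2 le_rfl
  have h₂ : Subsingleton (Coh.HH X (Coh.structureModule X) 1) := hA X f inferInstance inferInstance hXn hbir
  obtain ⟨σ, p, hp⟩ := hgg
  haveI := hp
  haveI : Coh.IsQCoh F := hF
  haveI : CompactSpace X := QuasiCompact.compactSpace_of_compactSpace f
  haveI : X.IsSeparated := ⟨by
    rw [Limits.terminal.hom_ext (Limits.terminal.from X) (f ≫ Limits.terminal.from _)]
    infer_instance⟩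
  haveI hO : Coh.IsQCoh (Coh.structureModule X) :=
    FinLFAnn.isQCoh_of_isFinLocFree (AmpleDevLib.isFinLocFree_of_isInvertible CurvLib.isInvertible_structureModule)
  haveI hfree : Coh.IsQCoh (SheafOfModules.free σ : X.Modules) :=
    QCohLib.isQCoh_sigma (fun _ : σ => Coh.structureModule X) (fun _ => hO)
  have hfree1 : Subsingleton (Coh.HH X (SheafOfModules.free σ : X.Modules) 1) :=
    AmpleAffLib.subsingleton_HH_sigma (F := fun _ : σ => Coh.structureModule X) (fun _ => hO) (fun _ => h₂)
  haveI := QCohLib.isQCoh_kernel p
  let T := ShortComplex.mk (Limits.kernel.ι p) p (Limits.kernel.condition p)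
  have hT : T.ShortExact :=
    { exact := ShortComplex.exact_of_f_is_kernel _ (Limits.kernelIsKernel p)
      mono_f := ⟨fun g h e => Limits.Fork.IsLimit.hom_ext (Limits.kernelIsKernel p) e⟩
      epi_g := hp }
  exact HodgePnLib.sub₃ (S := T) hT hfree1 (hv (Limits.kernel p) inferInstance)

end Groth.Agent.S7298
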