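import Groth.Statements.S7299
import Mathlib
import Groth.Agent.RatModLib.Sections
import Groth.Agent.S7297
-- import your own Groth.Agent.* helpers here

set_option autoImplicit false
universe u
open CategoryTheory CategoryTheory.Limits AlgebraicGeometry
open Resolve

namespace Groth.Agent.S7299

/-- Let (A, m) be a local normal Nagata domain of dimension two defining a rational singularity, f : X →
Spec A a proper morphism from an integral normal scheme which is an isomorphism over some nonempty
open, and suppose the closed fibre, with ideal sheaf I = m O_X, is an effective Cartier divisor.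
Then for every n ≥ 0, H^1(X, I^n) = 0 and H^0(X, I^n) = m^n: an element of A, viewed as a global
function on X, lies in I^n on every affine open if and only if it belongs to m^n. -/
theorem result (A : Type u) [CommRing A] [IsDomain A] [IsLocalRing A] [IsNoetherianRing A]
    [IsIntegrallyClosed A] (hN : CAlg.IsNagata A) (hdim : ringKrullDim A = 2) (hA : Curv2.IsRationalSing A)
    (X : Scheme.{u}) (f : X ⟶ Spec (CommRingCat.of A)) [IsProper f] [IsIntegral X] (hXn : Pi1.IsNormalScheme X)
    (hbir : ∃ U : (Spec (CommRingCat.of A)).Opens, (U : Set (Spec (CommRingCat.of A))).Nonempty ∧ IsIso (f ∣_ U))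
    (hE : BlowUp.IsEffCartierIdeal ((Curv2.idealSheaf A (IsLocalRing.maximalIdeal A)).comap f)) (n : ℕ) :
    Subsingleton (Coh.HH X (ClSub.idealMod (((Curv2.idealSheaf A (IsLocalRing.maximalIdeal A)).comap f) ^ n)) 1) ∧
      ∀ a : A, (∀ U : X.affineOpens,
          Coh.resTop X (Opposite.op U.1) (Coh.toGlobal f a) ∈ (((Curv2.idealSheaf A (IsLocalRing.maximalIdeal A)).comap f) ^ n).ideal U) ↔
        a ∈ IsLocalRing.maximalIdeal A ^ n := by
  obtain ⟨U, hU, hUi⟩ := hbir
  haveI := hUi
  haveI : CompactSpace X := QuasiCompact.compactSpace_of_compactSpace f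
  haveI : X.IsSeparated := ⟨by
    rw [Limits.terminal.hom_ext (Limits.terminal.from X) (f ≫ Limits.terminal.from _)]
    infer_instance⟩
  have h2 : ∀ G : X.Modules, Coh.IsQCoh G → Subsingleton (Coh.HH X G 2) :=
    fun G hG => Groth.Agent.S7297.result A hN hdim hA X f hXn ⟨U, hU, hUi⟩ G hG 2 le_rfl
  have h1 := hA X f inferInstance inferInstance hXn ⟨U, hU, hUi⟩
  have hne : ((RatModLib.pre f (IsLocalRing.maximalIdeal A)).support : Set X).Nonempty := by
    obtain ⟨x, hx⟩ : IsLocalRing.closedPoint A ∈ Set.range f.base :=
      (genericPoint_specializes (IsLocalRing.closedPoint A : (Spec (CommRingCat.of A) : Scheme.{u}))).mem_closed f.isClosedMap.isClosed_range ⟨_, ModifLib.map_genericPoint f hU⟩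
    refine ⟨x, ?_⟩
    rw [Scheme.IdealSheafData.support_comap]
    show f x ∈ ((Curv2.idealSheaf A (IsLocalRing.maximalIdeal A)).support : Set (Spec (CommRingCat.of A)))
    rw [PtBlowLib.coe_support_idealSheaf, show f x = IsLocalRing.closedPoint A from hx]
    exact fun a ha => ha
  refine ⟨RatModLib.subsingleton_H1_pre f h1 h2 _ n, fun a => ⟨fun h => ?_, fun h U' => ?_⟩⟩
  · exact (RatModLib.sections_pow f hU _ hE hne h1 h2 n a).1 h
  · exact (RatModLib.sections_pow f hU _ hE hne h1 h2 n a).2 h U'

end Groth.Agent.S7299
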