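import Groth.Statements.S7300
import Mathlib
import Groth.Agent.ModTorsLib.Torsion
-- import your own Groth.Agent.* helpers here

set_option autoImplicit false
universe u
open CategoryTheory CategoryTheory.Limits AlgebraicGeometry
open Resolve

namespace Groth.Agent.S7300

/-- Let (A, m) be a local normal Nagata domain of dimension two and a ∈ A nonzero. There is an integer N
such that for every proper morphism X → Spec A from an integral normal scheme which is an
isomorphism over some nonempty open (a normal modification), the A-module of a-torsion elements of
H^1(X, O_X) has length at most N. (The published statement bounds the length of the cokernel of A →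
H^0(Z, O_Z), where Z ⊂ X is the closed subscheme cut out by a; this row bounds the a-torsion of
H^1(X, O_X), which is the same module by the exact sequence 0 → O_X → O_X → O_Z → 0 given by
multiplication by a and H^0(X, O_X) = A.) -/
theorem result (A : Type u) [CommRing A] [IsDomain A] [IsLocalRing A] [IsNoetherianRing A]
    [IsIntegrallyClosed A] (hN : CAlg.IsNagata A) (hdim : ringKrullDim A = 2) (a : A) (ha : a ≠ 0) :
    ∃ N : ℕ, ∀ (X : Scheme.{u}) [X.Over (Spec (CommRingCat.of A))], IsProper (X ↘ Spec (CommRingCat.of A)) →
      IsIntegral X → Pi1.IsNormalScheme X →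
      (∃ U : (Spec (CommRingCat.of A)).Opens, (U : Set (Spec (CommRingCat.of A))).Nonempty ∧ IsIso ((X ↘ Spec (CommRingCat.of A)) ∣_ U)) →
      Module.length A ↥(Submodule.torsionBy A (Coh.HH X (Coh.structureModule X) 1) a) ≤ (N : ℕ∞) := by
  obtain ⟨N, hN'⟩ := ModTorsLib.exists_bound A hN hdim a ha
  refine ⟨N, fun X _ hp hi hn hb => hN' X ⟨hp, hi, hn, hb⟩⟩

end Groth.Agent.S7300
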