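import Groth.Statements.S7304
import Mathlib
import Groth.Agent.ModifLib.Descend
import Groth.Agent.BlowUpLib.Props
import Groth.Agent.AdicRingLib.Completion
import Groth.Agent.S1680
-- import your own Groth.Agent.* helpers here

set_option autoImplicit false
universe u
open CategoryTheory CategoryTheory.Limits AlgebraicGeometry
open Resolve

namespace Groth.Agent.S7304

/-- Let (A, m) be a Noetherian local ring with m-adic completion A^, and U ⊂ Spec A, U^ ⊂ Spec A^ the
punctured spectra. If c : Y → Spec A^ is a U^-admissible blowing up (a blowing up in a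
quasi-coherent ideal of finite type whose support misses U^), then there is a U-admissible blowing
up b : X → Spec A such that Y is isomorphic, over Spec A^, to the base change of X to Spec A^. -/
theorem result (A : Type u) [CommRing A] [IsLocalRing A] [IsNoetherianRing A]
    (Y : Scheme.{u}) (c : Y ⟶ Spec (CommRingCat.of (Curv2.cpl A)))
    (J : (Spec (CommRingCat.of (Curv2.cpl A))).IdealSheafData)
    (hJ : BlowUp.IsAdmissibleFor (FEt.puncturedSpec (Curv2.cpl A)) J) (hc : BlowUp.IsBlowUp c J) :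
    ∃ (I : (Spec (CommRingCat.of A)).IdealSheafData) (X : Scheme.{u}) (b : X ⟶ Spec (CommRingCat.of A)),
      BlowUp.IsAdmissibleFor (FEt.puncturedSpec A) I ∧ BlowUp.IsBlowUp b I ∧
      ∃ e : Y ≅ Curv2.bcCpl A b, e.hom ≫ Curv2.bcCplSnd A b = c := by
  haveI : IsNoetherianRing (Curv2.cpl A) := AdicRingLib.isNoetherianRing_adicCompletion _
  obtain ⟨J₀, rfl⟩ := BlowUpLib.exists_specIdeal_eq J
  obtain ⟨n, hn⟩ := ModifLib.exists_pow_le_of_disjoint J₀ hJ.2
  rw [AdicCompletion.maximalIdeal_eq_map_of_fg (IsLocalRing.maximalIdeal A).fg_of_isNoetherianRing, ← Ideal.map_pow] at hn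
  let φ := algebraMap A (Curv2.cpl A)
  let I₀ : Ideal A := J₀.comap φ
  have hI : IsLocalRing.maximalIdeal A ^ n ≤ I₀ := Ideal.map_le_iff_le_comap.1 hn
  obtain ⟨X, b, hb⟩ := BlowUpLib.exists_isBlowUp (Spec (CommRingCat.of A)) (BlowUpLib.specIdeal I₀)
  refine ⟨BlowUpLib.specIdeal I₀, X, b, ⟨fun U => ?_, ModifLib.disjoint_of_pow_le I₀ n hI⟩, hb, ?_⟩
  · haveI := IsLocallyNoetherian.component_noetherian U
    exact IsNoetherian.noetherian _
  haveI : Flat (Spec.map (CommRingCat.ofHom φ)) := by
    rw [HasRingHomProperty.Spec_iff (P := @Flat), CommRingCat.hom_ofHom, RingHom.flat_algebraMap_iff]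
    exact AdicCompletion.flat_of_isNoetherian _
  have h := BlowUpLib.isBlowUp_of_isPullback (IsPullback.of_hasPullback b (Spec.map (CommRingCat.ofHom φ))) hb
  rw [BlowUpLib.comap_specIdeal, ModifLib.map_comap_cpl J₀ n hn] at h
  obtain ⟨e, he⟩ := BlowUpLib.exists_iso hc h
  exact ⟨e.symm, (Iso.inv_comp_eq e).2 he.symm⟩

end Groth.Agent.S7304
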