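import Groth.Statements.S7301
import Mathlib
import Groth.Agent.S1274
import Groth.Agent.S7304
import Groth.Agent.S7338
import Groth.Agent.S0034
import Groth.Agent.S9833
import Groth.Agent.S0566
import Groth.Agent.ModifLib.Max
import Groth.Agent.CatLib.Completion
import Groth.Agent.RGFlatLib.Setup
import Groth.Agent.RelProjLib.ProjProper
import Groth.Agent.SerreVanLib.Main
import Groth.Agent.PtBlowLib.Punct
-- import your own Groth.Agent.* helpers here

set_option autoImplicit false
universe u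
open CategoryTheory CategoryTheory.Limits AlgebraicGeometry
open Resolve

namespace Groth.Agent.S7301

/-- Let (A, m) be a Nagata local normal domain of dimension two which defines a rational singularity,
and assume the m-adic completion of A is a normal domain. Then the completion defines a rational
singularity as well. -/
theorem result (A : Type u) [CommRing A] [IsDomain A] [IsLocalRing A] [IsNoetherianRing A]
    [IsIntegrallyClosed A] (hN : CAlg.IsNagata A) (hdim : ringKrullDim A = 2) (hA : Curv2.IsRationalSing A)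
    [IsDomain (Curv2.cpl A)] [IsIntegrallyClosed (Curv2.cpl A)] : Curv2.IsRationalSing (Curv2.cpl A) := by
  intro Y c hp hi hn hex
  obtain ⟨V₀, hV₀, hiso⟩ := hex
  haveI := hp
  haveI := hi
  haveI := hiso
  haveI : IsNoetherianRing (Curv2.cpl A) := CatLib.isNoetherianRing_cpl A
  have hdim' : ringKrullDim (Curv2.cpl A) = 2 := (CatLib.ringKrullDim_cpl A).trans hdim
  haveI hiU : IsIso (c ∣_ FEt.puncturedSpec (Curv2.cpl A)) := PtBlowLib.isIso_punctured hdim' c hV₀
  obtain ⟨J, Y'', c'', hc'', hJ, h, hh⟩ := Groth.Agent.S1274.result c (FEt.puncturedSpec (Curv2.cpl A))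
    (TopologicalSpace.NoetherianSpace.isCompact _)
  obtain ⟨I, X, b, hIadm, hb, e, he⟩ := Groth.Agent.S7304.result A Y'' c'' J hJ hc''
  have hne := PtBlowLib.punctured_nonempty (A := A) hdim
  have hIne : I ≠ ⊥ := fun h0 => by
    obtain ⟨p, hp0⟩ := hne
    exact Set.disjoint_left.1 hIadm.2 (by rw [h0, Scheme.IdealSheafData.support_bot]; trivial) hp0
  haveI : IsAffine (Spec (CommRingCat.of A)) := inferInstance
  have hN' : ∀ U : (Spec (CommRingCat.of A)).affineOpens, CAlg.IsNagata Γ(Spec (CommRingCat.of A), U.1) :=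
    fun U => Groth.Agent.S9833.result (Spec (CommRingCat.of A)) (fun _ : PUnit.{u+1} => ⊤) (iSup_const) (fun _ => isAffineOpen_top _)
      (fun _ => by
        letI := ((Scheme.ΓSpecIso (CommRingCat.of A)).inv.hom).toAlgebra
        haveI : Algebra.FiniteType A Γ(Spec (CommRingCat.of A), ⊤) :=
          RingHom.FiniteType.of_surjective _ (ConcreteCategory.bijective_of_isIso (Scheme.ΓSpecIso (CommRingCat.of A)).inv).2
        exact Groth.Agent.S0566.result A hN Γ(Spec (CommRingCat.of A), ⊤)) U.1 U.2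
  obtain ⟨B, X', bB, ν, hbB, hproj, hX'i, hX'n, U₀, hU₀, hU₀i⟩ :=
    ModifLib.exists_normalized_blowUp (ParaFLib.isNormal_spec A) hN' I hIne
  obtain ⟨k, hk, -⟩ := hb.2 B bB hbB.1
  let f := ν ≫ bB
  haveI := hX'i
  haveI := hU₀i
  haveI : IsProper bB := BlowUpLib.isProper_of_isBlowUp hbB hIadm.1
  haveI : IsProper f := RelProjLib.isProper_of_isProjective hproj
  have hH : Subsingleton (Coh.HH X' (Coh.structureModule X') 1) := hA X' f inferInstance hX'i hX'n ⟨U₀, hU₀, hU₀i⟩
  haveI hfU : IsIso (f ∣_ FEt.puncturedSpec A) := PtBlowLib.isIso_punctured hdim f hU₀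
  let g := Spec.map (CommRingCat.ofHom (algebraMap A (Curv2.cpl A)))
  let Z := pullback f g
  let p₁ := pullback.fst f g
  let p₂ : Z ⟶ Spec (CommRingCat.of (Curv2.cpl A)) := pullback.snd f g
  haveI : Flat g := (HasRingHomProperty.Spec_iff (P := @Flat)).2
    (RingHom.flat_algebraMap_iff.2 (inferInstanceAs (Module.Flat A (AdicCompletion (IsLocalRing.maximalIdeal A) A))))
  haveI : Flat p₁ := inferInstance
  have hpre : g ⁻¹ᵁ FEt.puncturedSpec A = FEt.puncturedSpec (Curv2.cpl A) := by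
    ext p
    refine not_congr ⟨fun hp' => ?_, fun hp' => ?_⟩
    · have h1 : p.asIdeal.comap (algebraMap A (Curv2.cpl A)) = IsLocalRing.maximalIdeal A :=
        congrArg PrimeSpectrum.asIdeal (Set.mem_singleton_iff.1 hp')
      refine Set.mem_singleton_iff.2 (PrimeSpectrum.ext ?_)
      refine le_antisymm (IsLocalRing.le_maximalIdeal p.isPrime.ne_top) ?_
      show IsLocalRing.maximalIdeal (Curv2.cpl A) ≤ p.asIdeal
      rw [AdicCompletion.maximalIdeal_eq_map, Ideal.map_le_iff_le_comap, h1]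
    · obtain rfl := Set.mem_singleton_iff.1 hp'
      refine Set.mem_singleton_iff.2 (PrimeSpectrum.ext ?_)
      show (IsLocalRing.maximalIdeal (Curv2.cpl A)).comap (algebraMap A (Curv2.cpl A)) = _
      refine (((IsLocalRing.maximalIdeal.isMaximal A).eq_of_le ?_ ?_)).symm
      · exact Ideal.comap_ne_top _ (IsLocalRing.maximalIdeal.isMaximal _).ne_top
      · rw [AdicCompletion.maximalIdeal_eq_map]; exact Ideal.le_comap_map
  haveI hp₂U : IsIso (p₂ ∣_ FEt.puncturedSpec (Curv2.cpl A)) :=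
    hpre ▸ RGFlatLib.isIso_restrict_of_isPullback (IsPullback.of_hasPullback f g).flip hfU
  have hne' := PtBlowLib.punctured_nonempty (A := Curv2.cpl A) hdim'
  haveI : IsProper p₂ := inferInstance
  haveI : IsIntegral Z := by
    have hX'U : ((f ⁻¹ᵁ FEt.puncturedSpec A : X'.Opens) : Set X').Nonempty :=
      ⟨_, ((f ∣_ FEt.puncturedSpec A).homeomorph.symm ⟨_, hne.some_mem⟩).2⟩
    haveI : Nonempty (FEt.puncturedSpec (Curv2.cpl A)) := hne'.to_subtype
    haveI : IsIntegral (FEt.puncturedSpec (Curv2.cpl A) : Scheme.{u}) :=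
      isIntegral_of_isOpenImmersion (FEt.puncturedSpec (Curv2.cpl A)).ι
    have hopen : p₁ ⁻¹ᵁ f ⁻¹ᵁ FEt.puncturedSpec A = p₂ ⁻¹ᵁ FEt.puncturedSpec (Curv2.cpl A) := by
      rw [← hpre, ← Scheme.Hom.comp_preimage, ← Scheme.Hom.comp_preimage, pullback.condition]
    haveI : IsIntegral (p₁ ⁻¹ᵁ f ⁻¹ᵁ FEt.puncturedSpec A : Scheme.{u}) := by
      rw [hopen]
      haveI : Nonempty (p₂ ⁻¹ᵁ FEt.puncturedSpec (Curv2.cpl A)) :=
        ⟨(p₂ ∣_ FEt.puncturedSpec (Curv2.cpl A)).homeomorph.symm ⟨_, hne'.some_mem⟩⟩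
      exact isIntegral_of_isOpenImmersion (p₂ ∣_ FEt.puncturedSpec (Curv2.cpl A))
    exact PtBlowLib.isIntegral_of_flat_open p₁ _ hX'U
  letI : X'.Over (Spec (CommRingCat.of A)) := ⟨f⟩
  letI : Z.Over (Spec (CommRingCat.of (Curv2.cpl A))) := ⟨p₂⟩
  letI : Y.Over (Spec (CommRingCat.of (Curv2.cpl A))) := ⟨c⟩
  haveI : CompactSpace X' := QuasiCompact.compactSpace_of_compactSpace f
  haveI : QuasiSeparatedSpace X' := quasiSeparatedSpace_of_quasiSeparated f
  haveI : Coh.IsQCoh (Coh.structureModule X') := QCohLib.isQCoh_unit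
  obtain ⟨eH⟩ := Groth.Agent.S0034.result A (Curv2.cpl A) X' Z p₁ (IsPullback.of_hasPullback f g) (Coh.structureModule X') 1
  haveI := hH
  have hZ : Subsingleton (Coh.HH Z (Coh.structureModule Z) 1) :=
    SerreVanLib.subsingleton_HH_of_iso (KFlatLib.pullUnitIso p₁).symm 1 eH.symm.toEquiv.subsingleton
  let m : Z ⟶ Y := pullback.map f g b g (ν ≫ k) (𝟙 _) (𝟙 _) (by rw [Category.comp_id, Category.assoc, hk])
    (by rw [Category.comp_id, Category.id_comp]) ≫ e.inv ≫ h
  have hm : m ≫ c = p₂ := by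
    have : e.inv ≫ c'' = pullback.snd b g := by rw [← he, Iso.inv_hom_id_assoc]
    simp only [m, Category.assoc, hh, this, pullback.lift_snd, Category.comp_id, p₂]
  haveI : IsProper (Y ↘ Spec (CommRingCat.of (Curv2.cpl A))) := hp
  haveI : IsProper (Z ↘ Spec (CommRingCat.of (Curv2.cpl A))) := ‹IsProper p₂›
  obtain ⟨-, -, -, hlen⟩ := Groth.Agent.S7338.result (Curv2.cpl A) hdim' Y Z ⟨V₀, hV₀, hiso⟩ ⟨_, hne', hp₂U⟩ hn m hm
  haveI := hZ
  rw [Module.length_eq_zero, eq_comm, add_eq_zero] at hlen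
  exact Module.length_eq_zero_iff.1 hlen.1

end Groth.Agent.S7301
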