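import Groth.Statements.S7302
import Mathlib
import Groth.Agent.RatModLib.NormalCpl
import Groth.Agent.S7301
import Groth.Agent.S1650
import Groth.Agent.S0568
import Groth.Agent.S7305
import Groth.Agent.BlowUpLib.Props
import Groth.Agent.BlowUpLib.Exists
import Groth.Agent.CatLib.Completion
-- import your own Groth.Agent.* helpers here

set_option autoImplicit false
universe u
open CategoryTheory CategoryTheory.Limits AlgebraicGeometry
open Resolve

namespace Groth.Agent.S7302

/-- Let (A, m) be a Nagata local normal domain of dimension two which defines a rational singularity and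
whose m-adic completion is a normal domain, and let b : X → Spec A be the blowing up in m. Then for
every closed point x of X the completion of the local ring O_{X,x} at its maximal ideal is a normal
domain. -/
theorem result (A : Type u) [CommRing A] [IsDomain A] [IsLocalRing A] [IsNoetherianRing A]
    [IsIntegrallyClosed A] (hN : CAlg.IsNagata A) (hdim : ringKrullDim A = 2) (hA : Curv2.IsRationalSing A)
    [IsDomain (Curv2.cpl A)] [IsIntegrallyClosed (Curv2.cpl A)]
    (X : Scheme.{u}) (b : X ⟶ Spec (CommRingCat.of A)) (hb : BlowUp.IsBlowUp b (Curv2.idealSheaf A (IsLocalRing.maximalIdeal A)))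
    (x : X) (hx : IsClosed ({x} : Set X)) :
    IsDomain (Curv2.cpl (X.presheaf.stalk x)) ∧ IsIntegrallyClosed (Curv2.cpl (X.presheaf.stalk x)) := by
  haveI : IsNoetherianRing (Curv2.cpl A) := CatLib.isNoetherianRing_cpl A
  haveI : IsAdicComplete (IsLocalRing.maximalIdeal (Curv2.cpl A)) (Curv2.cpl A) := by
    rw [AdicCompletion.maximalIdeal_eq_map]
    exact AdicRingLib.isAdicComplete_map (C := A) (K := IsLocalRing.maximalIdeal A) (IsNoetherian.noetherian _)
  have hdim' : ringKrullDim (Curv2.cpl A) = 2 := (CatLib.ringKrullDim_cpl A).trans hdim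
  have hA' : Curv2.IsRationalSing (Curv2.cpl A) := Groth.Agent.S7301.result A hN hdim hA
  have hN' : CAlg.IsNagata (Curv2.cpl A) := Groth.Agent.S0568.result (Curv2.cpl A)
  let g := Spec.map (CommRingCat.ofHom (algebraMap A (Curv2.cpl A)))
  haveI : Flat g := (HasRingHomProperty.Spec_iff (P := @Flat)).2
    (RingHom.flat_algebraMap_iff.2 (inferInstanceAs (Module.Flat A (AdicCompletion (IsLocalRing.maximalIdeal A) A))))
  have hI : ((IsLocalRing.maximalIdeal A).map (algebraMap A (Curv2.cpl A))) = IsLocalRing.maximalIdeal (Curv2.cpl A) :=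
    (AdicCompletion.maximalIdeal_eq_map (R := A)).symm
  have hbY : BlowUp.IsBlowUp (Curv2.bcCplSnd A b) (Curv2.idealSheaf (Curv2.cpl A) (IsLocalRing.maximalIdeal (Curv2.cpl A))) := by
    have h := BlowUpLib.isBlowUp_of_isPullback (IsPullback.of_hasPullback b g) hb
    have h1 : (Curv2.idealSheaf A (IsLocalRing.maximalIdeal A)).comap g =
        Curv2.idealSheaf (Curv2.cpl A) (IsLocalRing.maximalIdeal (Curv2.cpl A)) :=
      (BlowUpLib.comap_specIdeal (algebraMap A (Curv2.cpl A)) _).trans (congrArg _ hI)
    rw [h1] at h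
    exact h
  haveI : IsProper b := BlowUpLib.isProper_of_isBlowUp hb fun U => by
    haveI : IsNoetherianRing Γ(Spec (CommRingCat.of A), U.1) := IsLocallyNoetherian.component_noetherian U
    exact IsNoetherian.noetherian _
  have hYn : Pi1.IsNormalScheme (Curv2.bcCpl A b) := Groth.Agent.S1650.result (Curv2.cpl A) hN' hdim' hA' _ _ hbY
  have hbx : b.base x = IsLocalRing.closedPoint A := by
    have h := b.isClosedMap _ hx
    rw [Set.image_singleton] at h
    exact PrimeSpectrum.ext (IsLocalRing.eq_maximalIdeal ((PrimeSpectrum.isClosed_singleton_iff_isMaximal _).1 h))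
  have hg : g.base (IsLocalRing.closedPoint (Curv2.cpl A)) = IsLocalRing.closedPoint A := by
    refine PrimeSpectrum.ext ?_
    show (IsLocalRing.maximalIdeal (Curv2.cpl A)).comap (algebraMap A (Curv2.cpl A)) = _
    refine ((IsLocalRing.maximalIdeal.isMaximal A).eq_of_le (Ideal.comap_ne_top _ (IsLocalRing.maximalIdeal.isMaximal _).ne_top) ?_).symm
    rw [← hI]; exact Ideal.le_comap_map
  obtain ⟨q, hq, -⟩ := Scheme.exists_preimage_of_isPullback (IsPullback.of_hasPullback b g) x
    (IsLocalRing.closedPoint (Curv2.cpl A)) (hbx.trans hg.symm)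
  subst hq
  haveI : LocallyOfFiniteType (Curv2.bcCplSnd A b) := inferInstance
  have hq0 := RatModLib.normal_cpl_stalk (Curv2.cpl A) (GRingLib.isExcellent_complete _) (Curv2.bcCplSnd A b) hYn q
  have hle : ∀ n, IsLocalRing.maximalIdeal (X.presheaf.stalk ((Curv2.bcCplFst A b).base q)) ^ n ≤
      (IsLocalRing.maximalIdeal ((Curv2.bcCpl A b).presheaf.stalk q) ^ n).comap ((Curv2.bcCplFst A b).stalkMap q).hom :=
    fun n => by
      refine le_trans ?_ (Ideal.le_comap_pow _ n)
      exact Ideal.pow_right_mono (IsLocalRing.maximalIdeal_comap ((Curv2.bcCplFst A b).stalkMap q).hom).ge n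
  have hbij : ∀ n, Function.Bijective (Ideal.quotientMap (IsLocalRing.maximalIdeal ((Curv2.bcCpl A b).presheaf.stalk q) ^ n)
      ((Curv2.bcCplFst A b).stalkMap q).hom (hle n)) := by
    intro n
    rcases n with _ | n
    · haveI h0 : ∀ {R : Type u} [CommRing R] (I : Ideal R), Subsingleton (R ⧸ I ^ 0) := fun I =>
        Ideal.Quotient.subsingleton_iff.2 (by rw [pow_zero, Ideal.one_eq_top])
      haveI := h0 (IsLocalRing.maximalIdeal (X.presheaf.stalk ((Curv2.bcCplFst A b).base q)))
      haveI := h0 (IsLocalRing.maximalIdeal ((Curv2.bcCpl A b).presheaf.stalk q))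
      exact ⟨fun a b _ => Subsingleton.elim a b, fun y => ⟨0, Subsingleton.elim _ _⟩⟩
    · exact Groth.Agent.S7305.result A (IsNoetherian.noetherian _) X b q hbx (n + 1) (Nat.succ_pos n) (hle _)
  obtain ⟨e⟩ := CatLib.exists_cpl_equiv_of_bijective _ _ (fun n => RingEquiv.ofBijective _ (hbij n)) fun h z => by
    obtain ⟨a, rfl⟩ := Ideal.Quotient.mk_surjective z
    rfl
  exact RatModLib.normal_of_ringEquiv e.symm hq0

end Groth.Agent.S7302
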