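import Groth.Statements.S7321
import Mathlib
import Groth.Agent.ModifLib.Curve
import Groth.Agent.NormalLib.Regular
-- import your own Groth.Agent.* helpers here

set_option autoImplicit false
universe u
open CategoryTheory CategoryTheory.Limits AlgebraicGeometry
open Resolve

namespace Groth.Agent.S7321

/-- Let Y be an integral Noetherian scheme of dimension one. Then (1) there is an alteration X → Y with
X regular, if and only if (2) Y has a resolution of singularities, i.e. a proper morphism X → Y from
an integral regular scheme which is an isomorphism over a nonempty open of Y; and (2) holds if and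
only if (4) the normalization morphism of Y is finite. (A further equivalent condition, a finite
sequence of blowings up in closed points ending in a regular scheme, is stated separately. The
quasi-compactness and quasi-separatedness binders on Spec K(Y) → Y always hold; they are needed only
to form the normalization.) -/
theorem result (Y : Scheme.{u}) [IsIntegral Y] [IsNoetherian Y]
    (hdim : topologicalKrullDim Y = 1)
    [QuasiCompact (Y.fromSpecStalk (genericPoint Y))] [QuasiSeparated (Y.fromSpecStalk (genericPoint Y))] :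
    ((∃ (X : Scheme.{u}) (g : X ⟶ Y), Curv2.IsAlteration g ∧ ∀ x : X, IsRegularLocalRing (X.presheaf.stalk x)) ↔
      (∃ (X : Scheme.{u}) (g : X ⟶ Y), IsProper g ∧ IsIntegral X ∧
        (∃ V : Y.Opens, (V : Set Y).Nonempty ∧ IsIso (g ∣_ V)) ∧ ∀ x : X, IsRegularLocalRing (X.presheaf.stalk x))) ∧
    ((∃ (X : Scheme.{u}) (g : X ⟶ Y), IsProper g ∧ IsIntegral X ∧
        (∃ V : Y.Opens, (V : Set Y).Nonempty ∧ IsIso (g ∣_ V)) ∧ ∀ x : X, IsRegularLocalRing (X.presheaf.stalk x)) ↔
      IsFinite (Curv2.normalizationι Y)) := by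
  have h14 : (∃ (X : Scheme.{u}) (g : X ⟶ Y), Curv2.IsAlteration g ∧ ∀ x : X, IsRegularLocalRing (X.presheaf.stalk x)) →
      IsFinite (Curv2.normalizationι Y) := by
    rintro ⟨X, g, ⟨hp, hXi, -, hd, V, hV, hf⟩, hreg⟩
    haveI := hp; haveI := hXi; haveI := hd; haveI := hf
    haveI := ModifLib.isFinite_of_alteration g hdim.le V hV
    exact ModifLib.isFinite_normalizationι_of_finite g fun x => by
      haveI := hreg x
      exact ⟨inferInstance, NormalLib.isIntegrallyClosed_of_isRegularLocalRing _⟩
  have h21 : (∃ (X : Scheme.{u}) (g : X ⟶ Y), IsProper g ∧ IsIntegral X ∧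
        (∃ V : Y.Opens, (V : Set Y).Nonempty ∧ IsIso (g ∣_ V)) ∧ ∀ x : X, IsRegularLocalRing (X.presheaf.stalk x)) →
      (∃ (X : Scheme.{u}) (g : X ⟶ Y), Curv2.IsAlteration g ∧ ∀ x : X, IsRegularLocalRing (X.presheaf.stalk x)) := by
    rintro ⟨X, g, hp, hXi, ⟨V, hV, hi⟩, hreg⟩
    haveI := hXi; haveI := hi
    refine ⟨X, g, ⟨hp, hXi, inferInstance, ⟨?_⟩, V, hV, inferInstance⟩, hreg⟩
    refine Dense.mono (Set.singleton_subset_iff.2 ⟨_, ModifLib.map_genericPoint g hV⟩) ?_
    exact dense_iff_closure_eq.2 (genericPoint_spec _)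
  have h42 : IsFinite (Curv2.normalizationι Y) →
      (∃ (X : Scheme.{u}) (g : X ⟶ Y), IsProper g ∧ IsIntegral X ∧
        (∃ V : Y.Opens, (V : Set Y).Nonempty ∧ IsIso (g ∣_ V)) ∧ ∀ x : X, IsRegularLocalRing (X.presheaf.stalk x)) := by
    intro hf
    haveI := hf
    have hbir := LocFFLib.normalization_bir Y
    obtain ⟨V, hV, hi⟩ := PurBirLib.exists_isIso_restrict (Curv2.normalizationι Y) hbir (genericPoint _) hbir.2
    haveI := hi
    haveI : IsLocallyNoetherian (Curv2.normalization Y) := LocallyOfFiniteType.isLocallyNoetherian (Curv2.normalizationι Y)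
    refine ⟨_, Curv2.normalizationι Y, inferInstance, inferInstance, ⟨V, ⟨_, hV⟩, hi⟩, ?_⟩
    exact MiscFlat6.isRegularLocalRing_stalk_of_normal _ (LocFFLib.normalization_isNormal Y)
      (ModifLib.dim_source_le (Curv2.normalizationι Y) (U := V) ⟨_, hV⟩ 1 fun y => (MiscFlat6.ringKrullDim_stalk_le Y y).trans hdim.le)
  exact ⟨⟨fun h => h42 (h14 h), h21⟩, ⟨fun h => h14 (h21 h), h42⟩⟩

end Groth.Agent.S7321
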