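import Groth.Statements.S7327
import Groth.Agent.NagataFG.Main
import Groth.Agent.NagataFG.FiniteType
import Groth.Agent.NormalLib.CompletionReduced
import Groth.Agent.AlgSpLib.ReducedSmooth
import Groth.Agent.LocFFLib.Norm
import Mathlib

set_option backward.isDefEq.respectTransparency false


set_option autoImplicit false
universe u
open CategoryTheory CategoryTheory.Limits AlgebraicGeometry
open Resolve

namespace Groth.Agent.S7327

open scoped TensorProduct nonZeroDivisors in
theorem finite_integralClosure_aux (A : Type u) [CommRing A] [IsLocalRing A] [IsNoetherianRing A]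
    (B : Type u) [CommRing B] [IsDomain B] [Algebra A B] [Algebra.FiniteType A B]
    (L : Type u) [Field L] [Algebra A L] [Algebra B L] [IsFractionRing B L] [IsScalarTower A B L]
    [_root_.IsReduced (L ⊗[A] AdicCompletion (IsLocalRing.maximalIdeal A) A)] :
    Module.Finite B (integralClosure B L) := by
  let H := AdicCompletion (IsLocalRing.maximalIdeal A) A
  obtain ⟨hHn, hff, hN, -, -⟩ := NormalLib.completion_props A
  have : IsNoetherianRing B := Algebra.FiniteType.isNoetherianRing A B
  have : Module.FaithfullyFlat A H := hff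
  have hN' : CAlg.IsNagata (B ⊗[A] H) := NagataFG.isNagata_of_surjective
    (Algebra.TensorProduct.comm A H B).toRingEquiv.toRingHom
    (Algebra.TensorProduct.comm A H B).surjective
    (NagataFG.isNagata_of_finiteType H hN (H ⊗[A] B))
  have : _root_.IsReduced ((B ⊗[A] H) ⊗[B] L) := by
    refine isReduced_of_injective ((Algebra.TensorProduct.comm B (B ⊗[A] H) L).toRingEquiv.trans
      (Algebra.TensorProduct.cancelBaseChange A B B L H).toRingEquiv) (RingEquiv.injective _)
  exact NormalLib.finite_integralClosure_of_isReduced_tensor (B := B ⊗[A] H) hN' (K := L)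

open scoped TensorProduct in
theorem isReduced_tensor_of_le_ker (A : Type u) [CommRing A] [IsLocalRing A] [IsNoetherianRing A]
    (L : Type u) [Field L] [Algebra A L] (h : IsLocalRing.maximalIdeal A ≤ RingHom.ker (algebraMap A L)) :
    _root_.IsReduced (L ⊗[A] AdicCompletion (IsLocalRing.maximalIdeal A) A) := by
  let H := AdicCompletion (IsLocalRing.maximalIdeal A) A
  obtain ⟨-, -, -, -, hsur⟩ := NormalLib.completion_props A
  let ι : L →ₐ[A] L ⊗[A] H := Algebra.TensorProduct.includeLeft
  have hs : Function.Surjective ι := by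
    intro z
    induction z using TensorProduct.induction_on with
    | zero => exact ⟨0, map_zero _⟩
    | tmul l x =>
      obtain ⟨a, ha⟩ := hsur x
      have hk : (IsLocalRing.maximalIdeal A).map (algebraMap A H) ≤
          RingHom.ker (Algebra.TensorProduct.includeRight : H →ₐ[A] L ⊗[A] H) := by
        refine Ideal.map_le_iff_le_comap.2 fun m hm => ?_
        have : algebraMap A L m = 0 := h hm
        rw [Ideal.mem_comap, RingHom.mem_ker, AlgHom.commutes, Algebra.TensorProduct.algebraMap_apply, this,
          TensorProduct.zero_tmul]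
      refine ⟨algebraMap A L a * l, ?_⟩
      have h0 : (1 : L) ⊗ₜ[A] (x - algebraMap A H a) = 0 := hk ha
      have h1 : l ⊗ₜ[A] (x - algebraMap A H a) = 0 := by
        simpa using congrArg (fun z => (l ⊗ₜ[A] (1 : H)) * z) h0
      rw [TensorProduct.tmul_sub, sub_eq_zero] at h1
      simp only [ι, Algebra.TensorProduct.includeLeft_apply]
      rw [h1, Algebra.algebraMap_eq_smul_one, Algebra.algebraMap_eq_smul_one, TensorProduct.tmul_smul,
        smul_mul_assoc, one_mul, TensorProduct.smul_tmul']
    | add x y hx hy =>
      obtain ⟨a, rfl⟩ := hx; obtain ⟨b, rfl⟩ := hy; exact ⟨a + b, map_add _ _ _⟩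
  have : Nontrivial L := inferInstance
  rcases subsingleton_or_nontrivial (L ⊗[A] H) with h0 | h0
  · exact ⟨fun x _ => Subsingleton.elim _ _⟩
  · exact isReduced_of_injective (RingEquiv.ofBijective ι.toRingHom ⟨ι.toRingHom.injective, hs⟩).symm
      (RingEquiv.injective _)

open scoped TensorProduct nonZeroDivisors in
theorem isReduced_tensor_of_normal (A : Type u) [CommRing A] [IsLocalRing A] [IsNoetherianRing A]
    (B : Type u) [CommRing B] [IsDomain B] [Algebra A B]
    (L : Type u) [Field L] [Algebra A L] [Algebra B L] [IsFractionRing B L] [IsScalarTower A B L]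
    (hcl : ¬ IsLocalRing.maximalIdeal A ≤ RingHom.ker (algebraMap A L))
    (hq : ∀ (q : Ideal (B ⊗[A] AdicCompletion (IsLocalRing.maximalIdeal A) A)) [q.IsPrime],
      q.comap Algebra.TensorProduct.includeRight.toRingHom ≠ IsLocalRing.maximalIdeal _ →
      _root_.IsReduced (Localization.AtPrime q)) :
    _root_.IsReduced (L ⊗[A] AdicCompletion (IsLocalRing.maximalIdeal A) A) := by
  let H := AdicCompletion (IsLocalRing.maximalIdeal A) A
  let C := B ⊗[A] H
  have : _root_.IsReduced (L ⊗[B] C) := by
    let _ := Algebra.TensorProduct.rightAlgebra (R := B) (A := L) (B := C)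
    have := IsLocalization.tensorRight (S := C) L B⁰
    refine isReduced_ofLocalizationMaximal (L ⊗[B] C) fun J hJ => ?_
    have := IsLocalization.isLocalization_isLocalization_atPrime_isLocalization
      (Algebra.algebraMapSubmonoid C B⁰) (S := L ⊗[B] C) (Localization.AtPrime J) J
    have hred : _root_.IsReduced (Localization.AtPrime (J.comap (algebraMap C (L ⊗[B] C)))) := by
      refine hq _ fun he => hcl fun m hm => ?_
      by_contra hne
      have hm' : algebraMap A H m ∈ IsLocalRing.maximalIdeal H := by
        rw [IsLocalRing.mem_maximalIdeal, mem_nonunits_iff]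
        exact fun hu => (IsLocalRing.mem_maximalIdeal m).1 hm ((isUnit_map_iff (algebraMap A H) m).1 hu)
      rw [← he] at hm'
      have hcomp : ((1 : L) ⊗ₜ[B] algebraMap A C m : L ⊗[B] C) = (algebraMap A L m) ⊗ₜ[B] (1 : C) := by
        rw [IsScalarTower.algebraMap_apply A B L, IsScalarTower.algebraMap_apply A B C,
          Algebra.algebraMap_eq_smul_one (algebraMap A B m), Algebra.algebraMap_eq_smul_one (algebraMap A B m),
          TensorProduct.smul_tmul]
      refine hJ.ne_top (Ideal.eq_top_of_isUnit_mem _ ?_
        ((IsUnit.mk0 _ hne).map (Algebra.TensorProduct.includeLeftRingHom : L →+* L ⊗[B] C)))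
      show (algebraMap A L m) ⊗ₜ[B] (1 : C) ∈ J
      rw [← hcomp]
      rw [Ideal.mem_comap, AlgHom.toRingHom_eq_coe, RingHom.coe_coe, AlgHom.commutes] at hm'
      exact hm'
    exact isReduced_of_injective (IsLocalization.algEquiv (J.comap (algebraMap C (L ⊗[B] C))).primeCompl
      (Localization.AtPrime J) (Localization.AtPrime (J.comap (algebraMap C (L ⊗[B] C))))) (AlgEquiv.injective _)
  exact isReduced_of_injective (Algebra.TensorProduct.cancelBaseChange A B B L H).toRingEquiv.symm
    (RingEquiv.injective _)

theorem stalk_aux (A : Type u) [CommRing A] [IsLocalRing A] [IsNoetherianRing A]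
    {X : Scheme.{u}} (f : X ⟶ Spec (CommRingCat.of A)) {W : X.Opens} (hW : IsAffineOpen W)
    [Algebra A Γ(X, W)] (halg : algebraMap A Γ(X, W) =
      ((Scheme.ΓSpecIso (CommRingCat.of A)).inv ≫ f.appLE ⊤ W (by simp)).hom)
    (hY : ∀ y : ↥(Curv2.bcCpl A f), (Curv2.bcCplSnd A f).base y ≠ IsLocalRing.closedPoint (Curv2.cpl A) →
      IsDomain ((Curv2.bcCpl A f).presheaf.stalk y) ∧ IsIntegrallyClosed ((Curv2.bcCpl A f).presheaf.stalk y))
    (q : Ideal (TensorProduct A Γ(X, W) (Curv2.cpl A))) [q.IsPrime]
    (hq : q.comap Algebra.TensorProduct.includeRight.toRingHom ≠ IsLocalRing.maximalIdeal (Curv2.cpl A)) :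
    _root_.IsReduced (Localization.AtPrime q) := by
  let g := Spec.map (CommRingCat.ofHom (algebraMap A (Curv2.cpl A)))
  have hfs : hW.fromSpec ≫ f = Spec.map (CommRingCat.ofHom (algebraMap A Γ(X, W))) := by
    rw [halg, ← IsAffineOpen.SpecMap_appLE_fromSpec f (isAffineOpen_top _) hW (by simp), IsAffineOpen.fromSpec_top,
      Scheme.isoSpec_Spec_inv]
    simp [← Spec.map_comp]
  let j := (pullbackSpecIso A Γ(X, W) (Curv2.cpl A)).inv ≫
    pullback.map _ g f g hW.fromSpec (𝟙 _) (𝟙 _) (by simp [hfs]) (by simp)
  let y := j.base ⟨q, inferInstance⟩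
  have hsnd : j ≫ pullback.snd f g = Spec.map (CommRingCat.ofHom
      (Algebra.TensorProduct.includeRight : Curv2.cpl A →ₐ[A] _).toRingHom) := by
    simp [j, g, pullbackSpecIso_inv_snd]
  obtain ⟨hd, -⟩ := hY y fun he => hq <| by
    have h1 := congrArg (fun φ => φ.base ⟨q, inferInstance⟩) hsnd
    simp only [Scheme.Hom.comp_base, TopCat.comp_app] at h1
    exact congrArg PrimeSpectrum.asIdeal (h1.symm.trans he)
  let e1 := (asIso (j.stalkMap ⟨q, inferInstance⟩)).commRingCatIsoToRingEquiv
  let e2 : Localization.AtPrime q ≃+* (Spec (CommRingCat.of (TensorProduct A Γ(X, W) (Curv2.cpl A)))).presheaf.stalk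
      ⟨q, inferInstance⟩ :=
    (StructureSheaf.stalkIso (TensorProduct A Γ(X, W) (Curv2.cpl A)) ⟨q, inferInstance⟩).toRingEquiv
  exact isReduced_of_injective (e2.trans e1.symm) (RingEquiv.injective _)

/-- Let (A, m) be a Noetherian local ring with completion A^, f : X → Spec A a morphism locally of
finite type with X integral, and Y = X ×_{Spec A} Spec(A^). If the complement of the closed fibre in
Y is normal (the local rings of Y at points not over the closed point of Spec(A^) are integrally
closed domains), then the normalization morphism of X is finite. (The published statement also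
identifies the base change of the normalization of X to A^ with the normalization of Y; this row
does not restate that part. The quasi-compactness and quasi-separatedness binders on Spec K(X) → X
always hold.) -/
theorem result (A : Type u) [CommRing A] [IsLocalRing A] [IsNoetherianRing A]
    (X : Scheme.{u}) [IsIntegral X] (f : X ⟶ Spec (CommRingCat.of A)) [LocallyOfFiniteType f]
    [QuasiCompact (X.fromSpecStalk (genericPoint X))] [QuasiSeparated (X.fromSpecStalk (genericPoint X))]
    (hY : ∀ y : ↥(Curv2.bcCpl A f), (Curv2.bcCplSnd A f).base y ≠ IsLocalRing.closedPoint (Curv2.cpl A) →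
      IsDomain ((Curv2.bcCpl A f).presheaf.stalk y) ∧ IsIntegrallyClosed ((Curv2.bcCpl A f).presheaf.stalk y)) :
    IsFinite (Curv2.normalizationι X) := by
  have hint : IsIntegralHom (Curv2.normalizationι X) := inferInstance
  let ρ : ∀ W : X.Opens, A →+* Γ(X, W) := fun W =>
    ((Scheme.ΓSpecIso (CommRingCat.of A)).inv ≫ f.appLE ⊤ W (by simp)).hom
  refine (isFinite_iff _).2 ⟨inferInstance, fun W hW => ?_⟩
  by_cases hne : Nonempty W
  · obtain ⟨ψ, hψ, hψa, -, hint'⟩ := NormDimOneLib.exists_chart X ⟨W, hW⟩
    haveI : IsFractionRing Γ(X, W) X.functionField := functionField_isFractionRing_of_isAffineOpen X _ hW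
    letI := (ρ W).toAlgebra
    letI : Algebra A X.functionField :=
      ((algebraMap Γ(X, W) X.functionField).comp (ρ W)).toAlgebra
    haveI : IsScalarTower A Γ(X, W) X.functionField := IsScalarTower.of_algebraMap_eq' rfl
    haveI : Algebra.FiniteType A Γ(X, W) := by
      rw [← RingHom.finiteType_algebraMap, RingHom.algebraMap_toAlgebra]
      have h1 := HasRingHomProperty.appLE @LocallyOfFiniteType f inferInstance ⟨⊤, isAffineOpen_top _⟩ ⟨W, hW⟩
        (by simp)
      exact h1.comp (RingHom.FiniteType.of_surjective _
        (Scheme.ΓSpecIso (CommRingCat.of A)).commRingCatIsoToRingEquiv.symm.surjective)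
    haveI : _root_.IsReduced (TensorProduct A X.functionField (AdicCompletion (IsLocalRing.maximalIdeal A) A)) := by
      by_cases hcl : IsLocalRing.maximalIdeal A ≤ RingHom.ker (algebraMap A X.functionField)
      · exact isReduced_tensor_of_le_ker A _ hcl
      refine isReduced_tensor_of_normal A Γ(X, W) X.functionField hcl fun q _ hq => ?_
      exact stalk_aux A f hW rfl hY q hq
    haveI hfin : Module.Finite Γ(X, W) (integralClosure Γ(X, W) X.functionField) :=
      finite_integralClosure_aux A Γ(X, W) X.functionField
    letI := ((Curv2.normalizationι X).app W).hom.toAlgebra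
    letI := ψ.toAlgebra
    haveI : IsScalarTower Γ(X, W) Γ(Curv2.normalization X, Curv2.normalizationι X ⁻¹ᵁ W) X.functionField :=
      IsScalarTower.of_algebraMap_eq fun a => (hψa a).symm
    let φ := (IsScalarTower.toAlgHom Γ(X, W) Γ(Curv2.normalization X, Curv2.normalizationι X ⁻¹ᵁ W)
      X.functionField).codRestrict (integralClosure Γ(X, W) X.functionField) fun b =>
        (show _root_.IsIntegral Γ(X, W) b from (Curv2.normalizationι X).isIntegral_app W hW b).algebraMap
    exact Module.Finite.equiv (LinearEquiv.ofBijective φ.toLinearMap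
      ⟨fun a b h => hψ (congrArg Subtype.val h), fun z => by
        obtain ⟨b, hb⟩ := hint' z.1 z.2
        exact ⟨b, Subtype.ext hb⟩⟩).symm
  · have : IsEmpty (Curv2.normalizationι X ⁻¹ᵁ W : (Curv2.normalization X).Opens) :=
      ⟨fun q => hne ⟨⟨_, q.2⟩⟩⟩
    haveI : Subsingleton Γ(Curv2.normalization X, Curv2.normalizationι X ⁻¹ᵁ W) := by
      constructor
      intro a b
      exact TopCat.Sheaf.eq_of_locally_eq' (Curv2.normalization X).sheaf (fun i : Empty => i.elim) _
        (fun i => i.elim) (fun q hq => (this.false ⟨q, hq⟩).elim) a b fun i => i.elim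
    exact RingHom.Finite.of_surjective _ fun b => ⟨0, Subsingleton.elim _ _⟩

end Groth.Agent.S7327
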