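import Groth.Statements.S7328
import Mathlib
import Groth.Agent.ModUpLib.Main
-- import your own Groth.Agent.* helpers here

set_option autoImplicit false
universe u
open CategoryTheory CategoryTheory.Limits AlgebraicGeometry
open Resolve

namespace Groth.Agent.S7328

/-- Suppose A and B are two-dimensional local normal Nagata domains and A → B is an injective, finite,
local ring map for which the fraction field of B is separable over that of A. If A admits reduction
to rational singularities (the lengths of the A-modules H^1(X, O_X), over all proper morphisms X →
Spec A from an integral normal scheme which are an isomorphism over a nonempty open, are bounded),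
then B admits it as well (the same lengths for B are bounded). The fraction field of B is given an
algebra structure over that of A compatible with A → B. -/
theorem result (A B : Type u) [CommRing A] [CommRing B] [IsDomain A] [IsDomain B]
    [IsLocalRing A] [IsLocalRing B] [IsNoetherianRing A] [IsNoetherianRing B] [IsIntegrallyClosed A] [IsIntegrallyClosed B]
    (hNA : CAlg.IsNagata A) (hNB : CAlg.IsNagata B) (hdA : ringKrullDim A = 2) (hdB : ringKrullDim B = 2)
    [Algebra A B] [Module.Finite A B] (hinj : Function.Injective (algebraMap A B)) [IsLocalHom (algebraMap A B)]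
    [Algebra (FractionRing A) (FractionRing B)]
    (hcompat : ∀ a : A, algebraMap (FractionRing A) (FractionRing B) (algebraMap A (FractionRing A) a) =
      algebraMap B (FractionRing B) (algebraMap A B a))
    [Algebra.IsSeparable (FractionRing A) (FractionRing B)]
    (hA : (∃ N : ℕ, ∀ (X : Scheme.{u}) [X.Over (Spec (CommRingCat.of A))], IsProper (X ↘ Spec (CommRingCat.of A)) →
        IsIntegral X → Pi1.IsNormalScheme X →
        (∃ U : (Spec (CommRingCat.of A)).Opens, (U : Set (Spec (CommRingCat.of A))).Nonempty ∧ IsIso ((X ↘ Spec (CommRingCat.of A)) ∣_ U)) →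
        Module.length A (Coh.HH X (Coh.structureModule X) 1) ≤ (N : ℕ∞))) :
    (∃ N : ℕ, ∀ (X : Scheme.{u}) [X.Over (Spec (CommRingCat.of B))], IsProper (X ↘ Spec (CommRingCat.of B)) →
        IsIntegral X → Pi1.IsNormalScheme X →
        (∃ U : (Spec (CommRingCat.of B)).Opens, (U : Set (Spec (CommRingCat.of B))).Nonempty ∧ IsIso ((X ↘ Spec (CommRingCat.of B)) ∣_ U)) →
        Module.length B (Coh.HH X (Coh.structureModule X) 1) ≤ (N : ℕ∞)) := by
  haveI : IsScalarTower A (FractionRing A) (FractionRing B) := .of_algebraMap_eq fun a => by
    rw [hcompat, ← IsScalarTower.algebraMap_apply]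
  obtain ⟨NA, hNA'⟩ := hA
  exact ModUpLib.goes_up A B hNA hNB hdB hinj (FractionRing A) (FractionRing B) NA hNA'

end Groth.Agent.S7328
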