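import Groth.Statements.S7330
import Mathlib
import Groth.Agent.ModifLib.Max
import Groth.Agent.ModifLib.Curve
import Groth.Agent.ModifLib.Leray
import Groth.Agent.ModifLib.Join
import Groth.Agent.S7338
import Groth.Agent.S9833
import Groth.Agent.S0566
import Groth.Agent.S1274
import Groth.Agent.S0033
import Groth.Agent.ParaFLib.Normal
import Groth.Agent.KFlatLib.PerfectPull
import Groth.Agent.RelProjLib.ProjProper
import Groth.Agent.QuotRepLib.Saturate
import Groth.Agent.QCohLib.Push
import Groth.Agent.QCohLib.Vanishing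
-- import your own Groth.Agent.* helpers here

set_option autoImplicit false
universe u
open CategoryTheory CategoryTheory.Limits AlgebraicGeometry
open Resolve

namespace Groth.Agent.S7330

/-- Let (A, m) be a local normal Nagata domain of dimension two for which reduction to rational
singularities is possible (the lengths of H^1(X, O_X) over all proper morphisms X → Spec A from an
integral normal scheme which are an isomorphism over a nonempty open are bounded). Then there is
such a normal modification f : X → Spec A, with f projective, such that at each closed point x of X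
the stalk O_{X,x} is a rational singularity. (The published statement obtains X by a finite sequence
of normalized blowings up in closed points; this row asserts only the resulting modification.) -/
theorem result (A : Type u) [CommRing A] [IsDomain A] [IsLocalRing A] [IsNoetherianRing A]
    [IsIntegrallyClosed A] (hN : CAlg.IsNagata A) (hdim : ringKrullDim A = 2)
    (hA : (∃ N : ℕ, ∀ (X : Scheme.{u}) [X.Over (Spec (CommRingCat.of A))], IsProper (X ↘ Spec (CommRingCat.of A)) →
        IsIntegral X → Pi1.IsNormalScheme X →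
        (∃ U : (Spec (CommRingCat.of A)).Opens, (U : Set (Spec (CommRingCat.of A))).Nonempty ∧ IsIso ((X ↘ Spec (CommRingCat.of A)) ∣_ U)) →
        Module.length A (Coh.HH X (Coh.structureModule X) 1) ≤ (N : ℕ∞))) :
    ∃ (X : Scheme.{u}) (f : X ⟶ Spec (CommRingCat.of A)), IsProper f ∧ IsIntegral X ∧ Pi1.IsNormalScheme X ∧
      (∃ U : (Spec (CommRingCat.of A)).Opens, (U : Set (Spec (CommRingCat.of A))).Nonempty ∧ IsIso (f ∣_ U)) ∧
      RelProj.IsProjective f ∧
      ∀ x : X, IsClosed ({x} : Set X) → Curv2.IsRationalSing (X.presheaf.stalk x) := by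
  classical
  let S := Spec (CommRingCat.of A)
  obtain ⟨N, hN'⟩ := hA
  have hdS : ∀ s : S, ringKrullDim (S.presheaf.stalk s) ≤ 2 := fun t =>
    ((DimIneqLib.stalk_dim_le_dim t).trans_eq (PrimeSpectrum.topologicalKrullDim_eq_ringKrullDim _)).trans hdim.le
  have hNS : ∀ U : S.affineOpens, CAlg.IsNagata Γ(S, U.1) := fun U =>
    Groth.Agent.S9833.result S (fun _ : PUnit.{u+1} => ⊤) (iSup_const) (fun _ => isAffineOpen_top _)
      (fun _ => by
        letI := ((Scheme.ΓSpecIso (CommRingCat.of A)).inv.hom).toAlgebra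
        haveI : Algebra.FiniteType A Γ(S, ⊤) :=
          RingHom.FiniteType.of_surjective _ (ConcreteCategory.bijective_of_isIso (Scheme.ΓSpecIso (CommRingCat.of A)).inv).2
        exact Groth.Agent.S0566.result A hN Γ(S, ⊤)) U.1 U.2
  let P : ℕ → Prop := fun ℓ => ∃ (X : Scheme.{u}) (f : X ⟶ S), IsProper f ∧ IsIntegral X ∧ Pi1.IsNormalScheme X ∧
    (∃ U : S.Opens, (U : Set S).Nonempty ∧ IsIso (f ∣_ U)) ∧ RelProj.IsProjective f ∧
    (letI : X.Over S := ⟨f⟩; Module.length A (Coh.HH X (Coh.structureModule X) 1) = (ℓ : ℕ∞))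
  have hP0 : P 0 := by
    refine ⟨S, 𝟙 S, inferInstance, inferInstance, ParaFLib.isNormal_spec A, ⟨⊤, ⟨genericPoint S, trivial⟩, inferInstance⟩,
      Groth.Agent.S4452.result (𝟙 S), ?_⟩
    letI : S.Over S := ⟨𝟙 S⟩
    haveI hO : Coh.IsQCoh (Coh.structureModule S) := (DevissLib.isCoh_structureModule S).1
    haveI := QCohLib.subsingleton_HH_affine (Coh.structureModule S) 1 one_pos
    simp
  have hPle : ∀ ℓ, P ℓ → ℓ ≤ N := fun ℓ ⟨X, f, hp, hi, hn, hU, _, hl⟩ => by
    letI : X.Over S := ⟨f⟩
    have := hN' X hp hi hn hU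
    rw [hl] at this
    exact_mod_cast this
  have hPmax := Nat.findGreatest_spec (P := P) (Nat.zero_le N) hP0
  obtain ⟨X, f, hp, hi, hn, hU, hproj, hl⟩ := hPmax
  refine ⟨X, f, hp, hi, hn, hU, hproj, fun x hx Y fY hpY hiY hnY hUY => ?_⟩
  obtain ⟨Uf, hUf, hiUf⟩ := hU
  haveI := hiUf
  obtain ⟨U, hU, hiU⟩ := hUY
  haveI := hiU
  letI : X.Over S := ⟨f⟩
  haveI : IsProper (X ↘ Spec (CommRingCat.of A)) := hp
  haveI : IsLocallyNoetherian X := LocallyOfFiniteType.isLocallyNoetherian f
  haveI : CompactSpace X := QuasiCompact.compactSpace_of_compactSpace f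
  haveI : IsNoetherian X := {}
  haveI : X.IsSeparated := ⟨by rw [← Limits.terminal.comp_from f]; infer_instance⟩
  let Ax := X.presheaf.stalk x
  haveI := (hn x).1
  haveI := (hn x).2
  have hdx : ringKrullDim Ax ≤ 2 := (ModifLib.stalk_dim_le f hUf x).trans (hdS _)
  let Sx := Spec Ax
  haveI : IsDominant fY := by
    refine ⟨?_⟩
    have hg : fY (genericPoint Y) = genericPoint Sx := ModifLib.map_genericPoint fY hU
    refine dense_iff_closure_eq.2 (Set.eq_univ_of_univ_subset ?_)
    refine ((genericPoint_spec Sx).def ▸ closure_mono ?_ : (Set.univ : Set Sx) ⊆ closure (Set.range fY))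
    rintro _ rfl
    exact ⟨_, hg⟩
  haveI hOY : Coh.IsQCoh (Coh.structureModule Y) := (DevissLib.isCoh_structureModule Y).1
  rcases le_or_gt (ringKrullDim Ax) 1 with hd1 | hd1
  · haveI := ModifLib.isFinite_of_alteration fY
      ((PrimeSpectrum.topologicalKrullDim_eq_ringKrullDim _).trans_le hd1) U hU
    haveI : IsAffine Y := isAffine_of_isAffineHom fY
    exact QCohLib.subsingleton_HH_affine _ 1 one_pos
  have hdim2 : ringKrullDim Ax = 2 := le_antisymm hdx (by
    revert hd1
    generalize ringKrullDim Ax = d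
    intro hd
    cases d with
    | bot => simp at hd
    | coe d =>
      have hd' : (1 : ℕ∞) < d := WithBot.coe_lt_coe.1 hd
      exact WithBot.coe_le_coe.2 (Order.add_one_le_of_lt hd' : (1 : ℕ∞) + 1 ≤ d))
  -- dominate the modification by a blowing up
  obtain ⟨𝓘, S', b, hb, hadm, h, hh⟩ := Groth.Agent.S1274.result fY U (TopologicalSpace.NoetherianSpace.isCompact _)
  obtain ⟨I, hI⟩ := ModifLib.exists_extend_stalk x 𝓘
  have hI0 : I ≠ ⊥ := fun h0 => by
    obtain ⟨s, hs⟩ := hU
    have hsupp : s ∈ (𝓘.support : Set Sx) := by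
      rw [← hI, h0, Scheme.IdealSheafData.support_comap, Scheme.IdealSheafData.support_bot]
      trivial
    exact (Set.disjoint_left.1 hadm.2 hsupp) hs
  obtain ⟨B, X', bX, ν, hbX, hgp, hi', hn', Ug, hUg, hiUg⟩ := ModifLib.exists_normalized_blowUp hn
    (ModifLib.isNagata_affineOpens f hNS) I hI0
  haveI := hi'
  haveI := hiUg
  let g := ν ≫ bX
  haveI : IsProper g := RelProjLib.isProper_of_isProjective hgp
  letI : X'.Over S := ⟨g ≫ f⟩
  have hgη : g (genericPoint X') = genericPoint X := ModifLib.map_genericPoint g hUg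
  -- the composite is a modification
  have hfη : f (genericPoint X) = genericPoint S := ModifLib.map_genericPoint f hUf
  let U3 : S.Opens := Uf ⊓ ⟨(f '' (Ug : Set X)ᶜ)ᶜ, (f.isClosedMap _ Ug.2.isClosed_compl).isOpen_compl⟩
  have hU3 : (U3 : Set S).Nonempty := by
    refine ⟨genericPoint S, ?_, ?_⟩
    · rw [← hfη]; exact ModifLib.genericPoint_mem f hUf
    · rintro ⟨z, hz, hzη⟩
      have hzU : z ∈ f ⁻¹ᵁ Uf := by
        show f z ∈ Uf
        rw [hzη, ← hfη]
        exact ModifLib.genericPoint_mem f hUf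
      have := (f ∣_ Uf).homeomorph.injective (a₁ := ⟨z, hzU⟩) (a₂ := ⟨genericPoint X, ModifLib.genericPoint_mem f hUf⟩)
        (Subtype.ext (((morphismRestrict_base_coe f Uf _).trans (hzη.trans hfη.symm)).trans
          (morphismRestrict_base_coe f Uf _).symm))
      exact hz (by
        rw [show z = genericPoint X from congrArg Subtype.val this]
        exact ((genericPoint_spec X).mem_open_set_iff Ug.2).2 (by simpa using hUg))
  have hi3 : IsIso ((g ≫ f) ∣_ U3) := by
    haveI := ModifLib.isIso_restrict_of_le f (inf_le_left : U3 ≤ Uf)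
    have hle : f ⁻¹ᵁ U3 ≤ Ug := fun z hz => by
      by_contra hc
      exact (show f z ∈ U3 from hz).2 ⟨z, hc, rfl⟩
    haveI := ModifLib.isIso_restrict_of_le g hle
    rw [morphismRestrict_comp]
    exact IsIso.comp_isIso' (by assumption) (by assumption)
  have hgf : RelProj.IsProjective (g ≫ f) := Groth.Agent.S9708.result g f hgp hproj
  -- maximality
  haveI : IsProper (g ≫ f) := inferInstance
  haveI : IsProper (X' ↘ Spec (CommRingCat.of A)) := inferInstanceAs (IsProper (g ≫ f))
  obtain ⟨hglob, -, -, hlen⟩ := Groth.Agent.S7338.result A hdim X X' ⟨Uf, hUf, hiUf⟩ ⟨U3, hU3, hi3⟩ hn g rfl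
  have hle' : Module.length A (Coh.HH X' (Coh.structureModule X') 1) ≤
      Module.length A (Coh.HH X (Coh.structureModule X) 1) := by
    have hb' := hN' X' inferInstance hi' hn' ⟨U3, hU3, hi3⟩
    obtain ⟨ℓ, hℓ⟩ := ENat.ne_top_iff_exists.1 (ne_top_of_le_ne_top (ENat.coe_ne_top N) hb')
    rw [hl, ← hℓ]
    have : P ℓ := ⟨X', g ≫ f, inferInstance, hi', hn', ⟨U3, hU3, hi3⟩, hgf, hℓ.symm⟩
    exact_mod_cast Nat.le_findGreatest (hPle ℓ this) this
  have h0 : Module.length A (Coh.HH X ((Coh.Rpush g 1).obj (Coh.structureModule X')) 0) = 0 := by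
    rw [hlen, hl] at hle'
    generalize Module.length A (Coh.HH X ((Coh.Rpush g 1).obj (Coh.structureModule X')) 0) = z at hle' ⊢
    cases z with
    | top => simp at hle'
    | coe z => norm_cast at hle' ⊢; omega
  have hR : IsZero ((Coh.Rpush g 1).obj (Coh.structureModule X')) := by
    haveI := Module.length_eq_zero_iff.1 h0
    haveI : Subsingleton Γ((Coh.Rpush g 1).obj (Coh.structureModule X'), ⊤) :=
      (ModifLib.h0Sec _).symm.toEquiv.subsingleton
    obtain ⟨ι, p, hep⟩ := hglob
    refine @IsZero.of_epi_eq_zero _ _ _ _ _ p hep (((Coh.Rpush g 1).obj (Coh.structureModule X')).freeHomEquiv.injective (funext fun i => ?_))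
    refine Subtype.ext (funext fun V => ?_)
    have e1 := PresheafOfModules.sections_property (((Coh.Rpush g 1).obj (Coh.structureModule X')).freeHomEquiv p i) (homOfLE (le_top : V.unop ≤ ⊤)).op
    have e2 := PresheafOfModules.sections_property (((Coh.Rpush g 1).obj (Coh.structureModule X')).freeHomEquiv (0 : (SheafOfModules.free ι : X.Modules) ⟶ _) i) (homOfLE (le_top : V.unop ≤ ⊤)).op
    exact e1.symm.trans ((congrArg _ (Subsingleton.elim (α := Γ((Coh.Rpush g 1).obj (Coh.structureModule X'), ⊤)) _ _)).trans e2)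
  -- localize at the point
  obtain ⟨hiP, hnP⟩ := ModifLib.normal_pullback_stalk hn' g x (hgη ▸ genericPoint_specializes x)
  let Z := pullback g (X.fromSpecStalk x)
  let fP : Z ⟶ Sx := pullback.snd g (X.fromSpecStalk x)
  haveI : IsProper fP := inferInstance
  letI : Sx.Over Sx := ⟨𝟙 Sx⟩
  letI : Z.Over Sx := ⟨fP⟩
  letI : Y.Over Sx := ⟨fY⟩
  haveI : IsProper (Y ↘ Spec (CommRingCat.of (X.presheaf.stalk x))) := hpY
  haveI : IsProper (Z ↘ Spec (CommRingCat.of (X.presheaf.stalk x))) := inferInstanceAs (IsProper fP)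
  haveI := AlgSpLib.flat_fromSpecStalk x
  haveI hOX' : Coh.IsQCoh (Coh.structureModule X') := (DevissLib.isCoh_structureModule X').1
  haveI : IsLocallyNoetherian Z := LocallyOfFiniteType.isLocallyNoetherian fP
  haveI hOZ : Coh.IsQCoh (Coh.structureModule Z) := (DevissLib.isCoh_structureModule Z).1
  have hRP : IsZero ((Coh.Rpush fP 1).obj (Coh.structureModule Z)) := by
    obtain ⟨e⟩ := Groth.Agent.S0033.result g (X.fromSpecStalk x) (pullback.fst g (X.fromSpecStalk x)) fP
      (IsPullback.of_hasPullback _ _) (Coh.structureModule X') 1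
    exact IsZero.of_iso ((Scheme.Modules.pullback (X.fromSpecStalk x)).map_isZero hR)
      ((Coh.Rpush fP 1).mapIso (KFlatLib.pullUnitIso (f := pullback.fst g (X.fromSpecStalk x))).symm ≪≫ e.symm)
  haveI : Coh.IsQCoh ((Coh.push fP).obj (Coh.structureModule Z)) := QCohLib.isQCoh_pushforward fP _
  have hlZ : Module.length Ax (Coh.HH Z (Coh.structureModule Z) 1) = 0 := by
    rw [ModifLib.length_leray (A := Ax) fP (Category.comp_id _) _ (QCohLib.subsingleton_HH_affine _ 2 two_pos)]
    haveI := QCohLib.subsingleton_HH_affine ((Coh.push fP).obj (Coh.structureModule Z)) 1 one_pos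
    haveI : Subsingleton (Coh.HH Sx ((Coh.Rpush fP 1).obj (Coh.structureModule Z)) 0) :=
      (ModifLib.h0Sec _).toEquiv.subsingleton_congr.2
        (subsingleton_of_forall_eq 0 fun s => by
          have := congrArg (fun φ : (Coh.Rpush fP 1).obj (Coh.structureModule Z) ⟶ _ => φ.app ⊤ s) (hRP.eq_of_src (𝟙 _) 0)
          exact this)
    simp
  -- the map to `Y`
  have hPB := BlowUpLib.isBlowUp_of_isPullback (IsPullback.of_hasPullback bX (X.fromSpecStalk x)) hbX
  rw [hI] at hPB
  obtain ⟨e, he⟩ := BlowUpLib.exists_iso hb hPB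
  let k : Z ⟶ Y := pullback.lift (pullback.fst g (X.fromSpecStalk x) ≫ ν) (pullback.snd g (X.fromSpecStalk x))
    (by rw [Category.assoc]; exact pullback.condition) ≫ e.hom ≫ h
  have hk : k ≫ fY = fP := by
    simp only [k, Category.assoc, hh, he, pullback.lift_snd]
    rfl
  haveI := hiP
  haveI := hiY
  obtain ⟨l, hl'⟩ := Groth.Agent.QuotRep.isPullback_restrict (IsPullback.of_hasPullback g (X.fromSpecStalk x))
    (X.fromSpecStalk x ⁻¹ᵁ Ug) Ug le_rfl
  haveI hiP' : IsIso (fP ∣_ (X.fromSpecStalk x ⁻¹ᵁ Ug)) :=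
    MorphismProperty.of_isPullback (P := MorphismProperty.isomorphisms Scheme.{u}) hl' hiUg
  have hne : ((X.fromSpecStalk x ⁻¹ᵁ Ug : Sx.Opens) : Set Sx).Nonempty := by
    have : genericPoint X ∈ Set.range (X.fromSpecStalk x) := by
      rw [Scheme.range_fromSpecStalk]; exact genericPoint_specializes x
    obtain ⟨t, ht⟩ := this
    refine ⟨t, ?_⟩
    show X.fromSpecStalk x t ∈ Ug
    rw [ht]
    exact ((genericPoint_spec X).mem_open_set_iff Ug.2).2 (by simpa using hUg)
  obtain ⟨-, -, -, hlY⟩ := Groth.Agent.S7338.result Ax hdim2 Y Z ⟨U, hU, hiU⟩ ⟨_, hne, hiP'⟩ hnY k hk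
  rw [hlZ] at hlY
  exact Module.length_eq_zero_iff.1 (add_eq_zero.1 hlY.symm).1

end Groth.Agent.S7330
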