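import Groth.Statements.S7332
import Mathlib
import Groth.Agent.TraceGRLib.Main
-- import your own Groth.Agent.* helpers here

set_option autoImplicit false
universe u
open CategoryTheory CategoryTheory.Limits AlgebraicGeometry
attribute [local instance] HasDerivedCategory.standard
open Resolve

namespace Groth.Agent.S7332

/-- Let (A, m) be a local Noetherian normal domain of dimension two which is Nagata and has a dualizing
module ω_A (so that ω_A in degree zero is a dualizing complex), and let f : X → Spec A be a proper
morphism from an integral normal scheme which is an isomorphism over a nonempty open. Let ω_X be the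
dualizing module of X normalized relative to ω_A, namely the degree-zero cohomology sheaf of
f^!(ω_A~), where f^! is the right adjoint of Rf_* on D_QCoh (its existence, and that Rf_* preserves
D_QCoh, are carried as hypotheses, as is left exactness of M ↦ M~). Then R^1 f_* ω_X = 0, i.e.
H^1(X, ω_X) = 0. -/
theorem result (A : Type u) [CommRing A] [IsDomain A] [IsLocalRing A] [IsNoetherianRing A]
    [IsIntegrallyClosed A] (hN : CAlg.IsNagata A) (hdim : ringKrullDim A = 2)
    (X : Scheme.{u}) (f : X ⟶ Spec (CommRingCat.of A)) [IsProper f] [IsIntegral X] (hXn : Pi1.IsNormalScheme X)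
    (hbir : ∃ U : (Spec (CommRingCat.of A)).Opens, (U : Set (Spec (CommRingCat.of A))).Nonempty ∧ IsIso (f ∣_ U))
    (ωA : Type u) [AddCommGroup ωA] [Module A ωA] (hω : Dual.IsDualizing A (Dual.inD A ωA))
    [PreservesFiniteLimits (tilde.functor (CommRingCat.of A))]
    [DCoh.HasRpush f] (h : DCoh.RpushPreservesQCoh f) [DCoh.HasShriek f h]
    (WA : DCoh.DQCoh (Spec (CommRingCat.of A))) (hWA : Nonempty (WA.obj ≅ (DCoh.tildeD (CommRingCat.of A)).obj (Dual.inD A ωA))) :
    Subsingleton (Coh.HH X (DCoh.dualizingMod f h WA 0) 1) := by
  exact @TraceGRLib.gr_vanishing A _ _ _ _ _ _ ωA _ _ hω hdim X ⟨f⟩ ‹DCoh.HasRpush f›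
    ⟨‹IsProper f›, inferInstance, hXn, hbir⟩ h ‹DCoh.HasShriek f h› WA hWA.some

end Groth.Agent.S7332
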