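import Groth.Statements.S7335
import Mathlib
import Groth.Agent.TraceGRLib.Main
import Groth.Agent.RatModLib.BlowData
import Groth.Agent.RatModLib.Sections
import Groth.Agent.BlowPtLib.Plane
import Groth.Agent.BlowRegLib.PosA
import Groth.Agent.S2297
import Groth.Agent.MiscFlat6.TensorGG
-- import your own Groth.Agent.* helpers here

set_option autoImplicit false
universe u
open CategoryTheory CategoryTheory.Limits AlgebraicGeometry
attribute [local instance] HasDerivedCategory.standard
open Resolve

namespace Groth.Agent.S7335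

/-- Let (A, m) be a local normal Nagata domain of dimension two which defines a rational singularity, is
not regular, and has a dualizing module ω_A; let b : X → Spec A be the blowing up in m, with
exceptional ideal sheaf I = O_X(1), and let ω_X be the dualizing module of X normalized relative to
ω_A (the degree-zero cohomology sheaf of b^!(ω_A~), with b^! the right adjoint of Rb_* on D_QCoh;
these existence statements are carried as hypotheses). Then H^1(X, ω_X(n)) = 0 for all n ≥ 0, where
ω_X(n) = ω_X ⊗ I^{⊗ n}. -/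
theorem result (A : Type u) [CommRing A] [IsDomain A] [IsLocalRing A] [IsNoetherianRing A]
    [IsIntegrallyClosed A] (hN : CAlg.IsNagata A) (hdim : ringKrullDim A = 2) (hA : Curv2.IsRationalSing A)
    (hnr : ¬ IsRegularLocalRing A)
    (X : Scheme.{u}) (f : X ⟶ Spec (CommRingCat.of A)) (hb : BlowUp.IsBlowUp f (Curv2.idealSheaf A (IsLocalRing.maximalIdeal A)))
    (ωA : Type u) [AddCommGroup ωA] [Module A ωA] (hω : Dual.IsDualizing A (Dual.inD A ωA))
    [PreservesFiniteLimits (tilde.functor (CommRingCat.of A))]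
    [DCoh.HasRpush f] (h : DCoh.RpushPreservesQCoh f) [DCoh.HasShriek f h]
    (WA : DCoh.DQCoh (Spec (CommRingCat.of A))) (hWA : Nonempty (WA.obj ≅ (DCoh.tildeD (CommRingCat.of A)).obj (Dual.inD A ωA))) (n : ℕ) :
    Subsingleton (Coh.HH X (CohB1.tensorMod (DCoh.dualizingMod f h WA 0)
      (CohB1.tensorPow (ClSub.idealMod (BlowUp.exceptional f (Curv2.idealSheaf A (IsLocalRing.maximalIdeal A)))) n)) 1) := by
  obtain ⟨hXi, hm, hXn, hsep, hnoe, -, -, h2, -, -⟩ := RatModLib.blow_data A hN hdim hA f hb
  haveI := hXi; haveI := hsep; haveI := hnoe; haveI := hm.proper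
  have hGR : Subsingleton (Coh.HH X (DCoh.dualizingMod f h WA 0) 1) :=
    @TraceGRLib.gr_vanishing A _ _ _ _ _ _ ωA _ _ hω hdim X ⟨f⟩ ‹DCoh.HasRpush f›
      ⟨hm.proper, hXi, hXn, hm.iso⟩ h ‹DCoh.HasShriek f h› WA hWA.some
  let J : X.IdealSheafData := BlowUp.exceptional f (Curv2.idealSheaf A (IsLocalRing.maximalIdeal A))
  obtain ⟨hJn, ⟨e⟩⟩ := BlowPtLib.nonempty_idealMod_pow J hb.1 n
  have hgg : Curv2.IsGloballyGenerated (CohB1.tensorPow (ClSub.idealMod J) n) := by
    refine MiscFlat6.isGloballyGenerated_of_iso e.symm ?_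
    rw [show J ^ n = RatModLib.pre f (IsLocalRing.maximalIdeal A ^ n) from (RatModLib.pre_pow f _ n).symm]
    exact PtBlowLib.isGloballyGenerated_comap f _
  haveI hω' : Coh.IsQCoh (DCoh.dualizingMod f h WA 0) := ((DCoh.shriek f h).obj WA).property _
  haveI hq : Coh.IsQCoh (CohB1.tensorPow (ClSub.idealMod J) n) :=
    @QCohLib.isQCoh_of_iso _ _ _ e.symm (SweepSix.ConormalSpec.isQCoh_idealMod _)
  exact BlowRegLib.h1_tensor_of_gg h2 hω' hGR hgg (Groth.Agent.S2297.result _ _).1

end Groth.Agent.S7335
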