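import Groth.Statements.S7337
import Mathlib
import Groth.Agent.RatModLib.BlowData
import Groth.Agent.RatModLib.Gr
-- import your own Groth.Agent.* helpers here

set_option autoImplicit false
universe u
open CategoryTheory CategoryTheory.Limits AlgebraicGeometry
open Resolve

namespace Groth.Agent.S7337

/-- Let (A, m, κ) be a local normal Nagata domain of dimension two defining a rational singularity, let
X → Spec A (the structure morphism of X over Spec A) be the blowing up in m, and let E ⊂ X be the
exceptional divisor with ideal sheaf I = O_X(1), so that O_E(n) pushed forward to X is I^{⊗ n} ⊗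
O_X/I. Then E is Cohen–Macaulay of dimension one; H^1(E, O_E(n)) = 0 for n ≥ 0; and H^0(E, O_E(n)) ≅
m^n/m^{n+1} for n ≥ 0. (The published statement also asserts that E is proper over κ, that O_E(1) is
very ample, and that deg O_E(1) ≥ 1 with equality only for A regular; this row does not restate
those, and states the description of H^0(E, O_E(n)) as an equality of A-lengths.) -/
theorem result (A : Type u) [CommRing A] [IsDomain A] [IsLocalRing A] [IsNoetherianRing A]
    [IsIntegrallyClosed A] (hN : CAlg.IsNagata A) (hdim : ringKrullDim A = 2) (hA : Curv2.IsRationalSing A)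
    (X : Scheme.{u}) [X.Over (Spec (CommRingCat.of A))]
    (hb : BlowUp.IsBlowUp (X ↘ Spec (CommRingCat.of A)) (Curv2.idealSheaf A (IsLocalRing.maximalIdeal A))) (n : ℕ) :
    (∀ e : ↥(BlowUp.exceptional (X ↘ Spec (CommRingCat.of A)) (Curv2.idealSheaf A (IsLocalRing.maximalIdeal A))).subscheme,
        LocCoh.IsCohenMacaulayLocalRing
          ((BlowUp.exceptional (X ↘ Spec (CommRingCat.of A)) (Curv2.idealSheaf A (IsLocalRing.maximalIdeal A))).subscheme.presheaf.stalk e)) ∧
      topologicalKrullDim ↥(BlowUp.exceptional (X ↘ Spec (CommRingCat.of A)) (Curv2.idealSheaf A (IsLocalRing.maximalIdeal A))).subscheme = 1 ∧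
      Subsingleton (Coh.HH X (CohB1.tensorMod
        (CohB1.tensorPow (ClSub.idealMod (BlowUp.exceptional (X ↘ Spec (CommRingCat.of A)) (Curv2.idealSheaf A (IsLocalRing.maximalIdeal A)))) n)
        (ClSub.quotMod (BlowUp.exceptional (X ↘ Spec (CommRingCat.of A)) (Curv2.idealSheaf A (IsLocalRing.maximalIdeal A))))) 1) ∧
      Module.length A (Coh.HH X (CohB1.tensorMod
        (CohB1.tensorPow (ClSub.idealMod (BlowUp.exceptional (X ↘ Spec (CommRingCat.of A)) (Curv2.idealSheaf A (IsLocalRing.maximalIdeal A)))) n)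
        (ClSub.quotMod (BlowUp.exceptional (X ↘ Spec (CommRingCat.of A)) (Curv2.idealSheaf A (IsLocalRing.maximalIdeal A))))) 0) =
        Module.length A (↥(IsLocalRing.maximalIdeal A ^ n) ⧸
          (Submodule.comap (IsLocalRing.maximalIdeal A ^ n).subtype (IsLocalRing.maximalIdeal A ^ (n + 1)))) := by
  let M := IsLocalRing.maximalIdeal A
  let f := X ↘ Spec (CommRingCat.of A)
  obtain ⟨hXi, hm, hXn, hsep, hnoe, hdX, h1, h2, hη, w, hw, hwc⟩ := RatModLib.blow_data A hN hdim hA f hb
  haveI := hXi; haveI := hsep; haveI := hnoe; haveI := hm.proper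
  obtain ⟨U, hU, hUi⟩ := hm.iso
  haveI := hUi
  obtain ⟨hcm, hd1⟩ := RatModLib.cm_dim_one hXn hdX (RatModLib.pre f M) hb.1 hη hw hwc
  obtain ⟨g1, g2⟩ := RatModLib.graded_piece (A := A) (X := X) (RatModLib.pre f M) hb.1 M
    (fun m a => RatModLib.sections_pow f hU M hb.1 ⟨w, hw⟩ h1 h2 m a)
    (fun m => RatModLib.subsingleton_H1_pre f h1 h2 M m) h2
    (RatModLib.toGlobal_injective f hU) (PtBlowLib.toGlobal_surjective f hU) n
  exact ⟨hcm, hd1, g1, g2⟩

end Groth.Agent.S7337
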