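import Groth.Statements.S7340
import Mathlib
-- import your own Groth.Agent.* helpers here

set_option autoImplicit false
universe u
open Polynomial
open Resolve

namespace Groth.Agent.S7340

/-- Let p be a prime number and R an F_p-algebra, a, b ∈ R, S_a = R[x]/(x^p - a) and S_b = R[y]/(y^p -
b). The trace Tr_x : Ω_{S_a/R} → Ω_R is the R-linear map with x^i dx ↦ 0 for 0 ≤ i ≤ p - 2 and
x^{p-1} dx ↦ da (these determine it, Ω_{S_a/R} being free over R on the x^i dx), and similarly Tr_y.
Then for every R-algebra homomorphism φ : S_a → S_b one has Tr_x = Tr_y ∘ φ_*: for all s, t ∈ S_a,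
Tr_x(s dt) = Tr_y(φ(s) dφ(t)). Here Ω_R is the module of absolute differentials Ω_{R/Z}. -/
theorem result (p : ℕ) [Fact p.Prime] (R : Type u) [CommRing R] [CharP R p] (a b : R)
    (φ : AdjoinRoot (X ^ p - C a : R[X]) →ₐ[R] AdjoinRoot (X ^ p - C b : R[X]))
    (Tx : Ω[AdjoinRoot (X ^ p - C a : R[X])⁄R] →ₗ[R] Ω[R⁄ℤ])
    (Ty : Ω[AdjoinRoot (X ^ p - C b : R[X])⁄R] →ₗ[R] Ω[R⁄ℤ])
    (hTx : ∀ i : ℕ, i + 2 ≤ p →
      Tx (AdjoinRoot.root (X ^ p - C a) ^ i • KaehlerDifferential.D R _ (AdjoinRoot.root (X ^ p - C a))) = 0)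
    (hTx' : Tx (AdjoinRoot.root (X ^ p - C a) ^ (p - 1) • KaehlerDifferential.D R _ (AdjoinRoot.root (X ^ p - C a))) =
      KaehlerDifferential.D ℤ R a)
    (hTy : ∀ i : ℕ, i + 2 ≤ p →
      Ty (AdjoinRoot.root (X ^ p - C b) ^ i • KaehlerDifferential.D R _ (AdjoinRoot.root (X ^ p - C b))) = 0)
    (hTy' : Ty (AdjoinRoot.root (X ^ p - C b) ^ (p - 1) • KaehlerDifferential.D R _ (AdjoinRoot.root (X ^ p - C b))) =
      KaehlerDifferential.D ℤ R b)
    (s t : AdjoinRoot (X ^ p - C a : R[X])) :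
    Tx (s • KaehlerDifferential.D R _ t) = Ty (φ s • KaehlerDifferential.D R _ (φ t)) := by
  classical
  have hp : p.Prime := Fact.out
  let fa : R[X] := X ^ p - C a
  let fb : R[X] := X ^ p - C b
  let x : AdjoinRoot fa := AdjoinRoot.root fa
  let y : AdjoinRoot fb := AdjoinRoot.root fb
  have hmon : fb.Monic := monic_X_pow_sub_C b hp.ne_zero
  haveI hRnt : Nontrivial R := CharP.nontrivial_of_char_ne_one hp.one_lt.ne'
  have hdeg : fb.natDegree = p := natDegree_X_pow_sub_C
  have hxp : x ^ p = algebraMap R (AdjoinRoot fa) a := by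
    have h := AdjoinRoot.eval₂_root fa
    simp only [fa, eval₂_sub, eval₂_X_pow, eval₂_C, sub_eq_zero] at h
    exact h
  have hyp : y ^ p = algebraMap R (AdjoinRoot fb) b := by
    have h := AdjoinRoot.eval₂_root fb
    simp only [fb, eval₂_sub, eval₂_X_pow, eval₂_C, sub_eq_zero] at h
    exact h
  have hdiv : ∀ (n : ℕ) (v : Ω[R⁄ℤ]), 0 < n → n < p → (n : R) • v = 0 → v = 0 := by
    intro n v h0 hlt hv
    have hu : IsUnit (n : R) := by
      rw [CharP.isUnit_natCast_iff hp]
      exact fun h => absurd (Nat.le_of_dvd h0 h) (by omega)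
    exact hu.smul_eq_zero.mp hv
  have hpb := AdjoinRoot.powerBasis' hmon
  have hrepr : ∀ w : AdjoinRoot fb, ∃ r : Fin p → R, w = ∑ j, r j • y ^ (j : ℕ) := by
    intro w
    let B := AdjoinRoot.powerBasis' hmon
    have hd : B.dim = p := by simp [B, hdeg]
    refine ⟨fun j => B.basis.repr w (Fin.cast hd.symm j), ?_⟩
    conv_lhs => rw [← B.basis.sum_repr w]
    refine (Fintype.sum_equiv (finCongr hd) _ _ fun j => ?_)
    rw [B.coe_basis]
    simp [B, y]
  -- exact forms have trace zero
  have hexact : ∀ w : AdjoinRoot fb, Ty (KaehlerDifferential.D R _ w) = 0 := by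
    intro w
    obtain ⟨r, rfl⟩ := hrepr w
    rw [map_sum, map_sum]
    refine Finset.sum_eq_zero fun j _ => ?_
    rw [Derivation.map_smul, map_smul, Derivation.leibniz_pow]
    rcases Nat.eq_zero_or_pos (j : ℕ) with h | h
    · simp [h]
    · rw [map_nsmul, hTy ((j : ℕ) - 1) (by omega), smul_zero, smul_zero]
  let Φ : AdjoinRoot fb → Ω[R⁄ℤ] := fun z => Ty (z ^ (p - 1) • KaehlerDifferential.D R _ z)
  have hadd : ∀ u v, Φ (u + v) = Φ u + Φ v := by
    intro u v
    let A : ℕ → Ω[R⁄ℤ] := fun k => Ty ((u ^ k * v ^ (p - 1 - k)) • KaehlerDifferential.D R _ u)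
    let B : ℕ → Ω[R⁄ℤ] := fun k => Ty ((u ^ k * v ^ (p - 1 - k)) • KaehlerDifferential.D R _ v)
    have hsplit : Φ (u + v) = (∑ k ∈ Finset.range p, ((p - 1).choose k : R) • A k) +
        ∑ k ∈ Finset.range p, ((p - 1).choose k : R) • B k := by
      simp only [Φ]
      rw [add_pow, show p - 1 + 1 = p by have := hp.pos; omega, Finset.sum_smul, map_sum,
        ← Finset.sum_add_distrib]
      refine Finset.sum_congr rfl fun k _ => ?_
      rw [map_add (KaehlerDifferential.D R (AdjoinRoot fb)), mul_comm _ ((Nat.choose (p - 1) k : AdjoinRoot fb)), mul_smul, Nat.cast_smul_eq_nsmul,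
        map_nsmul, smul_add, map_add, Nat.cast_smul_eq_nsmul, Nat.cast_smul_eq_nsmul, smul_add]
    have hrel : ∀ k, k + 2 ≤ p → ((p - 1).choose k : R) • A k + ((p - 1).choose (k + 1) : R) • B (k + 1) = 0 := by
      intro k hk
      have h1 : ((k + 1 : ℕ) : R) • A k + ((p - 1 - k : ℕ) : R) • B (k + 1) = 0 := by
        have h2 := hexact (u ^ (k + 1) * v ^ (p - 1 - k))
        rw [Derivation.leibniz, Derivation.leibniz_pow, Derivation.leibniz_pow, map_add, smul_comm (u ^ (k + 1)),
          smul_comm (v ^ (p - 1 - k)), map_nsmul, map_nsmul, smul_smul, smul_smul] at h2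
        rw [← h2, Nat.cast_smul_eq_nsmul, Nat.cast_smul_eq_nsmul, add_comm]
        simp only [A, B, show k + 1 - 1 = k by omega, show p - 1 - (k + 1) = p - 1 - k - 1 by omega]
        rw [mul_comm (v ^ (p - 1 - k))]
      refine hdiv (k + 1) _ (by omega) (by omega) ?_
      have h3 : ((p - 1).choose k : R) * ((p - 1 - k : ℕ) : R) = ((k + 1 : ℕ) : R) * ((p - 1).choose (k + 1) : R) := by
        rw [← Nat.cast_mul, ← Nat.cast_mul, mul_comm (k + 1), Nat.choose_succ_right_eq]
      have h4 := congrArg (fun v => ((p - 1).choose k : R) • v) h1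
      simp only [smul_add, smul_zero, smul_smul] at h4
      rw [smul_add, smul_smul, smul_smul, ← h3, mul_comm ((k + 1 : ℕ) : R)]
      exact h4
    rw [hsplit]
    obtain ⟨n, hn⟩ : ∃ n, p = n + 1 := ⟨p - 1, by have := hp.pos; omega⟩
    rw [show Finset.range p = Finset.range (n + 1) by rw [hn], Finset.sum_range_succ, Finset.sum_range_succ' (fun k => ((p - 1).choose k : R) • B k)]
    have h0 : ∑ k ∈ Finset.range n, ((p - 1).choose k : R) • A k +
        ∑ k ∈ Finset.range n, ((p - 1).choose (k + 1) : R) • B (k + 1) = 0 := by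
      rw [← Finset.sum_add_distrib]
      exact Finset.sum_eq_zero fun k hk => hrel k (by have := Finset.mem_range.mp hk; omega)
    have hA : ((p - 1).choose n : R) • A n = Φ u := by
      have hn' : n = p - 1 := by omega
      simp [A, Φ, hn']
    have hB : ((p - 1).choose 0 : R) • B 0 = Φ v := by simp [B, Φ]
    rw [hA, hB]
    calc _ = (∑ k ∈ Finset.range n, ((p - 1).choose k : R) • A k +
        ∑ k ∈ Finset.range n, ((p - 1).choose (k + 1) : R) • B (k + 1)) + (Φ u + Φ v) := by abel
      _ = _ := by rw [h0, zero_add]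
  have hDp : ∀ r : R, KaehlerDifferential.D ℤ R (r ^ p) = 0 := by
    intro r
    rw [Derivation.leibniz_pow, ← Nat.cast_smul_eq_nsmul R, CharP.cast_eq_zero, zero_smul]
  have hmono : ∀ (r : R) (j : Fin p), Φ (r • y ^ (j : ℕ)) = KaehlerDifferential.D ℤ R (r ^ p * b ^ (j : ℕ)) := by
    intro r j
    simp only [Φ]
    rw [Derivation.map_smul, _root_.smul_pow, smul_assoc, map_smul, smul_comm ((y ^ (j : ℕ)) ^ (p - 1)), map_smul,
      smul_smul, ← pow_succ, show p - 1 + 1 = p by have := hp.pos; omega,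
      Derivation.leibniz _ (r ^ p) (b ^ (j : ℕ)), hDp, smul_zero, add_zero]
    rcases Nat.eq_zero_or_pos (j : ℕ) with h | h
    · simp [h]
    · rw [Derivation.leibniz_pow, Derivation.leibniz_pow, smul_comm ((y ^ (j : ℕ)) ^ (p - 1)), map_nsmul, smul_smul]
      obtain ⟨m, hm⟩ : ∃ m, (j : ℕ) = m + 1 := ⟨(j : ℕ) - 1, by omega⟩
      have he : (y ^ (j : ℕ)) ^ (p - 1) * y ^ ((j : ℕ) - 1) = algebraMap R (AdjoinRoot fb) (b ^ m) * y ^ (p - 1) := by
        rw [map_pow, ← hyp, ← pow_mul, ← pow_mul, ← pow_add, ← pow_add, hm]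
        congr 1
        obtain ⟨q, rfl⟩ : ∃ q, p = q + 1 := ⟨p - 1, by have := hp.pos; omega⟩
        simp only [Nat.add_sub_cancel]
        ring
      rw [he, mul_smul, algebraMap_smul, map_smul, hTy', hm, Nat.add_sub_cancel]
  have hbasis : ∀ i < p, Tx (x ^ i • KaehlerDifferential.D R _ x) = Ty (φ (x ^ i) • KaehlerDifferential.D R _ (φ x)) := by
    intro i hi
    rw [map_pow φ x i]
    by_cases h : i + 2 ≤ p
    · rw [hTx i h]
      symm
      refine hdiv (i + 1) _ (by omega) (by omega) ?_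
      have h2 := hexact (φ x ^ (i + 1))
      rw [Derivation.leibniz_pow, map_nsmul, Nat.add_sub_cancel] at h2
      rw [Nat.cast_smul_eq_nsmul]
      exact h2
    · have hi' : i = p - 1 := by omega
      subst hi'
      rw [hTx']
      obtain ⟨r, hr⟩ := hrepr (φ x)
      have hΦ : Φ (φ x) = ∑ j, KaehlerDifferential.D ℤ R (r j ^ p * b ^ (j : ℕ)) := by
        rw [hr, show (Φ (∑ j, r j • y ^ (j : ℕ))) = (AddMonoidHom.mk' Φ hadd) (∑ j, r j • y ^ (j : ℕ)) from rfl, map_sum]
        exact Finset.sum_congr rfl fun j _ => hmono _ _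
      show _ = Φ (φ x)
      rw [hΦ, ← map_sum]
      congr 1
      have hinj : Function.Injective (algebraMap R (AdjoinRoot fb)) :=
        (injective_iff_map_eq_zero _).mpr fun c hc => by
          by_contra hne
          refine AdjoinRoot.mk_ne_zero_of_degree_lt hmon (Polynomial.C_ne_zero.mpr hne) ?_ (by rw [AdjoinRoot.mk_C]; exact hc)
          rw [degree_C hne, degree_eq_natDegree hmon.ne_zero, hdeg]
          exact_mod_cast hp.pos
      apply hinj
      haveI : CharP (AdjoinRoot fb) p := charP_of_injective_ringHom hinj p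
      have h5 := congrArg φ hxp
      rw [map_pow, AlgHom.commutes, hr, sum_pow_char p] at h5
      rw [← h5, map_sum]
      refine Finset.sum_congr rfl fun j _ => ?_
      rw [_root_.smul_pow, Algebra.smul_def, map_mul, map_pow, map_pow, ← hyp, ← pow_mul, ← pow_mul, mul_comm p]
  -- reduce to the basis
  have hmon' : fa.Monic := monic_X_pow_sub_C a hp.ne_zero
  let Ba := AdjoinRoot.powerBasis' hmon'
  have hkey : ∀ q, Tx (q • KaehlerDifferential.D R _ x) = Ty (φ q • KaehlerDifferential.D R _ (φ x)) := by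
    intro q
    rw [← Ba.basis.sum_repr q, map_sum, Finset.sum_smul, Finset.sum_smul, map_sum, map_sum]
    refine Finset.sum_congr rfl fun j _ => ?_
    rw [map_smul φ, smul_assoc, smul_assoc, map_smul Tx, map_smul Ty, Ba.coe_basis]
    have hj : (j : ℕ) < p := by
      have h6 := j.2
      have hd : Ba.dim = p := by simp [Ba, fa, natDegree_X_pow_sub_C]
      omega
    have := hbasis j hj
    simp only [Ba, AdjoinRoot.powerBasis'_gen] at this ⊢
    exact congrArg _ this
  obtain ⟨P, rfl⟩ := AdjoinRoot.mk_surjective t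
  rw [← AdjoinRoot.aeval_eq P]
  induction P using Polynomial.induction_on' with
  | add f g hf hg =>
    rw [map_add (Polynomial.aeval _), map_add (KaehlerDifferential.D R _), smul_add, map_add, hf, hg, map_add φ, map_add (KaehlerDifferential.D R _), smul_add, map_add]
  | monomial n c =>
    rw [aeval_monomial, ← Algebra.smul_def, map_smul φ, map_pow φ, Derivation.map_smul, Derivation.map_smul,
      Derivation.leibniz_pow, Derivation.leibniz_pow, smul_comm s, smul_comm s, smul_comm (φ s), smul_comm (φ s), map_smul Tx, map_smul Ty,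
      map_nsmul, map_nsmul, smul_smul s, smul_smul (φ s)]
    congr 2
    rw [hkey, map_mul φ, map_pow φ]

end Groth.Agent.S7340
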