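import Groth.Statements.S7341
import Groth.Agent.NumType.Sub
-- import your own Groth.Agent.* helpers here

set_option autoImplicit false
open Finset
open Models Models.NumericalType

namespace Groth.Agent.S7341
open NumTypeLib

/-- Classification of proper subgraphs which are chains of three vertices: let T be a numerical type on
n > 3 indices and i, j, k distinct (-2)-indices with a_ij > 0 and a_jk > 0. Then a_ik = 0 and, up to
reversing the order of i, j, k, one of the following holds for some integer w: (A3) w_i = w_j = w_k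
= w, a_ij = a_jk = w, with 2 m_i ≥ m_j, 2 m_j ≥ m_i + m_k, 2 m_k ≥ m_j; (C3) w_i = w_j = w, w_k =
2w, a_ij = w, a_jk = 2w, with 2 m_i ≥ m_j, 2 m_j ≥ m_i + 2 m_k, 2 m_k ≥ m_j; (B3) w_i = w_j = 2w,
w_k = w, a_ij = a_jk = 2w, with 2 m_i ≥ m_j, 2 m_j ≥ m_i + m_k, m_k ≥ m_j. -/
theorem result {n : ℕ} (T : Models.NumericalType n) (hn : 3 < n) (i j k : Fin n)
    (hij : i ≠ j) (hjk : j ≠ k) (hik : i ≠ k) (hi : T.IsMinusTwo i) (hj : T.IsMinusTwo j) (hk : T.IsMinusTwo k)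
    (h1 : 0 < T.a i j) (h2 : 0 < T.a j k) :
    T.a i k = 0 ∧ ∃ (i' k' : Fin n) (w : ℤ), ((i' = i ∧ k' = k) ∨ (i' = k ∧ k' = i)) ∧
      ((T.w i' = w ∧ T.w j = w ∧ T.w k' = w ∧ T.a i' j = w ∧ T.a j k' = w ∧
          T.m j ≤ 2 * T.m i' ∧ T.m i' + T.m k' ≤ 2 * T.m j ∧ T.m j ≤ 2 * T.m k') ∨
        (T.w i' = w ∧ T.w j = w ∧ T.w k' = 2 * w ∧ T.a i' j = w ∧ T.a j k' = 2 * w ∧
          T.m j ≤ 2 * T.m i' ∧ T.m i' + 2 * T.m k' ≤ 2 * T.m j ∧ T.m j ≤ 2 * T.m k') ∨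
        (T.w i' = 2 * w ∧ T.w j = 2 * w ∧ T.w k' = w ∧ T.a i' j = 2 * w ∧ T.a j k' = 2 * w ∧
          T.m j ≤ 2 * T.m i' ∧ T.m i' + T.m k' ≤ 2 * T.m j ∧ T.m j ≤ T.m k')) := by
  obtain ⟨P, hP, e0, e1, e2⟩ := path3 (adj_of_ne_zero T hij h1.ne')
    (adj_of_ne_zero T hjk h2.ne') hik hi hj hk
  have hzero : T.a i k = 0 := by
    have := path_chord_zero hP hn (i := 0) (j := 2) (by omega) (by omega)
    rwa [e0, e2] at this
  refine ⟨hzero, ?_⟩
  have core : ∀ i k : Fin n, i ≠ j → j ≠ k → i ≠ k → T.IsMinusTwo i → T.IsMinusTwo k →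
      (∃ P, IsPath T 3 P ∧ P 0 = i ∧ P 1 = j ∧ P 2 = k) → ¬ Simple T j k →
      ∃ w : ℤ, ((T.w i = w ∧ T.w j = w ∧ T.w k = 2 * w ∧ T.a i j = w ∧ T.a j k = 2 * w ∧
        T.m j ≤ 2 * T.m i ∧ T.m i + 2 * T.m k ≤ 2 * T.m j ∧ T.m j ≤ 2 * T.m k) ∨
      (T.w i = 2 * w ∧ T.w j = 2 * w ∧ T.w k = w ∧ T.a i j = 2 * w ∧ T.a j k = 2 * w ∧
        T.m j ≤ 2 * T.m i ∧ T.m i + T.m k ≤ 2 * T.m j ∧ T.m j ≤ T.m k)) := by
    rintro i k hij hjk hik hi hk ⟨P, hP, e0, e1, e2⟩ hns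
    have hs : Simple T i j := by
      by_contra hc
      have := path_one_double hP hn (d := 0) (e := 1) (by omega) (by omega) (by
        simpa [e0, e1] using hc)
      exact hns (by simpa [e1, e2] using this)
    obtain ⟨s1, s2⟩ := hs
    have hd := path_double hP hn le_rfl (d := 1) (by omega) (by simpa [e1, e2] using hns)
    simp only [e1, e2] at hd
    have m1 := mult_le_one (p := 1) hi hij (by rw [s1, one_mul])
    have hji : T.a j i = 1 * T.w j := by rw [a_symm T j i, s2, one_mul]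
    rcases hd with ⟨ha, hw⟩ | ⟨ha, hw⟩
    · have m2 := mult_le_two hj hij.symm hjk hik hji (q := 2) ha
      have m3 := mult_le_one (p := 1) hk hjk.symm (by rw [a_symm T k j, ha, hw, one_mul])
      exact ⟨T.w j, Or.inl ⟨by linarith, rfl, hw, s2, ha, by linarith, by linarith, by linarith⟩⟩
    · have m2 := mult_le_two hj hij.symm hjk hik hji (q := 1) (by rw [ha, hw, one_mul])
      have m3 := mult_le_one (p := 2) hk hjk.symm (by rw [a_symm T k j, ha])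
      exact ⟨T.w k, Or.inr ⟨by linarith, hw, rfl, by linarith, ha, by linarith, by linarith,
        by linarith⟩⟩
  by_cases hl : Simple T j k
  · by_cases hf : Simple T i j
    · obtain ⟨s1, s2⟩ := hf
      obtain ⟨t1, t2⟩ := hl
      refine ⟨i, k, T.w j, Or.inl ⟨rfl, rfl⟩, Or.inl ⟨by linarith, rfl, by linarith, s2, t1,
        ?_, ?_, ?_⟩⟩
      · linarith [mult_le_one (p := 1) hi hij (by rw [s1, one_mul])]
      · linarith [mult_le_two (p := 1) (q := 1) hj hij.symm hjk hik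
          (by rw [a_symm T j i, s2, one_mul]) (by rw [t1, one_mul])]
      · linarith [mult_le_one (p := 1) hk hjk.symm (by rw [a_symm T k j, t2, one_mul])]
    · obtain ⟨w, h⟩ := core k i hjk.symm hij.symm hik.symm hk hi
        ⟨_, hP.rev, e2, e1, e0⟩ (fun h => hf h.symm)
      exact ⟨k, i, w, Or.inr ⟨rfl, rfl⟩, Or.inr h⟩
  · obtain ⟨w, h⟩ := core i k hij hjk hik hi hk ⟨P, hP, e0, e1, e2⟩ hl
    exact ⟨i, k, w, Or.inl ⟨rfl, rfl⟩, Or.inr h⟩

end Groth.Agent.S7341
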