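import Groth.Statements.S7342
import Groth.Agent.NumType.Sub
-- import your own Groth.Agent.* helpers here

set_option autoImplicit false
open Finset
open Models Models.NumericalType

namespace Groth.Agent.S7342
open NumTypeLib

/-- Let T be a numerical type on n indices, t ≥ 4 and n > t + 2. Then no t + 2 (-2)-indices of T,
pairwise distinct and numbered i_0, …, i_{t+1}, satisfy: a_{i_j i_{j+1}} > 0 for 1 ≤ j ≤ t - 1,
a_{i_0 i_2} > 0 and a_{i_{t-1} i_{t+1}} > 0. -/
theorem result {n : ℕ} (T : Models.NumericalType n) (t : ℕ) (ht : 4 ≤ t) (hn : t + 2 < n)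
    (v : Fin (t + 2) ↪ Fin n) (hv : ∀ j, T.IsMinusTwo (v j))
    (hchain : ∀ j j' : Fin (t + 2), 1 ≤ j.val → j.val + 1 ≤ t → j'.val = j.val + 1 → 0 < T.a (v j) (v j'))
    (h02 : ∀ j j' : Fin (t + 2), j.val = 0 → j'.val = 2 → 0 < T.a (v j) (v j'))
    (hlast : ∀ j j' : Fin (t + 2), j.val = t - 1 → j'.val = t + 1 → 0 < T.a (v j) (v j')) : False := by
  obtain ⟨s, rfl⟩ : ∃ s, t = s + 1 := ⟨t - 1, by omega⟩
  let f : Fin (s + 1) → Fin (s + 1 + 2) := fun i => ⟨i.val + 1, by omega⟩
  have hf : Function.Injective f := fun a b e => by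
    have := congrArg Fin.val e
    exact Fin.ext (by simpa [f] using this)
  have hP := isPath_ofFn (fun i => v (f i)) (v.injective.comp hf) (fun i => hv _)
    (fun j j' h => (hchain _ _ (by simp [f]) (by simp [f]; omega) (by simp [f, h])).ne')
  have hP' : ∀ i, i < s + 1 → ∀ h : i + 1 < s + 1 + 2,
      ofFn (fun i => v (f i)) i = v ⟨i + 1, h⟩ := fun i hi h => by simp [ofFn, hi, f]
  refine false_of_hasAff (hasAff_dbl (k := s + 3) (by omega) hP (y := v ⟨0, by omega⟩)
    (z := v ⟨s + 2, by omega⟩) ?_ ?_ (v.injective.ne (by simp)) (hv _) (hv _) ?_ ?_) (by omega)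
  · intro i hi e
    rw [hP' i hi (by omega)] at e
    simpa using v.injective e
  · intro i hi e
    rw [hP' i hi (by omega)] at e
    have := congrArg Fin.val (v.injective e)
    simp at this; omega
  · rw [hP' 1 (by omega) (by omega)]
    exact adj_emb (T := T) v.injective (by simp) (h02 _ _ rfl rfl).ne'
  · rw [hP' _ (by omega) (by omega)]
    exact adj_emb (T := T) v.injective (by simp <;> omega)
      (hlast _ _ (by simp <;> omega) (by simp)).ne'

end Groth.Agent.S7342
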