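import Groth.Statements.S7346
import Groth.Agent.NumType.Sub
import Mathlib.Tactic.FinCases
-- import your own Groth.Agent.* helpers here

set_option autoImplicit false
open Finset
open Models Models.NumericalType

namespace Groth.Agent.S7346
open NumTypeLib

/-- Classification of proper subgraphs of type D4 (one vertex joined to three others): let T be a
numerical type on n > 4 indices and i_1, …, i_4 distinct (-2)-indices with a_{12}, a_{13}, a_{14}
nonzero. Then for some integer w all w_{i_j} equal w, these intersection numbers equal w, all other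
a_{i_j i_k} (j ≠ k) vanish, and 2 m_1 ≥ m_2 + m_3 + m_4, 2 m_2 ≥ m_1, 2 m_3 ≥ m_1, 2 m_4 ≥ m_1. -/
theorem result {n : ℕ} (T : Models.NumericalType n) (hn : 4 < n)
    (v : Fin 4 ↪ Fin n) (hv : ∀ j, T.IsMinusTwo (v j)) (h01 : T.a (v 0) (v 1) ≠ 0) (h02 : T.a (v 0) (v 2) ≠ 0) (h03 : T.a (v 0) (v 3) ≠ 0) :
    ∃ w : ℤ, (∀ j : Fin 4, T.w (v j) = w) ∧
      T.a (v 0) (v 1) = w ∧
      T.a (v 0) (v 2) = w ∧
      T.a (v 0) (v 3) = w ∧
      T.a (v 1) (v 2) = 0 ∧
      T.a (v 1) (v 3) = 0 ∧
      T.a (v 2) (v 3) = 0 ∧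
      T.m (v 1) + T.m (v 2) + T.m (v 3) ≤ 2 * T.m (v 0) ∧
      T.m (v 0) ≤ 2 * T.m (v 1) ∧
      T.m (v 0) ≤ 2 * T.m (v 2) ∧
      T.m (v 0) ≤ 2 * T.m (v 3) := by
  let f : Fin 3 → Fin 4 := ![1, 0, 2]
  have hf : Function.Injective f := by decide
  have hP := isPath_ofFn (T := T) (fun i => v (f i)) (v.injective.comp hf) (fun i => hv _) (by
    intro j j' h
    fin_cases j <;> fin_cases j' <;> simp at h <;> simp [f] <;>
      first | exact h01 | exact h02 | (rw [a_symm]; assumption))
  obtain ⟨w, hw, hwz, he, hez, h0, h0z⟩ := branch_proper hP (d := 1) (by omega) (by omega)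
    (z := v 3) (fun i hi => by
      interval_cases i <;> exact v.injective.ne (by decide))
    (hv _) (adj_emb v.injective (by decide) h03) (by omega)
  have W : ∀ j, T.w (v j) = w := by
    intro j
    fin_cases j
    · simpa [ofFn, f] using hw 1 (by omega)
    · simpa [ofFn, f] using hw 0 (by omega)
    · simpa [ofFn, f] using hw 2 (by omega)
    · simpa [ofFn, f] using hwz
  have e01 : T.a (v 0) (v 1) = w := by
    rw [a_symm]; simpa [ofFn, f] using he 0 (by omega)
  have e02 : T.a (v 0) (v 2) = w := by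
    simpa [ofFn, f] using he 1 (by omega)
  have e03 : T.a (v 0) (v 3) = w := by
    simpa [ofFn, f] using hez
  have z12 : T.a (v 1) (v 2) = 0 := by
    simpa [ofFn, f] using h0 0 2 (by omega) (by omega)
  have z13 : T.a (v 1) (v 3) = 0 := by
    simpa [ofFn, f] using h0z 0 (by omega) (by omega)
  have z23 : T.a (v 2) (v 3) = 0 := by
    simpa [ofFn, f] using h0z 2 (by omega) (by omega)
  have m0 : T.m (v 1) + T.m (v 2) + T.m (v 3) ≤ 2 * T.m (v 0) :=
    mult_le_three (hv _) (v.injective.ne (by decide)) (v.injective.ne (by decide)) (v.injective.ne (by decide)) (v.injective.ne (by decide)) (v.injective.ne (by decide)) (v.injective.ne (by decide))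
      (by simp only [W]; first | exact e01 | (rw [a_symm]; exact e01)) (by simp only [W]; first | exact e02 | (rw [a_symm]; exact e02)) (by simp only [W]; first | exact e03 | (rw [a_symm]; exact e03))
  have m1 : 1 * T.m (v 0) ≤ 2 * T.m (v 1) := mult_le_one (hv _) (v.injective.ne (by decide)) (by simp only [W, one_mul]; first | exact e01 | (rw [a_symm]; exact e01))
  have m2 : 1 * T.m (v 0) ≤ 2 * T.m (v 2) := mult_le_one (hv _) (v.injective.ne (by decide)) (by simp only [W, one_mul]; first | exact e02 | (rw [a_symm]; exact e02))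
  have m3 : 1 * T.m (v 0) ≤ 2 * T.m (v 3) := mult_le_one (hv _) (v.injective.ne (by decide)) (by simp only [W, one_mul]; first | exact e03 | (rw [a_symm]; exact e03))
  simp only [one_mul] at *
  refine ⟨w, W, ?_⟩
  repeat' apply And.intro
  all_goals first | assumption | omega

end Groth.Agent.S7346
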