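import Groth.Statements.S7347
import Groth.Agent.NumType.Sub
import Mathlib.Tactic.FinCases
-- import your own Groth.Agent.* helpers here

set_option autoImplicit false
open Finset
open Models Models.NumericalType

namespace Groth.Agent.S7347
open NumTypeLib

/-- Classification of proper subgraphs of type D5 (a chain i_1 i_2 i_3 with i_4 and i_5 both joined to
i_3): let T be a numerical type on n > 5 indices and i_1, …, i_5 distinct (-2)-indices with a_{12},
a_{23}, a_{34}, a_{35} nonzero. Then for some integer w all w_{i_j} equal w, these intersection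
numbers equal w, all other a_{i_j i_k} (j ≠ k) vanish, and 2 m_1 ≥ m_2, 2 m_2 ≥ m_1 + m_3, 2 m_3 ≥
m_2 + m_4 + m_5, 2 m_4 ≥ m_3, 2 m_5 ≥ m_3. -/
theorem result {n : ℕ} (T : Models.NumericalType n) (hn : 5 < n)
    (v : Fin 5 ↪ Fin n) (hv : ∀ j, T.IsMinusTwo (v j)) (h01 : T.a (v 0) (v 1) ≠ 0) (h12 : T.a (v 1) (v 2) ≠ 0) (h23 : T.a (v 2) (v 3) ≠ 0) (h24 : T.a (v 2) (v 4) ≠ 0) :
    ∃ w : ℤ, (∀ j : Fin 5, T.w (v j) = w) ∧
      T.a (v 0) (v 1) = w ∧
      T.a (v 1) (v 2) = w ∧
      T.a (v 2) (v 3) = w ∧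
      T.a (v 2) (v 4) = w ∧
      T.a (v 0) (v 2) = 0 ∧
      T.a (v 0) (v 3) = 0 ∧
      T.a (v 0) (v 4) = 0 ∧
      T.a (v 1) (v 3) = 0 ∧
      T.a (v 1) (v 4) = 0 ∧
      T.a (v 3) (v 4) = 0 ∧
      T.m (v 1) ≤ 2 * T.m (v 0) ∧
      T.m (v 0) + T.m (v 2) ≤ 2 * T.m (v 1) ∧
      T.m (v 1) + T.m (v 3) + T.m (v 4) ≤ 2 * T.m (v 2) ∧
      T.m (v 2) ≤ 2 * T.m (v 3) ∧
      T.m (v 2) ≤ 2 * T.m (v 4) := by
  let f : Fin 4 → Fin 5 := ![0, 1, 2, 3]
  have hf : Function.Injective f := by decide
  have hP := isPath_ofFn (T := T) (fun i => v (f i)) (v.injective.comp hf) (fun i => hv _) (by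
    intro j j' h
    fin_cases j <;> fin_cases j' <;> simp at h <;> simp [f] <;>
      first | exact h01 | exact h12 | exact h23 | (rw [a_symm]; assumption))
  obtain ⟨w, hw, hwz, he, hez, h0, h0z⟩ := branch_proper hP (d := 2) (by omega) (by omega)
    (z := v 4) (fun i hi => by
      interval_cases i <;> exact v.injective.ne (by decide))
    (hv _) (adj_emb v.injective (by decide) h24) (by omega)
  have W : ∀ j, T.w (v j) = w := by
    intro j
    fin_cases j
    · simpa [ofFn, f] using hw 0 (by omega)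
    · simpa [ofFn, f] using hw 1 (by omega)
    · simpa [ofFn, f] using hw 2 (by omega)
    · simpa [ofFn, f] using hw 3 (by omega)
    · simpa [ofFn, f] using hwz
  have e01 : T.a (v 0) (v 1) = w := by
    simpa [ofFn, f] using he 0 (by omega)
  have e12 : T.a (v 1) (v 2) = w := by
    simpa [ofFn, f] using he 1 (by omega)
  have e23 : T.a (v 2) (v 3) = w := by
    simpa [ofFn, f] using he 2 (by omega)
  have e24 : T.a (v 2) (v 4) = w := by
    simpa [ofFn, f] using hez
  have z02 : T.a (v 0) (v 2) = 0 := by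
    simpa [ofFn, f] using h0 0 2 (by omega) (by omega)
  have z03 : T.a (v 0) (v 3) = 0 := by
    simpa [ofFn, f] using h0 0 3 (by omega) (by omega)
  have z04 : T.a (v 0) (v 4) = 0 := by
    simpa [ofFn, f] using h0z 0 (by omega) (by omega)
  have z13 : T.a (v 1) (v 3) = 0 := by
    simpa [ofFn, f] using h0 1 3 (by omega) (by omega)
  have z14 : T.a (v 1) (v 4) = 0 := by
    simpa [ofFn, f] using h0z 1 (by omega) (by omega)
  have z34 : T.a (v 3) (v 4) = 0 := by
    simpa [ofFn, f] using h0z 3 (by omega) (by omega)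
  have m0 : 1 * T.m (v 1) ≤ 2 * T.m (v 0) := mult_le_one (hv _) (v.injective.ne (by decide)) (by simp only [W, one_mul]; first | exact e01 | (rw [a_symm]; exact e01))
  have m1 : 1 * T.m (v 0) + 1 * T.m (v 2) ≤ 2 * T.m (v 1) :=
    mult_le_two (hv _) (v.injective.ne (by decide)) (v.injective.ne (by decide))
      (v.injective.ne (by decide)) (by simp only [W, one_mul]; first | exact e01 | (rw [a_symm]; exact e01)) (by simp only [W, one_mul]; first | exact e12 | (rw [a_symm]; exact e12))
  have m2 : T.m (v 1) + T.m (v 3) + T.m (v 4) ≤ 2 * T.m (v 2) :=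
    mult_le_three (hv _) (v.injective.ne (by decide)) (v.injective.ne (by decide)) (v.injective.ne (by decide)) (v.injective.ne (by decide)) (v.injective.ne (by decide)) (v.injective.ne (by decide))
      (by simp only [W]; first | exact e12 | (rw [a_symm]; exact e12)) (by simp only [W]; first | exact e23 | (rw [a_symm]; exact e23)) (by simp only [W]; first | exact e24 | (rw [a_symm]; exact e24))
  have m3 : 1 * T.m (v 2) ≤ 2 * T.m (v 3) := mult_le_one (hv _) (v.injective.ne (by decide)) (by simp only [W, one_mul]; first | exact e23 | (rw [a_symm]; exact e23))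
  have m4 : 1 * T.m (v 2) ≤ 2 * T.m (v 4) := mult_le_one (hv _) (v.injective.ne (by decide)) (by simp only [W, one_mul]; first | exact e24 | (rw [a_symm]; exact e24))
  simp only [one_mul] at *
  refine ⟨w, W, ?_⟩
  repeat' apply And.intro
  all_goals first | assumption | omega

end Groth.Agent.S7347
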