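import Groth.Statements.S7348
import Groth.Agent.NumType.Sub
import Mathlib.Tactic.FinCases
-- import your own Groth.Agent.* helpers here

set_option autoImplicit false
open Finset
open Models Models.NumericalType

namespace Groth.Agent.S7348
open NumTypeLib

/-- Classification of proper subgraphs of type E6 (a chain i_1 … i_5 with i_6 joined to i_3): let T be a
numerical type on n > 6 indices and i_1, …, i_6 distinct (-2)-indices with a_{12}, a_{23}, a_{34},
a_{45}, a_{36} nonzero. Then for some integer w all w_{i_j} equal w, these intersection numbers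
equal w, all other a_{i_j i_k} (j ≠ k) vanish, and 2 m_1 ≥ m_2, 2 m_2 ≥ m_1 + m_3, 2 m_3 ≥ m_2 + m_4
+ m_6, 2 m_4 ≥ m_3 + m_5, 2 m_5 ≥ m_4, 2 m_6 ≥ m_3. (The published list of inequalities has 2 m_5 ≥
m_3 where the intersection matrix gives 2 m_5 ≥ m_4; the former fails for the extended E8
configuration of multiplicities 4, 5, 6, 4, 2 with 3 attached to the third vertex, so 2 m_5 ≥ m_4 is
stated.) -/
theorem result {n : ℕ} (T : Models.NumericalType n) (hn : 6 < n)
    (v : Fin 6 ↪ Fin n) (hv : ∀ j, T.IsMinusTwo (v j)) (h01 : T.a (v 0) (v 1) ≠ 0) (h12 : T.a (v 1) (v 2) ≠ 0) (h23 : T.a (v 2) (v 3) ≠ 0) (h34 : T.a (v 3) (v 4) ≠ 0) (h25 : T.a (v 2) (v 5) ≠ 0) :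
    ∃ w : ℤ, (∀ j : Fin 6, T.w (v j) = w) ∧
      T.a (v 0) (v 1) = w ∧
      T.a (v 1) (v 2) = w ∧
      T.a (v 2) (v 3) = w ∧
      T.a (v 3) (v 4) = w ∧
      T.a (v 2) (v 5) = w ∧
      T.a (v 0) (v 2) = 0 ∧
      T.a (v 0) (v 3) = 0 ∧
      T.a (v 0) (v 4) = 0 ∧
      T.a (v 0) (v 5) = 0 ∧
      T.a (v 1) (v 3) = 0 ∧
      T.a (v 1) (v 4) = 0 ∧
      T.a (v 1) (v 5) = 0 ∧
      T.a (v 2) (v 4) = 0 ∧
      T.a (v 3) (v 5) = 0 ∧
      T.a (v 4) (v 5) = 0 ∧
      T.m (v 1) ≤ 2 * T.m (v 0) ∧
      T.m (v 0) + T.m (v 2) ≤ 2 * T.m (v 1) ∧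
      T.m (v 1) + T.m (v 3) + T.m (v 5) ≤ 2 * T.m (v 2) ∧
      T.m (v 2) + T.m (v 4) ≤ 2 * T.m (v 3) ∧
      T.m (v 3) ≤ 2 * T.m (v 4) ∧
      T.m (v 2) ≤ 2 * T.m (v 5) := by
  let f : Fin 5 → Fin 6 := ![0, 1, 2, 3, 4]
  have hf : Function.Injective f := by decide
  have hP := isPath_ofFn (T := T) (fun i => v (f i)) (v.injective.comp hf) (fun i => hv _) (by
    intro j j' h
    fin_cases j <;> fin_cases j' <;> simp at h <;> simp [f] <;>
      first | exact h01 | exact h12 | exact h23 | exact h34 | (rw [a_symm]; assumption))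
  obtain ⟨w, hw, hwz, he, hez, h0, h0z⟩ := branch_proper hP (d := 2) (by omega) (by omega)
    (z := v 5) (fun i hi => by
      interval_cases i <;> exact v.injective.ne (by decide))
    (hv _) (adj_emb v.injective (by decide) h25) (by omega)
  have W : ∀ j, T.w (v j) = w := by
    intro j
    fin_cases j
    · simpa [ofFn, f] using hw 0 (by omega)
    · simpa [ofFn, f] using hw 1 (by omega)
    · simpa [ofFn, f] using hw 2 (by omega)
    · simpa [ofFn, f] using hw 3 (by omega)
    · simpa [ofFn, f] using hw 4 (by omega)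
    · simpa [ofFn, f] using hwz
  have e01 : T.a (v 0) (v 1) = w := by
    simpa [ofFn, f] using he 0 (by omega)
  have e12 : T.a (v 1) (v 2) = w := by
    simpa [ofFn, f] using he 1 (by omega)
  have e23 : T.a (v 2) (v 3) = w := by
    simpa [ofFn, f] using he 2 (by omega)
  have e34 : T.a (v 3) (v 4) = w := by
    simpa [ofFn, f] using he 3 (by omega)
  have e25 : T.a (v 2) (v 5) = w := by
    simpa [ofFn, f] using hez
  have z02 : T.a (v 0) (v 2) = 0 := by
    simpa [ofFn, f] using h0 0 2 (by omega) (by omega)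
  have z03 : T.a (v 0) (v 3) = 0 := by
    simpa [ofFn, f] using h0 0 3 (by omega) (by omega)
  have z04 : T.a (v 0) (v 4) = 0 := by
    simpa [ofFn, f] using h0 0 4 (by omega) (by omega)
  have z05 : T.a (v 0) (v 5) = 0 := by
    simpa [ofFn, f] using h0z 0 (by omega) (by omega)
  have z13 : T.a (v 1) (v 3) = 0 := by
    simpa [ofFn, f] using h0 1 3 (by omega) (by omega)
  have z14 : T.a (v 1) (v 4) = 0 := by
    simpa [ofFn, f] using h0 1 4 (by omega) (by omega)
  have z15 : T.a (v 1) (v 5) = 0 := by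
    simpa [ofFn, f] using h0z 1 (by omega) (by omega)
  have z24 : T.a (v 2) (v 4) = 0 := by
    simpa [ofFn, f] using h0 2 4 (by omega) (by omega)
  have z35 : T.a (v 3) (v 5) = 0 := by
    simpa [ofFn, f] using h0z 3 (by omega) (by omega)
  have z45 : T.a (v 4) (v 5) = 0 := by
    simpa [ofFn, f] using h0z 4 (by omega) (by omega)
  have m0 : 1 * T.m (v 1) ≤ 2 * T.m (v 0) := mult_le_one (hv _) (v.injective.ne (by decide)) (by simp only [W, one_mul]; first | exact e01 | (rw [a_symm]; exact e01))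
  have m1 : 1 * T.m (v 0) + 1 * T.m (v 2) ≤ 2 * T.m (v 1) :=
    mult_le_two (hv _) (v.injective.ne (by decide)) (v.injective.ne (by decide))
      (v.injective.ne (by decide)) (by simp only [W, one_mul]; first | exact e01 | (rw [a_symm]; exact e01)) (by simp only [W, one_mul]; first | exact e12 | (rw [a_symm]; exact e12))
  have m2 : T.m (v 1) + T.m (v 3) + T.m (v 5) ≤ 2 * T.m (v 2) :=
    mult_le_three (hv _) (v.injective.ne (by decide)) (v.injective.ne (by decide)) (v.injective.ne (by decide)) (v.injective.ne (by decide)) (v.injective.ne (by decide)) (v.injective.ne (by decide))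
      (by simp only [W]; first | exact e12 | (rw [a_symm]; exact e12)) (by simp only [W]; first | exact e23 | (rw [a_symm]; exact e23)) (by simp only [W]; first | exact e25 | (rw [a_symm]; exact e25))
  have m3 : 1 * T.m (v 2) + 1 * T.m (v 4) ≤ 2 * T.m (v 3) :=
    mult_le_two (hv _) (v.injective.ne (by decide)) (v.injective.ne (by decide))
      (v.injective.ne (by decide)) (by simp only [W, one_mul]; first | exact e23 | (rw [a_symm]; exact e23)) (by simp only [W, one_mul]; first | exact e34 | (rw [a_symm]; exact e34))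
  have m4 : 1 * T.m (v 3) ≤ 2 * T.m (v 4) := mult_le_one (hv _) (v.injective.ne (by decide)) (by simp only [W, one_mul]; first | exact e34 | (rw [a_symm]; exact e34))
  have m5 : 1 * T.m (v 2) ≤ 2 * T.m (v 5) := mult_le_one (hv _) (v.injective.ne (by decide)) (by simp only [W, one_mul]; first | exact e25 | (rw [a_symm]; exact e25))
  simp only [one_mul] at *
  refine ⟨w, W, ?_⟩
  repeat' apply And.intro
  all_goals first | assumption | omega

end Groth.Agent.S7348
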