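import Groth.Statements.S7349
import Groth.Agent.NumType.Sub
import Mathlib.Tactic.FinCases
-- import your own Groth.Agent.* helpers here

set_option autoImplicit false
open Finset
open Models Models.NumericalType

namespace Groth.Agent.S7349
open NumTypeLib

/-- Classification of proper subgraphs of type E7 (a chain i_1 … i_6 with i_7 joined to i_4): let T be a
numerical type on n > 7 indices and i_1, …, i_7 distinct (-2)-indices with a_{12}, a_{23}, a_{34},
a_{45}, a_{56}, a_{47} nonzero. Then for some integer w all w_{i_j} equal w, these intersection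
numbers equal w, all other a_{i_j i_k} (j ≠ k) vanish, and 2 m_1 ≥ m_2, 2 m_2 ≥ m_1 + m_3, 2 m_3 ≥
m_2 + m_4, 2 m_4 ≥ m_3 + m_5 + m_7, 2 m_5 ≥ m_4 + m_6, 2 m_6 ≥ m_5, 2 m_7 ≥ m_4. -/
theorem result {n : ℕ} (T : Models.NumericalType n) (hn : 7 < n)
    (v : Fin 7 ↪ Fin n) (hv : ∀ j, T.IsMinusTwo (v j)) (h01 : T.a (v 0) (v 1) ≠ 0) (h12 : T.a (v 1) (v 2) ≠ 0) (h23 : T.a (v 2) (v 3) ≠ 0) (h34 : T.a (v 3) (v 4) ≠ 0) (h45 : T.a (v 4) (v 5) ≠ 0) (h36 : T.a (v 3) (v 6) ≠ 0) :
    ∃ w : ℤ, (∀ j : Fin 7, T.w (v j) = w) ∧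
      T.a (v 0) (v 1) = w ∧
      T.a (v 1) (v 2) = w ∧
      T.a (v 2) (v 3) = w ∧
      T.a (v 3) (v 4) = w ∧
      T.a (v 4) (v 5) = w ∧
      T.a (v 3) (v 6) = w ∧
      T.a (v 0) (v 2) = 0 ∧
      T.a (v 0) (v 3) = 0 ∧
      T.a (v 0) (v 4) = 0 ∧
      T.a (v 0) (v 5) = 0 ∧
      T.a (v 0) (v 6) = 0 ∧
      T.a (v 1) (v 3) = 0 ∧
      T.a (v 1) (v 4) = 0 ∧
      T.a (v 1) (v 5) = 0 ∧
      T.a (v 1) (v 6) = 0 ∧
      T.a (v 2) (v 4) = 0 ∧
      T.a (v 2) (v 5) = 0 ∧
      T.a (v 2) (v 6) = 0 ∧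
      T.a (v 3) (v 5) = 0 ∧
      T.a (v 4) (v 6) = 0 ∧
      T.a (v 5) (v 6) = 0 ∧
      T.m (v 1) ≤ 2 * T.m (v 0) ∧
      T.m (v 0) + T.m (v 2) ≤ 2 * T.m (v 1) ∧
      T.m (v 1) + T.m (v 3) ≤ 2 * T.m (v 2) ∧
      T.m (v 2) + T.m (v 4) + T.m (v 6) ≤ 2 * T.m (v 3) ∧
      T.m (v 3) + T.m (v 5) ≤ 2 * T.m (v 4) ∧
      T.m (v 4) ≤ 2 * T.m (v 5) ∧
      T.m (v 3) ≤ 2 * T.m (v 6) := by
  let f : Fin 6 → Fin 7 := ![0, 1, 2, 3, 4, 5]
  have hf : Function.Injective f := by decide
  have hP := isPath_ofFn (T := T) (fun i => v (f i)) (v.injective.comp hf) (fun i => hv _) (by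
    intro j j' h
    fin_cases j <;> fin_cases j' <;> simp at h <;> simp [f] <;>
      first | exact h01 | exact h12 | exact h23 | exact h34 | exact h45 | (rw [a_symm]; assumption))
  obtain ⟨w, hw, hwz, he, hez, h0, h0z⟩ := branch_proper hP (d := 3) (by omega) (by omega)
    (z := v 6) (fun i hi => by
      interval_cases i <;> exact v.injective.ne (by decide))
    (hv _) (adj_emb v.injective (by decide) h36) (by omega)
  have W : ∀ j, T.w (v j) = w := by
    intro j
    fin_cases j
    · simpa [ofFn, f] using hw 0 (by omega)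
    · simpa [ofFn, f] using hw 1 (by omega)
    · simpa [ofFn, f] using hw 2 (by omega)
    · simpa [ofFn, f] using hw 3 (by omega)
    · simpa [ofFn, f] using hw 4 (by omega)
    · simpa [ofFn, f] using hw 5 (by omega)
    · simpa [ofFn, f] using hwz
  have e01 : T.a (v 0) (v 1) = w := by
    simpa [ofFn, f] using he 0 (by omega)
  have e12 : T.a (v 1) (v 2) = w := by
    simpa [ofFn, f] using he 1 (by omega)
  have e23 : T.a (v 2) (v 3) = w := by
    simpa [ofFn, f] using he 2 (by omega)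
  have e34 : T.a (v 3) (v 4) = w := by
    simpa [ofFn, f] using he 3 (by omega)
  have e45 : T.a (v 4) (v 5) = w := by
    simpa [ofFn, f] using he 4 (by omega)
  have e36 : T.a (v 3) (v 6) = w := by
    simpa [ofFn, f] using hez
  have z02 : T.a (v 0) (v 2) = 0 := by
    simpa [ofFn, f] using h0 0 2 (by omega) (by omega)
  have z03 : T.a (v 0) (v 3) = 0 := by
    simpa [ofFn, f] using h0 0 3 (by omega) (by omega)
  have z04 : T.a (v 0) (v 4) = 0 := by
    simpa [ofFn, f] using h0 0 4 (by omega) (by omega)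
  have z05 : T.a (v 0) (v 5) = 0 := by
    simpa [ofFn, f] using h0 0 5 (by omega) (by omega)
  have z06 : T.a (v 0) (v 6) = 0 := by
    simpa [ofFn, f] using h0z 0 (by omega) (by omega)
  have z13 : T.a (v 1) (v 3) = 0 := by
    simpa [ofFn, f] using h0 1 3 (by omega) (by omega)
  have z14 : T.a (v 1) (v 4) = 0 := by
    simpa [ofFn, f] using h0 1 4 (by omega) (by omega)
  have z15 : T.a (v 1) (v 5) = 0 := by
    simpa [ofFn, f] using h0 1 5 (by omega) (by omega)
  have z16 : T.a (v 1) (v 6) = 0 := by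
    simpa [ofFn, f] using h0z 1 (by omega) (by omega)
  have z24 : T.a (v 2) (v 4) = 0 := by
    simpa [ofFn, f] using h0 2 4 (by omega) (by omega)
  have z25 : T.a (v 2) (v 5) = 0 := by
    simpa [ofFn, f] using h0 2 5 (by omega) (by omega)
  have z26 : T.a (v 2) (v 6) = 0 := by
    simpa [ofFn, f] using h0z 2 (by omega) (by omega)
  have z35 : T.a (v 3) (v 5) = 0 := by
    simpa [ofFn, f] using h0 3 5 (by omega) (by omega)
  have z46 : T.a (v 4) (v 6) = 0 := by
    simpa [ofFn, f] using h0z 4 (by omega) (by omega)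
  have z56 : T.a (v 5) (v 6) = 0 := by
    simpa [ofFn, f] using h0z 5 (by omega) (by omega)
  have m0 : 1 * T.m (v 1) ≤ 2 * T.m (v 0) := mult_le_one (hv _) (v.injective.ne (by decide)) (by simp only [W, one_mul]; first | exact e01 | (rw [a_symm]; exact e01))
  have m1 : 1 * T.m (v 0) + 1 * T.m (v 2) ≤ 2 * T.m (v 1) :=
    mult_le_two (hv _) (v.injective.ne (by decide)) (v.injective.ne (by decide))
      (v.injective.ne (by decide)) (by simp only [W, one_mul]; first | exact e01 | (rw [a_symm]; exact e01)) (by simp only [W, one_mul]; first | exact e12 | (rw [a_symm]; exact e12))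
  have m2 : 1 * T.m (v 1) + 1 * T.m (v 3) ≤ 2 * T.m (v 2) :=
    mult_le_two (hv _) (v.injective.ne (by decide)) (v.injective.ne (by decide))
      (v.injective.ne (by decide)) (by simp only [W, one_mul]; first | exact e12 | (rw [a_symm]; exact e12)) (by simp only [W, one_mul]; first | exact e23 | (rw [a_symm]; exact e23))
  have m3 : T.m (v 2) + T.m (v 4) + T.m (v 6) ≤ 2 * T.m (v 3) :=
    mult_le_three (hv _) (v.injective.ne (by decide)) (v.injective.ne (by decide)) (v.injective.ne (by decide)) (v.injective.ne (by decide)) (v.injective.ne (by decide)) (v.injective.ne (by decide))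
      (by simp only [W]; first | exact e23 | (rw [a_symm]; exact e23)) (by simp only [W]; first | exact e34 | (rw [a_symm]; exact e34)) (by simp only [W]; first | exact e36 | (rw [a_symm]; exact e36))
  have m4 : 1 * T.m (v 3) + 1 * T.m (v 5) ≤ 2 * T.m (v 4) :=
    mult_le_two (hv _) (v.injective.ne (by decide)) (v.injective.ne (by decide))
      (v.injective.ne (by decide)) (by simp only [W, one_mul]; first | exact e34 | (rw [a_symm]; exact e34)) (by simp only [W, one_mul]; first | exact e45 | (rw [a_symm]; exact e45))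
  have m5 : 1 * T.m (v 4) ≤ 2 * T.m (v 5) := mult_le_one (hv _) (v.injective.ne (by decide)) (by simp only [W, one_mul]; first | exact e45 | (rw [a_symm]; exact e45))
  have m6 : 1 * T.m (v 3) ≤ 2 * T.m (v 6) := mult_le_one (hv _) (v.injective.ne (by decide)) (by simp only [W, one_mul]; first | exact e36 | (rw [a_symm]; exact e36))
  simp only [one_mul] at *
  refine ⟨w, W, ?_⟩
  repeat' apply And.intro
  all_goals first | assumption | omega

end Groth.Agent.S7349
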