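import Groth.Statements.S7351
import Groth.Agent.NumType.Sub
-- import your own Groth.Agent.* helpers here

set_option autoImplicit false
open Finset
open Models Models.NumericalType

namespace Groth.Agent.S7351
open NumTypeLib

/-- Let T be a numerical type on n > 5 indices. There do not exist five distinct (-2)-indices h, i, j,
k, l with a_hi > 0, a_hj > 0, a_hk > 0 and a_hl > 0. -/
theorem result {n : ℕ} (T : Models.NumericalType n) (hn : 5 < n)
    (v : Fin 5 ↪ Fin n) (hv : ∀ j, T.IsMinusTwo (v j))
    (h01 : 0 < T.a (v 0) (v 1)) (h02 : 0 < T.a (v 0) (v 2)) (h03 : 0 < T.a (v 0) (v 3)) (h04 : 0 < T.a (v 0) (v 4)) : False := by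
  obtain ⟨P, hP, e0, e1, e2⟩ := path3 (adj_emb (T := T) v.injective (by decide) h01.ne').symm
    (adj_emb v.injective (by decide) h02.ne') (v.injective.ne (by decide)) (hv 1) (hv 0) (hv 2)
  refine false_of_hasAff (hasAff_dbl (k := 5) le_rfl hP (y := v 3) (z := v 4) ?_ ?_
    (v.injective.ne (by decide)) (hv _) (hv _)
    (by rw [e1]; exact (adj_emb v.injective (by decide) h03.ne').symm)
    (by rw [e1]; exact adj_emb v.injective (by decide) h04.ne')) hn
  · intro i hi; interval_cases i <;> simp only [e0, e1, e2] <;>
      exact v.injective.ne (by decide)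
  · intro i hi; interval_cases i <;> simp only [e0, e1, e2] <;>
      exact v.injective.ne (by decide)

end Groth.Agent.S7351
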