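import Groth.Statements.S7352
import Groth.Agent.NumType.Sub
import Mathlib.Tactic.FinCases
-- import your own Groth.Agent.* helpers here

set_option autoImplicit false
open Finset
open Models Models.NumericalType

namespace Groth.Agent.S7352
open NumTypeLib

/-- Classification of proper subgraphs which are chains of four vertices: let T be a numerical type on n
> 4 indices and i_1, …, i_4 distinct (-2)-indices with a_{i_j i_{j+1}} nonzero for j < 4. Then
a_{i_j i_l} = 0 for |j - l| ≥ 2 and, after possibly reversing the order of the indices, for some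
integer w one of the following holds: (A4) w = (w, w, w, w), consecutive a = (w, w, w), with 2m_1 ≥
m_2, 2m_2 ≥ m_1 + m_3, 2m_3 ≥ m_2 + m_4, 2m_4 ≥ m_3; (C4) w = (w, w, w, 2w), consecutive a = (w, w,
2w), with 2m_1 ≥ m_2, 2m_2 ≥ m_1 + m_3, 2m_3 ≥ m_2 + 2m_4, 2m_4 ≥ m_3; (B4) w = (2w, 2w, 2w, w),
consecutive a = (2w, 2w, 2w), with 2m_1 ≥ m_2, 2m_2 ≥ m_1 + m_3, 2m_3 ≥ m_2 + m_4, m_4 ≥ m_3; (F4) w
= (w, w, 2w, 2w), consecutive a = (w, 2w, 2w), with 2m_1 ≥ m_2, 2m_2 ≥ m_1 + 2m_3, 2m_3 ≥ m_2 + m_4,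
2m_4 ≥ m_3. -/
theorem result {n : ℕ} (T : Models.NumericalType n) (hn : 4 < n)
    (v : Fin 4 ↪ Fin n) (hv : ∀ j, T.IsMinusTwo (v j)) (h01 : T.a (v 0) (v 1) ≠ 0) (h12 : T.a (v 1) (v 2) ≠ 0) (h23 : T.a (v 2) (v 3) ≠ 0) :
    (T.a (v 0) (v 2) = 0 ∧ T.a (v 0) (v 3) = 0 ∧ T.a (v 1) (v 3) = 0) ∧
    ∃ (u : Fin 4 → Fin n) (w : ℤ), ((∀ j, u j = v j) ∨ (∀ j, u j = v (Fin.rev j))) ∧
      ((T.w (u 0) = w ∧ T.w (u 1) = w ∧ T.w (u 2) = w ∧ T.w (u 3) = w ∧ T.a (u 0) (u 1) = w ∧ T.a (u 1) (u 2) = w ∧ T.a (u 2) (u 3) = w ∧ T.m (u 1) ≤ 2 * T.m (u 0) ∧ T.m (u 0) + T.m (u 2) ≤ 2 * T.m (u 1) ∧ T.m (u 1) + T.m (u 3) ≤ 2 * T.m (u 2) ∧ T.m (u 2) ≤ 2 * T.m (u 3)) ∨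
      (T.w (u 0) = w ∧ T.w (u 1) = w ∧ T.w (u 2) = w ∧ T.w (u 3) = 2 * w ∧ T.a (u 0) (u 1) = w ∧ T.a (u 1) (u 2) = w ∧ T.a (u 2) (u 3) = 2 * w ∧ T.m (u 1) ≤ 2 * T.m (u 0) ∧ T.m (u 0) + T.m (u 2) ≤ 2 * T.m (u 1) ∧ T.m (u 1) + 2 * T.m (u 3) ≤ 2 * T.m (u 2) ∧ T.m (u 2) ≤ 2 * T.m (u 3)) ∨
      (T.w (u 0) = 2 * w ∧ T.w (u 1) = 2 * w ∧ T.w (u 2) = 2 * w ∧ T.w (u 3) = w ∧ T.a (u 0) (u 1) = 2 * w ∧ T.a (u 1) (u 2) = 2 * w ∧ T.a (u 2) (u 3) = 2 * w ∧ T.m (u 1) ≤ 2 * T.m (u 0) ∧ T.m (u 0) + T.m (u 2) ≤ 2 * T.m (u 1) ∧ T.m (u 1) + T.m (u 3) ≤ 2 * T.m (u 2) ∧ T.m (u 2) ≤ T.m (u 3)) ∨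
      (T.w (u 0) = w ∧ T.w (u 1) = w ∧ T.w (u 2) = 2 * w ∧ T.w (u 3) = 2 * w ∧ T.a (u 0) (u 1) = w ∧ T.a (u 1) (u 2) = 2 * w ∧ T.a (u 2) (u 3) = 2 * w ∧ T.m (u 1) ≤ 2 * T.m (u 0) ∧ T.m (u 0) + 2 * T.m (u 2) ≤ 2 * T.m (u 1) ∧ T.m (u 1) + T.m (u 3) ≤ 2 * T.m (u 2) ∧ T.m (u 2) ≤ 2 * T.m (u 3))) := by
  have hP := isPath_ofFn (T := T) v v.injective hv (by
    intro j j' h
    fin_cases j <;> fin_cases j' <;> simp at h <;>
      first | exact h01 | exact h12 | exact h23)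
  refine ⟨⟨by simpa [ofFn] using path_chord_zero hP hn (i := 0) (j := 2) (by omega) (by omega),
    by simpa [ofFn] using path_chord_zero hP hn (i := 0) (j := 3) (by omega) (by omega),
    by simpa [ofFn] using path_chord_zero hP hn (i := 1) (j := 3) (by omega) (by omega)⟩, ?_⟩
  -- an orientation in which the possible non-simple edge is the last one, or the middle one rising
  obtain ⟨Q, hQP, hQ, hQs⟩ : ∃ Q : ℕ → Fin n, IsPath T 4 Q ∧
      ((∀ j : Fin 4, Q j.val = v j) ∨ (∀ j : Fin 4, Q j.val = v (Fin.rev j))) ∧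
      Simple T (Q 0) (Q 1) ∧ (¬ Simple T (Q 1) (Q 2) → T.w (Q 2) = 2 * T.w (Q 1)) := by
    have rev' : ∀ j : Fin 4, ofFn v (4 - 1 - j.val) = v (Fin.rev j) := fun j => by
      rw [← ofFn_val v (Fin.rev j)]; congr 1; simp only [Fin.val_rev]; omega
    by_cases h0 : Simple T (ofFn v 0) (ofFn v 1)
    · by_cases h1 : Simple T (ofFn v 1) (ofFn v 2)
      · exact ⟨_, hP, Or.inl (ofFn_val v), h0, fun h => absurd h1 h⟩
      · rcases path_double hP (by omega) (by omega) (d := 1) (by omega) h1 with ⟨-, e⟩ | ⟨-, e⟩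
        · exact ⟨_, hP, Or.inl (ofFn_val v), h0, fun _ => e⟩
        · have h2 := path_one_double hP hn (d := 1) (e := 2) (by omega) (by omega) h1
          exact ⟨_, hP.rev, Or.inr rev', h2.symm, fun _ => e⟩
    · have h1 := path_one_double hP hn (d := 0) (e := 1) (by omega) (by omega) h0
      have h2 := path_one_double hP hn (d := 0) (e := 2) (by omega) (by omega) h0
      exact ⟨_, hP.rev, Or.inr rev', h2.symm, fun h => absurd h1.symm h⟩
  obtain ⟨⟨s1, s2⟩, hmidw⟩ := hQs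
  have ne : ∀ i j, i < 4 → j < 4 → i ≠ j → Q i ≠ Q j := fun i j hi hj hij e =>
    hij (hQP.inj i j hi hj e)
  have first' : T.a (Q 0) (Q 1) = 1 * T.w (Q 0) → T.m (Q 1) ≤ 2 * T.m (Q 0) := fun h => by
    simpa using mult_le_one (hQP.two 0 (by omega)) (ne 0 1 (by omega) (by omega) (by omega)) h
  have mid : ∀ i p q, i + 2 < 4 → T.a (Q i) (Q (i + 1)) = p * T.w (Q (i + 1)) →
      T.a (Q (i + 1)) (Q (i + 2)) = q * T.w (Q (i + 1)) →
      p * T.m (Q i) + q * T.m (Q (i + 2)) ≤ 2 * T.m (Q (i + 1)) := fun i p q hi h h' =>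
    mult_le_two (hQP.two _ (by omega)) (ne _ _ (by omega) (by omega) (by omega))
      (ne _ _ (by omega) (by omega) (by omega)) (ne _ _ (by omega) (by omega) (by omega))
      (by rw [a_symm]; exact h) h'
  have last' : ∀ p, T.a (Q 2) (Q 3) = p * T.w (Q 3) → p * T.m (Q 2) ≤ 2 * T.m (Q 3) := fun p h =>
    mult_le_one (hQP.two 3 (by omega)) (ne 3 2 (by omega) (by omega) (by omega))
      (by rw [a_symm]; exact h)
  have m0 := first' (by linarith)
  by_cases h1 : Simple T (Q 1) (Q 2)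
  · obtain ⟨t1, t2⟩ := h1
    by_cases h2 : Simple T (Q 2) (Q 3)
    · obtain ⟨r1, r2⟩ := h2
      refine ⟨fun j => Q j.val, T.w (Q 0), hQ, Or.inl ⟨rfl, ?_⟩⟩
      simp only [Fin.val_zero, Fin.val_one, Fin.val_two, show ((3 : Fin 4).val) = 3 from rfl]
      exact ⟨by linarith, by linarith, by linarith, by linarith, by linarith, by linarith, m0,
        by linarith [mid 0 1 1 (by omega) (by norm_num; linarith) (by norm_num; linarith)],
        by linarith [mid 1 1 1 (by omega) (by norm_num; linarith) (by norm_num; linarith)],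
        by linarith [last' 1 (by linarith)]⟩
    · rcases path_double hQP (by omega) (by omega) (d := 2) (by omega) h2 with ⟨e1, e2⟩ | ⟨e1, e2⟩
      · norm_num at e1 e2
        refine ⟨fun j => Q j.val, T.w (Q 0), hQ, Or.inr (Or.inl ⟨rfl, ?_⟩)⟩
        simp only [Fin.val_zero, Fin.val_one, Fin.val_two, show ((3 : Fin 4).val) = 3 from rfl]
        exact ⟨by linarith, by linarith, by linarith, by linarith, by linarith, by linarith, m0,
          by linarith [mid 0 1 1 (by omega) (by norm_num; linarith) (by norm_num; linarith)],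
          by linarith [mid 1 1 2 (by omega) (by norm_num; linarith) (by norm_num; linarith)],
          by linarith [last' 1 (by linarith)]⟩
      · norm_num at e1 e2
        refine ⟨fun j => Q j.val, T.w (Q 3), hQ, Or.inr (Or.inr (Or.inl ?_))⟩
        simp only [Fin.val_zero, Fin.val_one, Fin.val_two, show ((3 : Fin 4).val) = 3 from rfl]
        exact ⟨by linarith, by linarith, by linarith, trivial, by linarith, by linarith, by linarith,
          m0, by linarith [mid 0 1 1 (by omega) (by norm_num; linarith) (by norm_num; linarith)],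
          by linarith [mid 1 1 1 (by omega) (by norm_num; linarith) (by norm_num; linarith)],
          by linarith [last' 2 (by linarith)]⟩
  · have e2 := hmidw h1
    obtain ⟨r1, r2⟩ := path_one_double hQP hn (d := 1) (e := 2) (by omega) (by omega) h1
    have e1 : T.a (Q 1) (Q 2) = T.w (Q 2) := by
      rcases path_double hQP (by omega) (by omega) (d := 1) (by omega) h1 with ⟨a, b⟩ | ⟨a, b⟩
      · linarith
      · norm_num at a b
        linarith [T.w_pos (Q 1), T.w_pos (Q 2)]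
    norm_num at r1 r2
    refine ⟨fun j => Q j.val, T.w (Q 0), hQ, Or.inr (Or.inr (Or.inr ⟨rfl, ?_⟩))⟩
    simp only [Fin.val_zero, Fin.val_one, Fin.val_two, show ((3 : Fin 4).val) = 3 from rfl]
    exact ⟨by linarith, by linarith, by linarith, by linarith, by linarith, by linarith, m0,
      by linarith [mid 0 1 2 (by omega) (by norm_num; linarith) (by norm_num; linarith)],
      by linarith [mid 1 1 1 (by omega) (by norm_num; linarith) (by norm_num; linarith)],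
      by linarith [last' 1 (by linarith)]⟩

end Groth.Agent.S7352
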