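import Groth.Statements.S7353
import Groth.Agent.NumType.Sub
import Mathlib.Tactic.FinCases
-- import your own Groth.Agent.* helpers here

set_option autoImplicit false
open Finset
open Models Models.NumericalType

namespace Groth.Agent.S7353
open NumTypeLib

/-- Classification of proper subgraphs which are chains of five vertices: let T be a numerical type on n
> 5 indices and i_1, …, i_5 distinct (-2)-indices with a_{i_j i_{j+1}} nonzero for j < 5. Then
a_{i_j i_l} = 0 for |j - l| ≥ 2 and, after possibly reversing the order of the indices, for some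
integer w one of the following holds: (A5) w = (w, w, w, w, w), consecutive a = (w, w, w, w), with
2m_1 ≥ m_2, 2m_2 ≥ m_1 + m_3, 2m_3 ≥ m_2 + m_4, 2m_4 ≥ m_3 + m_5, 2m_5 ≥ m_4; (C5) w = (w, w, w, w,
2w), consecutive a = (w, w, w, 2w), with 2m_1 ≥ m_2, 2m_2 ≥ m_1 + m_3, 2m_3 ≥ m_2 + m_4, 2m_4 ≥ m_3
+ 2m_5, 2m_5 ≥ m_4; (B5) w = (2w, 2w, 2w, 2w, w), consecutive a = (2w, 2w, 2w, 2w), with 2m_1 ≥ m_2,
2m_2 ≥ m_1 + m_3, 2m_3 ≥ m_2 + m_4, 2m_4 ≥ m_3 + m_5, m_5 ≥ m_4. (The inequalities are those given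
by the rows Σ_l a_{kl} m_l = 0 of the displayed matrices; the published text has 2m_3 ≥ m_2 + 2m_4
and 2m_4 ≥ m_3 + m_5 in case C5 and m_4 ≥ m_3 in case B5, of which the first does not follow — for
the numerical type with six indices, weights (1,1,1,1,2,1), chain intersection numbers (1,1,1,2)
plus a_{16} = 1, a_{66} = -1 and multiplicities (2,2,2,2,1,2) one has 2m_3 = 4 < m_2 + 2m_4 = 6 — so
the matrix inequalities are stated.) -/
theorem result {n : ℕ} (T : Models.NumericalType n) (hn : 5 < n)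
    (v : Fin 5 ↪ Fin n) (hv : ∀ j, T.IsMinusTwo (v j)) (h01 : T.a (v 0) (v 1) ≠ 0) (h12 : T.a (v 1) (v 2) ≠ 0) (h23 : T.a (v 2) (v 3) ≠ 0) (h34 : T.a (v 3) (v 4) ≠ 0) :
    (T.a (v 0) (v 2) = 0 ∧ T.a (v 0) (v 3) = 0 ∧ T.a (v 0) (v 4) = 0 ∧ T.a (v 1) (v 3) = 0 ∧ T.a (v 1) (v 4) = 0 ∧ T.a (v 2) (v 4) = 0) ∧
    ∃ (u : Fin 5 → Fin n) (w : ℤ), ((∀ j, u j = v j) ∨ (∀ j, u j = v (Fin.rev j))) ∧
      ((T.w (u 0) = w ∧ T.w (u 1) = w ∧ T.w (u 2) = w ∧ T.w (u 3) = w ∧ T.w (u 4) = w ∧ T.a (u 0) (u 1) = w ∧ T.a (u 1) (u 2) = w ∧ T.a (u 2) (u 3) = w ∧ T.a (u 3) (u 4) = w ∧ T.m (u 1) ≤ 2 * T.m (u 0) ∧ T.m (u 0) + T.m (u 2) ≤ 2 * T.m (u 1) ∧ T.m (u 1) + T.m (u 3) ≤ 2 * T.m (u 2) ∧ T.m (u 2) + T.m (u 4) ≤ 2 * T.m (u 3) ∧ T.m (u 3) ≤ 2 * T.m (u 4)) ∨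
      (T.w (u 0) = w ∧ T.w (u 1) = w ∧ T.w (u 2) = w ∧ T.w (u 3) = w ∧ T.w (u 4) = 2 * w ∧ T.a (u 0) (u 1) = w ∧ T.a (u 1) (u 2) = w ∧ T.a (u 2) (u 3) = w ∧ T.a (u 3) (u 4) = 2 * w ∧ T.m (u 1) ≤ 2 * T.m (u 0) ∧ T.m (u 0) + T.m (u 2) ≤ 2 * T.m (u 1) ∧ T.m (u 1) + T.m (u 3) ≤ 2 * T.m (u 2) ∧ T.m (u 2) + 2 * T.m (u 4) ≤ 2 * T.m (u 3) ∧ T.m (u 3) ≤ 2 * T.m (u 4)) ∨
      (T.w (u 0) = 2 * w ∧ T.w (u 1) = 2 * w ∧ T.w (u 2) = 2 * w ∧ T.w (u 3) = 2 * w ∧ T.w (u 4) = w ∧ T.a (u 0) (u 1) = 2 * w ∧ T.a (u 1) (u 2) = 2 * w ∧ T.a (u 2) (u 3) = 2 * w ∧ T.a (u 3) (u 4) = 2 * w ∧ T.m (u 1) ≤ 2 * T.m (u 0) ∧ T.m (u 0) + T.m (u 2) ≤ 2 * T.m (u 1) ∧ T.m (u 1) + T.m (u 3) ≤ 2 * T.m (u 2) ∧ T.m (u 2) + T.m (u 4) ≤ 2 * T.m (u 3) ∧ T.m (u 3) ≤ T.m (u 4))) := by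
  have hP := isPath_ofFn (T := T) v v.injective hv (by
    intro j j' h
    fin_cases j <;> fin_cases j' <;> simp at h <;>
      first | exact h01 | exact h12 | exact h23 | exact h34)
  refine ⟨⟨by simpa [ofFn] using path_chord_zero hP hn (i := 0) (j := 2) (by omega) (by omega),
    by simpa [ofFn] using path_chord_zero hP hn (i := 0) (j := 3) (by omega) (by omega),
    by simpa [ofFn] using path_chord_zero hP hn (i := 0) (j := 4) (by omega) (by omega),
    by simpa [ofFn] using path_chord_zero hP hn (i := 1) (j := 3) (by omega) (by omega),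
    by simpa [ofFn] using path_chord_zero hP hn (i := 1) (j := 4) (by omega) (by omega),
    by simpa [ofFn] using path_chord_zero hP hn (i := 2) (j := 4) (by omega) (by omega)⟩, ?_⟩
  obtain ⟨Q, w, hQ, hQP, h⟩ := path_long hP le_rfl hn
  refine ⟨fun j => Q j.val, w, ?_, ?_⟩
  · rcases hQ with h | h
    · exact Or.inl fun j => by simp only [h j.val j.isLt, ofFn_val]
    · refine Or.inr fun j => ?_
      simp only [h j.val j.isLt]
      rw [← ofFn_val v (Fin.rev j)]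
      congr 1
      simp only [Fin.val_rev]
      omega
  have ne : ∀ i j, i < 5 → j < 5 → i ≠ j → Q i ≠ Q j := fun i j hi hj hij e =>
    hij (hQP.inj i j hi hj e)
  have first' : T.a (Q 0) (Q 1) = 1 * T.w (Q 0) → T.m (Q 1) ≤ 2 * T.m (Q 0) := fun h => by
    simpa using mult_le_one (hQP.two 0 (by omega)) (ne 0 1 (by omega) (by omega) (by omega)) h
  have mid : ∀ i p q, i + 2 < 5 → T.a (Q i) (Q (i + 1)) = p * T.w (Q (i + 1)) →
      T.a (Q (i + 1)) (Q (i + 2)) = q * T.w (Q (i + 1)) →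
      p * T.m (Q i) + q * T.m (Q (i + 2)) ≤ 2 * T.m (Q (i + 1)) := fun i p q hi h h' =>
    mult_le_two (hQP.two _ (by omega)) (ne _ _ (by omega) (by omega) (by omega))
      (ne _ _ (by omega) (by omega) (by omega)) (ne _ _ (by omega) (by omega) (by omega))
      (by rw [a_symm]; exact h) h'
  have last' : ∀ p, T.a (Q 3) (Q 4) = p * T.w (Q 4) → p * T.m (Q 3) ≤ 2 * T.m (Q 4) := fun p h =>
    mult_le_one (hQP.two 4 (by omega)) (ne 4 3 (by omega) (by omega) (by omega))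
      (by rw [a_symm]; exact h)
  simp only [Fin.val_zero, Fin.val_one, Fin.val_two, show ((3 : Fin 5).val) = 3 from rfl,
    show ((4 : Fin 5).val) = 4 from rfl]
  rcases h with ⟨a, b⟩ | ⟨a, b, c, d⟩ | ⟨a, b, c⟩
  · have w0 := a 0 (by omega); have w1 := a 1 (by omega); have w2 := a 2 (by omega)
    have w3 := a 3 (by omega); have w4 := a 4 (by omega)
    have a0 := b 0 (by omega); have a1 := b 1 (by omega); have a2 := b 2 (by omega)
    have a3 := b 3 (by omega)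
    norm_num at a0 a1 a2 a3
    refine Or.inl ⟨w0, w1, w2, w3, w4, a0, a1, a2, a3, first' (by linarith), ?_, ?_, ?_, ?_⟩
    · linarith [mid 0 1 1 (by omega) (by norm_num; linarith) (by norm_num; linarith)]
    · linarith [mid 1 1 1 (by omega) (by norm_num; linarith) (by norm_num; linarith)]
    · linarith [mid 2 1 1 (by omega) (by norm_num; linarith) (by norm_num; linarith)]
    · linarith [last' 1 (by linarith)]
  · have w0 := a 0 (by omega); have w1 := a 1 (by omega); have w2 := a 2 (by omega)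
    have w3 := a 3 (by omega)
    have a0 := c 0 (by omega); have a1 := c 1 (by omega); have a2 := c 2 (by omega)
    norm_num at a0 a1 a2 b d
    refine Or.inr (Or.inl ⟨w0, w1, w2, w3, b, a0, a1, a2, d, first' (by linarith), ?_, ?_, ?_, ?_⟩)
    · linarith [mid 0 1 1 (by omega) (by norm_num; linarith) (by norm_num; linarith)]
    · linarith [mid 1 1 1 (by omega) (by norm_num; linarith) (by norm_num; linarith)]
    · linarith [mid 2 1 2 (by omega) (by norm_num; linarith) (by norm_num; linarith)]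
    · linarith [last' 1 (by linarith)]
  · have w0 := a 0 (by omega); have w1 := a 1 (by omega); have w2 := a 2 (by omega)
    have w3 := a 3 (by omega)
    have a0 := c 0 (by omega); have a1 := c 1 (by omega); have a2 := c 2 (by omega)
    have a3 := c 3 (by omega)
    norm_num at a0 a1 a2 a3 b
    refine Or.inr (Or.inr ⟨w0, w1, w2, w3, b, a0, a1, a2, a3, first' (by linarith), ?_, ?_, ?_, ?_⟩)
    · linarith [mid 0 1 1 (by omega) (by norm_num; linarith) (by norm_num; linarith)]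
    · linarith [mid 1 1 1 (by omega) (by norm_num; linarith) (by norm_num; linarith)]
    · linarith [mid 2 1 1 (by omega) (by norm_num; linarith) (by norm_num; linarith)]
    · linarith [last' 2 (by linarith)]

end Groth.Agent.S7353
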