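import Groth.Statements.S7354
import Groth.Agent.NumType.Sub
-- import your own Groth.Agent.* helpers here

set_option autoImplicit false
open Finset
open Models Models.NumericalType

namespace Groth.Agent.S7354
open NumTypeLib

/-- Let T be a numerical type on n indices, t > 5 with n > t, and i_1, …, i_t distinct (-2)-indices with
a_{i_j i_{j+1}} nonzero for j = 1, …, t - 1. Then, after possibly reversing the order of the
indices, for some integer w either (A) w_{i_1} = … = w_{i_t} = w and a_{i_j i_{j+1}} = w for all j;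
or (C) w_{i_1} = … = w_{i_{t-1}} = w, w_{i_t} = 2w, a_{i_j i_{j+1}} = w for j < t - 1 and a_{i_{t-1}
i_t} = 2w; or (B) w_{i_1} = … = w_{i_{t-1}} = 2w, w_{i_t} = w and a_{i_j i_{j+1}} = 2w for all j;
and in every case a_{i_j i_k} = 0 whenever k > j + 1. -/
theorem result {n : ℕ} (T : Models.NumericalType n) (t : ℕ) (ht : 5 < t) (hn : t < n)
    (v : Fin t ↪ Fin n) (hv : ∀ j, T.IsMinusTwo (v j))
    (hchain : ∀ j j' : Fin t, j'.val = j.val + 1 → T.a (v j) (v j') ≠ 0) :
    ∃ (u : Fin t → Fin n) (w : ℤ), ((∀ j, u j = v j) ∨ (∀ j, u j = v (Fin.rev j))) ∧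
      (∀ j k : Fin t, j.val + 1 < k.val → T.a (u j) (u k) = 0) ∧
      ((∀ j : Fin t, T.w (u j) = w) ∧ (∀ j j' : Fin t, j'.val = j.val + 1 → T.a (u j) (u j') = w) ∨
        ((∀ j : Fin t, j.val + 1 < t → T.w (u j) = w) ∧ (∀ j : Fin t, j.val + 1 = t → T.w (u j) = 2 * w) ∧
          (∀ j j' : Fin t, j'.val = j.val + 1 → j'.val + 1 < t → T.a (u j) (u j') = w) ∧
          (∀ j j' : Fin t, j'.val = j.val + 1 → j'.val + 1 = t → T.a (u j) (u j') = 2 * w)) ∨
        ((∀ j : Fin t, j.val + 1 < t → T.w (u j) = 2 * w) ∧ (∀ j : Fin t, j.val + 1 = t → T.w (u j) = w) ∧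
          (∀ j j' : Fin t, j'.val = j.val + 1 → T.a (u j) (u j') = 2 * w))) := by
  obtain ⟨s, rfl⟩ : ∃ s, t = s + 1 := ⟨t - 1, by omega⟩
  have hP := isPath_ofFn (T := T) v v.injective hv hchain
  obtain ⟨Q, w, hQ, hQP, h⟩ := path_long hP (by omega) hn
  refine ⟨fun j => Q j.val, w, ?_, fun j k hjk => path_chord_zero hQP hn hjk k.isLt, ?_⟩
  · rcases hQ with h | h
    · exact Or.inl fun j => by simp only [h j.val j.isLt, ofFn_val]
    · refine Or.inr fun j => ?_
      simp only [h j.val j.isLt]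
      rw [← ofFn_val v (Fin.rev j)]
      congr 1
      simp only [Fin.val_rev]
      omega
  · rcases h with ⟨a, b⟩ | ⟨a, b, c, d⟩ | ⟨a, b, c⟩
    · exact Or.inl ⟨fun j => a _ j.isLt, fun j j' h => by simp only [h]; exact b _ (by omega)⟩
    · refine Or.inr (Or.inl ⟨fun j hj => a _ hj, fun j hj => ?_, fun j j' h h' => ?_,
        fun j j' h h' => ?_⟩)
      · simpa [show j.val = s + 1 - 1 by omega] using b
      · simp only [h]; exact c _ (by omega)
      · simp only [show j.val = s + 1 - 2 by omega, show j'.val = s + 1 - 1 by omega]; exact d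
    · refine Or.inr (Or.inr ⟨fun j hj => a _ hj, fun j hj => ?_, fun j j' h => ?_⟩)
      · simpa [show j.val = s + 1 - 1 by omega] using b
      · simp only [h]; exact c _ (by omega)

end Groth.Agent.S7354
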