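import Groth.Statements.S7355
import Groth.Agent.NumType.Sub
-- import your own Groth.Agent.* helpers here

set_option autoImplicit false
open Finset
open Models Models.NumericalType

namespace Groth.Agent.S7355
open NumTypeLib

/-- Classification of proper subgraphs of type D: let T be a numerical type on n indices, t > 4 with n >
t + 1, and i_1, …, i_{t+1} distinct (-2)-indices such that a_{i_j i_{j+1}} is nonzero for j = 1, …,
t - 1 and a_{i_{t-1} i_{t+1}} is nonzero. Then for some integer w one has w_{i_1} = … = w_{i_{t+1}}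
= w, a_{i_j i_{j+1}} = w for j < t, a_{i_{t-1} i_{t+1}} = w, and a_{i_j i_k} = 0 for all other pairs
j ≠ k. -/
theorem result {n : ℕ} (T : Models.NumericalType n) (t : ℕ) (ht : 4 < t) (hn : t + 1 < n)
    (v : Fin (t + 1) ↪ Fin n) (hv : ∀ j, T.IsMinusTwo (v j))
    (hchain : ∀ j j' : Fin (t + 1), j'.val = j.val + 1 → j'.val < t → T.a (v j) (v j') ≠ 0)
    (hbranch : ∀ j j' : Fin (t + 1), j.val + 2 = t → j'.val = t → T.a (v j) (v j') ≠ 0) :
    ∃ w : ℤ, (∀ j : Fin (t + 1), T.w (v j) = w) ∧
      (∀ j j' : Fin (t + 1), j'.val = j.val + 1 → j'.val < t → T.a (v j) (v j') = w) ∧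
      (∀ j j' : Fin (t + 1), j.val + 2 = t → j'.val = t → T.a (v j) (v j') = w) ∧
      (∀ j k : Fin (t + 1), j.val < k.val → ¬ (k.val = j.val + 1 ∧ k.val < t) → ¬ (j.val + 2 = t ∧ k.val = t) →
        T.a (v j) (v k) = 0) := by
  obtain ⟨s, rfl⟩ : ∃ s, t = s + 1 := ⟨t - 1, by omega⟩
  have hP := isPath_ofFn (T := T) (fun i => v i.castSucc)
    (v.injective.comp (Fin.castSucc_injective _)) (fun i => hv _)
    (fun j j' h => hchain _ _ (by simpa using h) (by have := j'.isLt; simp; omega))
  have hP' : ∀ i : Fin (s + 1 + 1), i.val < s + 1 → ofFn (fun i => v i.castSucc) i.val = v i :=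
    fun i hi => by simp [ofFn, hi]
  obtain ⟨w, hw, hwz, he, hez, h0, h0z⟩ := branch_proper hP (d := s - 1) (by omega) (by omega)
    (z := v (Fin.last (s + 1))) (fun i hi e => by
      rw [show i = (⟨i, by omega⟩ : Fin (s + 1 + 1)).val from rfl, hP' _ hi] at e
      have := congrArg Fin.val (v.injective e)
      simp at this; omega)
    (hv _) (by
      rw [show s - 1 = (⟨s - 1, by omega⟩ : Fin (s + 1 + 1)).val from rfl, hP' _ (by simp <;> omega)]
      exact adj_emb v.injective (by simp [Fin.ext_iff] <;> omega) (hbranch _ _ (by simp <;> omega) rfl))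
    hn
  have last : ∀ j : Fin (s + 1 + 1), j.val = s + 1 → j = Fin.last (s + 1) :=
    fun j h => Fin.ext (by simpa using h)
  refine ⟨w, fun j => ?_, fun j j' h h' => ?_, fun j j' h h' => ?_, fun j k hjk h1 h2 => ?_⟩
  · by_cases h : j.val < s + 1
    · rw [← hP' j h]; exact hw _ h
    · rw [last j (by omega)]; exact hwz
  · rw [← hP' j (by omega), ← hP' j' h', h]; exact he _ (by omega)
  · rw [last j' h', ← hP' j (by omega), show j.val = s - 1 by omega]; exact hez
  · by_cases h : k.val < s + 1
    · rw [← hP' j (by omega), ← hP' k h]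
      exact h0 _ _ (by omega) h
    · rw [last k (by omega), ← hP' j (by omega)]
      exact h0z _ (by omega) (by omega)

end Groth.Agent.S7355
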