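import Groth.Statements.S7356
import Mathlib
import Groth.Agent.GorBlowLib.Gen
import Groth.Agent.GorBlowLib.Frame
import Groth.Agent.GorBlowLib.Omega
import Groth.Agent.GorBlowLib.Ideal
import Groth.Agent.GorBlowLib.TorsFree
import Groth.Agent.S7297
import Groth.Agent.S7873
import Groth.Agent.Dual3Lib.DualizingShriek
import Groth.Agent.Dual3Lib.RelTopDual
import Groth.Agent.ProjFormLib.QCohClass
import Groth.Agent.RpushLib.Sections
import Groth.Agent.RatModLib.BlowData
-- import your own Groth.Agent.* helpers here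

set_option autoImplicit false
set_option backward.isDefEq.respectTransparency false
set_option backward.isDefEq.respectTransparency.types false
set_option maxHeartbeats 2000000
universe u
open CategoryTheory CategoryTheory.Limits AlgebraicGeometry
attribute [local instance] HasDerivedCategory.standard
open Resolve

namespace Groth.Agent.S7356

/-- Let (A, m, κ) be a local normal Nagata domain of dimension two which defines a rational singularity
and has a dualizing module ω_A (ω_A in degree zero is a dualizing complex). Then there is a normal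
modification f : X → Spec A (proper, X integral and normal, an isomorphism over a nonempty open)
whose dualizing module ω_X — the degree-zero cohomology sheaf of f^!(ω_A~), for the right adjoint
f^! of Rf_* on D_QCoh whenever it exists — is an invertible O_X-module. (The published statement
also says that X is reached from Spec A by a finite sequence of blowings up in singular closed
points with every intermediate scheme normal; this row asserts only the existence of X. Left
exactness of M ↦ M~ is an instance hypothesis.) -/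
theorem result (A : Type u) [CommRing A] [IsDomain A] [IsLocalRing A] [IsNoetherianRing A]
    [IsIntegrallyClosed A] (hN : CAlg.IsNagata A) (hdim : ringKrullDim A = 2) (hA : Curv2.IsRationalSing A)
    (ωA : Type u) [AddCommGroup ωA] [Module A ωA] (hω : Dual.IsDualizing A (Dual.inD A ωA))
    [PreservesFiniteLimits (tilde.functor (CommRingCat.of A))] :
    ∃ (X : Scheme.{u}) (f : X ⟶ Spec (CommRingCat.of A)), IsProper f ∧ IsIntegral X ∧ Pi1.IsNormalScheme X ∧
      (∃ U : (Spec (CommRingCat.of A)).Opens, (U : Set (Spec (CommRingCat.of A))).Nonempty ∧ IsIso (f ∣_ U)) ∧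
      ∀ [DCoh.HasRpush f] (h : DCoh.RpushPreservesQCoh f) [DCoh.HasShriek f h]
        (WA : DCoh.DQCoh (Spec (CommRingCat.of A))),
        Nonempty (WA.obj ≅ (DCoh.tildeD (CommRingCat.of A)).obj (Dual.inD A ωA)) →
        PicF.IsInvertible (DCoh.dualizingMod f h WA 0) := by
  obtain ⟨I, hI, ⟨j⟩⟩ := GorBlowLib.exists_ideal hω hdim
  obtain ⟨X, f, hf, ⟨F⟩⟩ := GorBlowLib.exists_framed_modification A hN I hI
  refine ⟨X, f, hf.proper, hf.integral, hf.normal, hf.birat, ?_⟩
  intro _ h _ WA hWA
  obtain ⟨eW⟩ := hWA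
  haveI := hf.proper; haveI := hf.integral
  letI : X.Over (Spec (CommRingCat.of A)) := ⟨f⟩
  haveI : IsLocallyNoetherian X := LocallyOfFiniteType.isLocallyNoetherian f
  haveI : CompactSpace X := QuasiCompact.compactSpace_of_compactSpace f
  haveI : IsNoetherian X := {}
  haveI : X.IsSeparated := RatModLib.sep_of_proper f
  haveI : ∀ (U : Scheme.{u}) (i : U ⟶ X) [IsOpenImmersion i], PreservesFiniteLimits (Scheme.Modules.restrictFunctor i) :=
    fun U i _ => inferInstance
  haveI : ∀ (R : CommRingCat.{u}), PreservesFiniteLimits (tilde.functor R) :=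
    fun R => ProjFormLib.preservesFiniteLimits_tilde R
  let M := DCoh.dualizingMod f h WA 0
  haveI : Coh.IsQCoh M := ((DCoh.shriek f h).obj WA).property _
  have hB : ((DCoh.shriek f h).obj WA).obj.IsGE 0 :=
    @TraceGRLib.isGE_shriek A _ _ _ _ _ _ X ⟨f⟩ ‹DCoh.HasRpush f› ωA _ _ hω hf hdim h ‹DCoh.HasShriek f h› WA eW
  have hGR : Subsingleton (Coh.HH X M 1) :=
    @TraceGRLib.gr_vanishing A _ _ _ _ _ _ ωA _ _ hω hdim X ⟨f⟩ ‹DCoh.HasRpush f› hf h ‹DCoh.HasShriek f h› WA eW
  obtain ⟨Φ, hΦ⟩ : ∃ Φ : Γ(M, (⊤ : X.Opens)) ≃+ ωA,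
      ∀ (b : A) x, Φ (GorBlowLib.aF f ⊤ b • x) = b • Φ x :=
    @GorBlowLib.exists_equiv_sections A _ X _ _ _ _ _ ωA _ _ hω hdim ⟨f⟩ ‹DCoh.HasRpush f› hf h
      ‹DCoh.HasShriek f h› WA eW (hA X f hf.proper hf.integral hf.normal hf.birat)
  have hvan : ∀ N : X.Modules, Coh.IsQCoh N → Subsingleton (Coh.HH X N 2) := fun N hN2 =>
    Groth.Agent.S7297.result A hN hdim hA X f hf.normal hf.birat N hN2 2 le_rfl
  haveI := GorBlowLib.nontrivial_dualizing hω
  have hne : ¬ IsZero (DCoh.HD ((DCoh.shriek f h).obj WA).obj 0) := fun hz => by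
    haveI : Subsingleton Γ(M, (⊤ : X.Opens)) := RatModLib.subsingleton_sections_of_isZero hz ⊤
    exact not_subsingleton ωA Φ.symm.toEquiv.subsingleton
  have htf := (Groth.Agent.S7873.result X ((DCoh.shriek f h).obj WA).obj
    (Dual3Lib.isDualizingSch_rightAdjoint f h (DCoh.shriek f h) (DCoh.shriekAdj f h) WA
      (Dual3Lib.isDualizingSch_tildeD hω eW)) 0
    (fun i hi => DerivedCategory.isZero_of_isGE _ 0 i hi) hne).2 inferInstance
  have hinj : ∀ b : A, b ≠ 0 → Coh.toGlobal f b ≠ 0 := fun b hb h0 =>
    hb ((ModTorsLib.toGlobal_bijective hf).1 (h0.trans (map_zero _).symm))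
  have hTF : GorBlowLib.TF f M := GorBlowLib.tf_of_torsionFree f M htf hinj
  have hMt := GorBlowLib.subsingleton_H1_Mt F M hTF Φ hΦ
    (fun G a₀ h1 h2 h3 => GorBlowLib.exists_split hω hdim j G a₀ h1 h2 h3) hvan hGR
  let e : I → Γ(M, (⊤ : X.Opens)) := fun b => Φ.symm (j.symm b)
  refine GorBlowLib.isInvertible_of_frame F M hTF hMt hvan e
    (Φ.symm.surjective.comp j.symm.surjective) (fun b b' => Φ.injective ?_) fun k V hV g hg => ?_
  · simp only [e, hΦ, AddEquiv.apply_symm_apply]
    rw [← map_smul, ← map_smul]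
    exact congrArg j.symm (Subtype.ext (mul_comm _ _))
  · by_contra hg0
    have hV' : (V : Set X).Nonempty := by
      by_contra hVe
      refine hg0 (TopCat.Presheaf.section_ext X.sheaf V g 0 fun x hx => absurd ⟨x, hx⟩ hVe)
    refine GorBlowLib.rs_ne_zero M htf ?_ hV' (GorBlowLib.eq_zero_of_smul M htf g hg0 _ hg)
    intro he
    have h0 : j.symm ⟨F.a k, F.mem k⟩ = 0 := Φ.symm.map_eq_zero_iff.1 he
    exact F.ne k (congrArg Subtype.val (j.symm.map_eq_zero_iff.1 h0))

end Groth.Agent.S7356
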