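import Groth.Statements.S7358
import Mathlib
import Groth.Agent.SncLib.Step
import Groth.Agent.CurveResLib.Strict
import Groth.Agent.CurveResLib.Main
-- import your own Groth.Agent.* helpers here

set_option autoImplicit false
universe u
open CategoryTheory CategoryTheory.Limits AlgebraicGeometry
open Resolve

namespace Groth.Agent.S7358

/-- Let X be a locally Noetherian scheme, Y and Z closed subschemes with ideal sheaves I_Y and I_Z, p a
closed point lying on Y and on Z, with Y integral of dimension one, the generic point of Y not on Z,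
and O_{Y,p} regular; the multiplicity m_p(Y ∩ Z) is the length of the local ring of Y ∩ Z (ideal I_Y
+ I_Z) at p. Let b : X' → X be the blowing up of X at p (in the reduced point), E its exceptional
divisor, and Y', Z' ⊂ X' the strict transforms of Y and Z, i.e. the closed subschemes whose ideals
are the kernels of b^{-1}(Y) ∖ E → X' and b^{-1}(Z) ∖ E → X'. Then (1) b induces an isomorphism Y' ≅
Y; (2) Y' meets E in exactly one point q, and m_q(Y' ∩ E) = 1; (3) if moreover q ∈ Z', then m_q(Y' ∩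
Z') < m_p(Y ∩ Z). -/
theorem result (X : Scheme.{u}) [IsLocallyNoetherian X]
    (IY IZ : X.IdealSheafData) [IsIntegral IY.subscheme] (hdimY : topologicalKrullDim ↥IY.subscheme = 1)
    (p : X) (hp : IsClosed ({p} : Set X)) (hpY : p ∈ (IY.support : Set X)) (hpZ : p ∈ (IZ.support : Set X))
    (hgen : IY.subschemeι.base (genericPoint ↥IY.subscheme) ∉ (IZ.support : Set X))
    (hreg : ∀ y : ↥IY.subscheme, IY.subschemeι.base y = p → IsRegularLocalRing (IY.subscheme.presheaf.stalk y))
    (X' : Scheme.{u}) (b : X' ⟶ X) (hb : BlowUp.IsBlowUp b (Scheme.IdealSheafData.vanishingIdeal ⟨{p}, hp⟩))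
    (IY' IZ' : X'.IdealSheafData)
    (hY' : IY' = Scheme.Hom.ker ((((IY.comap b).subschemeι ⁻¹ᵁ
        (BlowUp.exceptional b (Scheme.IdealSheafData.vanishingIdeal ⟨{p}, hp⟩)).support.compl).ι) ≫ (IY.comap b).subschemeι))
    (hZ' : IZ' = Scheme.Hom.ker ((((IZ.comap b).subschemeι ⁻¹ᵁ
        (BlowUp.exceptional b (Scheme.IdealSheafData.vanishingIdeal ⟨{p}, hp⟩)).support.compl).ι) ≫ (IZ.comap b).subschemeι)) :
    (∃ e : IY'.subscheme ≅ IY.subscheme, e.hom ≫ IY.subschemeι = IY'.subschemeι ≫ b) ∧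
    (∃ q : X', {x : X' | x ∈ (IY'.support : Set X') ∧
          x ∈ ((BlowUp.exceptional b (Scheme.IdealSheafData.vanishingIdeal ⟨{p}, hp⟩)).support : Set X')} = {q} ∧
      (∀ q1 : ↥(IY' ⊔ BlowUp.exceptional b (Scheme.IdealSheafData.vanishingIdeal ⟨{p}, hp⟩)).subscheme,
          (IY' ⊔ BlowUp.exceptional b (Scheme.IdealSheafData.vanishingIdeal ⟨{p}, hp⟩)).subschemeι.base q1 = q →
          Module.length
            ((IY' ⊔ BlowUp.exceptional b (Scheme.IdealSheafData.vanishingIdeal ⟨{p}, hp⟩)).subscheme.presheaf.stalk q1)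
            ((IY' ⊔ BlowUp.exceptional b (Scheme.IdealSheafData.vanishingIdeal ⟨{p}, hp⟩)).subscheme.presheaf.stalk q1) = 1) ∧
      (q ∈ (IZ'.support : Set X') →
        ∀ (q0 : ↥(IY ⊔ IZ).subscheme) (q1 : ↥(IY' ⊔ IZ').subscheme),
          (IY ⊔ IZ).subschemeι.base q0 = p → (IY' ⊔ IZ').subschemeι.base q1 = q →
          Module.length ((IY' ⊔ IZ').subscheme.presheaf.stalk q1) ((IY' ⊔ IZ').subscheme.presheaf.stalk q1) <
            Module.length ((IY ⊔ IZ).subscheme.presheaf.stalk q0) ((IY ⊔ IZ).subscheme.presheaf.stalk q0))) := by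
  haveI : IsLocallyNoetherian IY.subscheme := LocallyOfFiniteType.isLocallyNoetherian IY.subschemeι
  haveI : IsProper b := BlowUpLib.isProper_of_isBlowUp hb fun U => by
    haveI := IsLocallyNoetherian.component_noetherian U
    exact IsNoetherian.noetherian _
  haveI : IsLocallyNoetherian X' := LocallyOfFiniteType.isLocallyNoetherian b
  let K := Scheme.IdealSheafData.vanishingIdeal (⟨{p}, hp⟩ : TopologicalSpace.Closeds X)
  have hex : BlowUp.exceptional b K = K.comap b := rfl
  rw [hex] at hY' hZ' ⊢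
  obtain ⟨y0, hy0⟩ : p ∈ Set.range IY.subschemeι := by rw [Scheme.IdealSheafData.range_subschemeι]; exact hpY
  let ι := IY.subschemeι
  have hy0η : y0 ≠ genericPoint ↥IY.subscheme := fun h => hgen (by
    show ι (genericPoint ↥IY.subscheme) ∈ _
    rw [← h, hy0]; exact hpZ)
  have hy0c : IsClosed ({y0} : Set ↥IY.subscheme) := CurveResLib.isClosed_point_of_dim_le_one hdimY.le y0 hy0η
  have hKι : K.comap ι = Scheme.IdealSheafData.vanishingIdeal ⟨{y0}, hy0c⟩ := by
    subst hy0
    exact CurveResLib.comap_point ι y0 hy0c hp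
  have hKs : ∀ y, y ∈ ((K.comap ι).support : Set ↥IY.subscheme) ↔ y = y0 := fun y => by
    rw [hKι, Scheme.IdealSheafData.coe_support_vanishingIdeal]
    exact Set.mem_singleton_iff
  have hKc : BlowUp.IsEffCartierIdeal (K.comap ι) :=
    CurveResLib.isEffCartier_of_regular_at hdimY.le _ (fun h => hy0η ((hKs _).1 h).symm)
      (fun w hw => hreg w (by rw [(hKs w).1 hw]; exact hy0))
  obtain ⟨c, hc, hcu⟩ := hb.2 IY.subscheme ι hKc
  haveI : IsClosedImmersion c :=
    BlowUpLib.isClosedImmersion_map hb ι (CurveResLib.isBlowUp_id hKc) c (by rw [hc, Category.id_comp])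
  have hE : ∀ x : X', x ∈ ((K.comap b).support : Set X') ↔ b x = p := fun x => by
    rw [Scheme.IdealSheafData.support_comap]
    show b x ∈ (K.support : Set X) ↔ _
    rw [Scheme.IdealSheafData.coe_support_vanishingIdeal]
    exact Set.mem_singleton_iff
  have hbc : ∀ y, b (c y) = ι y := fun y => congrArg (fun m : IY.subscheme ⟶ X => m y) hc
  -- the strict transform of the curve
  have hYc : IY' = c.ker := by
    let J := IY.comap b
    let s := J.subschemeι
    let Wo := s ⁻¹ᵁ (K.comap b).support.compl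
    have hJc : J ≤ c.ker := by
      rw [← Scheme.IdealSheafData.le_map_iff_comap_le, Scheme.IdealSheafData.map_ker, hc, IY.ker_subschemeι]
    have hsb : IY ≤ (s ≫ b).ker := by
      rw [← Scheme.IdealSheafData.map_ker, J.ker_subschemeι, Scheme.IdealSheafData.le_map_iff_comap_le]
    let r : J.subscheme ⟶ IY.subscheme := IsClosedImmersion.lift ι (s ≫ b) (by rwa [IY.ker_subschemeι])
    have hr : r ≫ ι = s ≫ b := IsClosedImmersion.lift_fac _ _ _
    have hWK : ∀ (m : (Wo : Scheme.{u}) ⟶ X'), m ≫ b = (Wo.ι ≫ s) ≫ b → BlowUp.IsEffCartierIdeal (K.comap ((Wo.ι ≫ s) ≫ b)) := fun m _ => by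
      have : K.comap ((Wo.ι ≫ s) ≫ b) = ⊤ := by
        refine (Scheme.IdealSheafData.support_eq_bot_iff _).1 (TopologicalSpace.Closeds.ext ?_)
        refine Set.eq_empty_of_forall_notMem fun w hw => ?_
        rw [Scheme.IdealSheafData.comap_comp, Scheme.IdealSheafData.support_comap] at hw
        exact w.2 hw
      rw [this]
      exact EffCartLib.isEffCartier_top
    have hWc : Wo.ι ≫ r ≫ c = Wo.ι ≫ s := by
      have h1 : (Wo.ι ≫ r ≫ c) ≫ b = (Wo.ι ≫ s) ≫ b := by simp only [Category.assoc, hc, hr]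
      obtain ⟨m, hm, hu⟩ := hb.2 _ ((Wo.ι ≫ s) ≫ b) (hWK _ h1)
      exact (hu _ h1).trans (hu _ rfl).symm
    rw [hY']
    refine le_antisymm ?_ ?_
    · let j : IY.subscheme ⟶ J.subscheme := IsClosedImmersion.lift s c (by rwa [J.ker_subschemeι])
      have hj : j ≫ s = c := IsClosedImmersion.lift_fac _ _ _
      let V : IY.subscheme.Opens := ⟨({y0} : Set ↥IY.subscheme)ᶜ, hy0c.isOpen_compl⟩
      have hVW : Set.range (V.ι ≫ j) ⊆ Set.range Wo.ι := by
        rintro _ ⟨v, rfl⟩
        rw [Scheme.Opens.range_ι]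
        intro h
        have h1 : s (j v.1) = c v.1 := congrArg (fun m : IY.subscheme ⟶ X' => m v.1) hj
        have h2 : c v.1 ∈ ((K.comap b).support : Set X') := h1 ▸ h
        exact v.2 ((hKs v.1).1 (by
          rw [← hc, Scheme.IdealSheafData.comap_comp, Scheme.IdealSheafData.support_comap]
          exact h2))
      let k := IsOpenImmersion.lift Wo.ι (V.ι ≫ j) hVW
      have hk : k ≫ (Wo.ι ≫ s) = V.ι ≫ c := by
        rw [← Category.assoc, IsOpenImmersion.lift_fac, Category.assoc, hj]
      have h2 : (Wo.ι ≫ s).ker ≤ (V.ι ≫ c).ker := hk ▸ Scheme.Hom.le_ker_comp k (Wo.ι ≫ s)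
      refine h2.trans ?_
      have h3 : V.ι.ker = ⊥ := by
        refine Scheme.IdealSheafData.support_eq_top_iff.1 (top_le_iff.1 fun y _ => ?_)
        rw [← SetLike.mem_coe, Scheme.Hom.support_ker]
        refine closure_mono (Set.singleton_subset_iff.2 ?_) ((genericPoint_spec ↥IY.subscheme).specializes (Set.mem_univ y) |>.mem_closure)
        rw [Scheme.Opens.range_ι]
        exact fun h => hy0η (Set.mem_singleton_iff.1 h).symm
      rw [← Scheme.IdealSheafData.map_ker, h3, Scheme.IdealSheafData.map_bot]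
    · calc c.ker ≤ ((Wo.ι ≫ r) ≫ c).ker := Scheme.Hom.le_ker_comp _ c
        _ = (Wo.ι ≫ s).ker := by rw [Category.assoc, hWc]
  -- the strict transform of the second subscheme
  have hZle : IZ.comap b ≤ IZ' * K.comap b := by
    let J := IZ.comap b
    let s := J.subschemeι
    let Wo := s ⁻¹ᵁ (K.comap b).support.compl
    have hZK : IZ ≤ K := Scheme.IdealSheafData.le_support_iff_le_vanishingIdeal.1 (by
      rw [← SetLike.coe_subset_coe]; exact Set.singleton_subset_iff.2 hpZ)
    obtain ⟨M, hM⟩ := PtBlowLib.exists_mul_eq hb.1 (Scheme.IdealSheafData.comap_mono b hZK)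
    have hMle : M ≤ IZ' := by
      rw [hZ', ← Scheme.IdealSheafData.map_bot, Scheme.IdealSheafData.le_map_iff_comap_le]
      have hs : J.comap (Wo.ι ≫ s) = ⊥ := by
        rw [Scheme.IdealSheafData.comap_comp, le_bot_iff.1 (Scheme.IdealSheafData.le_map_iff_comap_le.1
          (by rw [Scheme.IdealSheafData.map_bot, J.ker_subschemeι] : J ≤ Scheme.IdealSheafData.map ⊥ s))]
        exact le_bot_iff.1 (Scheme.IdealSheafData.le_map_iff_comap_le.1 bot_le)
      have hK : (K.comap b).comap (Wo.ι ≫ s) = ⊤ := by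
        refine (Scheme.IdealSheafData.support_eq_bot_iff _).1 (TopologicalSpace.Closeds.ext ?_)
        refine Set.eq_empty_of_forall_notMem fun w hw => ?_
        rw [Scheme.IdealSheafData.support_comap] at hw
        exact w.2 hw
      have h1 : J.comap (Wo.ι ≫ s) = M.comap (Wo.ι ≫ s) * (K.comap b).comap (Wo.ι ≫ s) :=
        (congrArg (fun A => Scheme.IdealSheafData.comap A (Wo.ι ≫ s)) hM).trans (BlowUpLib.comap_mul _ _ _)
      rw [hK, hs, ← Scheme.IdealSheafData.one_eq_top, mul_one] at h1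
      exact le_of_eq h1.symm
    refine le_of_eq_of_le hM ?_
    intro U
    rw [Scheme.IdealSheafData.ideal_mul, Scheme.IdealSheafData.ideal_mul, Pi.mul_apply, Pi.mul_apply]
    exact Ideal.mul_mono (hMle U) le_rfl
  subst hYc
  haveI hcI : IsIso c.toImage := inferInstance
  refine ⟨⟨(asIso c.toImage).symm, ?_⟩, c y0, ?_, ?_, ?_⟩
  · have h1 : c.toImage ≫ c.ker.subschemeι = c := c.toImage_imageι
    rw [Iso.symm_hom, asIso_inv, IsIso.inv_comp_eq, ← Category.assoc, h1, hc]
  · ext x
    simp only [Set.mem_setOf_eq, Set.mem_singleton_iff]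
    rw [Scheme.Hom.support_ker, c.isClosedEmbedding.isClosed_range.closure_eq]
    constructor
    · rintro ⟨⟨y, rfl⟩, hx⟩
      have h2 := (hE _).1 hx
      rw [hbc] at h2
      exact congrArg c (ι.isClosedEmbedding.injective (h2.trans hy0.symm))
    · rintro rfl
      exact ⟨⟨y0, rfl⟩, (hE _).2 ((hbc y0).trans hy0)⟩
  · intro q1 hq1
    rw [PtBlowLib.length_stalk_subscheme_eq]
    change PtBlowLib.colen _ ((c.ker ⊔ K.comap b).subschemeι.base q1) = 1
    rw [hq1, ← SncLib.colen_comap_closed, ← Scheme.IdealSheafData.comap_comp, hc, hKι, PtBlowLib.colen,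
      PtBlowLib.stalkIdeal_vanishing_point y0 hy0c]
    letI : Field (↑(IY.subscheme.presheaf.stalk y0) ⧸ IsLocalRing.maximalIdeal (IY.subscheme.presheaf.stalk y0)) :=
      Ideal.Quotient.field _
    exact Module.length_eq_one_iff.2 inferInstance
  · intro _ q0 q1 hq0 hq1
    rw [PtBlowLib.length_stalk_subscheme_eq, PtBlowLib.length_stalk_subscheme_eq]
    change PtBlowLib.colen _ ((c.ker ⊔ IZ').subschemeι.base q1) < PtBlowLib.colen _ ((IY ⊔ IZ).subschemeι.base q0)
    rw [hq1, hq0, ← SncLib.colen_comap_closed]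
    have h1 : PtBlowLib.colen (IY ⊔ IZ) p = PtBlowLib.colen (IZ.comap ι) y0 := by
      rw [SncLib.colen_comap_closed, IY.ker_subschemeι]
      exact congrArg _ hy0.symm
    rw [h1]
    have hD : IZ.comap ι ≤ IZ'.comap c * K.comap ι := by
      rw [← hc, Scheme.IdealSheafData.comap_comp, Scheme.IdealSheafData.comap_comp, ← BlowUpLib.comap_mul]
      exact Scheme.IdealSheafData.comap_mono c hZle
    have hgenD : genericPoint ↥IY.subscheme ∉ ((IZ.comap ι).support : Set ↥IY.subscheme) := fun h => hgen (by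
      rw [Scheme.IdealSheafData.support_comap] at h
      exact h)
    exact SncLib.colen_lt_of_le_mul' hD hgenD ((hKs y0).2 rfl) (PtBlowLib.colen_ne_top _ y0 fun y hy hyy0 => by
      by_contra hne
      have hyc : IsClosed ({y} : Set ↥IY.subscheme) :=
        CurveResLib.isClosed_point_of_dim_le_one hdimY.le y fun e => hgenD (e ▸ hy)
      exact hne (Set.mem_singleton_iff.1 (hyy0.mem_closed hyc rfl)).symm)

end Groth.Agent.S7358
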