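import Groth.Statements.S7360
import Mathlib
import Groth.Agent.PtBlowLib.PointBlow
import Groth.Agent.PtBlowLib.Colength
import Groth.Agent.InjHullLib.Matlis
import Groth.Agent.S1624
import Groth.Agent.S7323
import Groth.Agent.GenusZeroLib.PSpace
-- import your own Groth.Agent.* helpers here

set_option autoImplicit false
universe u
open CategoryTheory CategoryTheory.Limits AlgebraicGeometry
open Resolve

namespace Groth.Agent.S7360

/-- Let (A, m) be a regular local ring of dimension two, X → Spec A (the structure morphism) the blowing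
up in m with exceptional divisor E and its ideal I_E, and I an ideal of A with m^n ⊆ I ⊆ m for some
n. Let d be the largest integer with I O_X ⊆ O_X(-dE) = I_E^d and I' ⊆ O_X the ideal with I O_X = I'
· I_E^d (so I' = I O_X(dE)). Then d > 0, O_X/I' is supported in finitely many closed points x_1, …,
x_r, and length_A(A/I) > length_A Γ(X, O_X/I') ≥ Σ_i length_{O_{X,x_i}}(O_{X,x_i}/I'_{x_i}), the sum
written as a finite sum over the points of the subscheme defined by I'. -/
theorem result (A : Type u) [CommRing A] [IsRegularLocalRing A] (hA : ringKrullDim A = 2)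
    (X : Scheme.{u}) [X.Over (Spec (CommRingCat.of A))]
    (hb : BlowUp.IsBlowUp (X ↘ Spec (CommRingCat.of A)) (Curv2.idealSheaf A (IsLocalRing.maximalIdeal A)))
    (I : Ideal A) (n : ℕ) (hIn : IsLocalRing.maximalIdeal A ^ n ≤ I) (hIm : I ≤ IsLocalRing.maximalIdeal A)
    (d : ℕ) (I' : X.IdealSheafData)
    (hd : (Curv2.idealSheaf A I).comap (X ↘ Spec (CommRingCat.of A)) =
      I' * BlowUp.exceptional (X ↘ Spec (CommRingCat.of A)) (Curv2.idealSheaf A (IsLocalRing.maximalIdeal A)) ^ d)
    (hmax : ¬ (Curv2.idealSheaf A I).comap (X ↘ Spec (CommRingCat.of A)) ≤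
      BlowUp.exceptional (X ↘ Spec (CommRingCat.of A)) (Curv2.idealSheaf A (IsLocalRing.maximalIdeal A)) ^ (d + 1)) :
    0 < d ∧ (I'.support : Set X).Finite ∧ (∀ x ∈ (I'.support : Set X), IsClosed ({x} : Set X)) ∧
      Module.length A (Coh.HH X (ClSub.quotMod I') 0) < Module.length A (A ⧸ I) ∧
      ∑ᶠ x : ↥I'.subscheme, Module.length (I'.subscheme.presheaf.stalk x) (I'.subscheme.presheaf.stalk x) ≤
        Module.length A (Coh.HH X (ClSub.quotMod I') 0) := by
  let f := X ↘ Spec (CommRingCat.of A)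
  obtain ⟨E, hE⟩ : ∃ E, E = BlowUp.exceptional f (Curv2.idealSheaf A (IsLocalRing.maximalIdeal A)) := ⟨_, rfl⟩
  rw [← hE] at hd hmax
  haveI := PtBlowLib.isIntegral_ptBlow A hA f hb
  haveI := PtBlowLib.isProper_ptBlow A f hb
  haveI : IsLocallyNoetherian X := LocallyOfFiniteType.isLocallyNoetherian f
  have hJE : (Curv2.idealSheaf A I).comap f ≤ E :=
    hE ▸ Scheme.IdealSheafData.comap_mono f (PtBlowLib.idealSheaf_mono hIm)
  have hd0 : 0 < d := by
    rcases Nat.eq_zero_or_pos d with rfl | h
    · exact absurd (by simpa using hJE) hmax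
    · exact h
  have hsE : (E.support : Set X) = f ⁻¹' {IsLocalRing.closedPoint A} :=
    hE ▸ PtBlowLib.support_exceptional A f hb
  have hsub : (I'.support : Set X) ⊆ f ⁻¹' {IsLocalRing.closedPoint A} := by
    have h1 : (Curv2.idealSheaf A I).comap f ≤ I' := by
      intro U
      rw [hd, Scheme.IdealSheafData.ideal_mul, Pi.mul_apply]
      exact Ideal.mul_le_left
    intro x hx'
    have hx := Scheme.IdealSheafData.support_antitone h1 hx'
    rw [Scheme.IdealSheafData.support_comap] at hx
    have hp : (f x : PrimeSpectrum A) ∈ PrimeSpectrum.zeroLocus (I : Set A) :=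
      PtBlowLib.coe_support_idealSheaf I ▸ hx
    have hp' : IsLocalRing.maximalIdeal A ≤ (f x : PrimeSpectrum A).asIdeal :=
      (f x : PrimeSpectrum A).isPrime.le_of_pow_le (hIn.trans hp)
    exact PrimeSpectrum.ext ((IsLocalRing.maximalIdeal.isMaximal A).eq_of_le (f x : PrimeSpectrum A).isPrime.ne_top hp').symm
  have hnle : ¬ I' ≤ E := fun hle => hmax <| by
    intro U
    rw [hd, Scheme.IdealSheafData.ideal_mul, Pi.mul_apply, Scheme.IdealSheafData.ideal_pow, Scheme.IdealSheafData.ideal_pow,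
      Pi.pow_apply, Pi.pow_apply, pow_succ']
    exact Ideal.mul_mono (hle U) le_rfl
  obtain ⟨hfin, hcl⟩ := PtBlowLib.finite_of_not_le A hA f hb I' hsub (hE ▸ hnle)
  obtain ⟨V₀, hV₀⟩ := PtBlowLib.exists_affine_finite A f hb _ hfin
  obtain ⟨-, -, k, hk, ⟨e, -⟩⟩ := Groth.Agent.S7323.result A hA X f hb
  letI := hk
  haveI : IsIntegral (CohB1.ProjSpace 1 k) := GenusZeroLib.isIntegral_projSpace k 1
  have hEne : (E.support : Set X).Nonempty := by
    rw [hE, ← Scheme.IdealSheafData.range_subschemeι]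
    exact ⟨_, e.hom (genericPoint (CohB1.ProjSpace 1 k)), rfl⟩
  have hEc : BlowUp.IsEffCartierIdeal E := hE ▸ hb.1
  have hH1 : Subsingleton (Coh.HH X (ClSub.idealMod ((Curv2.idealSheaf A I).comap f)) 1) :=
    Groth.Agent.S1624.result A hA X f hb _ (SweepSix.ConormalSpec.isQCoh_idealMod _) (PtBlowLib.isGloballyGenerated_comap f I)
  have hIlen : IsFiniteLength A (A ⧸ I) :=
    (InjHullLib.isFiniteLength_quotient_pow (R := A) (m := IsLocalRing.maximalIdeal A) n).of_surjective (f := Submodule.factor hIn) (Submodule.factor_surjective hIn)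
  obtain ⟨h1, h2⟩ := PtBlowLib.length_lt_and_sum_le I hIlen E hEc hEne d hd0 I' hd hH1
    (PtBlowLib.toGlobal_surjective_ptBlow A hA f hb) hfin hcl V₀ hV₀
  exact ⟨hd0, hfin, hcl, h1, h2⟩

end Groth.Agent.S7360
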