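import Groth.Statements.S7361
import Mathlib
import Groth.Agent.TraceGRLib.Main
-- import your own Groth.Agent.* helpers here

set_option autoImplicit false
universe u
open CategoryTheory CategoryTheory.Limits AlgebraicGeometry
attribute [local instance] HasDerivedCategory.standard
open Resolve

namespace Groth.Agent.S7361

/-- Let (A, m) be a local normal Nagata domain of dimension two with a dualizing module ω_A (ω_A in
degree zero a dualizing complex). Suppose there is a nonzero d ∈ A such that for every normal
modification f : X → Spec A (proper, X integral normal, an isomorphism over a nonempty open) the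
trace Γ(X, ω_X) → ω_A has its cokernel killed by d; here the trace map is taken as the map on global
sections of the degree-zero cohomology sheaves of the counit Rf_* f^!(ω_A~) → ω_A~, for any right
adjoint f^! of Rf_* on D_QCoh (existence carried as hypotheses). Then A admits a reduction to
rational singularities: the lengths of H^1(X, O_X) over all normal modifications are bounded. -/
theorem result (A : Type u) [CommRing A] [IsDomain A] [IsLocalRing A] [IsNoetherianRing A]
    [IsIntegrallyClosed A] (hN : CAlg.IsNagata A) (hdim : ringKrullDim A = 2)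
    (ωA : Type u) [AddCommGroup ωA] [Module A ωA] (hω : Dual.IsDualizing A (Dual.inD A ωA))
    [PreservesFiniteLimits (tilde.functor (CommRingCat.of A))] (d : A) (hd : d ≠ 0)
    (htr : ∀ (X : Scheme.{u}) (f : X ⟶ Spec (CommRingCat.of A)) [IsProper f] [IsIntegral X], Pi1.IsNormalScheme X →
      (∃ U : (Spec (CommRingCat.of A)).Opens, (U : Set (Spec (CommRingCat.of A))).Nonempty ∧ IsIso (f ∣_ U)) →
      ∀ [DCoh.HasRpush f] (h : DCoh.RpushPreservesQCoh f) [DCoh.HasShriek f h]
        (WA : DCoh.DQCoh (Spec (CommRingCat.of A))),
        Nonempty (WA.obj ≅ (DCoh.tildeD (CommRingCat.of A)).obj (Dual.inD A ωA)) →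
        ∀ s : ((DerivedCategory.homologyFunctor (Spec (CommRingCat.of A)).Modules 0).obj WA.obj).val.obj (Opposite.op ⊤),
          ∃ t, (((DerivedCategory.homologyFunctor (Spec (CommRingCat.of A)).Modules 0).map
              ((ObjectProperty.ι DCoh.IsQCohD).map ((DCoh.trace f h).app WA))).val.app (Opposite.op ⊤)) t =
            ((Scheme.ΓSpecIso (CommRingCat.of A)).inv.hom d) • s) :
    (∃ N : ℕ, ∀ (X : Scheme.{u}) [X.Over (Spec (CommRingCat.of A))], IsProper (X ↘ Spec (CommRingCat.of A)) →
        IsIntegral X → Pi1.IsNormalScheme X →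
        (∃ U : (Spec (CommRingCat.of A)).Opens, (U : Set (Spec (CommRingCat.of A))).Nonempty ∧ IsIso ((X ↘ Spec (CommRingCat.of A)) ∣_ U)) →
        Module.length A (Coh.HH X (Coh.structureModule X) 1) ≤ (N : ℕ∞)) := by
  obtain ⟨N, hN'⟩ := TraceGRLib.exists_length_bound A hN hdim ωA hω d hd htr
  exact ⟨N, fun X _ hp hi hn hb => hN' X ⟨hp, hi, hn, hb⟩⟩

end Groth.Agent.S7361
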