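import Groth.Statements.S7362
import Groth.Agent.NumType.Genus
import Mathlib.Tactic.IntervalCases
import Mathlib.Tactic.LinearCombination
-- import your own Groth.Agent.* helpers here

set_option autoImplicit false
open Finset
open Models Models.NumericalType

namespace Groth.Agent.S7362

/-- Genus one classification: case n = 2: let T be a minimal numerical type of genus 1 on two indices.
Then for some ordering i, j of the indices and some integers m, w, either m_i = m_j = m, a_ii = a_jj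
= -2w, a_ij = 2w, w_i = w_j = w, g_i = g_j = 0; or m_i = 2m, m_j = m, a_ii = -2w, a_ij = 4w, a_jj =
-8w, w_i = w, w_j = 4w, g_i = g_j = 0. Only the classification direction is stated. -/
theorem result (T : Models.NumericalType 2) (hmin : T.IsMinimal) (hg : T.genus = 1) :
    ∃ (i j : Fin 2) (m w : ℤ), i ≠ j ∧ T.g i = 0 ∧ T.g j = 0 ∧
      ((T.m i = m ∧ T.m j = m ∧ T.a i i = -2 * w ∧ T.a i j = 2 * w ∧ T.a j j = -2 * w ∧ T.w i = w ∧ T.w j = w) ∨
        (T.m i = 2 * m ∧ T.m j = m ∧ T.a i i = -2 * w ∧ T.a i j = 4 * w ∧ T.a j j = -8 * w ∧ T.w i = w ∧ T.w j = 4 * w)) := by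
  have h2 := NumTypeLib.all_minusTwo T (by norm_num) hmin hg
  obtain ⟨p, hp⟩ := T.w_dvd 0 1
  obtain ⟨q, hq⟩ := T.w_dvd 1 0
  have hs := NumTypeLib.a_symm T 0 1
  have r0 := NumTypeLib.row_sum T 0
  have r1 := NumTypeLib.row_sum T 1
  rw [Fin.sum_univ_two, (h2 0).2, hp] at r0
  rw [Fin.sum_univ_two, (h2 1).2, hq] at r1
  have e0 : p * T.m 1 = 2 * T.m 0 :=
    mul_left_cancel₀ (T.w_pos 0).ne' (by linear_combination r0)
  have e1 : q * T.m 0 = 2 * T.m 1 :=
    mul_left_cancel₀ (T.w_pos 1).ne' (by linear_combination r1)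
  have hm0 := T.m_pos 0
  have hm1 := T.m_pos 1
  have hpq : p * q = 4 := by
    refine mul_left_cancel₀ (mul_pos hm0 hm1).ne' ?_
    linear_combination (q * T.m 0) * e0 + (2 * T.m 0) * e1
  have hp0 : 0 < p := by nlinarith
  have hpd : p.natAbs ∣ 4 := by
    have : p ∣ (4 : ℤ) := ⟨q, hpq.symm⟩
    simpa using Int.natAbs_dvd_natAbs.mpr this
  have hp4 : p ≤ 4 := by
    have := Nat.le_of_dvd (by norm_num) hpd
    omega
  interval_cases p
  · refine ⟨1, 0, T.m 0, T.w 1, by decide, (h2 1).1, (h2 0).1, Or.inr ⟨by linarith, rfl,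
      (h2 1).2, ?_, ?_, rfl, ?_⟩⟩
    · rw [hq, show q = 4 by omega]; ring
    · rw [(h2 0).2]; nlinarith [hp, hq, hs]
    · nlinarith [hp, hq, hs]
  · refine ⟨0, 1, T.m 0, T.w 0, by decide, (h2 0).1, (h2 1).1, Or.inl ⟨rfl, by linarith,
      (h2 0).2, by linarith [hp], ?_, rfl, ?_⟩⟩
    · rw [(h2 1).2]; nlinarith [hp, hq, hs]
    · nlinarith [hp, hq, hs]
  · omega
  · refine ⟨0, 1, T.m 1, T.w 0, by decide, (h2 0).1, (h2 1).1, Or.inr ⟨by linarith, rfl,
      (h2 0).2, by linarith [hp], ?_, rfl, ?_⟩⟩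
    · rw [(h2 1).2]; nlinarith [hp, hq, hs]
    · nlinarith [hp, hq, hs]

end Groth.Agent.S7362
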