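import Groth.Statements.S7363
import Groth.Agent.NumType.GenusOne
-- import your own Groth.Agent.* helpers here

set_option autoImplicit false
open Finset
open Models Models.NumericalType

namespace Groth.Agent.S7363

/-- Genus one classification: case n = 3: let T be a minimal numerical type of genus 1 on three indices.
Then all g = 0 and, for some ordering i, j, k of the indices and some integers m, w, the data (m; a;
w) is one of: (m,m,m; a_ii = a_jj = a_kk = -2w, a_ij = a_ik = a_jk = w; w,w,w); (m,2m,m; a_ii = -2w,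
a_ij = w, a_ik = 0, a_jj = -2w, a_jk = 3w, a_kk = -6w; w,w,3w); (m,2m,3m; a_ii = -6w, a_ij = 3w,
a_ik = 0, a_jj = -6w, a_jk = 3w, a_kk = -2w; 3w,3w,w); (2m,2m,m; a_ii = -2w, a_ij = 2w, a_ik = 0,
a_jj = -4w, a_jk = 4w, a_kk = -8w; w,2w,4w); (m,m,m; a_ii = -2w, a_ij = 2w, a_ik = 0, a_jj = -4w,
a_jk = 2w, a_kk = -2w; w,2w,w); (m,2m,m; a_ii = -4w, a_ij = 2w, a_ik = 0, a_jj = -2w, a_jk = 2w,
a_kk = -4w; 2w,w,2w). Only the classification direction is stated. -/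
theorem result (T : Models.NumericalType 3) (hmin : T.IsMinimal) (hg : T.genus = 1) :
    ∃ (i j k : Fin 3) (m w : ℤ), i ≠ j ∧ j ≠ k ∧ i ≠ k ∧ T.g i = 0 ∧ T.g j = 0 ∧ T.g k = 0 ∧
      ((T.m i = m ∧ T.m j = m ∧ T.m k = m ∧ T.a i i = -2 * w ∧ T.a j j = -2 * w ∧ T.a k k = -2 * w ∧
          T.a i j = w ∧ T.a i k = w ∧ T.a j k = w ∧ T.w i = w ∧ T.w j = w ∧ T.w k = w) ∨
        (T.m i = m ∧ T.m j = 2 * m ∧ T.m k = m ∧ T.a i i = -2 * w ∧ T.a i j = w ∧ T.a i k = 0 ∧ T.a j j = -2 * w ∧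
          T.a j k = 3 * w ∧ T.a k k = -6 * w ∧ T.w i = w ∧ T.w j = w ∧ T.w k = 3 * w) ∨
        (T.m i = m ∧ T.m j = 2 * m ∧ T.m k = 3 * m ∧ T.a i i = -6 * w ∧ T.a i j = 3 * w ∧ T.a i k = 0 ∧ T.a j j = -6 * w ∧
          T.a j k = 3 * w ∧ T.a k k = -2 * w ∧ T.w i = 3 * w ∧ T.w j = 3 * w ∧ T.w k = w) ∨
        (T.m i = 2 * m ∧ T.m j = 2 * m ∧ T.m k = m ∧ T.a i i = -2 * w ∧ T.a i j = 2 * w ∧ T.a i k = 0 ∧ T.a j j = -4 * w ∧
          T.a j k = 4 * w ∧ T.a k k = -8 * w ∧ T.w i = w ∧ T.w j = 2 * w ∧ T.w k = 4 * w) ∨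
        (T.m i = m ∧ T.m j = m ∧ T.m k = m ∧ T.a i i = -2 * w ∧ T.a i j = 2 * w ∧ T.a i k = 0 ∧ T.a j j = -4 * w ∧
          T.a j k = 2 * w ∧ T.a k k = -2 * w ∧ T.w i = w ∧ T.w j = 2 * w ∧ T.w k = w) ∨
        (T.m i = m ∧ T.m j = 2 * m ∧ T.m k = m ∧ T.a i i = -4 * w ∧ T.a i j = 2 * w ∧ T.a i k = 0 ∧ T.a j j = -2 * w ∧
          T.a j k = 2 * w ∧ T.a k k = -4 * w ∧ T.w i = 2 * w ∧ T.w j = w ∧ T.w k = 2 * w)) := by
  obtain ⟨p, hp, hk, σ, m, w, h⟩ := NumTypeLib.genus_one_template (by norm_num) hmin hg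
  have hd := NumTypeLib.Matches.diag (by norm_num) hmin hg h
  have hg0 := NumTypeLib.genus_one_g (by norm_num) hmin hg
  cases hp
  case dExtUp k hk' =>
    change k = 3 at hk
    omega
  case dExtDown k hk' =>
    change k = 3 at hk
    omega
  case dbl k hk' =>
    change k = 3 at hk
    omega
  case f4A => simp [NumTypeLib.f4A] at hk
  case f4B => simp [NumTypeLib.f4B] at hk
  case e6 => simp [NumTypeLib.e6] at hk
  case e7 => simp [NumTypeLib.e7] at hk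
  case e8 => simp [NumTypeLib.e8] at hk
  case cyc k hk' =>
    obtain rfl : k = 3 := hk
    refine ⟨σ 0, σ 1, σ 2, m, w, σ.injective.ne (by decide), σ.injective.ne (by decide),
      σ.injective.ne (by decide), hg0 _, hg0 _, hg0 _, Or.inl ?_⟩
    simp [h.hm, h.hw, h.ha, hd, NumTypeLib.cyc, NumTypeLib.sym]
    all_goals ring_nf
    all_goals simp
  case g2A =>
    refine ⟨σ 0, σ 1, σ 2, m, w, σ.injective.ne (by decide), σ.injective.ne (by decide),
      σ.injective.ne (by decide), hg0 _, hg0 _, hg0 _, Or.inr (Or.inl ?_)⟩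
    simp [h.hm, h.hw, h.ha, hd, NumTypeLib.g2A, NumTypeLib.sym]
    all_goals ring_nf
    all_goals simp
  case g2B =>
    refine ⟨σ 0, σ 1, σ 2, m, w, σ.injective.ne (by decide), σ.injective.ne (by decide),
      σ.injective.ne (by decide), hg0 _, hg0 _, hg0 _, Or.inr (Or.inr (Or.inl ?_))⟩
    simp [h.hm, h.hw, h.ha, hd, NumTypeLib.g2B, NumTypeLib.sym]
    all_goals ring_nf
    all_goals simp
  case chainUU k hk' =>
    obtain rfl : k = 3 := hk
    refine ⟨σ 0, σ 1, σ 2, m, w, σ.injective.ne (by decide), σ.injective.ne (by decide),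
      σ.injective.ne (by decide), hg0 _, hg0 _, hg0 _, Or.inr (Or.inr (Or.inr (Or.inl ?_)))⟩
    simp [h.hm, h.hw, h.ha, hd, NumTypeLib.chainUU, NumTypeLib.sym]
    all_goals ring_nf
    all_goals simp
  case chainUD k hk' =>
    obtain rfl : k = 3 := hk
    refine ⟨σ 0, σ 1, σ 2, m, w, σ.injective.ne (by decide), σ.injective.ne (by decide),
      σ.injective.ne (by decide), hg0 _, hg0 _, hg0 _, Or.inr (Or.inr (Or.inr (Or.inr (Or.inl ?_))))⟩
    simp [h.hm, h.hw, h.ha, hd, NumTypeLib.chainUD, NumTypeLib.sym]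
    all_goals ring_nf
    all_goals simp
  case chainDU k hk' =>
    obtain rfl : k = 3 := hk
    refine ⟨σ 0, σ 1, σ 2, m, w, σ.injective.ne (by decide), σ.injective.ne (by decide),
      σ.injective.ne (by decide), hg0 _, hg0 _, hg0 _, Or.inr (Or.inr (Or.inr (Or.inr (Or.inr (?_)))))⟩
    simp [h.hm, h.hw, h.ha, hd, NumTypeLib.chainDU, NumTypeLib.sym]
    all_goals ring_nf
    all_goals simp

end Groth.Agent.S7363
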