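import Groth.Statements.S7372
import Mathlib
import Groth.Agent.CurveResLib.Induct
import Groth.Agent.CurveResLib.Seq
-- import your own Groth.Agent.* helpers here

set_option autoImplicit false
universe u
open CategoryTheory CategoryTheory.Limits AlgebraicGeometry
open Resolve

namespace Groth.Agent.S7372

/-- Let Y be an integral Noetherian scheme of dimension one. Then Y has a resolution of singularities (a
proper morphism X → Y from an integral scheme with regular local rings which is an isomorphism over
a nonempty open of Y) if and only if there is a finite sequence of blowings up in closed points Y_n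
→ Y_{n-1} → … → Y_1 → Y with Y_n regular (all local rings regular). -/
theorem result (Y : Scheme.{u}) [IsIntegral Y] [IsNoetherian Y]
    (hdim : topologicalKrullDim Y = 1) :
    (∃ (X : Scheme.{u}) (g : X ⟶ Y), IsProper g ∧ IsIntegral X ∧
        (∃ V : Y.Opens, (V : Set Y).Nonempty ∧ IsIso (g ∣_ V)) ∧ ∀ x : X, IsRegularLocalRing (X.presheaf.stalk x)) ↔
      ∃ (Y' : Scheme.{u}) (g : Y' ⟶ Y), Resolve.IsPtBlowupSeq g ∧ ∀ y : Y', IsRegularLocalRing (Y'.presheaf.stalk y) := by
  constructor
  · rintro ⟨X, g, hg, hi, ⟨V, hV, hVi⟩, hreg⟩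
    haveI := hg; haveI := hi; haveI := hVi
    haveI : IsFinite (g ∣_ V) := inferInstance
    haveI : IsDominant g := ⟨by
      rw [DenseRange, dense_iff_closure_eq]
      refine Set.eq_univ_of_univ_subset ?_
      rw [← (genericPoint_spec Y).def]
      exact closure_mono (Set.singleton_subset_iff.2 ⟨_, ModifLib.map_genericPoint g hV⟩)⟩
    haveI : IsFinite g := ModifLib.isFinite_of_alteration g hdim.le V hV
    obtain ⟨Z, π, -, -, -, hseq, hZ⟩ := CurveResLib.induct g V hV hdim.le hreg (fun {Z} π => Resolve.IsPtBlowupSeq π)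
      (Resolve.IsPtBlowupSeq.iso (Iso.refl Y)) (fun π p hp b hb _ hP => Resolve.IsPtBlowupSeq.step b π p hp hb hP)
    exact ⟨Z, π, hseq, hZ⟩
  · rintro ⟨Y', g, hg, hreg⟩
    obtain ⟨hi, hp, hbir⟩ := CurveResLib.seq_props g hg inferInstance inferInstance hdim
    exact ⟨Y', g, hp, hi, hbir, hreg⟩

end Groth.Agent.S7372
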