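import Groth.Statements.S7373
import Mathlib
import Groth.Agent.CurveResLib.Induct
import Groth.Agent.NormBlowLib.FinNorm
import Groth.Agent.S2351
import Groth.Agent.S9800
-- import your own Groth.Agent.* helpers here

set_option autoImplicit false
universe u
open CategoryTheory CategoryTheory.Limits AlgebraicGeometry
open Resolve

namespace Groth.Agent.S7373

/-- Let X be a Noetherian scheme and Y ⊂ X an integral closed subscheme of dimension one (given by its
ideal sheaf I) whose normalization morphism is finite. Then there is a finite sequence of blowings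
up in closed points g : X' → X such that the strict transform Y' of Y in X' is a regular curve: an
integral closed subscheme Y' ⊂ X' (ideal I') mapped by g into Y, isomorphically over a nonempty open
of Y, all of whose local rings are regular. (The quasi-compactness and quasi-separatedness binders
on Spec K(Y) → Y always hold.) -/
theorem result (X : Scheme.{u}) [IsNoetherian X] (I : X.IdealSheafData)
    [IsIntegral I.subscheme] (hdim : topologicalKrullDim ↥I.subscheme = 1)
    [QuasiCompact (I.subscheme.fromSpecStalk (genericPoint ↥I.subscheme))]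
    [QuasiSeparated (I.subscheme.fromSpecStalk (genericPoint ↥I.subscheme))]
    (hfin : IsFinite (Curv2.normalizationι I.subscheme)) :
    ∃ (X' : Scheme.{u}) (g : X' ⟶ X), Resolve.IsPtBlowupSeq g ∧
      ∃ (I' : X'.IdealSheafData) (g' : I'.subscheme ⟶ I.subscheme), IsIntegral I'.subscheme ∧
        g' ≫ I.subschemeι = I'.subschemeι ≫ g ∧
        (∃ V : I.subscheme.Opens, (V : Set ↥I.subscheme).Nonempty ∧ IsIso (g' ∣_ V)) ∧
        ∀ y : ↥I'.subscheme, IsRegularLocalRing (I'.subscheme.presheaf.stalk y) := by
  haveI := hfin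
  obtain ⟨hWint, hWn, -⟩ := Groth.Agent.S2351.result I.subscheme
  haveI := hWint
  haveI : IsNoetherian I.subscheme := {
    toIsLocallyNoetherian := LocallyOfFiniteType.isLocallyNoetherian I.subschemeι
    toCompactSpace := QuasiCompact.compactSpace_of_compactSpace I.subschemeι }
  obtain ⟨V, hV, hVi⟩ := NormBlowLib.exists_normalization_open I.subscheme
  haveI := hVi
  let ν := Curv2.normalizationι I.subscheme
  haveI : IsLocallyNoetherian (Curv2.normalization I.subscheme) := LocallyOfFiniteType.isLocallyNoetherian ν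
  have hdW : topologicalKrullDim (Curv2.normalization I.subscheme) ≤ 1 :=
    ModifLib.dim_source_le ν hV 1 fun y => (DimIneqLib.stalk_dim_le_dim y).trans hdim.le
  obtain ⟨Z, π, hZi, hπ, hπV, ⟨X', g, c, hseq, hc, hcg⟩, hreg⟩ := CurveResLib.induct ν V hV hdim.le
    (fun w => Groth.Agent.S9800.result _ hWn hdW w)
    (fun {Z} π => ∃ (X' : Scheme.{u}) (g : X' ⟶ X) (c : Z ⟶ X'), Resolve.IsPtBlowupSeq g ∧ IsClosedImmersion c ∧
      c ≫ g = π ≫ I.subschemeι)
    ⟨X, 𝟙 X, I.subschemeι, Resolve.IsPtBlowupSeq.iso (Iso.refl X), inferInstance, by simp⟩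
    (fun {Z Z₁} π p hp b hb _ hP => by
      obtain ⟨X', g, c, hseq, hc, hcg⟩ := hP
      haveI := hc
      have hx : IsClosed ({c p} : Set X') := by
        rw [← Set.image_singleton]
        exact c.isClosedEmbedding.isClosedMap _ hp
      obtain ⟨X₁, b', hb'⟩ := Groth.Agent.S8859.result X' (Scheme.IdealSheafData.vanishingIdeal ⟨{c p}, hx⟩)
      have hK := CurveResLib.comap_point c p hp hx
      obtain ⟨c₁, hc₁, -⟩ := hb'.2 Z₁ (b ≫ c) (by rw [Scheme.IdealSheafData.comap_comp, hK]; exact hb.1)
      refine ⟨X₁, b' ≫ g, c₁, Resolve.IsPtBlowupSeq.step b' g _ hx hb' hseq,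
        BlowUpLib.isClosedImmersion_map hb' c (hK.symm ▸ hb) c₁ hc₁, ?_⟩
      rw [← Category.assoc, hc₁, Category.assoc, hcg, Category.assoc])
  haveI := hc; haveI := hZi; haveI := hπV
  let e : Z ≅ c.ker.subscheme := asIso c.toImage
  have he : e.hom ≫ c.ker.subschemeι = c := c.toImage_imageι
  haveI : Nonempty c.ker.subscheme := ⟨e.hom (genericPoint Z)⟩
  refine ⟨X', g, hseq, c.ker, e.inv ≫ π, isIntegral_of_isOpenImmersion e.inv, ?_, ⟨V, hV, ?_⟩, fun y => ?_⟩
  · rw [Category.assoc, ← hcg, ← Category.assoc, show e.inv ≫ c = c.ker.subschemeι from (Iso.inv_comp_eq e).2 he.symm]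
  · rw [morphismRestrict_comp]
    exact IsIso.comp_isIso' (MorphismProperty.of_isPullback (P := MorphismProperty.isomorphisms Scheme.{u}) (isPullback_morphismRestrict e.inv (π ⁻¹ᵁ V)).flip (inferInstanceAs (IsIso e.inv))) hπV
  · haveI := hreg (e.inv y)
    exact IsRegularLocalRing.of_ringEquiv (asIso (e.inv.stalkMap y)).commRingCatIsoToRingEquiv

end Groth.Agent.S7373
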