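import Groth.Statements.S7374
import Mathlib
import Groth.Agent.CurveResLib.Family
import Groth.Agent.AlgSpRegLib.ImageReduced
-- import your own Groth.Agent.* helpers here

set_option autoImplicit false
universe u
open CategoryTheory CategoryTheory.Limits AlgebraicGeometry
open Resolve

namespace Groth.Agent.S7374

/-- Let X be a Noetherian scheme and Y_1, …, Y_n ⊂ X integral closed subschemes of dimension one (ideal
sheaves I_i), pairwise distinct, each with finite normalization morphism. Then there is a finite
sequence of blowings up in closed points g : X' → X such that the strict transforms Y'_i ⊂ X' —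
integral closed subschemes (ideals I'_i) mapped by g into Y_i, isomorphically over a nonempty open
of Y_i — are pairwise disjoint and have regular local rings. (The quasi-compactness and
quasi-separatedness binders always hold. The published statement does not say the Y_i are distinct;
for Y_1 = Y_2 the strict transforms coincide and cannot be disjoint, so distinctness is assumed
here, as the proof's use of the intersection multiplicities m_p(Y_i ∩ Y_j) requires.) -/
theorem result (X : Scheme.{u}) [IsNoetherian X] {n : ℕ}
    (I : Fin n → X.IdealSheafData) [∀ i, IsIntegral (I i).subscheme] (hdim : ∀ i, topologicalKrullDim ↥(I i).subscheme = 1)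
    [∀ i, QuasiCompact ((I i).subscheme.fromSpecStalk (genericPoint ↥(I i).subscheme))]
    [∀ i, QuasiSeparated ((I i).subscheme.fromSpecStalk (genericPoint ↥(I i).subscheme))]
    (hfin : ∀ i, IsFinite (Curv2.normalizationι (I i).subscheme)) (hdist : Function.Injective I) :
    ∃ (X' : Scheme.{u}) (g : X' ⟶ X), Resolve.IsPtBlowupSeq g ∧
      ∃ (I' : Fin n → X'.IdealSheafData) (g' : ∀ i, (I' i).subscheme ⟶ (I i).subscheme),
        (∀ i, IsIntegral (I' i).subscheme ∧ g' i ≫ (I i).subschemeι = (I' i).subschemeι ≫ g ∧
          (∃ V : (I i).subscheme.Opens, (V : Set ↥(I i).subscheme).Nonempty ∧ IsIso (g' i ∣_ V)) ∧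
          ∀ y : ↥(I' i).subscheme, IsRegularLocalRing ((I' i).subscheme.presheaf.stalk y)) ∧
        ∀ i j, i ≠ j → Disjoint ((I' i).support : Set X') ((I' j).support : Set X') := by
  haveI : ∀ i, IsFinite (Curv2.normalizationι (I i).subscheme) := hfin
  haveI hWint : ∀ i, IsIntegral (Curv2.normalization (I i).subscheme) := fun i =>
    (Groth.Agent.S2351.result (I i).subscheme).choose
  have hYn : ∀ i, IsNoetherian (I i).subscheme := fun i => {
    toIsLocallyNoetherian := LocallyOfFiniteType.isLocallyNoetherian (I i).subschemeι
    toCompactSpace := QuasiCompact.compactSpace_of_compactSpace (I i).subschemeι }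
  haveI := hYn
  choose V hV hVi using fun i => NormBlowLib.exists_normalization_open (I i).subscheme
  haveI := hVi
  have hreg : ∀ i (w : ↥(Curv2.normalization (I i).subscheme)),
      IsRegularLocalRing ((Curv2.normalization (I i).subscheme).presheaf.stalk w) := fun i w => by
    obtain ⟨_, hWn, -⟩ := Groth.Agent.S2351.result (I i).subscheme
    haveI : IsLocallyNoetherian (Curv2.normalization (I i).subscheme) :=
      LocallyOfFiniteType.isLocallyNoetherian (Curv2.normalizationι (I i).subscheme)
    exact Groth.Agent.S9800.result _ hWn (ModifLib.dim_source_le (Curv2.normalizationι (I i).subscheme) (hV i) 1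
      fun y => (DimIneqLib.stalk_dim_le_dim y).trans (hdim i).le) w
  have hgp : ∀ i, closure ({(I i).subschemeι (genericPoint ↥(I i).subscheme)} : Set X) = ((I i).support : Set X) := fun i => by
    rw [← Set.image_singleton, (I i).subschemeι.isClosedEmbedding.closure_image_eq, (genericPoint_spec _).def,
      Set.image_univ, Scheme.IdealSheafData.range_subschemeι]
  have hdist' : ∀ i j, i ≠ j → (I i).subschemeι (genericPoint ↥(I i).subscheme) ≠
      (I j).subschemeι (genericPoint ↥(I j).subscheme) := fun i j hij h => hij (hdist (by
    rw [AlgSpRegLib.eq_vanishingIdeal_support (I i), AlgSpRegLib.eq_vanishingIdeal_support (I j)]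
    congr 1
    exact SetLike.coe_injective ((hgp i).symm.trans ((congrArg (fun a => closure ({a} : Set X)) h).trans (hgp j)))))
  obtain ⟨X', g, F, hR, hdisj⟩ := CurveResLib.exists_disjoint (fun i => (I i).subschemeι)
    (fun i => Curv2.normalizationι (I i).subscheme) V hV hdim hreg hdist'
    { seq := Resolve.IsPtBlowupSeq.iso (Iso.refl X)
      noeth := inferInstance
      Z := fun i => (I i).subscheme
      π := fun i => 𝟙 _
      st := fun i => ⟨Curv2.normalizationι (I i).subscheme, Category.comp_id _, inferInstance, inferInstance, inferInstance⟩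
      c := fun i => (I i).subschemeι
      closed := fun i => inferInstance
      fac := fun i => by simp }
  haveI := F.closed
  let e : ∀ i, F.Z i ≅ (F.c i).ker.subscheme := fun i => asIso (F.c i).toImage
  have he : ∀ i, (e i).inv ≫ F.c i = (F.c i).ker.subschemeι := fun i =>
    (Iso.inv_comp_eq (e i)).2 (F.c i).toImage_imageι.symm
  refine ⟨X', g, F.seq, fun i => (F.c i).ker, fun i => (e i).inv ≫ F.π i, fun i => ?_, fun i j hij => ?_⟩
  · haveI := (F.st i).integral
    haveI : Nonempty (F.c i).ker.subscheme := ⟨(e i).hom (genericPoint (F.Z i))⟩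
    refine ⟨isIntegral_of_isOpenImmersion (e i).inv, ?_, ⟨V i, hV i, ?_⟩, fun y => ?_⟩
    · rw [Category.assoc, ← F.fac i, ← Category.assoc, he]
    · rw [morphismRestrict_comp]
      exact IsIso.comp_isIso' (MorphismProperty.of_isPullback (P := MorphismProperty.isomorphisms Scheme.{u})
        (isPullback_morphismRestrict (e i).inv (F.π i ⁻¹ᵁ V i)).flip (inferInstanceAs (IsIso (e i).inv))) (F.st i).iso
    · haveI := hR i ((e i).inv y)
      exact IsRegularLocalRing.of_ringEquiv (asIso ((e i).inv.stalkMap y)).commRingCatIsoToRingEquiv
  · rw [Scheme.Hom.support_ker, Scheme.Hom.support_ker, (F.c i).isClosedEmbedding.isClosed_range.closure_eq,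
      (F.c j).isClosedEmbedding.isClosed_range.closure_eq]
    exact hdisj i j hij

end Groth.Agent.S7374
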