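import Groth.Statements.S7376
import Mathlib
import Groth.Agent.RatModLib.Regularize
-- import your own Groth.Agent.* helpers here

set_option autoImplicit false
universe u
open CategoryTheory CategoryTheory.Limits AlgebraicGeometry
open Resolve

namespace Groth.Agent.S7376

/-- Let (A, m, κ) be a Noetherian local normal domain of dimension two and assume Spec A has a
resolution of singularities (a proper morphism X → Spec A from an integral scheme with regular local
rings which is an isomorphism over a nonempty open). Then Spec A has a resolution by normalized
blowups: there is a finite sequence of normalized blowings up in closed points X_n → X_{n-1} → … →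
X_1 → Spec A with X_n proper over Spec A and regular. (A is normal, so Spec A is its own
normalization and the sequence starts at Spec A itself; the published definition of such a
resolution asks every X_i to be proper over Spec A, and this row records properness of X_n → Spec
A.) -/
theorem result (A : Type u) [CommRing A] [IsDomain A] [IsLocalRing A]
    [IsNoetherianRing A] [IsIntegrallyClosed A] (hdim : ringKrullDim A = 2)
    (hres : ∃ (X : Scheme.{u}) (f : X ⟶ Spec (CommRingCat.of A)), IsProper f ∧ IsIntegral X ∧
      (∃ U : (Spec (CommRingCat.of A)).Opens, (U : Set (Spec (CommRingCat.of A))).Nonempty ∧ IsIso (f ∣_ U)) ∧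
      ∀ x : X, IsRegularLocalRing (X.presheaf.stalk x)) :
    ∃ (Xn : Scheme.{u}) (g : Xn ⟶ Spec (CommRingCat.of A)), Resolve.IsNormPtBlowupSeq g ∧ IsProper g ∧
      ∀ x : Xn, IsRegularLocalRing (Xn.presheaf.stalk x) := by
  obtain ⟨X, f, hf, hX, hU, hreg⟩ := hres
  haveI := hX
  haveI : IsNoetherian (Spec (CommRingCat.of A)) := inferInstance
  have hd : topologicalKrullDim (Spec (CommRingCat.of A)) ≤ 2 :=
    (PrimeSpectrum.topologicalKrullDim_eq_ringKrullDim A).le.trans hdim.le
  have hS : ¬ IsClosed ({genericPoint (Spec (CommRingCat.of A))} : Set (Spec (CommRingCat.of A))) := fun hc => by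
    have h := (genericPoint_specializes (IsLocalRing.closedPoint A : (Spec (CommRingCat.of A) : Scheme.{u}))).mem_closed hc rfl
    have hm : IsLocalRing.maximalIdeal A = ⊥ := by
      have := congrArg PrimeSpectrum.asIdeal (Set.mem_singleton_iff.1 h)
      rw [genericPoint_eq_bot_of_affine] at this
      exact this
    have := IsLocalRing.isField_iff_maximalIdeal_eq.2 hm
    rw [ringKrullDim_eq_zero_of_isField this] at hdim
    norm_num at hdim
  obtain ⟨Xn, g, hg, hgp, -, -, hreg'⟩ :=
    RatModLib.exists_regular_normalized (ParaFLib.isNormal_spec A) hd hS f ⟨hf, hU⟩ hreg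
  exact ⟨Xn, g, hg, hgp, hreg'⟩

end Groth.Agent.S7376
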