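import Groth.Statements.S7377
import Mathlib
import Groth.Agent.RatModLib.SeqBir
-- import your own Groth.Agent.* helpers here

set_option autoImplicit false
universe u
open CategoryTheory CategoryTheory.Limits AlgebraicGeometry
open Resolve

namespace Groth.Agent.S7377

/-- Let Y be a two-dimensional integral Noetherian scheme. Then Y has a resolution of singularities (a
proper morphism X → Y from an integral scheme with regular local rings which is an isomorphism over
a nonempty open) if and only if Y has a resolution of singularities by normalized blowups: a finite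
sequence of normalized blowings up in closed points X_n → … → X_1 → Y^ν, Y^ν → Y the normalization,
with X_n regular and the composite X_n → Y proper. (The published definition of such a resolution
asks every scheme of the sequence to be proper over Y; this row asks it of the composite X_n → Y,
which suffices for the equivalence. Some properness is needed: without it the right-hand side would
hold whenever Y^ν happens to be regular, even when Y^ν → Y is not finite and Y has no resolution.
The quasi-compactness and quasi-separatedness binders on Spec K(Y) → Y always hold.) -/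
theorem result (Y : Scheme.{u}) [IsIntegral Y] [IsNoetherian Y]
    (hdim : topologicalKrullDim Y = 2)
    [QuasiCompact (Y.fromSpecStalk (genericPoint Y))] [QuasiSeparated (Y.fromSpecStalk (genericPoint Y))] :
    (∃ (X : Scheme.{u}) (g : X ⟶ Y), IsProper g ∧ IsIntegral X ∧
        (∃ V : Y.Opens, (V : Set Y).Nonempty ∧ IsIso (g ∣_ V)) ∧ ∀ x : X, IsRegularLocalRing (X.presheaf.stalk x)) ↔
      ∃ (Xn : Scheme.{u}) (g : Xn ⟶ Curv2.normalization Y), Resolve.IsNormPtBlowupSeq g ∧
        IsProper (g ≫ Curv2.normalizationι Y) ∧ ∀ x : Xn, IsRegularLocalRing (Xn.presheaf.stalk x) := by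
  constructor
  · rintro ⟨X, f, hf, hX, hV, hreg⟩
    haveI := hX; haveI := hf
    obtain ⟨V, hV, hVi⟩ := hV
    haveI := hVi
    have hfin := NormBlowLib.finNorm_of_resolution hdim.le f hV hreg
    haveI : IsFinite (Curv2.normalizationι Y) := hfin Y (𝟙 Y) inferInstance ⟨V, hV, inferInstance⟩
    obtain ⟨U₁, hU₁, hi₁⟩ := NormBlowLib.exists_normalization_open Y
    haveI := hi₁
    haveI : IsLocallyNoetherian (Curv2.normalization Y) := LocallyOfFiniteType.isLocallyNoetherian (Curv2.normalizationι Y)
    haveI : CompactSpace (Curv2.normalization Y) := QuasiCompact.compactSpace_of_compactSpace (Curv2.normalizationι Y)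
    haveI : IsNoetherian (Curv2.normalization Y) := {}
    have hmν : RatModLib.Mod (Curv2.normalizationι Y) := ⟨inferInstance, U₁, hU₁, hi₁⟩
    obtain ⟨k, hk, -⟩ := Groth.Agent.S9690.result Y f (RatModLib.isNormal_of_regular hreg) fun z hz => by
      have hz' : z = genericPoint X := by
        have e : closure ({z} : Set X) = Set.univ := by
          rw [irreducibleComponents_eq_singleton] at hz; exact hz
        exact IsGenericPoint.eq e (genericPoint_spec _)
      rw [hz']
      exact ModifLib.map_genericPoint f hV
    haveI : IsProper k := by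
      haveI : IsProper (k ≫ Curv2.normalizationι Y) := hk.symm ▸ hf
      exact IsProper.of_comp k (Curv2.normalizationι Y)
    let D := V ⊓ U₁
    haveI : IsIso (Curv2.normalizationι Y ∣_ D) := ModifLib.isIso_restrict_of_le _ inf_le_right
    haveI : IsIso (f ∣_ D) := ModifLib.isIso_restrict_of_le f inf_le_left
    have hk2 : IsIso (k ∣_ Curv2.normalizationι Y ⁻¹ᵁ D) := by
      have : IsIso ((k ∣_ Curv2.normalizationι Y ⁻¹ᵁ D) ≫ (Curv2.normalizationι Y ∣_ D)) := by
        rw [← morphismRestrict_comp]
        have key : ∀ m, m = f → IsIso (m ∣_ D) := fun m hm => by subst hm; infer_instance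
        exact key _ hk
      exact IsIso.of_isIso_comp_right _ (Curv2.normalizationι Y ∣_ D)
    have hDne : (D : Set Y).Nonempty := ⟨genericPoint Y, ((genericPoint_spec Y).mem_open_set_iff V.2).2 (by simpa using hV),
      ((genericPoint_spec Y).mem_open_set_iff U₁.2).2 (by simpa using hU₁)⟩
    have hmk : RatModLib.Mod k := ⟨inferInstance, _, ⟨_, ModifLib.genericPoint_mem (Curv2.normalizationι Y) hDne⟩, hk2⟩
    have hS : ¬ IsClosed ({genericPoint (Curv2.normalization Y)} : Set (Curv2.normalization Y)) := fun hc => by
      have h := (Curv2.normalizationι Y).isClosedMap _ hc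
      rw [Set.image_singleton, hmν.map_generic] at h
      have h0 : topologicalKrullDim Y ≤ 0 := ModifLib.dim_le_zero_of_forall_eq fun a b _ =>
        ((genericPoint_specializes a).mem_closed h rfl).trans ((genericPoint_specializes b).mem_closed h rfl).symm
      rw [hdim] at h0
      exact absurd h0 (by norm_num)
    obtain ⟨Xn, g, hg, hgp, -, -, hreg'⟩ :=
      RatModLib.exists_regular_normalized (LocFFLib.normalization_isNormal Y) (hmν.dim_le hdim.le) hS k hmk hreg
    haveI := hgp
    exact ⟨Xn, g, hg, inferInstance, hreg'⟩
  · rintro ⟨Xn, g, hg, hgp, hreg⟩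
    obtain ⟨hXi, hb⟩ := RatModLib.bir_of_normPtBlowupSeq g hg
    haveI := hXi; haveI := hgp
    haveI : IsLocallyNoetherian Xn := LocallyOfFiniteType.isLocallyNoetherian (g ≫ Curv2.normalizationι Y)
    have hb' := RatModLib.bir_comp hb (LocFFLib.normalization_bir Y)
    obtain ⟨U, hU, hi⟩ := PurBirLib.exists_isIso_restrict (g ≫ Curv2.normalizationι Y) hb' (genericPoint _) hb'.2
    exact ⟨Xn, g ≫ Curv2.normalizationι Y, hgp, hXi, ⟨U, ⟨_, hU⟩, hi⟩, hreg⟩

end Groth.Agent.S7377
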