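import Groth.Statements.S7379
import Groth.Agent.NoethApproxLib.Closed
-- import your own Groth.Agent.* helpers here

set_option autoImplicit false
universe u
open CategoryTheory AlgebraicGeometry
open Lim

namespace Groth.Agent.S7379

/-- Let `ι : X → Y` be a closed immersion with `Y` quasi-compact and quasi-separated. Then, in the
category of schemes over `Y`, `X` is the limit of a nonempty directed inverse system whose objects
`X_i → Y` are closed immersions of finite presentation. -/
theorem result {X Y : Scheme.{u}} (ι : X ⟶ Y)
    [IsClosedImmersion ι] [CompactSpace Y] [QuasiSeparatedSpace Y] :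
    ∃ (I : Type u) (_ : Preorder I) (_ : IsDirected I (fun a b => a ≤ b)) (_ : Nonempty I)
      (D : Iᵒᵖ ⥤ Over Y) (c : Limits.Cone D) (_ : Limits.IsLimit c),
      (∀ i, IsClosedImmersion (D.obj i).hom ∧ LocallyOfFinitePresentation (D.obj i).hom) ∧
      Nonempty (c.pt ≅ Over.mk ι) := by
  obtain ⟨B⟩ := NoethApproxLib.exists_approx Y
  exact ⟨B.J, inferInstance, inferInstance, inferInstance, NoethApproxLib.closedDiag B ι,
    NoethApproxLib.closedCone B ι, (NoethApproxLib.nonempty_isLimit_closedCone B ι).some,
    fun i ↦ ⟨NoethApproxLib.isClosedImmersion_closedι B ι i.unop, NoethApproxLib.lfp_closedι B ι i.unop⟩,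
    ⟨Iso.refl _⟩⟩

end Groth.Agent.S7379
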