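import Groth.Statements.S7380
import Groth.Agent.NoethApproxLib.Systems
-- import your own Groth.Agent.* helpers here

set_option autoImplicit false
universe u
open CategoryTheory AlgebraicGeometry
open Lim

namespace Groth.Agent.S7380

/-- Let `f : X → S` be locally of finite type with `X` quasi-compact and quasi-separated and `S`
quasi-separated. Then, in the category of schemes over `S`, `X` is the limit of a nonempty directed
inverse system of schemes `X_i → S` of finite presentation (locally of finite presentation,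
quasi-compact and quasi-separated), each `X_i` being a quasi-compact and quasi-separated scheme,
whose transition morphisms are closed immersions. -/
theorem result {X S : Scheme.{u}}
    (f : X ⟶ S) [LocallyOfFiniteType f] [CompactSpace X] [QuasiSeparatedSpace X] [QuasiSeparatedSpace S] :
    ∃ (I : Type u) (_ : Preorder I) (_ : IsDirected I (fun a b => a ≤ b)) (_ : Nonempty I)
      (D : Iᵒᵖ ⥤ Over S) (c : Limits.Cone D) (_ : Limits.IsLimit c),
      (∀ i, LocallyOfFinitePresentation (D.obj i).hom ∧ QuasiCompact (D.obj i).hom ∧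
        QuasiSeparated (D.obj i).hom ∧ CompactSpace (D.obj i).left ∧ QuasiSeparatedSpace (D.obj i).left) ∧
      (∀ (i j : Iᵒᵖ) (a : i ⟶ j), IsClosedImmersion (D.map a).left) ∧
      Nonempty (c.pt ≅ Over.mk f) := by
  obtain ⟨P, i₁, h⟩ := NoethApproxLib.exists_isClosedImmersion_model f
  haveI := h i₁ (𝟙 i₁)
  obtain ⟨Q, hQ, -, -⟩ := NoethApproxLib.exists_closed_system (P.D.obj i₁).hom (P.proj i₁)
  let e : Over.mk (P.proj i₁ ≫ (P.D.obj i₁).hom) ≅ Over.mk f :=
    Over.isoMk (Iso.refl X) ((Category.id_comp _).trans (P.proj_hom i₁).symm)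
  exact ⟨Q.J, Q.preorder, Q.directed, Q.nonempty, Q.D, Limits.Cone.mk _ Q.π, Q.isLimit,
    fun i ↦ ⟨Q.lfp i, Q.qc i, Q.qs i, Q.compactSpace i, Q.quasiSeparatedSpace i⟩,
    fun _ _ a ↦ hQ a, ⟨e⟩⟩

end Groth.Agent.S7380
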