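import Groth.Statements.S7385
import Mathlib
import Groth.Agent.FFDescLib.Closure
-- import your own Groth.Agent.* helpers here

set_option autoImplicit false
universe u
open CategoryTheory AlgebraicGeometry
open Mor

namespace Groth.Agent.S7385

/-- Let `X` be a quasi-separated scheme and `η_1, …, η_n` pairwise distinct points, each the generic
point of an irreducible component of `X`. Then there are affine open neighbourhoods `U_i ∋ η_i`
which are pairwise disjoint, and their union is an affine open containing all the `η_i`. -/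
theorem result (X : Scheme.{u}) [QuasiSeparatedSpace X] {n : ℕ}
    (η : Fin n → X) (hη : ∀ i, closure ({η i} : Set X) ∈ irreducibleComponents (X : Type u))
    (hinj : Function.Injective η) :
    ∃ U : Fin n → X.Opens, (∀ i, IsAffineOpen (U i) ∧ η i ∈ U i) ∧
      (∀ i j, i ≠ j → Disjoint (U i) (U j)) ∧ IsAffineOpen (⨆ i, U i) := by
  classical
  have hmin : ∀ i y, y ⤳ η i → y = η i := by
    intro i y hy
    have h1 : closure {η i} ⊆ closure ({y} : Set X) :=
      closure_minimal (Set.singleton_subset_iff.2 (specializes_iff_mem_closure.1 hy)) isClosed_closure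
    have h2 : η i ⤳ y := specializes_iff_mem_closure.2
      ((hη i).2 isIrreducible_singleton.closure h1 (subset_closure rfl))
    exact (hy.antisymm h2).eq
  have hK : ∀ i, ∃ K : X.Opens, IsAffineOpen K ∧ η i ∈ K ∧ ∀ j, j ≠ i → η j ∉ K := by
    intro i
    let C : Set X := ⋃ j : {j : Fin n // j ≠ i}, closure {η j.1}
    have hCc : IsClosed C := isClosed_iUnion_of_finite fun _ => isClosed_closure
    have hi : η i ∉ C := fun hc => by
      obtain ⟨j, hj⟩ := Set.mem_iUnion.1 hc
      exact j.2 (hinj (hmin i _ (specializes_iff_mem_closure.2 hj)))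
    obtain ⟨K, hK, hxK, hle⟩ := exists_isAffineOpen_mem_and_subset (U := (⟨Cᶜ, hCc.isOpen_compl⟩ : X.Opens))
      (x := η i) hi
    exact ⟨K, hK, hxK, fun j hj hjK => hle hjK (Set.mem_iUnion.2 ⟨⟨j, hj⟩, subset_closure rfl⟩)⟩
  choose K hKa hKi hKj using hK
  have hncl : ∀ i j, i ≠ j → η j ∉ closure (K i : Set X) := by
    intro i j hij hc
    have : CompactSpace (K i).toScheme := isCompact_iff_compactSpace.1 (hKa i).isCompact
    have : QuasiCompact (K i).ι := inferInstance
    rw [← Scheme.Opens.range_ι (K i)] at hc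
    obtain ⟨z, hz⟩ := FFDescLib.exists_specializes_of_mem_closure_range (K i).ι hc
    have h1 := hmin j _ hz
    exact hKj i j hij.symm (h1 ▸ z.2)
  have hU : ∀ j, ∃ U : X.Opens, IsAffineOpen U ∧ η j ∈ U ∧ (U : Set X) ⊆ K j ∧
      ∀ i, i ≠ j → Disjoint (U : Set X) (K i : Set X) := by
    intro j
    let C : Set X := ⋃ i : {i : Fin n // i ≠ j}, closure (K i.1 : Set X)
    have hCc : IsClosed C := isClosed_iUnion_of_finite fun _ => isClosed_closure
    have hj : η j ∈ (K j : Set X) ∩ Cᶜ := ⟨hKi j, fun hc => by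
      obtain ⟨i, hi⟩ := Set.mem_iUnion.1 hc
      exact hncl i.1 j i.2 hi⟩
    obtain ⟨U, hU, hxU, hle⟩ := exists_isAffineOpen_mem_and_subset
      (U := (⟨(K j : Set X) ∩ Cᶜ, (K j).2.inter hCc.isOpen_compl⟩ : X.Opens)) (x := η j) hj
    refine ⟨U, hU, hxU, fun z hz => (hle hz).1, fun i hi => Set.disjoint_left.2 fun z hz hzK => ?_⟩
    exact (hle hz).2 (Set.mem_iUnion.2 ⟨⟨i, hi⟩, subset_closure hzK⟩)
  choose U hUa hUi hUK hUd using hU
  have hd : ∀ i j, i ≠ j → Disjoint (U i) (U j) := fun i j hij => by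
    rw [← TopologicalSpace.Opens.coe_disjoint]
    exact (hUd i j hij.symm).mono_right (hUK j)
  exact ⟨U, fun i => ⟨hUa i, hUi i⟩, hd, IsAffineOpen.iSup_of_disjoint hUa hd⟩

end Groth.Agent.S7385
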