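import Groth.Statements.S7387
import Mathlib
-- import your own Groth.Agent.* helpers here

set_option autoImplicit false
universe u
open CategoryTheory AlgebraicGeometry
open Mor

namespace Groth.Agent.S7387

/-- A quasi-compact scheme has a dense open subscheme which is separated. -/
theorem result (X : Scheme.{u}) [CompactSpace X] :
    ∃ V : X.Opens, Dense (V : Set X) ∧ (V : Scheme.{u}).IsSeparated := by
  classical
  haveI : Finite X.affineCover.finiteSubcover.I₀ := inferInstance
  obtain ⟨n, ⟨e⟩⟩ := Finite.exists_equiv_fin X.affineCover.finiteSubcover.I₀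
  let 𝒰 := X.affineCover.finiteSubcover
  let U : ULift.{u} (Fin n) → X.Opens := fun i => (𝒰.f (e.symm i.down)).opensRange
  have hU : ∀ i, IsAffineOpen (U i) := fun i => isAffineOpen_opensRange _
  let W : ULift.{u} (Fin n) → X.Opens := fun i =>
    ⟨(U i : Set X) \ closure (⋃ j ∈ {j | j.down < i.down}, (U j : Set X)), (U i).2.sdiff isClosed_closure⟩
  have hdisj : ∀ i j, i.down < j.down → Disjoint (W i : Set X) (W j) := fun i j hij =>
    Set.disjoint_left.2 fun x hxi hxj => hxj.2 (subset_closure (Set.mem_iUnion₂.2 ⟨i, hij, hxi.1⟩))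
  have hinj : ∀ i j, i ≠ j → Disjoint (Set.range (W i).ι) (Set.range (W j).ι) := fun i j hij => by
    rw [Scheme.Opens.range_ι, Scheme.Opens.range_ι]
    rcases lt_or_gt_of_ne (fun h => hij (ULift.down_injective h)) with h | h
    · exact hdisj i j h
    · exact (hdisj j i h).symm
  let V : X.Opens := ⨆ i, W i
  have hdense : Dense (V : Set X) := by
    have key : ∀ i, (U i : Set X) ⊆ closure (V : Set X) := by
      suffices h : ∀ m : ℕ, ∀ i : ULift.{u} (Fin n), i.down.1 = m → (U i : Set X) ⊆ closure (V : Set X) from fun i => h i.down.1 i rfl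
      intro m
      induction m using Nat.strong_induction_on with
      | _ m ih =>
        intro i him x hx
        by_cases hc : x ∈ closure (⋃ j ∈ {j | j.down < i.down}, (U j : Set X))
        · refine closure_minimal (Set.iUnion₂_subset fun j hj => ?_) isClosed_closure hc
          exact ih j.down.1 (him ▸ hj) j rfl
        · refine subset_closure ?_
          show x ∈ (⨆ i, W i : X.Opens)
          exact TopologicalSpace.Opens.mem_iSup.2 ⟨i, hx, hc⟩
    intro x
    obtain ⟨k, y, hy⟩ := 𝒰.exists_eq x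
    refine key ⟨e k⟩ ?_
    show x ∈ Set.range (𝒰.f (e.symm (e k)))
    rw [Equiv.symm_apply_apply]
    exact ⟨y, hy⟩
  refine ⟨V, hdense, ?_⟩
  let d := Limits.Sigma.desc fun i => (W i).ι
  haveI : IsOpenImmersion d := isOpenImmersion_sigmaDesc _ _ (fun i j hij => hinj i j hij)
  let ψ : ∀ i, (W i : Scheme.{u}) ⟶ (U i : Scheme.{u}) := fun i => X.homOfLE (fun x hx => hx.1)
  haveI : ∀ i, IsAffine (U i : Scheme.{u}) := hU
  haveI : IsOpenImmersion (Limits.Sigma.map ψ) := by
    have : Limits.Sigma.map ψ = Limits.Sigma.desc (fun i => ψ i ≫ Limits.Sigma.ι (fun i => (U i : Scheme.{u})) i) :=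
      Limits.Sigma.hom_ext _ _ fun i => by simp
    rw [this]
    refine isOpenImmersion_sigmaDesc _ _ (fun i j hij => Set.disjoint_left.2 ?_)
    rintro z ⟨a, rfl⟩ ⟨b, hb⟩
    rw [Scheme.Hom.comp_apply, Scheme.Hom.comp_apply] at hb
    have hb' : sigmaMk (fun i => (U i : Scheme.{u})) ⟨j, ψ j b⟩ = sigmaMk (fun i => (U i : Scheme.{u})) ⟨i, ψ i a⟩ := by
      rw [sigmaMk_mk, sigmaMk_mk]; exact hb
    exact hij (congrArg Sigma.fst ((sigmaMk _).injective hb')).symm
  have hS : (∐ fun i => (W i : Scheme.{u})).IsSeparated := by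
    haveI : (∐ fun i => (U i : Scheme.{u})).IsSeparated := inferInstance
    exact ⟨by
      rw [Limits.terminal.comp_from (Limits.Sigma.map ψ) |>.symm]
      infer_instance⟩
  have hr : d.opensRange = V := by
    ext1
    show Set.range d = _
    refine subset_antisymm ?_ (fun x hx => ?_)
    · rintro _ ⟨z, rfl⟩
      obtain ⟨⟨i, w⟩, rfl⟩ := (sigmaMk (fun i => (W i : Scheme.{u}))).surjective z
      rw [sigmaMk_mk, ← Scheme.Hom.comp_apply, Limits.Sigma.ι_desc]
      exact TopologicalSpace.Opens.mem_iSup.2 ⟨i, w.2⟩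
    · obtain ⟨i, hi⟩ := TopologicalSpace.Opens.mem_iSup.1 hx
      refine ⟨Limits.Sigma.ι (fun i => (W i : Scheme.{u})) i ⟨x, hi⟩, ?_⟩
      rw [← Scheme.Hom.comp_apply, Limits.Sigma.ι_desc]
      rfl
  haveI := hS
  let φ : (V : Scheme.{u}) ≅ ∐ fun i => (W i : Scheme.{u}) := (X.isoOfEq hr).symm ≪≫ d.isoOpensRange.symm
  exact ⟨by rw [Limits.terminal.comp_from φ.hom |>.symm]; infer_instance⟩

end Groth.Agent.S7387
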