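import Groth.Statements.S7388
import Mathlib
import Groth.Agent.ProjSectLib.Avoid
import Groth.Agent.MiscFlat6.FinCond
-- import your own Groth.Agent.* helpers here

set_option autoImplicit false
universe u
open CategoryTheory AlgebraicGeometry
open Mor

namespace Groth.Agent.S7388

/-- Let `X` be a scheme admitting an immersion into `Proj S` for some graded ring `S`. Then any finite
set of points of `X` is contained in an affine open of `X`. -/
theorem result {R A : Type u} [CommRing R] [CommRing A] [Algebra R A]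
    (𝒜 : ℕ → Submodule R A) [GradedAlgebra 𝒜] {X : Scheme.{u}} (ι : X ⟶ Proj 𝒜) [IsImmersion ι]
    (E : Set X) (hE : E.Finite) :
    ∃ U : X.Opens, IsAffineOpen U ∧ E ⊆ U := by
  classical
  let T : Finset (Proj 𝒜 : Scheme.{u}) := hE.toFinset.image ι
  let S : Finset (ProjectiveSpectrum 𝒜) := T
  obtain ⟨h, d, hd, hh, -, hav⟩ := ProjSectLib.exists_avoid 𝒜 (HomogeneousIdeal.irrelevant 𝒜).toIdeal
    (HomogeneousIdeal.irrelevant 𝒜).2 S fun q _ => q.not_irrelevant_le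
  let D : (Proj 𝒜 : Scheme.{u}).Opens := Proj.basicOpen 𝒜 h
  haveI : IsAffine D := Proj.isAffineOpen_basicOpen 𝒜 h hh hd
  have hmem : ∀ x ∈ E, ι x ∈ D := fun x hx =>
    hav (ι x) (Finset.mem_image.2 ⟨x, hE.mem_toFinset.2 hx, rfl⟩)
  obtain ⟨U, hU, hsub⟩ := MiscFlat6.exists_affineOpen_of_finite (ι ∣_ D) ((ι ⁻¹ᵁ D).ι ⁻¹' E)
    (hE.preimage (ι ⁻¹ᵁ D).ι.isOpenEmbedding.injective.injOn)
  exact ⟨(ι ⁻¹ᵁ D).ι ''ᵁ U, hU.image_of_isOpenImmersion _, fun x hx => ⟨⟨x, hmem x hx⟩, hsub hx, rfl⟩⟩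

end Groth.Agent.S7388
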