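import Groth.Statements.S7390
import Mathlib
import Groth.Agent.S2350
import Groth.Agent.S4363
-- import your own Groth.Agent.* helpers here

set_option autoImplicit false
universe u
open CategoryTheory AlgebraicGeometry
open Mor

namespace Groth.Agent.S7390

/-- Let `X` be a scheme such that every point lies in some affine open `X_s`, the locus where a global
section `s` generates an invertible `O_X`-module `L` (both depending on the point). Then the
diagonal of `X` is an affine morphism. -/
theorem result (X : Scheme.{u})
    (h : ∀ x : X, ∃ (L : X.Modules) (s : Coh.structureModule X ⟶ L), PicF.IsInvertible L ∧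
      x ∈ CohB1.genLocus L s ∧ IsAffineOpen (CohB1.genLocus L s)) :
    IsAffineHom (Limits.pullback.diagonal (Limits.terminal.from X)) := by
  choose L s hL hx hA using h
  let U : X → X.Opens := fun x => CohB1.genLocus (L x) (s x)
  have hcov : ⨆ x, U x = ⊤ := top_le_iff.1 fun x _ => TopologicalSpace.Opens.mem_iSup.2 ⟨x, hx x⟩
  let 𝒰 : Scheme.OpenCover.{u} X := X.openCoverOfIsOpenCover U (TopologicalSpace.IsOpenCover.mk hcov)
  let f := Limits.terminal.from X
  refine (IsZariskiLocalAtTarget.iff_of_openCover (P := @IsAffineHom)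
    (Scheme.Pullback.openCoverOfLeftRight 𝒰 𝒰 f f)).2 fun ij => ?_
  have hg : IsAffineHom (Groth.Agent.S4363.gr f (U ij.1) (U ij.2)) := by
    haveI : IsAffine (U ij.1).toScheme := hA ij.1
    haveI : IsAffine (U ij.2).toScheme := hA ij.2
    haveI := Groth.Agent.S2350.result X _ (hL ij.1) (s ij.1)
    have hi : IsAffineOpen (U ij.1 ⊓ U ij.2) := by
      have h' := (hA ij.2).preimage (U ij.1).ι
      rw [← Scheme.Hom.isAffineOpen_iff_of_isOpenImmersion (U ij.1).ι,
        Scheme.Hom.image_preimage_eq_opensRange_inf, Scheme.Opens.opensRange_ι] at h'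
      exact h'
    haveI : IsAffine (U ij.1 ⊓ U ij.2).toScheme := hi
    infer_instance
  refine (MorphismProperty.arrow_mk_iso_iff @IsAffineHom
    (Arrow.isoMk (Groth.Agent.S4363.isPullback_gr f (U ij.1) (U ij.2)).isoPullback (Iso.refl _) ?_)).1 hg
  rw [Iso.refl_hom, Category.comp_id]
  exact IsPullback.isoPullback_hom_snd _

end Groth.Agent.S7390
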