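import Groth.Statements.S7391
import Groth.Agent.FlatnLib.Basic
import Groth.Agent.ProjLib.Descent
import Groth.Agent.J2Lib.Descent

-- import your own Groth.Agent.* helpers here

set_option autoImplicit false
universe u
open CategoryTheory AlgebraicGeometry
open Opposite
open Mor

namespace Groth.Agent.S7391

open TensorProduct
variable {X : Scheme.{u}} (F : X.Modules) [Coh.IsQCoh F] {U : X.Opens}

omit [Coh.IsQCoh F] in
theorem projective_of_faithfullyFlat_pi {R : Type u} [CommRing R] {ι : Type u} [Fintype ι] [DecidableEq ι]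
    (B : ι → Type u) [∀ i, CommRing (B i)] [∀ i, Algebra R (B i)] [∀ i, Module.Flat R (B i)]
    (hcov : ∀ p : PrimeSpectrum R, ∃ i, p ∈ Set.range (PrimeSpectrum.comap (algebraMap R (B i))))
    (M : Type u) [AddCommGroup M] [Module R M] (h : ∀ i, Module.Projective (B i) (B i ⊗[R] M)) :
    Module.Projective R M := by
  let S := ∀ i, B i
  haveI : Module.Flat R S := Module.Flat.of_linearEquiv (DirectSum.linearEquivFunOnFintype R ι B).symm
  haveI : Module.FaithfullyFlat R S := Module.FaithfullyFlat.of_comap_surjective fun p => by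
    obtain ⟨i, q, hq⟩ := hcov p
    refine ⟨PrimeSpectrum.comap (Pi.evalRingHom B i) q, hq ▸ ?_⟩
    rw [← PrimeSpectrum.comap_comp_apply]
    rfl
  letI : ∀ i, Algebra S (B i) := fun i => (Pi.evalRingHom B i).toAlgebra
  haveI : ∀ i, IsScalarTower R S (B i) := fun i => IsScalarTower.of_algebraMap_eq fun _ => rfl
  haveI : ∀ i, Module.Projective S (B i) := fun i =>
    Module.Projective.of_split (M := S)
      { toFun := fun b => Pi.single i b
        map_add' := fun a b => Pi.single_add i a b
        map_smul' := fun s b => funext fun j => by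
          show Pi.single i (s i * b) j = s j * Pi.single i b j
          rcases eq_or_ne j i with rfl | hj
          · simp
          · simp [hj] }
      { toFun := fun s => s i
        map_add' := fun _ _ => rfl
        map_smul' := fun s t => rfl }
      (LinearMap.ext fun b => Pi.single_eq_same i b)
  haveI : ∀ i, Module.Projective S (B i ⊗[R] M) := fun i => by
    haveI := h i
    exact J2Lib.projective_trans S (B i) _
  haveI : Module.Projective S (∀ i, B i ⊗[R] M) :=
    Module.Projective.of_equiv' (DirectSum.linearEquivFunOnFintype S ι fun i => B i ⊗[R] M)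
  let e := TensorProduct.piLeft R M B
  have he : ∀ (s : S) (x : S ⊗[R] M), e (s • x) = s • e x := fun s x => by
    induction x using TensorProduct.induction_on with
    | zero => simp
    | tmul a m =>
      funext i
      show e ((s * a) ⊗ₜ[R] m) i = s i • e (a ⊗ₜ[R] m) i
      simp [e, TensorProduct.smul_tmul']
      rfl
    | add a b ha hb => rw [smul_add, map_add, map_add, ha, hb, smul_add]
  let e' : (S ⊗[R] M) ≃ₗ[S] (∀ i, B i ⊗[R] M) := { e with map_smul' := he }
  haveI : Module.Projective S (S ⊗[R] M) := Module.Projective.of_equiv' e'.symm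
  exact ProjLib.projective_of_faithfullyFlat R M S

/-- Projectivity of sections on an open. -/
def P (V : X.Opens) : Prop :=
  Module.Projective Γ(X, V) Γ(F, V)

theorem exists_equiv (hU : IsAffineOpen U) (g : Γ(X, U)) :
    letI := (X.presheaf.map (homOfLE (X.basicOpen_le g)).op).hom.toAlgebra
    Nonempty ((Γ(X, X.basicOpen g) ⊗[Γ(X, U)] Γ(F, U)) ≃ₗ[Γ(X, X.basicOpen g)] Γ(F, X.basicOpen g)) := by
  let ρr : Γ(X, U) →+* Γ(X, X.basicOpen g) := (X.presheaf.map (homOfLE (X.basicOpen_le g)).op).hom
  letI := ρr.toAlgebra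
  letI := Module.compHom Γ(F, X.basicOpen g) ρr
  haveI := hU.isLocalization_basicOpen g
  haveI : IsScalarTower Γ(X, U) Γ(X, X.basicOpen g) Γ(F, X.basicOpen g) :=
    IsScalarTower.of_algebraMap_smul fun _ _ => rfl
  let ρ : Γ(F, U) →ₗ[Γ(X, U)] Γ(F, X.basicOpen g) :=
    { toFun := F.presheaf.map (homOfLE (X.basicOpen_le g)).op
      map_add' := map_add _
      map_smul' := fun r m => Scheme.Modules.map_smul F _ r m }
  have := FlatnLib.isLocalizedModule_res F hU g (fun _ _ => rfl) ρ (fun _ => rfl)
  exact ⟨(IsLocalizedModule.isBaseChange (Submonoid.powers g) Γ(X, X.basicOpen g) ρ).equiv⟩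

theorem P_basicOpen (hU : IsAffineOpen U) (g : Γ(X, U)) (h : P F U) : P F (X.basicOpen g) := by
  haveI : Module.Projective Γ(X, U) Γ(F, U) := h
  letI := (X.presheaf.map (homOfLE (X.basicOpen_le g)).op).hom.toAlgebra
  obtain ⟨e⟩ := exists_equiv F hU g
  exact Module.Projective.of_equiv' e

theorem P_of_cover (hU : IsAffineOpen U) (t : Finset Γ(X, U)) (ht : Ideal.span (t : Set Γ(X, U)) = ⊤)
    (h : ∀ g ∈ t, P F (X.basicOpen g)) : P F U := by
  classical
  letI : ∀ g : t, Algebra Γ(X, U) Γ(X, X.basicOpen (g : Γ(X, U))) := fun g =>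
    (X.presheaf.map (homOfLE (X.basicOpen_le (g : Γ(X, U)))).op).hom.toAlgebra
  haveI hloc : ∀ g : t, IsLocalization.Away (g : Γ(X, U)) Γ(X, X.basicOpen (g : Γ(X, U))) := fun g =>
    hU.isLocalization_basicOpen g.1
  haveI : ∀ g : t, Module.Flat Γ(X, U) Γ(X, X.basicOpen (g : Γ(X, U))) := fun g =>
    IsLocalization.flat _ (Submonoid.powers (g : Γ(X, U)))
  refine projective_of_faithfullyFlat_pi (fun g : t => Γ(X, X.basicOpen (g : Γ(X, U)))) (fun p => ?_) Γ(F, U)
    fun g => ?_
  · obtain ⟨g, hg, hgp⟩ : ∃ g ∈ t, g ∉ p.asIdeal := by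
      by_contra! hc
      exact p.2.ne_top (top_le_iff.1 (ht ▸ Ideal.span_le.2 hc))
    refine ⟨⟨g, hg⟩, ?_⟩
    haveI := hloc ⟨g, hg⟩
    rw [PrimeSpectrum.localization_away_comap_range _ g]
    exact hgp
  · haveI : Module.Projective Γ(X, X.basicOpen (g : Γ(X, U))) Γ(F, X.basicOpen (g : Γ(X, U))) := h g.1 g.2
    obtain ⟨e⟩ := exists_equiv F hU g.1
    exact Module.Projective.of_equiv' e.symm


/-- Let `F` be a quasi-coherent `O_X`-module on a scheme `X`. Then `F(U)` is a projective
`O_X(U)`-module for every affine open `U` (that is, `F` is locally projective) if and only if `X`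
has a covering by affine opens `U_i` with `F(U_i)` projective over `O_X(U_i)`. -/
theorem result (X : Scheme.{u}) (F : X.Modules) [Coh.IsQCoh F] :
    (∀ U : X.Opens, IsAffineOpen U → Module.Projective (X.ringCatSheaf.obj.obj (op U)) (F.val.obj (op U))) ↔
      ∃ (I : Type u) (U : I → X.Opens), (⨆ i, U i) = ⊤ ∧ ∀ i, IsAffineOpen (U i) ∧
        Module.Projective (X.ringCatSheaf.obj.obj (op (U i))) (F.val.obj (op (U i))) := by
  constructor
  · intro h
    exact ⟨X.affineOpens, fun U => U.1, iSup_affineOpens_eq_top X, fun U => ⟨U.2, h U.1 U.2⟩⟩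
  · rintro ⟨I, V, hV, hp⟩ U hU
    let s : Set Γ(X, U) := {g | P F (X.basicOpen g)}
    have hs : Ideal.span s = ⊤ := by
      rw [← hU.iSup_basicOpen_eq_self_iff]
      refine le_antisymm (iSup_le fun i => X.basicOpen_le i.1) fun x hx => ?_
      obtain ⟨i, hi⟩ := TopologicalSpace.Opens.mem_iSup.mp
        (show x ∈ ⨆ i, V i by rw [hV]; trivial)
      obtain ⟨g, b, hgb, hxg⟩ := exists_basicOpen_le_affine_inter hU (hp i).1 x ⟨hx, hi⟩
      refine TopologicalSpace.Opens.mem_iSup.mpr ⟨⟨g, ?_⟩, hxg⟩
      show P F (X.basicOpen g)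
      rw [hgb]
      exact P_basicOpen F (hp i).1 b (hp i).2
    obtain ⟨t, hts, ht⟩ := (Ideal.span_eq_top_iff_finite s).mp hs
    exact P_of_cover F hU t ht fun g hg => hts hg


end Groth.Agent.S7391
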