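import Groth.Statements.S7394
import Mathlib

set_option autoImplicit false
universe u
open CategoryTheory AlgebraicGeometry
open Lim

namespace Groth.Agent.S7394

theorem fromSpec_congr {S : Scheme.{u}} {a b : S} (h : a = b) :
    Spec.map (S.residueFieldCongr h).hom ≫ S.fromSpecResidueField a = S.fromSpecResidueField b := by
  subst h
  simp

/-- A common extension of a family of field extensions. -/
theorem exists_common (k : Type u) [Field k] {I : Type u} (L : I → Type u) [∀ i, Field (L i)]
    [∀ i, Algebra k (L i)] :
    ∃ (K : Type u) (_ : Field K) (_ : Algebra k K), ∀ i, Nonempty (L i →ₐ[k] K) := by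
  let J := Σ i, L i
  let K := AlgebraicClosure (FractionRing (MvPolynomial J k))
  refine ⟨K, inferInstance, inferInstance, fun i => ?_⟩
  obtain ⟨s, hs⟩ := exists_isTranscendenceBasis k (L i)
  let R := Algebra.adjoin k (Set.range ((↑) : s → L i))
  let e : R →ₐ[k] K := (IsScalarTower.toAlgHom k (MvPolynomial J k) K).comp
    ((MvPolynomial.rename fun b : s => (⟨i, b⟩ : J)).comp hs.1.aevalEquiv.symm.toAlgHom)
  have he : Function.Injective e :=
    ((FaithfulSMul.algebraMap_injective (FractionRing (MvPolynomial J k)) K).comp
      (IsFractionRing.injective (MvPolynomial J k) (FractionRing (MvPolynomial J k))) |>.comp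
        ((MvPolynomial.rename_injective _ fun a b h => Subtype.ext (eq_of_heq (Sigma.mk.inj_iff.1 h).2)).comp
          hs.1.aevalEquiv.symm.injective) :)
  letI : Algebra R K := e.toRingHom.toAlgebra
  haveI : IsScalarTower k R K := IsScalarTower.of_algebraMap_eq fun x => (e.commutes x).symm
  haveI : FaithfulSMul R K := (faithfulSMul_iff_algebraMap_injective R K).2 he
  haveI : Algebra.IsAlgebraic R (L i) := hs.isAlgebraic
  exact ⟨(IsAlgClosed.lift : L i →ₐ[R] K).restrictScalars k⟩


/-- Let `S` be a scheme and `T_i → S`, `i ∈ I`, surjective affine morphisms. Then any product of the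
`T_i` in the category of schemes over `S` maps surjectively onto `S`. -/
theorem result {S : Scheme.{u}} {I : Type u} (T : I → Over S)
    (hT : ∀ i, IsAffineHom (T i).hom ∧ Surjective (T i).hom) (c : Limits.Fan T) (hc : Limits.IsLimit c) :
    Surjective c.pt.hom := by
  refine ⟨fun s => ?_⟩
  choose t ht using fun i => (hT i).2.surj s
  let emb : ∀ i, S.residueField s ⟶ (T i).left.residueField (t i) := fun i =>
    (S.residueFieldCongr (ht i)).inv ≫ (T i).hom.residueFieldMap (t i)
  letI : ∀ i, Algebra (S.residueField s) ((T i).left.residueField (t i)) := fun i => (emb i).hom.toAlgebra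
  obtain ⟨K, _, _, hK⟩ := exists_common (S.residueField s) fun i => (T i).left.residueField (t i)
  let φ : ∀ i, (T i).left.residueField (t i) ⟶ CommRingCat.of K := fun i =>
    CommRingCat.ofHom (hK i).some.toRingHom
  let g : Spec (CommRingCat.of K) ⟶ S :=
    Spec.map (CommRingCat.ofHom (algebraMap (S.residueField s) K)) ≫ S.fromSpecResidueField s
  have hφ : ∀ i, emb i ≫ φ i = CommRingCat.ofHom (algebraMap (S.residueField s) K) := fun i =>
    CommRingCat.hom_ext (hK i).some.comp_algebraMap
  have hw : ∀ i, (Spec.map (φ i) ≫ (T i).left.fromSpecResidueField (t i)) ≫ (T i).hom = g := fun i => by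
    rw [Category.assoc, ← Scheme.Hom.SpecMap_residueFieldMap_fromSpecResidueField,
      ← fromSpec_congr (ht i).symm, ← Category.assoc, ← Category.assoc,
      ← Spec.map_comp, ← Spec.map_comp]
    show _ = Spec.map _ ≫ _
    rw [← hφ i]
    simp [emb]
  let gf : Over S := Over.mk g
  let legs : ∀ i, gf ⟶ T i := fun i => Over.homMk (Spec.map (φ i) ≫ (T i).left.fromSpecResidueField (t i)) (hw i)
  let l : gf ⟶ c.pt := hc.lift (Limits.Fan.mk gf legs)
  refine ⟨l.left (IsLocalRing.closedPoint K), ?_⟩
  have hl : l.left ≫ c.pt.hom = g := Over.w l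
  refine (congr($(hl) (IsLocalRing.closedPoint K))).trans ?_
  exact Scheme.fromSpecResidueField_apply s _

end Groth.Agent.S7394
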