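import Groth.Statements.S7397
import Mathlib
-- import your own Groth.Agent.* helpers here

set_option autoImplicit false
universe u
open Mor

namespace Groth.Agent.S7397

/-- Let `A ⊆ B` be a ring extension and `b ∈ B`, `b ∉ A`, with `b^n, b^(n+1) ∈ A` for some `n ≥ 2`. Then
some `b' ∈ B` with `b' ∉ A` has `b'^2 ∈ A` and `b'^3 ∈ A`. -/
theorem result {B : Type u} [CommRing B] (A : Subring B) (b : B) (hb : b ∉ A)
    (n : ℕ) (hn : 2 ≤ n) (h1 : b ^ n ∈ A) (h2 : b ^ (n + 1) ∈ A) :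
    ∃ b' : B, b' ∉ A ∧ b' ^ 2 ∈ A ∧ b' ^ 3 ∈ A := by
  have key : ∀ q r : ℕ, b ^ (n * q + (n + 1) * r) ∈ A := fun q r => by
    rw [pow_add, pow_mul, pow_mul]; exact mul_mem (pow_mem h1 q) (pow_mem h2 r)
  have big : ∀ m, n * n ≤ m → b ^ m ∈ A := fun m hm => by
    have hr : m % n < n := Nat.mod_lt _ (by omega)
    have hq : n ≤ m / n := (Nat.le_div_iff_mul_le (by omega)).2 hm
    have e := Nat.div_add_mod m n
    obtain ⟨d, hd⟩ := Nat.exists_eq_add_of_le (hr.le.trans hq)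
    have : m = n * d + (n + 1) * (m % n) := by
      rw [hd] at e; nlinarith
    rw [this]; exact key _ _
  classical
  let S : Finset ℕ := (Finset.range (n * n)).filter fun j => b ^ j ∉ A
  have hn1 : 1 < n * n := lt_of_lt_of_le (by omega) (Nat.mul_le_mul hn hn)
  have hS : S.Nonempty := ⟨1, Finset.mem_filter.2 ⟨Finset.mem_range.2 hn1, by simpa using hb⟩⟩
  have hj := S.max'_mem hS
  have h1j : 1 ≤ S.max' hS :=
    S.le_max' 1 (Finset.mem_filter.2 ⟨Finset.mem_range.2 hn1, by simpa using hb⟩)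
  have gt : ∀ m, S.max' hS < m → b ^ m ∈ A := fun m hm => by
    by_contra hmA
    by_cases hlt : m < n * n
    · exact absurd (S.le_max' m (Finset.mem_filter.2 ⟨Finset.mem_range.2 hlt, hmA⟩)) (by omega)
    · exact hmA (big m (by omega))
  refine ⟨b ^ S.max' hS, (Finset.mem_filter.1 hj).2, ?_, ?_⟩
  · rw [← pow_mul]; exact gt _ (by omega)
  · rw [← pow_mul]; exact gt _ (by omega)

end Groth.Agent.S7397
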