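import Groth.Statements.S7402
import Groth.Agent.TowerLib.Main
import Groth.Agent.AWNLib.Basic

set_option autoImplicit false
universe u
open CategoryTheory AlgebraicGeometry
open Polynomial
open Mor

namespace Groth.Agent.S7402

/-- Let `A` be a ring and `x, y ∈ A` with `x^3 = y^2`. Then `A → B = A[t]/(t^2 - x, t^3 - y)` induces a
universal homeomorphism on spectra and isomorphisms on residue fields. -/
theorem result (A : Type u) [CommRing A] (x y : A) (h : x ^ 3 = y ^ 2) :
    FlatMor.IsUnivHomeo (Spec.map (CommRingCat.ofHom (algebraMap A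
      (A[X] ⧸ Ideal.span ({X ^ 2 - C x, X ^ 3 - C y} : Set A[X]))))) ∧
    ∀ q : Spec (CommRingCat.of (A[X] ⧸ Ideal.span ({X ^ 2 - C x, X ^ 3 - C y} : Set A[X]))),
      Function.Surjective ((Spec.map (CommRingCat.ofHom (algebraMap A
        (A[X] ⧸ Ideal.span ({X ^ 2 - C x, X ^ 3 - C y} : Set A[X]))))).residueFieldMap q) := by
  let I : Ideal A[X] := Ideal.span {X ^ 2 - C x, X ^ 3 - C y}
  change FlatMor.IsUnivHomeo (Spec.map (CommRingCat.ofHom (algebraMap A (A[X] ⧸ I)))) ∧ _
  let t : A[X] ⧸ I := Ideal.Quotient.mk I X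
  have h2 : t ^ 2 = algebraMap A (A[X] ⧸ I) x := by
    rw [← sub_eq_zero]
    exact (Ideal.Quotient.eq_zero_iff_mem.2 (Ideal.subset_span (Set.mem_insert _ _)) :
      Ideal.Quotient.mk I (X ^ 2 - C x) = 0)
  have h3 : t ^ 3 = algebraMap A (A[X] ⧸ I) y := by
    rw [← sub_eq_zero]
    exact (Ideal.Quotient.eq_zero_iff_mem.2 (Ideal.subset_span (Set.mem_insert_of_mem _ rfl)) :
      Ideal.Quotient.mk I (X ^ 3 - C y) = 0)
  have htop : Algebra.adjoin A ({t} : Set (A[X] ⧸ I)) = ⊤ := by
    rw [eq_top_iff]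
    rintro z -
    obtain ⟨f, rfl⟩ := Ideal.Quotient.mk_surjective z
    have : Ideal.Quotient.mk I f = aeval t f := by
      rw [show (aeval t : A[X] →ₐ[A] A[X] ⧸ I) = Ideal.Quotient.mkₐ A I from
        Polynomial.algHom_ext (by rw [aeval_X]; rfl)]
      rfl
    rw [this]
    exact aeval_mem_adjoin_singleton A t
  refine ⟨(AWNLib.univHomeo_iff _).2 ⟨?_, fun q => ?_, fun K _ g₁ g₂ hg => ?_⟩, ?_⟩
  · rw [algebraMap_isIntegral_iff, ← integralClosure_eq_top_iff, eq_top_iff, ← htop, Algebra.adjoin_le_iff,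
      Set.singleton_subset_iff]
    exact IsIntegral.of_pow two_pos (h2 ▸ isIntegral_algebraMap)
  · let K := q.asIdeal.ResidueField
    let u : A →+* K := algebraMap A K
    let s : K := u y / u x
    have hyz : u x = 0 → u y = 0 := fun hx0 => by
      have := congrArg u h
      rw [map_pow, map_pow, hx0, zero_pow (by norm_num)] at this
      exact pow_eq_zero_iff (by norm_num) |>.1 this.symm
    have hs2 : s ^ 2 = u x := by
      by_cases hx0 : u x = 0
      · simp [s, hx0]
      · have := congrArg u h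
        rw [map_pow, map_pow] at this
        show (u y / u x) ^ 2 = u x
        rw [div_pow, div_eq_iff (pow_ne_zero 2 hx0), ← this]
        ring
    have hs3 : s ^ 3 = u y := by
      by_cases hx0 : u x = 0
      · simp [s, hx0, hyz hx0]
      · rw [pow_succ, hs2]
        exact mul_div_cancel₀ _ hx0
    let g : A[X] ⧸ I →+* K := Ideal.Quotient.lift I (eval₂RingHom u s) fun a ha => by
      have hle : I ≤ RingHom.ker (eval₂RingHom u s) := Ideal.span_le.2 (by
        rintro _ (rfl | rfl) <;> simp [hs2, hs3])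
      exact hle ha
    have hg : g.comp (algebraMap A (A[X] ⧸ I)) = u := RingHom.ext fun a => by
      rw [RingHom.comp_apply, show algebraMap A (A[X] ⧸ I) a = Ideal.Quotient.mk I (C a) from rfl]
      simp [g]
    refine ⟨⟨RingHom.ker g, RingHom.ker_isPrime g⟩, PrimeSpectrum.ext ?_⟩
    show (RingHom.ker g).comap _ = _
    rw [RingHom.comap_ker, hg]
    exact Ideal.ker_algebraMap_residueField _
  · have hxy : ∀ a, g₁ (algebraMap A _ a) = g₂ (algebraMap A _ a) := fun a => RingHom.congr_fun hg a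
    have e2 : g₁ t ^ 2 = g₂ t ^ 2 := by rw [← map_pow g₁, ← map_pow g₂, h2, hxy]
    have e3 : g₁ t ^ 3 = g₂ t ^ 3 := by rw [← map_pow g₁, ← map_pow g₂, h3, hxy]
    have et : g₁ t = g₂ t := by
      by_cases h0 : g₁ t = 0
      · rw [h0, zero_pow two_ne_zero] at e2
        rw [h0, pow_eq_zero_iff two_ne_zero |>.1 e2.symm]
      · refine mul_left_cancel₀ (pow_ne_zero 2 h0) ?_
        calc g₁ t ^ 2 * g₁ t = g₁ t ^ 3 := by ring
          _ = g₂ t ^ 3 := e3
          _ = g₂ t ^ 2 * g₂ t := by ring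
          _ = g₁ t ^ 2 * g₂ t := by rw [e2]
    refine RingHom.ext fun z => ?_
    have hz : z ∈ Algebra.adjoin A ({t} : Set (A[X] ⧸ I)) := htop ▸ Algebra.mem_top
    induction hz using Algebra.adjoin_induction with
    | mem w hw => rw [show w = t from hw]; exact et
    | algebraMap a => exact hxy a
    | add a b _ _ ha hb => rw [map_add, map_add, ha, hb]
    | mul a b _ _ ha hb => rw [map_mul, map_mul, ha, hb]
  · rw [TowerLib.residueFieldMap_surjective_iff]
    intro q hq b
    haveI := hq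
    let φ := algebraMap A (A[X] ⧸ I)
    have hb : b ∈ Algebra.adjoin A ({t} : Set (A[X] ⧸ I)) := htop ▸ Algebra.mem_top
    induction hb using Algebra.adjoin_induction with
    | mem w hw =>
      rw [show w = t from hw]
      by_cases hx : φ x ∈ q
      · refine ⟨0, 1, by rw [map_one]; exact q.one_notMem, ?_⟩
        rw [map_one, one_mul, map_zero, sub_zero]
        exact hq.mem_of_pow_mem 2 (h2 ▸ hx)
      · refine ⟨y, x, hx, ?_⟩
        rw [show algebraMap A (A[X] ⧸ I) x * t - algebraMap A _ y = 0 by rw [← h2, ← h3]; ring]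
        exact q.zero_mem
    | algebraMap a => exact ⟨a, 1, by rw [map_one]; exact q.one_notMem, by simp⟩
    | add a b _ _ ha hb =>
      obtain ⟨a₁, s₁, hs₁, h₁⟩ := ha
      obtain ⟨a₂, s₂, hs₂, h₂⟩ := hb
      refine ⟨a₁ * s₂ + a₂ * s₁, s₁ * s₂, fun hh => ?_, ?_⟩
      · rw [map_mul] at hh
        exact (hq.mem_or_mem hh).elim hs₁ hs₂
      · rw [show algebraMap A (A[X] ⧸ I) (s₁ * s₂) * (a + b) - algebraMap A _ (a₁ * s₂ + a₂ * s₁) =
          φ s₂ * (φ s₁ * a - φ a₁) + φ s₁ * (φ s₂ * b - φ a₂) by simp only [map_mul, map_add, φ]; ring]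
        exact q.add_mem (q.mul_mem_left _ h₁) (q.mul_mem_left _ h₂)
    | mul a b _ _ ha hb =>
      obtain ⟨a₁, s₁, hs₁, h₁⟩ := ha
      obtain ⟨a₂, s₂, hs₂, h₂⟩ := hb
      refine ⟨a₁ * a₂, s₁ * s₂, fun hh => ?_, ?_⟩
      · rw [map_mul] at hh
        exact (hq.mem_or_mem hh).elim hs₁ hs₂
      · rw [show algebraMap A (A[X] ⧸ I) (s₁ * s₂) * (a * b) - algebraMap A _ (a₁ * a₂) =
          (φ s₂ * b) * (φ s₁ * a - φ a₁) + φ a₁ * (φ s₂ * b - φ a₂) by simp only [map_mul, φ]; ring]
        exact q.add_mem (q.mul_mem_left _ h₁) (q.mul_mem_left _ h₂)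

end Groth.Agent.S7402
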