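import Groth.Statements.S7403
import Groth.Agent.AWNLib.Basic
import Mathlib

set_option autoImplicit false
universe u
open CategoryTheory AlgebraicGeometry
open Polynomial
open Mor

namespace Groth.Agent.S7403

/-- Let `A` be a ring, `p` a prime number and `x, y ∈ A` with `p^p x = y^p`. Then `A → B = A[t]/(t^p -
x, p t - y)` induces a universal homeomorphism on spectra. -/
theorem result (A : Type u) [CommRing A] (p : ℕ) (hp : p.Prime) (x y : A)
    (h : (p : A) ^ p * x = y ^ p) :
    FlatMor.IsUnivHomeo (Spec.map (CommRingCat.ofHom (algebraMap A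
      (A[X] ⧸ Ideal.span ({X ^ p - C x, C (p : A) * X - C y} : Set A[X]))))) := by
  let I : Ideal A[X] := Ideal.span {X ^ p - C x, C (p : A) * X - C y}
  change FlatMor.IsUnivHomeo (Spec.map (CommRingCat.ofHom (algebraMap A (A[X] ⧸ I))))
  let t : A[X] ⧸ I := Ideal.Quotient.mk I X
  have hp1 : t ^ p = algebraMap A (A[X] ⧸ I) x := by
    rw [← sub_eq_zero]
    exact (Ideal.Quotient.eq_zero_iff_mem.2 (Ideal.subset_span (Set.mem_insert _ _)) :
      Ideal.Quotient.mk I (X ^ p - C x) = 0)
  have hp2 : algebraMap A (A[X] ⧸ I) p * t = algebraMap A (A[X] ⧸ I) y := by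
    rw [← sub_eq_zero]
    exact (Ideal.Quotient.eq_zero_iff_mem.2 (Ideal.subset_span (Set.mem_insert_of_mem _ rfl)) :
      Ideal.Quotient.mk I (C (p : A) * X - C y) = 0)
  have htop : Algebra.adjoin A ({t} : Set (A[X] ⧸ I)) = ⊤ := by
    rw [eq_top_iff]
    rintro z -
    obtain ⟨f, rfl⟩ := Ideal.Quotient.mk_surjective z
    have : Ideal.Quotient.mk I f = aeval t f := by
      rw [show (aeval t : A[X] →ₐ[A] A[X] ⧸ I) = Ideal.Quotient.mkₐ A I from
        Polynomial.algHom_ext (by rw [aeval_X]; rfl)]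
      rfl
    rw [this]
    exact aeval_mem_adjoin_singleton A t
  haveI : Fact p.Prime := ⟨hp⟩
  refine (AWNLib.univHomeo_iff _).2 ⟨?_, fun q => ?_, fun K _ g₁ g₂ hg => ?_⟩
  · rw [algebraMap_isIntegral_iff, ← integralClosure_eq_top_iff, eq_top_iff, ← htop, Algebra.adjoin_le_iff,
      Set.singleton_subset_iff]
    exact IsIntegral.of_pow hp.pos (hp1 ▸ isIntegral_algebraMap)
  · let K := AlgebraicClosure q.asIdeal.ResidueField
    let u : A →+* K := (algebraMap q.asIdeal.ResidueField K).comp (algebraMap A q.asIdeal.ResidueField)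
    have hu := congrArg u h
    rw [map_mul, map_pow, map_pow, map_natCast] at hu
    obtain ⟨s, hs1, hs2⟩ : ∃ s : K, s ^ p = u x ∧ (p : K) * s = u y := by
      by_cases h0 : (p : K) = 0
      · obtain ⟨s, hs⟩ := IsAlgClosed.exists_pow_nat_eq (u x) hp.pos
        rw [h0, zero_pow hp.ne_zero, zero_mul] at hu
        exact ⟨s, hs, by rw [h0, zero_mul, pow_eq_zero_iff hp.ne_zero |>.1 hu.symm]⟩
      · exact ⟨u y / p, by rw [div_pow, ← hu, mul_div_cancel_left₀ _ (pow_ne_zero p h0)], mul_div_cancel₀ _ h0⟩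
    let g : A[X] ⧸ I →+* K := Ideal.Quotient.lift I (eval₂RingHom u s) fun a ha => by
      have hle : I ≤ RingHom.ker (eval₂RingHom u s) := Ideal.span_le.2 (by
        rintro _ (rfl | rfl) <;> simp [hs1, hs2])
      exact hle ha
    have hg : g.comp (algebraMap A (A[X] ⧸ I)) = u := RingHom.ext fun a => by
      rw [RingHom.comp_apply, show algebraMap A (A[X] ⧸ I) a = Ideal.Quotient.mk I (C a) from rfl]
      simp [g]
    refine ⟨⟨RingHom.ker g, RingHom.ker_isPrime g⟩, PrimeSpectrum.ext ?_⟩
    show (RingHom.ker g).comap _ = _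
    rw [RingHom.comap_ker, hg, RingHom.ker_comp_of_injective _ (RingHom.injective _)]
    exact Ideal.ker_algebraMap_residueField _
  · have hxy : ∀ a, g₁ (algebraMap A _ a) = g₂ (algebraMap A _ a) := fun a => RingHom.congr_fun hg a
    have e1 : g₁ t ^ p = g₂ t ^ p := by rw [← map_pow g₁, ← map_pow g₂, hp1, hxy]
    have e2 : (p : K) * g₁ t = (p : K) * g₂ t := by
      have := hxy y
      rw [← hp2, map_mul, map_mul, map_natCast, map_natCast, map_natCast] at this
      exact this
    have et : g₁ t = g₂ t := by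
      by_cases h0 : (p : K) = 0
      · haveI : CharP K p := (CharP.charP_iff_prime_eq_zero hp).2 h0
        exact frobenius_inj K p e1
      · exact mul_left_cancel₀ h0 e2
    refine RingHom.ext fun z => ?_
    have hz : z ∈ Algebra.adjoin A ({t} : Set (A[X] ⧸ I)) := htop ▸ Algebra.mem_top
    induction hz using Algebra.adjoin_induction with
    | mem w hw => rw [show w = t from hw]; exact et
    | algebraMap a => exact hxy a
    | add a b _ _ ha hb => rw [map_add, map_add, ha, hb]
    | mul a b _ _ ha hb => rw [map_mul, map_mul, ha, hb]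

end Groth.Agent.S7403
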