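import Groth.Statements.S7404
import Groth.Agent.AWNLib.Sub

set_option autoImplicit false
universe u
open CategoryTheory AlgebraicGeometry
open Mor

namespace Groth.Agent.S7404

/-- Let `A → B` be a ring map and `B' ⊆ B` an `A`-subalgebra, with `f : Spec B → Spec A` and `f' : Spec
B' → Spec A` the induced morphisms. Each of the following properties passes from `f` to `f'`: being
a universal homeomorphism; being a universal homeomorphism with trivial residue field extensions;
being universally closed; being both universally closed and universally injective. -/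
theorem result {A B : Type u} [CommRing A] [CommRing B] [Algebra A B]
    (B' : Subalgebra A B) :
    (FlatMor.IsUnivHomeo (Spec.map (CommRingCat.ofHom (algebraMap A B))) →
      FlatMor.IsUnivHomeo (Spec.map (CommRingCat.ofHom (algebraMap A B')))) ∧
    ((FlatMor.IsUnivHomeo (Spec.map (CommRingCat.ofHom (algebraMap A B))) ∧
      ∀ x : Spec (CommRingCat.of B),
        Function.Surjective ((Spec.map (CommRingCat.ofHom (algebraMap A B))).residueFieldMap x)) →
      FlatMor.IsUnivHomeo (Spec.map (CommRingCat.ofHom (algebraMap A B'))) ∧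
      ∀ x : Spec (CommRingCat.of B'),
        Function.Surjective ((Spec.map (CommRingCat.ofHom (algebraMap A B'))).residueFieldMap x)) ∧
    (UniversallyClosed (Spec.map (CommRingCat.ofHom (algebraMap A B))) →
      UniversallyClosed (Spec.map (CommRingCat.ofHom (algebraMap A B')))) ∧
    (UniversallyClosed (Spec.map (CommRingCat.ofHom (algebraMap A B))) →
      UniversallyInjective (Spec.map (CommRingCat.ofHom (algebraMap A B))) →
      UniversallyClosed (Spec.map (CommRingCat.ofHom (algebraMap A B'))) ∧
      UniversallyInjective (Spec.map (CommRingCat.ofHom (algebraMap A B')))) := by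
  have uh := fun (h : FlatMor.IsUnivHomeo (Spec.map (CommRingCat.ofHom (algebraMap A B)))) =>
    let h' := (AWNLib.univHomeo_iff _).1 h
    (AWNLib.univHomeo_iff _).2 ⟨AWNLib.sub_isIntegral B' h'.1, AWNLib.sub_surjective B' h'.2.1,
      fun K _ => AWNLib.sub_univInj B' h'.1 h'.2.2 K⟩
  refine ⟨uh, fun h => ⟨uh h.1, (AWNLib.residueFieldMap_surjective_iff _).2 ?_⟩, fun h => ?_, fun h h2 => ⟨?_, ?_⟩⟩
  · exact AWNLib.sub_RF B' ((AWNLib.univHomeo_iff _).1 h.1).1 ((AWNLib.residueFieldMap_surjective_iff _).1 h.2)
  · exact (AWNLib.univClosed_iff _).2 (AWNLib.sub_isIntegral B' ((AWNLib.univClosed_iff _).1 h))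
  · exact (AWNLib.univClosed_iff _).2 (AWNLib.sub_isIntegral B' ((AWNLib.univClosed_iff _).1 h))
  · exact (AWNLib.univInj_iff _).2 fun K _ =>
      AWNLib.sub_univInj B' ((AWNLib.univClosed_iff _).1 h) ((AWNLib.univInj_iff _).1 h2) K

end Groth.Agent.S7404
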