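import Groth.Statements.S7406
import Mathlib

set_option autoImplicit false
set_option backward.isDefEq.respectTransparency false
set_option backward.isDefEq.respectTransparency.types false
universe u
open CategoryTheory AlgebraicGeometry
open Desc

namespace Groth.Agent.S7406
open CategoryTheory CategoryTheory.Limits AlgebraicGeometry

theorem etale_residue {X Y : Scheme.{u}} (f : X ⟶ Y) [Etale f] (x : X) :
    Etale (Spec.map (f.residueFieldMap x)) := by
  algebraize [(f.stalkMap x).hom]
  haveI : IsLocalHom (algebraMap (Y.presheaf.stalk (f x)) (X.presheaf.stalk x)) :=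
    inferInstanceAs <| IsLocalHom (f.stalkMap x).hom
  haveI : Algebra.EssFiniteType (Y.presheaf.stalk (f x)) (X.presheaf.stalk x) := by
    rw [← RingHom.essFiniteType_algebraMap, RingHom.algebraMap_toAlgebra]
    exact LocallyOfFiniteType.stalkMap f x
  haveI : Algebra.FormallyUnramified (Y.presheaf.stalk (f x)) (X.presheaf.stalk x) := by
    rw [← RingHom.formallyUnramified_algebraMap, RingHom.algebraMap_toAlgebra]
    exact FormallyUnramified.stalkMap f x
  haveI : Algebra.FormallyEtale (IsLocalRing.ResidueField <| Y.presheaf.stalk (f x))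
      (IsLocalRing.ResidueField <| X.presheaf.stalk x) :=
    Algebra.FormallyEtale.of_isSeparable _ _
  haveI : Algebra.Etale (IsLocalRing.ResidueField <| Y.presheaf.stalk (f x))
      (IsLocalRing.ResidueField <| X.presheaf.stalk x) := by
    haveI : Module.Finite (IsLocalRing.ResidueField <| Y.presheaf.stalk (f x))
        (IsLocalRing.ResidueField <| X.presheaf.stalk x) :=
      Algebra.FormallyUnramified.finite_of_free _ _
    exact ⟨inferInstance, Algebra.FinitePresentation.of_finiteType.mp inferInstance⟩
  rw [HasRingHomProperty.Spec_iff (P := @Etale)]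
  have e := RingHom.etale_algebraMap.mpr this
  have heq : ((f.residueFieldMap x).hom : IsLocalRing.ResidueField (Y.presheaf.stalk (f x)) →+*
      IsLocalRing.ResidueField (X.presheaf.stalk x)) = algebraMap (IsLocalRing.ResidueField (Y.presheaf.stalk (f x)))
      (IsLocalRing.ResidueField (X.presheaf.stalk x)) := by
    refine RingHom.ext fun a => ?_
    obtain ⟨a, rfl⟩ := IsLocalRing.residue_surjective a
    rfl
  rw [← heq] at e
  exact e

/-- Consider a commutative square of schemes with horizontal maps `h' : U' → V'`, `h : U → V` and étale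
vertical maps `a : U' → U`, `b : V' → V`, and let `v' ∈ V'` with image `v = b(v')`. Then the induced
morphism of fibres `U'_{v'} → U_v` is étale. (The morphism of fibres is characterised by its
compatibility with `a` and with `Spec κ(v') → Spec κ(v)`.) -/
theorem result {U U' V V' : Scheme.{u}} (h : U ⟶ V) (h' : U' ⟶ V') (a : U' ⟶ U)
    (b : V' ⟶ V) [Etale a] [Etale b] (comm : h' ≫ b = a ≫ h) (v' : V')
    (φ : h'.fiber v' ⟶ h.fiber (b v')) (hφ1 : φ ≫ h.fiberι (b v') = h'.fiberι v' ≫ a)
    (hφ2 : φ ≫ h.fiberToSpecResidueField (b v') = h'.fiberToSpecResidueField v' ≫ Spec.map (b.residueFieldMap v')) :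
    Etale φ := by
  haveI := etale_residue b v'
  let k : U' ⟶ pullback h b := pullback.lift a h' comm.symm
  haveI : Etale k := by
    have hk : k ≫ pullback.fst h b = a := pullback.lift_fst _ _ _
    haveI : Etale (k ≫ pullback.fst h b) := by rw [hk]; infer_instance
    exact Etale.of_comp k (pullback.fst h b)
  have hψ := isPullback_fiberToSpecResidueField_of_isPullback (IsPullback.of_hasPullback h b) v'
  set ψ : (pullback.snd h b).fiber v' ⟶ h.fiber (b v') := pullback.map _ _ _ _ (pullback.fst h b) (Spec.map (b.residueFieldMap v')) b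
    pullback.condition.symm (Scheme.Hom.SpecMap_residueFieldMap_fromSpecResidueField b v').symm
  haveI : Etale ψ := MorphismProperty.of_isPullback (P := @Etale) hψ.flip inferInstance
  let β : h'.fiber v' ⟶ (pullback.snd h b).fiber v' :=
    pullback.map _ _ _ _ k (𝟙 _) (𝟙 _) (by simp [k]) (by simp)
  have hβ : IsPullback β (h'.fiberι v') ((pullback.snd h b).fiberι v') k := by
    refine IsPullback.of_right (h₁₂ := (pullback.snd h b).fiberToSpecResidueField v')
      (h₂₂ := pullback.snd h b) (v₁₃ := V'.fromSpecResidueField v') ?_ ?_ ?_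
    · have hk : k ≫ pullback.snd h b = h' := pullback.lift_snd _ _ _
      have hβ2 : β ≫ (pullback.snd h b).fiberToSpecResidueField v' = h'.fiberToSpecResidueField v' := by
        simp [β, Scheme.Hom.fiberToSpecResidueField]
      rw [hk, hβ2]
      exact (IsPullback.of_hasPullback h' (V'.fromSpecResidueField v')).flip
    · simp [β, Scheme.Hom.fiberι]
    · exact (IsPullback.of_hasPullback (pullback.snd h b) (V'.fromSpecResidueField v')).flip
  haveI : Etale β := MorphismProperty.of_isPullback (P := @Etale) hβ.flip inferInstance
  have hφ : φ = β ≫ ψ := by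
    apply pullback.hom_ext
    · simpa [β, ψ, k, Scheme.Hom.fiberι] using hφ1
    · simpa [β, ψ, k, Scheme.Hom.fiberToSpecResidueField] using hφ2
  rw [hφ]
  infer_instance

end Groth.Agent.S7406
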