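import Groth.Statements.S7412
import Mathlib


-- import your own Groth.Agent.* helpers here

set_option autoImplicit false
universe u
open Desc

namespace Groth.Agent.S7412

/-- Let `R` be a ring and `f : M → N` a map of `R`-modules. Then `f` is universally injective (`f ⊗ 1_P`
is injective for every `R`-module `P`; here `P` ranges over modules in the same universe, which
suffices) if and only if the map of character modules `C(N) → C(M)`, `C(-) = Hom_ℤ(-, ℚ/ℤ)`, is a
split surjection of `R`-modules. -/
theorem result {R : Type u} [CommRing R] {M N : Type u}
    [AddCommGroup M] [Module R M] [AddCommGroup N] [Module R N] (f : M →ₗ[R] N) :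
    (∀ (P : Type u) [AddCommGroup P] [Module R P], Function.Injective (f.lTensor P)) ↔
      ∃ g : CharacterModule M →ₗ[R] CharacterModule N, (CharacterModule.dual f).comp g = LinearMap.id := by
  constructor
  · intro h
    have hs : Function.Surjective (CharacterModule.dual (f.lTensor (CharacterModule M))) :=
      CharacterModule.dual_surjective_of_injective _ (h _)
    obtain ⟨χ, hχ⟩ := hs (CharacterModule.uncurry (LinearMap.id : CharacterModule M →ₗ[R] CharacterModule M))
    refine ⟨CharacterModule.curry χ, ?_⟩
    refine LinearMap.ext fun c => CharacterModule.ext (A := M) ?_
    intro m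
    exact DFunLike.congr_fun hχ (TensorProduct.tmul R c m)
  · rintro ⟨g, hg⟩ P _ _
    rw [injective_iff_map_eq_zero]
    intro t ht
    refine CharacterModule.eq_zero_of_character_apply fun χ => ?_
    have key : χ = CharacterModule.dual (f.lTensor P) (CharacterModule.uncurry (g ∘ₗ CharacterModule.curry χ)) := by
      refine DFunLike.ext _ _ fun x => ?_
      induction x using TensorProduct.induction_on with
      | zero => simp
      | tmul p m =>
        exact (DFunLike.congr_fun (LinearMap.congr_fun hg (CharacterModule.curry χ p)) m).symm
      | add x y hx hy => rw [map_add, map_add, hx, hy]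
    rw [key]
    exact (congrArg (CharacterModule.uncurry (g ∘ₗ CharacterModule.curry χ)) ht).trans (map_zero _)

end Groth.Agent.S7412
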