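import Groth.Statements.S7413
import Groth.Agent.LocProjLib.Cover
import Groth.Agent.KFlatLib.AffinePull
import Groth.Agent.FlatnLib.Basic

set_option autoImplicit false
universe u
open CategoryTheory AlgebraicGeometry
open Opposite
open Mor
open TensorProduct

namespace Groth.Agent.S7413

set_option backward.isDefEq.respectTransparency false

/-- Let `f : X → Y` be a morphism of schemes and `G` a quasi-coherent, locally projective `O_Y`-module
(projective sections over every affine open). Then `f^* G` is locally projective on `X`. -/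
theorem result {X Y : Scheme.{u}} (f : X ⟶ Y) (G : Y.Modules) [Coh.IsQCoh G]
    (hG : ∀ V : Y.Opens, IsAffineOpen V → Module.Projective (Y.ringCatSheaf.obj.obj (op V)) (G.val.obj (op V)))
    (U : X.Opens) (hU : IsAffineOpen U) :
    Module.Projective (X.ringCatSheaf.obj.obj (op U)) (((Scheme.Modules.pullback f).obj G).val.obj (op U)) := by
  classical
  show Module.Projective Γ(X, U) Γ(KFlatLib.pb f G, U)
  haveI : Coh.IsQCoh (KFlatLib.pb f G) := KFlatLib.isQCoh_pullback f G
  have hpt : ∀ x : X, x ∈ U → ∃ (a : Γ(X, U)) (V : Y.Opens), IsAffineOpen V ∧ x ∈ X.basicOpen a ∧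
      X.basicOpen a ≤ f ⁻¹ᵁ V := by
    intro x hx
    obtain ⟨_, ⟨V, hV, rfl⟩, hxV, -⟩ :=
      (Y.isBasis_affineOpens).exists_subset_of_mem_open (Set.mem_univ (f x)) isOpen_univ
    obtain ⟨a, ha, hxa⟩ := hU.exists_basicOpen_le (V := U ⊓ f ⁻¹ᵁ V) ⟨x, hx, hxV⟩ hx
    exact ⟨a, V, hV, hxa, ha.trans inf_le_right⟩
  choose a V hV hxa haV using fun x : U => hpt x.1 x.2
  obtain ⟨t, ht⟩ := hU.isCompact.elim_finite_subcover (fun x : U => (X.basicOpen (a x) : Set X))
    (fun x => (X.basicOpen (a x)).isOpen) (fun x hx => Set.mem_iUnion.mpr ⟨⟨x, hx⟩, hxa ⟨x, hx⟩⟩)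
  let L : t → Type u := fun i => Γ(X, X.basicOpen (a i.1))
  letI : ∀ i, Algebra Γ(X, U) (L i) := fun i =>
    (X.presheaf.map (homOfLE (X.basicOpen_le (a i.1))).op).hom.toAlgebra
  haveI : ∀ i, IsLocalization.Away (a i.1) (L i) := fun i => hU.isLocalization_basicOpen (a i.1)
  haveI : ∀ i, Module.Flat Γ(X, U) (L i) := fun i => IsLocalization.flat (L i) (Submonoid.powers (a i.1))
  haveI : ∀ i, Module.Projective (L i) (L i ⊗[Γ(X, U)] Γ(KFlatLib.pb f G, U)) := by
    intro i
    set W := X.basicOpen (a i.1) with hW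
    letI : Module Γ(X, U) Γ(KFlatLib.pb f G, W) :=
      Module.compHom _ (X.presheaf.map (homOfLE (X.basicOpen_le (a i.1))).op).hom
    haveI : IsScalarTower Γ(X, U) (L i) Γ(KFlatLib.pb f G, W) :=
      IsScalarTower.of_algebraMap_smul fun _ _ => rfl
    let ρ : Γ(KFlatLib.pb f G, U) →ₗ[Γ(X, U)] Γ(KFlatLib.pb f G, W) :=
      { toFun := fun m => (KFlatLib.pb f G).presheaf.map (homOfLE (X.basicOpen_le (a i.1))).op m
        map_add' := fun p q => map_add _ p q
        map_smul' := fun r m => Scheme.Modules.map_smul (KFlatLib.pb f G) _ r m }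
    haveI := FlatnLib.isLocalizedModule_res (KFlatLib.pb f G) hU (a i.1) (fun _ _ => rfl) ρ (fun _ => rfl)
    have h1 : IsBaseChange (L i) ρ := IsLocalizedModule.isBaseChange (Submonoid.powers (a i.1)) _ _
    letI : Algebra Γ(Y, V i.1) (L i) := (f.appLE (V i.1) W (haV i.1)).hom.toAlgebra
    letI : Module Γ(Y, V i.1) Γ(KFlatLib.pb f G, W) :=
      Module.compHom _ (f.appLE (V i.1) W (haV i.1)).hom
    haveI : IsScalarTower Γ(Y, V i.1) (L i) Γ(KFlatLib.pb f G, W) :=
      IsScalarTower.of_algebraMap_smul fun _ _ => rfl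
    let ψ : Γ(G, V i.1) →ₗ[Γ(Y, V i.1)] Γ(KFlatLib.pb f G, W) :=
      { toFun := fun m => KFlatLib.puSecLE f G (haV i.1) m
        map_add' := fun p q => map_add _ p q
        map_smul' := fun r m => KFlatLib.puSecLE_smul f G (haV i.1) r m }
    have h2 : IsBaseChange (L i) ψ := KFlatLib.isBaseChange_puSec f G (hV i.1)
      (hU.basicOpen (a i.1)) (haV i.1) (fun _ => rfl) ψ (fun _ => rfl)
    haveI : Module.Projective Γ(Y, V i.1) Γ(G, V i.1) := hG (V i.1) (hV i.1)
    haveI : Module.Projective (L i) Γ(KFlatLib.pb f G, W) := Module.Projective.of_equiv h2.equiv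
    exact Module.Projective.of_equiv h1.equiv.symm
  refine LocProjLib.projective_of_cover L (fun p => ?_) Γ(KFlatLib.pb f G, U)
  have hx : hU.fromSpec p ∈ U := by
    have := Set.mem_range_self (f := hU.fromSpec) p
    rwa [hU.range_fromSpec] at this
  obtain ⟨i, hi, hxi⟩ := Set.mem_iUnion₂.mp (ht hx)
  have hp : p ∈ PrimeSpectrum.basicOpen (a i) := by
    rw [← hU.fromSpec_preimage_basicOpen]
    exact hxi
  haveI : IsLocalization.Away (a i) (L ⟨i, hi⟩) := hU.isLocalization_basicOpen (a i)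
  rw [← SetLike.mem_coe, ← PrimeSpectrum.localization_away_comap_range (L ⟨i, hi⟩) (a i)] at hp
  obtain ⟨q, hq⟩ := hp
  exact ⟨⟨i, hi⟩, q, hq⟩

end Groth.Agent.S7413
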