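import Groth.Statements.S7414
import Groth.Agent.GSchemeLib.Basic
-- import your own Groth.Agent.* helpers here

set_option autoImplicit false
universe u
open CategoryTheory AlgebraicGeometry
open Mor

namespace Groth.Agent.S7414

/-- A scheme `X` is a G-scheme (every point has an affine open neighbourhood with G-ring coordinate
ring) if and only if `O_X(U)` is a G-ring for every affine open `U ⊆ X`. -/
theorem result (X : Scheme.{u}) :
    (∀ x : X, ∃ U : X.Opens, x ∈ U ∧ IsAffineOpen U ∧ CAlg.IsGRing Γ(X, U)) ↔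
      ∀ U : X.Opens, IsAffineOpen U → CAlg.IsGRing Γ(X, U) := by
  refine ⟨fun h U hU => ?_, fun h x => ?_⟩
  · obtain ⟨hN, hP⟩ := GSchemeLib.isLocallyNoetherian_of_gScheme h
    exact GSchemeLib.isGRing_of_gAt hU fun x _ => hP x
  · obtain ⟨_, ⟨⟨U, hU, rfl⟩, hxU, -⟩⟩ :=
      X.isBasis_affineOpens.exists_subset_of_mem_open (Set.mem_univ x) isOpen_univ
    exact ⟨U, hxU, hU, h U hU⟩

end Groth.Agent.S7414
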