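import Groth.Statements.S7416
import Mathlib
-- import your own Groth.Agent.* helpers here

set_option autoImplicit false
universe u
open CategoryTheory AlgebraicGeometry
open Mor

namespace Groth.Agent.S7416

open Limits MorphismProperty

theorem basic_of_basic {U : Scheme.{u}} [IsAffine U] (f₁ : Γ(U, ⊤)) (O : U.Opens)
    (hO : O = U.basicOpen f₁) (a : Γ(U, O)) : ∃ f : Γ(U, ⊤), U.basicOpen a = U.basicOpen f := by
  subst hO
  obtain ⟨f, hf⟩ := (isAffineOpen_top U).basicOpen_basicOpen_is_basicOpen f₁ a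
  exact ⟨f, hf.symm⟩

theorem exists_affine {U W : Scheme.{u}} [IsAffine U] (i : W ⟶ U) [IsOpenImmersion i] (w : W) :
    ∃ (f₁ : Γ(U, ⊤)) (A : W.Opens), IsAffineOpen A ∧ w ∈ A ∧ i ''ᵁ A = U.basicOpen f₁ := by
  obtain ⟨f₁, hf₁, hw⟩ := (isAffineOpen_top U).exists_basicOpen_le
    (V := i.opensRange) ⟨i w, ⟨w, rfl⟩⟩ trivial
  refine ⟨f₁, i ⁻¹ᵁ U.basicOpen f₁, ?_, hw, ?_⟩
  · exact ((isAffineOpen_top U).basicOpen f₁).preimage_of_isOpenImmersion i hf₁
  · rw [i.image_preimage_eq_opensRange_inf, inf_eq_right.2 hf₁]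

/-- Let `U`, `V` be affine schemes and `W → U`, `W → V` open immersions. Then every `w ∈ W` has an open
neighbourhood `W' ⊆ W` whose images in `U` and in `V` are standard opens `D(f) ⊆ U`, `D(g) ⊆ V` (in
particular `W'` is affine). -/
theorem result {U V W : Scheme.{u}} [IsAffine U]
    [IsAffine V] (i : W ⟶ U) (j : W ⟶ V) [IsOpenImmersion i] [IsOpenImmersion j] (w : W) :
    ∃ (W' : W.Opens) (f : Γ(U, ⊤)) (g : Γ(V, ⊤)), w ∈ W' ∧ i ''ᵁ W' = U.basicOpen f ∧ j ''ᵁ W' = V.basicOpen g := by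
  obtain ⟨f₁, A, hA, hwA, eA⟩ := exists_affine i w
  obtain ⟨g₁, B, hB, hwB, eB⟩ := exists_affine j w
  obtain ⟨a, b, hab, hwa⟩ := exists_basicOpen_le_affine_inter hA hB w ⟨hwA, hwB⟩
  obtain ⟨f, hf⟩ := basic_of_basic f₁ _ eA ((i.appIso A).inv a)
  obtain ⟨g, hg⟩ := basic_of_basic g₁ _ eB ((j.appIso B).inv b)
  refine ⟨W.basicOpen a, f, g, hwa, ?_, ?_⟩
  · rw [← hf, Scheme.image_basicOpen]
  · rw [hab, ← hg, Scheme.image_basicOpen]

end Groth.Agent.S7416
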