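import Groth.Statements.S7421
import Groth.Agent.AWNLib.Char
import Mathlib.AlgebraicGeometry.Properties
import Mathlib.RingTheory.LocalProperties.Reduced

set_option autoImplicit false
universe u
open CategoryTheory AlgebraicGeometry
open HTop

namespace Groth.Agent.S7421

/-- A seminormal ring is reduced, and a seminormal scheme is reduced. -/
theorem result :
    (∀ (A : Type u) [CommRing A], HTop.IsSeminormalRing A → IsReduced A) ∧
    ∀ (X : Scheme.{u}), HTop.IsSeminormal X → AlgebraicGeometry.IsReduced X := by
  refine ⟨fun A _ h => AWNLib.isReduced_of_isSeminormalRing h, fun X hX => ?_⟩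
  have hstalk : ∀ x : X, _root_.IsReduced (X.presheaf.stalk x) := fun x => by
    obtain ⟨U, hxU, hU⟩ := hX x
    have := AWNLib.isReduced_of_isSeminormalRing hU
    letI : Algebra Γ(X, U) (X.presheaf.stalk x) := TopCat.Presheaf.algebra_section_stalk X.presheaf ⟨x, hxU⟩
    have := U.2.isLocalization_stalk ⟨x, hxU⟩
    exact isReduced_localizationPreserves (U.2.primeIdealOf ⟨x, hxU⟩).asIdeal.primeCompl (X.presheaf.stalk x) ‹_›
  exact isReduced_of_isReduced_stalk X
end Groth.Agent.S7421
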