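import Groth.Statements.S7431
import Mathlib.AlgebraicGeometry.Morphisms.OpenImmersion
-- import your own Groth.Agent.* helpers here

set_option autoImplicit false
set_option backward.isDefEq.respectTransparency false
set_option linter.all false
universe u
open CategoryTheory AlgebraicGeometry
open Lim

namespace Groth.Agent.S7431

open CategoryTheory CategoryTheory.Limits AlgebraicGeometry TopologicalSpace

/-- Let `B' = B ×_R R'` be a cartesian square of rings with maps `s : B → R`, `t : R' → R`, and let `W'
= D(f_1) ∪ … ∪ D(f_n) ⊆ Spec R'` with `t(f_i) = s(g_i)` for elements `g_i ∈ B` such that `B_{g_i} →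
R_{s(g_i)}` is an isomorphism for each `i`. Then the composite `W' → Spec R' → Spec B'`, the second
map coming from `B' → R'`, is an open immersion. -/
theorem result {B B' R R' : Type u} [CommRing B] [CommRing B']
    [CommRing R] [CommRing R'] (s : B →+* R) (t : R' →+* R) (p : B' →+* B) (q : B' →+* R')
    (hsq : IsPullback (CommRingCat.ofHom p) (CommRingCat.ofHom q) (CommRingCat.ofHom s) (CommRingCat.ofHom t))
    {n : ℕ} (f : Fin n → R') (g : Fin n → B) (hfg : ∀ i, t (f i) = s (g i))
    (hiso : ∀ i, Function.Bijective (Localization.awayMap s (g i))) :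
    IsOpenImmersion (Scheme.Opens.ι (X := Spec (CommRingCat.of R')) (⨆ i, PrimeSpectrum.basicOpen (f i)) ≫
      Spec.map (CommRingCat.ofHom q)) := by
  classical
  have hT := hsq.map (forget CommRingCat)
  have hw : ∀ x, s (p x) = t (q x) := fun x => congr($(hsq.w).hom x)
  have hext : ∀ x y, p x = p y → q x = q y → x = y := fun x y h1 h2 => Types.ext_of_isPullback hT h1 h2
  have hex : ∀ b r, s b = t r → ∃ x, p x = b ∧ q x = r := fun b r h => Types.exists_of_isPullback hT b r h
  choose h hp hq using fun i => hex (g i) (f i) (hfg i).symm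
  have hkill : ∀ i b, s b = 0 → ∃ k : ℕ, g i ^ k * b = 0 := fun i b hb => by
    have h1 : algebraMap B (Localization.Away (g i)) b = 0 := (hiso i).1 (by
      rw [Localization.awayMap, IsLocalization.Away.map, IsLocalization.map_eq, hb, map_zero, map_zero])
    obtain ⟨⟨_, k, rfl⟩, hk⟩ := (IsLocalization.map_eq_zero_iff (Submonoid.powers (g i)) _ _).mp h1
    exact ⟨k, hk⟩
  have hbij : ∀ i, Function.Bijective (IsLocalization.Away.map (Localization.Away (h i)) (Localization.Away (q (h i))) q (h i)) := by
    intro i
    constructor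
    · rw [injective_iff_map_eq_zero]
      intro z hz
      obtain ⟨⟨x, _, m, rfl⟩, hx⟩ := IsLocalization.surj (Submonoid.powers (h i)) z
      have h1 : algebraMap R' (Localization.Away (q (h i))) (q x) = 0 := by
        have h2 := congrArg (IsLocalization.Away.map (Localization.Away (h i)) (Localization.Away (q (h i))) q (h i)) hx
        rw [map_mul, hz, zero_mul, IsLocalization.Away.map, IsLocalization.map_eq] at h2
        exact h2.symm
      obtain ⟨⟨_, n, rfl⟩, hn⟩ := (IsLocalization.map_eq_zero_iff (Submonoid.powers (q (h i))) _ _).mp h1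
      have hqy : q (h i ^ n * x) = 0 := by rw [map_mul, map_pow]; exact hn
      obtain ⟨k, hk⟩ := hkill i (p (h i ^ n * x)) (by rw [hw, hqy, map_zero])
      have h3 : h i ^ (k + n) * x = 0 := by
        apply hext
        · rw [map_zero, pow_add, mul_assoc, map_mul, map_pow, hp i]; exact hk
        · rw [map_zero, pow_add, mul_assoc, map_mul, hqy, mul_zero]
      have h4 : algebraMap B' (Localization.Away (h i)) x = 0 :=
        (IsLocalization.map_eq_zero_iff (Submonoid.powers (h i)) _ _).mpr ⟨⟨_, k + n, rfl⟩, h3⟩
      rw [h4] at hx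
      exact ((IsLocalization.map_units (M := Submonoid.powers (h i)) (Localization.Away (h i)) ⟨_, m, rfl⟩).mul_left_eq_zero).mp hx
    · intro z
      obtain ⟨⟨r, _, m, rfl⟩, hr⟩ := IsLocalization.surj (Submonoid.powers (q (h i))) z
      obtain ⟨w, hw'⟩ := (hiso i).2 (algebraMap R (Localization.Away (s (g i))) (t r))
      obtain ⟨⟨b, _, l, rfl⟩, hb⟩ := IsLocalization.surj (Submonoid.powers (g i)) w
      have h5 := congrArg (Localization.awayMap s (g i)) hb
      rw [map_mul, hw', Localization.awayMap, IsLocalization.Away.map, IsLocalization.map_eq,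
        IsLocalization.map_eq, ← map_mul] at h5
      obtain ⟨⟨_, k, rfl⟩, hk⟩ := (IsLocalization.eq_iff_exists (Submonoid.powers (s (g i))) _).mp h5
      obtain ⟨x, hxp, hxq⟩ := hex (g i ^ k * b) (q (h i) ^ (k + l) * r) (by
        have hk' : s (g i) ^ k * (t r * s (g i ^ l)) = s (g i) ^ k * s b := hk
        rw [map_mul, map_mul, map_pow, ← hk', hq i, map_pow t, hfg i, map_pow s (g i) l]
        ring)
      refine ⟨IsLocalization.mk' (Localization.Away (h i)) x (⟨_, k + l + m, rfl⟩ : Submonoid.powers (h i)), ?_⟩
      rw [IsLocalization.Away.map, IsLocalization.map_mk', IsLocalization.mk'_eq_iff_eq_mul, hxq, map_mul, ← hr]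
      show _ = z * algebraMap R' _ (q (h i ^ (k + l + m)))
      rw [map_pow q, pow_add _ (k + l) m, map_mul]
      ring
  have hImm : ∀ i, IsOpenImmersion (Spec.map (CommRingCat.ofHom (algebraMap R' (Localization.Away (q (h i))))) ≫
      Spec.map (CommRingCat.ofHom q)) := by
    intro i
    let e := RingEquiv.ofBijective _ (hbij i)
    have : Spec.map (CommRingCat.ofHom (algebraMap R' (Localization.Away (q (h i))))) ≫ Spec.map (CommRingCat.ofHom q) =
        Spec.map (CommRingCat.ofHom e.toRingHom) ≫
        Spec.map (CommRingCat.ofHom (algebraMap B' (Localization.Away (h i)))) := by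
      simp only [← Spec.map_comp, ← CommRingCat.ofHom_comp]
      congr 2
      ext x
      show algebraMap R' _ (q x) = IsLocalization.Away.map (Localization.Away (h i)) (Localization.Away (q (h i))) q (h i) (algebraMap B' _ x)
      rw [IsLocalization.Away.map, IsLocalization.map_eq]
    rw [this]
    haveI : IsIso (CommRingCat.ofHom e.toRingHom) := e.toCommRingCatIso.isIso_hom
    haveI := IsOpenImmersion.of_isLocalization (S := Localization.Away (h i)) (h i)
    infer_instance
  let W : (Spec (CommRingCat.of R')).Opens := ⨆ i, PrimeSpectrum.basicOpen (f i)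
  let P : Fin n → W.toScheme.Opens := fun i => W.ι ⁻¹ᵁ PrimeSpectrum.basicOpen (f i)
  have hPcov : IsOpenCover P := by
    refine eq_top_iff.mpr fun w _ => ?_
    obtain ⟨i, hi⟩ := Opens.mem_iSup.mp w.2
    exact Opens.mem_iSup.mpr ⟨i, hi⟩
  refine IsOpenImmersion.of_openCover_source _ (W.toScheme.openCoverOfIsOpenCover P hPcov) ?_ fun i => ?_
  · intro a b hab
    obtain ⟨i, hi⟩ := Opens.mem_iSup.mp a.2
    have key : ∀ w : W.toScheme, (W.ι w ∈ PrimeSpectrum.basicOpen (f i)) ↔
        Spec.map (CommRingCat.ofHom q) (W.ι w) ∈ PrimeSpectrum.basicOpen (h i) := fun w => by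
      rw [← hq i]; rfl
    have hbi : W.ι b ∈ PrimeSpectrum.basicOpen (f i) := by
      rw [key, ← Scheme.Hom.comp_apply, ← hab, Scheme.Hom.comp_apply, ← key]; exact hi
    let L := Spec.map (CommRingCat.ofHom (algebraMap R' (Localization.Away (q (h i)))))
    have hL : Set.range L = ((PrimeSpectrum.basicOpen (f i) : TopologicalSpace.Opens _) : Set (PrimeSpectrum R')) := by
      rw [← hq i]; exact PrimeSpectrum.localization_away_comap_range _ _
    obtain ⟨a', ha'⟩ : W.ι a ∈ Set.range L := by rw [hL]; exact hi
    obtain ⟨b', hb'⟩ : W.ι b ∈ Set.range L := by rw [hL]; exact hbi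
    haveI : IsOpenImmersion (L ≫ Spec.map (CommRingCat.ofHom q)) := hImm i
    have heq : a' = b' := (L ≫ Spec.map (CommRingCat.ofHom q)).isOpenEmbedding.injective (by
      rw [Scheme.Hom.comp_apply, Scheme.Hom.comp_apply, ha', hb', ← Scheme.Hom.comp_apply,
        ← Scheme.Hom.comp_apply, hab])
    exact W.ι.isOpenEmbedding.injective (by rw [← ha', ← hb', heq])
  · let j := (P i).ι ≫ W.ι
    let L := Spec.map (CommRingCat.ofHom (algebraMap R' (Localization.Away (q (h i)))))
    haveI := IsOpenImmersion.of_isLocalization (S := Localization.Away (q (h i))) (q (h i))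
    have hr : Set.range j = Set.range L := by
      have h1 : Set.range L = ((PrimeSpectrum.basicOpen (f i) : TopologicalSpace.Opens _) : Set (PrimeSpectrum R')) := by
        rw [← hq i]; exact PrimeSpectrum.localization_away_comap_range _ _
      rw [h1, Scheme.Hom.comp_base, TopCat.coe_comp, Set.range_comp, Scheme.Opens.range_ι]
      have hP : ((P i : W.toScheme.Opens) : Set W.toScheme) =
          W.ι ⁻¹' ((PrimeSpectrum.basicOpen (f i) : TopologicalSpace.Opens _) : Set (PrimeSpectrum R')) := rfl
      rw [hP]
      rw [Set.image_preimage_eq_inter_range, Scheme.Opens.range_ι]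
      exact Set.inter_eq_left.mpr (le_iSup (fun i => PrimeSpectrum.basicOpen (f i)) i)
    let iso := IsOpenImmersion.isoOfRangeEq j L hr
    show IsOpenImmersion ((P i).ι ≫ W.ι ≫ Spec.map (CommRingCat.ofHom q))
    rw [← Category.assoc, show (P i).ι ≫ W.ι = iso.hom ≫ L from (IsOpenImmersion.isoOfRangeEq_hom_fac j L hr).symm,
      Category.assoc]
    haveI : IsOpenImmersion (L ≫ Spec.map (CommRingCat.ofHom q)) := hImm i
    infer_instance

end Groth.Agent.S7431
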