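import Groth.Statements.S7443
import Groth.Agent.TowerLib.Colimit

set_option autoImplicit false
universe u
open CategoryTheory AlgebraicGeometry
open Mor

namespace Groth.Agent.S7443

/-- Let `φ : A → B` be a ring map with `Spec B → Spec A` a universal homeomorphism. Then `B`, as an
`A`-algebra, is the colimit of a filtered diagram of finitely presented `A`-algebras `B_i`, and
every `Spec B_i → Spec A` is again a universal homeomorphism. (The colimit is taken in the category
of rings under `A`, over a small filtered index category.) -/
theorem result {A B : Type u} [CommRing A] [CommRing B] (φ : A →+* B)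
    (hφ : FlatMor.IsUnivHomeo (Spec.map (CommRingCat.ofHom φ))) :
    ∃ (J : Type u) (_ : SmallCategory J) (_ : IsFiltered J) (F : J ⥤ Under (CommRingCat.of A))
      (c : Limits.Cocone F) (_ : Limits.IsColimit c),
      (∀ j, (F.obj j).hom.hom.FinitePresentation ∧ FlatMor.IsUnivHomeo (Spec.map (F.obj j).hom)) ∧
      Nonempty (c.pt ≅ Under.mk (CommRingCat.ofHom φ)) := by
  letI := φ.toAlgebra
  have hB : TowerLib.Good False A B := TowerLib.good_of_isUnivHomeo hφ (fun h ↦ h.elim)
  have hsurj : Surjective (Spec.map (CommRingCat.ofHom φ)) := ((Groth.Agent.S0415.result _).mp hφ).2.2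
  refine ⟨TowerLib.Idx False A B, inferInstance, TowerLib.Idx.isFiltered hB,
    TowerLib.Idx.diagram False A B, TowerLib.Idx.cocone False A B, TowerLib.Idx.isColimit hB,
    fun j ↦ ⟨(RingHom.finitePresentation_algebraMap (A := A) (B := j.alg)).mpr inferInstance,
      TowerLib.isUnivHomeo_of_good j.good j.hom hsurj⟩, ⟨Iso.refl _⟩⟩

end Groth.Agent.S7443
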