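import Groth.Statements.S7447
import Groth.Agent.NoethApproxLib.Main
-- import your own Groth.Agent.* helpers here

set_option autoImplicit false
universe u
open CategoryTheory AlgebraicGeometry
open Opposite
open Lim

namespace Groth.Agent.S7447

/-- Noetherian approximation relative to a quasi-compact open: let `S` be quasi-compact and
quasi-separated, `V ⊆ S` a quasi-compact open, and `V = lim V_i` the limit of an inverse system,
over a nonempty directed set `I`, of schemes of finite type over `ℤ` with affine transition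
morphisms. Then there are a nonempty directed set `J`, an inverse system `(S_j)` of schemes of
finite type over `ℤ` with affine transition morphisms and `S = lim S_j`, an order preserving map `α
: J → I`, opens `V'_j ⊆ S_j` and isomorphisms `V'_j ≅ V_{α(j)}` such that: the transition maps
satisfy `g_{jj'}⁻¹(V'_{j'}) = V'_j`; `V` is the inverse image of each `V'_j` under `S → S_j` (which
identifies `V` with `lim V'_j`); the composite `V → V'_j → V_{α(j)}` is the projection; and the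
squares `V'_j → V_{α(j)} → V_{α(j')}`, `V'_j → V'_{j'} → V_{α(j')}` commute. -/
theorem result (S : Scheme.{u}) [CompactSpace S] [QuasiSeparatedSpace S]
    (V : S.Opens) (hV : IsCompact (V : Set S)) (I : Type u) [Preorder I] [IsDirected I (fun a b => a ≤ b)] [Nonempty I]
    (DV : Iᵒᵖ ⥤ Scheme.{u}) (haff : ∀ (i i' : Iᵒᵖ) (a : i ⟶ i'), IsAffineHom (DV.map a))
    (hft : ∀ i, CompactSpace (DV.obj i) ∧ LocallyOfFiniteType (Limits.IsTerminal.from specULiftZIsTerminal (DV.obj i)))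
    (cV : Limits.Cone DV) (hcV : Limits.IsLimit cV) (eV : cV.pt ≅ (V : Scheme.{u})) :
    ∃ (J : Type u) (_ : Preorder J) (_ : IsDirected J (fun a b => a ≤ b)) (_ : Nonempty J)
      (DS : Jᵒᵖ ⥤ Scheme.{u}) (cS : Limits.Cone DS) (_ : Limits.IsLimit cS) (eS : cS.pt ≅ S)
      (α : J →o I) (V' : ∀ j : J, (DS.obj (op j)).Opens)
      (φ : ∀ j : J, (V' j : Scheme.{u}) ≅ DV.obj (op (α j))),
      (∀ (j j' : Jᵒᵖ) (a : j ⟶ j'), IsAffineHom (DS.map a)) ∧
      (∀ j, CompactSpace (DS.obj j) ∧ LocallyOfFiniteType (Limits.IsTerminal.from specULiftZIsTerminal (DS.obj j))) ∧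
      (∀ (j j' : J) (h : j' ≤ j), (DS.map (homOfLE h).op) ⁻¹ᵁ (V' j') = V' j) ∧
      (∀ j : J, (eS.inv ≫ cS.π.app (op j)) ⁻¹ᵁ (V' j) = V) ∧
      (∀ j : J, ∃ ρ : (V : Scheme.{u}) ⟶ (V' j : Scheme.{u}),
        ρ ≫ (V' j).ι = V.ι ≫ eS.inv ≫ cS.π.app (op j) ∧ ρ ≫ (φ j).hom = eV.inv ≫ cV.π.app (op (α j))) ∧
      (∀ (j j' : J) (h : j' ≤ j), ∃ τ : (V' j : Scheme.{u}) ⟶ (V' j' : Scheme.{u}),
        τ ≫ (V' j').ι = (V' j).ι ≫ DS.map (homOfLE h).op ∧
        (φ j).hom ≫ DV.map (homOfLE (α.mono h)).op = τ ≫ (φ j').hom) := by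
  let π₀ : (Functor.const Iᵒᵖ).obj (V : Scheme.{u}) ⟶ DV := (Functor.const _).map eV.inv ≫ cV.π
  let A : NoethApproxLib.Approx (V : Scheme.{u}) :=
    { J := I
      D := DV
      π := π₀
      isLimit := hcV.ofIsoLimit (Limits.Cone.ext eV fun i ↦
        (eV.hom_inv_id_assoc (cV.π.app i)).symm)
      affine := fun {i j} a ↦ haff i j a
      compact := fun i ↦ (hft i).1
      lft := fun i ↦ (hft i).2 }
  obtain ⟨E⟩ := NoethApproxLib.exists_ext V.ι A
  let φ : ∀ j : E.B.J, ((E.inl j).opensRange : Scheme.{u}) ≅ DV.obj (Opposite.op (E.α j)) :=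
    fun j ↦ (E.inl j).isoOpensRange.symm
  refine ⟨E.B.J, E.B.preorder, E.B.directed, E.B.nonempty, E.B.D, E.B.cone, E.B.isLimit,
    Iso.refl S, E.α, fun j ↦ (E.inl j).opensRange, φ, fun _ _ a ↦ E.B.affine a,
    fun j ↦ ⟨E.B.compact j, E.B.lft j⟩, fun j j' h ↦ TopologicalSpace.Opens.ext (E.preimage_range h),
    fun j ↦ ?_, fun j ↦ ⟨A.proj (E.α j) ≫ (φ j).inv, ?_, ?_⟩,
    fun j j' h ↦ ⟨(φ j).hom ≫ DV.map (homOfLE (E.α.mono h)).op ≫ (φ j').inv, ?_, ?_⟩⟩
  · refine TopologicalSpace.Opens.ext ?_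
    show (Iso.refl S).inv ≫ E.B.proj j |> fun m ↦ m ⁻¹' Set.range (E.inl j) = (V : Set S)
    rw [← V.range_ι, ← E.proj_preimage j, Iso.refl_inv, Category.id_comp]
  · rw [Category.assoc, Iso.symm_inv, Scheme.Hom.isoOpensRange_hom_ι, Iso.refl_inv]
    exact (E.fac j).symm.trans (congrArg (V.ι ≫ ·) (Category.id_comp _).symm)
  · rw [Category.assoc, Iso.inv_hom_id, Category.comp_id]
    rfl
  · rw [Category.assoc, Category.assoc, Iso.symm_inv, Scheme.Hom.isoOpensRange_hom_ι]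
    show _ ≫ A.map _ ≫ _ = _
    rw [E.nat h, ← Category.assoc, Iso.symm_hom, Scheme.Hom.isoOpensRange_inv_comp]
  · rw [Category.assoc, Category.assoc, Iso.inv_hom_id, Category.comp_id]

end Groth.Agent.S7447
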