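import Groth.Statements.S7448
import Groth.Agent.RpushLib.Vanish
import Groth.Agent.RpushLib.Comp
import Groth.Agent.QCohLib.Push

set_option autoImplicit false
universe u
open Lim

namespace Groth.Agent.S7448

open AlgebraicGeometry CategoryTheory in
theorem subsingleton_of_iso {Z : Scheme.{u}} {F G : Z.Modules} (e : F ≅ G) (i : ℕ)
    (h : Subsingleton (Coh.HH Z F i)) : Subsingleton (Coh.HH Z G i) := by
  refine ⟨fun x y => ?_⟩
  have key : ∀ z : Coh.HH Z G i,
      Sheaf.H.map ((QCohLib.toAbF Z).map e.hom) i (Sheaf.H.map ((QCohLib.toAbF Z).map e.inv) i z) = z := fun z => by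
    rw [← Sheaf.H.map_comp_apply, ← Functor.map_comp, e.inv_hom_id, CategoryTheory.Functor.map_id,
      Sheaf.H.map_id_apply]
  rw [← key x, ← key y]
  exact congrArg _ (@Subsingleton.elim _ h _ _)

open AlgebraicGeometry CategoryTheory in
/-- Let `f : X → Y` be a morphism with `X`, `Y` quasi-compact and quasi-separated, and `d ≥ 0` such that
`R^i f_* F = 0` for all `i > d` and all quasi-coherent `F`. Then for every cartesian square with
base change `f' : X' → Y'` of `f`, `R^i f'_* F' = 0` for all `i > d` and all quasi-coherent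
`O_{X'}`-modules `F'`. -/
theorem result {X Y X' Y' : Scheme.{u}} (f : X ⟶ Y) [CompactSpace X]
    [QuasiSeparatedSpace X] [CompactSpace Y] [QuasiSeparatedSpace Y] (d : ℕ)
    (hvan : ∀ (M : X.Modules) (i : ℕ), Coh.IsQCoh M → d < i → Limits.IsZero ((Coh.RpushAb f i).obj (Coh.toAb M)))
    (g : Y' ⟶ Y) (f' : X' ⟶ Y') (g' : X' ⟶ X) (sq : IsPullback g' f' f g) (M' : X'.Modules) [Coh.IsQCoh M']
    (i : ℕ) (hi : d < i) : Limits.IsZero ((Coh.RpushAb f' i).obj (Coh.toAb M')) := by
  have : QuasiCompact f := quasiCompact_of_compactSpace f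
  have : QuasiSeparated f := QuasiSeparated.of_quasiSeparatedSpace f
  have : QuasiCompact f' := MorphismProperty.of_isPullback (P := @QuasiCompact) sq inferInstance
  have : QuasiSeparated f' := MorphismProperty.of_isPullback (P := @QuasiSeparated) sq inferInstance
  refine RpushLib.isZero_rpushAb f' M' i fun y => ?_
  obtain ⟨W, hW, hyW, -⟩ := exists_isAffineOpen_mem_and_subset (x := g.base y) (U := ⊤) trivial
  refine ⟨g ⁻¹ᵁ W, hyW, fun W' hW' hle => ?_⟩
  have : IsAffine (W : Scheme.{u}) := hW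
  have : IsAffine (W' : Scheme.{u}) := hW'
  let k : (W' : Scheme.{u}) ⟶ W := g.resLE W W' hle
  have hP := (isPullback_morphismRestrict f' W').flip.paste_horiz sq
  rw [← g.resLE_comp_ι hle] at hP
  let h := (isPullback_morphismRestrict f W).flip.lift ((f' ⁻¹ᵁ W').ι ≫ g') ((f' ∣_ W') ≫ k)
    (by rw [Category.assoc]; exact hP.w)
  have hq : IsPullback h (f' ∣_ W') (f ∣_ W) k := by
    refine IsPullback.of_right ?_ (IsPullback.lift_snd _ _ _ _) (isPullback_morphismRestrict f W).flip
    rw [show h ≫ (f ⁻¹ᵁ W).ι = (f' ⁻¹ᵁ W').ι ≫ g' from IsPullback.lift_fst _ _ _ _]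
    exact hP
  have : IsAffineHom h := MorphismProperty.of_isPullback (P := @IsAffineHom) hq.flip inferInstance
  have : CompactSpace (f ⁻¹ᵁ W : Scheme.{u}) :=
    isCompact_iff_compactSpace.mp (QuasiCompact.isCompact_preimage (f := f) W W.isOpen hW.isCompact)
  have : QuasiCompact (f ⁻¹ᵁ W).ι := quasiCompact_of_compactSpace _
  let N := (Scheme.Modules.pushforward h).obj (M'.restrict (f' ⁻¹ᵁ W').ι)
  have : Coh.IsQCoh N := QCohLib.isQCoh_pushforward h _
  let L := (Scheme.Modules.pushforward (f ⁻¹ᵁ W).ι).obj N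
  have : Coh.IsQCoh L := QCohLib.isQCoh_pushforward _ _
  have h0 : Limits.IsZero ((Coh.Rpush f i).obj L) := by
    obtain ⟨e⟩ := RpushLib.nonempty_toAb_rpush_iso f L i
    exact RpushLib.isZero_of_isZero_toAb ((hvan L i inferInstance hi).of_iso e)
  have : Subsingleton Γ((Coh.Rpush f i).obj L, W) := by
    refine subsingleton_of_forall_eq 0 fun x => ?_
    have h1 := congrArg (fun φ => φ.app W x) (h0.eq_of_src (𝟙 _) 0)
    simpa using h1
  have hL : Subsingleton (Coh.HHon X L (f ⁻¹ᵁ W) i) :=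
    (RpushLib.rpushSectionsEquiv f L i hW).symm.subsingleton
  have hN : Subsingleton (Coh.HH (f ⁻¹ᵁ W : Scheme.{u}) N i) := by
    let e : L.restrict (f ⁻¹ᵁ W).ι ≅ N :=
      asIso ((Scheme.Modules.restrictAdjunction (f ⁻¹ᵁ W).ι).counit.app N)
    exact subsingleton_of_iso e i hL
  obtain ⟨e⟩ := QCohLib.nonempty_HH_push h (M'.restrict (f' ⁻¹ᵁ W').ι) i
  exact @Equiv.subsingleton _ _ e.toEquiv hN

end Groth.Agent.S7448
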