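import Groth.Statements.S7451
import Mathlib
-- import your own Groth.Agent.* helpers here

set_option autoImplicit false
universe u
open CategoryTheory AlgebraicGeometry
open Desc

namespace Groth.Agent.S7451

/-- Let `k` be a field and `n ≥ 2`. For `i ≠ j` and `d ≥ 0` let `T_{i,j,d}` be the automorphism of
`𝔸^n_k` given by `x_i ↦ x_i + x_j^d` and fixing the other coordinates. Let `W ⊆ 𝔸^n_k` be a nonempty
open subscheme with `T_{i,j,d}⁻¹(W) = W` for all `i, j, d`. Then either `W = 𝔸^n_k`, or `k` has
prime characteristic `p` and the complement `𝔸^n_k ∖ W` consists of finitely many closed points,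
each of whose coordinates `a` in the residue field satisfies `a^(p^m) = a` for some `m ≥ 1`
(equivalently, is algebraic over `𝔽_p`). -/
theorem result (k : Type u) [Field k] (n : ℕ) (hn : 2 ≤ n)
    (W : (Spec (CommRingCat.of (MvPolynomial (Fin n) k))).Opens)
    (hW : (W : Set ↥(Spec (CommRingCat.of (MvPolynomial (Fin n) k)))).Nonempty)
    (hinv : ∀ (i j : Fin n), i ≠ j → ∀ d : ℕ,
      (Spec.map (CommRingCat.ofHom (MvPolynomial.aeval (R := k)
        (Function.update MvPolynomial.X i (MvPolynomial.X i + MvPolynomial.X j ^ d) :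
          Fin n → MvPolynomial (Fin n) k)).toRingHom)) ⁻¹ᵁ W = W) :
    W = ⊤ ∨ ∃ p : ℕ, p.Prime ∧ CharP k p ∧ ((W : Set ↥(Spec (CommRingCat.of (MvPolynomial (Fin n) k))))ᶜ).Finite ∧
      ∀ x : ↥(Spec (CommRingCat.of (MvPolynomial (Fin n) k))),
        x ∉ (W : Set ↥(Spec (CommRingCat.of (MvPolynomial (Fin n) k)))) →
        IsClosed ({x} : Set ↥(Spec (CommRingCat.of (MvPolynomial (Fin n) k)))) ∧ ∀ i : Fin n, ∃ m : ℕ, 0 < m ∧
          (algebraMap (MvPolynomial (Fin n) k) x.asIdeal.ResidueField (MvPolynomial.X i)) ^ (p ^ m) =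
            algebraMap (MvPolynomial (Fin n) k) x.asIdeal.ResidueField (MvPolynomial.X i) := by
  classical
  set R := MvPolynomial (Fin n) k with hR
  let Z : Set (PrimeSpectrum R) := {x | x ∉ (W : Set ↥(Spec (CommRingCat.of R)))}
  have hZclosed : IsClosed Z := isClosed_compl_iff.mpr W.isOpen
  let I : Ideal R := PrimeSpectrum.vanishingIdeal Z
  have hZI : ∀ x : PrimeSpectrum R, x ∈ Z ↔ I ≤ x.asIdeal := by
    intro x
    have h : PrimeSpectrum.zeroLocus (I : Set R) = Z := by
      rw [PrimeSpectrum.zeroLocus_vanishingIdeal_eq_closure, hZclosed.closure_eq]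
    rw [← h, PrimeSpectrum.mem_zeroLocus]
    exact Iff.rfl
  -- invariance of the ideal
  have hT : ∀ (i j : Fin n), i ≠ j → ∀ (d : ℕ), ∀ f ∈ I, MvPolynomial.aeval (R := k)
      (Function.update MvPolynomial.X i (MvPolynomial.X i + MvPolynomial.X j ^ d) : Fin n → R) f ∈ I := by
    intro i j hij d f hf
    rw [PrimeSpectrum.mem_vanishingIdeal] at hf ⊢
    intro x hx
    refine hf (PrimeSpectrum.comap (MvPolynomial.aeval (R := k)
      (Function.update MvPolynomial.X i (MvPolynomial.X i + MvPolynomial.X j ^ d) : Fin n → R)).toRingHom x) ?_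
    intro hW'
    apply hx
    have h := hinv i j hij d
    rw [← h]
    exact hW'
  -- a point in every direction with an infinite orbit spans the line
  have hline : ∀ (K : Type u) [Field K] [Algebra k K] (a : Fin n → K),
      (∀ f ∈ I, MvPolynomial.aeval a f = 0) → ∀ i : Fin n, ∀ S : Set K, S.Infinite →
      (∀ s ∈ S, ∀ f ∈ I, MvPolynomial.aeval (Function.update a i (a i + s)) f = 0) →
      ∀ t : K, ∀ f ∈ I, MvPolynomial.aeval (Function.update a i t) f = 0 := by
    intro K _ _ a ha i S hS hmem t f hf
    set g : Polynomial K := MvPolynomial.aeval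
      (Function.update (fun l => Polynomial.C (a l)) i Polynomial.X) f with hg
    have heval : ∀ u : K, g.eval u = MvPolynomial.aeval (Function.update a i u) f := by
      intro u
      rw [hg, ← Polynomial.coe_aeval_eq_eval, ← AlgHom.restrictScalars_apply k (Polynomial.aeval u)]
      rw [MvPolynomial.comp_aeval_apply]
      congr 2
      funext l
      by_cases hl : l = i
      · subst hl; simp
      · simp [Function.update_of_ne hl]
    have hg0 : g = 0 := by
      refine Polynomial.eq_zero_of_infinite_isRoot g ((hS.image (add_right_injective (a i)).injOn).mono ?_)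
      rintro _ ⟨s, hs, rfl⟩
      show g.eval _ = 0
      rw [heval]
      exact hmem s hs f hf
    rw [← heval, hg0, Polynomial.eval_zero]
  -- orbits
  have horbit : ∀ (K : Type u) [Field K] [Algebra k K] (a : Fin n → K),
      (∀ f ∈ I, MvPolynomial.aeval a f = 0) → ∀ (i j : Fin n), i ≠ j → ∀ (d m : ℕ),
      ∀ f ∈ I, MvPolynomial.aeval (Function.update a i (a i + (m : K) * a j ^ d)) f = 0 := by
    intro K _ _ a ha i j hij d m
    induction m with
    | zero => intro f hf; simpa using ha f hf
    | succ m ih =>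
      intro f hf
      have h := ih _ (hT i j hij d f hf)
      rw [MvPolynomial.comp_aeval_apply] at h
      rw [← h]
      congr 2
      funext l
      by_cases hl : l = i
      · subst hl
        simp [Function.update_of_ne hij.symm]
        ring
      · simp [Function.update_of_ne hl]
  -- points of the complement
  obtain ⟨f₀, hf₀I, hf₀⟩ : ∃ f ∈ I, f ≠ 0 := by
    by_contra h
    push Not at h
    obtain ⟨w, hw⟩ := hW
    exact ((hZI w).2 (fun f hf => by rw [h f hf]; exact zero_mem _)) hw
  have hgeneric : ∀ x ∈ Z, ∀ (i₀ : Fin n), (∀ (K : Type u) [Field K] [Algebra k K] (a : Fin n → K),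
      (∀ f ∈ I, MvPolynomial.aeval a f = 0) → ∀ (ψ : x.asIdeal.ResidueField →+* K),
      a i₀ = ψ (algebraMap R x.asIdeal.ResidueField (MvPolynomial.X i₀)) →
      ∀ i, i ≠ i₀ → ∀ t : K, ∀ f ∈ I, MvPolynomial.aeval (Function.update a i t) f = 0) → False := by
    intro x hx i₀ hdir
    let κ := x.asIdeal.ResidueField
    let K := FractionRing (MvPolynomial (Fin n) κ)
    let ψ : κ →+* K := (algebraMap (MvPolynomial (Fin n) κ) K).comp MvPolynomial.C
    letI : Algebra k K := (ψ.comp (algebraMap k κ)).toAlgebra
    let a₀ : Fin n → K := fun l => ψ (algebraMap R κ (MvPolynomial.X l))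
    let ψ' : κ →ₐ[k] K := { ψ with commutes' := fun c => rfl }
    have ha₀ : ∀ f ∈ I, MvPolynomial.aeval a₀ f = 0 := by
      intro f hf
      have h : MvPolynomial.aeval a₀ = ψ'.comp (IsScalarTower.toAlgHom k R κ) := by
        refine MvPolynomial.algHom_ext fun l => ?_
        rw [MvPolynomial.aeval_X]
        rfl
      rw [h]
      show ψ (algebraMap R κ f) = 0
      rw [Ideal.algebraMap_residueField_eq_zero.2 ((hZI x).1 hx hf), map_zero]
    let b : Fin n → K := fun l => algebraMap (MvPolynomial (Fin n) κ) K (MvPolynomial.X l)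
    have hstep : ∀ s : Finset (Fin n), i₀ ∉ s →
        ∀ f ∈ I, MvPolynomial.aeval (fun l => if l ∈ s then b l else a₀ l) f = 0 := by
      intro s
      induction s using Finset.induction with
      | empty => intro _; simpa using ha₀
      | @insert i s hi ih =>
        intro hs
        rw [Finset.mem_insert, not_or] at hs
        intro f hf
        have h := hdir K (fun l => if l ∈ s then b l else a₀ l) (ih hs.2) ψ (if_neg hs.2) i
          (Ne.symm hs.1) (b i) f hf
        rw [← h]
        congr 2
        funext l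
        by_cases hl : l = i
        · subst hl; simp
        · simp [Function.update_of_ne hl, hl]
    have hc : ∀ f ∈ I, MvPolynomial.aeval (Function.update b i₀ (a₀ i₀)) f = 0 := by
      intro f hf
      rw [← hstep (Finset.univ.erase i₀) (Finset.notMem_erase _ _) f hf]
      congr 2
      funext l
      by_cases hl : l = i₀
      · subst hl; simp
      · simp [Function.update_of_ne hl, hl]
    obtain ⟨i₁, hi₁⟩ : ∃ i₁ : Fin n, i₁ ≠ i₀ := by
      by_contra h
      push Not at h
      have h0 := h ⟨0, by omega⟩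
      have h1 := h ⟨1, by omega⟩
      rw [← h1] at h0
      simp at h0
    have hinfb : (Set.range fun d : ℕ => b i₁ ^ d).Infinite := by
      refine Set.infinite_range_of_injective fun d e hde => ?_
      simp only [b, ← map_pow] at hde
      have := IsFractionRing.injective (MvPolynomial (Fin n) κ) K hde
      rw [MvPolynomial.X_pow_eq_monomial, MvPolynomial.X_pow_eq_monomial] at this
      have := MvPolynomial.monomial_left_injective (one_ne_zero (α := κ)) this
      simpa using congrArg (fun v : Fin n →₀ ℕ => v i₁) this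
    have hb := hline K _ hc i₀ _ hinfb (by
      rintro _ ⟨d, rfl⟩ f hf
      have h := horbit K _ hc i₀ i₁ hi₁.symm d 1 f hf
      simpa [Function.update_of_ne hi₁] using h) (b i₀) f₀ hf₀I
    rw [Function.update_idem, Function.update_eq_self] at hb
    apply hf₀
    apply MvPolynomial.map_injective (algebraMap k κ) (algebraMap k κ).injective
    rw [map_zero]
    apply IsFractionRing.injective (MvPolynomial (Fin n) κ) K
    rw [map_zero, ← hb, MvPolynomial.aeval_def, show algebraMap k K = ψ.comp (algebraMap k κ) from rfl,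
      ← MvPolynomial.eval₂_map]
    exact RingHom.congr_fun (MvPolynomial.ringHom_ext
      (f := algebraMap (MvPolynomial (Fin n) κ) K) (g := MvPolynomial.eval₂Hom ψ b)
      (fun c => by simp [ψ]) (fun l => by simp [b])) _
  obtain ⟨p, hp⟩ := CharP.exists k
  rcases CharP.char_is_prime_or_zero k p with hpp | rfl
  swap
  · left
    haveI := CharP.charP_to_charZero k
    ext x
    simp only [TopologicalSpace.Opens.coe_top, Set.mem_univ, iff_true]
    by_contra hx
    refine hgeneric x hx ⟨0, by omega⟩ fun K _ _ a ha ψ _ i _ t => ?_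
    haveI : CharZero K := charZero_of_injective_algebraMap (algebraMap k K).injective
    obtain ⟨j, hj⟩ : ∃ j, i ≠ j := by
      rcases eq_or_ne i ⟨0, by omega⟩ with rfl | h
      · exact ⟨⟨1, by omega⟩, by simp⟩
      · exact ⟨_, h⟩
    refine hline K a ha i _ (Set.infinite_range_of_injective Nat.cast_injective) ?_ t
    rintro _ ⟨m, rfl⟩ f hf
    simpa using horbit K a ha i j hj 0 m f hf
  right
  haveI := Fact.mk hpp
  have hcoord : ∀ x ∈ Z, ∀ i : Fin n, ∃ m : ℕ, 0 < m ∧
      (algebraMap R x.asIdeal.ResidueField (MvPolynomial.X i)) ^ (p ^ m) =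
        algebraMap R x.asIdeal.ResidueField (MvPolynomial.X i) := by
    intro x hx i
    set c := algebraMap R x.asIdeal.ResidueField (MvPolynomial.X i) with hc
    have hfin : ¬ (Set.range fun d : ℕ => c ^ d).Infinite := by
      intro hinf
      refine hgeneric x hx i fun K _ _ a ha ψ hψ l hl t => ?_
      have hinf' : (Set.range fun d : ℕ => a i ^ d).Infinite := by
        have h := hinf.image ψ.injective.injOn
        rw [← Set.range_comp] at h
        convert h using 3 with d
        show a i ^ d = ψ (c ^ d)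
        rw [map_pow, hψ]
      refine hline K a ha l _ hinf' ?_ t
      rintro _ ⟨d, rfl⟩ f hf
      simpa using horbit K a ha l i hl d 1 f hf
    by_cases hc0 : c = 0
    · exact ⟨1, one_pos, by rw [hc0, zero_pow (by simp [hpp.ne_zero])]⟩
    obtain ⟨e, he, hce⟩ : ∃ e, 0 < e ∧ c ^ e = 1 := by
      have hni : ¬ Function.Injective (fun d : ℕ => c ^ d) := fun h =>
        hfin (Set.infinite_range_of_injective h)
      rw [Function.not_injective_iff] at hni
      obtain ⟨d, e, hde, hne⟩ := hni
      rcases Nat.lt_or_gt_of_ne hne with h | h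
      · exact ⟨e - d, by omega, by rw [pow_sub₀ _ hc0 h.le, ← hde, mul_inv_cancel₀ (pow_ne_zero _ hc0)]⟩
      · exact ⟨d - e, by omega, by rw [pow_sub₀ _ hc0 h.le, hde, mul_inv_cancel₀ (pow_ne_zero _ hc0)]⟩
    haveI : CharP x.asIdeal.ResidueField p :=
      charP_of_injective_algebraMap (algebraMap k x.asIdeal.ResidueField).injective p
    obtain ⟨v, e', hndvd, rfl⟩ := Nat.exists_eq_pow_mul_and_not_dvd he.ne' p hpp.ne_one
    have hce' : c ^ e' = 1 := by
      refine (iterateFrobenius_inj x.asIdeal.ResidueField p v) ?_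
      rw [iterateFrobenius_def, iterateFrobenius_def, one_pow, ← pow_mul, mul_comm e' (p ^ v), hce]
    have he' : e' ≠ 0 := by rintro rfl; simp at he
    refine ⟨e'.totient, Nat.totient_pos.2 (Nat.pos_of_ne_zero he'), ?_⟩
    have hmod : p ^ e'.totient ≡ 1 [MOD e'] :=
      Nat.ModEq.pow_totient ((Nat.Prime.coprime_iff_not_dvd hpp).2 hndvd)
    obtain ⟨q, hq⟩ := (Nat.modEq_iff_dvd' (Nat.one_le_iff_ne_zero.2 (pow_ne_zero _ hpp.ne_zero))).1 hmod.symm
    have hpe : p ^ e'.totient = 1 + e' * q := by
      have : 1 ≤ p ^ e'.totient := Nat.one_le_iff_ne_zero.2 (pow_ne_zero _ hpp.ne_zero)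
      omega
    rw [hpe, pow_add, pow_one, pow_mul, hce', one_pow, mul_one]
  have hmax : ∀ x ∈ Z, x.asIdeal.IsMaximal := by
    intro x hx
    haveI : Algebra.IsIntegral k (R ⧸ x.asIdeal) := by
      refine ⟨fun z => ?_⟩
      obtain ⟨z, rfl⟩ := Ideal.Quotient.mk_surjective z
      induction z using MvPolynomial.induction_on with
      | C c =>
        have : (Ideal.Quotient.mk x.asIdeal (MvPolynomial.C c)) = algebraMap k (R ⧸ x.asIdeal) c := rfl
        rw [this]; exact isIntegral_algebraMap
      | add a b ha hb => rw [map_add]; exact ha.add hb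
      | mul_X a i ha =>
        rw [map_mul]
        refine ha.mul ?_
        obtain ⟨m, hm, hcm⟩ := hcoord x hx i
        refine ⟨Polynomial.X ^ (p ^ m) - Polynomial.X,
          Polynomial.monic_X_pow_sub (by rw [Polynomial.degree_X]; exact_mod_cast Nat.one_lt_pow hm.ne' hpp.one_lt), ?_⟩
        rw [Polynomial.eval₂_sub, Polynomial.eval₂_X_pow, Polynomial.eval₂_X, sub_eq_zero, ← map_pow,
          Ideal.Quotient.eq, ← Ideal.algebraMap_residueField_eq_zero, map_sub, map_pow, hcm, sub_self]
    exact Ideal.Quotient.maximal_of_isField _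
      (isField_of_isIntegral_of_isField' (Field.toIsField k))
  refine ⟨p, hpp, hp, ?_, fun x hx => ⟨(PrimeSpectrum.isClosed_singleton_iff_isMaximal x).2 (hmax x hx), hcoord x hx⟩⟩
  show Z.Finite
  refine ((Ideal.finite_minimalPrimes_of_isNoetherianRing R I).preimage
    (f := PrimeSpectrum.asIdeal) (fun a _ b _ h => PrimeSpectrum.ext h)).subset fun x hx => ?_
  obtain ⟨q, hq, hqx⟩ := Ideal.exists_minimalPrimes_le ((hZI x).1 hx)
  haveI := hq.1.1
  have hqZ : (⟨q, hq.1.1⟩ : PrimeSpectrum R) ∈ Z := (hZI _).2 hq.1.2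
  show x.asIdeal ∈ I.minimalPrimes
  rw [← (hmax _ hqZ).eq_of_le x.isPrime.ne_top hqx]
  exact hq

end Groth.Agent.S7451
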