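import Groth.Statements.S7457
import Groth.Agent.GrpdLib.Scheme
-- import your own Groth.Agent.* helpers here

set_option autoImplicit false
universe u
open CategoryTheory CategoryTheory.Limits AlgebraicGeometry
open Grpd

namespace Groth.Agent.S7457


/-- Let (U, R, s, t, c) be a groupoid scheme over S. Let φ : R x_(t,U,t) R -> R x_(s,U,t) R be the
morphism sending a pair (a, b) with the same target to (a, a^{-1} composed with b), that is, the
morphism whose first component is the first projection and whose second component is c applied to (i
composed after the first projection, second projection). Then φ is an isomorphism and composed with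
c it gives the second projection. Moreover the square with sides c, the second projection R
x_(s,U,t) R -> R, s and s is cartesian. (A groupoid scheme carries U, R, s, t, c, e, i over S with
the groupoid axioms on T-points; c is defined on the fibre product of s and t and sends a pair (a,
b) with s(a) = t(b) to a composed with b.) -/
theorem result (S : Scheme.{u}) (G : Grpd.GroupoidScheme S) : (∀ φ : pullback G.t G.t ⟶ pullback G.s G.t, φ ≫ pullback.fst G.s G.t = pullback.fst G.t G.t → φ ≫ pullback.snd G.s G.t = pullback.lift (pullback.fst G.t G.t ≫ G.i) (pullback.snd G.t G.t) ((Category.assoc _ _ _).trans ((congrArg (fun x => pullback.fst G.t G.t ≫ x) G.i_s).trans pullback.condition)) ≫ G.c → IsIso φ ∧ φ ≫ G.c = pullback.snd G.t G.t) ∧ IsPullback G.c (pullback.snd G.s G.t) G.s G.s := by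
  constructor
  · intro φ h₁ h₂
    let w : pullback G.s G.t ⟶ pullback G.t G.t :=
      pullback.lift (pullback.fst G.s G.t)
        (pullback.lift (pullback.fst G.s G.t) (pullback.snd G.s G.t) pullback.condition ≫ G.c)
        (G.comp_t _ _ _).symm
    have hc : φ ≫ G.c = pullback.snd G.t G.t := by
      have hφ : φ = pullback.lift (φ ≫ pullback.fst G.s G.t) (φ ≫ pullback.snd G.s G.t)
          (by rw [Category.assoc, Category.assoc, pullback.condition]) := by
        apply pullback.hom_ext
        · rw [pullback.lift_fst]
        · rw [pullback.lift_snd]
      rw [hφ, GrpdLib.comp_congr G _ h₁ h₂]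
      rw [← G.assoc (pullback.fst G.t G.t) (pullback.fst G.t G.t ≫ G.i) (pullback.snd G.t G.t)
        (by rw [Category.assoc, G.i_t])
        (by rw [Category.assoc, G.i_s, pullback.condition]),
        GrpdLib.comp_congr G _ (G.comp_i _) rfl]
      conv_rhs => rw [← G.e_comp (pullback.snd G.t G.t)]
      exact GrpdLib.comp_congr G _ (by rw [reassoc_of% pullback.condition]) rfl
    refine ⟨⟨w, ?_, ?_⟩, hc⟩
    · apply pullback.hom_ext
      · rw [Category.assoc, pullback.lift_fst, Category.id_comp]; exact h₁
      · rw [Category.assoc, pullback.lift_snd, Category.id_comp, ← Category.assoc]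
        rw [show φ ≫ pullback.lift (pullback.fst G.s G.t) (pullback.snd G.s G.t) pullback.condition
          = φ by
            conv_rhs => rw [← Category.comp_id φ]
            congr 1
            apply pullback.hom_ext <;> simp]
        exact hc
    · apply pullback.hom_ext
      · rw [Category.assoc, h₁, pullback.lift_fst, Category.id_comp]
      · rw [Category.assoc, h₂, Category.id_comp, ← Category.assoc]
        set a := pullback.fst G.s G.t
        set b := pullback.snd G.s G.t
        have hw : w ≫ pullback.lift (pullback.fst G.t G.t ≫ G.i) (pullback.snd G.t G.t)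
            (by rw [Category.assoc, G.i_s, pullback.condition]) =
            pullback.lift (a ≫ G.i) (pullback.lift a b pullback.condition ≫ G.c)
              (by rw [Category.assoc, G.i_s, G.comp_t]) := by
          apply pullback.hom_ext
          · rw [Category.assoc, pullback.lift_fst, pullback.lift_fst, ← Category.assoc,
              pullback.lift_fst]
          · rw [Category.assoc, pullback.lift_snd, pullback.lift_snd, pullback.lift_snd]
        rw [hw, ← G.assoc (a ≫ G.i) a b (by rw [Category.assoc, G.i_s]) pullback.condition,
          GrpdLib.comp_congr G _ (G.i_comp a) rfl]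
        conv_rhs => rw [← G.e_comp b]
        exact GrpdLib.comp_congr G _ (by rw [reassoc_of% pullback.condition]) rfl
  · have hpb : pullback.lift (pullback.fst G.s G.t) (pullback.snd G.s G.t) pullback.condition =
        𝟙 _ := by apply pullback.hom_ext <;> simp
    have hcs : G.c ≫ G.s = pullback.snd G.s G.t ≫ G.s := by
      conv_lhs => rw [← Category.id_comp G.c, ← hpb]
      exact G.comp_s _ _ _
    refine IsPullback.of_isLimit' ⟨hcs⟩ (PullbackCone.IsLimit.mk _
      (fun c => pullback.lift (pullback.lift c.fst (c.snd ≫ G.i)
        (by rw [Category.assoc, G.i_t, c.condition]) ≫ G.c) c.snd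
        (by rw [G.comp_s, Category.assoc, G.i_s]))
      (fun c => ?_) (fun c => pullback.lift_snd _ _ _) (fun c m h₁ h₂ => ?_))
    · rw [G.assoc c.fst (c.snd ≫ G.i) c.snd (by rw [Category.assoc, G.i_t, c.condition])
        (by rw [Category.assoc, G.i_s]), GrpdLib.comp_congr G _ rfl (G.i_comp c.snd)]
      conv_rhs => rw [← G.comp_e c.fst]
      exact GrpdLib.comp_congr G _ rfl (by rw [← reassoc_of% c.condition])
    · apply pullback.hom_ext
      · rw [pullback.lift_fst]
        set a := m ≫ pullback.fst G.s G.t with ha
        have hm : m = pullback.lift a c.snd (by rw [ha, ← h₂, Category.assoc, Category.assoc,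
            pullback.condition]) := by
          apply pullback.hom_ext
          · rw [pullback.lift_fst]
          · rw [pullback.lift_snd]; exact h₂
        have hf : c.fst = pullback.lift a c.snd (by rw [ha, ← h₂, Category.assoc, Category.assoc,
            pullback.condition]) ≫ G.c := by rw [← hm]; exact h₁.symm
        rw [GrpdLib.comp_congr G _ hf rfl, G.assoc a c.snd (c.snd ≫ G.i)
          (by rw [ha, ← h₂, Category.assoc, Category.assoc, pullback.condition])
          (by rw [Category.assoc, G.i_t]), GrpdLib.comp_congr G _ rfl (G.comp_i c.snd)]
        conv_lhs => rw [← G.comp_e a]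
        exact GrpdLib.comp_congr G _ rfl (by
          rw [ha, ← h₂, Category.assoc, Category.assoc, reassoc_of% pullback.condition])
      · rw [pullback.lift_snd]; exact h₂

end Groth.Agent.S7457
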