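import Groth.Statements.S7459
import Groth.Agent.GrpFieldLib.Extra
open Groth.Agent.GrpField Groth.Agent.HomogDense
-- import your own Groth.Agent.* helpers here

set_option autoImplicit false
universe u
open CategoryTheory MonoidalCategory CartesianMonoidalCategory MonObj GrpObj AlgebraicGeometry
open GrpSch

namespace Groth.Agent.S7459

/-- Let G be a group scheme over a field k, W an open subscheme of G and f : T -> G a morphism of
schemes (T becomes a k-scheme through f). Then the image of the composition T x_k W -> G x_k G -> G,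
the second map being the multiplication, is open. -/
theorem result (K : Type u) [Field K] (G : Over (Spec (CommRingCat.of K))) [GrpObj G] (W : G.left.Opens) (T : Scheme.{u}) (f : T ⟶ G.left) : IsOpen (Set.range ⇑(((Over.homMk f rfl : Over.mk (f ≫ G.hom) ⟶ G) ⊗ₘ (Over.homMk W.ι rfl : Over.mk (W.ι ≫ G.hom) ⟶ G)) ≫ μ[G]).left) := by
  let jW : Over.mk (W.ι ≫ G.hom) ⟶ G := Over.homMk W.ι rfl
  let g : Over.mk (f ≫ G.hom) ⟶ G := Over.homMk f rfl
  haveI : IsOpenImmersion jW.left := inferInstanceAs (IsOpenImmersion W.ι)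
  haveI := FinHom.isOpenImmersion_whiskerLeft (Over.mk (f ≫ G.hom)) jW
  haveI : UniversallyOpen ((g ▷ G) ≫ (GrpShear.mulAction G).act).left :=
    GrpShear.act_left_prop _ @UniversallyOpen g (universallyOpen_field _)
  have e : ((g ⊗ₘ jW) ≫ μ[G]).left =
      (Over.mk (f ≫ G.hom) ◁ jW).left ≫ ((g ▷ G) ≫ (GrpShear.mulAction G).act).left := by
    rw [← Over.comp_left, tensorHom_def', Category.assoc]
    rfl
  haveI : UniversallyOpen ((g ⊗ₘ jW) ≫ μ[G]).left := by rw [e]; infer_instance
  exact ((g ⊗ₘ jW) ≫ μ[G]).left.isOpenMap.isOpen_range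
end Groth.Agent.S7459
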