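import Groth.Statements.S7464
import Groth.Agent.GrpdLib.InvOpen

set_option autoImplicit false
universe u
open CategoryTheory CategoryTheory.Limits AlgebraicGeometry
open Grpd

namespace Groth.Agent.S7464

/-- Let (U, R, s, t, c) be a groupoid scheme over S with s and t finite, and let u, u' be distinct
points of U in the same orbit, say u = s(r) and u' = t(r). Then u' does not lie in the closure of u.
(The published statement calls u, u' points of R; this row takes them to be points of U, as the
orbit condition and the proof require.) (A groupoid scheme carries U, R, s, t, c, e, i over S with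
the groupoid axioms on T-points; c is defined on the fibre product of s and t and sends a pair (a,
b) with s(a) = t(b) to a composed with b.) -/
theorem result (S : Scheme.{u}) (G : Grpd.GroupoidScheme S) [IsFinite G.s] [IsFinite G.t] (r : G.R) (hne : G.s r ≠ G.t r) : ¬ (G.s r ⤳ G.t r) := by
  intro hsp
  let P : Set G.U := {y | GrpdLib.Rel G (G.s r) y ∧ ∃ x, GrpdLib.Rel G x y ∧ x ⤳ y ∧ x ≠ y}
  have hfin : P.Finite := (GrpdLib.finite_rel G (G.s r)).subset fun y hy => hy.1
  have step : ∀ y ∈ P, ∃ z ∈ P, y ⤳ z ∧ y ≠ z := by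
    rintro y ⟨hy, x, ⟨q, rfl, rfl⟩, hxy, hne'⟩
    obtain ⟨q', hqq', hq'⟩ := G.s.isClosedMap.specializingMap hxy
    have hyz : GrpdLib.Rel G (G.t q) (G.t q') := ⟨q', hq', rfl⟩
    have hne'' : G.t q ≠ G.t q' := by
      intro heq
      have hfd : DiscreteTopology (G.t ⁻¹' {G.t q}) := isDiscrete_iff_discreteTopology.mp
        (G.t.isDiscrete_preimage_singleton _)
      have hs : (⟨q, rfl⟩ : G.t ⁻¹' {G.t q}) ⤳ ⟨q', heq.symm⟩ := subtype_specializes_iff _ _ |>.mpr hqq'
      exact hne' (by rw [← hq']; exact congrArg G.s (congrArg Subtype.val hs.eq))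
    exact ⟨G.t q', ⟨GrpdLib.Rel.trans G hy hyz, G.t q, hyz, hqq'.map G.t.continuous, hne''⟩,
      hqq'.map G.t.continuous, hne''⟩
  have hne0 : P.Nonempty :=
    ⟨G.t r, ⟨r, rfl, rfl⟩, G.s r, ⟨r, rfl, rfl⟩, hsp, hne⟩
  let _ : Preorder G.U := specializationPreorder G.U
  obtain ⟨m, hm, hmax⟩ := hfin.exists_minimal hne0
  obtain ⟨z, hz, hmz, hmz'⟩ := step m hm
  exact hmz' (hmz.antisymm (hmax hz hmz)).eq

end Groth.Agent.S7464
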