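import Groth.Statements.S7479
import Groth.Agent.PhLib.Scheme

set_option autoImplicit false
universe w u
open HTop

namespace Groth.Agent.S7479

open CategoryTheory CategoryTheory.Limits AlgebraicGeometry in
/-- Let T be an affine scheme. (1) For every open covering of T there is a standard ph covering of T
that refines it. (2) If E is a standard ph covering of T and, for each member U_j of E, F_j is a
standard ph covering of U_j, then some standard ph covering of T refines the composite family of all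
W_ji -> T. -/
theorem result {T : Scheme.{u}} [IsAffine T] : (∀ 𝒰 : T.OpenCover, ∃ F : PreZeroHypercover.{0} T, HTop.IsStandardPh F ∧ Nonempty (F.Hom 𝒰.toPreZeroHypercover)) ∧ (∀ (E : PreZeroHypercover.{w} T), HTop.IsStandardPh E → ∀ F : ∀ j, PreZeroHypercover.{w} (E.X j), (∀ j, HTop.IsStandardPh (F j)) → ∃ F' : PreZeroHypercover.{0} T, HTop.IsStandardPh F' ∧ Nonempty (F'.Hom (E.bind F))) := by
  refine ⟨fun 𝒰 => PhLib.exists_standardPh_hom _ (PhLib.Dom.of_local (PhLib.stable_lifts _ _) fun t => ?_), fun E hE F hF => PhLib.exists_standardPh_hom _ ?_⟩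
  · obtain ⟨i, x, hx⟩ := 𝒰.exists_eq t
    obtain ⟨V, hV, htV, hle⟩ := AlgebraicGeometry.exists_isAffineOpen_mem_and_subset
      (U := (𝒰.f i).opensRange) (x := t) ⟨x, hx⟩
    refine ⟨V, hV.isCompact, htV, PhLib.Dom.of_good fun v => ⟨⊤, trivial, i,
      AlgebraicGeometry.IsOpenImmersion.lift (𝒰.f i) ((⊤ : AlgebraicGeometry.Scheme.Opens _).ι ≫ V.ι) ?_, ?_⟩⟩
    · rintro _ ⟨a, rfl⟩
      exact hle a.1.2
    · rw [AlgebraicGeometry.IsOpenImmersion.lift_fac, CategoryTheory.Category.comp_id]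
  · refine PhLib.Dom.trans (PhLib.stable_lifts E (𝟙 T)) (PhLib.stable_lifts (E.bind F) (𝟙 T))
      (PhLib.Dom.of_standardPh (PhLib.stable_lifts E (𝟙 T)) hE fun j => ⟨j, 𝟙 _, by simp⟩) fun V k hV ⟨i, l, hl⟩ => ?_
    haveI := (hF i).isAffine
    refine PhLib.Dom.mono ?_ ((PhLib.Dom.of_standardPh (PhLib.stable_lifts (F i) (𝟙 _)) (hF i)
      fun j => ⟨j, 𝟙 _, by simp⟩).baseChange (PhLib.stable_lifts _ _) l)
    rintro W m ⟨j, n, hn⟩
    refine ⟨⟨i, j⟩, n, ?_⟩
    show n ≫ (F i).f j ≫ E.f i = ((m ≫ k) ≫ 𝟙 T)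
    rw [← CategoryTheory.Category.assoc, hn, CategoryTheory.Category.comp_id, CategoryTheory.Category.assoc, hl]
    simp

end Groth.Agent.S7479
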