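import Groth.Statements.S7484
import Groth.Agent.DescLib.FinLocFree
import Mathlib.AlgebraicGeometry.AlgClosed.Basic
-- import your own Groth.Agent.* helpers here

set_option autoImplicit false
open CategoryTheory CategoryTheory.Limits AlgebraicGeometry
universe u
open Desc

open CategoryTheory CategoryTheory.Limits AlgebraicGeometry
set_option backward.isDefEq.respectTransparency false
set_option backward.isDefEq.respectTransparency.types false
set_option linter.style.haveILetI false
namespace Groth.Agent.S7484

/-- Over a geometric point, the points of a finite base change are bounded by geometric points. -/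
theorem encard_fibre_le {X Y V : Scheme.{u}} (p : X ⟶ Y) [IsFinite p] (d : ℕ)
    (hfib : ∀ (k : Type u) [Field k] [IsAlgClosed k] (y : Spec (CommRingCat.of k) ⟶ Y),
      Set.encard {x : Spec (CommRingCat.of k) ⟶ X | x ≫ p = y} ≤ d) (r : V ⟶ Y) (v : V) :
    Set.encard (pullback.fst r p ⁻¹' {v}) ≤ d := by
  let k := AlgebraicClosure (V.residueField v)
  let μ : Spec (CommRingCat.of k) ⟶ V :=
    Spec.map (CommRingCat.ofHom (algebraMap (V.residueField v) k)) ≫ V.fromSpecResidueField v
  have hμ : ∀ a, μ a = v := fun a => by
    have h : μ a ∈ Set.range (V.fromSpecResidueField v) :=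
      ⟨_, (Scheme.Hom.comp_apply _ (V.fromSpecResidueField v) a).symm⟩
    rwa [Scheme.range_fromSpecResidueField] at h
  let g : {x : Spec (CommRingCat.of k) ⟶ X | x ≫ p = μ ≫ r} → ↥(pullback r p) := fun x =>
    pullback.lift μ x.1 x.2.symm (IsLocalRing.closedPoint k)
  have hsub : pullback.fst r p ⁻¹' {v} ⊆ Set.range g := by
    intro y hy
    haveI : IsFinite (pullback.fst r p) := MorphismProperty.pullback_fst _ _ inferInstance
    let pr := pullback.fst μ (pullback.fst r p)
    haveI : IsFinite pr := MorphismProperty.pullback_fst _ _ inferInstance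
    obtain ⟨a, -, ha⟩ := Scheme.Pullback.exists_preimage_pullback (f := μ) (g := pullback.fst r p)
      (IsLocalRing.closedPoint k) y ((hμ _).trans hy.symm)
    haveI : Finite ↥(pullback μ (pullback.fst r p)) := by
      have h := pr.finite_preimage_singleton (IsLocalRing.closedPoint k)
      rw [show pr ⁻¹' {IsLocalRing.closedPoint k} = Set.univ from
        Set.eq_univ_of_forall fun z => Subsingleton.elim (pr z) _] at h
      exact Set.finite_univ_iff.1 h
    have hcl : IsClosed ({a} : Set ↥(pullback μ (pullback.fst r p))) := by
      haveI : DiscreteTopology ↥(pullback μ (pullback.fst r p)) := by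
        rw [← isDiscrete_univ_iff]
        have h := pr.isDiscrete_preimage_singleton (IsLocalRing.closedPoint k)
        rwa [show pr ⁻¹' {IsLocalRing.closedPoint k} = Set.univ from
          Set.eq_univ_of_forall fun z => Subsingleton.elim (pr z) _] at h
      exact isClosed_discrete _
    let s := pointOfClosedPoint pr a hcl
    have hs : s ≫ pr = 𝟙 _ := pointOfClosedPoint_comp _ _ _
    let z := s ≫ pullback.snd μ (pullback.fst r p)
    have hz₁ : z ≫ pullback.fst r p = μ := by
      simp only [z, Category.assoc, ← pullback.condition]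
      rw [← Category.assoc, hs, Category.id_comp]
    have hc : μ ≫ r = (z ≫ pullback.snd r p) ≫ p := by
      rw [← hz₁, Category.assoc, pullback.condition]; simp only [z, Category.assoc]
    refine ⟨⟨z ≫ pullback.snd r p, hc.symm⟩, ?_⟩
    have : pullback.lift μ (z ≫ pullback.snd r p) hc = z := by
      apply pullback.hom_ext <;> simp [hz₁]
    show pullback.lift μ (z ≫ pullback.snd r p) hc (IsLocalRing.closedPoint k) = y
    rw [this, Scheme.Hom.comp_apply, pointOfClosedPoint_apply, ha]
  refine (Set.encard_le_encard hsub).trans (le_trans ?_ (hfib k (μ ≫ r)))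
  rw [← Set.image_univ]
  exact (Set.encard_image_le g Set.univ).trans (le_of_eq (by
    rw [Set.encard_univ, ENat.card_coe_set_eq]))


/-- Let p : X -> Y be a surjective finite locally free morphism and d a positive integer such that for
every algebraically closed field k and every k-point of Y there are at most d k-points of X over it.
Let V be a scheme over X such that any d points of V (not necessarily distinct) lying over one point
of Y are contained in an affine open of V. Then every descent datum on V relative to p is effective.
(Descent data are taken in functor-of-points form.) -/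
theorem result {X Y : Scheme.{u}} (p : X ⟶ Y) [Surjective p] [IsFinite p] [Flat p] [LocallyOfFinitePresentation p] (d : ℕ) (hd : 0 < d) (hfib : ∀ (k : Type u) [Field k] [IsAlgClosed k] (y : Spec (CommRingCat.of k) ⟶ Y), Set.encard {x : Spec (CommRingCat.of k) ⟶ X | x ≫ p = y} ≤ d) (D : Desc.SchDD p) (hV : ∀ (y : Y) (v : Fin d → ↑(D.obj.left)), (∀ i, p (D.obj.hom (v i)) = y) → ∃ U : D.obj.left.Opens, IsAffineOpen U ∧ ∀ i, v i ∈ U) : ∃ W : Over Y, Nonempty ((Desc.toDD p).obj W ≅ D) := by
  refine DescLib.effective_of_finLocFree_orbit D fun v g hg => ?_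
  classical
  let A := g '' (pullback.fst (D.obj.hom ≫ p) p ⁻¹' {v})
  have hA : A.encard ≤ d := (Set.encard_image_le _ _).trans (encard_fibre_le p d hfib _ v)
  have hAf : A.Finite := Set.finite_of_encard_le_coe hA
  haveI := hAf.fintype
  have hcard : Fintype.card A ≤ d := by
    have : (Fintype.card A : ℕ∞) ≤ d := by
      rwa [Set.encard_eq_coe_toFinset_card, Set.toFinset_card] at hA
    exact_mod_cast this
  let e := Fintype.equivFin A
  let w : Fin d → ↑(D.obj.left) := fun i => if h : i.1 < Fintype.card A then (e.symm ⟨i.1, h⟩).1 else v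
  obtain ⟨U, hU, hw⟩ := hV (p (D.obj.hom v)) w (fun i => by
    by_cases h : i.1 < Fintype.card A
    · simp only [w, dif_pos h]
      obtain ⟨y, hy, hye⟩ := (e.symm ⟨i.1, h⟩).2
      rw [← hye, ← Scheme.Hom.comp_apply, ← Scheme.Hom.comp_apply, ← Category.assoc, hg, ← pullback.condition,
        Scheme.Hom.comp_apply, show pullback.fst (D.obj.hom ≫ p) p y = v from hy, Scheme.Hom.comp_apply]
    · simp only [w, dif_neg h])
  refine ⟨U, hU, fun x hx => ?_⟩
  have h := hw ⟨(e ⟨x, hx⟩).1, (e ⟨x, hx⟩).2.trans_le hcard⟩
  simpa only [w, dif_pos (e ⟨x, hx⟩).2, Fin.eta, Equiv.symm_apply_apply, SetLike.mem_coe] using h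

end Groth.Agent.S7484
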