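import Groth.Statements.S7486
import Groth.Agent.GrpdLib.Scheme
-- import your own Groth.Agent.* helpers here

set_option autoImplicit false
universe u
open CategoryTheory CategoryTheory.Limits AlgebraicGeometry
open Grpd

namespace Groth.Agent.S7486

open TensorProduct


/-- Let (U, R, s, t, c) be a groupoid scheme over S with U = Spec A and R = Spec B affine (A, B the
rings of global functions), and let x_i, i in I, be elements of A such that B is free as an A-module
through s^# with basis the elements t^#(x_i). Let C be the subring of R-invariant functions (those a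
with s^#(a) = t^#(a)). Then the x_i form a basis of A as a C-module, and the C-linear map A (x)_C A
-> B sending a (x) a' to t^#(a) s^#(a') is bijective (B carries the C-module structure through s^#).
(A groupoid scheme carries U, R, s, t, c, e, i over S with the groupoid axioms on T-points; c is
defined on the fibre product of s and t and sends a pair (a, b) with s(a) = t(b) to a composed with
b.) -/
theorem result (S : Scheme.{u}) (G : Grpd.GroupoidScheme S) [IsAffine G.U] [IsAffine G.R] (I : Type u) (x : I → Γ(G.U, ⊤)) (hB : letI := G.s.appTop.hom.toAlgebra; ∃ b : Module.Basis I Γ(G.U, ⊤) Γ(G.R, ⊤), ∀ i, b i = G.t.appTop.hom (x i)) : (∃ b : Module.Basis I G.invariants Γ(G.U, ⊤), ∀ i, b i = x i) ∧ (letI := (G.s.appTop.hom.comp G.invariants.subtype).toAlgebra; ∀ φ : TensorProduct G.invariants Γ(G.U, ⊤) Γ(G.U, ⊤) →ₗ[G.invariants] Γ(G.R, ⊤), (∀ a a' : Γ(G.U, ⊤), φ (a ⊗ₜ[G.invariants] a') = G.t.appTop.hom a * G.s.appTop.hom a') → Function.Bijective φ) := by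
  let _ := G.s.appTop.hom.toAlgebra
  classical
  obtain ⟨bT, hbT⟩ := hB
  obtain ⟨E, hE⟩ := GrpdLib.exists_grd G
  have hinv : E.inv = G.invariants := by
    show RingHom.eqLocus G.s.appTop.hom E.t = _
    rw [hE]
    rfl
  have hp : ∀ i, E.p (bT i) = 1 ⊗ₜ bT i := fun i => by rw [hbT, ← hE, E.p_t]
  have hspan : Submodule.span Γ(G.R, ⊤) (Set.range fun i => E.p (bT i)) = ⊤ := by
    rw [eq_top_iff, ← E.p_span, Submodule.span_le]
    rintro _ ⟨y, rfl⟩
    have hy : y ∈ Submodule.span Γ(G.U, ⊤) (Set.range bT) := bT.mem_span y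
    induction hy using Submodule.span_induction with
    | mem y hy => obtain ⟨i, rfl⟩ := hy; exact Submodule.subset_span ⟨i, rfl⟩
    | zero => simp
    | add p q _ _ hp hq => rw [map_add]; exact Submodule.add_mem _ hp hq
    | smul a p _ hp =>
      rw [Algebra.smul_def, map_mul, E.p_s, GrpdLib.tmul_one_mul']
      exact Submodule.smul_mem _ _ hp
  have hcoord : ∀ a i, bT.coord i (G.t.appTop.hom a) ∈ E.inv := by
    intro a i
    obtain ⟨ψ, hψ⟩ := E.p_dual (bT.coord i)
    let χ : Γ(G.R, ⊤) ⊗[Γ(G.U, ⊤)] Γ(G.R, ⊤) →ₗ[Γ(G.R, ⊤)] Γ(G.R, ⊤) := (TensorProduct.AlgebraTensorModule.rid Γ(G.U, ⊤) Γ(G.R, ⊤) Γ(G.R, ⊤)).toLinearMap ∘ₗ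
      (bT.coord i).baseChange Γ(G.R, ⊤)
    have heq : ψ = χ := by
      refine LinearMap.ext_on_range hspan fun j => ?_
      show ψ (E.p (bT j)) = χ (E.p (bT j))
      rw [hψ, hp]
      classical
      by_cases h : j = i <;>
        simp [χ, h, Finsupp.single_apply, Algebra.algebraMap_eq_smul_one]
    have h1 := hψ (E.t a)
    rw [heq, E.p_t, ← hE] at *
    rw [E.mem_inv, ← h1]
    simp [χ, Algebra.algebraMap_eq_smul_one]
  have hrec : ∀ a, a = (bT.repr (G.t.appTop.hom a)).sum fun j c => c * x j := by
    intro a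
    have := congrArg E.e (bT.linearCombination_repr (G.t.appTop.hom a))
    rw [Finsupp.linearCombination_apply, map_finsuppSum] at this
    conv_lhs => rw [← E.e_t a, hE, ← this]
    refine Finsupp.sum_congr fun j _ => ?_
    rw [Algebra.smul_def, map_mul, E.e_s, hbT, ← hE, E.e_t]
  have hts : ∀ c : G.invariants, G.t.appTop.hom c.1 = algebraMap Γ(G.U, ⊤) Γ(G.R, ⊤) c.1 := fun c => c.2.symm
  have hli : LinearIndependent G.invariants x := by
    rw [linearIndependent_iff'']
    intro S g hg hsum i
    have h1 : ∑ j ∈ S, (g j : Γ(G.U, ⊤)) • bT j = 0 := by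
      have := congrArg G.t.appTop.hom hsum
      simp only [map_sum, Subring.smul_def, smul_eq_mul, map_mul, map_zero] at this
      rw [← this]
      refine Finset.sum_congr rfl fun j _ => ?_
      rw [hbT, Algebra.smul_def, hts]
    by_cases hi : i ∈ S
    · exact Subtype.ext (linearIndependent_iff'.mp bT.linearIndependent S _ h1 i hi)
    · exact hg i hi
  have hsp : ⊤ ≤ Submodule.span G.invariants (Set.range x) := by
    intro a _
    rw [hrec a]
    refine Submodule.sum_mem _ fun j _ => ?_
    exact Submodule.smul_mem _ (⟨_, hinv ▸ hcoord a j⟩ : G.invariants)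
      (Submodule.subset_span ⟨j, rfl⟩)
  let b := Module.Basis.mk hli hsp
  refine ⟨⟨b, fun i => Module.Basis.mk_apply hli hsp i⟩, ?_⟩
  intro φ hφ
  let e := TensorProduct.equivFinsuppOfBasisLeft (N := Γ(G.U, ⊤)) b
  have key : ∀ z, φ z = bT.repr.symm (e z) := by
    intro z
    obtain ⟨c, rfl⟩ := e.symm.surjective z
    rw [e.apply_symm_apply]
    show φ ((TensorProduct.equivFinsuppOfBasisLeft b).symm c) = _
    rw [TensorProduct.equivFinsuppOfBasisLeft_symm_apply,
      Module.Basis.repr_symm_apply, Finsupp.linearCombination_apply, map_finsuppSum]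
    refine Finsupp.sum_congr fun j _ => ?_
    rw [hφ, Module.Basis.mk_apply, hbT, Algebra.smul_def, mul_comm]
    rfl
  rw [show ⇑φ = ⇑bT.repr.symm ∘ ⇑e from funext key]
  exact bT.repr.symm.bijective.comp e.bijective

end Groth.Agent.S7486
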