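import Groth.Statements.S7487
import Groth.Agent.GrpdLib.InvBaseChange
import Groth.Agent.GrpdLib.Scheme
import Groth.Agent.S1878

set_option autoImplicit false
universe u
open CategoryTheory CategoryTheory.Limits AlgebraicGeometry
open Grpd

namespace Groth.Agent.S7487

open scoped TensorProduct

/-- Surjectivity on spectra bounds the kernel of a base change. -/
theorem isNilpotent_of_tmul_eq_zero {C A : Type u} [CommRing C] [CommRing A] [Algebra C A]
    (hsurj : Surjective (Spec.map (CommRingCat.ofHom (algebraMap C A)))) (C' : Type u) [CommRing C']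
    [Algebra C C'] (c : C') (hc : (1 : A) ⊗ₜ[C] c = 0) : IsNilpotent c := by
  have h := (isPullback_SpecMap_of_isPushout _ _ _ _ (CommRingCat.isPushout_tensorProduct C A C'))
  have hs := MorphismProperty.of_isPullback (P := @Surjective) h hsurj
  rw [← mem_nilradical, nilradical_eq_sInf, Submodule.mem_sInf]
  intro q hq
  obtain ⟨z, hz⟩ := hs.surj ⟨q, hq⟩
  rw [← show _ = q from congrArg PrimeSpectrum.asIdeal hz]
  show (1 : A) ⊗ₜ[C] c ∈ z.asIdeal
  rw [hc]
  exact z.asIdeal.zero_mem

/-- The statement over ring data. -/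
theorem key {A : Type u} [CommRing A] {B : Type u} [CommRing B] [Algebra A B]
    (E : GrpdLib.Grd A B) [Module.Finite A B] [Module.Projective A B]
    (C' : Type u) [CommRing C'] [Algebra E.inv C']
    (sT tT : A ⊗[E.inv] C' →ₐ[E.inv] B ⊗[E.inv] C')
    (hs : ∀ a c, sT (a ⊗ₜ c) = algebraMap A B a ⊗ₜ c) (ht : ∀ a c, tT (a ⊗ₜ c) = E.t a ⊗ₜ c) :
    (∀ f, sT f = tT f → ∃ (n : ℕ) (P : Polynomial C'), 0 < n ∧
      Polynomial.map (Algebra.TensorProduct.includeRight : C' →ₐ[E.inv] A ⊗[E.inv] C').toRingHom P =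
        (Polynomial.X - Polynomial.C f) ^ n) ∧
    (Module.Flat E.inv C' →
      Function.Injective (Algebra.TensorProduct.includeRight : C' →ₐ[E.inv] A ⊗[E.inv] C') ∧
      ∀ f, sT f = tT f →
        f ∈ Set.range (Algebra.TensorProduct.includeRight : C' →ₐ[E.inv] A ⊗[E.inv] C')) := by
  let σ : A ⊗[E.inv] C' ≃ₐ[E.inv] C' ⊗[E.inv] A := Algebra.TensorProduct.comm E.inv A C'
  let σB : B ⊗[E.inv] C' ≃ₐ[E.inv] C' ⊗[E.inv] B := Algebra.TensorProduct.comm E.inv B C'
  have h1 : ∀ f, algebraMap (E.A' C') (E.C' C') (σ f) = σB (sT f) := by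
    intro f
    induction f using TensorProduct.induction_on with
    | zero => simp
    | tmul a c => rw [hs]; rfl
    | add p q hp hq => simp only [map_add, hp, hq]
  have h2 : ∀ f, (E.baseChange C').t (σ f) = σB (tT f) := by
    intro f
    induction f using TensorProduct.induction_on with
    | zero => simp
    | tmul a c => rw [ht]; rfl
    | add p q hp hq => simp only [map_add, hp, hq]
  have hmem : ∀ f, sT f = tT f → σ f ∈ (E.baseChange C').inv := fun f hf => by
    rw [GrpdLib.Grd.mem_inv, h1, h2, hf]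
  refine ⟨fun f hf => ?_, fun hflat => ⟨fun x y hxy => ?_, fun f hf => ?_⟩⟩
  · obtain ⟨N, Q, hN, hQ⟩ := E.exists_map_eq_pow C' (hmem f hf)
    refine ⟨N, Q, hN, Polynomial.map_injective σ.toRingEquiv.toRingHom σ.injective ?_⟩
    rw [Polynomial.map_map, Polynomial.map_pow, Polynomial.map_sub, Polynomial.map_X,
      Polynomial.map_C]
    exact (congrArg (fun g => Q.map g) (RingHom.ext fun c => rfl)).trans hQ
  · exact (E.invEquiv C').injective (Subtype.ext (congrArg σ hxy))
  · obtain ⟨b, hb⟩ := (E.invEquiv C').surjective ⟨_, hmem f hf⟩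
    exact ⟨b, σ.injective (congrArg Subtype.val hb)⟩

/-- Let (U, R, s, t, c) be a groupoid scheme over S with U = Spec A and R = Spec B affine and s, t
finite locally free; let C be the subring of R-invariant functions of A and C -> C' a ring map. Put
A' = A (x)_C C' and B' = B (x)_C C' (B a C-algebra through s^#) and let C^1 be the subring of A'
where the two maps s^# (x) 1, t^# (x) 1 : A' -> B' agree; the structure map C' -> A' lands in C^1,
giving φ : C' -> C^1. Then: (a) for every f in C^1 there are n > 0 and a polynomial P over C' whose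
image in A'[x] is (x - f)^n; (b) every element of the kernel of φ is nilpotent; (c) if C -> C' is
flat then φ is bijective, that is C' -> A' is injective with image C^1. (The published statement
also asserts that the base change is again a groupoid scheme; this row omits that clause.) (A
groupoid scheme carries U, R, s, t, c, e, i over S with the groupoid axioms on T-points; c is
defined on the fibre product of s and t and sends a pair (a, b) with s(a) = t(b) to a composed with
b.) -/
theorem result (S : Scheme.{u}) (G : Grpd.GroupoidScheme S) [IsAffine G.U] [IsAffine G.R] [IsFinite G.s] [Flat G.s] [LocallyOfFinitePresentation G.s] [IsFinite G.t] [Flat G.t] [LocallyOfFinitePresentation G.t] (C' : Type u) [CommRing C'] [Algebra G.invariants C'] : letI : Algebra G.invariants Γ(G.R, ⊤) := (G.s.appTop.hom.comp G.invariants.subtype).toAlgebra; ∀ (sT tT : TensorProduct G.invariants Γ(G.U, ⊤) C' →ₐ[G.invariants] TensorProduct G.invariants Γ(G.R, ⊤) C'), (∀ (a : Γ(G.U, ⊤)) (c : C'), sT (a ⊗ₜ c)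 = G.s.appTop.hom a ⊗ₜ c) → (∀ (a : Γ(G.U, ⊤)) (c : C'), tT (a ⊗ₜ c) = G.t.appTop.hom a ⊗ₜ c) → (∀ f : TensorProduct G.invariants Γ(G.U, ⊤) C', sT f = tT f → ∃ (n : ℕ) (P : Polynomial C'), 0 < n ∧ Polynomial.map (Algebra.TensorProduct.includeRight : C' →ₐ[G.invariants] TensorProduct G.invariants Γ(G.U, ⊤) C').toRingHom P = (Polynomial.X - Polynomial.C f) ^ n) ∧ (∀ c : C', (Algebra.TensorProduct.includeRight : C' →ₐ[G.invariants] TensorProduct G.invariants Γ(G.U, ⊤) C') c = 0 → IsNilpotent c) ∧ (Module.Flat G.invariants C' → Function.Injective (Algebra.TensorProduct.includeRight : C' →ₐ[G.invariants] TensorProduct G.invariants Γ(G.U, ⊤) C') ∧ ∀ f : TensorProduct G.invariants Γ(G.U, ⊤) C', sT f = tT f → f ∈ Set.range (Algebra.TensorProduct.includeRight : C' →ₐ[G.invariants] TensorProduct G.invariants Γ(G.U, ⊤) C')) := by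
  let _ := G.s.appTop.hom.toAlgebra
  intro sT tT hs ht
  obtain ⟨_, _⟩ := GrpdLib.finite_projective G
  obtain ⟨E, hE⟩ := GrpdLib.exists_grd G
  let E0 : GrpdLib.Grd Γ(G.U, ⊤) Γ(G.R, ⊤) :=
    ⟨G.t.appTop.hom, E.e, E.p, E.e_s, hE ▸ E.e_t, hE ▸ E.p_s, hE ▸ E.p_t, E.p_span, hE ▸ E.p_dual⟩
  let _ : Algebra E0.inv C' := ‹Algebra G.invariants C'›
  obtain ⟨ha, hc⟩ := key E0 C' sT tT hs ht
  refine ⟨ha, fun c hc => isNilpotent_of_tmul_eq_zero ?_ C' c hc, hc⟩
  obtain ⟨⟨hsurj, -⟩, -⟩ := Groth.Agent.S1878.result S G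
  refine ⟨fun m => ?_⟩
  obtain ⟨x, hx⟩ := hsurj m
  exact ⟨G.U.isoSpec.hom x, hx⟩

end Groth.Agent.S7487
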