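import Groth.Statements.S7488
import Groth.Agent.S1877
import Groth.Agent.S1878
import Groth.Agent.GrpdLib.QuotSheaf
import Mathlib.AlgebraicGeometry.Sites.Fpqc
-- import your own Groth.Agent.* helpers here

set_option autoImplicit false
universe u
open CategoryTheory CategoryTheory.Limits AlgebraicGeometry
open Grpd

namespace Groth.Agent.S7488

/-- Let (U, R, s, t, c) be a groupoid scheme over S with U and R affine, s and t finite locally free,
and j = (t, s) : R -> U x_S U a monomorphism. Let C be the ring of R-invariant functions on U and M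
= Spec C. Then the structure morphism U -> S factors uniquely through U -> M, and for the resulting
structure of scheme over S on M, the morphism U -> M represents the quotient sheaf U/R in the fppf
topology: it coequalizes s and t and the induced map from the coequalizer of h_R => h_U (sheaves of
sets on the big fppf site of S) to h_M is an isomorphism. (The published statement also asserts that
U -> M is finite locally free and that R = U x_M U; this row states only the quotient-sheaf clause.)
(A groupoid scheme carries U, R, s, t, c, e, i over S with the groupoid axioms on T-points; c is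
defined on the fibre product of s and t and sends a pair (a, b) with s(a) = t(b) to a composed with
b.) -/
theorem result (S : Scheme.{u}) (G : Grpd.GroupoidScheme S) [IsAffine G.U] [IsAffine G.R] [IsFinite G.s] [Flat G.s] [LocallyOfFinitePresentation G.s] [IsFinite G.t] [Flat G.t] [LocallyOfFinitePresentation G.t] [Mono G.j] : ∃! m : Spec (CommRingCat.of G.invariants) ⟶ S, ∃ h : G.toQuot ≫ m = G.pU, QuotSh.IsQuotient Scheme.fppfPrecoverage (Over.homMk G.s G.s_over : Over.mk G.pR ⟶ Over.mk G.pU) (Over.homMk G.t G.t_over : Over.mk G.pR ⟶ Over.mk G.pU) (Over.homMk G.toQuot h : Over.mk G.pU ⟶ Over.mk m) := by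
  obtain ⟨⟨hfin, hflat, hlfp⟩, φ, hφ₁, hφ₂⟩ := Groth.Agent.S1877.result S G
  have hsurj : Surjective G.toQuot := ⟨(Groth.Agent.S1878.result S G).1.1⟩
  have sq : IsPullback G.t G.s G.toQuot G.toQuot :=
    (IsPullback.of_hasPullback G.toQuot G.toQuot).of_iso φ.symm (Iso.refl _) (Iso.refl _) (Iso.refl _)
      (by simp [← hφ₁]) (by simp [← hφ₂]) (by simp) (by simp)
  have : Epi G.toQuot := Flat.epi_of_flat_of_surjective G.toQuot
  have : EffectiveEpi G.toQuot := inferInstance
  have hc := isColimitCoforkOfEffectiveEpi G.toQuot sq.cone sq.isLimit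
  let m := hc.desc (Cofork.ofπ G.pU (G.t_over.trans G.s_over.symm))
  have hm : G.toQuot ≫ m = G.pU := hc.fac _ WalkingParallelPair.one
  refine ⟨m, ⟨hm, ?_⟩, ?_⟩
  · have : Flat (Over.homMk G.toQuot hm : Over.mk G.pU ⟶ Over.mk m).left := hflat
    have : LocallyOfFinitePresentation
        (Over.homMk G.toQuot hm : Over.mk G.pU ⟶ Over.mk m).left := hlfp
    have : Surjective (Over.homMk G.toQuot hm : Over.mk G.pU ⟶ Over.mk m).left := hsurj
    exact GrpdLib.isQuotient_of_isPullback _ _ _ sq
  · rintro m' ⟨hm', -⟩
    rw [← cancel_epi G.toQuot, hm', hm]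

end Groth.Agent.S7488
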