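import Groth.Statements.S7494
import Groth.Agent.GrpShear

set_option autoImplicit false
universe u
open CategoryTheory MonoidalCategory CartesianMonoidalCategory MonObj GrpObj AlgebraicGeometry
open AlgGrp

namespace Groth.Agent.S7494

/-- Let G be a group scheme over S acting on a scheme X over S by a. The action is free, meaning that
for every scheme T over S and all T-points g of G and x of X with g · x = x one has g = 1, if and
only if the morphism G x_S X -> X x_S X, (g, x) ↦ (a(g, x), x), is a monomorphism of schemes. -/
theorem result {S : Scheme.{u}} (G X : Over S) [GrpObj G] (a : AlgGrp.Action G X) : (∀ (T : Over S) (g : T ⟶ G) (x : T ⟶ X), lift g x ≫ a.act = x → g = toUnit T ≫ η[G]) ↔ Mono (lift a.act (snd G X)).left := by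
  have key : Mono (lift a.act (snd G X)).left ↔ Mono (lift a.act (snd G X)) := by
    constructor
    · intro h
      have h' : Mono ((Over.forget S).map (lift a.act (snd G X))) := h
      exact (Over.forget S).mono_of_mono_map h'
    · intro h
      exact inferInstanceAs (Mono ((Over.forget S).map (lift a.act (snd G X))))
  rw [key]
  constructor
  · intro h
    refine ⟨fun {T} p q hpq => ?_⟩
    have h2 := congrArg (· ≫ snd X X) hpq
    have h1 := congrArg (· ≫ fst X X) hpq
    simp only [Category.assoc, lift_snd, lift_fst] at h1 h2
    have hp : p = lift (p ≫ fst G X) (p ≫ snd G X) := by ext <;> simp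
    have hq : q = lift (q ≫ fst G X) (q ≫ snd G X) := by ext <;> simp
    rw [hp, hq, h2] at h1
    refine hom_ext _ _ ?_ h2
    have := h T ((q ≫ fst G X)⁻¹ * (p ≫ fst G X)) (q ≫ snd G X) (by
      rw [GrpShear.lift_mul_act, h1, ← GrpShear.lift_mul_act, inv_mul_cancel, GrpShear.lift_one_act])
    rwa [MonObj.one_eq_one, MonObj.comp_one, inv_mul_eq_one, eq_comm] at this
  · intro h T g x hgx
    have : lift g x ≫ lift a.act (snd G X) = lift (1 : T ⟶ G) x ≫ lift a.act (snd G X) := by
      rw [comp_lift, comp_lift, hgx, GrpShear.lift_one_act, lift_snd, lift_snd]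
    have := congrArg (· ≫ fst G X) ((cancel_mono _).mp this)
    simpa [MonObj.one_eq_one] using this

end Groth.Agent.S7494
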