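import Groth.Statements.S7498
import Groth.Agent.GrpdLib.Quot.Sub

set_option autoImplicit false
universe u
open CategoryTheory CategoryTheory.Limits AlgebraicGeometry
open Grpd

namespace Groth.Agent.S7498

/-- Let (U, R, s, t, c) be a groupoid scheme over S and r, r' points of R with t(r) = t(r'); put u =
s(r), u' = s(r') and let F_u, F_u' be the scheme-theoretic fibres of s. Then there are a field k
which is a common extension of κ(u) and κ(u') (morphisms a, b : Spec k -> U with images u, u') and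
an isomorphism of the base changes (F_u)_k and (F_u')_k over Spec k, which moreover can be chosen to
send some point lying over r to a point lying over r'. (The published statement also compares the
germs of s at r and at r' when s and t are flat or flat of finite presentation; this row omits
that.) (A groupoid scheme carries U, R, s, t, c, e, i over S with the groupoid axioms on T-points; c
is defined on the fibre product of s and t and sends a pair (a, b) with s(a) = t(b) to a composed
with b.) -/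
theorem result (S : Scheme.{u}) (G : Grpd.GroupoidScheme S) (r r' : G.R) (h : G.t r = G.t r') : ∃ (k : Type u) (_ : Field k) (a b : Spec (CommRingCat.of k) ⟶ G.U) (φ : pullback G.s a ≅ pullback G.s b) (p : ↑(pullback G.s a)), a (IsLocalRing.closedPoint k) = G.s r ∧ b (IsLocalRing.closedPoint k) = G.s r' ∧ φ.hom ≫ pullback.snd G.s b = pullback.snd G.s a ∧ pullback.fst G.s a p = r ∧ pullback.fst G.s b (φ.hom p) = r' := by
  obtain ⟨q, hq, hq'⟩ := Scheme.Pullback.exists_preimage_pullback (f := G.t) (g := G.t) r r' h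
  let T := Spec (CommRingCat.of ((pullback G.t G.t).residueField q))
  let pt : T := IsLocalRing.closedPoint ((pullback G.t G.t).residueField q)
  let x : T ⟶ pullback G.t G.t := (pullback G.t G.t).fromSpecResidueField q
  have hx : x pt = q := Scheme.fromSpecResidueField_apply q _
  obtain ⟨ρ, hρd⟩ : ∃ ρ : T ⟶ G.R, ρ = x ≫ pullback.fst _ _ := ⟨_, rfl⟩
  obtain ⟨ρ', hρd'⟩ : ∃ ρ' : T ⟶ G.R, ρ' = x ≫ pullback.snd _ _ := ⟨_, rfl⟩
  have hρ : ρ ≫ G.t = ρ' ≫ G.t := by rw [hρd, hρd', Category.assoc, Category.assoc, pullback.condition]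
  have hρr : ρ pt = r := by rw [hρd, Scheme.Hom.comp_apply, hx, hq]
  have hρr' : ρ' pt = r' := by rw [hρd', Scheme.Hom.comp_apply, hx, hq']
  have hgc : (ρ ≫ G.i) ≫ G.s = ρ' ≫ G.t := by rw [Category.assoc, G.i_s, hρ]
  obtain ⟨g, hgd⟩ : ∃ g : T ⟶ G.R, g = pullback.lift (ρ ≫ G.i) ρ' hgc ≫ G.c := ⟨_, rfl⟩
  have hgt : g ≫ G.t = ρ ≫ G.s := by rw [hgd, G.comp_t, Category.assoc, G.i_t]
  have hgs : g ≫ G.s = ρ' ≫ G.s := by rw [hgd, G.comp_s]
  let F := pullback G.s (ρ ≫ G.s)
  let F' := pullback G.s (ρ' ≫ G.s)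
  have hc : pullback.fst G.s (ρ ≫ G.s) ≫ G.s = (pullback.snd G.s (ρ ≫ G.s) ≫ g) ≫ G.t := by
    rw [Category.assoc, hgt, pullback.condition]
  have hc' : pullback.fst G.s (ρ' ≫ G.s) ≫ G.s =
      (pullback.snd G.s (ρ' ≫ G.s) ≫ g ≫ G.i) ≫ G.t := by
    rw [Category.assoc, Category.assoc, G.i_t, hgs, pullback.condition]
  let fwd : F ⟶ F' := pullback.lift (pullback.lift _ _ hc ≫ G.c) (pullback.snd _ _)
    (by rw [G.comp_s, Category.assoc, hgs])
  let bwd : F' ⟶ F := pullback.lift (pullback.lift _ _ hc' ≫ G.c) (pullback.snd _ _)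
    (by rw [G.comp_s, Category.assoc, Category.assoc, G.i_s, hgt])
  have hff : fwd ≫ pullback.fst _ _ = pullback.lift _ _ hc ≫ G.c := pullback.lift_fst _ _ _
  have hfs : fwd ≫ pullback.snd _ _ = pullback.snd _ _ := pullback.lift_snd _ _ _
  have hbf : bwd ≫ pullback.fst _ _ = pullback.lift _ _ hc' ≫ G.c := pullback.lift_fst _ _ _
  have hbs : bwd ≫ pullback.snd _ _ = pullback.snd _ _ := pullback.lift_snd _ _ _
  let φ : F ≅ F' := ⟨fwd, bwd, by
    apply pullback.hom_ext
    · rw [Category.assoc, hbf, GrpdLib.comp_comp, Category.id_comp]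
      refine (GrpdLib.comp_congr G _ hff (by rw [reassoc_of% hfs])).trans ?_
      refine (G.assoc _ _ (pullback.snd _ _ ≫ g ≫ G.i) hc
        (by simp only [Category.assoc, G.i_t])).trans ?_
      refine (GrpdLib.comp_congr G _ rfl ((GrpdLib.comp_congr G _ rfl (Category.assoc _ _ _).symm).trans
        (G.comp_i (pullback.snd G.s (ρ ≫ G.s) ≫ g)))).trans ?_
      refine (GrpdLib.comp_congr G _ rfl ?_).trans (G.comp_e (pullback.fst G.s (ρ ≫ G.s)))
      rw [← Category.assoc, ← hc, Category.assoc]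
    · rw [Category.assoc, hbs, hfs, Category.id_comp], by
    apply pullback.hom_ext
    · rw [Category.assoc, hff, GrpdLib.comp_comp, Category.id_comp]
      refine (GrpdLib.comp_congr G _ hbf (by rw [reassoc_of% hbs])).trans ?_
      refine (G.assoc _ _ (pullback.snd _ _ ≫ g) hc'
        (by simp only [Category.assoc, G.i_s])).trans ?_
      refine (GrpdLib.comp_congr G _ rfl ((GrpdLib.comp_congr G _ (Category.assoc _ _ _).symm rfl).trans
        (G.i_comp (pullback.snd G.s (ρ' ≫ G.s) ≫ g)))).trans ?_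
      refine (GrpdLib.comp_congr G _ rfl ?_).trans (G.comp_e (pullback.fst G.s (ρ' ≫ G.s)))
      rw [reassoc_of% hc']; simp only [Category.assoc, reassoc_of% G.i_t]
    · rw [Category.assoc, hfs, hbs, Category.id_comp]⟩
  let σ : T ⟶ F := pullback.lift ρ (𝟙 T) (Category.id_comp _).symm
  have hσ : σ ≫ fwd ≫ pullback.fst _ _ = ρ' := by
    rw [hff, GrpdLib.comp_comp]
    refine (GrpdLib.comp_congr G _ (pullback.lift_fst _ _ _)
      (by rw [← Category.assoc, pullback.lift_snd, Category.id_comp, hgd])).trans ?_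
    refine (G.assoc ρ (ρ ≫ G.i) ρ' (by rw [Category.assoc, G.i_t]) hgc).symm.trans ?_
    refine (GrpdLib.comp_congr G _ (G.comp_i ρ) rfl).trans ?_
    refine (GrpdLib.comp_congr G _ ?_ rfl).trans (G.e_comp ρ')
    rw [← Category.assoc, hρ, Category.assoc]
  refine ⟨(pullback G.t G.t).residueField q, inferInstance, ρ ≫ G.s, ρ' ≫ G.s, φ, σ pt,
    ?_, ?_, hfs, ?_, ?_⟩
  · exact (Scheme.Hom.comp_apply _ _ _).trans (congrArg G.s hρr)
  · exact (Scheme.Hom.comp_apply _ _ _).trans (congrArg G.s hρr')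
  · rw [← Scheme.Hom.comp_apply, pullback.lift_fst]; exact hρr
  · exact ((congrArg (fun ψ : T ⟶ G.R => ψ pt) hσ)).trans hρr'

end Groth.Agent.S7498
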