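import Groth.Statements.S7499
import Groth.Agent.ChevLib.Main
-- import your own Groth.Agent.* helpers here

set_option autoImplicit false
universe u
open CategoryTheory CategoryTheory.Limits AlgebraicGeometry
open Grpd

namespace Groth.Agent.S7499

/-- Let (U, R, s, t, c) be a groupoid scheme over S with s and t integral, and g : U' -> U an integral
morphism such that every R-orbit of U meets the image of g. Let R' = (U' x_(g,U,t) R) x_(s pr, U, g)
U' be the restriction of R to U', with t' the projection to the first factor U' and s' the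
projection to the last. If u' is a point of U' contained in an affine open W' of U' with t'^{-1}(W')
= s'^{-1}(W'), then g(u') is contained in an affine open W of U with s^{-1}(W) = t^{-1}(W). (A
groupoid scheme carries U, R, s, t, c, e, i over S with the groupoid axioms on T-points; c is
defined on the fibre product of s and t and sends a pair (a, b) with s(a) = t(b) to a composed with
b.) -/
theorem result (S : Scheme.{u}) (G : Grpd.GroupoidScheme S) [IsIntegralHom G.s] [IsIntegralHom G.t] (U' : Scheme.{u}) (g : U' ⟶ G.U) [IsIntegralHom g] (horb : ∀ u : G.U, ∃ r : G.R, G.s r = u ∧ G.t r ∈ Set.range ⇑g) (u' : U') (W' : U'.Opens) (hW' : IsAffineOpen W') (hu' : u' ∈ W') (hinv : (pullback.fst (pullback.snd g G.t ≫ G.s) g ≫ pullback.fst g G.t) ⁻¹ᵁ W' = (pullback.snd (pullback.snd g G.t ≫ G.s) g) ⁻¹ᵁ W') : ∃ W : G.U.Opens, IsAffineOpen W ∧ g u' ∈ W ∧ G.s ⁻¹ᵁ W = G.t ⁻¹ᵁ W := by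
  classical
  let s := G.s
  let t := G.t
  let rel : G.U → G.U → Prop := fun u v => ∃ r : G.R, s r = u ∧ t r = v
  have hrefl : ∀ u, rel u u := fun u => ⟨G.e u, by
    show G.s (G.e u) = u; rw [← Scheme.Hom.comp_apply, G.e_s]; rfl, by
    show G.t (G.e u) = u; rw [← Scheme.Hom.comp_apply, G.e_t]; rfl⟩
  have hsymm : ∀ {u v}, rel u v → rel v u := by
    rintro u v ⟨r, rfl, rfl⟩
    exact ⟨G.i r, by show G.s (G.i r) = G.t r; rw [← Scheme.Hom.comp_apply, G.i_s], by
      show G.t (G.i r) = G.s r; rw [← Scheme.Hom.comp_apply, G.i_t]⟩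
  have htrans : ∀ {u v w}, rel u v → rel v w → rel u w := by
    rintro u v w ⟨r, rfl, rfl⟩ ⟨r', hr', rfl⟩
    obtain ⟨z, hz1, hz2⟩ := Scheme.Pullback.exists_preimage_pullback (f := G.s) (g := G.t) r' r hr'
    have hid : pullback.lift (pullback.fst G.s G.t) (pullback.snd G.s G.t) pullback.condition = 𝟙 _ :=
      pullback.hom_ext (by simp) (by simp)
    have h1 : G.c ≫ G.s = pullback.snd G.s G.t ≫ G.s := by
      have := G.comp_s _ _ (pullback.condition (f := G.s) (g := G.t))
      rwa [hid, Category.id_comp] at this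
    have h2 : G.c ≫ G.t = pullback.fst G.s G.t ≫ G.t := by
      have := G.comp_t _ _ (pullback.condition (f := G.s) (g := G.t))
      rwa [hid, Category.id_comp] at this
    refine ⟨G.c z, ?_, ?_⟩
    · show G.s (G.c z) = G.s r
      rw [← Scheme.Hom.comp_apply, h1, Scheme.Hom.comp_apply, hz2]
    · show G.t (G.c z) = G.t r'
      rw [← Scheme.Hom.comp_apply, h2, Scheme.Hom.comp_apply, hz1]
  have hW'inv : ∀ u v : U', rel (g u) (g v) → (u ∈ W' ↔ v ∈ W') := by
    rintro u v ⟨r, hs, ht⟩
    obtain ⟨w, hw1, hw2⟩ := Scheme.Pullback.exists_preimage_pullback (f := g) (g := G.t) v r ht.symm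
    obtain ⟨z, hz1, hz2⟩ := Scheme.Pullback.exists_preimage_pullback
      (f := pullback.snd g G.t ≫ G.s) (g := g) w u (by rw [Scheme.Hom.comp_apply, hw2]; exact hs)
    have h := congrArg (fun O : TopologicalSpace.Opens _ => z ∈ O) hinv
    simp only [Scheme.Hom.mem_preimage, Scheme.Hom.comp_apply, hz1, hw1, hz2] at h
    exact (Iff.of_eq h).symm
  let F : Set G.U := g '' ((W' : Set U')ᶜ)
  let sat : Set G.U := t '' (s ⁻¹' F)
  have hclosed : IsClosed sat :=
    G.t.isClosedMap _ ((g.isClosedMap _ W'.2.isClosed_compl).preimage G.s.continuous)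
  let W : G.U.Opens := ⟨satᶜ, hclosed.isOpen_compl⟩
  have hmem : ∀ u, u ∈ W ↔ ∀ v : U', rel (g v) u → v ∈ W' := by
    intro u
    show u ∉ sat ↔ _
    constructor
    · intro h v ⟨r, hs, ht⟩
      by_contra hv
      exact h ⟨r, ⟨v, hv, hs.symm⟩, ht⟩
    · rintro h ⟨r, ⟨v, hv, hs⟩, ht⟩
      exact hv (h v ⟨r, hs.symm, ht⟩)
  have hrel : ∀ {u v}, rel u v → (u ∈ W ↔ v ∈ W) := by
    intro u v huv
    rw [hmem, hmem]
    exact ⟨fun h w hw => h w (htrans hw (hsymm huv)), fun h w hw => h w (htrans hw huv)⟩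
  have hpre : ∀ u : U', g u ∈ W ↔ u ∈ W' := by
    intro u
    rw [hmem]
    exact ⟨fun h => h u (hrefl _), fun h v hv => (hW'inv v u hv).2 h⟩
  refine ⟨W, ?_, (hpre u').2 hu', ?_⟩
  · let h : pullback g G.t ⟶ G.U := pullback.snd g G.t ≫ G.s
    haveI : Surjective h := ⟨fun u => by
      obtain ⟨r, hs, v, hv⟩ := horb u
      obtain ⟨w, -, hw2⟩ := Scheme.Pullback.exists_preimage_pullback (f := g) (g := G.t) v r hv
      exact ⟨w, by rw [Scheme.Hom.comp_apply, hw2]; exact hs⟩⟩
    have hpb : h ⁻¹ᵁ W = pullback.fst g G.t ⁻¹ᵁ W' := by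
      apply TopologicalSpace.Opens.ext
      ext z
      simp only [SetLike.mem_coe, Scheme.Hom.mem_preimage]
      rw [← hpre, ← Scheme.Hom.comp_apply, pullback.condition, Scheme.Hom.comp_apply]
      exact hrel ⟨pullback.snd g G.t z, rfl, rfl⟩
    haveI : IsAffine (h ⁻¹ᵁ W : Scheme.{u}) := by
      rw [hpb]
      exact hW'.preimage (pullback.fst g G.t)
    haveI : IsIntegralHom (h ∣_ W) := IsZariskiLocalAtTarget.restrict (P := @IsIntegralHom) inferInstance W
    haveI : Surjective (h ∣_ W) := IsZariskiLocalAtTarget.restrict (P := @Surjective) inferInstance W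
    exact ChevLib.isAffine_of_surjective_universallyClosed (h ∣_ W)
  · apply TopologicalSpace.Opens.ext
    ext r
    simp only [SetLike.mem_coe, Scheme.Hom.mem_preimage]
    exact hrel ⟨r, rfl, rfl⟩

end Groth.Agent.S7499
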