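import Groth.Statements.S7500
import Groth.Agent.GrpdLib.Quot.Sub

set_option autoImplicit false
universe u
open CategoryTheory CategoryTheory.Limits AlgebraicGeometry
open Grpd

namespace Groth.Agent.S7500

/-- Let (U, R, s, t, c) be a groupoid scheme over S and G -> U its stabilizer group scheme (the base
change of j = (t, s) along the diagonal). The action of G on R by composition, base changed to G_0 =
G x_(U, pr_0) (U x_S U), makes R a pseudo G_0-torsor over U x_S U. Concretely: let α : G x_(U, t) R
-> R x_(s, U, t) R be the morphism with components (γ viewed in R, r) and β : G x_(U, t) R -> R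
x_(j, U x_S U, j) R the morphism with components (c ∘ α, r); then β is an isomorphism. (A groupoid
scheme carries U, R, s, t, c, e, i over S with the groupoid axioms on T-points; c is defined on the
fibre product of s and t and sends a pair (a, b) with s(a) = t(b) to a composed with b.) -/
theorem result (S : Scheme.{u}) (G : Grpd.GroupoidScheme S) (α : pullback G.stabilizerToU G.t ⟶ pullback G.s G.t) (hα₁ : α ≫ pullback.fst G.s G.t = pullback.fst G.stabilizerToU G.t ≫ pullback.fst G.j G.diag) (hα₂ : α ≫ pullback.snd G.s G.t = pullback.snd G.stabilizerToU G.t) (β : pullback G.stabilizerToU G.t ⟶ pullback G.j G.j) (hβ₁ : β ≫ pullback.fst G.j G.j = α ≫ G.c) (hβ₂ : β ≫ pullback.snd G.j G.j = pullback.snd G.stabilizerToU G.t) : IsIso β := by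
  have hjt : G.j ≫ pullback.fst G.pU G.pU = G.t := pullback.lift_fst _ _ _
  have hjs : G.j ≫ pullback.snd G.pU G.pU = G.s := pullback.lift_snd _ _ _
  let a := pullback.fst G.j G.j
  let b := pullback.snd G.j G.j
  have hat : a ≫ G.t = b ≫ G.t := by
    rw [← hjt, ← Category.assoc, ← Category.assoc, pullback.condition]
  have has : a ≫ G.s = b ≫ G.s := by
    rw [← hjs, ← Category.assoc, ← Category.assoc, pullback.condition]
  let γ := pullback.lift a (b ≫ G.i) (by rw [has, Category.assoc, G.i_t]) ≫ G.c
  have hγt : γ ≫ G.t = a ≫ G.t := G.comp_t _ _ _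
  have hγs : γ ≫ G.s = b ≫ G.t := by rw [G.comp_s, Category.assoc, G.i_s]
  let st : pullback G.j G.j ⟶ G.stabilizer := pullback.lift γ (b ≫ G.t) (by
    apply pullback.hom_ext
    · refine (Category.assoc _ _ _).trans (((congrArg (γ ≫ ·) hjt).trans (hγt.trans hat)).trans ?_)
      rw [Category.assoc (b ≫ G.t), Grpd.GroupoidScheme.diag, pullback.lift_fst, Category.comp_id]
    · refine (Category.assoc _ _ _).trans (((congrArg (γ ≫ ·) hjs).trans hγs).trans ?_)
      rw [Category.assoc (b ≫ G.t), Grpd.GroupoidScheme.diag, pullback.lift_snd, Category.comp_id])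
  let σ : pullback G.j G.j ⟶ pullback G.stabilizerToU G.t :=
    pullback.lift st b (pullback.lift_snd _ _ _)
  let g := pullback.fst G.stabilizerToU G.t ≫ pullback.fst G.j G.diag
  let r := pullback.snd G.stabilizerToU G.t
  have hgr : g ≫ G.s = r ≫ G.t := by
    have h0 : pullback.fst G.j G.diag ≫ G.s = pullback.snd G.j G.diag := by
      rw [← hjs, pullback.condition_assoc, Grpd.GroupoidScheme.diag, pullback.lift_snd,
        Category.comp_id]
    show (pullback.fst _ _ ≫ pullback.fst _ _) ≫ G.s = pullback.snd _ _ ≫ G.t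
    rw [Category.assoc, h0]
    exact pullback.condition
  have hα : α = pullback.lift g r hgr := by
    apply pullback.hom_ext
    · rw [hα₁, pullback.lift_fst]
    · rw [hα₂, pullback.lift_snd]
  have hσg : σ ≫ g = γ := by
    show σ ≫ pullback.fst _ _ ≫ pullback.fst _ _ = γ
    rw [pullback.lift_fst_assoc]
    exact pullback.lift_fst _ _ _
  have hσr : σ ≫ r = b := pullback.lift_snd _ _ _
  refine ⟨⟨σ, ?_, ?_⟩⟩
  · have hba : β ≫ a = pullback.lift g r hgr ≫ G.c := by rw [hβ₁, hα]
    have hbb : β ≫ b = r := hβ₂
    have hri : (r ≫ G.t) = (r ≫ G.i) ≫ G.s := by rw [Category.assoc, G.i_s]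
    have hfin : β ≫ γ = g := by
      rw [GrpdLib.comp_comp]
      refine (GrpdLib.comp_congr G _ hba (by rw [reassoc_of% hbb])).trans ?_
      refine (G.assoc g r (r ≫ G.i) hgr (by rw [Category.assoc, G.i_t])).trans ?_
      refine (GrpdLib.comp_congr G _ rfl (G.comp_i r)).trans ?_
      conv_rhs => rw [← G.comp_e g]
      exact GrpdLib.comp_congr G _ rfl (by rw [← reassoc_of% hgr])
    have hst : (β ≫ σ) ≫ pullback.fst G.stabilizerToU G.t = β ≫ st := by
      rw [Category.assoc]
      exact congrArg (β ≫ ·) (pullback.lift_fst _ _ _)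
    apply pullback.hom_ext
    · rw [hst, Category.id_comp]
      apply pullback.hom_ext
      · refine (Category.assoc _ _ _).trans ((congrArg (β ≫ ·) (pullback.lift_fst _ _ _)).trans ?_)
        exact hfin
      · refine (Category.assoc _ _ _).trans ((congrArg (β ≫ ·) (pullback.lift_snd _ _ _)).trans ?_)
        rw [reassoc_of% hbb]
        exact pullback.condition.symm
    · rw [Category.assoc, Category.id_comp]
      exact (congrArg (β ≫ ·) hσr).trans hbb
  · apply pullback.hom_ext
    · rw [Category.assoc, hβ₁, hα, GrpdLib.comp_comp, Category.id_comp]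
      refine (GrpdLib.comp_congr G _ hσg hσr).trans ?_
      refine (G.assoc a (b ≫ G.i) b (by rw [has, Category.assoc, G.i_t])
        (by rw [Category.assoc, G.i_s])).trans ?_
      refine (GrpdLib.comp_congr G _ rfl (G.i_comp b)).trans ?_
      refine (GrpdLib.comp_congr G _ rfl ?_).trans (G.comp_e a)
      rw [← reassoc_of% has]
    · rw [Category.assoc, Category.id_comp, hβ₂]
      exact hσr

end Groth.Agent.S7500
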