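import Groth.Statements.S7502
import Mathlib
import Groth.Agent.PullKerLib.Main
import Groth.Agent.FpqcPCLib.Main
import Groth.Agent.RpushLib.FlatPull
import Groth.Agent.QCohLib.Coherent
import Groth.Agent.QCohLib.Push
import Groth.Agent.KFlatLib.QCohPull
-- import your own Groth.Agent.* helpers here

set_option autoImplicit false
universe u
open CategoryTheory CategoryTheory.Limits AlgebraicGeometry
open Coh

namespace Groth.Agent.S7502

/-- Let f : Y -> X be a morphism of schemes which is quasi-compact, quasi-separated, flat and
surjective, with X and Y locally Noetherian. Let F be a quasi-coherent O_X-module, G a coherent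
O_Y-module and φ : G -> f^*F an injective map of O_Y-modules. Then the O_X-module F ∩ f_*G, defined
as the fibre product of the adjunction unit F -> f_*f^*F with f_*φ : f_*G -> f_*f^*F, is coherent.
('Coherent' is quasi-coherent of finite type, the usual notion on locally Noetherian schemes.) -/
theorem result {X Y : Scheme.{u}} (f : Y ⟶ X) [QuasiCompact f] [QuasiSeparated f] [Flat f] [Surjective f] [IsLocallyNoetherian X] [IsLocallyNoetherian Y] (F : X.Modules) (hF : Coh.IsQCoh F) (G : Y.Modules) (hG : Coh.IsCoh G) (φ : G ⟶ (Scheme.Modules.pullback f).obj F) [Mono φ] : Coh.IsCoh (Limits.pullback ((Scheme.Modules.pullbackPushforwardAdjunction f).unit.app F) ((Scheme.Modules.pushforward f).map φ)) := by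
  let u : F ⟶ (Scheme.Modules.pushforward f).obj ((Scheme.Modules.pullback f).obj F) :=
    (Scheme.Modules.pullbackPushforwardAdjunction f).unit.app F
  let v : (Scheme.Modules.pushforward f).obj G ⟶ (Scheme.Modules.pushforward f).obj ((Scheme.Modules.pullback f).obj F) :=
    (Scheme.Modules.pushforward f).map φ
  change Coh.IsCoh (pullback u v)
  haveI := hG.1
  haveI : Coh.IsQCoh G := hG.1
  haveI : Coh.IsQCoh F := hF
  haveI := KFlatLib.isQCoh_pullback f F
  haveI := QCohLib.isQCoh_pushforward f G
  haveI := QCohLib.isQCoh_pushforward f ((Scheme.Modules.pullback f).obj F)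
  haveI : Mono v := inferInstance
  haveI : Coh.IsQCoh (cokernel v) := QCohLib.isQCoh_cokernel _
  let θ := PullKerLib.pullbackIsoKernel u v
  haveI : Coh.IsQCoh (kernel (u ≫ cokernel.π v)) := QCohLib.isQCoh_kernel _
  haveI hK : Coh.IsQCoh (pullback u v) := QCohLib.isQCoh_of_iso θ.symm
  haveI := RpushLib.preservesMonomorphisms_pullback f
  let ψ : (Scheme.Modules.pullback f).obj (pullback u v) ⟶ G :=
    ((Scheme.Modules.pullbackPushforwardAdjunction f).homEquiv _ _).symm (pullback.snd u v)
  have hψ : ψ ≫ φ = (Scheme.Modules.pullback f).map (pullback.fst u v) := by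
    rw [← Adjunction.homEquiv_naturality_right_symm, ← pullback.condition, Equiv.symm_apply_eq,
      Adjunction.homEquiv_unit]
    exact ((Scheme.Modules.pullbackPushforwardAdjunction f).unit.naturality (pullback.fst u v))
  haveI : Mono (ψ ≫ φ) := hψ ▸ inferInstance
  haveI : Mono ψ := mono_of_mono ψ φ
  haveI := KFlatLib.isQCoh_pullback f (pullback u v)
  have h := QCohLib.isCoh_of_mono ψ hG inferInstance
  exact ⟨hK, FpqcPCLib.isFT_of_pullback f (Flat.isQuotientMap_of_surjective f) _ h.2⟩

end Groth.Agent.S7502
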