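import Groth.Statements.S7510
import Mathlib
-- import your own Groth.Agent.* helpers here

set_option autoImplicit false
set_option backward.isDefEq.respectTransparency false
set_option linter.all false
universe u
open CategoryTheory CategoryTheory.Limits AlgebraicGeometry
open Grpd

namespace Groth.Agent.S7510

/-- Let (U, R, s, t, c, e, i) be a groupoid scheme over S and g : U' -> U a morphism; write h = s ∘ pr_1
: U' x_(g,U,t) R -> U. Let P, Q, R be properties of morphisms of schemes, with P invariant under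
composition with isomorphisms, such that (1) R implies Q, (2) Q is stable under base change and
composition, (3) every morphism f : X -> Y with Q has a largest open W(P, f) of X on which the
restriction of f has P (given here as a function W with these two properties), and (4) for f with Q
and a base change along Y' -> Y with R, the preimage of W(P, f) in X x_Y Y' is W(P, f') for the base
change f'. If s, t have R and g has Q, then there is an open W of U' whose preimage in U' x_(g,U,t)
R equals W(P, h). (The published statement speaks of arbitrary properties of morphisms; this row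
asks P to be invariant under composition with isomorphisms, which the proof uses to identify the
largest opens on the two isomorphic fibre products of h with t and with s.) (A groupoid scheme
carries U, R, s, t, c, e, i over S with the groupoid axioms on T-points; c is defined on the fibre
product of s and t and sends a pair (a, b) with s(a) = t(b) to a composed with b.) -/
theorem result (S : Scheme.{u}) (G : Grpd.GroupoidScheme S) {U' : Scheme.{u}} (g : U' ⟶ G.U) (P Q R : MorphismProperty Scheme.{u}) [P.RespectsIso] (hRQ : R ≤ Q) [Q.IsStableUnderBaseChange] [Q.IsStableUnderComposition] (W : ∀ {X Y : Scheme.{u}} (f : X ⟶ Y), Q f → X.Opens) (hWP : ∀ {X Y : Scheme.{u}} (f : X ⟶ Y) (hf : Q f), P ((W f hf).ι ≫ f)) (hWmax : ∀ {X Y : Scheme.{u}} (f : X ⟶ Y) (hf : Q f) (V : X.Opens), P (V.ι ≫ f) → V ≤ W f hf) (hWbc : ∀ {X Y Y' : Scheme.{u}} (f : X ⟶ Y) (hf : Q f) (b : Y' ⟶ Y), R b → ∀ hf' : Q (pullback.snd f b), pullback.fst f b ⁻¹ᵁ W f hf = W (pullback.snd f b) hf') (hs : R G.s) (ht : R G.t) (hg : Q g) (hh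 : Q (pullback.snd g G.t ≫ G.s)) : ∃ V : U'.Opens, pullback.fst g G.t ⁻¹ᵁ V = W (pullback.snd g G.t ≫ G.s) hh := by
  have hQ1 : Q (pullback.snd (pullback.snd g G.t ≫ G.s) G.t) := MorphismProperty.pullback_snd _ _ hh
  have hQ2 : Q (pullback.snd (pullback.snd g G.t ≫ G.s) G.s) := MorphismProperty.pullback_snd _ _ hh
  -- the two maps between the fibre products
  let Θ : pullback (pullback.snd g G.t ≫ G.s) G.t ⟶ pullback (pullback.snd g G.t ≫ G.s) G.s :=
    pullback.lift
      (pullback.lift (pullback.fst (pullback.snd g G.t ≫ G.s) G.t ≫ pullback.fst g G.t)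
        (pullback.lift (pullback.fst (pullback.snd g G.t ≫ G.s) G.t ≫ pullback.snd g G.t) (pullback.snd (pullback.snd g G.t ≫ G.s) G.t)
          (by rw [Category.assoc, pullback.condition]) ≫ G.c)
        (by rw [G.comp_t, Category.assoc, Category.assoc, pullback.condition]))
      (pullback.snd (pullback.snd g G.t ≫ G.s) G.t)
      (by rw [← Category.assoc, pullback.lift_snd, G.comp_s])
  let Θ' : pullback (pullback.snd g G.t ≫ G.s) G.s ⟶ pullback (pullback.snd g G.t ≫ G.s) G.t :=
    pullback.lift
      (pullback.lift (pullback.fst (pullback.snd g G.t ≫ G.s) G.s ≫ pullback.fst g G.t)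
        (pullback.lift (pullback.fst (pullback.snd g G.t ≫ G.s) G.s ≫ pullback.snd g G.t) (pullback.snd (pullback.snd g G.t ≫ G.s) G.s ≫ G.i)
          (by rw [Category.assoc, pullback.condition, Category.assoc, G.i_t]) ≫ G.c)
        (by rw [G.comp_t, Category.assoc, Category.assoc, pullback.condition]))
      (pullback.snd (pullback.snd g G.t ≫ G.s) G.s)
      (by rw [← Category.assoc, pullback.lift_snd, G.comp_s, Category.assoc, G.i_s])
  have cancel : ∀ {T : Scheme.{u}} (α β : T ⟶ G.R) (hab : α ≫ G.s = β ≫ G.t),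
      pullback.lift (pullback.lift α β hab ≫ G.c) (β ≫ G.i)
        (by rw [G.comp_s, Category.assoc, G.i_t]) ≫ G.c = α := by
    intro T α β hab
    rw [G.assoc α β (β ≫ G.i) hab (by simp only [Category.assoc, G.i_t])]
    have : pullback.lift β (β ≫ G.i) (by simp only [Category.assoc, G.i_t]) ≫ G.c = α ≫ G.s ≫ G.e := by
      rw [G.comp_i, ← Category.assoc, ← hab, Category.assoc]
    simp only [this]
    exact G.comp_e α
  have cancel' : ∀ {T : Scheme.{u}} (α β : T ⟶ G.R) (hab : α ≫ G.s = β ≫ G.s),
      pullback.lift (pullback.lift α (β ≫ G.i) (by rw [Category.assoc, G.i_t, hab]) ≫ G.c) β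
        (by rw [G.comp_s, Category.assoc, G.i_s]) ≫ G.c = α := by
    intro T α β hab
    rw [G.assoc α (β ≫ G.i) β (by rw [Category.assoc, G.i_t, hab]) (by rw [Category.assoc, G.i_s])]
    have : pullback.lift (β ≫ G.i) β (by rw [Category.assoc, G.i_s]) ≫ G.c = α ≫ G.s ≫ G.e := by
      rw [G.i_comp, ← Category.assoc, ← hab, Category.assoc]
    simp only [this]
    exact G.comp_e α
  have h1 : Θ ≫ Θ' = 𝟙 _ := by
    apply pullback.hom_ext
    · apply pullback.hom_ext
      · simp [Θ, Θ']
      · simp only [Θ, Θ', Category.assoc, pullback.lift_fst, pullback.lift_snd, Category.id_comp]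
        rw [← Category.assoc]
        convert cancel (pullback.fst (pullback.snd g G.t ≫ G.s) G.t ≫ pullback.snd g G.t) (pullback.snd (pullback.snd g G.t ≫ G.s) G.t)
          (by rw [Category.assoc, pullback.condition]) using 2
        apply pullback.hom_ext <;> simp
    · simp [Θ, Θ']
  have h2 : Θ' ≫ Θ = 𝟙 _ := by
    apply pullback.hom_ext
    · apply pullback.hom_ext
      · simp [Θ, Θ']
      · simp only [Θ, Θ', Category.assoc, pullback.lift_fst, pullback.lift_snd, Category.id_comp]
        rw [← Category.assoc]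
        convert cancel' (pullback.fst (pullback.snd g G.t ≫ G.s) G.s ≫ pullback.snd g G.t) (pullback.snd (pullback.snd g G.t ≫ G.s) G.s)
          (by rw [Category.assoc, pullback.condition]) using 2
        apply pullback.hom_ext <;> simp
    · simp [Θ, Θ']
  haveI : IsIso Θ := ⟨Θ', h1, h2⟩
  have hΘ : Θ ≫ pullback.snd (pullback.snd g G.t ≫ G.s) G.s = pullback.snd (pullback.snd g G.t ≫ G.s) G.t := pullback.lift_snd _ _ _
  -- largest opens correspond under an isomorphism
  have hWle : ∀ {X Y Z : Scheme.{u}} (φ : X ⟶ Y) [IsIso φ] (a : X ⟶ Z) (b : Y ⟶ Z) (ha : Q a) (hb : Q b),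
      φ ≫ b = a → φ ⁻¹ᵁ W b hb ≤ W a ha := by
    intro X Y Z φ _ a b ha hb e
    refine hWmax a ha _ ?_
    rw [← e, ← Category.assoc, ← morphismRestrict_ι, Category.assoc, P.cancel_left_of_respectsIso]
    exact hWP b hb
  have hWiso : Θ ⁻¹ᵁ W (pullback.snd (pullback.snd g G.t ≫ G.s) G.s) hQ2 = W (pullback.snd (pullback.snd g G.t ≫ G.s) G.t) hQ1 := by
    refine le_antisymm (hWle Θ _ _ hQ1 hQ2 hΘ) fun x hx => ?_
    have := hWle (inv Θ) _ _ hQ2 hQ1 (by rw [IsIso.inv_comp_eq, hΘ])
    refine this (show inv Θ (Θ x) ∈ W (pullback.snd (pullback.snd g G.t ≫ G.s) G.t) hQ1 from ?_)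
    rwa [← Scheme.Hom.comp_apply, IsIso.hom_inv_id]
  rw [← hWbc (pullback.snd g G.t ≫ G.s) hh G.t ht hQ1, ← hWbc (pullback.snd g G.t ≫ G.s) hh G.s hs hQ2] at hWiso
  let σ : U' ⟶ pullback g G.t :=
    pullback.lift (𝟙 U') (g ≫ G.e) (by rw [Category.assoc, G.e_t, Category.id_comp, Category.comp_id])
  have hfib : ∀ p₁ p₂ : ↥(pullback g G.t), pullback.fst g G.t p₁ = pullback.fst g G.t p₂ →
      p₁ ∈ W (pullback.snd g G.t ≫ G.s) hh → p₂ ∈ W (pullback.snd g G.t ≫ G.s) hh := by
    intro p₁ p₂ hp hp₁
    obtain ⟨z, hz₁, hz₂⟩ := Scheme.Pullback.exists_preimage_pullback p₁ p₂ hp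
    set q₁ := pullback.fst (pullback.fst g G.t) (pullback.fst g G.t)
    set q₂ := pullback.snd (pullback.fst g G.t) (pullback.fst g G.t)
    have hq : (q₁ ≫ pullback.snd g G.t) ≫ G.t = (q₂ ≫ pullback.snd g G.t) ≫ G.t := by
      simp only [Category.assoc, ← pullback.condition]
      rw [← Category.assoc, pullback.condition, Category.assoc]
    have hb : ((q₁ ≫ pullback.snd g G.t) ≫ G.i) ≫ G.s = (q₂ ≫ pullback.snd g G.t) ≫ G.t := by
      rw [Category.assoc, G.i_s, hq]
    let ψ : pullback (pullback.fst g G.t) (pullback.fst g G.t) ⟶ pullback (pullback.snd g G.t ≫ G.s) G.t :=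
      pullback.lift q₁ (pullback.lift ((q₁ ≫ pullback.snd g G.t) ≫ G.i) (q₂ ≫ pullback.snd g G.t) hb ≫ G.c)
        (by simp only [G.comp_t, Category.assoc, G.i_t])
    have e1 : ψ ≫ pullback.fst (pullback.snd g G.t ≫ G.s) G.t = q₁ := pullback.lift_fst _ _ _
    have e2 : ψ ≫ Θ ≫ pullback.fst (pullback.snd g G.t ≫ G.s) G.s = q₂ := by
      apply pullback.hom_ext
      · simp [ψ, Θ, q₁, q₂, pullback.condition]
      · simp only [Θ, ψ, Category.assoc, pullback.lift_fst, pullback.lift_snd]
        rw [← Category.assoc _ _ G.c]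
        set a₁ := q₁ ≫ pullback.snd g G.t with ha₁
        set a₂ := q₂ ≫ pullback.snd g G.t with ha₂
        have key : pullback.lift a₁ (pullback.lift (a₁ ≫ G.i) a₂ hb ≫ G.c)
            (by simp only [G.comp_t, Category.assoc, G.i_t]) ≫ G.c = a₂ := by
          rw [← G.assoc a₁ (a₁ ≫ G.i) a₂ (by simp only [Category.assoc, G.i_t]) hb]
          have : pullback.lift a₁ (a₁ ≫ G.i) (by simp only [Category.assoc, G.i_t]) ≫ G.c = a₂ ≫ G.t ≫ G.e := by
            rw [G.comp_i, ← Category.assoc, hq, Category.assoc]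
          simp only [this]
          exact G.e_comp a₂
        convert key using 2
        apply pullback.hom_ext <;> simp [a₁, a₂]
    have m1 : ψ z ∈ pullback.fst (pullback.snd g G.t ≫ G.s) G.t ⁻¹ᵁ W (pullback.snd g G.t ≫ G.s) hh := by
      show pullback.fst (pullback.snd g G.t ≫ G.s) G.t (ψ z) ∈ W (pullback.snd g G.t ≫ G.s) hh
      rwa [← Scheme.Hom.comp_apply, e1, hz₁]
    rw [← hWiso] at m1
    have m2 : (ψ ≫ Θ ≫ pullback.fst (pullback.snd g G.t ≫ G.s) G.s) z ∈ W (pullback.snd g G.t ≫ G.s) hh := m1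
    rwa [e2, hz₂] at m2
  have hσ : ∀ p, pullback.fst g G.t (σ (pullback.fst g G.t p)) = pullback.fst g G.t p := fun p => by
    rw [← Scheme.Hom.comp_apply, pullback.lift_fst]; rfl
  refine ⟨σ ⁻¹ᵁ W (pullback.snd g G.t ≫ G.s) hh, TopologicalSpace.Opens.ext (Set.ext fun p => ⟨fun hp => ?_, fun hp => ?_⟩)⟩
  · exact hfib _ p (hσ p) hp
  · exact hfib p _ (hσ p).symm hp

end Groth.Agent.S7510
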