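import Groth.Statements.S7513
import Groth.Agent.FittStratLib.Invariant
-- import your own Groth.Agent.* helpers here

set_option autoImplicit false
universe u
open CategoryTheory CategoryTheory.Limits AlgebraicGeometry
open Grpd

namespace Groth.Agent.S7513

/-- Let (U, R, s, t, c) be a groupoid scheme over S with s and t finite. Then there are closed
subschemes U = Z_0 ⊇ Z_1 ⊇ Z_2 ⊇ ..., each invariant under R, (given by quasi-coherent ideal sheaves
I_0 = 0 ≤ I_1 ≤ I_2 ≤ ...) with empty intersection such that for every r the restriction of s over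
the locally closed stratum Z_r minus Z_(r+1) (the open of the subscheme Z_r complementary to the
support of Z_(r+1)) is finite locally free of rank r + 1. R-invariance of Z_r is expressed as an
isomorphism between the pullbacks of s and of t along Z_r -> U compatible with the maps to R;
'finite locally free of rank n' is finite, flat, locally of finite presentation with constant rank
n. (A groupoid scheme carries U, R, s, t, c, e, i over S with the groupoid axioms on T-points; c is
defined on the fibre product of s and t and sends a pair (a, b) with s(a) = t(b) to a composed with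
b.) -/
theorem result (S : Scheme.{u}) (G : Grpd.GroupoidScheme S) [IsFinite G.s] [IsFinite G.t] : ∃ Z : ℕ → G.U.IdealSheafData, Z 0 = ⊥ ∧ Monotone Z ∧ (⋂ r, ((Z r).support : Set G.U)) = ∅ ∧ (∀ r, ∃ φ : pullback G.s (Z r).subschemeι ≅ pullback G.t (Z r).subschemeι, φ.hom ≫ pullback.fst G.t (Z r).subschemeι = pullback.fst G.s (Z r).subschemeι) ∧ ∀ r, Mor2.IsFinLocFreeOfDeg (r + 1) (pullback.snd G.s (((Z r).subschemeι ⁻¹ᵁ (Z (r + 1)).support.compl).ι ≫ (Z r).subschemeι)) := by
  refine ⟨FittStratLib.fitt G.s, FittStratLib.fitt_s_zero G, FittStratLib.fitt_mono G.s,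
    FittStratLib.iInter_support G, fun r => ?_, fun r => ?_⟩
  · obtain ⟨q, hq⟩ := FittStratLib.exists_lift_of_comap_eq_bot (FittStratLib.fitt G.s r)
      (pullback.fst G.s (FittStratLib.fitt G.s r).subschemeι ≫ G.t) (by
        rw [Scheme.IdealSheafData.comap_comp, ← FittStratLib.fitt_comap_s_eq_t G r,
          ← Scheme.IdealSheafData.comap_comp]
        exact FittStratLib.comap_eq_bot_of_lift _ _ _ pullback.condition.symm)
    exact FittStratLib.exists_iso_of_factor G _ q hq
  · refine FittStratLib.deg_pullback G _ r
      (FittStratLib.comap_eq_bot_of_lift _ _ (Scheme.Opens.ι _) rfl) fun x => ?_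
    exact x.2
end Groth.Agent.S7513
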