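import Groth.Statements.S7514
import Mathlib
-- import your own Groth.Agent.* helpers here

set_option autoImplicit false
set_option backward.isDefEq.respectTransparency false
set_option linter.all false
universe u
open CategoryTheory CategoryTheory.Limits AlgebraicGeometry
open Grpd

namespace Groth.Agent.S7514

/-- Let S be a scheme, U a scheme over S and j : R -> U x_S U a pre-relation, with t = pr_0 ∘ j and s =
pr_1 ∘ j. Assume (1) s and t are unramified (formally unramified and locally of finite type), (2)
for every algebraically closed field k, the map from k-points of R to pairs of k-points of U is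
injective with image an equivalence relation, and (3) there are morphisms e : U -> R, i : R -> R and
c : R x_(s,U,t) R -> R such that j ∘ e is the diagonal, j ∘ i is j followed by the flip of the two
factors, and j ∘ c is pr_02 ∘ (j x j) (the arrow c(a, b) has target t(a) and source s(b)). Then j is
an equivalence relation: j is a monomorphism and, for every scheme T, the relation 'there is a
T-point r of R with t ∘ r = a and s ∘ r = b' on T-points a, b of U is an equivalence relation. -/
theorem result {S U R : Scheme.{u}} (pU : U ⟶ S) (j : R ⟶ pullback pU pU) [FormallyUnramified (j ≫ pullback.fst pU pU)] [LocallyOfFiniteType (j ≫ pullback.fst pU pU)] [FormallyUnramified (j ≫ pullback.snd pU pU)] [LocallyOfFiniteType (j ≫ pullback.snd pU pU)] (h₂ : ∀ (k : Type u) [Field k] [IsAlgClosed k], Function.Injective (fun r : Spec (CommRingCat.of k) ⟶ R => r ≫ j) ∧ Equivalence (fun a b : Spec (CommRingCat.of k) ⟶ U => ∃ r : Spec (CommRingCat.of k) ⟶ R, r ≫ j ≫ pullback.fst pU pU = a ∧ r ≫ j ≫ pullback.snd pU pU = b)) (e : U ⟶ R) (he : e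 ≫ j = pullback.lift (𝟙 U) (𝟙 U) rfl) (i : R ⟶ R) (hi : i ≫ j = j ≫ (pullbackSymmetry pU pU).hom) (c : pullback (j ≫ pullback.snd pU pU) (j ≫ pullback.fst pU pU) ⟶ R) (hc₁ : c ≫ j ≫ pullback.fst pU pU = pullback.fst (j ≫ pullback.snd pU pU) (j ≫ pullback.fst pU pU) ≫ j ≫ pullback.fst pU pU) (hc₂ : c ≫ j ≫ pullback.snd pU pU = pullback.snd (j ≫ pullback.snd pU pU) (j ≫ pullback.fst pU pU) ≫ j ≫ pullback.snd pU pU) : Mono j ∧ ∀ T : Scheme.{u}, Equivalence (fun a b : T ⟶ U => ∃ r : T ⟶ R, r ≫ j ≫ pullback.fst pU pU = a ∧ r ≫ j ≫ pullback.snd pU pU = b) := by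
  haveI : FormallyUnramified j := FormallyUnramified.of_comp j (pullback.fst pU pU)
  haveI : LocallyOfFiniteType j := locallyOfFiniteType_of_comp j (pullback.fst pU pU)
  haveI : UniversallyInjective j := by
    refine ((tfae_universallyInjective j).out 1 0).1 ?_
    intro K _ g₁ g₂ hg
    obtain ⟨ι, hι⟩ : ∃ ι : Spec (CommRingCat.of (AlgebraicClosure K)) ⟶ Spec (CommRingCat.of K),
        ι = Spec.map (CommRingCat.ofHom (algebraMap K (AlgebraicClosure K))) := ⟨_, rfl⟩
    haveI : Epi ι := by
      have h := (flat_and_surjective_SpecMap_iff (CommRingCat.ofHom (algebraMap K (AlgebraicClosure K)))).2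
        (RingHom.faithfullyFlat_algebraMap_iff.2 inferInstance)
      haveI := h.1; haveI := h.2
      rw [hι]; infer_instance
    rw [← cancel_epi ι]
    exact (h₂ (AlgebraicClosure K)).1 (show (ι ≫ g₁) ≫ j = (ι ≫ g₂) ≫ j by
      rw [Category.assoc, Category.assoc]; exact congrArg (ι ≫ ·) hg)
  haveI : Surjective (pullback.diagonal j) := (UniversallyInjective.iff_diagonal j).1 inferInstance
  haveI : IsOpenImmersion (pullback.diagonal j) := inferInstance
  haveI : Epi (pullback.diagonal j).base := (TopCat.epi_iff_surjective _).2 (pullback.diagonal j).surjective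
  haveI : IsIso (pullback.diagonal j) := IsOpenImmersion.isIso (pullback.diagonal j)
  refine ⟨(pullback.isIso_diagonal_iff j).1 inferInstance, fun T => ⟨fun a => ⟨a ≫ e, ?_, ?_⟩, ?_, ?_⟩⟩
  · rw [Category.assoc, ← Category.assoc e, he, pullback.lift_fst, Category.comp_id]
  · rw [Category.assoc, ← Category.assoc e, he, pullback.lift_snd, Category.comp_id]
  · rintro a b ⟨r, h1, h2⟩
    refine ⟨r ≫ i, ?_, ?_⟩
    · rw [Category.assoc, ← Category.assoc i, hi, Category.assoc, pullbackSymmetry_hom_comp_fst, h2]
    · rw [Category.assoc, ← Category.assoc i, hi, Category.assoc, pullbackSymmetry_hom_comp_snd, h1]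
  · rintro a b c' ⟨r, h1, h2⟩ ⟨r', h1', h2'⟩
    refine ⟨pullback.lift r r' (h2.trans h1'.symm) ≫ c, ?_, ?_⟩
    · rw [Category.assoc, hc₁, pullback.lift_fst_assoc, h1]
    · rw [Category.assoc, hc₂, pullback.lift_snd_assoc, h2']

end Groth.Agent.S7514
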