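import Groth.Statements.S7519
import Groth.Agent.EssFreeLib.ClosedRes
import Groth.Agent.S0346
import Mathlib.AlgebraicGeometry.Group.Abelian

set_option autoImplicit false
universe u
open CategoryTheory MonoidalCategory CartesianMonoidalCategory MonObj GrpObj AlgebraicGeometry
open GrpSch

namespace Groth.Agent.S7519

/-- Let G be a group scheme locally of finite type over a field k. Then the centre of G is
(representable by) a closed subgroup scheme of G: there are a scheme Z over k and a closed immersion
Z -> G over k such that for every scheme T over k, a T-valued point g of G factors through Z if and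
only if g is central, i.e. for every T' -> T over k and every T'-valued point g' of G, the
restriction of g to T' commutes with g' in the group G(T'). -/
theorem result (K : Type u) [Field K] (G : Over (Spec (CommRingCat.of K))) [GrpObj G] [LocallyOfFiniteType G.hom] : ∃ (Z : Over (Spec (CommRingCat.of K))) (incl : Z ⟶ G), IsClosedImmersion incl.left ∧ ∀ (T : Over (Spec (CommRingCat.of K))) (g : T ⟶ G), (∃ z : T ⟶ Z, z ≫ incl = g) ↔ ∀ (T' : Over (Spec (CommRingCat.of K))) (h : T' ⟶ T) (g' : T' ⟶ G), (h ≫ g) * g' = g' * (h ≫ g) := by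
  haveI : IsClosedImmersion η[G].left :=
    isClosedImmersion_of_comp_eq_id (Y := Spec (CommRingCat.of K)) G.hom η[G].left (by simp)
  haveI : IsSeparated G.hom := (Groth.Agent.S0346.result _ G).1.2 inferInstance
  let a : G ⊗ G ⟶ G := fst G G * snd G G
  let b : G ⊗ G ⟶ G := snd G G * fst G G
  let q : Limits.pullback G.hom G.hom ⟶ Limits.pullback G.hom G.hom :=
    Limits.pullback.lift a.left b.left (by rw [Over.w a, Over.w b])
  let z := Limits.pullback.fst q (Limits.pullback.diagonal G.hom)
  obtain ⟨W, i, hi, hW⟩ := Groth.Agent.EssFree.exists_closed_cond (x := G.hom) (y := G.hom) z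
  refine ⟨Over.mk (i ≫ G.hom), Over.homMk i, hi, fun T g => ?_⟩
  have hz : ∀ {T' : Scheme.{u}} (m : T' ⟶ Limits.pullback G.hom G.hom),
      (∃ l, l ≫ z = m) ↔ m ≫ a.left = m ≫ b.left := fun {T'} m => by
    constructor
    · rintro ⟨l, rfl⟩
      have e := congrArg (l ≫ · ≫ Limits.pullback.fst _ _) (Limits.pullback.condition (f := q) (g := Limits.pullback.diagonal G.hom))
      have e' := congrArg (l ≫ · ≫ Limits.pullback.snd _ _) (Limits.pullback.condition (f := q) (g := Limits.pullback.diagonal G.hom))
      simp only [q, Category.assoc, Limits.pullback.lift_fst, Limits.pullback.lift_snd, Limits.pullback.diagonal_fst,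
        Limits.pullback.diagonal_snd, Category.comp_id] at e e'
      simp only [z, Category.assoc]
      exact e.trans e'.symm
    · intro h
      have h1 : (m ≫ q) ≫ Limits.pullback.fst G.hom G.hom = m ≫ a.left := by
        rw [Category.assoc]; exact congrArg (m ≫ ·) (Limits.pullback.lift_fst _ _ _)
      have h2 : (m ≫ q) ≫ Limits.pullback.snd G.hom G.hom = m ≫ b.left := by
        rw [Category.assoc]; exact congrArg (m ≫ ·) (Limits.pullback.lift_snd _ _ _)
      refine ⟨Limits.pullback.lift m (m ≫ a.left) (Limits.pullback.hom_ext ?_ ?_), Limits.pullback.lift_fst _ _ _⟩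
      · rw [h1, Category.assoc, Limits.pullback.diagonal_fst, Category.comp_id]
      · rw [h2, Category.assoc, Limits.pullback.diagonal_snd, Category.comp_id, h]
  have hprod : ∀ {T' : Over (Spec (CommRingCat.of K))} (u v : T' ⟶ G),
      (u * v = v * u) ↔ (lift u v).left ≫ a.left = (lift u v).left ≫ b.left := fun {T'} u v => by
    have ea : lift u v ≫ a = u * v := by simp only [a, MonObj.comp_mul, lift_fst, lift_snd]
    have eb : lift u v ≫ b = v * u := by simp only [b, MonObj.comp_mul, lift_fst, lift_snd]
    rw [← ea, ← eb]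
    exact ⟨fun h => congrArg (·.left) h, fun h => Over.OverMorphism.ext h⟩
  constructor
  · rintro ⟨w, rfl⟩ T' h g'
    have hc := (hW T.left (w ≫ Over.homMk i).left).1 ⟨w.left, rfl⟩
    obtain ⟨l, hl⟩ := hc T'.left h.left g'.left (by rw [Category.assoc, Over.w, Over.w, Over.w])
    refine (hprod _ _).2 ?_
    refine (hz _).1 ⟨l, hl.trans ?_⟩
    apply Limits.pullback.hom_ext <;> simp <;> rfl
  · intro hc
    obtain ⟨g₀, hg₀⟩ := (hW T.left g.left).2 fun T' h w e => by
      let T₀ : Over (Spec (CommRingCat.of K)) := Over.mk (h ≫ T.hom)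
      let h₀ : T₀ ⟶ T := Over.homMk h
      let w₀ : T₀ ⟶ G := Over.homMk w (by rw [← e, Category.assoc, Over.w g]; rfl)
      refine (hz _).2 ?_
      have := (hprod _ _).1 (hc T₀ h₀ w₀)
      have e₂ : (lift (h₀ ≫ g) w₀).left = Limits.pullback.lift (h ≫ g.left) w e := by
        apply Limits.pullback.hom_ext <;> simp <;> rfl
      rwa [e₂] at this
    exact ⟨Over.homMk g₀ (by simp [← Category.assoc, hg₀]), Over.OverMorphism.ext hg₀⟩

end Groth.Agent.S7519
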