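import Groth.Statements.S7521
import Groth.Agent.DescLib.FinLocFree
import Groth.Agent.AmpleThLib.FiniteSet
-- import your own Groth.Agent.* helpers here

set_option autoImplicit false
open CategoryTheory CategoryTheory.Limits AlgebraicGeometry
universe u
open Desc

namespace Groth.Agent.S7521

/-- Let p : X -> Y be a surjective finite locally free morphism and V a scheme over X which has an
invertible module ample relative to V -> X. Then every descent datum on V relative to p is
effective. (A quasi-projective morphism V -> X, in particular a projective one, carries such a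
module.) (Descent data are taken in functor-of-points form.) -/
theorem result {X Y : Scheme.{u}} (p : X ⟶ Y) [Surjective p] [IsFinite p] [Flat p] [LocallyOfFinitePresentation p] (D : Desc.SchDD p) (L : D.obj.left.Modules) (hL : RelAmple.IsRelAmple D.obj.hom L) : ∃ W : Over Y, Nonempty ((Desc.toDD p).obj W ≅ D) := by
  refine DescLib.effective_of_finLocFree D fun y s hs => ?_
  classical
  obtain ⟨S₀, hS₀, hy, -⟩ :=
    TopologicalSpace.Opens.isBasis_iff_nbhd.mp Y.isBasis_affineOpens (TopologicalSpace.Opens.mem_top y)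
  let A : X.affineOpens := ⟨p ⁻¹ᵁ S₀, hS₀.preimage p⟩
  let O := D.obj.hom ⁻¹ᵁ A.1
  have hmem : ∀ v ∈ s, v ∈ O := fun v hv => by
    change p (D.obj.hom v) ∈ S₀
    rw [hs v hv]; exact hy
  obtain ⟨U, hU, hsU⟩ := AmpleThLib.exists_affineOpen_finset (X := O.toScheme) (hL.2 A) (Finset.image (fun v : {x // x ∈ s} => (⟨v.1, hmem v.1 v.2⟩ : O.toScheme)) s.attach)
  refine ⟨O.ι ''ᵁ U, hU.image_of_isOpenImmersion O.ι, fun v hv => ?_⟩
  exact ⟨⟨v, hmem v hv⟩, hsU _ (Finset.mem_image.mpr ⟨⟨v, hv⟩, Finset.mem_attach _ _, rfl⟩), rfl⟩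

end Groth.Agent.S7521
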