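import Groth.Statements.S7522
-- import your own Groth.Agent.* helpers here

set_option autoImplicit false
universe u
open CategoryTheory CategoryTheory.Limits AlgebraicGeometry
open Grpd

namespace Groth.Agent.S7522

/-- Let S be a scheme, U a scheme over S and j : R -> U x_S U a pre-equivalence relation, that is a
morphism such that for every scheme T the image of the T-points of R in pairs of T-points of U is an
equivalence relation; write t = pr_0 ∘ j and s = pr_1 ∘ j. Then the relation on the points of U in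
which x ∼ y when some point r of R has t(r) = x and s(r) = y is an equivalence relation. -/
theorem result {S U R : Scheme.{u}} (pU : U ⟶ S) (j : R ⟶ pullback pU pU) (hj : ∀ T : Scheme.{u}, Equivalence (fun a b : T ⟶ U => ∃ r : T ⟶ R, r ≫ j ≫ pullback.fst pU pU = a ∧ r ≫ j ≫ pullback.snd pU pU = b)) : Equivalence (fun x y : ↥U => ∃ r : R, (j ≫ pullback.fst pU pU) r = x ∧ (j ≫ pullback.snd pU pU) r = y) := by
  set t := j ≫ pullback.fst pU pU
  set s := j ≫ pullback.snd pU pU
  refine ⟨fun x => ?_, fun {x y} h => ?_, fun {x y z} h h' => ?_⟩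
  · obtain ⟨r, h1, h2⟩ := (hj U).refl (𝟙 U)
    exact ⟨r x, congrArg (fun φ : U ⟶ U => φ x) h1, congrArg (fun φ : U ⟶ U => φ x) h2⟩
  · obtain ⟨p, rfl, rfl⟩ := h
    obtain ⟨r, h1, h2⟩ := (hj R).symm (x := t) (y := s) ⟨𝟙 R, Category.id_comp _, Category.id_comp _⟩
    exact ⟨r p, congrArg (fun φ : R ⟶ U => φ p) h1, congrArg (fun φ : R ⟶ U => φ p) h2⟩
  · obtain ⟨p, rfl, rfl⟩ := h
    obtain ⟨p', hp', rfl⟩ := h'
    obtain ⟨q, hq, hq'⟩ := Scheme.Pullback.exists_preimage_pullback (f := s) (g := t) p p' hp'.symm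
    obtain ⟨r, h1, h2⟩ := (hj (pullback s t)).trans (x := pullback.fst s t ≫ t)
      (y := pullback.fst s t ≫ s) (z := pullback.snd s t ≫ s) ⟨pullback.fst s t, rfl, rfl⟩
      ⟨pullback.snd s t, pullback.condition.symm, rfl⟩
    refine ⟨r q, ?_, ?_⟩
    · refine (congrArg (fun φ : pullback s t ⟶ U => φ q) h1).trans ?_
      rw [Scheme.Hom.comp_apply, hq]
    · refine (congrArg (fun φ : pullback s t ⟶ U => φ q) h2).trans ?_
      rw [Scheme.Hom.comp_apply, hq']

end Groth.Agent.S7522
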