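import Groth.Statements.S7523
import Groth.Agent.SpecSubLib.More
-- import your own Groth.Agent.* helpers here

set_option autoImplicit false
universe u
open SpecSp

namespace Groth.Agent.S7523

/-- For a spectral map f : X → Y between spectral spaces, (1) f remains continuous once X and Y are both
given their constructible topologies, (2) every fibre of f is quasi-compact, and (3) f(X) is a
closed subset of Y for the constructible topology. -/
theorem result {X Y : Type u} [TopologicalSpace X] [TopologicalSpace Y]
    [SpectralSpace X] [SpectralSpace Y] (f : X → Y) (hf : IsSpectralMap f) :
    @Continuous X Y (constructibleTopology X) (constructibleTopology Y) f ∧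
    (∀ y : Y, IsCompact (f ⁻¹' {y})) ∧
    @IsClosed Y (constructibleTopology Y) (Set.range f) := by
  open Groth.Agent.SpecSubLib in
  refine ⟨continuous_cons_of_isSpectralMap hf, fun y => isCompact_of_isClosed_cons ?_, ?_⟩
  · exact @IsClosed.preimage X Y (constructibleTopology X) (constructibleTopology Y) f (Groth.Agent.SpecSubLib.continuous_cons_of_isSpectralMap hf) _
      (@isClosed_singleton Y (constructibleTopology Y) (@T2Space.t1Space Y (constructibleTopology Y) Groth.Agent.ProConsLib.t2Space_cons) y)
  · rw [← Set.image_univ]
    exact Groth.Agent.SpecSubLib.isClosed_cons_image hf (@isClosed_univ X (constructibleTopology X))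

end Groth.Agent.S7523
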