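import Groth.Statements.S7528
import Groth.Agent.SpecSubLib.More
-- import your own Groth.Agent.* helpers here

set_option autoImplicit false
universe u
open SpecSp

namespace Groth.Agent.S7528

/-- For a spectral space X the following are equivalent: (1) X is profinite, i.e. quasi-compact,
Hausdorff and totally disconnected (quasi-compactness being automatic); (2) X is Hausdorff; (3) X is
totally disconnected; (4) every quasi-compact open subset is closed; (5) there are no nontrivial
specializations between points; (6) every point is closed; (7) every point is the generic point of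
an irreducible component; (8) the constructible topology coincides with the topology of X. -/
theorem result (X : Type u) [tX : TopologicalSpace X] [SpectralSpace X] :
    List.TFAE [
      T2Space X ∧ TotallyDisconnectedSpace X,
      T2Space X,
      TotallyDisconnectedSpace X,
      ∀ U : Set X, IsOpen U → IsCompact U → IsClosed U,
      ∀ x y : X, x ⤳ y → x = y,
      ∀ x : X, IsClosed ({x} : Set X),
      ∀ x : X, closure ({x} : Set X) ∈ irreducibleComponents X,
      constructibleTopology X = tX] := by
  tfae_have 1 → 2 := fun h => h.1
  tfae_have 1 → 3 := fun h => h.2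
  tfae_have 2 → 6 := fun h x => isClosed_singleton
  tfae_have 3 → 6 := fun h x => isClosed_singleton
  tfae_have 6 → 5 := fun h x y hxy => (Set.mem_singleton_iff.mp (hxy.mem_closed (h x) rfl)).symm
  tfae_have 5 → 8 := fun h => by
    refine le_antisymm (fun U hU => Groth.Agent.SpecSubLib.isOpen_cons_of_isOpen hU) fun U hU => ?_
    exact Groth.Agent.SpecSubLib.isOpen_of_stableUnderGeneralization hU fun a b hab ha => by rw [h b a hab]; exact ha
  tfae_have 8 → 1 := fun h => by
    have h1 := Groth.Agent.ProConsLib.t2Space_cons (X := X)
    have h2 := Groth.Agent.SpecSubLib.totallyDisconnectedSpace_cons (X := X)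
    rw [h] at h1 h2
    exact ⟨h1, h2⟩
  tfae_have 8 → 4 := fun h U ho hc => by
    have := Groth.Agent.SpecSubLib.isClosed_cons_of_isConstructible (hc.isConstructible ho)
    rwa [h] at this
  tfae_have 4 → 5 := fun h x y hxy => by
    by_contra hne
    obtain ⟨U, hU, hxU, hyU⟩ := not_specializes_iff_exists_open.mp fun hyx : y ⤳ x => hne (hxy.antisymm hyx).eq
    obtain ⟨V, ⟨hV, hVc⟩, hxV, hVU⟩ := PrespectralSpace.isTopologicalBasis.exists_subset_of_mem_open hxU hU
    exact hyU (hVU (hxy.mem_closed (h V hV hVc) hxV))
  tfae_have 5 → 7 := fun h x => by
    refine ⟨isIrreducible_singleton.closure, fun Z hZ hle => ?_⟩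
    obtain ⟨η, hη⟩ := QuasiSober.sober hZ.closure isClosed_closure
    have hx : η = x := h η x (hη.specializes (subset_closure (hle (subset_closure rfl))))
    subst hx
    exact subset_closure.trans hη.def.ge
  tfae_have 7 → 5 := fun h x y hxy => by
    have h1 := (h y).2 (h x).1 (closure_minimal (Set.singleton_subset_iff.mpr hxy.mem_closure) isClosed_closure)
    exact (hxy.antisymm (specializes_iff_mem_closure.mpr (h1 (subset_closure rfl)))).eq
  tfae_finish

end Groth.Agent.S7528
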