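import Groth.Statements.S7530
import Groth.Agent.SpecSubLib.More
-- import your own Groth.Agent.* helpers here

set_option autoImplicit false
universe u
open SpecSp

namespace Groth.Agent.S7530

/-- Let f : X → Y be a map of spectral spaces which is spectral and bijective, and assume that
generalizations lift along f or that specializations lift along f. Then f is a homeomorphism. -/
theorem result {X Y : Type u} [TopologicalSpace X] [TopologicalSpace Y]
    [SpectralSpace X] [SpectralSpace Y] (f : X → Y) (hf : IsSpectralMap f) (hb : Function.Bijective f)
    (hlift : GeneralizingMap f ∨ SpecializingMap f) :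
    IsHomeomorph f := by
  have hopen : IsOpenMap f := fun U hU => by
    have hcl : IsClosed U.compl := hU.isClosed_compl
    have himg : f '' U = (f '' Uᶜ)ᶜ := by rw [← Set.image_compl_eq hb, compl_compl]
    have hc := Groth.Agent.SpecSubLib.isClosed_cons_image hf (Groth.Agent.SpecSubLib.isClosed_cons_of_isClosed hU.isClosed_compl)
    rcases hlift with h | h
    · refine Groth.Agent.SpecSubLib.isOpen_of_stableUnderGeneralization ?_ (h.stableUnderGeneralization_image hU.stableUnderGeneralization)
      rw [himg]
      exact @IsClosed.isOpen_compl Y (constructibleTopology Y) _ hc
    · rw [himg]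
      exact (Groth.Agent.SpecSubLib.isClosed_of_stableUnderSpecialization hc (h.stableUnderSpecialization_image hU.isClosed_compl.stableUnderSpecialization)).isOpen_compl
  exact ⟨hf.continuous, hopen, hb⟩

end Groth.Agent.S7530
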