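import Groth.Statements.S7532
import Groth.Agent.SpecSubLib.Basic
-- import your own Groth.Agent.* helpers here

set_option autoImplicit false
universe u
open SpecSp

namespace Groth.Agent.S7532

/-- Let W be the two-point space with one closed and one non-closed point (here the Sierpiński topology
on Prop). A topological space X is spectral exactly when, for some index type I, X admits a
topological embedding into the power W^I whose image is a closed set for the constructible topology
on W^I. -/
theorem result (X : Type u) [TopologicalSpace X] :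
    SpectralSpace X ↔ ∃ (I : Type u) (f : X → (I → Prop)),
      Topology.IsEmbedding f ∧ @IsClosed (I → Prop) (constructibleTopology (I → Prop)) (Set.range f) := by
  haveI hW : ∀ I : Type u, SpectralSpace (I → Prop) := fun I => Groth.Agent.SpecSubLib.spectralSpace_pi
  constructor
  · intro _
    let I := {U : Set X // IsOpen U ∧ IsCompact U}
    let f : X → (I → Prop) := fun x U => x ∈ U.1
    have hpre : ∀ U : I, (fun x => f x U) ⁻¹' {True} = U.1 := fun U => by ext x; simp [f]
    have hcont : Continuous f := continuous_pi fun U => continuous_Prop.mpr U.2.1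
    have hind : Topology.IsInducing f := by
      refine ⟨le_antisymm hcont.le_induced fun O hO => ?_⟩
      rw [(PrespectralSpace.isTopologicalBasis (X := X)).open_eq_sUnion' hO]
      refine @isOpen_sUnion X (TopologicalSpace.induced f inferInstance) _ fun V hV => ?_
      exact isOpen_induced_iff.mpr ⟨{p | p ⟨V, hV.1⟩}, continuous_Prop.mp (continuous_apply (A := fun _ : I => Prop) (⟨V, hV.1⟩ : I)), rfl⟩
    refine ⟨I, f, ⟨hind, fun x y hxy => ?_⟩, ?_⟩
    · exact (hind.inseparable_iff.mp (by rw [hxy])).eq
    have hspec : ∀ s : Set (I → Prop), IsOpen s → IsCompact s → IsCompact (f ⁻¹' s) := fun s hso hsc => by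
      classical
      obtain ⟨t, ht⟩ := hsc.elim_finite_subcover (fun F : {F : Finset I // Groth.Agent.SpecSubLib.box F ⊆ s} => Groth.Agent.SpecSubLib.box F.1)
        (fun F => Groth.Agent.SpecSubLib.isOpen_box F.1) fun p hp => by
          obtain ⟨_, ⟨F, rfl⟩, hF, hFs⟩ := Groth.Agent.SpecSubLib.isTopologicalBasis_box.exists_subset_of_mem_open hp hso
          exact Set.mem_iUnion.mpr ⟨⟨F, hFs⟩, hF⟩
      rw [Set.Subset.antisymm ht (Set.iUnion₂_subset fun F _ => F.2), Set.preimage_iUnion₂]
      refine t.isCompact_biUnion fun F _ => ?_
      have : f ⁻¹' Groth.Agent.SpecSubLib.box F.1 = ⋂₀ ((fun U : I => U.1) '' (F.1 : Set I)) := by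
        ext x; simp [f, Groth.Agent.SpecSubLib.box]
      rw [this]
      exact QuasiSeparatedSpace.isCompact_sInter (F.1.finite_toSet.image _) (by rintro _ ⟨U, -, rfl⟩; exact Or.inl U.2.1) (by rintro _ ⟨U, -, rfl⟩; exact U.2.2)
    have hc : @Continuous X (I → Prop) (constructibleTopology X) (constructibleTopology (I → Prop)) f := by
      refine continuous_generateFrom_iff.mpr fun s hs => ?_
      rcases hs with ⟨ho, hc⟩ | ⟨hcl, hc⟩
      · exact (hspec s ho hc).isOpen_constructibleTopology_of_isOpen (ho.preimage hcont)
      · exact IsCompact.isOpen_constructibleTopology_of_isClosed (by rw [← Set.preimage_compl]; exact hspec _ hcl.isOpen_compl hc) (hcl.preimage hcont)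
    have hK := @IsCompact.image X (I → Prop) (constructibleTopology X) (constructibleTopology (I → Prop)) Set.univ f
      (@isCompact_univ X (constructibleTopology X) Groth.Agent.ProConsLib.compactSpace_cons) hc
    rw [Set.image_univ] at hK
    exact @IsCompact.isClosed (I → Prop) (constructibleTopology (I → Prop)) Groth.Agent.ProConsLib.t2Space_cons _ hK
  · rintro ⟨I, f, hf, hcl⟩
    haveI := Groth.Agent.SpecSubLib.spectralSpace_of_isClosed_cons hcl
    let e := hf.toHomeomorph
    haveI : CompactSpace X := e.symm.compactSpace
    exact e.isOpenEmbedding.spectralSpace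

end Groth.Agent.S7532
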