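import Groth.Statements.S7536
import Groth.Agent.LimSpecLib.Basic
-- import your own Groth.Agent.* helpers here

set_option autoImplicit false
universe u
open CategoryTheory CategoryTheory.Limits
open SpecSp

namespace Groth.Agent.S7536

/-- Let j ↦ X_j be a cofiltered diagram of spectral spaces with spectral transition maps and X its limit
with projections p_j. For every constructible E ⊆ X there are an object i and a constructible E_i ⊆
X_i with p_i⁻¹(E_i) = E; if E is open, resp. closed, then E_i may be chosen open, resp. closed. -/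
theorem result {J : Type u} [SmallCategory J] [IsCofiltered J] (F : J ⥤ TopCat.{u})
    (hF : ∀ j, SpectralSpace (F.obj j))
    (hFm : ∀ {i j : J} (a : i ⟶ j), IsSpectralMap (F.map a : F.obj i → F.obj j))
    (c : Cone F) (hc : IsLimit c)
    (E : Set c.pt) (hE : Topology.IsConstructible E) :
    (∃ (i : J) (Ei : Set (F.obj i)), Topology.IsConstructible Ei ∧ c.π.app i ⁻¹' Ei = E) ∧
    (IsOpen E → ∃ (i : J) (Ei : Set (F.obj i)), Topology.IsConstructible Ei ∧ IsOpen Ei ∧ c.π.app i ⁻¹' Ei = E) ∧
    (IsClosed E → ∃ (i : J) (Ei : Set (F.obj i)), Topology.IsConstructible Ei ∧ IsClosed Ei ∧ c.π.app i ⁻¹' Ei = E) := by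
  haveI := hF
  haveI := Groth.Agent.LimSpecLib.spectralSpace_limit c hc hFm
  have hopen : ∀ V : Set c.pt, IsOpen V → IsCompact V → ∃ (i : J) (Ei : Set (F.obj i)), Topology.IsConstructible Ei ∧ IsOpen Ei ∧ c.π.app i ⁻¹' Ei = V := fun V ho hcV => by
    obtain ⟨i, W, hWo, hWc, hW⟩ := Groth.Agent.LimSpecLib.exists_stage_of_isCompact_isOpen c hc hFm ho hcV
    exact ⟨i, W, hWc.isConstructible hWo, hWo, hW⟩
  have hcpt : ∀ V : Set c.pt, Topology.IsConstructible V → IsCompact V := fun V hV =>
    Groth.Agent.SpecSubLib.isCompact_of_isClosed_cons (Groth.Agent.SpecSubLib.isClosed_cons_of_isConstructible hV)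
  have hpre : ∀ {i j : J} (a : i ⟶ j) (W : Set (F.obj j)), Topology.IsConstructible W → Topology.IsConstructible ((F.map a : _ → _) ⁻¹' W) := fun {i j} a W hW => by
    refine hW.preimage (hFm a).continuous fun s hso hs => ?_
    have := (hFm a).isCompact_preimage_of_isOpen hso hs.isCompact
    exact QuasiSeparatedSpace.isRetrocompact_iff_isCompact (hso.preimage (hFm a).continuous) |>.mpr this
  refine ⟨?_, fun ho => hopen E ho (hcpt E hE), fun hcl => ?_⟩
  · induction hE using Topology.IsConstructible.empty_union_induction with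
    | open_retrocompact U hU hU' =>
      obtain ⟨i, W, hW, -, e⟩ := hopen U hU hU'.isCompact
      exact ⟨i, W, hW, e⟩
    | union s _ t _ hs ht =>
      obtain ⟨i, A, hA, rfl⟩ := hs
      obtain ⟨j, B, hB, rfl⟩ := ht
      let m := IsCofiltered.min i j
      refine ⟨m, (F.map (IsCofiltered.minToLeft i j) : _ → _) ⁻¹' A ∪ (F.map (IsCofiltered.minToRight i j) : _ → _) ⁻¹' B,
        (hpre _ A hA).union (hpre _ B hB), ?_⟩
      rw [← c.w (IsCofiltered.minToLeft i j), ← c.w (IsCofiltered.minToRight i j)]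
      rfl
    | compl s _ hs =>
      obtain ⟨i, A, hA, rfl⟩ := hs
      exact ⟨i, Aᶜ, hA.compl, rfl⟩
  · obtain ⟨i, A, hA, hAo, e⟩ := hopen Eᶜ hcl.isOpen_compl (hcpt _ hE.compl)
    exact ⟨i, Aᶜ, hA.compl, hAo.isClosed_compl, by rw [Set.preimage_compl, e, compl_compl]⟩

end Groth.Agent.S7536
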