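import Groth.Statements.S7538
import Groth.Agent.LimSpecLib.Compat
-- import your own Groth.Agent.* helpers here

set_option autoImplicit false
universe u
open CategoryTheory CategoryTheory.Limits
open SpecSp

namespace Groth.Agent.S7538

/-- Let j ↦ X_j be a cofiltered diagram of spectral spaces with spectral transition maps f_a and X its
limit with projections p_j. (1) Any quasi-compact open U ⊆ X is p_i⁻¹(U_i) for some i and some
quasi-compact open U_i ⊆ X_i. (2) If U_i ⊆ X_i and U_j ⊆ X_j are quasi-compact opens with p_i⁻¹(U_i)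
⊆ p_j⁻¹(U_j), there are k and a : k → i, b : k → j with f_a⁻¹(U_i) ⊆ f_b⁻¹(U_j). (3) If U_i and
finitely many U_{l,i} are quasi-compact opens of X_i with p_i⁻¹(U_i) = ⋃_l p_i⁻¹(U_{l,i}), then
f_a⁻¹(U_i) = ⋃_l f_a⁻¹(U_{l,i}) for some a : j → i. (4) The same with intersections. -/
theorem result {J : Type u} [SmallCategory J] [IsCofiltered J] (F : J ⥤ TopCat.{u})
    (hF : ∀ j, SpectralSpace (F.obj j))
    (hFm : ∀ {i j : J} (a : i ⟶ j), IsSpectralMap (F.map a : F.obj i → F.obj j))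
    (c : Cone F) (hc : IsLimit c) :
    (∀ U : Set c.pt, IsOpen U → IsCompact U →
      ∃ (i : J) (Ui : Set (F.obj i)), IsOpen Ui ∧ IsCompact Ui ∧ c.π.app i ⁻¹' Ui = U) ∧
    (∀ (i j : J) (Ui : Set (F.obj i)) (Uj : Set (F.obj j)),
      IsOpen Ui → IsCompact Ui → IsOpen Uj → IsCompact Uj →
      c.π.app i ⁻¹' Ui ⊆ c.π.app j ⁻¹' Uj →
      ∃ (k : J) (a : k ⟶ i) (b : k ⟶ j), F.map a ⁻¹' Ui ⊆ F.map b ⁻¹' Uj) ∧
    (∀ (i : J) (n : ℕ) (Ui : Set (F.obj i)) (V : Fin n → Set (F.obj i)),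
      IsOpen Ui → IsCompact Ui → (∀ l, IsOpen (V l) ∧ IsCompact (V l)) →
      (c.π.app i ⁻¹' Ui = ⋃ l, c.π.app i ⁻¹' V l →
        ∃ (j : J) (a : j ⟶ i), F.map a ⁻¹' Ui = ⋃ l, F.map a ⁻¹' V l) ∧
      (c.π.app i ⁻¹' Ui = ⋂ l, c.π.app i ⁻¹' V l →
        ∃ (j : J) (a : j ⟶ i), F.map a ⁻¹' Ui = ⋂ l, F.map a ⁻¹' V l)) := by
  haveI := hF
  refine ⟨fun U hUo hUc => Groth.Agent.LimSpecLib.exists_stage_of_isCompact_isOpen c hc hFm hUo hUc, ?_, ?_⟩
  · intro i j Ui Uj hio hic hjo hjc h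
    let a₀ := IsCofiltered.minToLeft i j
    let b₀ := IsCofiltered.minToRight i j
    have hsub : (c.π.app (IsCofiltered.min i j) : c.pt → F.obj (IsCofiltered.min i j)) ⁻¹' (F.map a₀ ⁻¹' Ui) ⊆
        (c.π.app (IsCofiltered.min i j) : c.pt → F.obj (IsCofiltered.min i j)) ⁻¹' (F.map b₀ ⁻¹' Uj) := by
      intro x hx
      have := h (show c.π.app i x ∈ Ui by rw [← c.w a₀]; exact hx)
      rw [← c.w b₀] at this
      exact this
    obtain ⟨k, f, hk⟩ := Groth.Agent.LimSpecLib.exists_hom_of_preimage_subset c hc hFm _ _ _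
      (Groth.Agent.SpecSubLib.isClosed_cons_of_isConstructible
        (((hFm a₀).isCompact_preimage_of_isOpen hio hic).isConstructible (hio.preimage (hFm a₀).continuous)))
      (Groth.Agent.SpecSubLib.isOpen_cons_of_isOpen (hjo.preimage (hFm b₀).continuous)) hsub
    refine ⟨k, f ≫ a₀, f ≫ b₀, fun y hy => ?_⟩
    simp only [F.map_comp] at hy ⊢
    exact hk hy
  intro i n Ui V hio hic hV
  have hUc := Groth.Agent.SpecSubLib.isClosed_cons_of_isConstructible (hic.isConstructible hio)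
  have hUo := Groth.Agent.SpecSubLib.isOpen_cons_of_isOpen hio
  have both : ∀ W : Set (F.obj i), @IsClosed _ (constructibleTopology (F.obj i)) W → @IsOpen _ (constructibleTopology (F.obj i)) W →
      (c.π.app i : c.pt → F.obj i) ⁻¹' Ui = (c.π.app i : c.pt → F.obj i) ⁻¹' W →
      ∃ (j : J) (a : j ⟶ i), (F.map a : F.obj j → F.obj i) ⁻¹' Ui = (F.map a : F.obj j → F.obj i) ⁻¹' W := fun W hWc hWo h => by
    obtain ⟨j₁, a₁, h₁⟩ := Groth.Agent.LimSpecLib.exists_hom_of_preimage_subset c hc hFm i Ui W hUc hWo h.le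
    obtain ⟨j₂, a₂, h₂⟩ := Groth.Agent.LimSpecLib.exists_hom_of_preimage_subset c hc hFm i W Ui hWc hUo h.ge
    obtain ⟨j, u, v, huv⟩ := IsCofiltered.cospan a₁ a₂
    refine ⟨j, u ≫ a₁, Set.Subset.antisymm (fun y hy => ?_) fun y hy => ?_⟩
    · simp only [F.map_comp] at hy ⊢
      exact h₁ hy
    · rw [huv] at hy ⊢
      simp only [F.map_comp] at hy ⊢
      exact h₂ hy
  refine ⟨fun h => ?_, fun h => ?_⟩
  · obtain ⟨j, a, e⟩ := both (⋃ l, V l) (@isClosed_iUnion_of_finite _ _ (constructibleTopology (F.obj i)) _ _ fun l => Groth.Agent.SpecSubLib.isClosed_cons_of_isConstructible ((hV l).2.isConstructible (hV l).1))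
      (Groth.Agent.SpecSubLib.isOpen_cons_of_isOpen (isOpen_iUnion fun l => (hV l).1)) (by rw [h, Set.preimage_iUnion])
    exact ⟨j, a, by rw [e, Set.preimage_iUnion]⟩
  · obtain ⟨j, a, e⟩ := both (⋂ l, V l) (@isClosed_iInter _ _ (constructibleTopology (F.obj i)) _ fun l => Groth.Agent.SpecSubLib.isClosed_cons_of_isConstructible ((hV l).2.isConstructible (hV l).1))
      (Groth.Agent.SpecSubLib.isOpen_cons_of_isOpen (isOpen_iInter_of_finite fun l => (hV l).1)) (by rw [h, Set.preimage_iInter])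
    exact ⟨j, a, by rw [e, Set.preimage_iInter]⟩

end Groth.Agent.S7538
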