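import Groth.Statements.S7539
import Groth.Agent.SpecSubLib.More
-- import your own Groth.Agent.* helpers here

set_option autoImplicit false
universe u
open SpecSp

namespace Groth.Agent.S7539

/-- For a subset W of a spectral space X, these five conditions coincide: (1) W can be written as an
intersection of constructible subsets and is stable under generalization; (2) W is quasi-compact and
stable under generalization; (3) for some quasi-compact E ⊆ X, W consists exactly of the points that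
specialize to a point of E; (4) W is the intersection of some family of quasi-compact opens; (5)
there are a nonempty index set I and quasi-compact opens U_i with W = ⋂ U_i such that for all i, j
some U_k is contained in U_i ∩ U_j. -/
theorem result {X : Type u} [TopologicalSpace X] [SpectralSpace X] (W : Set X) :
    List.TFAE [
      (∃ S : Set (Set X), (∀ s ∈ S, Topology.IsConstructible s) ∧ W = ⋂₀ S) ∧ StableUnderGeneralization W,
      IsCompact W ∧ StableUnderGeneralization W,
      ∃ E : Set X, IsCompact E ∧ W = {x | ∃ e ∈ E, x ⤳ e},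
      ∃ S : Set (Set X), (∀ s ∈ S, IsOpen s ∧ IsCompact s) ∧ W = ⋂₀ S,
      ∃ (I : Type u) (_ : Nonempty I) (U : I → Set X), (∀ i, IsOpen (U i) ∧ IsCompact (U i)) ∧
        W = ⋂ i, U i ∧ ∀ i j, ∃ k, U k ⊆ U i ∩ U j] := by
  tfae_have 1 → 2 := by
    rintro ⟨⟨S, hS, rfl⟩, hgen⟩
    refine ⟨Groth.Agent.SpecSubLib.isCompact_of_isClosed_cons ?_, hgen⟩
    exact @isClosed_sInter _ (constructibleTopology X) _ fun s hs => Groth.Agent.SpecSubLib.isClosed_cons_of_isConstructible (hS s hs)
  tfae_have 2 → 3 := by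
    rintro ⟨hc, hgen⟩
    exact ⟨W, hc, Set.Subset.antisymm (fun x hx => ⟨x, hx, specializes_rfl⟩) fun x ⟨e, he, hxe⟩ => hgen hxe he⟩
  tfae_have 3 → 4 := by
    rintro ⟨E, hE, rfl⟩
    exact ⟨_, fun s hs => ⟨hs.1, hs.2.1⟩, Groth.Agent.SpecSubLib.generalization_eq_iInter hE⟩
  tfae_have 4 → 5 := by
    classical
    rintro ⟨S, hS, rfl⟩
    refine ⟨Finset S, inferInstance, fun F => ⋂₀ ((fun s : S => s.1) '' (F : Set S)), fun F => ⟨?_, ?_⟩, ?_, fun F G => ⟨F ∪ G, ?_⟩⟩
    · exact (F.finite_toSet.image _).isOpen_sInter (by rintro _ ⟨s, -, rfl⟩; exact (hS s.1 s.2).1)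
    · exact QuasiSeparatedSpace.isCompact_sInter (F.finite_toSet.image _) (by rintro _ ⟨s, -, rfl⟩; exact Or.inl (hS s.1 s.2).1)
        (by rintro _ ⟨s, -, rfl⟩; exact (hS s.1 s.2).2)
    · refine Set.Subset.antisymm (fun x hx => Set.mem_iInter.mpr fun F => ?_) fun x hx s hs => ?_
      · rintro _ ⟨s, -, rfl⟩; exact hx s.1 s.2
      · exact Set.mem_iInter.mp hx {⟨s, hs⟩} s ⟨⟨s, hs⟩, by simp, rfl⟩
    · intro x hx
      refine ⟨?_, ?_⟩ <;> rintro _ ⟨s, hs, rfl⟩ <;> exact hx _ ⟨s, by simp [Finset.mem_coe.mp hs], rfl⟩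
  tfae_have 5 → 1 := by
    rintro ⟨I, _, U, hU, rfl, -⟩
    refine ⟨⟨Set.range U, ?_, (Set.sInter_range U).symm⟩, ?_⟩
    · rintro _ ⟨i, rfl⟩
      exact (hU i).2.isConstructible (hU i).1
    · intro x y hxy hx
      exact Set.mem_iInter.mpr fun i => hxy.mem_open (hU i).1 (Set.mem_iInter.mp hx i)
  tfae_finish

end Groth.Agent.S7539
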