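import Groth.Statements.S7541
import Groth.Agent.SpecSubLib.Basic
-- import your own Groth.Agent.* helpers here

set_option autoImplicit false
universe u
open SpecSp

namespace Groth.Agent.S7541

/-- Let X be a spectral space, E ⊆ X a constructible subset and W the set of points of X that specialize
to a point of E. Then the subspace W minus E is a spectral space. (The description of W minus E as a
limit of the U_i minus E is not recorded here.) -/
theorem result {X : Type u} [TopologicalSpace X] [SpectralSpace X]
    (E : Set X) (hE : Topology.IsConstructible E) :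
    SpectralSpace ↥({x : X | ∃ e ∈ E, x ⤳ e} \ E) := by
  refine Groth.Agent.SpecSubLib.spectralSpace_of_isClosed_cons ?_
  have hEc : IsCompact E := Groth.Agent.SpecSubLib.isCompact_of_isClosed_cons (Groth.Agent.SpecSubLib.isClosed_cons_of_isConstructible hE)
  have hW : {x : X | ∃ e ∈ E, x ⤳ e} = ⋂ U : {U : Set X // IsOpen U ∧ IsCompact U ∧ E ⊆ U}, U.1 := by
    refine Set.Subset.antisymm (fun x ⟨e, he, hxe⟩ => Set.mem_iInter.mpr fun U => hxe.mem_open U.2.1 (U.2.2.2 he)) fun x hx => ?_
    by_contra hne
    obtain ⟨U, hUc, hUo, hEU, hUx⟩ := PrespectralSpace.exists_isCompact_and_isOpen_between (U := (closure {x})ᶜ) hEc isClosed_closure.isOpen_compl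
      (fun e he hc => hne ⟨e, he, specializes_iff_mem_closure.mpr hc⟩)
    exact hUx (Set.mem_iInter.mp hx ⟨U, hUo, hUc, hEU⟩) (subset_closure rfl)
  rw [hW, Set.sdiff_eq]
  refine @IsClosed.inter X _ _ (constructibleTopology X) (@isClosed_iInter X _ (constructibleTopology X) _ fun U =>
    Groth.Agent.SpecSubLib.isClosed_cons_of_isConstructible (U.2.2.1.isConstructible U.2.1)) ?_
  exact Groth.Agent.SpecSubLib.isClosed_cons_of_isConstructible hE.compl

end Groth.Agent.S7541
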