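import Groth.Statements.S7544
import Groth.Agent.SweepSix.Constr

set_option autoImplicit false
universe u
open ConstrTop

namespace Groth.Agent.S7544

/-- Let X be a quasi-compact topological space whose quasi-compact opens form a basis and are closed
under pairwise intersection. Take T ⊆ X to be locally closed, quasi-compact, and with retrocompact
complement. Then T is constructible in X. -/
theorem result {X : Type u} [TopologicalSpace X]
    [CompactSpace X] [PrespectralSpace X] [QuasiSeparatedSpace X]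
    (T : Set X) (hT : IsLocallyClosed T) (hTc : IsCompact T) (hTr : IsRetrocompact Tᶜ) :
    Topology.IsConstructible T := by
  obtain ⟨U, C, hU, hC, rfl⟩ := hT
  have h := hTc
  obtain ⟨W, hW, hWc, hTW, hWU⟩ : ∃ W : Set X, IsOpen W ∧ IsCompact W ∧ U ∩ C ⊆ W ∧ W ⊆ U := by
    have h : ∀ x : (U ∩ C : Set X), ∃ V : Set X, (IsOpen V ∧ IsCompact V) ∧ x.1 ∈ V ∧ V ⊆ U :=
      fun x => PrespectralSpace.isTopologicalBasis.exists_subset_of_mem_open x.2.1 hU
    choose V hV hxV hVU using h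
    obtain ⟨t, ht⟩ := hTc.elim_finite_subcover V (fun x => (hV x).1) fun x hx => Set.mem_iUnion.mpr ⟨⟨x, hx⟩, hxV _⟩
    exact ⟨⋃ x ∈ t, V x, isOpen_biUnion fun x _ => (hV x).1, t.isCompact_biUnion fun x _ => (hV x).2, ht,
      Set.iUnion₂_subset fun x _ => hVU x⟩
  have hd : W ∩ (U ∩ C)ᶜ = W ∩ Cᶜ := by
    ext x
    exact ⟨fun ⟨hx, hn⟩ => ⟨hx, fun hc => hn ⟨hWU hx, hc⟩⟩, fun ⟨hx, hn⟩ => ⟨hx, fun hc => hn hc.2⟩⟩
  have hc1 : IsCompact (W ∩ Cᶜ) := by
    rw [← hd, Set.inter_comm]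
    exact hTr hWc hW
  have : U ∩ C = W \ (W ∩ Cᶜ) := by
    ext x
    exact ⟨fun hx => ⟨hTW hx, fun hn => hn.2 hx.2⟩, fun ⟨hx, hn⟩ => ⟨hWU hx, by_contra fun hc => hn ⟨hx, hc⟩⟩⟩
  rw [this]
  exact (hWc.isConstructible hW).sdiff (hc1.isConstructible (hW.inter hC.isOpen_compl))

end Groth.Agent.S7544
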