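import Groth.Statements.S7546
import Groth.Agent.SweepSix.Constr

set_option autoImplicit false
universe u
open ConstrTop

namespace Groth.Agent.S7546

/-- Let X be a topological space, Z ⊆ X irreducible and E ⊆ X a finite union of locally closed subsets
(for instance a constructible set). Then E ∩ Z is dense in Z if and only if E ∩ Z contains a subset
of the form U ∩ Z, U open in X, which is dense in Z. If moreover ξ ∈ Z is a generic point of Z,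
these conditions are equivalent to ξ ∈ E. -/
theorem result {X : Type u} [TopologicalSpace X] (Z : Set X) (hZ : IsIrreducible Z)
    {n : ℕ} (L : Fin n → Set X) (hL : ∀ i, IsLocallyClosed (L i)) (E : Set X) (hE : E = ⋃ i, L i) :
    (Z ⊆ closure (E ∩ Z) ↔ ∃ U : Set X, IsOpen U ∧ U ∩ Z ⊆ E ∧ Z ⊆ closure (U ∩ Z)) ∧
    (∀ ξ : X, ξ ∈ Z → Z ⊆ closure {ξ} → (Z ⊆ closure (E ∩ Z) ↔ ξ ∈ E)) := by
  subst hE
  have hU : ∀ U : Set X, IsOpen U → (U ∩ Z).Nonempty → Z ⊆ closure (U ∩ Z) := fun U hUo hne x hx => by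
    rw [mem_closure_iff]
    intro V hV hxV
    obtain ⟨y, hy⟩ := hne
    obtain ⟨z, hzZ, hzV, hzU⟩ := hZ.2 V U hV hUo ⟨x, hx, hxV⟩ ⟨y, hy.2, hy.1⟩
    exact ⟨z, hzV, hzU, hzZ⟩
  have key : Z ⊆ closure ((⋃ i, L i) ∩ Z) ↔
      ∃ U : Set X, IsOpen U ∧ U ∩ Z ⊆ ⋃ i, L i ∧ Z ⊆ closure (U ∩ Z) := by
    constructor
    · intro h
      rw [← Set.sUnion_range] at h ⊢
      obtain ⟨U, h1, h2, -, h3⟩ := SweepSix.exists_open_of_dense hZ (Set.finite_range L)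
        (fun _ ⟨i, hi⟩ => hi ▸ hL i) h
      exact ⟨U, h1, h2, h3⟩
    · rintro ⟨U, -, h1, h2⟩
      exact h2.trans (closure_mono fun x hx => ⟨h1 hx, hx.2⟩)
  refine ⟨key, fun ξ hξ hgen => ⟨fun h => ?_, fun h x hx => ?_⟩⟩
  · obtain ⟨U, hUo, hUE, hUd⟩ := key.mp h
    obtain ⟨z, hz⟩ := closure_nonempty_iff.mp ⟨ξ, hUd hξ⟩
    obtain ⟨w, hwU, hw⟩ := mem_closure_iff.mp (hgen hz.2) U hUo hz.1
    rw [Set.mem_singleton_iff] at hw
    subst hw
    exact hUE ⟨hwU, hξ⟩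
  · have hm : ξ ∈ (⋃ i, L i) ∩ Z := ⟨h, hξ⟩
    exact closure_mono (Set.singleton_subset_iff.mpr hm) (hgen hx)

end Groth.Agent.S7546
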