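import Groth.Statements.S7556
import Mathlib
import Mathlib
-- import your own Groth.Agent.* helpers here

set_option autoImplicit false
universe u
open PtTop

namespace Groth.Agent.S7556

/-- Let X be a quasi-compact Hausdorff space. There is a continuous surjection p : X' → X with X'
quasi-compact, Hausdorff and extremally disconnected such that no proper closed subset of X' maps
onto X; and if q : X'' → X is a second cover with the same properties, there is a homeomorphism X' ≃
X'' compatible with p and q. -/
theorem result (X : Type u) [TopologicalSpace X] [CompactSpace X] [T2Space X] :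
    (∃ (X' : Type u) (_ : TopologicalSpace X') (_ : CompactSpace X') (_ : T2Space X') (_ : ExtremallyDisconnected X')
        (p : X' → X), Continuous p ∧ Function.Surjective p ∧
        ∀ E : Set X', IsClosed E → E ≠ Set.univ → p '' E ≠ Set.univ) ∧
    (∀ (X' X'' : Type u) [TopologicalSpace X'] [CompactSpace X'] [T2Space X'] [ExtremallyDisconnected X']
        [TopologicalSpace X''] [CompactSpace X''] [T2Space X''] [ExtremallyDisconnected X'']
        (p : X' → X) (q : X'' → X),
        Continuous p → Function.Surjective p → (∀ E : Set X', IsClosed E → E ≠ Set.univ → p '' E ≠ Set.univ) →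
        Continuous q → Function.Surjective q → (∀ E : Set X'', IsClosed E → E ≠ Set.univ → q '' E ≠ Set.univ) →
        ∃ h : X' ≃ₜ X'', q ∘ h = p) := by
  have rigid : ∀ {E : Type u} [TopologicalSpace E] [T2Space E] (p : E → X) (h : E → E), Continuous h → p ∘ h = p →
      Function.Surjective p → (∀ F : Set E, IsClosed F → F ≠ Set.univ → p '' F ≠ Set.univ) → h = id := by
    intro E _ _ p h hc hp hs hmin
    funext x
    by_contra hne
    obtain ⟨G₁, G₂, o₁, o₂, m₁, m₂, hd⟩ := t2_separation hne
    let U := G₂ ∩ h ⁻¹' G₁
    refine hmin Uᶜ (o₂.inter (o₁.preimage hc)).isClosed_compl ?_ ?_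
    · exact Set.compl_ne_univ.mpr ⟨x, m₂, m₁⟩
    · refine Set.eq_univ_of_forall fun y => ?_
      obtain ⟨e, rfl⟩ := hs y
      by_cases he : e ∈ U
      · exact ⟨h e, fun hh => Set.disjoint_left.mp hd he.2 hh.1, congrFun hp e⟩
      · exact ⟨e, he, rfl⟩
  refine ⟨?_, ?_⟩
  · let D := ULift.{u} X
    letI τ : TopologicalSpace D := ⊥
    haveI : @DiscreteTopology D τ := ⟨rfl⟩
    let S := @StoneCech D τ
    let f : D → X := ULift.down
    have hf : @Continuous D X τ _ f := continuous_bot
    let p₀ : S → X := stoneCechExtend hf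
    have hp₀ : Continuous p₀ := continuous_stoneCechExtend hf
    have hs₀ : Function.Surjective p₀ := fun x => ⟨stoneCechUnit (⟨x⟩ : D), congrFun (stoneCechExtend_extends hf) ⟨x⟩⟩
    obtain ⟨E, hEc, hEs, hEm⟩ := exists_compact_surjective_zorn_subset hp₀ hs₀
    let p : E → X := fun e => p₀ e
    have hpc : Continuous p := hp₀.comp continuous_subtype_val
    have hps : Function.Surjective p := fun x => by
      obtain ⟨d, hd, hx⟩ := (hEs ▸ Set.mem_univ x : x ∈ p₀ '' E)
      exact ⟨⟨d, hd⟩, hx⟩
    have hmin : ∀ F : Set E, IsClosed F → F ≠ Set.univ → p '' F ≠ Set.univ := fun F h1 h2 => hEm F h2 h1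
    obtain ⟨h, hh, hph⟩ := StoneCech.projective (X := D) hp₀ hpc hps
    have hid : h ∘ Subtype.val = id := rigid p _ (hh.comp continuous_subtype_val)
      (by funext e; exact congrFun hph e.1) hps hmin
    have hproj : CompactT2.Projective E := by
      intro Y Z _ _ _ _ _ _ φ g hφ hg hgs
      obtain ⟨l, hl, hgl⟩ := StoneCech.projective (X := D) (hφ.comp hh) hg hgs
      refine ⟨l ∘ Subtype.val, hl.comp continuous_subtype_val, ?_⟩
      funext e
      exact (congrFun hgl e.1).trans (congrArg φ (congrFun hid e))
    exact ⟨E, inferInstance, hEc, inferInstance, hproj.extremallyDisconnected, p, hpc, hps, hmin⟩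
  · intro X' X'' _ _ _ _ _ _ _ _ p q hp hps hpm hq hqs hqm
    obtain ⟨a, ha, hqa⟩ := CompactT2.ExtremallyDisconnected.projective (A := X') hp hq hqs
    obtain ⟨b, hb, hpb⟩ := CompactT2.ExtremallyDisconnected.projective (A := X'') hq hp hps
    have h1 := rigid p (b ∘ a) (hb.comp ha) (by rw [← Function.comp_assoc, hpb, hqa]) hps hpm
    have h2 := rigid q (a ∘ b) (ha.comp hb) (by rw [← Function.comp_assoc, hqa, hpb]) hqs hqm
    exact ⟨{ toFun := a, invFun := b, left_inv := congrFun h1, right_inv := congrFun h2,
             continuous_toFun := ha, continuous_invFun := hb }, hqa⟩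

end Groth.Agent.S7556
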