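import Groth.Statements.S7558
import Mathlib
import Mathlib
-- import your own Groth.Agent.* helpers here

set_option autoImplicit false
universe u
open CategoryTheory CategoryTheory.Limits
open PtTop

namespace Groth.Agent.S7558

/-- The category of topological rings (commutative, with continuous ring homomorphisms) has colimits,
and colimits commute with the forgetful functor to rings. -/
theorem result :
    HasColimits TopCommRingCat.{u} ∧
    PreservesColimits (forget₂ TopCommRingCat.{u} CommRingCat.{u}) := by
  have key : ∀ {J : Type u} [Category.{u} J] (F : J ⥤ TopCommRingCat.{u}),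
      HasColimit F ∧ PreservesColimit F (forget₂ TopCommRingCat.{u} CommRingCat.{u}) := by
    intro J _ F
    let G := F ⋙ forget₂ TopCommRingCat.{u} CommRingCat.{u}
    let c := colimit.cocone G
    let hc : IsColimit c := colimit.isColimit G
    let R : Type u := c.pt
    let ι : ∀ j, F.obj j →+* R := fun j => (c.ι.app j).hom
    let τ : RingTopology R := sInf {b : RingTopology R | ∀ j, (F.obj j).isTopologicalSpace.coinduced (ι j) ≤ b.toTopologicalSpace}
    have hι : ∀ j, @Continuous _ _ (F.obj j).isTopologicalSpace τ.toTopologicalSpace (ι j) := fun j =>
      continuous_sInf_rng.2 <| Set.forall_mem_image.2 fun b hb => continuous_iff_coinduced_le.2 (hb j)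
    let P : TopCommRingCat.{u} := @TopCommRingCat.of R _ τ.toTopologicalSpace τ.toIsTopologicalRing
    let C : Cocone F :=
      { pt := P
        ι := { app := fun j => ⟨ι j, hι j⟩
               naturality := fun j j' f => by
                 apply Subtype.ext
                 exact (congrArg CommRingCat.Hom.hom (c.ι.naturality f)).trans rfl } }
    let sc : Cocone F → Cocone G := fun s => (forget₂ TopCommRingCat.{u} CommRingCat.{u}).mapCocone s
    have hd : ∀ s : Cocone F, @Continuous R s.pt τ.toTopologicalSpace s.pt.isTopologicalSpace (hc.desc (sc s)).hom := fun s => by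
      let g : R →+* s.pt := (hc.desc (sc s)).hom
      let b : RingTopology R :=
        { toTopologicalSpace := s.pt.isTopologicalSpace.induced g
          toIsTopologicalRing :=
            letI : TopologicalSpace R := s.pt.isTopologicalSpace.induced g
            haveI : ContinuousAdd R := continuousAdd_induced g
            haveI : ContinuousMul R := continuousMul_induced g
            haveI : ContinuousNeg R := Topology.IsInducing.continuousNeg ⟨rfl⟩ (fun x => map_neg g x)
            { } }
      have hb : τ ≤ b := sInf_le fun j => by
        rw [← coinduced_le_iff_le_induced, coinduced_compose]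
        refine continuous_iff_coinduced_le.1 ?_
        have e : (g : R → s.pt) ∘ ι j = (s.ι.app j).val := by
          funext x
          exact congrArg (fun h => h.hom x) (hc.fac (sc s) j)
        exact e ▸ (s.ι.app j).2
      exact continuous_iff_le_induced.2 hb
    let hC : IsColimit C :=
      { desc := fun s => ⟨(hc.desc (sc s)).hom, hd s⟩
        fac := fun s j => Subtype.ext (congrArg CommRingCat.Hom.hom (hc.fac (sc s) j))
        uniq := fun s m hm => Subtype.ext (congrArg CommRingCat.Hom.hom
          (hc.uniq (sc s) (CommRingCat.ofHom m.val) fun j => by
            ext x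
            exact congrArg (fun h => h.val x) (hm j))) }
    refine ⟨⟨⟨C, hC⟩⟩, preservesColimit_of_preserves_colimit_cocone hC ?_⟩
    exact IsColimit.ofIsoColimit hc (Cocone.ext (Iso.refl _) fun j => by ext x; rfl)
  exact ⟨⟨fun J _ => ⟨fun F => (key F).1⟩⟩, ⟨fun {J} _ => ⟨fun {F} => (key F).2⟩⟩⟩

end Groth.Agent.S7558
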