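import Groth.Statements.S7560
import Mathlib
-- import your own Groth.Agent.* helpers here

set_option autoImplicit false
universe u
open ConstrTop

namespace Groth.Agent.S7560

open Topology in
theorem exists_generators {X : Type u} [TopologicalSpace X] {T : Set X} (hT : IsConstructible T) :
    ∃ F : Set (Set X), F.Finite ∧ (∀ U ∈ F, IsOpen U ∧ IsRetrocompact U) ∧
      ∀ x y, (∀ U ∈ F, (x ∈ U ↔ y ∈ U)) → (x ∈ T ↔ y ∈ T) := by
  induction hT using Topology.IsConstructible.empty_union_induction with
  | open_retrocompact U hUo hUr => exact ⟨{U}, Set.finite_singleton _, by simp [hUo, hUr], fun x y h => h U rfl⟩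
  | union s _ t _ hs ht =>
    obtain ⟨F, hFf, hFo, hF⟩ := hs
    obtain ⟨G, hGf, hGo, hG⟩ := ht
    exact ⟨F ∪ G, hFf.union hGf, fun U hU => hU.elim (hFo U) (hGo U), fun x y h =>
      or_congr (hF x y fun U hU => h U (.inl hU)) (hG x y fun U hU => h U (.inr hU))⟩
  | compl s _ hs =>
    obtain ⟨F, hFf, hFo, hF⟩ := hs
    exact ⟨F, hFf, hFo, fun x y h => not_congr (hF x y h)⟩

/-- Let X be a topological space written as a finite union X = T_1 ∪ … ∪ T_n of constructible subsets.
Then there is a finite stratification X = ∐ S_i (pairwise disjoint locally closed strata indexed by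
a finite partially ordered set, with closure(S_j) ⊆ ⋃_{i ≤ j} S_i) whose strata are constructible
and such that every T_k is a union of strata. -/
theorem result {X : Type u} [TopologicalSpace X]
    {n : ℕ} (T : Fin n → Set X) (hT : ∀ k, Topology.IsConstructible (T k)) (hcov : ⋃ k, T k = Set.univ) :
    ∃ (I : Type) (_ : Fintype I) (_ : PartialOrder I) (S : I → Set X),
      (∀ i, IsLocallyClosed (S i) ∧ Topology.IsConstructible (S i)) ∧ (⋃ i, S i = Set.univ) ∧
      (∀ i j, i ≠ j → Disjoint (S i) (S j)) ∧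
      (∀ j, closure (S j) ⊆ ⋃ i ∈ Set.Iic j, S i) ∧
      (∀ i k, (S i ∩ T k).Nonempty → S i ⊆ T k) := by
  classical
  choose F hFf hFo hT' using fun k => exists_generators (hT k)
  let G : Set (Set X) := ⋃ k, F k
  have hGf : G.Finite := Set.finite_iUnion hFf
  have : Finite G := hGf.to_subtype
  obtain ⟨N, ⟨e⟩⟩ := Finite.exists_equiv_fin G
  let W : Fin N → Set X := fun i => (e.symm i).1
  have hW : ∀ i, IsOpen (W i) ∧ IsRetrocompact (W i) := fun i => by
    obtain ⟨k, hk⟩ := Set.mem_iUnion.1 (e.symm i).2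
    exact hFo k _ hk
  let S : (Fin N → Bool) → Set X := fun σ => {x | ∀ i, (σ i = true ↔ x ∈ W i)}
  have hSeq : ∀ σ, S σ = ⋂ i ∈ (Finset.univ : Finset (Fin N)), if σ i = true then W i else (W i)ᶜ := fun σ => by
    ext x
    simp only [S, Set.mem_setOf_eq, Finset.mem_univ, Set.iInter_true, Set.mem_iInter]
    refine forall_congr' fun i => ?_
    cases σ i <;> simp
  refine ⟨Fin N → Bool, inferInstance, inferInstance, S, fun σ => ⟨?_, ?_⟩, ?_, ?_, ?_, ?_⟩
  · have hOC : S σ = (⋂ i : {i // σ i = true}, W i.1) ∩ (⋃ i : {i // σ i = false}, W i.1)ᶜ := by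
      ext x
      simp only [S, Set.mem_setOf_eq, Set.mem_inter_iff, Set.mem_iInter, Set.mem_compl_iff,
        Set.mem_iUnion, not_exists, Subtype.forall]
      refine ⟨fun h => ⟨fun i hi => (h i).1 hi, fun i hi hx => by simp [(h i).2 hx] at hi⟩,
        fun h i => ⟨fun hi => h.1 i hi, fun hx => ?_⟩⟩
      by_contra hi
      exact h.2 i (by simpa using hi) hx
    rw [hOC]
    exact (isOpen_iInter_of_finite fun i : {i // σ i = true} => (hW i.1).1).isLocallyClosed.inter
      ((isOpen_iUnion fun i : {i // σ i = false} => (hW i.1).1).isClosed_compl.isLocallyClosed)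
  · rw [hSeq]
    refine Topology.IsConstructible.biInter (Finset.univ : Finset (Fin N)).finite_toSet fun i _ => ?_
    split
    · exact (hW i).2.isConstructible (hW i).1
    · exact ((hW i).2.isConstructible (hW i).1).compl
  · refine Set.eq_univ_of_forall fun x => Set.mem_iUnion.2 ⟨fun i => decide (x ∈ W i), fun i => by simp⟩
  · intro σ τ hne
    refine Set.disjoint_left.2 fun x hx hy => hne (funext fun i => ?_)
    rw [Bool.eq_iff_iff, hx i, hy i]
  · intro τ x hx
    refine Set.mem_iUnion₂.2 ⟨fun i => decide (x ∈ W i), fun i => ?_, fun i => by simp⟩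
    intro hi
    obtain ⟨y, hy1, hy2⟩ := mem_closure_iff.1 hx (W i) (hW i).1 (by simpa using hi)
    exact (hy2 i).2 hy1
  · rintro σ k ⟨x, hxS, hxT⟩ y hy
    refine (hT' k x y fun U hU => ?_).1 hxT
    have hUi : W (e ⟨U, Set.mem_iUnion.2 ⟨k, hU⟩⟩) = U := by simp [W]
    rw [← hUi, ← hxS _, ← hy _]

end Groth.Agent.S7560
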