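import Groth.Statements.S7568
import Mathlib.Topology.ShrinkingLemma
-- import your own Groth.Agent.* helpers here

set_option autoImplicit false
universe u
open PtTop

namespace Groth.Agent.S7568

/-- Let X be a Hausdorff quasi-compact space, X = ⋃ U_i an open covering, p ≥ 0 an integer, and for
every (p+1)-tuple (i_0, …, i_p) an open covering of U_{i_0} ∩ … ∩ U_{i_p} by opens W_{i_0…i_p,k}.
Then there are an open covering X = ⋃_{j ∈ J} V_j and a map α : J → I with closure(V_j) ⊆ U_{α(j)}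
such that each V_{j_0} ∩ … ∩ V_{j_p} is contained in W_{α(j_0)…α(j_p),k} for some k. The published
statement allows a covering of an empty intersection to have no members; this row requires every
covering W_{i_0…i_p} to have at least one member (possibly empty), without which the conclusion
fails. -/
theorem result {X : Type u} [TopologicalSpace X] [CompactSpace X] [T2Space X]
    {ι : Type u} (U : ι → Set X) (hU : ∀ i, IsOpen (U i)) (hcov : ⋃ i, U i = Set.univ) (p : ℕ)
    (W : (Fin (p + 1) → ι) → Set (Set X)) (hWo : ∀ t, ∀ w ∈ W t, IsOpen w)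
    (hWc : ∀ t, ⋃₀ W t = ⋂ l, U (t l)) (hWne : ∀ t, (W t).Nonempty) :
    ∃ (J : Type u) (V : J → Set X) (α : J → ι), (∀ j, IsOpen (V j)) ∧ (⋃ j, V j = Set.univ) ∧
      (∀ j, closure (V j) ⊆ U (α j)) ∧
      (∀ t : Fin (p + 1) → J, ∃ w ∈ W (α ∘ t), (⋂ l, V (t l)) ⊆ w) := by
  classical
  obtain ⟨I₀, hI₀⟩ := isCompact_univ.elim_finite_subcover U hU (by rw [hcov])
  obtain ⟨V', hV'cov, hV'o, hV'cl⟩ := exists_subset_iUnion_closure_subset (s := Set.univ) (u := fun i : I₀ => U i.1)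
    isClosed_univ (fun i => hU i) (fun x _ => Set.toFinite _) (fun x hx => by
      obtain ⟨i, hi, hxi⟩ := Set.mem_iUnion₂.mp (hI₀ hx); exact Set.mem_iUnion.mpr ⟨⟨i, hi⟩, hxi⟩)
  have hex : ∀ x : X, ∀ t : Fin (p + 1) → I₀, ∃ N : Set X, IsOpen N ∧ x ∈ N ∧
      ((∀ l, x ∈ U (t l).1) → ∃ w ∈ W (fun l => (t l).1), N ⊆ w) := by
    intro x t
    by_cases h : ∀ l, x ∈ U (t l).1
    · have hx : x ∈ ⋃₀ W (fun l => (t l).1) := by rw [hWc]; exact Set.mem_iInter.mpr h
      obtain ⟨w, hw, hxw⟩ := hx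
      exact ⟨w, hWo _ w hw, hxw, fun _ => ⟨w, hw, subset_rfl⟩⟩
    · exact ⟨Set.univ, isOpen_univ, trivial, fun h' => absurd h' h⟩
  choose N hNo hNx hNw using hex
  let M : X → Set X := fun x => (⋂ t, N x t) ∩ ⋂ i : I₀, if x ∈ closure (V' i) then Set.univ else (closure (V' i))ᶜ
  have hMo : ∀ x, IsOpen (M x) := fun x => (isOpen_iInter_of_finite fun t => hNo x t).inter
    (isOpen_iInter_of_finite fun i => by split_ifs <;> simp)
  have hMx : ∀ x, x ∈ M x := fun x => ⟨Set.mem_iInter.mpr (hNx x), Set.mem_iInter.mpr fun i => by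
    split_ifs with h
    · trivial
    · exact h⟩
  refine ⟨X × I₀, fun j => M j.1 ∩ V' j.2, fun j => j.2.1, fun j => (hMo _).inter (hV'o _), ?_, fun j =>
    (closure_mono Set.inter_subset_right).trans (hV'cl _), fun t => ?_⟩
  · refine Set.eq_univ_of_forall fun x => ?_
    obtain ⟨i, hi⟩ := Set.mem_iUnion.mp (hV'cov (Set.mem_univ x))
    exact Set.mem_iUnion.mpr ⟨(x, i), hMx x, hi⟩
  by_cases hne : (⋂ l, M (t l).1 ∩ V' (t l).2).Nonempty
  · obtain ⟨z, hz⟩ := hne
    rw [Set.mem_iInter] at hz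
    have hcl : ∀ l, (t 0).1 ∈ closure (V' (t l).2) := by
      intro l
      by_contra h
      have := Set.mem_iInter.mp (hz 0).1.2 (t l).2
      rw [if_neg h] at this
      exact this (subset_closure (hz l).2)
    obtain ⟨w, hw, hsub⟩ := hNw (t 0).1 (fun l => (t l).2) (fun l => hV'cl _ (hcl l))
    exact ⟨w, hw, fun y hy => hsub (Set.mem_iInter.mp (Set.mem_iInter.mp hy 0).1.1 _)⟩
  · obtain ⟨w, hw⟩ := hWne (fun l => (t l).2.1)
    exact ⟨w, hw, fun y hy => absurd ⟨y, hy⟩ hne⟩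

end Groth.Agent.S7568
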