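import Groth.Statements.S7569
import Mathlib.Topology.Compactness.LocallyCompact
import Mathlib.Topology.Separation.Hausdorff
import Mathlib.Data.Fintype.Pi
-- import your own Groth.Agent.* helpers here

set_option autoImplicit false
universe u
open PtTop

namespace Groth.Agent.S7569

/-- Let X be a Hausdorff, locally quasi-compact space and Z ⊆ X a quasi-compact subset. Let p ≥ 0, let
U_i ⊆ X be opens with Z ⊆ ⋃ U_i, and for every (p+1)-tuple (i_0, …, i_p) let W_{i_0…i_p} ⊆ U_{i_0} ∩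
… ∩ U_{i_p} be an open with W_{i_0…i_p} ∩ Z = U_{i_0} ∩ … ∩ U_{i_p} ∩ Z. Then there are opens V_i ⊆
X with Z ⊆ ⋃ V_i, closure(V_i) ⊆ U_i for all i, and V_{i_0} ∩ … ∩ V_{i_p} ⊆ W_{i_0…i_p} for all
(p+1)-tuples. -/
theorem result {X : Type u} [TopologicalSpace X]
    [T2Space X] [LocallyCompactSpace X] (Z : Set X) (hZ : IsCompact Z)
    {ι : Type u} (U : ι → Set X) (hU : ∀ i, IsOpen (U i)) (hcov : Z ⊆ ⋃ i, U i) (p : ℕ)
    (W : (Fin (p + 1) → ι) → Set X) (hWo : ∀ t, IsOpen (W t)) (hWU : ∀ t, W t ⊆ ⋂ l, U (t l))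
    (hWZ : ∀ t, W t ∩ Z = (⋂ l, U (t l)) ∩ Z) :
    ∃ V : ι → Set X, (∀ i, IsOpen (V i)) ∧ (Z ⊆ ⋃ i, V i) ∧ (∀ i, closure (V i) ⊆ U i) ∧
      (∀ t : Fin (p + 1) → ι, (⋂ l, V (t l)) ⊆ W t) := by
  classical
  have hsel : ∀ z : Z, ∃ i, ∃ K : Set X, K ∈ nhds (z : X) ∧ K ⊆ U i ∧ IsCompact K := fun z => by
    obtain ⟨i, hi⟩ := Set.mem_iUnion.mp (hcov z.2)
    obtain ⟨K, hK, hKU, hKc⟩ := local_compact_nhds ((hU i).mem_nhds hi)
    exact ⟨i, K, hK, hKU, hKc⟩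
  choose i K hK hKU hKc using hsel
  obtain ⟨F, hF⟩ := hZ.elim_finite_subcover (fun z : Z => interior (K z)) (fun z => isOpen_interior)
    (fun z hz => Set.mem_iUnion.mpr ⟨⟨z, hz⟩, mem_interior_iff_mem_nhds.mpr (hK ⟨z, hz⟩)⟩)
  let I : Finset ι := F.image i
  let L : ι → Set X := fun j => ⋃ z ∈ F.filter (fun z => i z = j), K z
  have hLc : ∀ j, IsCompact (L j) := fun j => Finset.isCompact_biUnion _ fun z _ => hKc z
  have hLU : ∀ j, L j ⊆ U j := fun j => by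
    refine Set.iUnion₂_subset fun z hz => ?_
    rw [← (Finset.mem_filter.mp hz).2]
    exact hKU z
  let bad : (Fin (p + 1) → I) → Set X := fun t => (⋂ l, L (t l)) \ W (fun l => (t l : ι))
  have hbad : ∀ t, IsClosed (bad t) := fun t => (isClosed_iInter fun l => (hLc _).isClosed).sdiff (hWo _)
  have hbadZ : ∀ t, ∀ x ∈ Z, x ∉ bad t := fun t x hx hb => hb.2 (by
    have h1 : x ∈ (⋂ l, U (t l : ι)) ∩ Z := ⟨Set.mem_iInter.mpr fun l => hLU _ (Set.mem_iInter.mp hb.1 l), hx⟩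
    rw [← hWZ] at h1
    exact h1.1)
  let V : ι → Set X := fun j => (⋃ z ∈ F.filter (fun z => i z = j), interior (K z)) \ ⋃ t, bad t
  have hVL : ∀ j, V j ⊆ L j := fun j x hx => by
    obtain ⟨z, hz, hxz⟩ := Set.mem_iUnion₂.mp hx.1
    exact Set.mem_iUnion₂.mpr ⟨z, hz, interior_subset hxz⟩
  refine ⟨V, fun j => (isOpen_biUnion fun z _ => isOpen_interior).sdiff (isClosed_iUnion_of_finite hbad), fun x hx => ?_,
    fun j => (closure_minimal (hVL j) (hLc j).isClosed).trans (hLU j), fun t x hx => ?_⟩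
  · obtain ⟨z, hz, hxz⟩ := Set.mem_iUnion₂.mp (hF hx)
    refine Set.mem_iUnion.mpr ⟨i z, Set.mem_iUnion₂.mpr ⟨z, Finset.mem_filter.mpr ⟨hz, rfl⟩, hxz⟩, ?_⟩
    rintro hb
    obtain ⟨t, ht⟩ := Set.mem_iUnion.mp hb
    exact hbadZ t x hx ht
  · have htI : ∀ l, t l ∈ I := fun l => by
      obtain ⟨z, hz, -⟩ := Set.mem_iUnion₂.mp (Set.mem_iInter.mp hx l).1
      exact Finset.mem_image.mpr ⟨z, (Finset.mem_filter.mp hz).1, (Finset.mem_filter.mp hz).2⟩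
    by_contra hW
    exact (Set.mem_iInter.mp hx 0).2 (Set.mem_iUnion.mpr ⟨fun l => ⟨t l, htI l⟩,
      Set.mem_iInter.mpr fun l => hVL _ (Set.mem_iInter.mp hx l), hW⟩)

end Groth.Agent.S7569
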