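import Groth.Statements.S7570
import Mathlib.Topology.ShrinkingLemma
-- import your own Groth.Agent.* helpers here

set_option autoImplicit false
universe u
open PtTop

namespace Groth.Agent.S7570

/-- Let X be a topological space and Z ⊆ X a quasi-compact subset such that any two distinct points of Z
have disjoint open neighbourhoods in X. Let p ≥ 0, let U_i ⊆ X be opens with Z ⊆ ⋃ U_i, and for
every (p+1)-tuple let W_{i_0…i_p} ⊆ U_{i_0} ∩ … ∩ U_{i_p} be an open with W_{i_0…i_p} ∩ Z = U_{i_0}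
∩ … ∩ U_{i_p} ∩ Z. Then there are opens V_i with (1) Z ⊆ ⋃ V_i, (2) V_i ⊆ U_i, (3) closure(V_i) ∩ Z
⊆ U_i, and (4) V_{i_0} ∩ … ∩ V_{i_p} ⊆ W_{i_0…i_p} for all (p+1)-tuples. -/
theorem result {X : Type u} [TopologicalSpace X]
    (Z : Set X) (hZ : IsCompact Z)
    (hZsep : ∀ z ∈ Z, ∀ z' ∈ Z, z ≠ z' → ∃ A B : Set X, IsOpen A ∧ IsOpen B ∧ z ∈ A ∧ z' ∈ B ∧ Disjoint A B)
    {ι : Type u} (U : ι → Set X) (hU : ∀ i, IsOpen (U i)) (hcov : Z ⊆ ⋃ i, U i) (p : ℕ)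
    (W : (Fin (p + 1) → ι) → Set X) (hWo : ∀ t, IsOpen (W t)) (hWU : ∀ t, W t ⊆ ⋂ l, U (t l))
    (hWZ : ∀ t, W t ∩ Z = (⋂ l, U (t l)) ∩ Z) :
    ∃ V : ι → Set X, (∀ i, IsOpen (V i)) ∧ (Z ⊆ ⋃ i, V i) ∧ (∀ i, V i ⊆ U i) ∧
      (∀ i, closure (V i) ∩ Z ⊆ U i) ∧ (∀ t : Fin (p + 1) → ι, (⋂ l, V (t l)) ⊆ W t) := by
  classical
  have hsep : ∀ C D : Set X, IsCompact C → IsCompact D → C ⊆ Z → D ⊆ Z → Disjoint C D → SeparatedNhds C D := by
    intro C D hC hD hCZ hDZ hCD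
    have h1 : ∀ z ∈ C, SeparatedNhds {z} D := by
      intro z hz
      refine hD.induction_on (p := fun s => SeparatedNhds {z} s) (SeparatedNhds.empty_right _)
        (fun s t hst h => h.mono subset_rfl hst) (fun s t hs ht => hs.union_right ht) fun y hy => ?_
      obtain ⟨A, B, hA, hB, hzA, hyB, hAB⟩ := hZsep z (hCZ hz) y (hDZ hy) (fun e => Set.disjoint_left.mp hCD hz (e ▸ hy))
      exact ⟨B, mem_nhdsWithin_of_mem_nhds (hB.mem_nhds hyB), A, B, hA, hB, Set.singleton_subset_iff.mpr hzA, subset_rfl, hAB⟩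
    refine hC.induction_on (p := fun s => SeparatedNhds s D) (SeparatedNhds.empty_left _)
      (fun s t hst h => h.mono hst subset_rfl) (fun s t hs ht => hs.union_left ht) fun z hz => ?_
    obtain ⟨A, B, hA, hB, hzA, hDB, hAB⟩ := h1 z hz
    exact ⟨A, mem_nhdsWithin_of_mem_nhds (hA.mem_nhds (hzA rfl)), A, B, hA, hB, subset_rfl, hDB, hAB⟩
  haveI : CompactSpace Z := isCompact_iff_compactSpace.mp hZ
  haveI : T2Space Z := ⟨fun a b hab => by
    obtain ⟨A, B, hA, hB, haA, hbB, hAB⟩ := hZsep a.1 a.2 b.1 b.2 (fun e => hab (Subtype.ext e))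
    exact ⟨_, _, hA.preimage continuous_subtype_val, hB.preimage continuous_subtype_val, haA, hbB, hAB.preimage _⟩⟩
  obtain ⟨I₀, hI₀⟩ := hZ.elim_finite_subcover U hU hcov
  obtain ⟨C', hC'cov, hC'cl, hC'U⟩ := exists_subset_iUnion_closed_subset (s := (Set.univ : Set Z)) (u := fun i : I₀ => Subtype.val ⁻¹' U i.1)
    isClosed_univ (fun i => (hU i).preimage continuous_subtype_val) (fun x _ => Set.toFinite _) (fun x _ => by
      obtain ⟨i, hi, hxi⟩ := Set.mem_iUnion₂.mp (hI₀ x.2); exact Set.mem_iUnion.mpr ⟨⟨i, hi⟩, hxi⟩)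
  let C : I₀ → Set X := fun i => Subtype.val '' C' i
  have hCc : ∀ i, IsCompact (C i) := fun i => (hC'cl i).isCompact.image continuous_subtype_val
  have hCZ : ∀ i, C i ⊆ Z := fun i => by rintro _ ⟨y, -, rfl⟩; exact y.2
  have hCU : ∀ i, C i ⊆ U i.1 := fun i => by rintro _ ⟨y, hy, rfl⟩; exact hC'U i hy
  have hA : ∀ i : I₀, SeparatedNhds (C i) (Z \ U i.1) := fun i =>
    hsep _ _ (hCc i) (hZ.diff (hU i)) (hCZ i) Set.diff_subset (Set.disjoint_left.mpr fun x hx hx' => hx'.2 (hCU i hx))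
  choose A B hAo hBo hCA hDB hAB using hA
  have hQ : ∀ (z : Z) (i : I₀), ∃ P Q : Set X, IsOpen P ∧ IsOpen Q ∧ z.1 ∈ P ∧ C i ⊆ Q ∧ (z.1 ∉ C i → Disjoint P Q) := by
    intro z i
    by_cases h : z.1 ∈ C i
    · exact ⟨Set.univ, Set.univ, isOpen_univ, isOpen_univ, trivial, Set.subset_univ _, fun h' => absurd h h'⟩
    · obtain ⟨P, Q, hP, hQ, hzP, hCQ, hPQ⟩ := hsep {z.1} (C i) isCompact_singleton (hCc i) (Set.singleton_subset_iff.mpr z.2) (hCZ i)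
        (Set.disjoint_singleton_left.mpr h)
      exact ⟨P, Q, hP, hQ, hzP rfl, hCQ, fun _ => hPQ⟩
  choose P Q hPo hQo hzP hCQ hPQ using hQ
  let N : Z → Set X := fun z => (⋂ i, P z i) ∩ ⋂ t : Fin (p + 1) → I₀,
    if (∀ l, z.1 ∈ C (t l)) then W (fun l => (t l).1) else Set.univ
  have hNo : ∀ z, IsOpen (N z) := fun z => (isOpen_iInter_of_finite fun i => hPo z i).inter
    (isOpen_iInter_of_finite fun t => by split_ifs <;> simp [hWo])
  have hNz : ∀ z, z.1 ∈ N z := fun z => ⟨Set.mem_iInter.mpr (hzP z), Set.mem_iInter.mpr fun t => by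
    split_ifs with h
    · exact ((hWZ _).symm ▸ (⟨Set.mem_iInter.mpr fun l => hCU _ (h l), z.2⟩ : z.1 ∈ (⋂ l, U (t l).1) ∩ Z) : z.1 ∈ W _ ∩ Z).1
    · trivial⟩
  obtain ⟨F, hF⟩ := hZ.elim_finite_subcover N hNo fun x hx => Set.mem_iUnion.mpr ⟨⟨x, hx⟩, hNz ⟨x, hx⟩⟩
  let V₀ : I₀ → Set X := fun i => U i.1 ∩ A i ∩ (⋃ z ∈ F, N z) ∩ ⋂ z : F, Q z.1 i
  refine ⟨fun i => if h : i ∈ I₀ then V₀ ⟨i, h⟩ else ∅, fun i => ?_, fun x hx => ?_, fun i => ?_, fun i => ?_, fun t => ?_⟩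
  · dsimp only; split_ifs
    · exact (((hU _).inter (hAo _)).inter (isOpen_biUnion fun z _ => hNo z)).inter (isOpen_iInter_of_finite fun z => hQo _ _)
    · exact isOpen_empty
  · obtain ⟨i, hi⟩ := Set.mem_iUnion.mp (hC'cov (Set.mem_univ (⟨x, hx⟩ : Z)))
    have hxC : x ∈ C i := ⟨_, hi, rfl⟩
    refine Set.mem_iUnion.mpr ⟨i.1, ?_⟩
    rw [dif_pos i.2]
    exact ⟨⟨⟨hCU i hxC, hCA i hxC⟩, hF hx⟩, Set.mem_iInter.mpr fun z => hCQ _ i hxC⟩
  · dsimp only; split_ifs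
    · exact fun x hx => hx.1.1.1
    · exact Set.empty_subset _
  · dsimp only; split_ifs with h
    · rintro x ⟨hx, hxZ⟩
      by_contra hxU
      exact Set.disjoint_left.mp ((hAB ⟨i, h⟩).closure_left (hBo _)) (closure_mono (fun y hy => hy.1.1.2) hx) (hDB ⟨i, h⟩ ⟨hxZ, hxU⟩)
    · simp
  · intro y hy
    rw [Set.mem_iInter] at hy
    dsimp only at hy
    have ht : ∀ l, t l ∈ I₀ := fun l => by
      by_contra h; have := hy l; rw [dif_neg h] at this; exact this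
    have hy' : ∀ l, y ∈ V₀ ⟨t l, ht l⟩ := fun l => by have := hy l; rwa [dif_pos (ht l)] at this
    obtain ⟨z, hz, hyz⟩ := Set.mem_iUnion₂.mp (hy' 0).1.2
    have hzC : ∀ l, z.1 ∈ C ⟨t l, ht l⟩ := fun l => by
      by_contra h
      exact Set.disjoint_left.mp (hPQ z _ h) (Set.mem_iInter.mp hyz.1 _) (Set.mem_iInter.mp (hy' l).2 ⟨z, hz⟩)
    have := Set.mem_iInter.mp hyz.2 (fun l => ⟨t l, ht l⟩)
    rwa [if_pos hzC] at this

end Groth.Agent.S7570
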