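import Groth.Statements.S7575
import Mathlib.Topology.Sheaves.SheafCondition.UniqueGluing
import Mathlib.CategoryTheory.Sites.LocallyBijective
import Mathlib.CategoryTheory.Sites.Limits
import Mathlib.CategoryTheory.Limits.Types.Filtered
-- import your own Groth.Agent.* helpers here

set_option autoImplicit false
universe u
open CategoryTheory CategoryTheory.Limits TopologicalSpace Opposite
open ShSp

namespace Groth.Agent.S7575

set_option backward.isDefEq.respectTransparency false

variable {X : TopCat.{u}} {J : Type u} [Preorder J] {F : J ⥤ X.Sheaf (Type u)} {c : Cocone F}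

/-- The presheaf colimit maps to the sheaf colimit by a locally bijective map. -/
theorem desc_mem_W (hc : IsColimit c) :
    (Opens.grothendieckTopology X).W (colimit.desc (F ⋙ sheafToPresheaf _ (Type u))
      ((sheafToPresheaf _ (Type u)).mapCocone c)) := by
  let T := Opens.grothendieckTopology X
  let E := colimit.cocone (F ⋙ sheafToPresheaf T (Type u))
  let e := (Sheaf.isColimitSheafifyCocone E (colimit.isColimit _)).coconePointUniqueUpToIso hc
  have h : colimit.desc (F ⋙ sheafToPresheaf T (Type u)) ((sheafToPresheaf T (Type u)).mapCocone c) =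
      toSheafify T E.pt ≫ ((sheafToPresheaf T (Type u)).mapIso e).hom := by
    refine colimit.hom_ext fun j => ?_
    rw [colimit.ι_desc, ← Category.assoc]
    refine Eq.trans ?_ (congrArg (· ≫ ((sheafToPresheaf T (Type u)).mapIso e).hom)
      (Sheaf.sheafifyCocone_ι_app_val E j))
    exact congrArg (fun t => t.hom)
      (IsColimit.comp_coconePointUniqueUpToIso_hom (Sheaf.isColimitSheafifyCocone E (colimit.isColimit _)) hc j).symm
  rw [h]
  exact T.W.comp_mem _ _ (T.W_toSheafify E.pt) (MorphismProperty.of_isIso _ _)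

theorem loc_lift [IsFiltered J] (hc : IsColimit c) (V : Opens X) (s : c.pt.1.obj (op V)) (x : X)
    (hx : x ∈ V) : ∃ (W : Opens X) (h : W ⟶ V), x ∈ W ∧
      ∃ (i : J) (y : (F.obj i).1.obj (op W)), (c.ι.app i).1.app (op W) y = c.pt.1.map h.op s := by
  let T := Opens.grothendieckTopology X
  let u := colimit.desc (F ⋙ sheafToPresheaf T (Type u)) ((sheafToPresheaf T (Type u)).mapCocone c)
  obtain ⟨-, h⟩ := (T.W_iff_isLocallyBijective u).1 (desc_mem_W hc)
  obtain ⟨W, g, ⟨z, hz⟩, hxW⟩ := Presheaf.imageSieve_mem T u s x hx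
  obtain ⟨i, y, rfl⟩ := Types.jointly_surjective_of_isColimit
    (isColimitOfPreserves ((evaluation (Opens X)ᵒᵖ (Type u)).obj (op W)) (colimit.isColimit _)) z
  refine ⟨W, g, hxW, i, y, Eq.trans ?_ hz⟩
  exact (ConcreteCategory.congr_hom (NatTrans.congr_app (colimit.ι_desc ((sheafToPresheaf T (Type u)).mapCocone c) i) (op W)) y).symm

theorem loc_eq [IsFiltered J] (hc : IsColimit c) {i : J} {V : Opens X} (a b : (F.obj i).1.obj (op V))
    (h : (c.ι.app i).1.app (op V) a = (c.ι.app i).1.app (op V) b) (x : X) (hx : x ∈ V) :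
    ∃ (W : Opens X) (g : W ⟶ V), x ∈ W ∧ ∃ (j : J) (f : i ⟶ j),
      (F.map f).1.app (op W) ((F.obj i).1.map g.op a) = (F.map f).1.app (op W) ((F.obj i).1.map g.op b) := by
  let T := Opens.grothendieckTopology X
  let u := colimit.desc (F ⋙ sheafToPresheaf T (Type u)) ((sheafToPresheaf T (Type u)).mapCocone c)
  obtain ⟨h', -⟩ := (T.W_iff_isLocallyBijective u).1 (desc_mem_W hc)
  let ι := (colimit.ι (F ⋙ sheafToPresheaf T (Type u)) i).app (op V)
  have hu : ∀ z, u.app (op V) (ι z) = (c.ι.app i).1.app (op V) z := fun z =>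
    ConcreteCategory.congr_hom (NatTrans.congr_app (colimit.ι_desc ((sheafToPresheaf T (Type u)).mapCocone c) i) (op V)) z
  obtain ⟨W, g, hg, hxW⟩ := Presheaf.equalizerSieve_mem T u (ι a) (ι b) ((hu a).trans (h.trans (hu b).symm)) x hx
  change (colimit (F ⋙ sheafToPresheaf T (Type u))).map g.op (ι a) =
    (colimit (F ⋙ sheafToPresheaf T (Type u))).map g.op (ι b) at hg
  rw [← NatTrans.naturality_apply, ← NatTrans.naturality_apply] at hg
  obtain ⟨j, f, e⟩ := (Types.FilteredColimit.isColimit_eq_iff' (isColimitOfPreserves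
    ((evaluation (Opens X)ᵒᵖ (Type u)).obj (op W)) (colimit.isColimit _)) _ _).1 hg
  exact ⟨W, g, hxW, j, f, e⟩

/-- A uniform index for finitely many objects. -/
theorem exists_ge [Nonempty J] [IsDirected J (· ≤ ·)] {κ : Type*} [Finite κ] (i : κ → J) (i₀ : J) :
    ∃ m, i₀ ≤ m ∧ ∀ k, i k ≤ m := by
  classical
  obtain ⟨m, hm⟩ := Finite.exists_le i
  obtain ⟨m', h, h'⟩ := directed_of (· ≤ ·) m i₀
  exact ⟨m', h', fun k => (hm k).trans h⟩

theorem map_trans_apply {i j k : J} (h : i ≤ j) (h' : j ≤ k) {V : (Opens X)ᵒᵖ} (a : (F.obj i).1.obj V) :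
    (F.map (homOfLE (h.trans h'))).1.app V a = (F.map (homOfLE h')).1.app V ((F.map (homOfLE h)).1.app V a) := by
  rw [show homOfLE (h.trans h') = homOfLE h ≫ homOfLE h' from Subsingleton.elim _ _, F.map_comp]
  rfl

theorem cocone_apply {i j : J} (h : i ≤ j) {V : (Opens X)ᵒᵖ} (a : (F.obj i).1.obj V) :
    (c.ι.app j).1.app V ((F.map (homOfLE h)).1.app V a) = (c.ι.app i).1.app V a :=
  ConcreteCategory.congr_hom (NatTrans.congr_app (congrArg (fun t => t.1) (c.w (homOfLE h))) V) a

theorem sheaf_ext (G : X.Sheaf (Type u)) {U : Opens X} (a b : G.1.obj (op U))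
    (h : ∀ x ∈ U, ∃ (W : Opens X) (g : W ⟶ U), x ∈ W ∧ G.1.map g.op a = G.1.map g.op b) : a = b := by
  choose W g hW e using h
  exact G.eq_of_locally_eq' (fun x : U => W x.1 x.2) U (fun x => g x.1 x.2)
    (fun x hx => Opens.mem_iSup.2 ⟨⟨x, hx⟩, hW x hx⟩) a b fun x => e x.1 x.2

theorem F_nat {i j : J} (f : i ⟶ j) {V W : Opens X} (g : W ⟶ V) (a : (F.obj i).1.obj (op V)) :
    (F.map f).1.app (op W) ((F.obj i).1.map g.op a) = (F.obj j).1.map g.op ((F.map f).1.app (op V) a) :=
  NatTrans.naturality_apply (F.map f).1 g.op a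

theorem ι_nat {i : J} {V W : Opens X} (g : W ⟶ V) (a : (F.obj i).1.obj (op V)) :
    (c.ι.app i).1.app (op W) ((F.obj i).1.map g.op a) = c.pt.1.map g.op ((c.ι.app i).1.app (op V) a) :=
  NatTrans.naturality_apply (c.ι.app i).1 g.op a

theorem pt_comp {U V W : Opens X} (g : W ⟶ V) (h : V ⟶ U) (k : W ⟶ U) (s : c.pt.1.obj (op U)) :
    c.pt.1.map g.op (c.pt.1.map h.op s) = c.pt.1.map k.op s := by
  rw [show k = g ≫ h from Subsingleton.elim _ _]
  exact (ConcreteCategory.congr_hom (c.pt.1.map_comp h.op g.op) s).symm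

/-- Gluing finitely many lifts which agree on overlaps. -/
theorem lift_of_agree {U : Opens X} (s : c.pt.1.obj (op U)) {κ : Type u} (W : κ → Opens X) (hWU : ∀ k, W k ≤ U)
    (hcov : U ≤ iSup W) {m : J} (y : ∀ k, (F.obj m).1.obj (op (W k)))
    (hy : ∀ k, (c.ι.app m).1.app (op (W k)) (y k) = c.pt.1.map (homOfLE (hWU k)).op s)
    (hag : ∀ k k', (F.obj m).1.map (homOfLE (inf_le_left : W k ⊓ W k' ≤ W k)).op (y k) =
      (F.obj m).1.map (homOfLE (inf_le_right : W k ⊓ W k' ≤ W k')).op (y k')) :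
    ∃ z : (F.obj m).1.obj (op U), (c.ι.app m).1.app (op U) z = s := by
  obtain ⟨z, hz, -⟩ := (F.obj m).existsUnique_gluing' W U (fun k => homOfLE (hWU k)) hcov y
    (fun k k' => hag k k')
  refine ⟨z, c.pt.eq_of_locally_eq' W U (fun k => homOfLE (hWU k)) hcov _ _ fun k => ?_⟩
  exact (ι_nat (homOfLE (hWU k)) z).symm.trans ((congrArg _ (hz k)).trans (hy k))

/-- Let X be a topological space, I a directed set, (F_i) a system of sheaves of sets on X over I with
colimit F (in sheaves), U ⊆ X open, and Ψ : colim_i F_i(U) → F(U) the canonical map. (1) If all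
transition maps F_i → F_{i'} are injective (on all sections) then Ψ is injective. (2)
Quasi-compactness of U alone already makes Ψ injective. (3) When U is quasi-compact and every
transition map is injective, Ψ is bijective. (4) If every open covering of U can be refined by a
finite open covering U = U_1 ∪ … ∪ U_m with all U_j ∩ U_{j'} quasi-compact, then Ψ is bijective. -/
theorem result {X : TopCat.{u}} {J : Type u} [Preorder J] [Nonempty J] [IsDirected J (· ≤ ·)]
    (F : J ⥤ X.Sheaf (Type u)) (c : Cocone F) (hc : IsColimit c) (U : Opens X) :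
    let ev := TopCat.Sheaf.forget (Type u) X ⋙ (evaluation (Opens X)ᵒᵖ (Type u)).obj (op U)
    let Ψ : colimit (F ⋙ ev) → ev.obj c.pt := colimit.desc (F ⋙ ev) (ev.mapCocone c)
    ((∀ (i j : J) (h : i ⟶ j) (V : Opens X), Function.Injective ((F.map h).1.app (op V))) → Function.Injective Ψ) ∧
    (IsCompact (U : Set X) → Function.Injective Ψ) ∧
    (IsCompact (U : Set X) → (∀ (i j : J) (h : i ⟶ j) (V : Opens X), Function.Injective ((F.map h).1.app (op V))) →
      Function.Bijective Ψ) ∧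
    ((∀ 𝒱 : Set (Opens X), (⨆ V ∈ 𝒱, V) = U →
        ∃ (m : ℕ) (W : Fin m → Opens X), (∀ j, ∃ V ∈ 𝒱, W j ≤ V) ∧ (⨆ j, W j) = U ∧
          ∀ j j', IsCompact ((W j ⊓ W j' : Opens X) : Set X)) →
      Function.Bijective Ψ) := by
  intro ev Ψ
  haveI : IsFiltered J := isFiltered_of_directed_le_nonempty J
  have hΨ : ∀ i (a : (F.obj i).1.obj (op U)), Ψ (colimit.ι (F ⋙ ev) i a) = (c.ι.app i).1.app (op U) a :=
    fun i a => ConcreteCategory.congr_hom (colimit.ι_desc (ev.mapCocone c) i) a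
  have hsurj : (∀ s : c.pt.1.obj (op U), ∃ m z, (c.ι.app m).1.app (op U) z = s) → Function.Surjective Ψ := by
    intro h s
    obtain ⟨m, z, hz⟩ := h s
    exact ⟨colimit.ι (F ⋙ ev) m z, (hΨ m z).trans hz⟩
  have hinj : (∀ m (a b : (F.obj m).1.obj (op U)), (c.ι.app m).1.app (op U) a = (c.ι.app m).1.app (op U) b →
      ∃ (n : J) (h : m ≤ n), (F.map (homOfLE h)).1.app (op U) a = (F.map (homOfLE h)).1.app (op U) b) →
      Function.Injective Ψ := by
    intro h p q e
    obtain ⟨i, a, rfl⟩ := Types.jointly_surjective_of_isColimit (colimit.isColimit (F ⋙ ev)) p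
    obtain ⟨j, b, rfl⟩ := Types.jointly_surjective_of_isColimit (colimit.isColimit (F ⋙ ev)) q
    obtain ⟨k, hi, hj⟩ := directed_of (· ≤ ·) i j
    obtain ⟨n, hn, en⟩ := h k ((F.map (homOfLE hi)).1.app (op U) a) ((F.map (homOfLE hj)).1.app (op U) b)
      (by rw [cocone_apply, cocone_apply, ← hΨ, ← hΨ]; exact e)
    exact (Types.FilteredColimit.isColimit_eq_iff _ (colimit.isColimit (F ⋙ ev))).2
      ⟨n, homOfLE (hi.trans hn), homOfLE (hj.trans hn),
        (map_trans_apply hi hn a).trans (en.trans (map_trans_apply hj hn b).symm)⟩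
  -- equality in the colimit over a quasi-compact open
  have hqc : ∀ (V : Opens X), IsCompact (V : Set X) → ∀ m (a b : (F.obj m).1.obj (op V)),
      (c.ι.app m).1.app (op V) a = (c.ι.app m).1.app (op V) b →
      ∃ (n : J) (h : m ≤ n), (F.map (homOfLE h)).1.app (op V) a = (F.map (homOfLE h)).1.app (op V) b := by
    intro V hV m a b e
    choose W g hW j f hf using fun x : V => loc_eq hc a b e x.1 x.2
    obtain ⟨t, ht⟩ := hV.elim_finite_subcover (fun x : V => ((W x : Opens X) : Set X)) (fun x => (W x).2)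
      (fun x hx => Set.mem_iUnion.2 ⟨⟨x, hx⟩, hW ⟨x, hx⟩⟩)
    obtain ⟨n, hn, hn'⟩ := exists_ge (fun x : t => j x.1) m
    refine ⟨n, hn, sheaf_ext _ _ _ fun x hx => ?_⟩
    obtain ⟨k, hk, hxk⟩ := Set.mem_iUnion₂.1 (ht hx)
    refine ⟨W k, g k, hxk, ?_⟩
    rw [← F_nat, ← F_nat,
      map_trans_apply (leOfHom (f k)) (hn' ⟨k, hk⟩), map_trans_apply (leOfHom (f k)) (hn' ⟨k, hk⟩)]
    exact congrArg _ (hf k)
  -- injective transition maps
  have hmono : (∀ (i j : J) (h : i ⟶ j) (V : Opens X), Function.Injective ((F.map h).1.app (op V))) →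
      ∀ (V : Opens X) m (a b : (F.obj m).1.obj (op V)),
        (c.ι.app m).1.app (op V) a = (c.ι.app m).1.app (op V) b → a = b := by
    intro hF V m a b e
    refine sheaf_ext _ _ _ fun x hx => ?_
    obtain ⟨W, g, hxW, j, f, hf⟩ := loc_eq hc a b e x hx
    exact ⟨W, g, hxW, hF _ _ f W hf⟩
  refine ⟨fun hF => hinj fun m a b e => ⟨m, le_rfl, congrArg _ (hmono hF U m a b e)⟩,
    fun hU => hinj (hqc U hU),
    fun hU hF => ⟨hinj (hqc U hU), hsurj fun s => ?_⟩,
    fun hW => ⟨hinj ?_, hsurj fun s => ?_⟩⟩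
  · choose W g hW i y hy using fun x : U => loc_lift hc U s x.1 x.2
    obtain ⟨t, ht⟩ := hU.elim_finite_subcover (fun x : U => ((W x : Opens X) : Set X)) (fun x => (W x).2)
      (fun x hx => Set.mem_iUnion.2 ⟨⟨x, hx⟩, hW ⟨x, hx⟩⟩)
    obtain ⟨m, -, hm⟩ := exists_ge (fun x : t => i x.1) (Classical.arbitrary J)
    refine ⟨m, lift_of_agree s (fun x : t => W x.1) (fun x => leOfHom (g x.1)) ?_
      (fun x => (F.map (homOfLE (hm x))).1.app _ (y x.1)) (fun x => (cocone_apply (hm x) _).trans (hy x.1))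
      fun k k' => hmono hF _ m _ _ ?_⟩
    · intro x hx
      obtain ⟨k, hk, hxk⟩ := Set.mem_iUnion₂.1 (ht hx)
      exact Opens.mem_iSup.2 ⟨⟨k, hk⟩, hxk⟩
    · rw [ι_nat, ι_nat, cocone_apply, cocone_apply, hy, hy]
      exact (pt_comp _ _ (homOfLE (inf_le_left.trans (leOfHom (g k.1)))) s).trans (pt_comp _ _ _ s).symm
  · obtain ⟨n, W, -, hWU, hWc⟩ := hW {U} (by simp)
    have hU : IsCompact (U : Set X) := by
      rw [← hWU, Opens.coe_iSup]
      exact isCompact_iUnion fun j => by simpa using hWc j j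
    exact hqc U hU
  · obtain ⟨n, W, hWV, hWU, hWc⟩ := hW {V | ∃ (hV : V ≤ U) (i : J) (y : (F.obj i).1.obj (op V)),
        (c.ι.app i).1.app (op V) y = c.pt.1.map (homOfLE hV).op s} (by
      refine le_antisymm (iSup₂_le fun V hV => hV.1) fun x hx => ?_
      obtain ⟨V, g, hxV, i, y, hy⟩ := loc_lift hc U s x hx
      exact Opens.mem_iSup.2 ⟨V, Opens.mem_iSup.2 ⟨⟨leOfHom g, i, y, hy⟩, hxV⟩⟩)
    choose V hV hle using hWV
    choose hVU i y hy using hV
    obtain ⟨m, -, hm⟩ := exists_ge i (Classical.arbitrary J)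
    let z (k : Fin n) : (F.obj m).1.obj (op (W k)) :=
      (F.map (homOfLE (hm k))).1.app _ ((F.obj (i k)).1.map (homOfLE (hle k)).op (y k))
    have hz : ∀ k, (c.ι.app m).1.app (op (W k)) (z k) = c.pt.1.map (homOfLE ((hle k).trans (hVU k))).op s := by
      intro k
      rw [cocone_apply, ι_nat, hy k]
      exact pt_comp _ _ _ s
    choose j hj e using fun p : Fin n × Fin n => hqc _ (hWc p.1 p.2) m
      ((F.obj m).1.map (homOfLE (inf_le_left : W p.1 ⊓ W p.2 ≤ W p.1)).op (z p.1))
      ((F.obj m).1.map (homOfLE (inf_le_right : W p.1 ⊓ W p.2 ≤ W p.2)).op (z p.2))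
      (by rw [ι_nat, ι_nat, hz, hz]
          exact (pt_comp _ _ (homOfLE (inf_le_left.trans ((hle p.1).trans (hVU p.1)))) s).trans
            (pt_comp _ _ _ s).symm)
    obtain ⟨m', hm', hj'⟩ := exists_ge j m
    refine ⟨m', lift_of_agree s (fun k : ULift.{u} (Fin n) => W k.down) (fun k => (hle k.down).trans (hVU k.down))
      (hWU.symm.le.trans (iSup_le fun k => le_iSup (fun k : ULift.{u} (Fin n) => W k.down) ⟨k⟩))
      (fun k => (F.map (homOfLE hm')).1.app _ (z k.down)) (fun k => (cocone_apply hm' _).trans (hz k.down))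
      fun k k' => ?_⟩
    refine (F_nat _ _ _).symm.trans (Eq.trans ?_ (F_nat _ _ _))
    exact (map_trans_apply (hj (k.down, k'.down)) (hj' _) _).trans ((congrArg _ (e (k.down, k'.down))).trans
      (map_trans_apply (hj (k.down, k'.down)) (hj' _) _).symm)

end Groth.Agent.S7575
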