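import Groth.Statements.S7579
import Groth.Agent.SpecSubLib.More
-- import your own Groth.Agent.* helpers here

set_option autoImplicit false
universe u
open SpecSp

namespace Groth.Agent.S7579

/-- Let X be a spectral space. Then X with its constructible topology is Hausdorff and totally
disconnected. The published statement also asserts that the constructible topology is quasi-compact;
this row states the Hausdorff and totally disconnected parts. -/
theorem result (X : Type u) [TopologicalSpace X] [SpectralSpace X] :
    T2Space (WithConstructibleTopology X) ∧ TotallyDisconnectedSpace (WithConstructibleTopology X) := by
  have hcont : @Continuous (WithConstructibleTopology X) X _ (constructibleTopology X) WithTopology.ofTopology :=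
    WithTopology.continuous_ofTopology _
  have hinj : Function.Injective (WithTopology.ofTopology : WithConstructibleTopology X → X) := fun a b h => by
    cases a; cases b; simp_all
  refine ⟨@T2Space.of_injective_continuous _ _ _ (constructibleTopology X) Groth.Agent.ProConsLib.t2Space_cons _ hinj hcont, ⟨fun t _ ht a ha b hb => ?_⟩⟩
  refine hinj ?_
  have key := @TotallyDisconnectedSpace.isTotallyDisconnected_univ _ (constructibleTopology X) Groth.Agent.SpecSubLib.totallyDisconnectedSpace_cons _
    (Set.subset_univ _) (@IsPreconnected.image _ _ _ (constructibleTopology X) t ht _ (@Continuous.continuousOn _ _ _ (constructibleTopology X) _ _ hcont))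
  exact key (Set.mem_image_of_mem _ ha) (Set.mem_image_of_mem _ hb)

end Groth.Agent.S7579
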