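import Groth.Statements.S7585
import Mathlib
import Mathlib
-- import your own Groth.Agent.* helpers here

set_option autoImplicit false
universe u
open ShSp

open TopologicalSpace

namespace Groth.Agent.S7585

/-- Let X be a topological space, ℬ a basis for its topology and F a presheaf of sets on ℬ. For each U ∈
ℬ let C(U) be a cofinal system of coverings of U by members of ℬ (every covering of U by members of
ℬ is refined by one in C(U)), each member of C(U) coming with chosen coverings of the pairwise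
intersections U_i ∩ U_j by members of ℬ. Then F is a sheaf on ℬ if and only if the sheaf condition
(**) holds for every U ∈ ℬ and every covering in C(U) with its chosen intersection coverings. -/
theorem result {X : Type u} [TopologicalSpace X] {B : Set (TopologicalSpace.Opens X)}
    (hB : TopologicalSpace.Opens.IsBasis B) (F : ShB.Pre B)
    (C : ∀ U : B, Set (ShB.Cover B)) (hCU : ∀ U, ∀ c ∈ C U, c.U = U)
    (hC : ∀ (U : B) (ι : Type u) (V : ι → B), (∀ i, (V i : TopologicalSpace.Opens X) ≤ (U : TopologicalSpace.Opens X)) →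
      (U : TopologicalSpace.Opens X) ≤ ⨆ i, (V i : TopologicalSpace.Opens X) →
      ∃ c ∈ C U, ∀ i' : c.ι, ∃ i, (c.V i' : TopologicalSpace.Opens X) ≤ (V i : TopologicalSpace.Opens X)) :
    ShB.IsSheaf F ↔ ∀ U, ∀ c ∈ C U, ShB.GluesUniquely F c := by
  classical
  refine ⟨fun h U c _ => h c, fun h => ?_⟩
  -- sections over `U` agreeing on a family covering `U` are equal
  have hsep : ∀ (U : B) (ι : Type u) (V : ι → B) (hV : ∀ i, (V i : Opens X) ≤ (U : Opens X)),
      (U : Opens X) ≤ ⨆ i, (V i : Opens X) → ∀ s t : F.obj U,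
      (∀ i, F.res (hV i) s = F.res (hV i) t) → s = t := by
    intro U ι V hV hcov s t hst
    obtain ⟨c, hc, href⟩ := hC U ι V hV hcov
    have hu := h U c hc
    obtain rfl : c.U = U := hCU U c hc
    obtain ⟨t0, -, huniq⟩ := hu (fun i' => F.res (c.V_le i') s) (fun i j k => by
      rw [F.res_comp, F.res_comp])
    refine (huniq s fun i' => rfl).trans (huniq t fun i' => ?_).symm
    obtain ⟨i, hi⟩ := href i'
    have h1 : F.res hi (F.res (hV i) s) = F.res hi (F.res (hV i) t) := by rw [hst i]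
    rw [F.res_comp, F.res_comp] at h1
    exact h1.symm
  -- members below an open form a covering family of a member below it
  have hfam : ∀ (O : Opens X), ∀ x ∈ O, ∃ W : B, x ∈ (W : Opens X) ∧ (W : Opens X) ≤ O := by
    intro O x hx
    obtain ⟨W, hW, hxW, hWO⟩ := (Opens.isBasis_iff_nbhd.mp hB) hx
    exact ⟨⟨W, hW⟩, hxW, hWO⟩
  intro c s hs
  have hagree : ∀ (a b : c.ι) (O : B) (ha : (O : Opens X) ≤ (c.V a : Opens X)) (hb : (O : Opens X) ≤ (c.V b : Opens X)),
      F.res ha (s a) = F.res hb (s b) := by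
    intro a b O ha hb
    refine hsep O {W : B // (W : Opens X) ≤ O ∧ ∃ k, (W : Opens X) ≤ (c.W a b k : Opens X)} (fun W => W.1)
      (fun W => W.2.1) ?_ _ _ ?_
    · intro x hx
      have hx' : x ∈ ⨆ k, (c.W a b k : Opens X) := c.W_cover a b ⟨ha hx, hb hx⟩
      obtain ⟨k, hk⟩ := Opens.mem_iSup.mp hx'
      obtain ⟨W, hxW, hWO⟩ := hfam ((O : Opens X) ⊓ (c.W a b k : Opens X)) x ⟨hx, hk⟩
      exact Opens.mem_iSup.mpr ⟨⟨W, hWO.trans inf_le_left, k, hWO.trans inf_le_right⟩, hxW⟩
    · rintro ⟨W, hWO, k, hWk⟩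
      have h1 : F.res hWk (F.res (c.W_le_left a b k) (s a)) = F.res hWk (F.res (c.W_le_right a b k) (s b)) := by
        rw [hs a b k]
      rw [F.res_comp, F.res_comp] at h1
      rw [F.res_comp, F.res_comp]
      exact h1
  obtain ⟨d, hd, href⟩ := hC c.U c.ι c.V c.V_le c.V_cover
  choose f hf using href
  have hUeq : d.U = c.U := hCU _ d hd
  obtain ⟨t, ht, -⟩ := h c.U d hd (fun i' => F.res (hf i') (s (f i'))) (fun i j k => by
    rw [F.res_comp, F.res_comp]
    exact hagree _ _ _ _ _)
  have hle : (c.U : Opens X) ≤ (d.U : Opens X) := by rw [hUeq]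
  refine ⟨F.res hle t, fun a => ?_, fun t' ht' => ?_⟩
  · refine hsep (c.V a) {W : B // (W : Opens X) ≤ c.V a ∧ ∃ i', (W : Opens X) ≤ (d.V i' : Opens X)} (fun W => W.1)
      (fun W => W.2.1) ?_ _ _ ?_
    · intro x hx
      have hx' : x ∈ ⨆ i', (d.V i' : Opens X) := d.V_cover (hle (c.V_le a hx))
      obtain ⟨i', hi'⟩ := Opens.mem_iSup.mp hx'
      obtain ⟨W, hxW, hWO⟩ := hfam ((c.V a : Opens X) ⊓ (d.V i' : Opens X)) x ⟨hx, hi'⟩
      exact Opens.mem_iSup.mpr ⟨⟨W, hWO.trans inf_le_left, i', hWO.trans inf_le_right⟩, hxW⟩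
    · rintro ⟨W, hWa, i', hWi⟩
      have h1 : F.res hWi (F.res (d.V_le i') t) = F.res hWi (F.res (hf i') (s (f i'))) := by rw [ht i']
      rw [F.res_comp, F.res_comp] at h1
      rw [F.res_comp, F.res_comp, h1]
      exact hagree (f i') a W _ hWa
  · refine hsep c.U d.ι d.V (fun i' => (hf i').trans (c.V_le _)) (hle.trans d.V_cover) _ _ fun i' => ?_
    rw [F.res_comp, ht i', ← ht' (f i'), F.res_comp]

end Groth.Agent.S7585
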