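import Groth.Statements.S7589
import Groth.Agent.DeltaBaseLib.Main
import Groth.Agent.CatLib.Flat
import Groth.Agent.S1621
import Groth.Agent.FibDimLib.SchemeInv
import Groth.Agent.FieldBCDimLib.Basic

set_option autoImplicit false
universe u
open CategoryTheory CategoryTheory.Limits AlgebraicGeometry
attribute [local instance] Curv2.stalkAlgebra Curv2.resAlgebra
open Variety

namespace Groth.Agent.S7589

/-- Let X be locally of finite type over a field k, K an extension field of k, y a point of the base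
change X_K and x its image in X; write a = trdeg_k κ(x) and a' = trdeg_K κ(y). Then dim O_{X_K, y} +
a' = dim O_{X, x} + a, and the fibre ring O_{X_K, y} / m_x O_{X_K, y} has Krull dimension a - a' (in
particular a' ≤ a); dimensions in WithBot ℕ∞. -/
theorem result (k : Type u) [Field k] (X : Scheme.{u}) [X.Over (Spec (CommRingCat.of k))] [LocallyOfFiniteType (X ↘ (Spec (CommRingCat.of k)))]
    (K : Type u) [Field K] [Algebra k K] (y : ↥(Curv2.bc k X K)) (a a' : ℕ)
    (ha : Algebra.trdeg k (X.residueField (Curv2.bcFst k X K y)) = a)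
    (ha' : letI : (Curv2.bc k X K).Over (Spec (CommRingCat.of K)) := ⟨Curv2.bcSnd k X K⟩
      Algebra.trdeg K ((Curv2.bc k X K).residueField y) = a') :
    ringKrullDim ((Curv2.bc k X K).presheaf.stalk y) + (a' : WithBot ℕ∞) =
        ringKrullDim (X.presheaf.stalk (Curv2.bcFst k X K y)) + (a : WithBot ℕ∞) ∧
      ringKrullDim (↥((Curv2.bc k X K).presheaf.stalk y) ⧸ Ideal.map ((Curv2.bcFst k X K).stalkMap y).hom (IsLocalRing.maximalIdeal ↥(X.presheaf.stalk (Curv2.bcFst k X K y)))) + (a' : WithBot ℕ∞) =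
        (a : WithBot ℕ∞) := by
  haveI : IsLocallyNoetherian X := LocallyOfFiniteType.isLocallyNoetherian (X ↘ (Spec (CommRingCat.of k)))
  haveI : LocallyOfFiniteType (Curv2.bcSnd k X K) :=
    MorphismProperty.of_isPullback (IsPullback.of_hasPullback (X ↘ Spec (CommRingCat.of k)) (Spec.map (CommRingCat.ofHom (algebraMap k K)))) inferInstance
  haveI : IsLocallyNoetherian (Curv2.bc k X K) := LocallyOfFiniteType.isLocallyNoetherian (Curv2.bcSnd k X K)
  haveI : Flat (Curv2.bcFst k X K) := DeltaBaseLib.flat_bcFst (k := k) (X := X) (K := K)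
  let x := Curv2.bcFst k X K y
  let A := X.presheaf.stalk x
  let B := (Curv2.bc k X K).presheaf.stalk y
  letI : Algebra A B := ((Curv2.bcFst k X K).stalkMap y).hom.toAlgebra
  haveI : Module.Flat A B := Flat.stalkMap (Curv2.bcFst k X K) y
  haveI : IsLocalHom (algebraMap A B) := inferInstanceAs (IsLocalHom ((Curv2.bcFst k X K).stalkMap y).hom)
  have nat : ∀ (R : Type u) [CommRing R] [IsLocalRing R] [IsNoetherianRing R], ∃ n : ℕ, ringKrullDim R = n := by
    intro R _ _ _
    obtain ⟨v, hv⟩ := WithBot.ne_bot_iff_exists.1 (ringKrullDim_ne_bot (R := R))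
    have hv' : v ≠ ⊤ := fun e => by
      have := ringKrullDim_lt_top (R := R)
      rw [← hv, e] at this
      exact lt_irrefl _ this
    obtain ⟨n, rfl⟩ := ENat.ne_top_iff_exists.1 hv'
    exact ⟨n, hv.symm⟩
  obtain ⟨b, hb⟩ := nat A
  obtain ⟨b', hb'⟩ := nat B
  have h1 := Groth.Agent.S1621.result k X x a b ha hb
  have h2 : FlatMor.localDim (Curv2.bc k X K) y = (a' + b' : ℕ) := by
    letI : (Curv2.bc k X K).Over (Spec (CommRingCat.of K)) := ⟨Curv2.bcSnd k X K⟩
    haveI : LocallyOfFiniteType ((Curv2.bc k X K) ↘ Spec (CommRingCat.of K)) := ‹LocallyOfFiniteType (Curv2.bcSnd k X K)›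
    exact Groth.Agent.S1621.result K (Curv2.bc k X K) y a' b' ha' hb'
  have h3 : FlatMor.localDim (Curv2.bc k X K) y = FlatMor.localDim X x :=
    FibDimLib.localDim_pullback_field (X ↘ (Spec (CommRingCat.of k))) y
  rw [h1, h2] at h3
  have e : a' + b' = a + b := by exact_mod_cast h3
  have h4 := CatLib.ringKrullDim_eq_add_of_flat (A := A) (B := B)
  refine ⟨?_, ?_⟩
  · show ringKrullDim B + _ = ringKrullDim A + _
    rw [hb, hb']
    exact_mod_cast (show b' + a' = b + a by omega)
  · refine FieldBCDimLib.add_cancel_nat (n := b) ?_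
    show (b : WithBot ℕ∞) + (ringKrullDim (B ⧸ (IsLocalRing.maximalIdeal A).map (algebraMap A B)) + (a' : WithBot ℕ∞)) = _
    rw [← add_assoc, ← hb, ← h4, hb', hb]
    exact_mod_cast (show b' + a' = b + a by omega)

end Groth.Agent.S7589
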