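import Groth.Statements.S7591
import Mathlib
import Groth.Agent.GeomIrrLib.Conn

set_option autoImplicit false
universe u
open CategoryTheory CategoryTheory.Limits AlgebraicGeometry
open Variety

namespace Groth.Agent.S7591

open CategoryTheory CategoryTheory.Limits AlgebraicGeometry

/-- For a scheme X over a field k, geometric connectedness of X over k holds exactly when, for each
finite separable extension field k' of k, the base change X_{k'} is a connected (so nonempty)
scheme. -/
theorem result (k : Type u) [Field k] (X : Scheme.{u}) [X.Over (Spec (CommRingCat.of k))] :
    GeometricallyConnected (X ↘ (Spec (CommRingCat.of k))) ↔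
      ∀ (k' : Type u) [Field k'] [Algebra k k'] [FiniteDimensional k k'] [Algebra.IsSeparable k k'],
        ConnectedSpace ↥(Curv2.bc k X k') := by
  constructor
  · intro h k' _ _ _ _
    exact GeomIrrLib.connectedSpace_bc (X ↘ Spec (CommRingCat.of k)) k'
  · intro h
    exact GeomIrrLib.gc_of_finite_separable _ fun k' _ _ _ _ => h k'

end Groth.Agent.S7591
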