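import Groth.Statements.S7592
import Groth.Agent.GalTwLib.Points

set_option autoImplicit false
universe u
open CategoryTheory CategoryTheory.Limits AlgebraicGeometry
open Variety

namespace Groth.Agent.S7592

/-- Let K be a (possibly infinite) Galois extension of a field k and f : T → X a morphism of schemes
over k. If the base change T_K is connected and X_K is not connected, then X is not connected. -/
theorem result (k : Type u) [Field k] (K : Type u) [Field K] [Algebra k K] [IsGalois k K]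
    (T X : Scheme.{u}) [T.Over (Spec (CommRingCat.of k))] [X.Over (Spec (CommRingCat.of k))]
    (f : T ⟶ X) [f.IsOver (Spec (CommRingCat.of k))]
    [ConnectedSpace ↥(Curv2.bc k T K)] (hX : ¬ ConnectedSpace ↥(Curv2.bc k X K)) :
    ¬ ConnectedSpace ↥X := by
  intro hconn
  let p := Curv2.bcFst k X K
  let sT := T ↘ Spec (CommRingCat.of k)
  let sX := X ↘ Spec (CommRingCat.of k)
  let f' : Curv2.bc k T K ⟶ Curv2.bc k X K :=
    pullback.map _ _ _ _ f (𝟙 _) (𝟙 _) (by rw [Category.comp_id]; exact (comp_over f _).symm) (by simp)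
  have hf'σ : ∀ σ : K ≃ₐ[k] K, GalTwLib.act sT σ ≫ f' = f' ≫ GalTwLib.act sX σ := fun σ => by
    apply pullback.hom_ext <;> simp [f', sT, sX, pullback.map, pullback.lift_fst, pullback.lift_fst_assoc, pullback.lift_snd, pullback.lift_snd_assoc]
  have hsurj : Function.Surjective p := (GalTwLib.surjective_fst _).surj
  haveI : Nonempty ↥(Curv2.bc k X K) := ⟨f' (Classical.arbitrary _)⟩
  haveI : Algebra.IsAlgebraic k K := inferInstance
  obtain ⟨U, hUne, hUuniv, hU⟩ : ∃ U : Set ↥(Curv2.bc k X K), U.Nonempty ∧ U ≠ Set.univ ∧ IsClopen U := by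
    by_contra hno
    push Not at hno
    exact hX (connectedSpace_iff_clopen.mpr ⟨inferInstance, fun s hs =>
      (Set.eq_empty_or_nonempty s).imp id fun h => by_contra fun hu => hno s h hu hs⟩)
  obtain ⟨W, hWim, hWne, hW⟩ : ∃ W : Set ↥(Curv2.bc k X K), Set.range f' ⊆ W ∧ Wᶜ.Nonempty ∧ IsClopen W := by
    rcases (isPreconnected_range f'.continuous).subset_or_subset hU.2 hU.compl.2
      disjoint_compl_right (by simp) with h | h
    · exact ⟨U, h, Set.nonempty_compl.mpr hUuniv, hU⟩
    · exact ⟨Uᶜ, h, by rwa [compl_compl], hU.compl⟩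
  haveI := hconn
  have huniv : p '' Wᶜ = Set.univ :=
    IsClopen.eq_univ ⟨GalTwLib.isClosedMap_fst _ _ hW.compl.1, GalTwLib.isOpenMap_fst _ _ hW.compl.2⟩ (hWne.image _)
  let t := Classical.arbitrary ↥(Curv2.bc k T K)
  obtain ⟨v, hv, hvt⟩ := huniv.ge (Set.mem_univ (p (f' t)))
  obtain ⟨σ, hσ⟩ := GalTwLib.exists_act_apply sX hvt.symm
  refine hv (hWim ⟨GalTwLib.act sT σ t, ?_⟩)
  rw [← hσ, ← Scheme.Hom.comp_apply, ← Scheme.Hom.comp_apply, hf'σ]

end Groth.Agent.S7592
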