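import Groth.Statements.S7594
import Mathlib
import Groth.Agent.GeomIrrLib.Basic

set_option autoImplicit false
universe u
open CategoryTheory CategoryTheory.Limits AlgebraicGeometry
open Variety

namespace Groth.Agent.S7594

open CategoryTheory CategoryTheory.Limits AlgebraicGeometry TensorProduct

theorem irreducibleSpace_of_injective {A B : Type u} [CommRing A] [CommRing B] (ψ : A →+* B)
    (hψ : Function.Injective ψ) (h : IrreducibleSpace (PrimeSpectrum B)) : IrreducibleSpace (PrimeSpectrum A) := by
  rw [irreducibleSpace_def]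
  have hd : DenseRange (PrimeSpectrum.comap ψ) := by
    rw [PrimeSpectrum.denseRange_comap_iff_ker_le_nilRadical, (RingHom.injective_iff_ker_eq_bot ψ).mp hψ]
    exact bot_le
  have := ((IrreducibleSpace.isIrreducible_univ (PrimeSpectrum B)).image _
    (PrimeSpectrum.continuous_comap ψ).continuousOn).closure
  rwa [Set.image_univ, hd.closure_range] at this

theorem mem_range_of_irreducible_tensor_self {k κ : Type u} [Field k] [Field κ] [Algebra k κ]
    (h : IrreducibleSpace (PrimeSpectrum (κ ⊗[k] κ))) (α : κ) (hα : IsSeparable k α) :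
    α ∈ Set.range (algebraMap k κ) := by
  let L := IntermediateField.adjoin k ({α} : Set κ)
  haveI : Algebra.IsSeparable k L := IntermediateField.isSeparable_adjoin_simple_iff_isSeparable k κ |>.mpr hα
  haveI : FiniteDimensional k L := IntermediateField.adjoin.finiteDimensional hα.isIntegral
  let ι : L ⊗[k] L →ₐ[k] κ ⊗[k] κ := Algebra.TensorProduct.map L.val L.val
  have hι : Function.Injective ι := by
    have h1 : Function.Injective (LinearMap.rTensor L L.val.toLinearMap) :=
      Module.Flat.rTensor_preserves_injective_linearMap _ Subtype.val_injective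
    have h2 : Function.Injective (LinearMap.lTensor κ L.val.toLinearMap) :=
      Module.Flat.lTensor_preserves_injective_linearMap _ Subtype.val_injective
    have he : ι.toLinearMap = (LinearMap.lTensor κ L.val.toLinearMap).comp (LinearMap.rTensor L L.val.toLinearMap) :=
      TensorProduct.ext' fun a b => by simp [ι]
    show Function.Injective ι.toLinearMap
    rw [he]
    exact h2.comp h1
  have hirr : IrreducibleSpace (PrimeSpectrum (L ⊗[k] L)) := irreducibleSpace_of_injective (A := L ⊗[k] L) (B := κ ⊗[k] κ) ι.toRingHom hι h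
  haveI : DiscreteTopology (PrimeSpectrum (L ⊗[k] L)) := Algebra.QuasiFinite.discreteTopology_primeSpectrum L (L ⊗[k] L)
  haveI : PreconnectedSpace (PrimeSpectrum (L ⊗[k] L)) := ⟨(PreirreducibleSpace.isPreirreducible_univ).isPreconnected⟩
  haveI : Subsingleton (PrimeSpectrum (L ⊗[k] L)) := PreconnectedSpace.trivial_of_discrete
  have hsub : Subsingleton (L →ₐ[k] AlgebraicClosure k) := ⟨fun σ τ => by
    let ev : (L →ₐ[k] AlgebraicClosure k) → (L ⊗[k] L →ₐ[k] AlgebraicClosure k) := fun φ =>
      Algebra.TensorProduct.lift σ φ (fun _ _ => Commute.all _ _)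
    have hk : RingHom.ker (ev σ) = RingHom.ker (ev τ) := congrArg PrimeSpectrum.asIdeal
      (Subsingleton.elim (⟨RingHom.ker (ev σ), RingHom.ker_isPrime _⟩ : PrimeSpectrum (L ⊗[k] L))
        ⟨RingHom.ker (ev τ), RingHom.ker_isPrime _⟩)
    refine AlgHom.ext fun l => ?_
    have h1 : ((1 : L) ⊗ₜ[k] l - l ⊗ₜ[k] (1 : L)) ∈ RingHom.ker (ev σ) := by simp [RingHom.mem_ker, ev]
    rw [hk, RingHom.mem_ker] at h1
    simp [ev] at h1
    exact (sub_eq_zero.1 h1).symm⟩
  have h1 : Module.finrank k L = 1 := by
    refine le_antisymm ?_ Module.finrank_pos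
    rw [← AlgHom.card k L (AlgebraicClosure k)]
    exact Fintype.card_le_one_iff_subsingleton.mpr hsub
  have hbot : L = ⊥ := IntermediateField.finrank_eq_one_iff.mp h1
  exact IntermediateField.mem_bot.mp (hbot ▸ IntermediateField.mem_adjoin_simple_self k α)

theorem irreducible_tensor_self {k : Type u} [Field k] {X : Scheme.{u}} (f : X ⟶ Spec (CommRingCat.of k))
    [IrreducibleSpace X] [IrreducibleSpace ↥(pullback f f)] (κ : Type u) [Field κ] [Algebra k κ]
    (ι : Spec (CommRingCat.of κ) ⟶ X) [IsPreimmersion ι] (hr : Set.range ι = {genericPoint X})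
    (hι : Spec.map (CommRingCat.ofHom (algebraMap k κ)) = ι ≫ f) :
    IrreducibleSpace (PrimeSpectrum (κ ⊗[k] κ)) := by
  let m : pullback (Spec.map (CommRingCat.ofHom (algebraMap k κ))) (Spec.map (CommRingCat.ofHom (algebraMap k κ))) ⟶
      pullback f f := pullback.map _ _ _ _ ι ι (𝟙 _) (by rw [Category.comp_id, hι]) (by rw [Category.comp_id, hι])
  haveI : IsPreimmersion m :=
    MorphismProperty.pullbackMap (P := @IsPreimmersion) (inferInstance : IsPreimmersion ι)
      (inferInstance : IsPreimmersion ι) hι hι
  let j := (pullbackSpecIso k κ κ).inv ≫ m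
  haveI : Surjective f := ⟨fun y => ⟨genericPoint X, Subsingleton.elim (α := PrimeSpectrum k) _ _⟩⟩
  let ξ := genericPoint ↥(pullback f f)
  have hgen : ∀ (p : pullback f f ⟶ X), Function.Surjective p → p ξ = genericPoint X := fun p hp => by
    have h := (genericPoint_spec ↥(pullback f f)).image p.continuous
    rw [Set.image_univ, hp.range_eq, closure_univ] at h
    exact h.eq (genericPoint_spec X)
  obtain ⟨a, ha⟩ : ξ ∈ Set.range m := by
    rw [Scheme.Pullback.range_map]
    exact ⟨by rw [Set.mem_preimage, hr, hgen _ (pullback.fst f f).surjective]; rfl,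
      by rw [Set.mem_preimage, hr, hgen _ (pullback.snd f f).surjective]; rfl⟩
  obtain ⟨a', rfl⟩ := (pullbackSpecIso k κ κ).inv.surjective a
  have hkey : ∀ u : Set (PrimeSpectrum (κ ⊗[k] κ)), IsOpen u → u.Nonempty → (a' : PrimeSpectrum (κ ⊗[k] κ)) ∈ u := by
    intro u hu ⟨b, hb⟩
    obtain ⟨u', hu', hju⟩ := j.isEmbedding.isInducing.isOpen_iff.1 hu
    rw [← hju] at hb ⊢
    have h1 : ξ ∈ u' := ((genericPoint_spec ↥(pullback f f)).mem_open_set_iff hu').2 ⟨j b, trivial, hb⟩
    show j a' ∈ u'
    simpa [j, ha] using h1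
  haveI : PreirreducibleSpace (PrimeSpectrum (κ ⊗[k] κ)) :=
    ⟨fun u v hu hv ⟨b, _, hb⟩ ⟨c, _, hc⟩ => ⟨a', trivial, hkey u hu ⟨b, hb⟩, hkey v hv ⟨c, hc⟩⟩⟩
  exact { toNonempty := ⟨a'⟩ }

/-- A scheme X over a field k is geometrically irreducible over k precisely when the fibre product X ×_k
X of X with itself is an irreducible scheme. -/
theorem result (k : Type u) [Field k] (X : Scheme.{u}) [X.Over (Spec (CommRingCat.of k))] :
    GeometricallyIrreducible (X ↘ (Spec (CommRingCat.of k))) ↔ IrreducibleSpace ↥(pullback (X ↘ (Spec (CommRingCat.of k))) (X ↘ (Spec (CommRingCat.of k)))) := by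
  let f := X ↘ Spec (CommRingCat.of k)
  constructor
  · intro h
    haveI : Nonempty X := by
      obtain ⟨x, -⟩ := f.surjective (Classical.arbitrary (PrimeSpectrum k) : Spec (CommRingCat.of k))
      exact ⟨x⟩
    haveI : IrreducibleSpace X := GeometricallyIrreducible.irreducibleSpace_of_subsingleton f
    infer_instance
  · intro h
    haveI : Nonempty X := ⟨pullback.fst f f (Classical.arbitrary _)⟩
    haveI : Surjective f := ⟨fun y => ⟨Classical.arbitrary X, Subsingleton.elim (α := PrimeSpectrum k) _ _⟩⟩
    haveI : IrreducibleSpace X :=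
      GeomIrrLib.irreducibleSpace_of_surjective _ (pullback.fst f f).continuous (pullback.fst f f).surjective
    have hι := GeomIrrLib.specMap_resMap (k := k) (genericPoint X)
    letI := (Curv2.resMap k X (genericPoint X)).toAlgebra
    refine (GeomIrrLib.gi_iff_generic f (X.residueField (genericPoint X)) (X.fromSpecResidueField (genericPoint X))
      (Scheme.range_fromSpecResidueField ..) hι).2 fun a ha => mem_range_of_irreducible_tensor_self ?_ a ha
    exact irreducible_tensor_self f (X.residueField (genericPoint X)) (X.fromSpecResidueField (genericPoint X))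
      (Scheme.range_fromSpecResidueField ..) hι

end Groth.Agent.S7594
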