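import Groth.Statements.S7595
import Groth.Agent.GalTwLib.Components

set_option autoImplicit false
universe u
open CategoryTheory CategoryTheory.Limits AlgebraicGeometry
open Variety

namespace Groth.Agent.S7595

/-- Let X be a scheme over a field k, K an extension field of k and T an irreducible component of X.
Then each point of the inverse image of T in X_K lies on some irreducible component of X_K that is
contained in this inverse image; so the inverse image of T is the union of the irreducible
components of X_K lying inside it. -/
theorem result (k : Type u) [Field k] (X : Scheme.{u}) [X.Over (Spec (CommRingCat.of k))] (K : Type u) [Field K] [Algebra k K]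
    (T : Set ↥X) (hT : T ∈ irreducibleComponents ↥X) :
    (Curv2.bcFst k X K).base ⁻¹' T = ⋃₀ {Z : Set ↥(Curv2.bc k X K) | Z ∈ irreducibleComponents ↥(Curv2.bc k X K) ∧ Z ⊆ (Curv2.bcFst k X K).base ⁻¹' T} := by
  let sX := X ↘ Spec (CommRingCat.of k)
  let p := Curv2.bcFst k X K
  have hTc := isClosed_of_mem_irreducibleComponents T hT
  obtain ⟨η, hη⟩ := QuasiSober.sober hT.1 hTc
  refine Set.Subset.antisymm (fun y hy => ?_) (Set.sUnion_subset fun Z hZ => hZ.2)
  obtain ⟨y', hy', hpy'⟩ := GalTwLib.exists_generalization sX y (hη.specializes hy)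
  obtain ⟨Z, hZ, hsub⟩ := exists_mem_irreducibleComponents_subset_of_isIrreducible _ (isIrreducible_singleton (x := y'))
  have hZc := isClosed_of_mem_irreducibleComponents Z hZ
  refine ⟨Z, ⟨hZ, fun z hz => ?_⟩, hy'.mem_closed hZc (hsub rfl)⟩
  obtain ⟨ζ, hζ⟩ := QuasiSober.sober hZ.1 hZc
  have h1 : p ζ ⤳ η := hpy' ▸ (hζ.specializes (hsub rfl)).map p.continuous
  have h2 : T ⊆ closure {p ζ} := by
    rw [← hη.def]
    exact closure_minimal (Set.singleton_subset_iff.mpr (specializes_iff_mem_closure.mp h1)) isClosed_closure
  have h3 := hT.2 isIrreducible_singleton.closure h2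
  exact ((hζ.specializes hz).map p.continuous).mem_closed hTc (h3 (subset_closure rfl))

end Groth.Agent.S7595
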