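import Groth.Statements.S7597
import Groth.Agent.GalTwLib.Components

set_option autoImplicit false
universe u
open CategoryTheory CategoryTheory.Limits AlgebraicGeometry
open Variety

namespace Groth.Agent.S7597

/-- Let k̄ be a separable algebraic closure of a field k, X a scheme over k and Z an irreducible
component of X_{k̄}. Then Z is mapped onto itself by the action of every k-automorphism of k̄ if and
only if Z is the full inverse image of some irreducible component T of X which is geometrically
irreducible over k (the inverse image of T in X_K is irreducible for every extension field K of k). -/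
theorem result (k : Type u) [Field k] (X : Scheme.{u}) [X.Over (Spec (CommRingCat.of k))]
    (Z : Set ↥(Curv2.bc k X (SeparableClosure k))) (hZ : Z ∈ irreducibleComponents ↥(Curv2.bc k X (SeparableClosure k))) :
    (∀ σ : SeparableClosure k ≃ₐ[k] SeparableClosure k, (Curv2.galAct k X (SeparableClosure k) σ).base '' Z = Z) ↔
      ∃ T ∈ irreducibleComponents ↥X, (Curv2.bcFst k X (SeparableClosure k)).base ⁻¹' T = Z ∧
        ∀ (K : Type u) [Field K] [Algebra k K], IsIrreducible ((Curv2.bcFst k X K).base ⁻¹' T) := by
  let sX := X ↘ Spec (CommRingCat.of k)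
  let p := Curv2.bcFst k X (SeparableClosure k)
  constructor
  · intro h
    have hpre : p ⁻¹' (p '' Z) = Z := by
      refine GalTwLib.preimage_image_of_invariant sX fun σ x hx => ?_
      rw [← GalTwLib.galAct_eq_act]
      exact (h σ).le ⟨x, hx, rfl⟩
    have hZc := isClosed_of_mem_irreducibleComponents Z hZ
    obtain ⟨η, hη⟩ := QuasiSober.sober hZ.1 hZc
    have hTc : IsClosed (p '' Z) := GalTwLib.isClosedMap_fst sX _ hZc
    have hirr : IsIrreducible (p '' Z) := hZ.1.image p p.continuous.continuousOn
    refine ⟨p '' Z, ⟨hirr, fun S hS hle => ?_⟩, hpre, fun K _ _ =>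
      GalTwLib.isIrreducible_preimage sX _ hTc (by show IsIrreducible (p ⁻¹' _); rw [hpre]; exact hZ.1) K⟩
    obtain ⟨η', hη'⟩ := QuasiSober.sober hS.closure isClosed_closure
    have hsp : η' ⤳ p η := hη'.specializes (subset_closure (hle ⟨η, hη.mem, rfl⟩))
    obtain ⟨ζ, hζ, hpζ⟩ := GalTwLib.exists_generalization sX η hsp
    have h4 : Z ⊆ closure {ζ} := by
      rw [← hη.def]
      exact closure_minimal (Set.singleton_subset_iff.mpr (specializes_iff_mem_closure.mp hζ)) isClosed_closure
    have h5 := hZ.2 isIrreducible_singleton.closure h4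
    refine subset_closure.trans ?_
    rw [← hη'.def]
    exact closure_minimal (Set.singleton_subset_iff.mpr ⟨ζ, h5 (subset_closure rfl), hpζ⟩) hTc
  · rintro ⟨T, -, h, -⟩ σ
    rw [← h, GalTwLib.galAct_eq_act]
    exact GalTwLib.image_act_subset_of_preimage sX σ

end Groth.Agent.S7597
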