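import Groth.Statements.S7598
import Groth.Agent.GalTwLib.Points

set_option autoImplicit false
universe u
open CategoryTheory CategoryTheory.Limits AlgebraicGeometry
open Variety

namespace Groth.Agent.S7598

/-- Let k̄ be a separable algebraic closure of a field k and X a scheme over k. Two irreducible
components Z', Z'' of X_{k̄} have the same image in X if and only if Z'' is the image of Z' under
the action of some k-automorphism of k̄ on X_{k̄} (the fibres of the map on irreducible components
are the Galois orbits). -/
theorem result (k : Type u) [Field k] (X : Scheme.{u}) [X.Over (Spec (CommRingCat.of k))]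
    (Z' Z'' : Set ↥(Curv2.bc k X (SeparableClosure k))) (hZ' : Z' ∈ irreducibleComponents ↥(Curv2.bc k X (SeparableClosure k)))
    (hZ'' : Z'' ∈ irreducibleComponents ↥(Curv2.bc k X (SeparableClosure k))) :
    (Curv2.bcFst k X (SeparableClosure k)).base '' Z' = (Curv2.bcFst k X (SeparableClosure k)).base '' Z'' ↔
      ∃ σ : SeparableClosure k ≃ₐ[k] SeparableClosure k, (Curv2.galAct k X (SeparableClosure k) σ).base '' Z' = Z'' := by
  let p := Curv2.bcFst k X (SeparableClosure k)
  have hpσ : ∀ σ (x : ↥(Curv2.bc k X (SeparableClosure k))),
      p (Curv2.galAct k X (SeparableClosure k) σ x) = p x := fun σ x => by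
    rw [GalTwLib.galAct_eq_act, ← Scheme.Hom.comp_apply, GalTwLib.act_fst]
  constructor
  · intro h
    obtain ⟨η, hη⟩ := QuasiSober.sober hZ'.1 (isClosed_of_mem_irreducibleComponents _ hZ')
    obtain ⟨η', hη'⟩ := QuasiSober.sober hZ''.1 (isClosed_of_mem_irreducibleComponents _ hZ'')
    have hcl : IsClosedMap p := GalTwLib.isClosedMap_fst _
    have e1 : closure {p η} = p '' Z' := by
      rw [← Set.image_singleton, hcl.closure_image_eq_of_continuous p.continuous, hη.def]
    have e2 : closure {p η'} = p '' Z'' := by
      rw [← Set.image_singleton, hcl.closure_image_eq_of_continuous p.continuous, hη'.def]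
    have heq : p η = p η' := by
      apply Inseparable.eq
      rw [inseparable_iff_closure_eq, e1, e2]
      exact h
    obtain ⟨σ, hσ⟩ := GalTwLib.exists_act_apply _ heq
    refine ⟨σ, ?_⟩
    let g := Curv2.galAct k X (SeparableClosure k) σ
    have hg : IsClosedMap g := by
      refine IsClosedMap.of_inverse (f' := Curv2.galAct k X (SeparableClosure k) σ⁻¹)
        (Curv2.galAct k X (SeparableClosure k) σ⁻¹).continuous (fun x => ?_) fun x => ?_
      all_goals
        rw [GalTwLib.galAct_eq_act, ← Scheme.Hom.comp_apply]
        have e : ∀ a b : SeparableClosure k ≃ₐ[k] SeparableClosure k, a * b = 1 →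
            GalTwLib.act (X ↘ Spec (CommRingCat.of k)) a ≫ GalTwLib.act _ b = 𝟙 _ := fun a b hab => by
          apply pullback.hom_ext
          · simp
          · rw [Category.assoc, GalTwLib.act_snd, GalTwLib.act_snd_assoc, Category.id_comp]
            have := GalTw.specMap_mul (SeparableClosure k) a b
            rw [hab, GalTw.specMap_one] at this
            change _ ≫ GalTw.specMap (SeparableClosure k) a ≫ GalTw.specMap (SeparableClosure k) b = _
            rw [← this, Category.comp_id]
        first
          | (simp only [g, GalTwLib.galAct_eq_act]; rw [e _ _ (inv_mul_cancel σ)]; rfl)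
          | (simp only [g, GalTwLib.galAct_eq_act]; rw [e _ _ (mul_inv_cancel σ)]; rfl)
    show g '' Z' = Z''
    have : g η = η' := by
      simp only [g, GalTwLib.galAct_eq_act]
      exact hσ
    rw [← hη.def, ← hη'.def, ← hg.closure_image_eq_of_continuous g.continuous, Set.image_singleton, this]
  · rintro ⟨σ, rfl⟩
    rw [← Set.image_comp]
    exact Set.image_congr fun x _ => (hpσ σ x).symm

end Groth.Agent.S7598
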