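import Groth.Statements.S7601
import Groth.Agent.NormalInsepLib.Basic
import Groth.Agent.S9413

set_option autoImplicit false
set_option backward.isDefEq.respectTransparency false
set_option backward.isDefEq.respectTransparency.types false
set_option maxHeartbeats 1000000
universe u
open CategoryTheory CategoryTheory.Limits AlgebraicGeometry
open Variety

namespace Groth.Agent.S7601


section Helpers

open CategoryTheory.Limits TensorProduct

theorem isNormalRing_of_chart {P : Scheme.{u}} (hP : Pi1.IsNormalScheme P) {R : Type u} [CommRing R]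
    (θ : Spec (CommRingCat.of R) ⟶ P) [IsOpenImmersion θ] : EGA4.IsNormalRing R := fun p hp => by
  obtain ⟨e⟩ := GeomRegInsepLib.nonempty_stalk_equiv θ ⟨p, hp⟩
  obtain ⟨h1, h2⟩ := hP (θ ⟨p, hp⟩)
  exact ⟨e.toMulEquiv.isDomain_iff.mp h1, IsIntegrallyClosed.of_equiv e⟩

theorem normal_pullback {k : Type u} [Field k] {X Y : Scheme.{u}} (f : X ⟶ Spec (CommRingCat.of k))
    (g : Y ⟶ Spec (CommRingCat.of k))
    (hX : ∀ (K : Type u) [Field K] [Algebra k K],
      Pi1.IsNormalScheme (pullback f (Spec.map (CommRingCat.ofHom (algebraMap k K)))))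
    (hY : Pi1.IsNormalScheme Y) : Pi1.IsNormalScheme (pullback f g) := by
  intro x'
  obtain ⟨U, hU, hxU, -⟩ := exists_isAffineOpen_mem_and_subset (x := pullback.fst f g x') (U := ⊤) trivial
  obtain ⟨V, hV, hyV, -⟩ := exists_isAffineOpen_mem_and_subset (x := pullback.snd f g x') (U := ⊤) trivial
  letI : Algebra k Γ(X, U) := (Spec.preimage (hU.fromSpec ≫ f)).hom.toAlgebra
  letI : Algebra k Γ(Y, V) := (Spec.preimage (hV.fromSpec ≫ g)).hom.toAlgebra
  have hU' : Spec.map (CommRingCat.ofHom (algebraMap k Γ(X, U))) = hU.fromSpec ≫ f := Spec.map_preimage _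
  have hV' : Spec.map (CommRingCat.ofHom (algebraMap k Γ(Y, V))) = hV.fromSpec ≫ g := Spec.map_preimage _
  let m := pullback.map (Spec.map (CommRingCat.ofHom (algebraMap k Γ(X, U))))
    (Spec.map (CommRingCat.ofHom (algebraMap k Γ(Y, V)))) f g hU.fromSpec hV.fromSpec (𝟙 _)
    (by rw [Category.comp_id, hU']) (by rw [Category.comp_id, hV'])
  haveI : IsOpenImmersion m := inferInstance
  let θ := (pullbackSpecIso k Γ(X, U) Γ(Y, V)).inv ≫ m
  have hA : EGA4.IsGeomNormal k Γ(X, U) := fun k' _ _ _ =>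
    NormalInsepLib.isNormalRing_chart f k' U hU (hX k')
  have hB : EGA4.IsNormalRing Γ(Y, V) := isNormalRing_of_chart hY hV.fromSpec
  have hR := Groth.Agent.S9413.result k Γ(X, U) Γ(Y, V) hA hB
  obtain ⟨w, hw⟩ : x' ∈ Set.range m := by
    rw [Scheme.Pullback.range_map]
    exact ⟨hU.range_fromSpec.ge hxU, hV.range_fromSpec.ge hyV⟩
  obtain ⟨z, rfl⟩ : x' ∈ Set.range θ := ⟨(pullbackSpecIso k Γ(X, U) Γ(Y, V)).hom w, by
    show ((pullbackSpecIso k Γ(X, U) Γ(Y, V)).hom ≫ (pullbackSpecIso k Γ(X, U) Γ(Y, V)).inv ≫ m) w = x'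
    rw [Iso.hom_inv_id_assoc]; exact hw⟩
  obtain ⟨e⟩ := GeomRegInsepLib.nonempty_stalk_equiv θ z
  obtain ⟨h1, h2⟩ := hR z.asIdeal
  exact ⟨e.toMulEquiv.isDomain_iff.mpr h1, IsIntegrallyClosed.of_equiv e.symm⟩

end Helpers

/-- Let X be a geometrically normal scheme over a field k (X_K is a normal scheme for every extension
field K of k) and Y a normal scheme over k. Then X ×_k Y is a normal scheme. -/
theorem result (k : Type u) [Field k] (X : Scheme.{u}) [X.Over (Spec (CommRingCat.of k))] (Y : Scheme.{u}) [Y.Over (Spec (CommRingCat.of k))]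
    (hX : ∀ (K : Type u) [Field K] [Algebra k K], Pi1.IsNormalScheme (Curv2.bc k X K)) (hY : Pi1.IsNormalScheme Y) :
    Pi1.IsNormalScheme (pullback (X ↘ (Spec (CommRingCat.of k))) (Y ↘ (Spec (CommRingCat.of k)))) := by
  exact normal_pullback _ _ hX hY

end Groth.Agent.S7601
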