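import Groth.Statements.S7602
import Groth.Agent.NormalInsepLib.Basic

set_option autoImplicit false
universe u
open CategoryTheory CategoryTheory.Limits AlgebraicGeometry
open Variety

namespace Groth.Agent.S7602

/-- Let X be a normal scheme over a field k and K an extension field of k which is separable over k in
the sense that Spec K → Spec k is geometrically reduced (K ⊗_k k' reduced for every field k' over
k). Then X_K is a normal scheme. -/
theorem result (k : Type u) [Field k] (X : Scheme.{u}) [X.Over (Spec (CommRingCat.of k))] (hX : Pi1.IsNormalScheme X)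
    (K : Type u) [Field K] [Algebra k K] [GeometricallyReduced (Spec.map (CommRingCat.ofHom (algebraMap k K)))] :
    Pi1.IsNormalScheme (Curv2.bc k X K) := by
  haveI : Algebra.IsGeometricallyReduced k K := NormalInsepLib.isGeometricallyReduced_of_spec k K
  refine NormalInsepLib.isNormalScheme_of_charts (X ↘ AlgebraicGeometry.Spec (CommRingCat.of k)) K fun V hV => ?_
  letI : Algebra k ↑(X.presheaf.obj (Opposite.op V)) :=
    (AlgebraicGeometry.Spec.preimage (CategoryTheory.CategoryStruct.comp hV.fromSpec
      (X ↘ AlgebraicGeometry.Spec (CommRingCat.of k)))).hom.toAlgebra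
  refine Groth.Agent.S2690.result k _ K (fun p hp => ?_)
  obtain ⟨e⟩ := GeomRegInsepLib.nonempty_stalk_equiv hV.fromSpec ⟨p, hp⟩
  obtain ⟨h1, h2⟩ := hX (hV.fromSpec ⟨p, hp⟩)
  exact ⟨e.toMulEquiv.isDomain_iff.mp h1, IsIntegrallyClosed.of_equiv e⟩

end Groth.Agent.S7602
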