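import Groth.Statements.S7603
import Mathlib
import Groth.Agent.GeomIrrLib.Basic
import Groth.Agent.WeilResLib.Fibre

set_option autoImplicit false
universe u
open CategoryTheory CategoryTheory.Limits AlgebraicGeometry
open Variety

namespace Groth.Agent.S7603

open CategoryTheory CategoryTheory.Limits AlgebraicGeometry

/-- (2) ⇔ (3): let X be a proper scheme over a field k which is geometrically normal (X_K is a normal
scheme for every extension field K of k). Then X is geometrically connected over k exactly when it
is geometrically irreducible over k. (The published statement lists geometric integrality as a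
further equivalent condition; given geometric normality it is equivalent to geometric irreducibility
by a direct argument, so this row omits it.) -/
theorem result (k : Type u) [Field k] (X : Scheme.{u}) [X.Over (Spec (CommRingCat.of k))] [IsProper (X ↘ (Spec (CommRingCat.of k)))]
    (hX : ∀ (K : Type u) [Field K] [Algebra k K], Pi1.IsNormalScheme (Curv2.bc k X K)) :
    GeometricallyConnected (X ↘ (Spec (CommRingCat.of k))) ↔ GeometricallyIrreducible (X ↘ (Spec (CommRingCat.of k))) := by
  let f := X ↘ Spec (CommRingCat.of k)
  constructor
  · intro h
    refine (GeomIrrLib.gi_iff_forall f).2 fun K _ _ => ?_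
    haveI : ConnectedSpace ↥(ConnBC.BC f K) :=
      GeometricallyConnected.geometrically_connectedSpace _ _ _ (.of_hasPullback _ _)
    haveI : IsLocallyNoetherian (ConnBC.BC f K) :=
      LocallyOfFiniteType.isLocallyNoetherian (pullback.snd f (Spec.map (CommRingCat.ofHom (algebraMap k K))))
    haveI : ∀ x : ConnBC.BC f K, IsDomain ((ConnBC.BC f K).presheaf.stalk x) := fun x => (hX K x).1
    exact Groth.Agent.WeilRes.irreducibleSpace_of_isDomain_stalks
  · intro h
    refine ⟨geometrically_iff_of_commRing_of_isClosedUnderIsomorphisms.mpr fun K _ _ => ?_⟩
    have h1 : IrreducibleSpace ↥(ConnBC.BC f K) := GeomIrrLib.irreducibleSpace_bc f K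
    exact connectedSpace_iff_univ.mpr ⟨Set.univ_nonempty, (IrreducibleSpace.isIrreducible_univ _).isPreirreducible.isPreconnected⟩

end Groth.Agent.S7603
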