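import Groth.Statements.S7605
import Groth.Agent.LocImmLib.Graph
import Groth.Agent.CurvOpenLib.NoethFibre
import Mathlib
-- import your own Groth.Agent.* helpers here

set_option autoImplicit false
universe u
open CategoryTheory CategoryTheory.Limits AlgebraicGeometry
open Variety

namespace Groth.Agent.S7605
set_option linter.all false
set_option backward.isDefEq.respectTransparency.types false

/-- For a scheme X over a field k and a finitely generated field extension k' of k, local Noetherianity
of X is equivalent to local Noetherianity of its base change X_{k'}. -/
theorem result (k : Type u) [Field k] (X : Scheme.{u}) [X.Over (Spec (CommRingCat.of k))] (k' : Type u) [Field k'] [Algebra k k']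
    (hfg : (⊤ : IntermediateField k k').FG) :
    IsLocallyNoetherian X ↔ IsLocallyNoetherian (Curv2.bc k X k') := by
  constructor
  · intro hX
    haveI : Algebra.EssFiniteType k k' := IntermediateField.fg_top_iff.1 hfg
    have h : EssFT.LocallyEssFiniteType (Spec.map (CommRingCat.ofHom (algebraMap k k'))) := by
      rw [HasRingHomProperty.Spec_iff (P := @EssFT.LocallyEssFiniteType)]
      exact RingHom.locally_of RingHom.EssFiniteType.respectsIso _
        (RingHom.essFiniteType_algebraMap.mpr inferInstance)
    exact Groth.Agent.LocImmLib.isLocallyNoetherian_of_essFiniteType _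
      (Groth.Agent.LocImmLib.isLocallyEssFiniteType_fst _ _ h)
  · intro hXk
    haveI : Flat (Spec.map (CommRingCat.ofHom (algebraMap k k'))) :=
      (HasRingHomProperty.Spec_iff (P := @Flat)).mpr (RingHom.flat_algebraMap_iff.mpr inferInstance)
    haveI : Surjective (Spec.map (CommRingCat.ofHom (algebraMap k k'))) :=
      ⟨fun x => ⟨default, Subsingleton.elim _ _⟩⟩
    haveI : IsAffineHom (pullback.fst (X ↘ Spec (CommRingCat.of k))
        (Spec.map (CommRingCat.ofHom (algebraMap k k')))) :=
      MorphismProperty.pullback_fst (P := @IsAffineHom) _ _ inferInstance
    exact NoethFibre.isLocallyNoetherian_of_flat_affine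
      (pullback.fst (X ↘ Spec (CommRingCat.of k)) (Spec.map (CommRingCat.ofHom (algebraMap k k'))))

end Groth.Agent.S7605
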