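import Groth.Statements.S7607
import Mathlib
import Groth.Agent.RegFlatLib.Basic
-- import your own Groth.Agent.* helpers here

set_option autoImplicit false
universe u
open CategoryTheory CategoryTheory.Limits AlgebraicGeometry
open Variety

namespace Groth.Agent.S7607

/-- (2) ⇒ (1): let X be a scheme over a field k, k' a finitely generated field extension of k and x' a
point of X_{k'} with image x in X. If X_{k'} is geometrically regular at x' over k', then X is
geometrically regular at x over k. (The published setting defines geometric regularity only for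
locally Noetherian schemes; this row allows any scheme X over k.) -/
theorem result (k : Type u) [Field k] (X : Scheme.{u}) [X.Over (Spec (CommRingCat.of k))] (k' : Type u) [Field k'] [Algebra k k'] (hfg : (⊤ : IntermediateField k k').FG)
    (x' : ↥(Curv2.bc k X k'))
    (h : @Curv2.IsGeomRegularAt k' _ (Curv2.bc k X k') ⟨Curv2.bcSnd k X k'⟩ x') :
    Curv2.IsGeomRegularAt k X (Curv2.bcFst k X k' x') := by
  intro K _ _ hK y hy
  letI : (Curv2.bc k X k').Over (Spec (CommRingCat.of k')) := ⟨Curv2.bcSnd k X k'⟩
  haveI : Algebra.EssFiniteType k K := IntermediateField.fg_top_iff.1 hK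
  obtain ⟨z, hz1, hz2⟩ := Scheme.Pullback.exists_preimage_pullback (f := Curv2.bcFst k X K)
    (g := Curv2.bcFst k X k') y x' hy
  let P : Scheme.{u} := pullback (Curv2.bcFst k X K) (Curv2.bcFst k X k')
  let ι : Spec (P.residueField z) ⟶ P := P.fromSpecResidueField z
  let aE : CommRingCat.of K ⟶ P.residueField z :=
    Spec.preimage (ι ≫ pullback.fst _ _ ≫ Curv2.bcSnd k X K)
  let bE : CommRingCat.of k' ⟶ P.residueField z :=
    Spec.preimage (ι ≫ pullback.snd _ _ ≫ Curv2.bcSnd k X k')
  let E : Type u := P.residueField z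
  letI : Algebra k' E := bE.hom.toAlgebra
  letI : Algebra k E := (bE.hom.comp (algebraMap k k')).toAlgebra
  haveI : IsScalarTower k k' E := IsScalarTower.of_algebraMap_eq fun _ => rfl
  have ha : Spec.map aE = ι ≫ pullback.fst _ _ ≫ Curv2.bcSnd k X K := Spec.map_preimage _
  have hb : Spec.map bE = ι ≫ pullback.snd _ _ ≫ Curv2.bcSnd k X k' := Spec.map_preimage _
  have habE : CommRingCat.ofHom (algebraMap k K) ≫ aE = CommRingCat.ofHom (algebraMap k k') ≫ bE := by
    apply Spec.map_injective
    rw [Spec.map_comp, Spec.map_comp, ha, hb]; simp only [Category.assoc]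
    rw [← pullback.condition (f := X ↘ Spec (CommRingCat.of k)),
      ← pullback.condition (f := X ↘ Spec (CommRingCat.of k))]
    rw [← Category.assoc (pullback.fst (Curv2.bcFst k X K) (Curv2.bcFst k X k')), pullback.condition,
      Category.assoc]
  let aK : K →ₐ[k] E := { aE.hom with commutes' := fun r => congr($(habE).hom r) }
  let φ : TensorProduct k k' K →ₐ[k'] E :=
    Algebra.TensorProduct.lift (Algebra.ofId k' E) aK fun _ _ => Commute.all _ _
  let q : Ideal (TensorProduct k k' K) := RingHom.ker φ
  haveI hq : q.IsPrime := RingHom.ker_isPrime _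
  let L : Type u := q.ResidueField
  haveI : Algebra.EssFiniteType k' (TensorProduct k k' K) := inferInstance
  haveI : Algebra.EssFiniteType (TensorProduct k k' K) L := inferInstance
  haveI : Algebra.EssFiniteType k' L := Algebra.EssFiniteType.comp k' (TensorProduct k k' K) L
  have hu : q.primeCompl ≤ (IsUnit.submonoid E).comap φ.toRingHom := fun r hr => (isUnit_iff_ne_zero.2 hr)
  let j : L →+* E := Ideal.ResidueField.lift q φ.toRingHom le_rfl hu
  have hj : ∀ r, j (algebraMap (TensorProduct k k' K) L r) = φ r := fun r =>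
    Ideal.ResidueField.lift_algebraMap q φ.toRingHom le_rfl hu r
  let a : CommRingCat.of K ⟶ CommRingCat.of L := CommRingCat.ofHom
    ((algebraMap (TensorProduct k k' K) L).comp (Algebra.TensorProduct.includeRight (R := k) (A := k')).toRingHom)
  let b : CommRingCat.of k' ⟶ CommRingCat.of L := CommRingCat.ofHom (algebraMap k' L)
  let j' : CommRingCat.of L ⟶ P.residueField z := CommRingCat.ofHom j
  have haj : a ≫ j' = aE := by
    ext r
    show j (algebraMap _ L ((1 : k') ⊗ₜ[k] r)) = aE r
    rw [hj, Algebra.TensorProduct.lift_tmul]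
    simp [aK]
  have hbj : b ≫ j' = bE := by
    ext r
    show j (algebraMap k' L r) = bE r
    rw [IsScalarTower.algebraMap_apply k' (TensorProduct k k' K) L, hj, AlgHom.commutes]
    rfl
  have hab : Spec.map a ≫ Spec.map (CommRingCat.ofHom (algebraMap k K)) =
      Spec.map (CommRingCat.ofHom (algebraMap k' L)) ≫
        Spec.map (CommRingCat.ofHom (algebraMap k k')) := by
    rw [← Spec.map_comp, ← Spec.map_comp]
    refine congrArg Spec.map ?_
    ext r
    show algebraMap _ L ((1 : k') ⊗ₜ[k] algebraMap k K r) = algebraMap k' L (algebraMap k k' r)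
    rw [IsScalarTower.algebraMap_apply k' (TensorProduct k k' K) L]
    congr 1
    exact (Algebra.TensorProduct.tmul_one_eq_one_tmul r).symm
  let W : Scheme.{u} := Curv2.bc k' (Curv2.bc k X k') L
  let t : Spec (P.residueField z) ⟶ W := pullback.lift (ι ≫ pullback.snd _ _) (Spec.map j') (by
    rw [← Spec.map_comp, hbj, hb, Category.assoc]; rfl)
  have sqW : IsPullback (Curv2.bcFst k' (Curv2.bc k X k') L ≫ Curv2.bcFst k X k')
      (Curv2.bcSnd k' (Curv2.bc k X k') L) (X ↘ Spec (CommRingCat.of k))
      (Spec.map (CommRingCat.ofHom (algebraMap k' L)) ≫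
        Spec.map (CommRingCat.ofHom (algebraMap k k'))) :=
    (IsPullback.of_hasPullback _ _).paste_horiz (IsPullback.of_hasPullback _ _)
  rw [← hab] at sqW
  let π : W ⟶ Curv2.bc k X K := pullback.lift
    (Curv2.bcFst k' (Curv2.bc k X k') L ≫ Curv2.bcFst k X k')
    (Curv2.bcSnd k' (Curv2.bc k X k') L ≫ Spec.map a)
    (by rw [Category.assoc]; exact sqW.w)
  have hπ1 : π ≫ Curv2.bcFst k X K = _ := pullback.lift_fst _ _ _
  have hπ2 : π ≫ Curv2.bcSnd k X K = _ := pullback.lift_snd _ _ _
  rw [← hπ1] at sqW
  have sqπ := IsPullback.of_right sqW hπ2 (IsPullback.of_hasPullback _ _)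
  have hfa : Flat (Spec.map a) := by
    rw [HasRingHomProperty.Spec_iff (P := @Flat)]
    letI := a.hom.toAlgebra
    exact (RingHom.flat_algebraMap_iff (R := K) (S := L)).2 inferInstance
  haveI : Flat π := MorphismProperty.of_isPullback (P := @Flat) sqπ.flip hfa
  let w : W := t (IsLocalRing.closedPoint (P.residueField z))
  have hw : Curv2.bcFst k' (Curv2.bc k X k') L w = x' := by
    show (t ≫ pullback.fst _ _) _ = _
    rw [show t ≫ pullback.fst _ _ = ι ≫ pullback.snd _ _ from pullback.lift_fst _ _ _]
    show pullback.snd (Curv2.bcFst k X K) (Curv2.bcFst k X k') (ι _) = x'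
    rw [Scheme.fromSpecResidueField_apply]
    exact hz2
  have htπ : t ≫ π = ι ≫ pullback.fst _ _ := by
    apply pullback.hom_ext
    · simp only [Category.assoc]
      rw [hπ1, pullback.condition, ← Category.assoc, pullback.lift_fst, Category.assoc]
    · simp only [Category.assoc]
      rw [hπ2, ← Category.assoc, pullback.lift_snd, ← Spec.map_comp, haj, ha]
  have hy' : π w = y := by
    show (t ≫ π) _ = y
    rw [htπ]
    show pullback.fst (Curv2.bcFst k X K) (Curv2.bcFst k X k') (ι _) = y
    rw [Scheme.fromSpecResidueField_apply]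
    exact hz1
  haveI := h L (IntermediateField.fg_top_iff.2 inferInstance) w hw
  letI := (π.stalkMap w).hom.toAlgebra
  haveI : Module.Flat ((Curv2.bc k X K).presheaf.stalk (π w)) (W.presheaf.stalk w) := Flat.stalkMap π w
  haveI : IsLocalHom (algebraMap ((Curv2.bc k X K).presheaf.stalk (π w)) (W.presheaf.stalk w)) :=
    inferInstanceAs (IsLocalHom (π.stalkMap w).hom)
  haveI := Module.FaithfullyFlat.of_flat_of_isLocalHom
    (A := (Curv2.bc k X K).presheaf.stalk (π w)) (B := W.presheaf.stalk w)
  haveI : IsNoetherianRing ((Curv2.bc k X K).presheaf.stalk (π w)) := by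
    rw [isNoetherianRing_iff, isNoetherian_iff']
    exact (OrderEmbedding.ofMapLEIff
      (fun I : Ideal ((Curv2.bc k X K).presheaf.stalk (π w)) =>
        I.map (algebraMap ((Curv2.bc k X K).presheaf.stalk (π w)) (W.presheaf.stalk w)))
      (fun I J => ⟨fun hIJ => by
        have := Ideal.comap_mono (f := algebraMap ((Curv2.bc k X K).presheaf.stalk (π w)) (W.presheaf.stalk w)) hIJ
        rwa [Ideal.comap_map_eq_self_of_faithfullyFlat, Ideal.comap_map_eq_self_of_faithfullyFlat] at this,
        Ideal.map_mono⟩)).wellFoundedGT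
  rw [← hy']
  exact RegFlatLib.isRegularLocalRing_of_flat _ (W.presheaf.stalk w)

end Groth.Agent.S7607
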