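import Groth.Statements.S7611
import Mathlib
import Groth.Agent.GeomIrrLib.Basic
-- import your own Groth.Agent.* helpers here

set_option autoImplicit false
universe u
open CategoryTheory CategoryTheory.Limits AlgebraicGeometry
attribute [local instance] Curv2.resAlgebra
open Variety

namespace Groth.Agent.S7611


open TensorProduct
open scoped Cardinal

/-- A field extension of small dimension is algebraic. -/
theorem isAlgebraic_of_rank_lt {K L : Type u} [Field K] [Field L] [Algebra K L]
    (h : Module.rank K L < #K) : Algebra.IsAlgebraic K L := by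
  refine ⟨fun t => ?_⟩
  by_contra ht
  exact absurd ((Transcendental.linearIndependent_sub_inv (F := K) (x := t) ht).cardinal_le_rank.trans_lt h)
    (lt_irrefl _)

/-- An algebra of small dimension over a field is a Jacobson ring. -/
theorem isJacobson_of_rank_lt {K B : Type u} [Field K] [CommRing B] [Algebra K B] (h0 : ℵ₀ < #K)
    (h : Module.rank K B < #K) : IsJacobsonRing B := by
  rw [isJacobsonRing_iff_prime_eq]
  intro P hP
  refine le_antisymm (fun f hf => ?_) Ideal.le_jacobson
  by_contra hfP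
  let I : Ideal (Polynomial B) := P.map Polynomial.C ⊔ Ideal.span {Polynomial.C f * Polynomial.X - 1}
  have hI : I ≠ ⊤ := by
    intro hI
    haveI : IsDomain (B ⧸ P) := Ideal.Quotient.isDomain P
    have hne : Ideal.Quotient.mk P f ≠ 0 := fun e => hfP (Ideal.Quotient.eq_zero_iff_mem.1 e)
    let φ : Polynomial B →+* FractionRing (B ⧸ P) :=
      Polynomial.eval₂RingHom ((algebraMap (B ⧸ P) _).comp (Ideal.Quotient.mk P))
        (algebraMap (B ⧸ P) (FractionRing (B ⧸ P)) (Ideal.Quotient.mk P f))⁻¹
    have h1 : I ≤ RingHom.ker φ := by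
      refine sup_le (Ideal.map_le_iff_le_comap.2 fun b hb => ?_) ?_
      · rw [Ideal.mem_comap, RingHom.mem_ker]
        simp [φ, Ideal.Quotient.eq_zero_iff_mem.2 hb]
      · rw [Ideal.span_le, Set.singleton_subset_iff, SetLike.mem_coe, RingHom.mem_ker]
        simp [φ, mul_inv_cancel₀ ((map_ne_zero_iff _ (IsFractionRing.injective (B ⧸ P) (FractionRing (B ⧸ P)))).2 hne)]
    rw [hI] at h1
    exact RingHom.ker_ne_top φ (top_le_iff.1 h1)
  obtain ⟨m, hm, hIm⟩ := Ideal.exists_le_maximal I hI
  letI := Ideal.Quotient.field m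
  have hr : Module.rank K (Polynomial B ⧸ m) < #K := by
    refine lt_of_le_of_lt ((Ideal.Quotient.mkₐ K m).toLinearMap.rank_le_of_surjective
      (Ideal.Quotient.mkₐ_surjective K m)) ?_
    have e : Module.rank K (Polynomial B) = ℵ₀ * Module.rank K B := by
      rw [((Polynomial.basisMonomials B).repr.restrictScalars K).rank_eq, rank_finsupp, Cardinal.mk_nat, Cardinal.lift_aleph0, Cardinal.lift_id']
    rw [e]
    exact Cardinal.mul_lt_of_lt h0.le h0 h
  haveI := isAlgebraic_of_rank_lt hr
  let g : B →+* Polynomial B ⧸ m := (Ideal.Quotient.mk m).comp Polynomial.C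
  have hg : g.IsIntegral := by
    intro x
    obtain ⟨q, hq, hx⟩ := (Algebra.IsAlgebraic.isAlgebraic (R := K) x).isIntegral
    refine ⟨q.map (algebraMap K B), hq.map _, ?_⟩
    rw [Polynomial.eval₂_map]
    exact hx
  have hmax : (RingHom.ker g).IsMaximal := by
    haveI : (⊥ : Ideal (Polynomial B ⧸ m)).IsMaximal := Ideal.bot_isMaximal
    rw [RingHom.ker_eq_comap_bot]
    exact Ideal.isMaximal_comap_of_isIntegral_of_isMaximal' g hg ⊥
  have hPg : P ≤ RingHom.ker g := fun b hb => RingHom.mem_ker.2
    (Ideal.Quotient.eq_zero_iff_mem.2 (hIm (Ideal.mem_sup_left (Ideal.mem_map_of_mem _ hb))))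
  have hfg : g f = 0 := by
    rw [← RingHom.mem_ker]
    rw [Ideal.jacobson, Ideal.mem_sInf] at hf
    exact hf ⟨hPg, hmax⟩
  have h2 : Ideal.Quotient.mk m (Polynomial.C f * Polynomial.X - 1) = 0 :=
    Ideal.Quotient.eq_zero_iff_mem.2 (hIm (Ideal.mem_sup_right (Ideal.mem_span_singleton_self _)))
  rw [map_sub, map_mul, map_one, show Ideal.Quotient.mk m (Polynomial.C f) = 0 from hfg, zero_mul] at h2
  simp at h2

/-- Let X be a scheme over a field k. There is a cardinal κ such that for every extension field K of k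
of cardinality at least κ, the base change X_K is a Jacobson scheme and for every closed point x of
X_K the residue field κ(x) is algebraic over K. -/
theorem result (k : Type u) [Field k] (X : Scheme.{u}) [X.Over (Spec (CommRingCat.of k))] :
    ∃ κ : Cardinal.{u}, ∀ (K : Type u) [Field K] [Algebra k K], κ ≤ Cardinal.mk K →
      JacobsonSpace ↥(Curv2.bc k X K) ∧
        ∀ x : ↥(Curv2.bc k X K), IsClosed ({x} : Set ↥(Curv2.bc k X K)) →
          letI : (Curv2.bc k X K).Over (Spec (CommRingCat.of K)) := ⟨Curv2.bcSnd k X K⟩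
          Algebra.IsAlgebraic K ((Curv2.bc k X K).residueField x) := by
  classical
  obtain ⟨f, hf⟩ : ∃ f, f = (X ↘ Spec (CommRingCat.of k)) := ⟨_, rfl⟩
  let c : Cardinal.{u} := ⨆ U : X.affineOpens, #Γ(X, U.1)
  refine ⟨Order.succ (max ℵ₀ c), fun K _ _ hK => ?_⟩
  have hlt : max ℵ₀ c < #K := Order.succ_le_iff.1 hK
  have h0 : ℵ₀ < #K := (le_max_left _ _).trans_lt hlt
  obtain ⟨Y, hY⟩ : ∃ Y, Y = Curv2.bc k X K := ⟨_, rfl⟩
  subst hY
  letI : (Curv2.bc k X K).Over (Spec (CommRingCat.of K)) := ⟨Curv2.bcSnd k X K⟩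
  have hcov : ∀ x : ↥(Curv2.bc k X K), ∃ (B : Type u) (_ : CommRing B) (_ : Algebra K B)
      (j : Spec (CommRingCat.of B) ⟶ Curv2.bc k X K), IsOpenImmersion j ∧ x ∈ Set.range j ∧
        Module.rank K B < #K ∧
        j ≫ Curv2.bcSnd k X K = Spec.map (CommRingCat.ofHom (algebraMap K B)) := by
    intro x
    obtain ⟨_, ⟨U, hU, rfl⟩, hxU, -⟩ := X.isBasis_affineOpens.exists_subset_of_mem_open
      (show Curv2.bcFst k X K x ∈ Set.univ from trivial) isOpen_univ
    obtain ⟨φ, hφ⟩ : ∃ φ, Spec.map φ = hU.fromSpec ≫ (X ↘ Spec (CommRingCat.of k)) := ⟨_, Spec.map_preimage _⟩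
    letI : Algebra k Γ(X, U) := φ.hom.toAlgebra
    have hφ' : Spec.map (CommRingCat.ofHom (algebraMap k Γ(X, U))) = hU.fromSpec ≫ (X ↘ Spec (CommRingCat.of k)) := hφ
    let g := Spec.map (CommRingCat.ofHom (algebraMap k K))
    let q : pullback g (Spec.map (CommRingCat.ofHom (algebraMap k Γ(X, U)))) ⟶ Curv2.bc k X K :=
      pullback.lift (pullback.snd _ _ ≫ hU.fromSpec) (pullback.fst _ _)
        (by rw [Category.assoc, ← hφ', ← pullback.condition])
    have hq1 : q ≫ pullback.fst _ _ = pullback.snd _ _ ≫ hU.fromSpec := pullback.lift_fst _ _ _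
    have hq2 : q ≫ pullback.snd _ _ = pullback.fst _ _ := pullback.lift_snd _ _ _
    have sq : IsPullback q (pullback.snd _ _) (Curv2.bcFst k X K) hU.fromSpec := by
      refine IsPullback.of_right ?_ hq1 (IsPullback.of_hasPullback _ _).flip
      rw [hq2, ← hφ']
      exact IsPullback.of_hasPullback _ _
    haveI : IsOpenImmersion q := MorphismProperty.of_isPullback sq.flip inferInstance
    refine ⟨K ⊗[k] Γ(X, U), inferInstance, inferInstance, (pullbackSpecIso k K Γ(X, U)).inv ≫ q,
      inferInstance, ?_, ?_, ?_⟩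
    · obtain ⟨y, hy⟩ : x ∈ Set.range q := by
        rw [← sq.isoPullback_hom_fst, Scheme.Hom.comp_base, TopCat.coe_comp, Set.range_comp,
          (sq.isoPullback.hom.surjective).range_eq, Set.image_univ, Scheme.Pullback.range_fst,
          Set.mem_preimage, hU.range_fromSpec]
        exact hxU
      refine ⟨(pullbackSpecIso k K Γ(X, U)).hom y, ?_⟩
      rw [← Scheme.Hom.comp_apply, Iso.hom_inv_id_assoc, hy]
    · rw [Module.rank_baseChange, Cardinal.lift_id]
      refine ((rank_le_card k _).trans ?_).trans_lt hlt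
      exact (le_ciSup (Cardinal.bddAbove_range _) (⟨U, hU⟩ : X.affineOpens)).trans (le_max_right _ _)
    · rw [Category.assoc, Curv2.bcSnd, hq2, pullbackSpecIso_inv_fst']
  choose B rB aB j hj hxj hB hsnd using hcov
  refine ⟨?_, fun x hx => ?_⟩
  · rw [(TopologicalSpace.IsOpenCover.mk (u := fun x => (j x).opensRange) (TopologicalSpace.Opens.ext
      (Set.eq_univ_of_forall fun x => by simpa using ⟨x, hxj x⟩))).jacobsonSpace_iff]
    intro x
    haveI := hj x
    haveI : IsJacobsonRing (B x) := @isJacobson_of_rank_lt K (B x) _ (rB x) (aB x) h0 (hB x)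
    haveI : JacobsonSpace ↥(Spec (CommRingCat.of (B x))) := inferInstance
    exact JacobsonSpace.of_isOpenEmbedding (j x).isoOpensRange.inv.isOpenEmbedding
  · haveI := hj x
    haveI hci : IsClosedImmersion ((Curv2.bc k X K).fromSpecResidueField x) :=
      isClosed_singleton_iff_isClosedImmersion.1 hx
    let l := IsOpenImmersion.lift (j x) ((Curv2.bc k X K).fromSpecResidueField x) (by
      rw [Scheme.range_fromSpecResidueField, Set.singleton_subset_iff]; exact hxj x)
    have hl : l ≫ j x = (Curv2.bc k X K).fromSpecResidueField x := IsOpenImmersion.lift_fac _ _ _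
    haveI : IsClosedImmersion (l ≫ j x) := hl ▸ hci
    haveI : IsClosedImmersion l := IsClosedImmersion.of_comp l (j x)
    obtain ⟨ψ, hψ⟩ : ∃ ψ, Spec.map ψ = l := ⟨_, Spec.map_preimage _⟩
    haveI : IsClosedImmersion (Spec.map ψ) := hψ ▸ inferInstance
    have hsur : Function.Surjective ψ.hom := by
      have h2 := (IsClosedImmersion.isAffine_surjective_of_isAffine (f := Spec.map ψ)).2
      intro z
      obtain ⟨w, hw⟩ := h2 ((Scheme.ΓSpecIso _).inv.hom z)
      refine ⟨(Scheme.ΓSpecIso _).hom.hom w, ?_⟩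
      have h3 := congrArg (fun F => F.hom w) (Scheme.ΓSpecIso_naturality ψ)
      simp only [CommRingCat.comp_apply] at h3
      rw [← h3]
      refine (congrArg _ hw).trans ?_
      simp [← CommRingCat.comp_apply]
    letI := rB x
    letI := aB x
    have hc : Spec.map (CommRingCat.ofHom (algebraMap K ((Curv2.bc k X K).residueField x))) =
        Spec.map (CommRingCat.ofHom (ψ.hom.comp (algebraMap K (B x)))) := by
      rw [CommRingCat.ofHom_comp, Spec.map_comp, CommRingCat.ofHom_hom, hψ, ← hsnd x, ← Category.assoc, hl]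
      exact GeomIrrLib.specMap_resMap (k := K) (X := Curv2.bc k X K) x
    have hc' := Spec.map_injective hc
    let ψ' : B x →ₐ[K] (Curv2.bc k X K).residueField x :=
      { ψ.hom with commutes' := fun r => (RingHom.congr_fun (congrArg CommRingCat.Hom.hom hc') r).symm }
    exact isAlgebraic_of_rank_lt (lt_of_le_of_lt (ψ'.toLinearMap.rank_le_of_surjective hsur) (hB x))

end Groth.Agent.S7611
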