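import Groth.Statements.S7613
import Groth.Agent.GeomIrrLib.Basic
import Groth.Agent.AlgSpLib.ReducedSmooth
import Groth.Agent.NormalLib.Regular
import Groth.Agent.CurveVBLib.Basic

set_option autoImplicit false
universe u
open CategoryTheory CategoryTheory.Limits AlgebraicGeometry
open Variety
attribute [local instance] Curv2.resAlgebra
set_option maxHeartbeats 1000000
set_option linter.style.haveILetI false

namespace Groth.Agent.S7613

/-- Let X be a variety over a field k (integral, separated and of finite type over k) with a k-rational
point x (k → κ(x) onto) such that X → Spec k is smooth at x. Then every base change of X to an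
extension field of k is an integral scheme (X is geometrically integral over k). -/
theorem result (k : Type u) [Field k] (X : Scheme.{u}) [X.Over (Spec (CommRingCat.of k))] [IsIntegral X] [IsSeparated (X ↘ (Spec (CommRingCat.of k)))]
    [LocallyOfFiniteType (X ↘ (Spec (CommRingCat.of k)))] [QuasiCompact (X ↘ (Spec (CommRingCat.of k)))]
    (x : ↥X) (hx : Function.Surjective (Curv2.resMap k X x)) (hsm : x ∈ (X ↘ (Spec (CommRingCat.of k))).smoothLocus) :
    GeometricallyIntegral (X ↘ (Spec (CommRingCat.of k))) := by
  classical
  let f := X ↘ Spec (CommRingCat.of k)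
  let U : X.Opens := f.smoothLocus
  haveI : IsLocallyNoetherian X := LocallyOfFiniteType.isLocallyNoetherian f
  haveI : Flat f := inferInstance
  haveI : Smooth (U.ι ≫ f) := by
    rw [← Scheme.Hom.smoothLocus_eq_top_iff, ← Scheme.Hom.preimage_smoothLocus_eq U.ι f, eq_top_iff]
    exact fun z _ => z.2
  haveI : QuasiCompact U.ι := inferInstance
  haveI : IsDominant U.ι := ⟨by
    rw [DenseRange, Scheme.Opens.range_ι]
    exact U.isOpen.dense ⟨x, hsm⟩⟩
  haveI : IsSchemeTheoreticallyDominant U.ι := IsSchemeTheoreticallyDominant.of_isDominant U.ι
  haveI : GeometricallyReduced f := by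
    refine ⟨geometrically_iff_of_commRing_of_isClosedUnderIsomorphisms.mpr fun F _ _ => ?_⟩
    let g : Spec (CommRingCat.of F) ⟶ Spec (CommRingCat.of k) := Spec.map (CommRingCat.ofHom (algebraMap k F))
    show AlgebraicGeometry.IsReduced (pullback f g)
    let c := pullback.snd U.ι (pullback.fst f g)
    haveI : Smooth (pullback.snd (U.ι ≫ f) g) := inferInstance
    haveI : AlgebraicGeometry.IsReduced (pullback (U.ι ≫ f) g) :=
      AlgSpLib.isReduced_of_smooth (pullback.snd (U.ι ≫ f) g)
    haveI : AlgebraicGeometry.IsReduced (pullback U.ι (pullback.fst f g)) :=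
      isReduced_of_isOpenImmersion (pullbackRightPullbackFstIso f g U.ι).hom
    exact IsSchemeTheoreticallyDominant.isReduced c
  haveI : GeometricallyIrreducible f := by
    refine (GeomIrrLib.gi_iff_generic f (X.residueField (genericPoint X))
      (X.fromSpecResidueField (genericPoint X)) (Scheme.range_fromSpecResidueField ..)
      (GeomIrrLib.specMap_resMap (genericPoint X))).mpr fun a ha => ?_
    letI : Algebra k (X.presheaf.stalk x) := (Curv2.stalkMap k X x).toAlgebra
    haveI : IsRegularLocalRing (X.presheaf.stalk x) :=
      (DepthLib.regular_of_smooth_and_conversely f x).1 hsm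
    haveI : IsIntegrallyClosed (X.presheaf.stalk x) := NormalLib.isIntegrallyClosed_of_isRegularLocalRing _
    have hs : genericPoint X ⤳ x := genericPoint_specializes x
    let ψ : X.presheaf.stalk x →+* X.residueField (genericPoint X) :=
      (X.residue (genericPoint X)).hom.comp (X.presheaf.stalkSpecializes hs).hom
    have hψ : ∀ c : k, ψ (algebraMap k _ c) = algebraMap k (X.residueField (genericPoint X)) c := fun c => by
      show X.residue _ ((X.presheaf.stalkSpecializes hs) ((X.presheaf.germ ⊤ x trivial) _)) = X.residue _ _
      exact congrArg (fun t => (X.residue (genericPoint X)) t)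
        (TopCat.Presheaf.germ_stalkSpecializes_apply X.presheaf _ hs _)
    let r : X.functionField →+* X.residueField (genericPoint X) := (X.residue (genericPoint X)).hom
    obtain ⟨a₀, ha₀⟩ := X.residue_surjective (genericPoint X) a
    letI : Algebra k X.functionField :=
      ((algebraMap (X.presheaf.stalk x) X.functionField).comp (algebraMap k _)).toAlgebra
    haveI : IsScalarTower k (X.presheaf.stalk x) X.functionField := IsScalarTower.of_algebraMap_eq fun _ => rfl
    let r' : X.functionField →ₐ[k] X.residueField (genericPoint X) :=
      { r with commutes' := fun c => hψ c }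
    have hint : IsIntegral k a₀ := by
      have hint : IsIntegral k (r' a₀) := by
        rw [show r' a₀ = a from ha₀]; exact ha.isIntegral
      exact (isIntegral_algHom_iff r' r'.toRingHom.injective).mp hint
    obtain ⟨z, hz⟩ := (IsIntegrallyClosed.isIntegral_iff (R := X.presheaf.stalk x)).mp
      (hint.tower_top (A := X.presheaf.stalk x))
    obtain ⟨c, hc⟩ := hx (X.residue x z)
    have hzc : z = algebraMap k (X.presheaf.stalk x) c := by
      by_contra hne
      have hsub : z - algebraMap k (X.presheaf.stalk x) c ≠ 0 := sub_ne_zero.mpr hne
      have hinj : Function.Injective (algebraMap (X.presheaf.stalk x) X.functionField) :=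
        IsFractionRing.injective _ _
      have hzint : IsIntegral k z := by
        refine (isIntegral_algebraMap_iff hinj).mp ?_
        rwa [hz]
      obtain ⟨w, hw⟩ := isUnit_iff_exists_inv.mp
        (IsIntegral.isUnit (hzint.sub (isIntegral_algebraMap (x := c))) hsub)
      have h0 : (X.residue x) (z - algebraMap k (X.presheaf.stalk x) c) = 0 := by
        rw [map_sub, ← hc]; exact sub_self _
      have h1 := congrArg (fun t => (X.residue x) t) hw
      refine zero_ne_one (α := X.residueField x) ?_
      calc (0 : X.residueField x) = (X.residue x) (z - algebraMap k (X.presheaf.stalk x) c) * (X.residue x) w := by rw [h0, zero_mul]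
        _ = (X.residue x) ((z - algebraMap k (X.presheaf.stalk x) c) * w) := (map_mul (X.residue x).hom _ _).symm
        _ = (X.residue x) 1 := h1
        _ = 1 := map_one (X.residue x).hom
    refine ⟨c, ?_⟩
    rw [← ha₀, ← hz, hzc, ← hψ]
    rfl
  exact GeometricallyIntegral.of_geometricallyReduced_of_geometricallyIrreducible f

end Groth.Agent.S7613
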