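import Groth.Statements.S7614
import Groth.Agent.MiscFlat6.QAffFpqc
-- import your own Groth.Agent.* helpers here

set_option autoImplicit false
universe u
open CategoryTheory CategoryTheory.Limits AlgebraicGeometry
open Variety

namespace Groth.Agent.S7614

/-- Let X be a scheme over a field k and K an extension field of k. If X_K is quasi-affine, then X is
quasi-affine. -/
theorem result (k : Type u) [Field k] (X : Scheme.{u}) [X.Over (Spec (CommRingCat.of k))] (K : Type u) [Field K] [Algebra k K]
    [(Curv2.bc k X K).IsQuasiAffine] : X.IsQuasiAffine := by
  let q := Spec.map (CommRingCat.ofHom (algebraMap k K))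
  haveI : Flat q := by
    rw [Flat.SpecMap_iff]
    exact RingHom.flat_algebraMap_iff.mpr inferInstance
  haveI : Surjective q := inferInstance
  let g := X ↘ Spec (CommRingCat.of k)
  haveI : Surjective (pullback.fst g q) := MorphismProperty.pullback_fst _ _ inferInstance
  haveI : CompactSpace X := ⟨by
    rw [← (pullback.fst g q).surjective.range_eq]
    exact isCompact_range (pullback.fst g q).continuous⟩
  exact MiscFlat6.isQuasiAffine_of_faithfullyFlat (IsPullback.of_hasPullback g q)

end Groth.Agent.S7614
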