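import Groth.Statements.S7615
import Groth.Agent.GeomIrrLib.Basic
import Groth.Agent.GeomRedFieldLib.AtPoint
import Groth.Agent.EtRamTameLib.Sep

set_option autoImplicit false
universe u
open CategoryTheory CategoryTheory.Limits AlgebraicGeometry
open Variety

namespace Groth.Agent.S7615

open CategoryTheory CategoryTheory.Limits AlgebraicGeometry in
theorem specMap_generic {k : Type u} [Field k] {X : Scheme.{u}} (f : X ⟶ Spec (CommRingCat.of k)) (x : X) :
    Spec.map ((Scheme.ΓSpecIso (CommRingCat.of k)).inv ≫ f.appTop ≫ X.presheaf.germ ⊤ x trivial) =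
      X.fromSpecStalk x ≫ f := by
  simp only [Spec.map_comp, Category.assoc]
  rw [← Scheme.fromSpecStalk_toSpecΓ, Category.assoc]
  congr 1
  rw [← Category.assoc, ← Scheme.toSpecΓ_naturality, Category.assoc, toSpecΓ_SpecMap_ΓSpecIso_inv,
    Category.comp_id]


/-- Let X be a proper variety over a field k (integral, separated, of finite type and proper over k) and
K = H^0(X, O_X), a k-algebra via the structure morphism. Then K is a field, finite over k; K/k is
separable when X is geometrically reduced over k, and purely inseparable when X is geometrically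
irreducible over k. -/
theorem result (k : Type u) [Field k] (X : Scheme.{u}) [X.Over (Spec (CommRingCat.of k))] [IsIntegral X] [IsProper (X ↘ (Spec (CommRingCat.of k)))] :
    letI := ((X ↘ (Spec (CommRingCat.of k))).appTop.hom.comp (Scheme.ΓSpecIso (CommRingCat.of k)).inv.hom : k →+* Γ(X, ⊤)).toAlgebra
    IsField ↑Γ(X, ⊤) ∧ Module.Finite k ↑Γ(X, ⊤) ∧
      (GeometricallyReduced (X ↘ (Spec (CommRingCat.of k))) → Algebra.IsSeparable k ↑Γ(X, ⊤)) ∧
      (GeometricallyIrreducible (X ↘ (Spec (CommRingCat.of k))) → IsPurelyInseparable k ↑Γ(X, ⊤)) := by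
  let f := X ↘ Spec (CommRingCat.of k)
  letI : Algebra k Γ(X, ⊤) := (f.appTop.hom.comp (Scheme.ΓSpecIso (CommRingCat.of k)).inv.hom : k →+* Γ(X, ⊤)).toAlgebra
  have hF : IsField Γ(X, ⊤) := isField_of_universallyClosed k f
  letI := hF.toField
  haveI hfin : Module.Finite k Γ(X, ⊤) := by
    have h := finite_appTop_of_universallyClosed k f
    have h2 : (Scheme.ΓSpecIso (CommRingCat.of k)).inv.hom.Finite :=
      RingHom.Finite.of_surjective _ (ConcreteCategory.bijective_of_isIso (Scheme.ΓSpecIso (CommRingCat.of k)).inv).2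
    exact h.comp h2
  refine ⟨hF, hfin, fun hgr => ?_, fun hgi => ?_⟩
  all_goals
    let η := genericPoint X
    let F := X.functionField
    letI : Algebra k F := ((Scheme.ΓSpecIso (CommRingCat.of k)).inv ≫ f.appTop ≫ X.presheaf.germ ⊤ η trivial).hom.toAlgebra
    let g : Γ(X, ⊤) →ₐ[k] F := { (X.presheaf.germ ⊤ η trivial).hom with commutes' := fun c => rfl }
    have hR : X.fromSpecStalk η ≫ f = Spec.map (CommRingCat.ofHom (algebraMap k F)) := (specMap_generic f η).symm
  · haveI : GeometricallyReduced f := hgr
    haveI : Algebra.IsGeometricallyReduced k F := GeomRedFieldLib.isGeometricallyReduced_stalk f hR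
      fun k' _ _ _ _ x' _ => by
        haveI : IsReduced (Spec (CommRingCat.of k')) := inferInstance
        haveI : IsReduced (pullback f (GeomRedFieldLib.str k k')) := inferInstance
        infer_instance
    haveI : Algebra.IsGeometricallyReduced k Γ(X, ⊤) := Algebra.IsGeometricallyReduced.of_injective g g.toRingHom.injective
    haveI : Algebra.IsAlgebraic k Γ(X, ⊤) := Algebra.IsAlgebraic.of_finite _ _
    exact EtRamTameLib.isSeparable_of_geomRed
  · haveI : GeometricallyIrreducible f := hgi
    have hr : Set.range (X.fromSpecStalk η) = {genericPoint X} := by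
      rw [Scheme.range_fromSpecStalk]
      ext y
      refine ⟨fun (h : y ⤳ η) => ((genericPoint_specializes y).antisymm h).eq.symm, fun h => ?_⟩
      rw [Set.mem_singleton_iff] at h
      exact h ▸ specializes_rfl
    have hs := (GeomIrrLib.gi_iff_generic f F (X.fromSpecStalk η) hr hR.symm).1 hgi
    refine ⟨Algebra.IsIntegral.of_finite k _, fun a ha => ?_⟩
    obtain ⟨c, hc⟩ := hs (g a) (by
      unfold IsSeparable at ha ⊢
      rwa [minpoly.algHom_eq g g.toRingHom.injective])
    exact ⟨c, g.toRingHom.injective (hc ▸ g.commutes c)⟩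

end Groth.Agent.S7615
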