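import Groth.Statements.S7618
import Mathlib

set_option autoImplicit false
universe u
open CategoryTheory CategoryTheory.Limits AlgebraicGeometry
open Variety

namespace Groth.Agent.S7618


theorem isField_integralClosure {k A : Type u} [Field k] [CommRing A] [Algebra k A] [Nontrivial A]
    [_root_.IsReduced A] (hA : ∀ e : A, IsIdempotentElem e → e = 0 ∨ e = 1) :
    IsField (integralClosure k A) := by
  refine ⟨⟨0, 1, zero_ne_one⟩, mul_comm, fun {x} hx => ?_⟩
  haveI : Module.Finite k (Algebra.adjoin k {(x : A)}) :=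
    Module.Finite.iff_fg.2 x.2.fg_adjoin_singleton
  haveI : IsArtinianRing (Algebra.adjoin k {(x : A)}) := isArtinian_of_tower k inferInstance
  let x' : Algebra.adjoin k {(x : A)} := ⟨x, Algebra.subset_adjoin rfl⟩
  obtain ⟨n, y, hy⟩ := IsArtinian.exists_pow_succ_smul_dvd x' (1 : Algebra.adjoin k {(x : A)})
  rw [smul_eq_mul, smul_eq_mul, mul_one] at hy
  have hxy : (x : A) ^ (n + 1) * (y : A) = (x : A) ^ n := congrArg Subtype.val hy
  have hpow : ∀ m, (x : A) ^ (n + m) * (y : A) ^ m = (x : A) ^ n := by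
    intro m
    induction m with
    | zero => simp
    | succ m ih =>
      calc (x : A) ^ (n + (m + 1)) * (y : A) ^ (m + 1)
          = ((x : A) ^ (n + 1) * y) * ((x : A) ^ m * (y : A) ^ m) := by ring
        _ = (x : A) ^ n * ((x : A) ^ m * (y : A) ^ m) := by rw [hxy]
        _ = (x : A) ^ n := by rw [← mul_assoc, ← pow_add, ih]
  have hidem : IsIdempotentElem ((x : A) ^ n * (y : A) ^ n) := by
    calc (x : A) ^ n * (y : A) ^ n * ((x : A) ^ n * (y : A) ^ n)
        = (x : A) ^ (n + n) * (y : A) ^ n * (y : A) ^ n := by ring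
      _ = (x : A) ^ n * (y : A) ^ n := by rw [hpow n]
  rcases hA _ hidem with h | h
  · refine absurd (Subtype.ext ?_) hx
    show (x : A) = 0
    rcases Nat.eq_zero_or_pos n with rfl | hn
    · simp at h
    · refine IsReduced.eq_zero _ ⟨n, ?_⟩
      calc (x : A) ^ n = (x : A) ^ (n + n) * (y : A) ^ n := (hpow n).symm
        _ = (x : A) ^ n * ((x : A) ^ n * (y : A) ^ n) := by ring
        _ = 0 := by rw [h, mul_zero]
  · have hunit : (x : A) * (y : A) = 1 := by
      calc (x : A) * (y : A) = (x : A) * (y : A) * ((x : A) ^ n * (y : A) ^ n) := by rw [h, mul_one]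
        _ = ((x : A) ^ (n + 1) * (y : A)) * (y : A) ^ n := by ring
        _ = 1 := by rw [hxy, h]
    exact ⟨⟨y, adjoin_le_integralClosure x.2 y.2⟩, Subtype.ext hunit⟩


/-- Let X be a connected reduced scheme over a field k. Then the global functions on X that are integral
over k form a field. -/
theorem result (k : Type u) [Field k] (X : Scheme.{u}) [X.Over (Spec (CommRingCat.of k))] [ConnectedSpace ↥X] [IsReduced X] :
    letI := ((X ↘ (Spec (CommRingCat.of k))).appTop.hom.comp (Scheme.ΓSpecIso (CommRingCat.of k)).inv.hom : k →+* Γ(X, ⊤)).toAlgebra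
    IsField ↥(integralClosure k ↑Γ(X, ⊤)) := by
  letI := ((X ↘ (Spec (CommRingCat.of k))).appTop.hom.comp (Scheme.ΓSpecIso (CommRingCat.of k)).inv.hom : k →+* Γ(X, ⊤)).toAlgebra
  haveI : Nonempty (⊤ : X.Opens) := ⟨⟨Classical.arbitrary X, trivial⟩⟩
  haveI : Nontrivial Γ(X, ⊤) := Scheme.component_nontrivial X ⊤
  refine isField_integralClosure fun e he => ?_
  have hcl : IsClopen (X.basicOpen e : Set X) := by
    refine ⟨⟨?_⟩, (X.basicOpen e).2⟩
    have : (X.basicOpen e : Set X)ᶜ = (X.basicOpen (1 - e) : Set X) := by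
      ext x
      simp only [Set.mem_compl_iff, SetLike.mem_coe, Scheme.mem_basicOpen_top]
      have h0 : X.presheaf.germ ⊤ x trivial e * (1 - X.presheaf.germ ⊤ x trivial e) = 0 := by
        rw [mul_sub, mul_one, ← map_mul, he.eq, sub_self]
      rw [map_sub, map_one]
      refine ⟨fun h => (IsLocalRing.isUnit_or_isUnit_one_sub_self _).resolve_left h,
        fun h hu => ?_⟩
      exact not_isUnit_zero (h0 ▸ hu.mul h)
    rw [this]
    exact (X.basicOpen (1 - e)).2
  rcases isClopen_iff.1 hcl with h | h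
  · left
    have hb : X.basicOpen e = ⊥ := SetLike.coe_injective h
    exact (basicOpen_eq_bot_iff e).1 hb
  · right
    have hu : IsUnit e := RingedSpace.isUnit_of_isUnit_germ (X := X.toRingedSpace) ⊤ e fun x hx =>
      (X.mem_basicOpen e x hx).1 (show x ∈ (X.basicOpen e : Set X) by rw [h]; trivial)
    exact hu.mul_left_cancel (by rw [he.eq, mul_one])

end Groth.Agent.S7618
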