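import Groth.Statements.S7619
import Mathlib

set_option autoImplicit false
universe u
open CategoryTheory CategoryTheory.Limits AlgebraicGeometry
open scoped TensorProduct
open Variety

namespace Groth.Agent.S7619

/-- Let A → B be a finite type ring map (a finite type morphism of affine schemes), q a prime of B and r
= dim_{κ(q)} Ω_{B/A} ⊗_B κ(q). Then there is an A-algebra homomorphism A[x_1, …, x_r] → B for which
B is unramified over A[x_1, …, x_r] at q. -/
theorem result (A B : Type u) [CommRing A] [CommRing B] [Algebra A B] [Algebra.FiniteType A B]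
    (q : Ideal B) [q.IsPrime] (r : ℕ) (hr : Module.finrank q.ResidueField (q.ResidueField ⊗[B] Ω[B⁄A]) = r) :
    ∃ φ : MvPolynomial (Fin r) A →ₐ[A] B,
      letI := φ.toRingHom.toAlgebra
      Algebra.IsUnramifiedAt (MvPolynomial (Fin r) A) q := by
  classical
    let g : B → q.ResidueField ⊗[B] Ω[B⁄A] := fun b => 1 ⊗ₜ[B] KaehlerDifferential.D A B b
  have hspan : Submodule.span q.ResidueField (Set.range g) = ⊤ := by
    rw [eq_top_iff]
    rintro x -
    induction x with
    | zero => exact zero_mem _
    | add x y hx hy => exact add_mem hx hy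
    | tmul c w =>
      have hw : w ∈ Submodule.span B (Set.range (KaehlerDifferential.D A B)) := by
        rw [KaehlerDifferential.span_range_derivation]; trivial
      induction hw using Submodule.span_induction generalizing c with
      | mem w hw =>
        obtain ⟨b, rfl⟩ := hw
        have : c ⊗ₜ[B] KaehlerDifferential.D A B b = c • g b := by simp [g, TensorProduct.smul_tmul']
        rw [this]
        exact Submodule.smul_mem _ _ (Submodule.subset_span ⟨b, rfl⟩)
      | zero => simp
      | add w w' _ _ h h' => rw [TensorProduct.tmul_add]; exact add_mem (h c) (h' c)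
      | smul a w _ h => rw [← TensorProduct.smul_tmul]; exact h _
  obtain ⟨s, hsr, hs, hli⟩ := exists_linearIndependent q.ResidueField (Set.range g)
  rw [hspan] at hs
  let bs := Module.Basis.mk hli (by rw [Subtype.range_coe]; exact hs.ge)
  haveI : Finite s := Module.Finite.finite_basis bs
  haveI := Fintype.ofFinite s
  have hcard : Fintype.card s = r := by rw [← hr, Module.finrank_eq_card_basis bs]
  choose x hx using fun i : Fin r => hsr ((Fintype.equivFinOfCardEq hcard).symm i).2
  let φ : MvPolynomial (Fin r) A →ₐ[A] B := MvPolynomial.aeval x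
  refine ⟨φ, ?_⟩
  letI : Algebra (MvPolynomial (Fin r) A) B := φ.toRingHom.toAlgebra
  haveI : IsScalarTower A (MvPolynomial (Fin r) A) B := IsScalarTower.of_algebraMap_eq fun a => (φ.commutes a).symm
  haveI : Algebra.FiniteType (MvPolynomial (Fin r) A) B := Algebra.FiniteType.of_restrictScalars_finiteType A _ _
  let m := KaehlerDifferential.map A (MvPolynomial (Fin r) A) B B
  have hzero : ∀ i, m (KaehlerDifferential.D A B (x i)) = 0 := by
    intro i
    rw [KaehlerDifferential.map_D]
    have e : x i = algebraMap (MvPolynomial (Fin r) A) B (MvPolynomial.X i) := (MvPolynomial.aeval_X x i).symm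
    rw [Algebra.algebraMap_self, RingHom.id_apply, e]
    exact Derivation.map_algebraMap _ _
  let mV := LinearMap.baseChange q.ResidueField m
  have hmV : mV = 0 := by
    apply bs.ext
    intro j
    obtain ⟨i, rfl⟩ := (Fintype.equivFinOfCardEq hcard).symm.surjective j
    rw [Module.Basis.mk_apply, ← hx i, LinearMap.zero_apply]
    simp [mV, g, hzero i]
  have hsub : Subsingleton (q.ResidueField ⊗[B] Ω[B⁄MvPolynomial (Fin r) A]) := by
    refine subsingleton_of_forall_eq 0 fun z => ?_
    obtain ⟨w, rfl⟩ := LinearMap.lTensor_surjective q.ResidueField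
      (KaehlerDifferential.map_surjective A (MvPolynomial (Fin r) A) B) z
    exact LinearMap.congr_fun hmV w
  show (⟨q, inferInstance⟩ : PrimeSpectrum B) ∈ Algebra.unramifiedLocus (MvPolynomial (Fin r) A) B
  rw [Algebra.unramifiedLocus_eq_compl_support, Set.mem_compl_iff, Module.mem_support_iff_nontrivial_residueField_tensorProduct]
  exact not_nontrivial_iff_subsingleton.2 hsub

end Groth.Agent.S7619
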