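import Groth.Statements.S7620
import Groth.Agent.CommAlgDim.Integral
import Mathlib
-- import your own Groth.Agent.* helpers here

set_option autoImplicit false
universe u
open CategoryTheory CategoryTheory.Limits AlgebraicGeometry
open scoped TensorProduct
open Variety

namespace Groth.Agent.S7620
set_option linter.all false

/-- Let A → B be a finite type ring map (a finite type morphism of affine schemes X → S), p a prime of A
and suppose the fibre ring κ(p) ⊗_A B has Krull dimension d. Then there is an A-algebra homomorphism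
π : A[t_1, …, t_d] → B such that the induced map of fibres κ(p) ⊗_A A[t_1, …, t_d] → κ(p) ⊗_A B is
finite. -/
theorem result (A B : Type u) [CommRing A] [CommRing B] [Algebra A B] [Algebra.FiniteType A B]
    (p : Ideal A) [p.IsPrime] (d : ℕ) (hd : ringKrullDim (p.ResidueField ⊗[A] B) = d) :
    ∃ π : MvPolynomial (Fin d) A →ₐ[A] B,
      (Algebra.TensorProduct.map (AlgHom.id p.ResidueField p.ResidueField) π).toRingHom.Finite := by
  classical
  haveI : Nontrivial (p.ResidueField ⊗[A] B) := by
    by_contra hn
    haveI := not_nontrivial_iff_subsingleton.1 hn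
    rw [ringKrullDim_eq_bot_of_subsingleton] at hd
    exact WithBot.bot_ne_coe hd
  obtain ⟨s, g, hinj, hfin⟩ := exists_finite_inj_algHom_of_fg p.ResidueField (p.ResidueField ⊗[A] B)
  letI := g.toRingHom.toAlgebra
  haveI : Module.Finite (MvPolynomial (Fin s) p.ResidueField) (p.ResidueField ⊗[A] B) := hfin
  have hdim := CommAlgDim.ringKrullDim_eq_of_integral (MvPolynomial (Fin s) p.ResidueField)
    (p.ResidueField ⊗[A] B) hinj
  rw [hd, MvPolynomial.ringKrullDim_of_isNoetherianRing, ringKrullDim_eq_zero_of_field] at hdim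
  have hsd : d = s := by
    have : (d : WithBot ℕ∞) = (s : WithBot ℕ∞) := by simpa using hdim
    exact_mod_cast this
  subst hsd
  choose r hr b hb using fun i : Fin d =>
    Ideal.Fiber.exists_smul_eq_one_tmul (p := p) (S := B) (g (MvPolynomial.X i))
  refine ⟨MvPolynomial.aeval b, ?_⟩
  let φ : p.ResidueField ⊗[A] MvPolynomial (Fin d) A →ₐ[p.ResidueField] p.ResidueField ⊗[A] B :=
    Algebra.TensorProduct.map (AlgHom.id p.ResidueField p.ResidueField) (MvPolynomial.aeval b)
  let h : MvPolynomial (Fin d) p.ResidueField →ₐ[p.ResidueField]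
      p.ResidueField ⊗[A] MvPolynomial (Fin d) A :=
    MvPolynomial.aeval fun i => (algebraMap A p.ResidueField (r i))⁻¹ ⊗ₜ[A] MvPolynomial.X i
  have e : φ.comp h = g := by
    refine MvPolynomial.algHom_ext fun i => ?_
    have hne : algebraMap A p.ResidueField (r i) ≠ 0 :=
      fun h0 => hr i (Ideal.algebraMap_residueField_eq_zero.1 h0)
    simp only [AlgHom.comp_apply, h, MvPolynomial.aeval_X, φ, Algebra.TensorProduct.map_tmul,
      AlgHom.id_apply]
    have hb' := hb i
    rw [← algebraMap_smul p.ResidueField (r i) (g (MvPolynomial.X i))] at hb'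
    calc (algebraMap A p.ResidueField (r i))⁻¹ ⊗ₜ[A] b i
        = (algebraMap A p.ResidueField (r i))⁻¹ • ((1 : p.ResidueField) ⊗ₜ[A] b i) := by
          rw [TensorProduct.smul_tmul', smul_eq_mul, mul_one]
      _ = g (MvPolynomial.X i) := by rw [← hb', inv_smul_smul₀ hne]
  have hf : (φ.toRingHom.comp h.toRingHom).Finite := by
    have : φ.toRingHom.comp h.toRingHom = g.toRingHom := by rw [← e]; rfl
    rw [this]; exact hfin
  exact RingHom.Finite.of_comp_finite hf

end Groth.Agent.S7620
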