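import Groth.Statements.S7621
import Mathlib
-- import your own Groth.Agent.* helpers here

set_option autoImplicit false
universe u
open CategoryTheory CategoryTheory.Limits AlgebraicGeometry
open Variety

namespace Groth.Agent.S7621
set_option linter.all false
open TensorProduct in
theorem exists_fin_fix (k : Type u) [Field k] (K : Type u) [Field K] [Algebra k K]
    [Algebra.IsIntegral k K] (A : Type u) [CommRing A] [Algebra k A] (f : A ⊗[k] K) :
    ∃ E : IntermediateField k K, FiniteDimensional k ↥E ∧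
      ∀ σ : K ≃ₐ[k] K, (∀ a : K, a ∈ E → σ a = a) →
        Algebra.TensorProduct.map (AlgHom.id k A) (σ : K →ₐ[k] K) f = f := by
  induction f using TensorProduct.induction_on with
  | zero => exact ⟨⊥, inferInstance, fun σ _ => by simp⟩
  | tmul a b =>
    refine ⟨IntermediateField.adjoin k {b},
      IntermediateField.adjoin.finiteDimensional (Algebra.IsIntegral.isIntegral b), fun σ h => ?_⟩
    rw [Algebra.TensorProduct.map_tmul]
    exact congrArg (a ⊗ₜ[k] ·) (h b (IntermediateField.mem_adjoin_simple_self k b))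
  | add x y hx hy =>
    obtain ⟨E, hE, hE'⟩ := hx
    obtain ⟨F, hF, hF'⟩ := hy
    refine ⟨E ⊔ F, IntermediateField.finiteDimensional_sup E F, fun σ h => ?_⟩
    rw [map_add, hE' σ fun a ha => h a ((le_sup_left : E ≤ E ⊔ F) ha),
      hF' σ fun a ha => h a ((le_sup_right : F ≤ E ⊔ F) ha)]

open TensorProduct in
/-- local statement: every point of an open set has a neighbourhood in it, moved into itself
by automorphisms fixing a finite subextension. -/
theorem exists_nbhd (k : Type u) [Field k] (K : Type u) [Field K] [Algebra k K]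
    [Algebra.IsIntegral k K] (X : Scheme.{u}) [X.Over (Spec (CommRingCat.of k))]
    (V : Set ↥(Curv2.bc k X K)) (hV : IsOpen V) (y : ↥(Curv2.bc k X K)) (hy : y ∈ V) :
    ∃ U : Set ↥(Curv2.bc k X K), IsOpen U ∧ y ∈ U ∧ U ⊆ V ∧
      ∃ E : IntermediateField k K, FiniteDimensional k ↥E ∧
        ∀ σ : K ≃ₐ[k] K, (∀ a : K, a ∈ E → σ a = a) →
          (Curv2.galAct k X K σ).base '' U ⊆ U := by
  obtain ⟨_, ⟨W, hW, rfl⟩, hyW, -⟩ := X.isBasis_affineOpens.exists_subset_of_mem_open
    (Set.mem_univ ((Curv2.bcFst k X K).base y)) isOpen_univ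
  obtain ⟨φ, hφ⟩ : ∃ φ, Spec.map φ = hW.fromSpec ≫ (X ↘ Spec (CommRingCat.of k)) :=
    ⟨_, Spec.map_preimage _⟩
  let A : Type u := Γ(X, W)
  letI alg : Algebra k A := φ.hom.toAlgebra
  let pA := Spec.map (CommRingCat.ofHom (algebraMap k A))
  let pK := Spec.map (CommRingCat.ofHom (algebraMap k K))
  let sX := X ↘ Spec (CommRingCat.of k)
  let m : pullback pA pK ⟶ pullback sX pK :=
    pullback.map pA pK sX pK hW.fromSpec (𝟙 _) (𝟙 _) (by rw [Category.comp_id]; exact hφ) (by simp)
  haveI : IsOpenImmersion m := inferInstance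
  let j : Spec (CommRingCat.of (A ⊗[k] K)) ⟶ Curv2.bc k X K := (pullbackSpecIso k A K).inv ≫ m
  haveI : IsOpenImmersion j := inferInstance
  have hj : y ∈ Set.range j.base := by
    have hr : y ∈ Set.range m.base := by
      change y ∈ Set.range m
      rw [Scheme.Pullback.range_map]
      refine ⟨?_, ⟨_, rfl⟩⟩
      change (Curv2.bcFst k X K).base y ∈ Set.range hW.fromSpec
      rw [hW.range_fromSpec]; exact hyW
    obtain ⟨z, hz⟩ := hr
    obtain ⟨z', hz'⟩ := (pullbackSpecIso k A K).inv.homeomorph.surjective z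
    refine ⟨z', ?_⟩
    show m.base ((pullbackSpecIso k A K).inv.base z') = y
    rw [← hz]; exact congrArg _ hz'
  obtain ⟨z, hz⟩ := hj
  have hzV : z ∈ j.base ⁻¹' V := by show j.base z ∈ V; rw [hz]; exact hy
  obtain ⟨_, ⟨f, rfl⟩, hzf, hfV⟩ := PrimeSpectrum.isTopologicalBasis_basic_opens.exists_subset_of_mem_open
    hzV (hV.preimage j.continuous)
  obtain ⟨E, hE, hE'⟩ := exists_fin_fix k K A f
  let U0 : Set ↥(Spec (CommRingCat.of (A ⊗[k] K))) := ((PrimeSpectrum.basicOpen f : TopologicalSpace.Opens (PrimeSpectrum (A ⊗[k] K))) : Set (PrimeSpectrum (A ⊗[k] K)))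
  refine ⟨j.base '' U0, j.isOpenEmbedding.isOpenMap _ (PrimeSpectrum.basicOpen f).2, ⟨z, hzf, hz⟩, by rintro _ ⟨w, hw, rfl⟩; exact hfV hw, E, hE, ?_⟩
  intro σ hσ
  let τ := Algebra.TensorProduct.map (AlgHom.id k A) (σ : K →ₐ[k] K)
  have jf : j ≫ pullback.fst sX pK =
      Spec.map (CommRingCat.ofHom Algebra.TensorProduct.includeLeftRingHom) ≫ hW.fromSpec := by
    show ((pullbackSpecIso k A K).inv ≫ m) ≫ pullback.fst sX pK = _
    rw [Category.assoc, show m ≫ pullback.fst sX pK = pullback.fst pA pK ≫ hW.fromSpec from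
      pullback.lift_fst _ _ _, pullbackSpecIso_inv_fst_assoc]
  have js : j ≫ pullback.snd sX pK =
      Spec.map (CommRingCat.ofHom
        (AlgHom.toRingHom (Algebra.TensorProduct.includeRight : K →ₐ[k] A ⊗[k] K))) := by
    show ((pullbackSpecIso k A K).inv ≫ m) ≫ pullback.snd sX pK = _
    rw [Category.assoc, show m ≫ pullback.snd sX pK = pullback.snd pA pK ≫ 𝟙 _ from
      pullback.lift_snd _ _ _, Category.comp_id]
    exact pullbackSpecIso_inv_snd k A K
  have key : j ≫ Curv2.galAct k X K σ = Spec.map (CommRingCat.ofHom τ.toRingHom) ≫ j := by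
    refine pullback.hom_ext ?_ ?_
    · refine (Category.assoc _ _ _).trans ?_
      rw [show Curv2.galAct k X K σ ≫ pullback.fst sX pK = pullback.fst sX pK ≫ 𝟙 X from
        pullback.lift_fst _ _ _, Category.comp_id]
      refine Eq.trans ?_ (Category.assoc _ _ _).symm
      erw [jf]
      rw [← Spec.map_comp_assoc, ← CommRingCat.ofHom_comp]
      congr 3
      ext a
      simp [τ]
      rfl
    · refine (Category.assoc _ _ _).trans ?_
      rw [show Curv2.galAct k X K σ ≫ pullback.snd sX pK =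
          pullback.snd sX pK ≫ Spec.map (CommRingCat.ofHom (σ : K →ₐ[k] K).toRingHom) from
        pullback.lift_snd _ _ _]
      refine Eq.trans ?_ (Category.assoc _ _ _).symm
      erw [js, ← Category.assoc, js]
      rw [← Spec.map_comp, ← Spec.map_comp, ← CommRingCat.ofHom_comp, ← CommRingCat.ofHom_comp]
      congr 2
  rintro _ ⟨_, ⟨w, hw, rfl⟩, rfl⟩
  refine ⟨(Spec.map (CommRingCat.ofHom τ.toRingHom)).base w, ?_, ?_⟩
  · change τ f ∉ w.asIdeal
    rw [hE' σ hσ]; exact hw
  · rw [← Scheme.Hom.comp_apply, ← key, Scheme.Hom.comp_apply]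

theorem galAct_inv (k : Type u) [Field k] (K : Type u) [Field K] [Algebra k K]
    (X : Scheme.{u}) [X.Over (Spec (CommRingCat.of k))] (σ : K ≃ₐ[k] K) :
    Curv2.galAct k X K σ⁻¹ ≫ Curv2.galAct k X K σ = 𝟙 _ := by
  refine pullback.hom_ext ?_ ?_
  · dsimp only [Curv2.galAct, Curv2.bc]
    erw [Category.assoc, pullback.lift_fst, pullback.lift_fst_assoc, Category.id_comp]
    simp
  · simp only [Curv2.galAct, Category.assoc, pullback.lift_snd, pullback.lift_snd_assoc,
      Category.id_comp]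
    rw [← Spec.map_comp, ← CommRingCat.ofHom_comp]
    conv_rhs => rw [← Category.comp_id (pullback.snd _ _), ← Spec.map_id]
    congr 2
    ext a
    exact σ.symm_apply_apply a


/-- Let K be a (possibly infinite) Galois extension of a field k, X a scheme over k and V a
quasi-compact open subset of X_K. Then there is a subextension k'/k of K, finite over k, such that
every k-automorphism of K fixing k' pointwise maps V onto itself under its action on X_K (an open
subgroup of the Galois group stabilises V). -/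
theorem result (k : Type u) [Field k] (K : Type u) [Field K] [Algebra k K] [IsGalois k K]
    (X : Scheme.{u}) [X.Over (Spec (CommRingCat.of k))] (V : Set ↥(Curv2.bc k X K)) (hV : IsOpen V) (hVc : IsCompact V) :
    ∃ E : IntermediateField k K, FiniteDimensional k ↥E ∧
      ∀ σ : K ≃ₐ[k] K, (∀ a : K, a ∈ E → σ a = a) → (Curv2.galAct k X K σ).base '' V = V := by
  choose U hUo hUm hUV E hE hE' using exists_nbhd k K X V hV
  obtain ⟨t, ht⟩ := hVc.elim_finite_subcover (fun y : V => U y.1 y.2) (fun y => hUo _ _)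
    fun y hy => Set.mem_iUnion.2 ⟨⟨y, hy⟩, hUm y hy⟩
  haveI : ∀ y : V, FiniteDimensional k ↥(E y.1 y.2) := fun y => hE _ _
  refine ⟨⨆ y ∈ t, E y.1 y.2, IntermediateField.finiteDimensional_iSup_of_finset
    (t := fun y : V => E y.1 y.2), ?_⟩
  have hsub : ∀ σ : K ≃ₐ[k] K, (∀ a : K, a ∈ (⨆ y ∈ t, E y.1 y.2) → σ a = a) →
      (Curv2.galAct k X K σ).base '' V ⊆ V := by
    rintro σ hσ _ ⟨y, hy, rfl⟩
    obtain ⟨i, hit, hyi⟩ := Set.mem_iUnion₂.1 (ht hy)
    refine hUV _ _ (hE' i.1 i.2 σ (fun a ha => hσ a ?_) ⟨y, hyi, rfl⟩)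
    exact (le_iSup₂ (f := fun (y : V) (_ : y ∈ t) => E y.1 y.2) i hit) ha
  intro σ hσ
  refine Set.Subset.antisymm (hsub σ hσ) fun y hy => ?_
  have hσ' : ∀ a : K, a ∈ (⨆ y ∈ t, E y.1 y.2) → σ⁻¹ a = a := fun a ha => by
    apply σ.injective
    rw [hσ a ha]
    exact σ.apply_symm_apply a
  refine ⟨(Curv2.galAct k X K σ⁻¹).base y, hsub _ hσ' ⟨y, hy, rfl⟩, ?_⟩
  rw [← Scheme.Hom.comp_apply, galAct_inv]
  rfl

end Groth.Agent.S7621
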