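import Groth.Statements.S7625
import Mathlib
import Groth.Agent.FibDimLib.QFScheme

set_option autoImplicit false
universe u
open CategoryTheory CategoryTheory.Limits AlgebraicGeometry
open Variety

namespace Groth.Agent.S7625

/-- Let f : X → S be locally of finite type, x a point of X with image s, V an affine open neighbourhood
of s in S, and suppose dim_x(X_s) = d. Then there is an affine open neighbourhood U of x with f(U) ⊆
V and a factorisation of f|_U as U → 𝔸^d_V → V with U → 𝔸^d_V locally quasi-finite and locally of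
finite type (hence quasi-finite, U being affine). -/
theorem result {X S : Scheme.{u}} (f : X ⟶ S) [LocallyOfFiniteType f] (x : ↥X)
    (V : S.Opens) (hV : IsAffineOpen V) (hxV : f x ∈ V) (d : ℕ) (hd : FlatMor.fibreDimAt f x = d) :
    ∃ (U : X.Opens), IsAffineOpen U ∧ x ∈ U ∧
      ∃ (g : (U : Scheme.{u}) ⟶ (V : Scheme.{u})) (π : (U : Scheme.{u}) ⟶ 𝔸(ULift.{u} (Fin d); (V : Scheme.{u}))),
        g ≫ V.ι = U.ι ≫ f ∧ π ≫ (𝔸(ULift.{u} (Fin d); (V : Scheme.{u})) ↘ (V : Scheme.{u})) = g ∧
          LocallyQuasiFinite π ∧ LocallyOfFiniteType π := by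
  obtain ⟨U, hU, hxU, e, φ, hφ, hft, hqf⟩ := FibDimLib.exists_qf_affine_nhd f x hV hxV d hd
  let n := ULift.{u} (Fin d)
  let R := Γ(S, V)
  let φ' : MvPolynomial n R →+* Γ(X, U) :=
    φ.comp (MvPolynomial.renameEquiv R Equiv.ulift).toRingEquiv.toRingHom
  have hφ' : φ'.comp MvPolynomial.C = (f.appLE V U e).hom := by
    rw [← hφ]; ext r; simp [φ']
  have hft' : φ'.FiniteType :=
    hft.comp (RingHom.FiniteType.of_surjective _ (MvPolynomial.renameEquiv R Equiv.ulift).surjective)
  have hqf' : φ'.QuasiFinite :=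
    hqf.comp (RingHom.QuasiFinite.of_finite
      (RingHom.Finite.of_surjective _ (MvPolynomial.renameEquiv R Equiv.ulift).surjective))
  have : IsIso (AffineSpace.map n hV.isoSpec.inv) :=
    (AffineSpace.isPullback_map hV.isoSpec.inv).isIso_fst_of_isIso
  let m : (U : Scheme.{u}) ⟶ Spec (CommRingCat.of (MvPolynomial n R)) :=
    hU.isoSpec.hom ≫ Spec.map (CommRingCat.ofHom φ')
  have : LocallyQuasiFinite (Spec.map (CommRingCat.ofHom φ')) :=
    HasRingHomProperty.Spec_iff.mpr hqf'
  have : LocallyOfFiniteType (Spec.map (CommRingCat.ofHom φ')) :=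
    HasRingHomProperty.Spec_iff.mpr hft'
  refine ⟨U, hU, hxU, hU.isoSpec.hom ≫ Spec.map (f.appLE V U e) ≫ hV.isoSpec.inv,
    m ≫ (AffineSpace.SpecIso n R).inv ≫ AffineSpace.map n hV.isoSpec.inv, ?_, ?_, ?_, ?_⟩
  · simp only [Category.assoc, IsAffineOpen.isoSpec_inv_ι, IsAffineOpen.SpecMap_appLE_fromSpec f hV hU e]
    rw [← IsAffineOpen.isoSpec_inv_ι hU, Category.assoc, Iso.hom_inv_id_assoc]
  · simp only [m, Category.assoc]
    rw [AffineSpace.map_over, AffineSpace.SpecIso_inv_over_assoc, ← Spec.map_comp_assoc,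
      ← CommRingCat.ofHom_comp, hφ', CommRingCat.ofHom_hom]
  · dsimp only [m]; infer_instance
  · dsimp only [m]; infer_instance

end Groth.Agent.S7625
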