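import Groth.Statements.S7626
import Groth.Agent.VASecLib.Main
import Mathlib.Algebra.Module.Submodule.Union
-- import your own Groth.Agent.* helpers here

set_option autoImplicit false
universe u
open CategoryTheory CategoryTheory.Limits AlgebraicGeometry
open Variety
open ChowLib RelProjLib AmpleLib VASecLib TopologicalSpace

namespace Groth.Agent.S7626
open CategoryTheory.Limits
section helpers


/-- kernel of `c ↦ Σ g (c j) * v j` -/
noncomputable def kerSub {k K : Type u} [Field k] [Field K] {m : ℕ} (g : k →+* K) (v : Fin m → K) :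
    Submodule k (Fin m → k) where
  carrier := {c | ∑ j, g (c j) * v j = 0}
  zero_mem' := by simp
  add_mem' := fun {a b} ha hb => by
    simp only [Set.mem_setOf_eq] at *
    simp [add_mul, Finset.sum_add_distrib, ha, hb]
  smul_mem' := fun t a ha => by
    simp only [Set.mem_setOf_eq] at *
    simp [mul_assoc, ← Finset.mul_sum, ha]

end helpers


/-- Let k be an infinite field, X a scheme of finite type over k, L a very ample invertible O_X-module
on X over k, n ≥ 0, x a k-rational point of X and x_1, …, x_n points of X with x_i ≠ x. Then there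
is a global section s of L which vanishes at x (x is not in the open where s generates L) but does
not vanish at any x_i. -/
theorem result (k : Type u) [Field k] (X : Scheme.{u}) [X.Over (Spec (CommRingCat.of k))] [Infinite k]
    [LocallyOfFiniteType (X ↘ (Spec (CommRingCat.of k)))] [QuasiCompact (X ↘ (Spec (CommRingCat.of k)))]
    (L : X.Modules) (hL : RelAmple.IsRelVeryAmplePn (X ↘ (Spec (CommRingCat.of k))) L)
    (x : ↥X) (hx : Function.Surjective (Curv2.resMap k X x)) (n : ℕ) (pts : Fin n → ↥X) (hne : ∀ i, pts i ≠ x) :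
    ∃ s : Coh.structureModule X ⟶ L, x ∉ CohB1.genLocus L s ∧ ∀ i, pts i ∈ CohB1.genLocus L s := by
  classical
  obtain ⟨m, i, hi, hiq, ⟨φ⟩⟩ := hL
  let q := X ↘ Spec (CommRingCat.of k)
  let S := Spec (CommRingCat.of k)
  let r := i ≫ toPZ m S
  let O1 := Twist.twist (gr.{u} m) ((1 : ℕ) : ℤ)
  let ψ : KFlatLib.pb r O1 ≅ L := ((Scheme.Modules.pullbackComp i (toPZ m S)).app _).symm ≪≫ φ.symm
  let glob : Fin (m + 1) → Γ(O1, ⊤) := fun a =>
    Twist.globalOf (gr.{u} m) ⟨MvPolynomial.X a, X_mem a⟩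
  let e : ∀ a, Γ(L, r ⁻¹ᵁ Dplus a) := fun a =>
    ψ.hom.app _ (KFlatLib.puSec r (res O1 (le_top : Dplus a ≤ ⊤) (glob a)))
  have he : ∀ a (y : X) (hy : y ∈ r ⁻¹ᵁ Dplus a), GenAt L (e a) hy := fun a y hy =>
    (TwistLib.genAt_app_iso ψ _ hy).mpr
      (TwistLib.GenAt.puSec r ((TwistLib.globalOf_genOn (gr.{u} m) (X_mem a)).genAt hy))
  let τ : Fin (m + 1) → Γ(L, ⊤) := fun j => ψ.hom.app ⊤ (KFlatLib.puSec r (glob j))
  have hτ : ∀ a j, res L (le_top : r ⁻¹ᵁ Dplus a ≤ ⊤) (τ j) = coord r a j le_rfl • e a := by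
    intro a j
    have hc := TwistLib.frac_smul_globalOf (gr.{u} m) (X_mem a) (X_mem j)
    have hfr : TwistLib.frac (gr.{u} m) (X_mem a) (X_mem j) = coordRing a j := rfl
    rw [hfr] at hc
    have h1 := congrArg (fun t => ψ.hom.app (r ⁻¹ᵁ Dplus a) (KFlatLib.puSec r t)) hc
    have e1 := congrArg (ψ.hom.app (r ⁻¹ᵁ Dplus a)) (TwistLib.puSec_smul r (AmpleThLib.cj a j)
      (res O1 (le_top : Dplus a ≤ ⊤) (glob a)))
    have h3 := (Scheme.Modules.Hom.app_smul ψ.hom _ _).symm.trans (e1.symm.trans h1)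
    rw [AmpleThLib.coord_eq r a j le_rfl]
    rw [Scheme.Hom.app_eq_appLE] at h3
    refine Eq.trans ?_ h3.symm
    exact ((congrArg (ψ.hom.app (r ⁻¹ᵁ Dplus a)) (TwistLib.puSec_res r le_top (glob j))).trans
      (NatTrans.naturality_apply ψ.hom.mapPresheaf (homOfLE (le_top : r ⁻¹ᵁ Dplus a ≤ ⊤)).op _)).symm
  have hcov : ∀ y : X, ∃ a, y ∈ r ⁻¹ᵁ Dplus a := fun y =>
    Opens.mem_iSup.mp (show y ∈ ⨆ a, r ⁻¹ᵁ Dplus a by
      rw [← Scheme.Hom.preimage_iSup, iSup_Dplus]; trivial)
  choose ch hch using hcov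
  let cst : k → Γ(X, ⊤) := Coh.toGlobal q
  let coef : (Fin (m + 1) → k) → ∀ a, Γ(X, r ⁻¹ᵁ Dplus a) := fun c a =>
    ∑ j, (X.presheaf.map (homOfLE (le_top : r ⁻¹ᵁ Dplus a ≤ ⊤)).op (cst (c j))) * coord r a j le_rfl
  let sec : (Fin (m + 1) → k) → Γ(L, ⊤) := fun c => ∑ j, cst (c j) • τ j
  have hsec : ∀ c a, res L (le_top : r ⁻¹ᵁ Dplus a ≤ ⊤) (sec c) = coef c a • e a := by
    intro c a
    rw [Finset.sum_smul]
    change L.presheaf.map _ (∑ j, cst (c j) • τ j) = _
    rw [map_sum]
    refine Finset.sum_congr rfl fun j _ => ?_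
    change res L (le_top : r ⁻¹ᵁ Dplus a ≤ ⊤) (cst (c j) • τ j) = _
    rw [res_smul, hτ a j, smul_smul]
  let v : ∀ (y : X) (a), y ∈ r ⁻¹ᵁ Dplus a → Fin (m + 1) → X.residueField y := fun y a hy j =>
    X.evaluation _ y hy (coord r a j le_rfl)
  have hv1 : ∀ y a hy, v y a hy a = 1 := fun y a hy => by simp [v, coord_self]
  have heval : ∀ c a (y : X) (hy : y ∈ r ⁻¹ᵁ Dplus a),
      X.evaluation _ y hy (coef c a) = ∑ j, Curv2.resMap k X y (c j) * v y a hy j := by
    intro c a y hy
    simp only [coef, map_sum, map_mul]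
    refine Finset.sum_congr rfl fun j _ => ?_
    congr 1
    rw [resMap_apply]
    simp only [Scheme.evaluation, Scheme.Γevaluation, CommRingCat.comp_apply,
      LocallyRingedSpace.evaluation, TopCat.Presheaf.germ_res_apply]
    rfl
  have hgen : ∀ c (y : X) a (hy : y ∈ r ⁻¹ᵁ Dplus a),
      GenAt L (sec c) (show y ∈ (⊤ : X.Opens) from trivial) ↔
        ∑ j, Curv2.resMap k X y (c j) * v y a hy j ≠ 0 := by
    intro c y a hy
    rw [← genAt_res (le_top : r ⁻¹ᵁ Dplus a ≤ ⊤) (sec c) hy, hsec c a,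
      genAt_smul_iff _ _ hy (he a y hy), ← heval c a y hy, Scheme.evaluation_ne_zero_iff_mem_basicOpen]
  have hloc : ∀ c, CohB1.genLocus L (QCohLib.unitHom L (sec c)) = ⨆ a, X.basicOpen (coef c a) := by
    intro c
    refine genLocus_eq (sec c) _ fun y => ?_
    rw [Opens.mem_iSup]
    constructor
    · intro h
      refine ⟨ch y, ?_⟩
      rw [← genAt_smul_iff _ _ (hch y) (he _ y (hch y)), ← hsec]
      exact (genAt_res _ _ _).mpr h
    · rintro ⟨a, ha⟩
      have hy : y ∈ r ⁻¹ᵁ Dplus a := Scheme.basicOpen_le _ _ ha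
      rw [← genAt_res (le_top : r ⁻¹ᵁ Dplus a ≤ ⊤) (sec c) hy, hsec c a,
        genAt_smul_iff _ _ hy (he a y hy)]
      exact ha
  let ker : X → Submodule k (Fin (m + 1) → k) := fun y =>
    kerSub (Curv2.resMap k X y) (v y (ch y) (hch y))
  have hker : ∀ c y, c ∈ ker y ↔ ¬ GenAt L (sec c) (show y ∈ (⊤ : X.Opens) from trivial) :=
    fun c y => by rw [hgen c y (ch y) (hch y), not_not]; rfl
  have key : ∀ y, ker x ≤ ker y → y = x := by
    intro y hxy
    let a := ch x
    have hxa : x ∈ r ⁻¹ᵁ Dplus a := hch x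
    choose u hu using fun j => hx (v x a hxa j)
    have hmem : ∀ j, (Pi.single j 1 - u j • Pi.single a 1 : Fin (m + 1) → k) ∈ ker x := by
      intro j
      change ∑ l, _ * _ = _
      simp [Pi.single_apply, apply_ite (Curv2.resMap k X x), sub_mul, Finset.sum_sub_distrib,
        ite_mul, hu, hv1 x a hxa, a]
    have hw : ∀ j, v y (ch y) (hch y) j = Curv2.resMap k X y (u j) * v y (ch y) (hch y) a := by
      intro j
      have h : ∑ l, _ * _ = (0 : X.residueField y) := hxy (hmem j)
      simp [Pi.single_apply, apply_ite (Curv2.resMap k X y), sub_mul, Finset.sum_sub_distrib,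
        ite_mul] at h
      exact sub_eq_zero.mp h
    have hwa : v y (ch y) (hch y) a ≠ 0 := fun h0 => by
      have := hw (ch y)
      rw [hv1, h0, mul_zero] at this
      exact one_ne_zero this
    have hya : y ∈ r ⁻¹ᵁ Dplus a := by
      have h := (Scheme.evaluation_ne_zero_iff_mem_basicOpen ..).mp hwa
      rw [basicOpen_coord] at h
      exact h.2
    have hv : ∀ j, v y a hya j = Curv2.resMap k X y (u j) := by
      intro j
      have hyI : y ∈ r ⁻¹ᵁ Dplus (ch y) ⊓ r ⁻¹ᵁ Dplus a := ⟨hch y, hya⟩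
      have h := congrArg (X.evaluation _ y hyI) (coord_change r (ch y) a j inf_le_left inf_le_right)
      rw [map_mul, ← coord_res r (ch y) j le_rfl inf_le_left, ← coord_res r a j le_rfl inf_le_right,
        ← coord_res r (ch y) a le_rfl inf_le_left] at h
      have hev : ∀ {W : X.Opens} (hW : r ⁻¹ᵁ Dplus (ch y) ⊓ r ⁻¹ᵁ Dplus a ≤ W) (t : Γ(X, W)),
          X.evaluation _ y hyI (X.presheaf.map (homOfLE hW).op t) = X.evaluation W y (hW hyI) t := by
        intro W hW t
        rw [← Scheme.germ_residue, ← Scheme.germ_residue, CommRingCat.comp_apply,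
          CommRingCat.comp_apply, TopCat.Presheaf.germ_res_apply]
      rw [hev, hev, hev] at h
      change v y (ch y) (hch y) j = v y a hya j * v y (ch y) (hch y) a at h
      rw [hw j] at h
      exact (mul_right_cancel₀ hwa h).symm
    let ρ := RingEquiv.ofBijective (Curv2.resMap k X x) ⟨(Curv2.resMap k X x).injective, hx⟩
    let g : X.residueField x ⟶ X.residueField y :=
      CommRingCat.ofHom ((Curv2.resMap k X y).comp ρ.symm.toRingHom)
    have hg : ∀ t, g (Curv2.resMap k X x t) = Curv2.resMap k X y t := fun t => by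
      change Curv2.resMap k X y (ρ.symm (ρ t)) = _
      rw [ρ.symm_apply_apply]
    have hpx : ⊤ ≤ (Spec.map g ≫ X.fromSpecResidueField x) ⁻¹ᵁ (r ⁻¹ᵁ Dplus a) := fun z _ =>
      le_preimage_point x _ hxa (Set.mem_univ _)
    have he1 : X.fromSpecResidueField y ≫ r = (Spec.map g ≫ X.fromSpecResidueField x) ≫ r := by
      refine comp_eq_of_evF _ _ r a (le_preimage_point y _ hya) hpx fun j => ?_
      rw [evF_point, evF_comp _ g _ (le_preimage_point x _ hxa), evF_point]
      change v y a hya j = g (v x a hxa j)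
      rw [hv j, ← hu j, hg]
    have he2 : X.fromSpecResidueField y ≫ q = (Spec.map g ≫ X.fromSpecResidueField x) ≫ q := by
      rw [Category.assoc, point_comp_over, point_comp_over, ← Spec.map_comp]
      congr 1
      ext t
      exact (hg t).symm
    have he3 : X.fromSpecResidueField y ≫ i = (Spec.map g ≫ X.fromSpecResidueField x) ≫ i := by
      apply po_ext
      · simpa only [Category.assoc] using he1
      · rw [Category.assoc, Category.assoc]
        erw [hiq]
        exact he2.trans (by rfl)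
    have := hi
    have he4 := (cancel_mono i).mp he3
    obtain ⟨z⟩ : Nonempty ↥(Spec (X.residueField y)) := inferInstance
    have h5 := congr(($he4) z)
    rwa [Scheme.Hom.comp_apply, Scheme.fromSpecResidueField_apply,
      Scheme.fromSpecResidueField_apply] at h5
  obtain ⟨⟨c, hcx⟩, hc⟩ := Submodule.exists_forall_notMem_of_forall_ne_top
    (fun l : Fin n => (ker (pts l)).comap (ker x).subtype) (fun l h => hne l (key _ (by
      rwa [Submodule.comap_subtype_eq_top] at h)))
  refine ⟨QCohLib.unitHom L (sec c), ?_, fun l => ?_⟩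
  · rw [hloc]
    intro h
    rw [Opens.mem_iSup] at h
    obtain ⟨a, ha⟩ := h
    refine (hker c x).mp hcx ?_
    have hy : x ∈ r ⁻¹ᵁ Dplus a := Scheme.basicOpen_le _ _ ha
    rw [← genAt_res (le_top : r ⁻¹ᵁ Dplus a ≤ ⊤) (sec c) hy, hsec c a,
      genAt_smul_iff _ _ hy (he a x hy)]
    exact ha
  · have h := hc l
    simp only [Submodule.mem_comap, Submodule.coe_subtype, hker, not_not] at h
    rw [hloc, Opens.mem_iSup]
    refine ⟨ch (pts l), ?_⟩
    rw [← genAt_smul_iff _ _ (hch _) (he _ _ (hch _)), ← hsec]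
    exact (genAt_res _ _ _).mpr h


end Groth.Agent.S7626
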