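import Groth.Statements.S7627
import Groth.Agent.DeltaBaseLib.Main
import Groth.Agent.CatLib.Flat

set_option autoImplicit false
universe u
open CategoryTheory CategoryTheory.Limits AlgebraicGeometry
attribute [local instance] Curv2.resAlgebra
open scoped TensorProduct
open Variety

namespace Groth.Agent.S7627

/-- Let X be locally of finite type over a field k, K an extension field of k, y a point of X_K with
image x in X. Assume dim O_{X, x} = dim O_{X_K, y} and that κ(x) ⊗_k K is reduced (for instance
κ(x)/k separable or K/k separable). Then m_x O_{X_K, y} = m_y. -/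
theorem result (k : Type u) [Field k] (X : Scheme.{u}) [X.Over (Spec (CommRingCat.of k))] [LocallyOfFiniteType (X ↘ (Spec (CommRingCat.of k)))]
    (K : Type u) [Field K] [Algebra k K] (y : ↥(Curv2.bc k X K))
    (hdim : ringKrullDim ↥(X.presheaf.stalk (Curv2.bcFst k X K y)) = ringKrullDim ↥((Curv2.bc k X K).presheaf.stalk y))
    (hred : _root_.IsReduced (X.residueField (Curv2.bcFst k X K y) ⊗[k] K)) :
    Ideal.map ((Curv2.bcFst k X K).stalkMap y).hom (IsLocalRing.maximalIdeal ↥(X.presheaf.stalk (Curv2.bcFst k X K y))) =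
      IsLocalRing.maximalIdeal ↥((Curv2.bc k X K).presheaf.stalk y) := by
  haveI : IsLocallyNoetherian X := LocallyOfFiniteType.isLocallyNoetherian (X ↘ (Spec (CommRingCat.of k)))
  haveI : LocallyOfFiniteType (Curv2.bcSnd k X K) :=
    MorphismProperty.of_isPullback (IsPullback.of_hasPullback (X ↘ Spec (CommRingCat.of k)) (Spec.map (CommRingCat.ofHom (algebraMap k K)))) inferInstance
  haveI : IsLocallyNoetherian (Curv2.bc k X K) := LocallyOfFiniteType.isLocallyNoetherian (Curv2.bcSnd k X K)
  haveI : Flat (Curv2.bcFst k X K) := DeltaBaseLib.flat_bcFst (k := k) (X := X) (K := K)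
  let x := Curv2.bcFst k X K y
  letI := Curv2.stalkAlgebra k X x
  let A := X.presheaf.stalk x
  let B := (Curv2.bc k X K).presheaf.stalk y
  letI : Algebra A B := ((Curv2.bcFst k X K).stalkMap y).hom.toAlgebra
  haveI : Module.Flat A B := Flat.stalkMap (Curv2.bcFst k X K) y
  haveI : IsLocalHom (algebraMap A B) := inferInstanceAs (IsLocalHom ((Curv2.bcFst k X K).stalkMap y).hom)
  let I : Ideal B := (IsLocalRing.maximalIdeal A).map (algebraMap A B)
  have hIm : I ≤ IsLocalRing.maximalIdeal B :=
    ((IsLocalRing.local_hom_TFAE (algebraMap A B)).out 0 2).1 ‹_›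
  haveI : Nontrivial (B ⧸ I) := Ideal.Quotient.nontrivial_iff.2 (ne_top_of_le_ne_top (IsLocalRing.maximalIdeal.isMaximal B).ne_top hIm)
  haveI : IsLocalRing (B ⧸ I) := IsLocalRing.of_surjective' _ Ideal.Quotient.mk_surjective
  -- the closed fibre is zero-dimensional
  have hd : ringKrullDim (B ⧸ I) = 0 := by
    have h := CatLib.ringKrullDim_eq_add_of_flat (A := A) (B := B)
    rw [← hdim] at h
    obtain ⟨a, ha⟩ := WithBot.ne_bot_iff_exists.1 (ringKrullDim_ne_bot (R := A))
    obtain ⟨b, hb⟩ := WithBot.ne_bot_iff_exists.1 (ringKrullDim_ne_bot (R := B ⧸ I))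
    have ha' : a ≠ ⊤ := fun e => by
      have := ringKrullDim_lt_top (R := A)
      rw [← ha, e] at this
      exact lt_irrefl _ this
    rw [← ha, show ringKrullDim (B ⧸ I) = (b : WithBot ℕ∞) from hb.symm, ← WithBot.coe_add, WithBot.coe_inj] at h
    obtain ⟨a', rfl⟩ := ENat.ne_top_iff_exists.1 ha'
    have : b = 0 := (ENat.add_right_injective_of_ne_top (ENat.natCast_ne_top a') (show (a' : ℕ∞) + b = a' + 0 by rw [add_zero]; exact h.symm))
    rw [← hb, this]
    rfl
  -- and reduced, being a localisation of `κ(x) ⊗ K`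
  haveI : _root_.IsReduced (B ⧸ I) := by
    obtain ⟨P, hP, -, E, hE⟩ := DeltaBaseLib.exists_model k K y
    haveI := hP
    let T := A ⊗[k] K
    let J : Ideal T := (IsLocalRing.maximalIdeal A).map (algebraMap A T)
    let L := Localization.AtPrime P
    haveI : _root_.IsReduced (T ⧸ J) := by
      haveI : _root_.IsReduced ((A ⧸ IsLocalRing.maximalIdeal A) ⊗[k] K) := hred
      let f : T →ₐ[k] (A ⧸ IsLocalRing.maximalIdeal A) ⊗[k] K :=
        Algebra.TensorProduct.map (Ideal.Quotient.mkₐ k _) (AlgHom.id k K)
      have hker : RingHom.ker f = J := by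
        rw [Algebra.TensorProduct.rTensor_ker _ (Ideal.Quotient.mkₐ_surjective k _)]
        rw [show RingHom.ker (Ideal.Quotient.mkₐ k (IsLocalRing.maximalIdeal A)) = IsLocalRing.maximalIdeal A from
          Ideal.mk_ker]
        rfl
      exact isReduced_of_injective ((RingHom.kerLift f.toRingHom).comp (Ideal.quotEquivOfEq hker.symm).toRingHom)
        ((RingHom.kerLift_injective f.toRingHom).comp (Ideal.quotEquivOfEq hker.symm).injective)
    haveI : _root_.IsReduced (L ⧸ J.map (algebraMap T L)) :=
      isReduced_localizationPreserves (Algebra.algebraMapSubmonoid (T ⧸ J) P.primeCompl) (L ⧸ J.map (algebraMap T L)) inferInstance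
    have hmap : J.map (algebraMap T L) = I.map E.toRingHom := by
      simp only [I, J, Ideal.map_map]
      congr 1
      ext a
      exact (hE a).symm.trans rfl
    exact isReduced_of_injective (Ideal.quotientEquiv I (J.map (algebraMap T L)) E hmap) (RingEquiv.injective _)
  haveI : Ring.KrullDimLE 0 (B ⧸ I) := Ring.krullDimLE_iff.2 hd.le
  have hf : IsField (B ⧸ I) := Ring.KrullDimLE.isField_of_isReduced
  exact ((IsLocalRing.eq_maximalIdeal ((Ideal.Quotient.maximal_ideal_iff_isField_quotient I).2 hf)))

end Groth.Agent.S7627
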