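import Groth.Statements.S7628
import Groth.Agent.RichLib.LimTop
import Groth.Agent.ConsLib.FGSystem

set_option autoImplicit false
set_option backward.isDefEq.respectTransparency false
set_option backward.isDefEq.respectTransparency.types false
set_option maxHeartbeats 1000000
universe u
open CategoryTheory CategoryTheory.Limits AlgebraicGeometry
open Variety

namespace Groth.Agent.S7628


section Helpers

open CategoryTheory.Limits Opposite RichLib.LimBC

theorem descend {k : Type u} [CommRing k] {X : Scheme.{u}} (f : X ⟶ Spec (CommRingCat.of k)) (A : Type u) [CommRing A]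
    [Algebra k A] (V : Set ↥(pullback f (Spec.map (CommRingCat.ofHom (algebraMap k A))))) (hV : IsOpen V)
    (hVc : IsCompact V) :
    ∃ (A' : Subalgebra k A), A'.FG ∧
      ∃ (V' : Set ↥(pullback f (Spec.map (CommRingCat.ofHom (algebraMap k ↥A'))))), IsOpen V' ∧ IsCompact V' ∧
        ∀ π : pullback f (Spec.map (CommRingCat.ofHom (algebraMap k A))) ⟶
            pullback f (Spec.map (CommRingCat.ofHom (algebraMap k ↥A'))),
          π ≫ pullback.fst _ _ = pullback.fst _ _ →
          π ≫ pullback.snd _ _ = pullback.snd _ _ ≫ Spec.map (CommRingCat.ofHom A'.val.toRingHom) →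
            π.base ⁻¹' V' = V := by
  let S := ConsLib.fgSys k A (Iso.refl (Spec (CommRingCat.of k)))
  let B := pb S f
  haveI : ∀ i j (b : i ⟶ j), IsAffineHom (B.D.map b) := fun _ _ b => B.affine_map b
  have hs : S.s = Spec.map (CommRingCat.ofHom (algebraMap k A)) := Category.comp_id _
  let e : B.c.pt ≅ pullback f (Spec.map (CommRingCat.ofHom (algebraMap k A))) := pullback.congrHom rfl hs
  let U : B.c.pt.Opens := e.hom ⁻¹ᵁ ⟨V, hV⟩
  have hU : IsCompact (U : Set B.c.pt) :=
    (e.hom.homeomorph.isCompact_preimage).2 hVc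
  obtain ⟨i, W, hW, hWU⟩ := exists_preimage_eq B.D B.c B.hc U hU
  have ht : S.t i = Spec.map (CommRingCat.ofHom (algebraMap k i.unop.1)) := Category.comp_id _
  let e' : B.D.obj i ≅ pullback f (Spec.map (CommRingCat.ofHom (algebraMap k i.unop.1))) := pullback.congrHom rfl ht
  refine ⟨i.unop.1, i.unop.2, ((e'.inv ⁻¹ᵁ W : Scheme.Opens _) : Set _), (e'.inv ⁻¹ᵁ W).2,
    (e'.inv.homeomorph.isCompact_preimage).2 hW, fun π h1 h2 => ?_⟩
  have hπ : e.hom ≫ π = pbπ S f i ≫ e'.hom := by
    apply pullback.hom_ext
    · rw [Category.assoc, h1, Category.assoc]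
      simp [e, e', B]
    · rw [Category.assoc, h2, Category.assoc]
      simp only [e, e', B, pullback.congrHom_hom, pullback.map, limit.lift_π, PullbackCone.mk_π_app,
        Category.comp_id, limit.lift_π_assoc, Category.assoc]
      rw [pbπ_snd]
      rfl
  ext z
  obtain ⟨w, rfl⟩ := e.hom.homeomorph.surjective z
  show e'.inv (π (e.hom w)) ∈ W ↔ e.hom w ∈ V
  have h3 : e'.inv (π (e.hom w)) = B.c.π.app i w := by
    show (e.hom ≫ π ≫ e'.inv) w = pbπ S f i w
    rw [← Category.assoc, hπ, Category.assoc, Iso.hom_inv_id, Category.comp_id]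
    rfl
  rw [h3]
  exact SetLike.ext_iff.1 hWU w

end Helpers

/-- Let X be a scheme over a field k, A a k-algebra and V ⊆ X_A = X ×_k Spec A a quasi-compact open
subset. Then there are a finitely generated k-subalgebra A' ⊆ A and a quasi-compact open subset V' ⊆
X_{A'} such that V is the inverse image of V' under the transition morphism X_A → X_{A'} (any
morphism compatible with the projections to X and with Spec A → Spec A'; it is unique). -/
theorem result (k : Type u) [Field k] (X : Scheme.{u}) [X.Over (Spec (CommRingCat.of k))] (A : Type u) [CommRing A] [Algebra k A]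
    (V : Set ↥(pullback (X ↘ (Spec (CommRingCat.of k))) (Spec.map (CommRingCat.ofHom (algebraMap k A))))) (hV : IsOpen V) (hVc : IsCompact V) :
    ∃ (A' : Subalgebra k A), A'.FG ∧
      ∃ (V' : Set ↥(pullback (X ↘ (Spec (CommRingCat.of k))) (Spec.map (CommRingCat.ofHom (algebraMap k ↥A'))))), IsOpen V' ∧ IsCompact V' ∧
        ∀ π : pullback (X ↘ (Spec (CommRingCat.of k))) (Spec.map (CommRingCat.ofHom (algebraMap k A))) ⟶
            pullback (X ↘ (Spec (CommRingCat.of k))) (Spec.map (CommRingCat.ofHom (algebraMap k ↥A'))),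
          π ≫ pullback.fst _ _ = pullback.fst _ _ →
          π ≫ pullback.snd _ _ = pullback.snd _ _ ≫ Spec.map (CommRingCat.ofHom A'.val.toRingHom) →
            π.base ⁻¹' V' = V := by
  exact descend _ A V hV hVc

end Groth.Agent.S7628
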