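import Groth.Statements.S7630
import Groth.Agent.AmpleExtLib.Main
import Groth.Agent.S4381
import Mathlib.AlgebraicGeometry.Morphisms.LocalFlatDescent

set_option autoImplicit false
universe u
open CategoryTheory CategoryTheory.Limits AlgebraicGeometry
open Variety

namespace Groth.Agent.S7630

/-- Let X be a scheme over a field k and K an extension field of k. If X_K → Spec K is quasi-projective
(of finite type and admitting a relatively ample invertible module), then so is X → Spec k. -/
theorem result (k : Type u) [Field k] (X : Scheme.{u}) [X.Over (Spec (CommRingCat.of k))] (K : Type u) [Field K] [Algebra k K]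
    (h : RelProj.IsQuasiProjective (Curv2.bcSnd k X K)) : RelProj.IsQuasiProjective (X ↘ (Spec (CommRingCat.of k))) := by
  obtain ⟨h1, h2, L', hL'⟩ := h
  let f := X ↘ Spec (CommRingCat.of k)
  let q := Spec.map (CommRingCat.ofHom (algebraMap k K))
  haveI := h2
  have hA : CohB1.IsAmple L' := (Groth.Agent.S4381.result (Curv2.bcSnd k X K) L').mp hL'
  obtain ⟨M, hM⟩ := AmpleExtLib.exists_isAmple_of_pullback f K hA
  haveI : CompactSpace X := hM.2.1
  obtain ⟨hq1, hq2⟩ := AmpleExtLib.specMap_flat_surjective (k := k) K
  have hq : (@Surjective ⊓ @Flat ⊓ @QuasiCompact : MorphismProperty Scheme.{u}) q :=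
    ⟨⟨hq2, hq1⟩, inferInstance⟩
  have hft : LocallyOfFiniteType f :=
    MorphismProperty.of_pullback_snd_of_descendsAlong (P := @LocallyOfFiniteType) (Q := @Surjective ⊓ @Flat ⊓ @QuasiCompact) (f := f) (g := q) hq h1
  haveI hqc : QuasiCompact f := inferInstance
  exact ⟨hft, hqc, M, (Groth.Agent.S4381.result f M).mpr hM⟩

end Groth.Agent.S7630
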