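import Groth.Statements.S7631
import Mathlib.AlgebraicGeometry.Morphisms.SchemeTheoreticallyDominant
import Mathlib.AlgebraicGeometry.IdealSheaf.Functorial
import Mathlib.AlgebraicGeometry.Morphisms.Flat

set_option autoImplicit false
universe u
open CategoryTheory CategoryTheory.Limits AlgebraicGeometry
open Variety

namespace Groth.Agent.S7631

section
open CategoryTheory CategoryTheory.Limits AlgebraicGeometry

theorem dominant_toImage {X Y : Scheme.{u}} (f : X ⟶ Y) [QuasiCompact f] :
    IsSchemeTheoreticallyDominant f.toImage := by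
  constructor
  refine Scheme.IdealSheafData.ext_of_iSup_eq_top
    (fun U : Y.affineOpens => (⟨f.imageι ⁻¹ᵁ U.1, U.2.preimage f.imageι⟩ : f.image.affineOpens)) ?_ fun U => ?_
  · rw [← Scheme.Hom.preimage_iSup, iSup_affineOpens_eq_top Y, Scheme.Hom.preimage_top]
  · rw [Scheme.Hom.ker_apply, Scheme.IdealSheafData.ideal_bot, Pi.bot_apply]
    exact (RingHom.injective_iff_ker_eq_bot _).1 (f.toImage_app_injective (U := U))

/-- the scheme-theoretic image of a product over a field -/
theorem ker_prod {k : Type u} [Field k] {X Y A B : Scheme.{u}} (x : X ⟶ Spec (CommRingCat.of k))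
    (y : Y ⟶ Spec (CommRingCat.of k)) (a : A ⟶ Spec (CommRingCat.of k)) (b : B ⟶ Spec (CommRingCat.of k))
    (f : A ⟶ X) [QuasiCompact f] (hf : f ≫ x = a) (g : B ⟶ Y) [QuasiCompact g] (hg : g ≫ y = b)
    (F : pullback a b ⟶ pullback x y) (h1 : F ≫ pullback.fst x y = pullback.fst a b ≫ f)
    (h2 : F ≫ pullback.snd x y = pullback.snd a b ≫ g) :
    F.ker = f.ker.comap (pullback.fst x y) ⊔ g.ker.comap (pullback.snd x y) := by
  refine le_antisymm ?_ ?_
  · let I := f.ker.comap (pullback.fst x y) ⊔ g.ker.comap (pullback.snd x y)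
    obtain ⟨z, hz⟩ : ∃ z, f.imageι ≫ x = z := ⟨_, rfl⟩
    obtain ⟨z', hz'⟩ : ∃ z', g.imageι ≫ y = z' := ⟨_, rfl⟩
    haveI : IsSchemeTheoreticallyDominant f.toImage := dominant_toImage f
    haveI : IsSchemeTheoreticallyDominant g.toImage := dominant_toImage g
    have hfa : f.toImage ≫ z = a := by rw [← hz, ← hf, ← Category.assoc, f.toImage_imageι]
    have hgb : g.toImage ≫ z' = b := by rw [← hz', ← hg, ← Category.assoc, g.toImage_imageι]
    haveI : Flat b := inferInstance
    let ab : pullback a b ⟶ pullback z z' :=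
      pullback.map a b z b f.toImage (𝟙 B) (𝟙 _) (by simp [hfa]) (by simp) ≫
        pullback.map z b z z' (𝟙 _) g.toImage (𝟙 _) (by simp) (by simp [hgb])
    let ι : pullback z z' ⟶ pullback x y :=
      pullback.map z z' x y f.imageι g.imageι (𝟙 _) (by simp [hz]) (by simp [hz'])
    have hF : F = ab ≫ ι := by
      refine pullback.hom_ext ?_ ?_
      · rw [h1]
        simp [ab, ι, pullback.map, pullback.lift_fst, pullback.lift_snd, pullback.lift_fst_assoc, pullback.lift_snd_assoc, f.toImage_imageι]
      · rw [h2]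
        simp [ab, ι, pullback.map, pullback.lift_fst, pullback.lift_snd, pullback.lift_fst_assoc, pullback.lift_snd_assoc, g.toImage_imageι]
    have hab : IsSchemeTheoreticallyDominant ab := by
      have s1 : IsPullback (pullback.map a b z b f.toImage (𝟙 B) (𝟙 _) (by simp [hfa]) (by simp))
          (pullback.fst a b) (pullback.fst z b) f.toImage := by
        refine IsPullback.of_right ?_ (by simp [pullback.map, pullback.lift_fst, pullback.lift_snd, pullback.lift_fst_assoc, pullback.lift_snd_assoc]) (IsPullback.of_hasPullback z b).flip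
        convert (IsPullback.of_hasPullback a b).flip using 1 <;> simp [pullback.map, pullback.lift_fst, pullback.lift_snd, pullback.lift_fst_assoc, pullback.lift_snd_assoc, hfa]
      have s2 : IsPullback (pullback.map z b z z' (𝟙 _) g.toImage (𝟙 _) (by simp) (by simp [hgb]))
          (pullback.snd z b) (pullback.snd z z') g.toImage := by
        refine IsPullback.of_right ?_ (by simp [pullback.map, pullback.lift_fst, pullback.lift_snd, pullback.lift_fst_assoc, pullback.lift_snd_assoc]) (IsPullback.of_hasPullback z z')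
        convert IsPullback.of_hasPullback z b using 1 <;> simp [pullback.map, pullback.lift_fst, pullback.lift_snd, pullback.lift_fst_assoc, pullback.lift_snd_assoc, hgb]
      haveI : IsSchemeTheoreticallyDominant (pullback.map a b z b f.toImage (𝟙 B) (𝟙 _) (by simp [hfa]) (by simp)) :=
        IsSchemeTheoreticallyDominant.of_isPullback s1.flip
      haveI : IsSchemeTheoreticallyDominant (pullback.map z b z z' (𝟙 _) g.toImage (𝟙 _) (by simp) (by simp [hgb])) :=
        IsSchemeTheoreticallyDominant.of_isPullback s2.flip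
      infer_instance
    have hker : F.ker = ι.ker := by
      rw [hF, Scheme.Hom.ker_comp, ab.ker_eq_bot, Scheme.IdealSheafData.map_bot]
    have e1 : f.imageι.ker ≤ (I.subschemeι ≫ pullback.fst x y).ker := by
      rw [Scheme.IdealSheafData.ker_subschemeι, Scheme.Hom.ker_comp, Scheme.IdealSheafData.ker_subschemeι,
        Scheme.IdealSheafData.le_map_iff_comap_le]
      exact le_sup_left
    have e2 : g.imageι.ker ≤ (I.subschemeι ≫ pullback.snd x y).ker := by
      rw [Scheme.IdealSheafData.ker_subschemeι, Scheme.Hom.ker_comp, Scheme.IdealSheafData.ker_subschemeι,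
        Scheme.IdealSheafData.le_map_iff_comap_le]
      exact le_sup_right
    let l : I.subscheme ⟶ pullback z z' := pullback.lift (IsClosedImmersion.lift f.imageι _ e1)
      (IsClosedImmersion.lift g.imageι _ e2) (by
        rw [← hz, ← hz']
        rw [← Category.assoc, IsClosedImmersion.lift_fac, ← Category.assoc, IsClosedImmersion.lift_fac, Category.assoc,
          Category.assoc, pullback.condition])
    have hl : l ≫ ι = I.subschemeι := by
      refine pullback.hom_ext ?_ ?_
      · simp [l, ι, pullback.map, pullback.lift_fst, pullback.lift_snd, pullback.lift_fst_assoc, pullback.lift_snd_assoc, IsClosedImmersion.lift_fac]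
      · simp [l, ι, pullback.map, pullback.lift_fst, pullback.lift_snd, pullback.lift_fst_assoc, pullback.lift_snd_assoc, IsClosedImmersion.lift_fac]
    rw [hker]
    calc ι.ker ≤ (l ≫ ι).ker := Scheme.Hom.le_ker_comp _ _
      _ = I := by rw [hl, Scheme.IdealSheafData.ker_subschemeι]
  · refine sup_le ?_ ?_
    · rw [← Scheme.IdealSheafData.le_map_iff_comap_le, ← Scheme.Hom.ker_comp, h1]
      exact Scheme.Hom.le_ker_comp _ _
    · rw [← Scheme.IdealSheafData.le_map_iff_comap_le, ← Scheme.Hom.ker_comp, h2]
      exact Scheme.Hom.le_ker_comp _ _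

end


/-- Let f : A → X and g : B → Y be quasi-compact morphisms of schemes over a field k and F = f × g : A
×_k B → X ×_k Y. Then the scheme-theoretic image of F is Z ×_k Z', where Z ⊆ X and Z' ⊆ Y are the
scheme-theoretic images of f and g: in terms of kernel ideal sheaves, ker F is the sum of the
pullback of ker f along the first projection and of ker g along the second. -/
theorem result (k : Type u) [Field k] (X : Scheme.{u}) [X.Over (Spec (CommRingCat.of k))] (Y : Scheme.{u}) [Y.Over (Spec (CommRingCat.of k))]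
    (A B : Scheme.{u}) [A.Over (Spec (CommRingCat.of k))] [B.Over (Spec (CommRingCat.of k))]
    (f : A ⟶ X) [f.IsOver (Spec (CommRingCat.of k))] [QuasiCompact f] (g : B ⟶ Y) [g.IsOver (Spec (CommRingCat.of k))] [QuasiCompact g]
    (F : pullback (A ↘ (Spec (CommRingCat.of k))) (B ↘ (Spec (CommRingCat.of k))) ⟶ pullback (X ↘ (Spec (CommRingCat.of k))) (Y ↘ (Spec (CommRingCat.of k))))
    (hF₁ : F ≫ pullback.fst (X ↘ (Spec (CommRingCat.of k))) (Y ↘ (Spec (CommRingCat.of k))) = pullback.fst (A ↘ (Spec (CommRingCat.of k))) (B ↘ (Spec (CommRingCat.of k))) ≫ f)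
    (hF₂ : F ≫ pullback.snd (X ↘ (Spec (CommRingCat.of k))) (Y ↘ (Spec (CommRingCat.of k))) = pullback.snd (A ↘ (Spec (CommRingCat.of k))) (B ↘ (Spec (CommRingCat.of k))) ≫ g) :
    F.ker = f.ker.comap (pullback.fst (X ↘ (Spec (CommRingCat.of k))) (Y ↘ (Spec (CommRingCat.of k)))) ⊔ g.ker.comap (pullback.snd (X ↘ (Spec (CommRingCat.of k))) (Y ↘ (Spec (CommRingCat.of k)))) := by
  exact ker_prod (X ↘ _) (Y ↘ _) (A ↘ _) (B ↘ _) f (comp_over f _) g (comp_over g _) F hF₁ hF₂

end Groth.Agent.S7631
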