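import Groth.Statements.S7632
import Groth.Agent.GeomRedFieldLib.Stratify
-- import your own Groth.Agent.* helpers here

set_option autoImplicit false
universe u
open CategoryTheory CategoryTheory.Limits AlgebraicGeometry
open Variety

namespace Groth.Agent.S7632

/-- Let X be a scheme of finite type over a field k. Then one can find a finite purely inseparable field
extension k'/k, some t ≥ 0, and a descending chain Z_0 ⊇ … ⊇ Z_t = ∅ of closed subschemes of X_{k'},
given by an increasing chain of quasi-coherent ideal sheaves I_0 ≤ … ≤ I_t = O on X_{k'}, such that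
Z_0 = (X_{k'})_red (I_0 is the ideal of nilpotents) and the open subscheme Z_i ∖ Z_{i+1} of Z_i is
smooth over k' for every i < t. -/
theorem result (k : Type u) [Field k] (X : Scheme.{u}) [X.Over (Spec (CommRingCat.of k))] [LocallyOfFiniteType (X ↘ (Spec (CommRingCat.of k)))] [QuasiCompact (X ↘ (Spec (CommRingCat.of k)))] :
    ∃ (k' : Type u) (_ : Field k') (_ : Algebra k k') (_ : FiniteDimensional k k') (_ : IsPurelyInseparable k k')
      (t : ℕ) (I : Fin (t + 1) → (Curv2.bc k X k').IdealSheafData),
      Monotone I ∧ I 0 = Scheme.IdealSheafData.vanishingIdeal ⊤ ∧ I (Fin.last t) = ⊤ ∧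
        ∀ i : Fin t,
          Smooth (((I i.castSucc).subschemeι ⁻¹ᵁ (I i.succ).support.compl).ι ≫ (I i.castSucc).subschemeι ≫ Curv2.bcSnd k X k') := by
  let f := X ↘ Spec (CommRingCat.of k)
  obtain ⟨k', i1, i2, h1, h2, t, C, hC0, hCt, hanti, hC⟩ := GeomRedFieldLib.exists_stratification f (⊤ : TopologicalSpace.Closeds X)
  refine ⟨k', i1, i2, h1, h2, t, fun n ↦ Scheme.IdealSheafData.vanishingIdeal (GeomRedFieldLib.preC f k' (C n)),
    fun a b hab ↦ Scheme.IdealSheafData.vanishingIdeal_antimono fun x hx ↦ hanti (Fin.le_def.mp hab) hx, ?_, ?_, fun i ↦ ?_⟩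
  · show Scheme.IdealSheafData.vanishingIdeal (GeomRedFieldLib.preC f k' (C 0)) = _
    rw [hC0]
    exact congrArg _ (TopologicalSpace.Closeds.ext (Set.preimage_univ (f := Limits.pullback.fst f (GeomRedFieldLib.str k k'))))
  · show Scheme.IdealSheafData.vanishingIdeal (GeomRedFieldLib.preC f k' (C t)) = _
    rw [hCt, ← Scheme.IdealSheafData.vanishingIdeal_bot]
    exact congrArg _ (TopologicalSpace.Closeds.ext (Set.preimage_empty (f := Limits.pullback.fst f (GeomRedFieldLib.str k k'))))
  · show Smooth (((Scheme.IdealSheafData.vanishingIdeal (GeomRedFieldLib.preC f k' (C i))).subschemeι ⁻¹ᵁ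
      (Scheme.IdealSheafData.vanishingIdeal (GeomRedFieldLib.preC f k' (C (i + 1)))).support.compl).ι ≫
      (Scheme.IdealSheafData.vanishingIdeal (GeomRedFieldLib.preC f k' (C i))).subschemeι ≫
      Limits.pullback.snd f (GeomRedFieldLib.str k k'))
    rw [show (Scheme.IdealSheafData.vanishingIdeal (GeomRedFieldLib.preC f k' (C (i + 1)))).support =
      GeomRedFieldLib.preC f k' (C (i + 1)) from TopologicalSpace.Closeds.ext (Scheme.IdealSheafData.coe_support_vanishingIdeal _)]
    exact hC k' (AlgHom.id k k') i i.2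

end Groth.Agent.S7632
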