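import Groth.Statements.S7633
import Groth.Agent.ComplBCLib.Alg
import Groth.Agent.ComplBCLib.Model
import Groth.Agent.S7627
-- import your own Groth.Agent.* helpers here

set_option autoImplicit false
universe u
open CategoryTheory CategoryTheory.Limits AlgebraicGeometry
attribute [local instance] Curv2.stalkAlgebra Curv2.resAlgebra
open Variety

namespace Groth.Agent.S7633

/-- Let X be locally of finite type over a field k, K an extension field of k, y a point of X_K with
image x in X; assume dim O_{X, x} = dim O_{X_K, y} and that κ(x) is separable over k (Spec κ(x) →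
Spec k geometrically reduced). Let e : κ(x)[[x_1, …, x_n]]/(g_1, …, g_m) ≅ O_{X, x}^∧ be a k-algebra
isomorphism onto the completion inducing the identity on residue fields (for every a in O_{X, x}, e
applied to the constant with value the residue class of a is congruent to a modulo the extended
maximal ideal). Then, viewing the g_j over κ(y) through κ(x) → κ(y), there is a K-algebra
isomorphism κ(y)[[x_1, …, x_n]]/(g_1, …, g_m) ≅ O_{X_K, y}^∧ with the same residue property. -/
theorem result (k : Type u) [Field k] (X : Scheme.{u}) [X.Over (Spec (CommRingCat.of k))] [LocallyOfFiniteType (X ↘ (Spec (CommRingCat.of k)))]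
    (K : Type u) [Field K] [Algebra k K] (y : ↥(Curv2.bc k X K))
    (hdim : ringKrullDim ↥(X.presheaf.stalk (Curv2.bcFst k X K y)) = ringKrullDim ↥((Curv2.bc k X K).presheaf.stalk y))
    (hsep : GeometricallyReduced (Spec.map (CommRingCat.ofHom (Curv2.resMap k X (Curv2.bcFst k X K y)))))
    (n m : ℕ) (g : Fin m → MvPowerSeries (Fin n) ↥(X.residueField (Curv2.bcFst k X K y)))
    (e : (MvPowerSeries (Fin n) ↥(X.residueField (Curv2.bcFst k X K y)) ⧸ Ideal.span (Set.range g)) ≃ₐ[k]
      AdicCompletion (IsLocalRing.maximalIdeal ↥(X.presheaf.stalk (Curv2.bcFst k X K y))) ↥(X.presheaf.stalk (Curv2.bcFst k X K y)))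
    (he : ∀ a : ↥(X.presheaf.stalk (Curv2.bcFst k X K y)),
      e (Ideal.Quotient.mk _ (MvPowerSeries.C ((X.residue (Curv2.bcFst k X K y)).hom a))) -
          algebraMap ↥(X.presheaf.stalk (Curv2.bcFst k X K y)) (AdicCompletion (IsLocalRing.maximalIdeal ↥(X.presheaf.stalk (Curv2.bcFst k X K y))) ↥(X.presheaf.stalk (Curv2.bcFst k X K y))) a ∈
        (IsLocalRing.maximalIdeal ↥(X.presheaf.stalk (Curv2.bcFst k X K y))).map (algebraMap ↥(X.presheaf.stalk (Curv2.bcFst k X K y)) (AdicCompletion (IsLocalRing.maximalIdeal ↥(X.presheaf.stalk (Curv2.bcFst k X K y))) ↥(X.presheaf.stalk (Curv2.bcFst k X K y))))) :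
    letI : (Curv2.bc k X K).Over (Spec (CommRingCat.of K)) := ⟨Curv2.bcSnd k X K⟩
    ∃ e' : (MvPowerSeries (Fin n) ↥((Curv2.bc k X K).residueField y) ⧸ Ideal.span (Set.range (fun j =>
        MvPowerSeries.map (σ := Fin n) ((Curv2.bcFst k X K).residueFieldMap y).hom (g j)))) ≃ₐ[K]
          AdicCompletion (IsLocalRing.maximalIdeal ↥((Curv2.bc k X K).presheaf.stalk y)) ↥((Curv2.bc k X K).presheaf.stalk y),
      ∀ b : ↥((Curv2.bc k X K).presheaf.stalk y),
        e' (Ideal.Quotient.mk _ (MvPowerSeries.C (((Curv2.bc k X K).residue y).hom b))) -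
            algebraMap ↥((Curv2.bc k X K).presheaf.stalk y) (AdicCompletion (IsLocalRing.maximalIdeal ↥((Curv2.bc k X K).presheaf.stalk y)) ↥((Curv2.bc k X K).presheaf.stalk y)) b ∈
          (IsLocalRing.maximalIdeal ↥((Curv2.bc k X K).presheaf.stalk y)).map (algebraMap ↥((Curv2.bc k X K).presheaf.stalk y) (AdicCompletion (IsLocalRing.maximalIdeal ↥((Curv2.bc k X K).presheaf.stalk y)) ↥((Curv2.bc k X K).presheaf.stalk y))) := by
  letI : (Curv2.bc k X K).Over (Spec (CommRingCat.of K)) := ⟨Curv2.bcSnd k X K⟩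
  let x := Curv2.bcFst k X K y
  haveI : LocallyOfFiniteType (Curv2.bcSnd k X K) :=
    MorphismProperty.of_isPullback (IsPullback.of_hasPullback (X ↘ Spec (CommRingCat.of k)) (Spec.map (CommRingCat.ofHom (algebraMap k K)))) inferInstance
  haveI : IsLocallyNoetherian (Curv2.bc k X K) := LocallyOfFiniteType.isLocallyNoetherian (Curv2.bcSnd k X K)
  haveI : IsLocallyNoetherian X := LocallyOfFiniteType.isLocallyNoetherian (X ↘ (Spec (CommRingCat.of k)))
  haveI : IsNoetherianRing (X.presheaf.stalk x) := inferInstanceAs (IsNoetherianRing (X.presheaf.stalk x))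
  haveI : IsNoetherianRing ((Curv2.bc k X K).presheaf.stalk y) :=
    inferInstanceAs (IsNoetherianRing ((Curv2.bc k X K).presheaf.stalk y))
  haveI : IsLocalHom ((Curv2.bcFst k X K).stalkMap y).hom := inferInstance
  have hred : _root_.IsReduced (TensorProduct k (X.residueField x) K) :=
    DeltaBaseLib.isReduced_tensor_of_geomReduced (Curv2.resMap k X x) hsep K
  have hmax := Groth.Agent.S7627.result k X K y hdim hred
  obtain ⟨P, hP, E, hEA, hEK⟩ := ComplBCLib.exists_model k K y
  haveI := hP
  obtain ⟨e', h1, h2⟩ := ComplBCLib.exists_equiv ((Curv2.bcFst k X K).stalkMap y).hom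
    (Curv2.stalkMap K (Curv2.bc k X K) y) P E hEA hEK hmax n m g e.toRingEquiv (fun c => by
      refine Eq.trans ?_ ((e.commutes c).trans ?_)
      · show e _ = e _
        refine congrArg e ?_
        rw [← Ideal.Quotient.mk_comp_algebraMap (R₁ := k), RingHom.comp_apply, MvPowerSeries.algebraMap_apply]
        rfl
      · rw [AdicCompletion.algebraMap_apply, AdicCompletion.algebraMap_apply]
        rfl) he
  refine ⟨AlgEquiv.ofRingEquiv (f := e') (fun c => ?_), h2⟩
  refine Eq.trans ?_ ((h1 c).trans ?_)
  · refine congrArg e' ?_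
    rw [← Ideal.Quotient.mk_comp_algebraMap (R₁ := K), RingHom.comp_apply, MvPowerSeries.algebraMap_apply]
    rfl
  · rw [AdicCompletion.algebraMap_apply, AdicCompletion.algebraMap_apply]
    rfl
end Groth.Agent.S7633
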