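import Groth.Statements.S7634
import Mathlib


set_option autoImplicit false
set_option linter.all false
universe u
open CategoryTheory CategoryTheory.Limits AlgebraicGeometry
open scoped TensorProduct
open Variety

namespace Groth.Agent.S7634

open MvPolynomial

section
variable {A B : Type u} [CommRing A] [CommRing B] [Algebra A B] {n : ℕ}
  (π : MvPolynomial (Fin n) A →ₐ[A] B) (K : Type u) [Field K] [Algebra B K]
  [Algebra A K] [IsScalarTower A B K]

/-- differential of a polynomial in `K ^ n` -/
noncomputable def vec (p : MvPolynomial (Fin n) A) : Fin n → K :=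
  fun i => algebraMap B K (π (pderiv i p))

theorem vec_add (p q : MvPolynomial (Fin n) A) : vec π K (p + q) = vec π K p + vec π K q := by
  funext i; simp [vec]

theorem vec_sub (p q : MvPolynomial (Fin n) A) : vec π K (p - q) = vec π K p - vec π K q := by
  funext i; simp [vec]

theorem vec_mul (p q : MvPolynomial (Fin n) A) :
    vec π K (p * q) = algebraMap B K (π q) • vec π K p + algebraMap B K (π p) • vec π K q := by
  funext i; simp [vec, Algebra.smul_def]; ring

theorem vec_C (a : A) : vec π K (C a) = 0 := by
  funext i; simp [vec]

theorem vec_X (i : Fin n) : vec π K (X i) = Pi.single i 1 := by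
  classical
  funext j
  rcases eq_or_ne i j with rfl | h
  · simp [vec]
  · simp [vec, pderiv_X_of_ne h, Pi.single_eq_of_ne (Ne.symm h)]

/-- the presentation map of the differentials at `K` -/
noncomputable def L : (Fin n → K) →ₗ[K] K ⊗[B] Ω[B⁄A] :=
  Fintype.linearCombination K fun i => (1 : K) ⊗ₜ[B] KaehlerDifferential.D A B (π (X i))

theorem L_vec (p : MvPolynomial (Fin n) A) :
    L π K (vec π K p) = (1 : K) ⊗ₜ[B] KaehlerDifferential.D A B (π p) := by
  classical
  induction p using MvPolynomial.induction_on with
  | C a =>
    rw [vec_C, map_zero, show π (C a) = algebraMap A B a from π.commutes a,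
      Derivation.map_algebraMap, TensorProduct.tmul_zero]
  | add p q hp hq => rw [vec_add, map_add, hp, hq, map_add, map_add, TensorProduct.tmul_add]
  | mul_X p i hp =>
    rw [vec_mul, map_add, map_smul, map_smul, hp, vec_X, map_mul, Derivation.leibniz,
      TensorProduct.tmul_add, TensorProduct.tmul_smul, TensorProduct.tmul_smul, L,
      Fintype.linearCombination_apply_single, one_smul, algebraMap_smul, algebraMap_smul, add_comm]

theorem L_surjective (hπ : Function.Surjective π) : Function.Surjective (L π K) := by
  rw [← LinearMap.range_eq_top, eq_top_iff]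
  rintro x -
  induction x using TensorProduct.induction_on with
  | zero => exact zero_mem _
  | add a b ha hb => exact add_mem ha hb
  | tmul c ω =>
    have hω : ω ∈ Submodule.span B (Set.range (KaehlerDifferential.D A B)) := by
      rw [KaehlerDifferential.span_range_derivation]; trivial
    induction hω using Submodule.span_induction generalizing c with
    | mem y hy =>
      obtain ⟨b, rfl⟩ := hy
      obtain ⟨p, rfl⟩ := hπ b
      refine ⟨c • vec π K p, ?_⟩
      rw [map_smul, L_vec, TensorProduct.smul_tmul', smul_eq_mul, mul_one]
    | zero => rw [TensorProduct.tmul_zero]; exact zero_mem _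
    | add a b _ _ ha hb => rw [TensorProduct.tmul_add]; exact add_mem (ha c) (hb c)
    | smul r y _ hy =>
      rw [← TensorProduct.smul_tmul]
      exact hy _

theorem ker_L (hπ : Function.Surjective π) :
    LinearMap.ker (L π K) = Submodule.span K (vec π K '' (RingHom.ker π : Set (MvPolynomial (Fin n) A))) := by
  classical
  apply le_antisymm
  · intro x hx
    by_contra hxV
    obtain ⟨f, hf, hfV⟩ := Submodule.exists_dual_map_eq_bot_of_notMem hxV inferInstance
    apply hf
    have hf0 : ∀ p, π p = 0 → f (vec π K p) = 0 := fun p hp => by
      have : f (vec π K p) ∈ Submodule.map f (Submodule.span K (vec π K '' (RingHom.ker π : Set (MvPolynomial (Fin n) A)))) :=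
        Submodule.mem_map_of_mem (Submodule.subset_span ⟨p, hp, rfl⟩)
      rw [hfV] at this
      exact (Submodule.mem_bot _).1 this
    let s := Function.surjInv hπ
    have hs : ∀ b, π (s b) = b := Function.surjInv_eq hπ
    have hwd : ∀ p, f (vec π K (s (π p))) = f (vec π K p) := fun p => by
      rw [← sub_eq_zero, ← map_sub, ← vec_sub]
      exact hf0 _ (by rw [map_sub, hs, sub_self])
    let d : Derivation A B K :=
      Derivation.mk'
        { toFun := fun b => f (vec π K (s b))
          map_add' := fun a b => by
            rw [← hs a, ← hs b, ← map_add, hwd, hwd, hwd, vec_add, map_add]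
          map_smul' := fun r b => by
            rw [← hs b, ← map_smul, hwd, hwd, MvPolynomial.smul_eq_C_mul, vec_mul, vec_C, smul_zero,
              zero_add, map_smul, RingHom.id_apply,
              show π (C r) = algebraMap A B r from π.commutes r, algebraMap_smul, algebraMap_smul] }
        (fun a b => by
          show f (vec π K (s (a * b))) = a • f (vec π K (s b)) + b • f (vec π K (s a))
          conv_lhs => rw [← hs a, ← hs b, ← map_mul]
          rw [hwd, vec_mul, map_add, map_smul, map_smul, hs, hs, algebraMap_smul, algebraMap_smul,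
            add_comm])
    let ℓ : K ⊗[B] Ω[B⁄A] →ₗ[K] K := d.liftKaehlerDifferential.liftBaseChange K
    have hℓ : ℓ ∘ₗ L π K = f := by
      apply LinearMap.pi_ext'
      intro i
      apply LinearMap.ext_ring
      show ℓ (L π K (Pi.single i 1)) = f (Pi.single i 1)
      rw [← vec_X π K i, L_vec]
      show d.liftKaehlerDifferential.liftBaseChange K _ = _
      rw [LinearMap.liftBaseChange_tmul, one_smul, Derivation.liftKaehlerDifferential_comp_D]
      exact hwd (X i)
    rw [← hℓ, LinearMap.comp_apply, LinearMap.mem_ker.1 hx, map_zero]
  · rw [Submodule.span_le]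
    rintro _ ⟨p, hp, rfl⟩
    show L π K (vec π K p) = 0
    rw [L_vec, RingHom.mem_ker.1 hp, map_zero, TensorProduct.tmul_zero]

theorem exists_minor (hπ : Function.Surjective π) (r : ℕ)
    (hr : Module.finrank K (K ⊗[B] Ω[B⁄A]) = r) :
    ∃ (c : ℕ) (f : Fin c → MvPolynomial (Fin n) A) (a : Fin c → Fin n), c + r = n ∧ (∀ j, π (f j) = 0) ∧
      Function.Injective a ∧
      algebraMap B K (π (Matrix.of fun i j => pderiv (a i) (f j)).det) ≠ 0 := by
  classical
  obtain ⟨g, hg, hspan, hli⟩ := Submodule.exists_fun_fin_finrank_span_eq K
    (vec π K '' (RingHom.ker π : Set (MvPolynomial (Fin n) A)))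
  obtain ⟨c, hc, g, hg, hli⟩ : ∃ c, c = Module.finrank K (Submodule.span K
      (vec π K '' (RingHom.ker π : Set (MvPolynomial (Fin n) A)))) ∧ ∃ g : Fin c → Fin n → K,
      (∀ i, g i ∈ vec π K '' (RingHom.ker π : Set (MvPolynomial (Fin n) A))) ∧ LinearIndependent K g :=
    ⟨_, rfl, g, hg, hli⟩
  have hcr : c + r = n := by
    have := LinearMap.finrank_range_add_finrank_ker (L π K)
    rw [LinearMap.range_eq_top.2 (L_surjective π K hπ), finrank_top, hr, ker_L π K hπ,
      Module.finrank_fin_fun, ← hc] at this
    omega
  choose f hf hfv using hg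
  let M : Matrix (Fin c) (Fin n) K := Matrix.of g
  have hrk : Submodule.span K (Set.range M.col) = ⊤ := by
    have h1 : M.rank = c := by
      have : LinearIndependent K M.row := hli
      simpa using this.rank_matrix
    apply Submodule.eq_top_of_finrank_eq
    rw [← Matrix.rank_eq_finrank_span_cols, h1, Module.finrank_fin_fun]
  obtain ⟨g', hg', hspan', hli'⟩ := Submodule.exists_fun_fin_finrank_span_eq K (Set.range M.col)
  have hc' : Module.finrank K (Submodule.span K (Set.range M.col)) = c := by
    rw [hrk, finrank_top, Module.finrank_fin_fun]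
  choose a ha using hg'
  let a' : Fin c → Fin n := fun i => a (Fin.cast hc'.symm i)
  have hN : LinearIndependent K (fun i : Fin c => M.col (a' i)) := by
    have := hli'.comp (Fin.cast hc'.symm) (Fin.cast_injective _)
    have e : (fun i : Fin c => M.col (a' i)) = g' ∘ Fin.cast hc'.symm := funext fun i => ha _
    rw [e]
    exact this
  refine ⟨c, f, a', hcr, fun j => hf j, ?_, ?_⟩
  · intro i j hij
    exact hN.injective (show M.col (a' i) = M.col (a' j) by rw [hij])
  · rw [AlgHom.map_det, RingHom.map_det]
    have hu : IsUnit (Matrix.of fun i j => M.col (a' i) j) :=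
      Matrix.linearIndependent_rows_iff_isUnit.1 hN
    have := (Matrix.isUnit_iff_isUnit_det _).1 hu
    convert this.ne_zero using 3
    ext i j
    simp only [RingHom.mapMatrix_apply, AlgHom.toRingHom_eq_coe, RingHom.coe_coe, Matrix.map_apply,
      Matrix.of_apply, Matrix.col_apply, M]
    exact congrFun (hfv j) (a' i)

end

theorem exists_standardSmooth {A B : Type u} [CommRing A] [CommRing B] [Algebra A B] {n c r : ℕ}
    (π : MvPolynomial (Fin n) A →ₐ[A] B) (hπ : Function.Surjective π)
    (f : Fin c → MvPolynomial (Fin n) A) (hf : ∀ j, π (f j) = 0) (a : Fin c → Fin n)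
    (ha : Function.Injective a) (hcr : c + r = n) :
    ∃ (D : Type u) (_ : CommRing D) (_ : Algebra A D),
      Algebra.IsStandardSmoothOfRelativeDimension r A D ∧
        ∃ φ : D →ₐ[A] Localization.Away (π (Matrix.of fun i j => pderiv (a i) (f j)).det),
          Function.Surjective φ := by
  classical
  set h := (Matrix.of fun i j => pderiv (a i) (f j)).det with hh
  let ρ : MvPolynomial (Fin n) A →ₐ[A] MvPolynomial (Option (Fin n)) A := rename some
  let v : Option (Fin c) → MvPolynomial (Option (Fin n)) A :=
    fun o => o.elim (ρ h * X none - 1) (fun j => ρ (f j))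
  let D := MvPolynomial (Option (Fin n)) A ⧸ Ideal.span (Set.range v)
  let a' : Option (Fin c) → Option (Fin n) := Option.map a
  let P : Algebra.PreSubmersivePresentation A D (Option (Fin n)) (Option (Fin c)) :=
    Algebra.PreSubmersivePresentation.naive a' (Option.map_injective ha)
  have hjac : IsUnit P.jacobian := by
    rw [P.jacobian_eq_jacobiMatrix_det]
    have hM : P.jacobiMatrix.det = ρ h * ρ h := by
      let e := Equiv.optionEquivSumPUnit.{0} (Fin c)
      rw [← Matrix.det_reindex_self e P.jacobiMatrix]
      have hblock : Matrix.reindex e e P.jacobiMatrix =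
          Matrix.fromBlocks ((Matrix.of fun i j => pderiv (a i) (f j)).map ρ)
            (Matrix.of fun i _ => pderiv (some (a i)) (v none)) 0 (Matrix.of fun _ _ => ρ h) := by
        have hent : ∀ i j, P.jacobiMatrix i j = pderiv (a' i) (v j) := fun i j =>
          Algebra.PreSubmersivePresentation.jacobiMatrix_naive _ _ _ _ _ _
        have hnone : ∀ p : MvPolynomial (Fin n) A, pderiv none (ρ p) = 0 := fun p =>
          pderiv_eq_zero_of_notMem_vars (fun h' => by
            obtain ⟨x, -, hx⟩ := Finset.mem_image.1 (vars_rename _ _ h')
            exact Option.some_ne_none x hx)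
        refine Matrix.ext fun i j => ?_
        rcases i with i | ⟨⟩ <;> rcases j with j | ⟨⟩ <;> refine (hent _ _).trans ?_
        · exact pderiv_rename (Option.some_injective _) _ _
        · rfl
        · exact hnone _
        · show pderiv none (ρ h * X none - 1) = ρ h
          rw [map_sub, pderiv_mul, hnone, pderiv_one, pderiv_X_self]
          ring
      rw [hblock, Matrix.det_fromBlocks_zero₂₁, Matrix.det_unique (Matrix.of fun _ _ => ρ h)]
      rw [Matrix.of_apply, hh, AlgHom.map_det]
      rfl
    rw [hM]
    have h1 : algebraMap P.Ring D (ρ h * X none) = 1 := by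
      rw [← sub_eq_zero, ← map_one (algebraMap P.Ring D), ← map_sub]
      exact Ideal.Quotient.eq_zero_iff_mem.2 (Ideal.subset_span ⟨none, rfl⟩)
    have hu : IsUnit (algebraMap P.Ring D (ρ h)) := by
      rw [map_mul] at h1
      exact IsUnit.of_mul_eq_one _ h1
    rw [map_mul]
    exact hu.mul hu
  let S : Algebra.SubmersivePresentation A D (Option (Fin n)) (Option (Fin c)) := ⟨P, hjac⟩
  refine ⟨D, inferInstance, inferInstance, S.isStandardSmoothOfRelativeDimension ?_, ?_⟩
  · show Nat.card (Option (Fin n)) - Nat.card (Option (Fin c)) = r
    simp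
    omega
  let T := Localization.Away (π h)
  let ev : MvPolynomial (Option (Fin n)) A →ₐ[A] T :=
    aeval fun o => o.elim (IsLocalization.Away.invSelf (π h)) (fun i => algebraMap B T (π (X i)))
  have hev : ∀ p, ev (ρ p) = algebraMap B T (π p) := by
    intro p
    show aeval _ (rename some p) = _
    rw [aeval_rename]
    have : (aeval fun i => algebraMap B T (π (X i))) = (IsScalarTower.toAlgHom A B T).comp π := by
      apply MvPolynomial.algHom_ext
      intro i
      simp
    exact DFunLike.congr_fun this p
  refine ⟨Ideal.Quotient.liftₐ _ ev ?_, ?_⟩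
  · intro x hx
    refine (Ideal.span_le (I := RingHom.ker ev)).2 ?_ hx
    rintro _ ⟨o, rfl⟩
    show ev (v o) = 0
    cases o with
    | none =>
      simp only [v, Option.elim_none, map_sub, map_mul, map_one, hev]
      have : ev (X none) = IsLocalization.Away.invSelf (π h) := aeval_X _ _
      rw [this, IsLocalization.Away.mul_invSelf, sub_self]
    | some j => simp only [v, Option.elim_some, hev, hf, map_zero]
  · intro z
    obtain ⟨k, b, hb⟩ := IsLocalization.Away.surj (π h) z
    obtain ⟨p, rfl⟩ := hπ b
    refine ⟨Ideal.Quotient.mk _ (ρ p * X none ^ k), ?_⟩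
    show ev (ρ p * X none ^ k) = z
    have : ev (X none) = IsLocalization.Away.invSelf (π h) := aeval_X _ _
    rw [map_mul, map_pow, this, hev, ← hb, mul_assoc, ← mul_pow, IsLocalization.Away.mul_invSelf,
      one_pow, mul_one]


/-- Let A → B be a finite type ring map, q a prime of B and r = dim_{κ(q)} Ω_{B/A} ⊗_B κ(q). Then there
are g in B with g not in q, an A-algebra D which is standard smooth of relative dimension r over A,
and a surjective A-algebra homomorphism D → B[1/g]; that is, the principal open D(g) containing q is
a closed subscheme of Spec D with D smooth of relative dimension r over A. (The published statement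
is for a morphism X → S locally of finite type, a point x and an affine open V ⊆ S under it, and
gives an affine open neighbourhood of x with a closed immersion over V into a scheme smooth of
relative dimension r over V; this row states the case X = Spec B, S = Spec A, with the neighbourhood
a principal open D(g) and the smooth scheme standard smooth.) -/
theorem result (A B : Type u) [CommRing A] [CommRing B] [Algebra A B] [Algebra.FiniteType A B]
    (q : Ideal B) [q.IsPrime] (r : ℕ) (hr : Module.finrank q.ResidueField (q.ResidueField ⊗[B] Ω[B⁄A]) = r) :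
    ∃ g : B, g ∉ q ∧ ∃ (D : Type u) (_ : CommRing D) (_ : Algebra A D),
      Algebra.IsStandardSmoothOfRelativeDimension r A D ∧
        ∃ φ : D →ₐ[A] Localization.Away g, Function.Surjective φ := by
  obtain ⟨n, π, hπ⟩ := Algebra.FiniteType.iff_quotient_mvPolynomial''.1 (inferInstance : Algebra.FiniteType A B)
  obtain ⟨c, f, a, hcr, hf, ha, hdet⟩ := exists_minor π q.ResidueField hπ r hr
  refine ⟨π (Matrix.of fun i j => MvPolynomial.pderiv (a i) (f j)).det, fun hq => hdet ?_,
    exists_standardSmooth π hπ f hf a ha hcr⟩
  exact Ideal.algebraMap_residueField_eq_zero.2 hq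

end Groth.Agent.S7634
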