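import Groth.Statements.S7639
import Groth.Agent.CurvLib.StalkSum
-- import your own Groth.Agent.* helpers here

set_option autoImplicit false
universe u
open CategoryTheory CategoryTheory.Limits AlgebraicGeometry
attribute [local instance] Curv2.resAlgebra
open Variety

namespace Groth.Agent.S7639

theorem idem_trivial {X : Scheme.{u}} [ConnectedSpace X] (e : Γ(X, ⊤)) (he : IsIdempotentElem e) : e = 0 ∨ e = 1 := by
  have h01 : ∀ x : X, IsUnit (X.presheaf.germ ⊤ x trivial e) ↔ ¬ IsUnit (X.presheaf.germ ⊤ x trivial (1 - e)) := by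
    intro x
    have hm : X.presheaf.germ ⊤ x trivial e * X.presheaf.germ ⊤ x trivial (1 - e) = 0 := by
      rw [← map_mul, mul_sub, mul_one, he.eq, sub_self, map_zero]
    constructor
    · intro h h'
      exact not_isUnit_zero (hm ▸ h.mul h')
    · intro h
      exact (IsLocalRing.isUnit_or_isUnit_of_add_one (by rw [← map_add, add_sub_cancel, map_one])).resolve_right h
  have hclopen : IsClopen ((X.basicOpen e : Set X)) := by
    refine ⟨?_, (X.basicOpen e).isOpen⟩
    have : ((X.basicOpen e : Set X))ᶜ = (X.basicOpen (1 - e) : Set X) := by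
      ext x
      simp only [Set.mem_compl_iff, SetLike.mem_coe, Scheme.mem_basicOpen_top]
      exact (not_congr (h01 x)).trans not_not
    rw [← isOpen_compl_iff, this]
    exact (X.basicOpen (1 - e)).isOpen
  have key : ∀ a : Γ(X, ⊤), IsIdempotentElem a → (X.basicOpen a : Set X) = Set.univ → a = 1 := by
    intro a ha h
    have hu : IsUnit a := X.toRingedSpace.isUnit_of_isUnit_germ ⊤ a fun x _ => by
      have hx : x ∈ (X.basicOpen a : Set X) := h ▸ Set.mem_univ x
      exact (X.mem_basicOpen a x trivial).mp hx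
    exact hu.mul_eq_left.mp ha.eq
  rcases isClopen_iff.mp hclopen with h | h
  · left
    have h2 := key (1 - e) he.one_sub (by
      ext x
      simp only [Set.mem_univ, iff_true, SetLike.mem_coe]
      by_contra hx
      have : x ∈ (X.basicOpen e : Set X) := (X.mem_basicOpen e x trivial).mpr ((h01 x).mpr fun hu => hx ((X.mem_basicOpen (U := ⊤) (1 - e) x trivial).mpr hu))
      rw [h] at this
      exact this)
    simpa using h2
  · exact Or.inr (key e he h)

theorem isField_of_idem {R : Type u} [CommRing R] [IsArtinianRing R] [_root_.IsReduced R] [Nontrivial R]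
    (h : ∀ e : R, IsIdempotentElem e → e = 0 ∨ e = 1) : IsField R := by
  refine ⟨exists_pair_ne R, mul_comm, fun {r} hr => ?_⟩
  obtain ⟨n, s, hs⟩ := IsArtinian.exists_pow_succ_smul_dvd r (1 : R)
  simp only [smul_eq_mul, mul_one] at hs
  have hstep : ∀ j, r ^ n = r ^ (n + j) * s ^ j := by
    intro j
    induction j with
    | zero => simp
    | succ j ih =>
      rw [show r ^ (n + (j + 1)) * s ^ (j + 1) = r ^ j * (r ^ (n + 1) * s) * s ^ j by ring,
        show r ^ (n + 1) * s = r ^ n from hs]
      exact ih.trans (by ring)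
  have he : IsIdempotentElem ((r * s) ^ n) := by
    change (r * s) ^ n * (r * s) ^ n = (r * s) ^ n
    rw [mul_pow]
    conv_rhs => rw [hstep n]
    ring
  rcases h _ he with h0 | h1
  · refine absurd (_root_.IsReduced.eq_zero r ⟨n, ?_⟩) hr
    rw [hstep n, pow_add, mul_assoc, ← mul_pow, h0, mul_zero]
  · rcases Nat.eq_zero_or_pos n with hn | hn
    · subst hn; exact ⟨s, by simpa using hs⟩
    · exact IsUnit.exists_right_inv ((isUnit_pow_iff hn.ne').mp (IsUnit.of_mul_eq_one (s ^ n)
        (by rw [← mul_pow]; exact h1)))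


/-- Let X be a proper scheme over a field k which is reduced and connected, and let κ = Γ(X, O_X). Then
κ is a field, finite over k, and w = [κ : k] divides (1) the degree of every finite locally free
module of constant rank, (2) the degree [κ(x) : k] of every closed point x, and (3) the degree dim_k
H^0(X, O_D) of every closed subscheme D of dimension zero (or empty). (The published statement uses
the degree of E, which it defines only for X of dimension at most one; this row states (1) for the
integer χ(E) − n·χ(O_X) with no bound on the dimension of X.) -/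
theorem result (k : Type u) [Field k] (X : Scheme.{u}) [X.Over (Spec (CommRingCat.of k))] [IsProper (X ↘ (Spec (CommRingCat.of k)))] [IsReduced X] [ConnectedSpace X] :
    letI : Algebra k Γ(X, ⊤) := ((X ↘ (Spec (CommRingCat.of k))).appTop.hom.comp
      (Scheme.ΓSpecIso (CommRingCat.of k)).inv.hom).toAlgebra
    IsField Γ(X, ⊤) ∧ Module.Finite k Γ(X, ⊤) ∧
      (∀ (n : ℕ) (E : X.Modules), FlatMod.IsFinLocFreeOfRank n E →
        (Module.finrank k Γ(X, ⊤) : ℤ) ∣ Curv2.deg k X E n) ∧
      (∀ x : X, IsClosed ({x} : Set X) →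
        Module.finrank k Γ(X, ⊤) ∣ Module.finrank k (X.residueField x)) ∧
      (∀ D : X.IdealSheafData, topologicalKrullDim D.subscheme ≤ 0 →
        Module.finrank k Γ(X, ⊤) ∣ Module.finrank k (Coh.HH X (ClSub.quotMod D) 0)) := by
  haveI := CurvLib.isNoetherian k (X := X)
  letI alg : Algebra k Γ(X, ⊤) := ((X ↘ (Spec (CommRingCat.of k))).appTop.hom.comp
    (Scheme.ΓSpecIso (CommRingCat.of k)).inv.hom).toAlgebra
  let O := Coh.structureModule X
  haveI := CurvLib.finite_HH (k := k) (DevissLib.isCoh_structureModule X) 0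
  letI := CurvLib.secModule (k := k) O
  haveI hfin : Module.Finite k Γ(X, ⊤) := by
    haveI : Module.Finite k Γ(O, ⊤) := Module.Finite.equiv (CurvLib.hhZeroEquiv (k := k) O)
    exact Module.Finite.equiv (R := k) ({
      toFun := fun s => (show Γ(X, ⊤) from s)
      invFun := fun s => s
      map_add' := fun _ _ => rfl
      map_smul' := fun _ _ => rfl } : Γ(O, ⊤) ≃ₗ[k] Γ(X, ⊤))
  haveI : IsArtinianRing Γ(X, ⊤) := IsArtinianRing.of_finite k Γ(X, ⊤)
  haveI : Nonempty X := inferInstance
  haveI : Nontrivial Γ(X, ⊤) := by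
    obtain ⟨x⟩ := (inferInstance : Nonempty X)
    exact (X.presheaf.germ ⊤ x trivial).hom.domain_nontrivial
  have hfield : IsField Γ(X, ⊤) := isField_of_idem idem_trivial
  letI : Field Γ(X, ⊤) := hfield.toField
  have hdvd : ∀ (W : Type u) [AddCommGroup W] [Module Γ(X, ⊤) W] [Module k W] [IsScalarTower k Γ(X, ⊤) W],
      Module.finrank k Γ(X, ⊤) ∣ Module.finrank k W := fun W _ _ _ _ =>
    ⟨_, (Module.finrank_mul_finrank k Γ(X, ⊤) W).symm⟩
  have hH : ∀ (M : X.Modules) (i : ℕ), Module.finrank k Γ(X, ⊤) ∣ Module.finrank k (Coh.HH X M i) :=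
    fun M i =>
      letI : Module Γ(X, ⊤) (Coh.HH X M i) := Coh.moduleΓtop M i
      haveI : IsScalarTower k Γ(X, ⊤) (Coh.HH X M i) := IsScalarTower.of_algebraMap_smul fun _ _ => rfl
      hdvd _
  have hE : ∀ M : X.Modules, (Module.finrank k Γ(X, ⊤) : ℤ) ∣ Curv2.euler k X M := fun M =>
    finsum_induction (fun z : ℤ => (Module.finrank k Γ(X, ⊤) : ℤ) ∣ z) (dvd_zero _) (fun _ _ => dvd_add)
      fun i => Dvd.dvd.mul_left (Int.natCast_dvd_natCast.mpr (hH M i)) _
  refine ⟨hfield, hfin, fun n E _ => ?_, fun x _ => ?_, fun D _ => hH _ 0⟩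
  · exact dvd_sub (hE E) (Dvd.dvd.mul_left (hE _) _)
  · letI : Module Γ(X, ⊤) (X.residueField x) :=
      Module.compHom _ ((X.residue x).hom.comp (X.presheaf.germ ⊤ x trivial).hom)
    haveI : IsScalarTower k Γ(X, ⊤) (X.residueField x) := IsScalarTower.of_algebraMap_smul fun _ _ => rfl
    exact hdvd _

end Groth.Agent.S7639
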