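import Groth.Statements.S7641
import Groth.Agent.CurveAmpLib.Affine
import Groth.Agent.DegPullLib.H0

set_option autoImplicit false
universe u
open CategoryTheory CategoryTheory.Limits AlgebraicGeometry
open Variety

namespace Groth.Agent.S7641

/-- Let X be proper over a field k, reduced and connected, with every irreducible component of dimension
one, and let L be an invertible module whose restriction to each irreducible component C, with its
reduced induced structure, has degree at most zero. Then H^0(X, L) = 0 or L is isomorphic to O_X. -/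
theorem result (k : Type u) [Field k] (X : Scheme.{u}) [X.Over (Spec (CommRingCat.of k))] [IsProper (X ↘ (Spec (CommRingCat.of k)))]
    [IsReduced X] [ConnectedSpace X] [IsNoetherian X]
    (hdim : ∀ (C : Set X), C ∈ irreducibleComponents (X : Type u) → topologicalKrullDim C = 1)
    (L : X.Modules) (hL : PicF.IsInvertible L)
    (hdeg : ∀ (C : Set X) (hC : C ∈ irreducibleComponents (X : Type u)), @Curv2.deg k _ (X.irreducibleComponentIdeal C hC).radical.subscheme ⟨(X.irreducibleComponentIdeal C hC).radical.subschemeι ≫ (X ↘ (Spec (CommRingCat.of k)))⟩ ((Scheme.Modules.pullback (X.irreducibleComponentIdeal C hC).radical.subschemeι).obj L) 1 ≤ 0) :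
    Subsingleton (Coh.HH X L 0) ∨ Nonempty (L ≅ Coh.structureModule X) := by
  let q := X ↘ (Spec (CommRingCat.of k))
  by_cases hsub : Subsingleton (Coh.HH X L 0)
  · exact Or.inl hsub
  right
  obtain ⟨z, hz⟩ : ∃ z : Coh.HH X L 0, z ≠ 0 := by
    by_contra hcon
    push Not at hcon
    exact hsub ⟨fun a b => (hcon a).trans (hcon b).symm⟩
  let σ : Γ(L, ⊤) := DegPullLib.e0 L z
  let G := TwistLib.genSet hL σ
  have hdich : ∀ C ∈ irreducibleComponents (X : Type u), C ⊆ G ∨ C ⊆ (G : Set X)ᶜ := by
    intro C hC
    by_contra hcon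
    rw [not_or] at hcon
    let J := (X.irreducibleComponentIdeal C hC).radical
    have hJ : J = Scheme.IdealSheafData.vanishingIdeal ⟨C, isClosed_of_mem_irreducibleComponents C hC⟩ := by
      show (X.irreducibleComponentIdeal C hC).radical = _
      rw [← Scheme.IdealSheafData.vanishingIdeal_support]
      exact congrArg _ (SetLike.coe_injective rfl)
    have hr : Set.range J.subschemeι = C := by
      rw [J.range_subschemeι, hJ]
      exact Scheme.IdealSheafData.coe_support_vanishingIdeal _
    letI : J.subscheme.Over (Spec (CommRingCat.of k)) := ⟨J.subschemeι ≫ q⟩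
    haveI : IsProper (J.subscheme ↘ Spec (CommRingCat.of k)) := inferInstanceAs (IsProper (J.subschemeι ≫ q))
    haveI : IsIntegral J.subscheme := by
      rw [hJ]
      exact AmpleDevLib.isIntegral_vanishingIdeal _ hC.1
    have hd1 : topologicalKrullDim J.subscheme = 1 :=
      (J.subschemeι.isEmbedding.toHomeomorph.trans (Homeomorph.setCongr hr)).isHomeomorph.topologicalKrullDim_eq.trans (hdim C hC)
    refine absurd (hdeg C hC) (not_le.mpr (CurveAmpLib.deg_pos_of_section k hd1
      (AmpleDevLib.isInvertible_pb J.subschemeι hL) (KFlatLib.puSec J.subschemeι σ) ?_ ?_))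
    · rw [AmpleDevLib.genSet_puSec J.subschemeι hL σ]
      obtain ⟨x, hxC, hxG⟩ := Set.not_subset.mp hcon.2
      obtain ⟨w, rfl⟩ := hr.ge hxC
      exact ⟨w, not_not.mp hxG⟩
    · rw [AmpleDevLib.genSet_puSec J.subschemeι hL σ]
      intro htop
      obtain ⟨x, hxC, hxG⟩ := Set.not_subset.mp hcon.1
      obtain ⟨w, rfl⟩ := hr.ge hxC
      exact hxG (htop.ge (show w ∈ ⊤ from trivial))
  have hclopen : IsClopen (G : Set X) := by
    refine ⟨?_, G.2⟩
    have : (G : Set X) = ⋃ C ∈ {C ∈ irreducibleComponents (X : Type u) | C ⊆ G}, C := by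
      refine Set.Subset.antisymm (fun x hx => ?_) (Set.iUnion₂_subset fun C hC => hC.2)
      exact Set.mem_iUnion₂.mpr ⟨irreducibleComponent x, ⟨irreducibleComponent_mem_irreducibleComponents x,
        (hdich _ (irreducibleComponent_mem_irreducibleComponents x)).resolve_right
          fun h => h mem_irreducibleComponent hx⟩, mem_irreducibleComponent⟩
    rw [this]
    exact (TopologicalSpace.NoetherianSpace.finite_irreducibleComponents.subset fun C hC => hC.1).isClosed_biUnion
      fun C hC => isClosed_of_mem_irreducibleComponents C hC.1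
  rcases isClopen_iff.mp hclopen with h0 | htop
  · exfalso
    refine hz ((DegPullLib.e0 L).injective ?_)
    rw [map_zero]
    refine TwistLib.mod_ext L fun x hx => ?_
    obtain ⟨U, g, hxU, hg⟩ := TwistLib.exists_genOn hL x
    obtain ⟨c, hc⟩ := AmpleThLib.exists_coeff σ hg
    have hc0 : c = 0 := eq_zero_of_basicOpen_eq_bot c (by
      rw [← AmpleThLib.mem_genSet_coeff hL σ hg hc]
      exact le_bot_iff.mp fun y hy => (Set.ext_iff.mp h0 y).mp hy.1)
    have h1 := congrArg (L.presheaf.germ U x hxU) hc
    rw [hc0, zero_smul, map_zero, AmpleLib.germ_res] at h1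
    rw [map_zero]
    exact h1.symm
  · have htop' : TwistLib.genSet hL σ = ⊤ := SetLike.coe_injective htop
    haveI := AmpleLib.isIso_unitHom σ (by
      have h1 := TwistLib.genSet_genOn hL σ
      rw [htop'] at h1
      rwa [AmpleLib.res_refl] at h1)
    exact ⟨(asIso (QCohLib.unitHom L σ)).symm⟩

end Groth.Agent.S7641
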