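import Groth.Statements.S7643
import Mathlib
import Groth.Agent.NefCurveLib.RankAdd
import Groth.Agent.HilbPolyLib.Snapper
import Groth.Agent.CurvLib.Euler
-- import your own Groth.Agent.* helpers here

set_option autoImplicit false
universe u
open CategoryTheory CategoryTheory.Limits AlgebraicGeometry
open Variety

namespace Groth.Agent.S7643

/-- Let X be proper of dimension at most one over a field k and let 0 → E₁ → E₂ → E₃ → 0 be a short
exact sequence of finite locally free modules of constant ranks n₁, n₂, n₃. Then deg(E₂) = deg(E₁) +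
deg(E₃). -/
theorem result (k : Type u) [Field k] (X : Scheme.{u}) [X.Over (Spec (CommRingCat.of k))] [IsProper (X ↘ (Spec (CommRingCat.of k)))]
    (hdim : topologicalKrullDim X ≤ 1) (S : ShortComplex X.Modules) (hS : S.ShortExact)
    (n₁ n₂ n₃ : ℕ) (h₁ : FlatMod.IsFinLocFreeOfRank n₁ S.X₁) (h₂ : FlatMod.IsFinLocFreeOfRank n₂ S.X₂)
    (h₃ : FlatMod.IsFinLocFreeOfRank n₃ S.X₃) :
    Curv2.deg k X S.X₂ n₂ = Curv2.deg k X S.X₁ n₁ + Curv2.deg k X S.X₃ n₃ := by
  have hadd := CurvLib.euler_add_of_isCoh (k := k) hS (CurvLib.isCoh_of_locFree h₁) (CurvLib.isCoh_of_locFree h₂)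
    (CurvLib.isCoh_of_locFree h₃)
  have hn : (n₂ : ℤ) * Curv2.euler k X (Coh.structureModule X) =
      ((n₁ : ℤ) + n₃) * Curv2.euler k X (Coh.structureModule X) := by
    rcases isEmpty_or_nonempty X with he | ⟨⟨x⟩⟩
    · rw [HilbPolyLib.euler_zero (DevissLib.isZero_of_support_empty (Set.eq_empty_of_isEmpty _)), mul_zero, mul_zero]
    · rw [NefCurveLib.rank_add hS h₁ h₂ h₃ x]; push_cast; rfl
  unfold Curv2.deg
  linarith

end Groth.Agent.S7643
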