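import Groth.Statements.S7646
import Groth.Agent.CurveAmpLib.Affine
import Groth.Agent.S1625
import Groth.Agent.ProjDegLib.Criterion

set_option autoImplicit false
universe u
open CategoryTheory CategoryTheory.Limits AlgebraicGeometry
open Variety Topology

namespace Groth.Agent.S7646

/-- Let X be separated and of finite type over a field k with dim X ≤ 1, and assume that no irreducible
component of X of dimension one, given its reduced induced structure, is proper over k. Then X is
affine. -/
theorem result (k : Type u) [Field k] (X : Scheme.{u}) [X.Over (Spec (CommRingCat.of k))]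
    [IsSeparated (X ↘ (Spec (CommRingCat.of k)))] [LocallyOfFiniteType (X ↘ (Spec (CommRingCat.of k)))]
    [IsNoetherian X] (hdim : topologicalKrullDim X ≤ 1)
    (h : ∀ (C : Set X) (hC : C ∈ irreducibleComponents (X : Type u)), topologicalKrullDim C = 1 →
      ¬ IsProper ((X.irreducibleComponentIdeal C hC).radical.subschemeι ≫ (X ↘ (Spec (CommRingCat.of k))))) :
    IsAffine X := by
  let q := X ↘ (Spec (CommRingCat.of k))
  haveI : QuasiCompact q := inferInstanceAs (QuasiCompact (X ↘ (Spec (CommRingCat.of k))))
  obtain ⟨d, Y, c, j, hc, hj, hfac, hd, -, hfin, -⟩ := Groth.Agent.S1625.result k X hdim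
  let p := CohB1.ProjSpace.toSpec d k
  haveI : IsProper p := ProjDegLib.toSpec_isProper k d
  letI : Y.Over (Spec (CommRingCat.of k)) := ⟨c ≫ p⟩
  haveI : IsProper (Y ↘ (Spec (CommRingCat.of k))) := inferInstanceAs (IsProper (c ≫ p))
  haveI : IsLocallyNoetherian Y := LocallyOfFiniteType.isLocallyNoetherian (c ≫ p)
  haveI : CompactSpace Y := QuasiCompact.compactSpace_of_compactSpace (c ≫ p)
  haveI : IsNoetherian Y := ⟨⟩
  have hmem : ∀ z : Y, FinPicLib.IsGen z → z ∈ Set.range j.base := fun z hz =>
    FinPicLib.mem_of_dense hz j.isOpenEmbedding.isOpen_range hd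
  have hdimY : topologicalKrullDim Y ≤ 1 := by
    refine FibDimLib.topologicalKrullDim_le_of_generic fun z hz => ?_
    have hzG : FinPicLib.IsGen z := fun w hw => by
      have h1 : closure ({z} : Set Y) ⊆ closure {w} :=
        (isClosed_closure.closure_subset_iff).mpr (Set.singleton_subset_iff.mpr (specializes_iff_mem_closure.mp hw))
      have h2 := hz.2 isIrreducible_singleton.closure h1
      exact (hw.antisymm (specializes_iff_mem_closure.mpr (h2 (subset_closure rfl)))).eq
    obtain ⟨a, rfl⟩ := hmem z hzG
    rw [← FibDimLib.topologicalKrullDim_closure_of_isOpenEmbedding (c ≫ p) j.isOpenEmbedding a]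
    exact (IsInducing.subtypeVal.topologicalKrullDim_le).trans hdim
  have haff : IsAffineOpen j.opensRange := by
    refine CurveAmpLib.isAffineOpen_of_finite_compl k hdimY _ hfin hmem fun C' hC' hdC' => ?_
    by_contra hne
    push Not at hne
    have hsub : C' ⊆ Set.range j.base := hne
    have himg : j.base '' (j.base ⁻¹' C') = C' := Set.image_preimage_eq_of_subset hsub
    have hC : j.base ⁻¹' C' ∈ irreducibleComponents (X : Type u) := by
      refine ⟨hC'.1.preimage j.isOpenEmbedding ?_, fun S hS hle => ?_⟩
      · obtain ⟨y, hy⟩ := hC'.1.1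
        exact ⟨y, hy, hsub hy⟩
      · have h1 : C' ⊆ j.base '' S := himg.symm.le.trans (Set.image_mono hle)
        have h2 := hC'.2 (hS.image _ j.continuous.continuousOn) h1
        exact fun x hx => h2 ⟨x, hx, rfl⟩
    have hdC : topologicalKrullDim (j.base ⁻¹' C' : Set X) = 1 := by
      rw [← hdC']
      exact (((j.isOpenEmbedding.isEmbedding.comp IsEmbedding.subtypeVal).toHomeomorph).trans
        (Homeomorph.setCongr (by rw [Set.range_comp, Subtype.range_coe]; exact himg))).isHomeomorph.topologicalKrullDim_eq
    refine h _ hC hdC ?_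
    let ι := (X.irreducibleComponentIdeal _ hC).radical.subschemeι
    have hcoe : (((X.irreducibleComponentIdeal _ hC).radical).support : Set X) = j.base ⁻¹' C' := by
      rw [Scheme.IdealSheafData.support_radical]
      rfl
    haveI : IsClosedImmersion (ι ≫ j) := IsClosedImmersion.of_isPreimmersion _ (by
      have : Set.range (ι ≫ j).base = C' := by
        rw [Scheme.Hom.comp_base, TopCat.coe_comp, Set.range_comp,
          show Set.range ι.base = _ from Scheme.IdealSheafData.range_subschemeι _, hcoe, himg]
      show IsClosed (Set.range (ι ≫ j).base)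
      rw [this]
      exact isClosed_of_mem_irreducibleComponents C' hC')
    have : ι ≫ q = (ι ≫ j) ≫ c ≫ p := by rw [Category.assoc, hfac]
    show IsProper (ι ≫ q)
    rw [this]
    infer_instance
  haveI : IsAffine (j.opensRange : Scheme.{u}) := haff
  exact IsAffine.of_isIso j.isoOpensRange.hom

end Groth.Agent.S7646
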