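import Groth.Statements.S7647
import Groth.Agent.IntMultLib.Main

set_option autoImplicit false
set_option linter.style.haveILetI false
universe u
open CategoryTheory CategoryTheory.Limits AlgebraicGeometry
open Variety

namespace Groth.Agent.S7647

/-- Let X be proper over a field k, Z ⊆ X a closed subscheme of dimension ≤ 1 and L an invertible
module. Then the intersection number (L · Z), i.e. the coefficient of n in the polynomial computing
χ(X, O_Z ⊗ L^{⊗n}), equals the degree of L|_Z on Z. -/
theorem result (k : Type u) [Field k] (X : Scheme.{u}) [X.Over (Spec (CommRingCat.of k))] [IsProper (X ↘ (Spec (CommRingCat.of k)))]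
    (D : X.IdealSheafData) (hD : topologicalKrullDim (D.support : Set X) ≤ 1)
    (L : X.Modules) (hL : PicF.IsInvertible L) (P : MvPolynomial (Fin 1) ℚ)
    (hP : ∀ n : Fin 1 → ℕ, (Curv2.euler k X (Curv2.tensorPows (ClSub.quotMod D) 1 (fun _ => L) n) : ℚ) = MvPolynomial.eval (fun i => (n i : ℚ)) P) :
    MvPolynomial.coeff (Finsupp.equivFunOnFinite.symm fun _ : Fin 1 => 1) P =
      (@Curv2.deg k _ D.subscheme ⟨D.subschemeι ≫ (X ↘ (Spec (CommRingCat.of k)))⟩
        ((Scheme.Modules.pullback D.subschemeι).obj L) 1 : ℚ) := by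
  haveI := CurvLib.isNoetherian k (X := X)
  have hsupp := CurvLib.support_quotMod_subset D
  have hmem : IntMultLib.hilb k (fun _ : Fin 1 => L) (ClSub.quotMod D) ∈ HilbPolyLib.polyFun 1 2 :=
    IntMultLib.hilb_mem (fun _ => hL) (CurvLib.isCoh_quotMod D)
      (((Topology.IsInducing.topologicalKrullDim_le (f := Set.inclusion hsupp)
        (Topology.IsInducing.subtypeVal.codRestrict _)).trans hD).trans_lt
          (by exact_mod_cast (by norm_num : (1 : ℕ) < 2)))
  rw [IntMultLib.coeff_eq_cubeSum hmem P (funext fun n => (IntMultLib.hilb_eq _ _ n).trans (hP n))]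
  have h1 := IntMultLib.hilb_quotMod (k := k) (L := fun _ : Fin 1 => L) (fun _ => hL) D
  letI : D.subscheme.Over (Spec (CommRingCat.of k)) :=
    ⟨D.subschemeι ≫ (X ↘ (Spec (CommRingCat.of k)))⟩
  let M := (Scheme.Modules.pullback D.subschemeι).obj L
  have e0 : IntMultLib.hilb k (fun _ : Fin 1 => L) (ClSub.quotMod D) (fun _ => 0) =
      (Curv2.euler k D.subscheme (Coh.structureModule D.subscheme) : ℚ) := (h1 _).trans
    (congrArg Int.cast (CurvLib.euler_congr (HilbPolyLib.unitLeft _)))
  have e1 : IntMultLib.hilb k (fun _ : Fin 1 => L) (ClSub.quotMod D) (fun _ => 1) =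
      (Curv2.euler k D.subscheme M : ℚ) := (h1 _).trans
    (congrArg Int.cast (CurvLib.euler_congr (HilbPolyLib.unitLeft _ ≪≫ HilbPolyLib.unitLeft M)))
  have hsum : HilbPolyLib.cubeSum (IntMultLib.hilb k (fun _ : Fin 1 => L) (ClSub.quotMod D)) =
      (Curv2.euler k D.subscheme (Coh.structureModule D.subscheme) : ℚ) - Curv2.euler k D.subscheme M := by
    rw [← e0, ← e1]
    simp only [HilbPolyLib.cubeSum, LinearMap.coe_mk, AddHom.coe_mk]
    rw [← (Equiv.funUnique (Fin 1) Bool).symm.sum_comp, Fintype.sum_bool]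
    have hu : ∀ c : Bool, HilbPolyLib.bExp ((Equiv.funUnique (Fin 1) Bool).symm c) =
        fun _ => if c then 1 else 0 := fun c => by
      funext i
      obtain rfl : i = 0 := Subsingleton.elim _ _
      rfl
    rw [hu, hu]
    simp [HilbPolyLib.bSgn]
    ring
  rw [hsum, pow_one, neg_one_mul, neg_sub]
  simp [Curv2.deg, M]

end Groth.Agent.S7647
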