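import Groth.Statements.S7648
import Groth.Agent.IntMultLib.Main

set_option autoImplicit false
set_option linter.style.haveILetI false
universe u
open CategoryTheory CategoryTheory.Limits AlgebraicGeometry
open Variety

namespace Groth.Agent.S7648

/-- Let X be proper over a field k of dimension e + 1, let D ⊆ X be an effective Cartier divisor and let
L_0, L_1, …, L_e be invertible modules with L_0 ≅ O_X(D), i.e. L_0 ⊗ I_D ≅ O_X. Then (L_0 ⋯ L_e · X)
= (L_1 ⋯ L_e · D): the coefficient of n_0⋯n_e in the polynomial computing χ(X, ⊗_j L_j^{⊗n_j})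
equals the coefficient of n_1⋯n_e in the polynomial computing χ(X, O_D ⊗ L_1^{⊗n_1} ⊗ ⋯ ⊗
L_e^{⊗n_e}). (The published statement has a closed subscheme Z ⊆ X of dimension d with D ⊆ Z and
L_1|_Z ≅ O_Z(D); this row is its case Z = X.) -/
theorem result (k : Type u) [Field k] (X : Scheme.{u}) [X.Over (Spec (CommRingCat.of k))] [IsProper (X ↘ (Spec (CommRingCat.of k)))]
    (e : ℕ) (hX : topologicalKrullDim X = e + 1) (D : X.IdealSheafData) (hD : FGA.IsEffCartier D)
    (L : Fin (e + 1) → X.Modules) (hL : ∀ j, PicF.IsInvertible (L j))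
    (hLD : ClSub.IsInverseOf (L 0) (ClSub.idealMod D))
    (P : MvPolynomial (Fin (e + 1)) ℚ) (Q : MvPolynomial (Fin e) ℚ)
    (hP : ∀ n : Fin (e + 1) → ℕ, (Curv2.euler k X (Curv2.tensorPows (Coh.structureModule X) (e + 1) L n) : ℚ) = MvPolynomial.eval (fun i => (n i : ℚ)) P)
    (hQ : ∀ n : Fin e → ℕ, (Curv2.euler k X (Curv2.tensorPows (ClSub.quotMod D) e (fun j => L j.succ) n) : ℚ) = MvPolynomial.eval (fun i => (n i : ℚ)) Q) :
    MvPolynomial.coeff (Finsupp.equivFunOnFinite.symm fun _ : Fin (e + 1) => 1) P = MvPolynomial.coeff (Finsupp.equivFunOnFinite.symm fun _ : Fin e => 1) Q := by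
  haveI := CurvLib.isNoetherian k (X := X)
  have hsupp := CurvLib.support_quotMod_subset D
  have hC := CurvLib.isCoh_quotMod D
  have hO := DevissLib.isCoh_structureModule X
  have hdimX : topologicalKrullDim (CohB1.support (Coh.structureModule X)) < ((e + 1 + 1 : ℕ) : WithBot ℕ∞) :=
    (topologicalKrullDim_subspace_le _ _).trans_lt (by rw [hX]; exact_mod_cast Nat.lt_succ_self (e + 1))
  have hdimD : topologicalKrullDim (CohB1.support (ClSub.quotMod D)) < ((e + 1 : ℕ) : WithBot ℕ∞) := by
    refine lt_of_le_of_lt ((Topology.IsInducing.topologicalKrullDim_le (f := Set.inclusion hsupp)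
      (Topology.IsInducing.subtypeVal.codRestrict _)).trans ?_)
      (by exact_mod_cast Nat.lt_succ_self e : (e : WithBot ℕ∞) < ((e + 1 : ℕ) : WithBot ℕ∞))
    have hcl : IsClosed (D.support : Set X) := D.support.isClosed
    rw [← (D.subschemeι.isEmbedding.toHomeomorph.trans
      (Homeomorph.setCongr D.range_subschemeι)).isHomeomorph.topologicalKrullDim_eq]
    refine FibDimLib.topologicalKrullDim_le_of_points fun z => ?_
    let x := D.subschemeι z
    have hx : x ∈ (D.support : Set X) := D.range_subschemeι.le ⟨z, rfl⟩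
    obtain ⟨η, hη, hne⟩ := CurvLib.exists_generization_of_mem hD hx
    have h1 : η ∉ closure ({x} : Set X) := fun h' =>
      hne (hη.antisymm (specializes_iff_mem_closure.mpr h')).eq
    have h2 := HilbPolyLib.dim_lt_of_notMem (T' := closure ({x} : Set X)) isClosed_closure
      (closure_minimal (Set.singleton_subset_iff.mpr (specializes_iff_mem_closure.mp hη)) isClosed_closure)
      h1 (Set.subset_univ _) (d := e + 1)
      (((topologicalKrullDim_subspace_le _ _).trans hX.le).trans_lt
        (by exact_mod_cast Nat.lt_succ_self (e + 1)))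
    have h3 : Set.MapsTo D.subschemeι (closure ({z} : Set D.subscheme)) (closure ({x} : Set X)) :=
      Set.MapsTo.closure (fun a ha => by simp only [Set.mem_singleton_iff] at ha ⊢; rw [ha]) D.subschemeι.continuous
    refine (Topology.IsInducing.topologicalKrullDim_le (f := h3.restrict _ _ _)
      ((D.subschemeι.isEmbedding.isInducing.comp Topology.IsInducing.subtypeVal).codRestrict
        fun a => h3 a.2)).trans ?_
    have : topologicalKrullDim (closure ({x} : Set X)) < ((e + 1 : ℕ) : WithBot ℕ∞) := h2
    revert this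
    generalize topologicalKrullDim (closure ({x} : Set X)) = t
    intro ht
    induction t with
    | bot => exact bot_le
    | coe a =>
      induction a with
      | top => exact absurd ht (by simp)
      | coe m =>
        have ht' : m < e + 1 := by exact_mod_cast ht
        exact_mod_cast Nat.lt_succ_iff.mp ht'
  let L' : Fin e → X.Modules := fun j => L j.succ
  have hL' : ∀ j, PicF.IsInvertible (L' j) := fun j => hL _
  rw [IntMultLib.coeff_eq_cubeSum (IntMultLib.hilb_mem hL hO hdimX) P
      (funext fun n => (IntMultLib.hilb_eq L _ n).trans (hP n)),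
    IntMultLib.coeff_eq_cubeSum (IntMultLib.hilb_mem hL' hC hdimD) Q
      (funext fun n => (IntMultLib.hilb_eq L' _ n).trans (hQ n)),
    IntMultLib.cubeSum_succ L]
  have hz := HilbPolyLib.cubeSum_eq_zero (IntMultLib.hilb_mem hL hC hdimD (k := k))
  rw [IntMultLib.cubeSum_succ L] at hz
  have hI : Coh.IsCoh (CurvLib.idealSeq D).X₁ :=
    QCohLib.isCoh_kernel (ClSub.toSubscheme D) hO hC.1
  have hadd := HilbPolyLib.hilbFun_add (k := k)
    (fun n => HilbPolyLib.isInvertible_tensorPows e L' hL' n)
    (HilbPolyLib.shortExact_tensor (hL 0) (CurvLib.idealSeq_shortExact D))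
    (HilbPolyLib.isCoh_tensor (hL 0) hI) (HilbPolyLib.isCoh_tensor (hL 0) hO)
    (HilbPolyLib.isCoh_tensor (hL 0) hC)
  obtain ⟨eI⟩ := hLD
  have hadd' : IntMultLib.hilb k L' (CohB1.tensorMod (L 0) (Coh.structureModule X)) =
      IntMultLib.hilb k L' (Coh.structureModule X) +
        IntMultLib.hilb k L' (CohB1.tensorMod (L 0) (ClSub.quotMod D)) :=
    hadd.trans (congrArg₂ (· + ·) (HilbPolyLib.hilbFun_congr _ eI) rfl)
  rw [hadd', map_add, pow_succ]
  linear_combination -(-1 : ℚ) ^ e * hz

end Groth.Agent.S7648
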