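import Groth.Statements.S7649
import Groth.Agent.IntMultLib.Asymp

set_option autoImplicit false
universe u
open CategoryTheory CategoryTheory.Limits AlgebraicGeometry
open Variety

namespace Groth.Agent.S7649

/-- Let X be proper over a field k of dimension d and L an ample invertible module. With deg_L(X) the
coefficient of n_1⋯n_d in the polynomial computing χ(X, L^{⊗n_1} ⊗ ⋯ ⊗ L^{⊗n_d}) and c =
deg_L(X)/d!, the constant c is positive and dim_k Γ(X, L^{⊗n}) = c·n^d + lower order terms; here the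
lower-order bound is written as |dim_k H^0(X, L^{⊗n}) − c·n^d| ≤ C·(n+1)^{d−1} for a constant C and
all n ≥ 0. -/
theorem result (k : Type u) [Field k] (X : Scheme.{u}) [X.Over (Spec (CommRingCat.of k))] [IsProper (X ↘ (Spec (CommRingCat.of k)))]
    (d : ℕ) (hX : topologicalKrullDim X = d) (L : X.Modules) (hL : CohB1.IsAmple L)
    (P : MvPolynomial (Fin d) ℚ)
    (hP : ∀ n : Fin d → ℕ, (Curv2.euler k X (Curv2.tensorPows (Coh.structureModule X) d (fun _ => L) n) : ℚ) = MvPolynomial.eval (fun i => (n i : ℚ)) P) :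
    0 < MvPolynomial.coeff (Finsupp.equivFunOnFinite.symm fun _ : Fin d => 1) P ∧
      ∃ C : ℚ, ∀ n : ℕ,
        |(Module.finrank k (Coh.HH X (CohB1.tensorPow L n) 0) : ℚ) -
            MvPolynomial.coeff (Finsupp.equivFunOnFinite.symm fun _ : Fin d => 1) P / (d.factorial : ℚ) * (n : ℚ) ^ d| ≤
          C * ((n : ℚ) + 1) ^ (d - 1) := by
  haveI := CurvLib.isNoetherian k (X := X)
  have hO := DevissLib.isCoh_structureModule X
  have hsupp : topologicalKrullDim (CohB1.support (Coh.structureModule X)) = (d : ℕ) := by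
    rw [IntMultLib.support_structureModule]
    exact ((Homeomorph.Set.univ X).isHomeomorph.topologicalKrullDim_eq).trans hX
  obtain ⟨p, hp⟩ := HilbPolyLib.exists_isHilbPoly' (k := k) hL.1 hO
  have hdeg := HilbPolyLib.natDegree_le hL hO hp hsupp.le
  have hpos := HilbPolyLib.alpha_pos hL hO hp hsupp
  have hmem : IntMultLib.hilb k (fun _ : Fin d => L) (Coh.structureModule X) ∈ HilbPolyLib.polyFun d (d + 1) :=
    IntMultLib.hilb_mem (fun _ => hL.1) hO (hsupp.trans_lt (by exact_mod_cast Nat.lt_succ_self d))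
  have hf : IntMultLib.hilb k (fun _ : Fin d => L) (Coh.structureModule X) =
      fun n => p.eval ((∑ i, n i : ℕ) : ℚ) := by
    funext n
    obtain ⟨e⟩ := IntMultLib.nonempty_tensorPows_const L d n
    rw [← hp (∑ i, n i), IntMultLib.hilb_eq, HilbPolyLib.euler_twist]
    exact congrArg Int.cast (CurvLib.euler_congr
      ((HilbPolyLib.nonempty_tensorPows (Coh.structureModule X) d (fun _ => L) n).some ≪≫ HilbPolyLib.congrLeft e _))
  have hc : MvPolynomial.coeff (IntMultLib.oneExp d) P = (d.factorial : ℚ) * p.coeff d := by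
    rw [IntMultLib.coeff_eq_cubeSum hmem P (funext fun n => (IntMultLib.hilb_eq _ _ n).trans (hP n)), hf,
      IntMultLib.cubeSum_sum d (fun x => p.eval x), IntMultLib.fwdDiff_top hdeg, ← mul_assoc, ← mul_pow]
    simp
  refine ⟨hc ▸ hpos, ?_⟩
  rw [hc, mul_div_cancel_left₀ _ (by exact_mod_cast d.factorial_pos.ne')]
  obtain ⟨N, hN⟩ := HilbPolyLib.exists_eval_eq_finrank hL hO hp
  let h0 : ℕ → ℚ := fun n => (Module.finrank k (Coh.HH X (CohB1.tensorPow L n) 0) : ℚ)
  refine ⟨(∑ i ∈ Finset.range d, |p.coeff i|) + ∑ n ∈ Finset.range N, |h0 n - p.coeff d * (n : ℚ) ^ d|,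
    fun n => ?_⟩
  have h1 : (1 : ℚ) ≤ ((n : ℚ) + 1) ^ (d - 1) := one_le_pow₀ (by linarith [(Nat.cast_nonneg n : (0:ℚ) ≤ n)])
  have hA : 0 ≤ ∑ i ∈ Finset.range d, |p.coeff i| := Finset.sum_nonneg fun i _ => abs_nonneg _
  have hB : 0 ≤ ∑ m ∈ Finset.range N, |h0 m - p.coeff d * (m : ℚ) ^ d| := Finset.sum_nonneg fun i _ => abs_nonneg _
  rcases lt_or_ge n N with hn | hn
  · have := Finset.single_le_sum (f := fun m => |h0 m - p.coeff d * (m : ℚ) ^ d|) (fun m _ => abs_nonneg _)
      (Finset.mem_range.mpr hn)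
    change |h0 n - p.coeff d * (n : ℚ) ^ d| ≤ _
    try simp only at this
    nlinarith [abs_nonneg (h0 n - p.coeff d * (n : ℚ) ^ d)]
  · have e := (CurvLib.hIso (k := k) ((HilbPolyLib.swapIso (Coh.structureModule X) (CohB1.tensorPow L n)).symm ≪≫
      HilbPolyLib.unitLeft (CohB1.tensorPow L n)) 0).finrank_eq
    rw [← e, ← hN n hn]
    refine (IntMultLib.abs_eval_sub_top hdeg n).trans ?_
    nlinarith

end Groth.Agent.S7649
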