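import Groth.Statements.S7650
import Groth.Agent.IntMultLib.Main

set_option autoImplicit false
set_option linter.style.haveILetI false
universe u
open CategoryTheory CategoryTheory.Limits AlgebraicGeometry
open Variety

namespace Groth.Agent.S7650

/-- Let X be proper over a field k, F a coherent module with dim Supp(F) = d and L_1, …, L_r invertible
modules. The Euler characteristic of F twisted by L_1^{⊗n_1} ⊗ ⋯ ⊗ L_r^{⊗n_r}, minus the sum over
the d-dimensional irreducible components Z of Supp(F) of the length of F at the generic point of Z
times the Euler characteristic on Z of the restricted twist, agrees with a rational polynomial in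
the exponents each of whose monomials has total degree less than d. Here the sum is written over all
points ξ of X whose closure has dimension d (the term vanishes unless ξ is the generic point of a
d-dimensional component of Supp(F)), and Z_ξ carries its reduced induced structure. (The published
statement lets the exponents range over all integers; this row takes them in ℕ.) -/
theorem result (k : Type u) [Field k] (X : Scheme.{u}) [X.Over (Spec (CommRingCat.of k))] [IsProper (X ↘ (Spec (CommRingCat.of k)))]
    (F : X.Modules) (hF : Coh.IsCoh F) (d : ℕ) (hd : topologicalKrullDim (CohB1.support F) = d)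
    (r : ℕ) (L : Fin r → X.Modules) (hL : ∀ i, PicF.IsInvertible (L i)) :
    ∃ P : MvPolynomial (Fin r) ℚ, (∀ m ∈ P.support, (m.sum fun _ e => e) < d) ∧
      ∀ n : Fin r → ℕ,
        (Curv2.euler k X (Curv2.tensorPows F r L n) : ℚ) -
          ∑ᶠ ξ : X, (if topologicalKrullDim (closure ({ξ} : Set X)) = (d : WithBot ℕ∞) then
            ((Module.length (X.presheaf.stalk ξ) (F.presheaf.stalk ξ)).toNat : ℚ) *
              (@Curv2.euler k _
                (Scheme.IdealSheafData.vanishingIdeal (⟨closure ({ξ} : Set X), isClosed_closure⟩ : TopologicalSpace.Closeds X)).subscheme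
                ⟨(Scheme.IdealSheafData.vanishingIdeal (⟨closure ({ξ} : Set X), isClosed_closure⟩ : TopologicalSpace.Closeds X)).subschemeι ≫ (X ↘ (Spec (CommRingCat.of k)))⟩
                (Curv2.tensorPows
                  (Coh.structureModule (Scheme.IdealSheafData.vanishingIdeal (⟨closure ({ξ} : Set X), isClosed_closure⟩ : TopologicalSpace.Closeds X)).subscheme)
                  r (fun i => (Scheme.Modules.pullback
                    (Scheme.IdealSheafData.vanishingIdeal (⟨closure ({ξ} : Set X), isClosed_closure⟩ : TopologicalSpace.Closeds X)).subschemeι).obj (L i)) n) : ℚ)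
            else 0)
          = MvPolynomial.eval (fun i => (n i : ℚ)) P := by
  haveI := CurvLib.isNoetherian k (X := X)
  have hY := QCohLib.isClosed_support F hF.2
  have hne : (CohB1.support F).Nonempty := by
    by_contra h
    haveI : IsEmpty (CohB1.support F) := Set.isEmpty_coe_sort.mpr (Set.not_nonempty_iff_eq_empty.mp h)
    haveI : IsEmpty (TopologicalSpace.IrreducibleCloseds (CohB1.support F)) :=
      ⟨fun Z => IsEmpty.false Z.isIrreducible.1.some⟩
    simp [topologicalKrullDim, Order.krullDim_eq_bot] at hd
  obtain ⟨T, hT, hmem⟩ := IntMultLib.main (k := k) hL hY hne hd.le F hF le_rfl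
  obtain ⟨P, hP, hP'⟩ := IntMultLib.exists_poly_lt hmem
  refine ⟨P, hP, fun n => ?_⟩
  have h := congrFun hP' n
  simp only [Pi.sub_apply, Finset.sum_apply, Pi.smul_apply, smul_eq_mul, IntMultLib.pfun] at h
  rw [IntMultLib.hilb_eq] at h
  rw [← h]
  congr 1
  rw [finsum_eq_sum_of_support_subset _ (s := T) ?_]
  · refine Finset.sum_congr rfl fun ξ hξ => ?_
    rw [if_pos ((hT ξ).mp hξ).2, IntMultLib.hilb_quotMod hL]
  · intro ξ hξ
    rw [Function.mem_support] at hξ
    split_ifs at hξ with hdim
    · refine (hT ξ).mpr ⟨?_, hdim⟩
      by_contra h0
      exact hξ (by rw [show Module.length (X.presheaf.stalk ξ) (F.presheaf.stalk ξ) = 0 from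
        IntMultLib.len_eq_zero h0]; simp)
    · exact absurd rfl hξ

end Groth.Agent.S7650
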