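import Groth.Statements.S7651
import Groth.Agent.AssPointLib.S1
import Mathlib.RingTheory.KrullDimension.Basic
import Mathlib.RingTheory.Ideal.MinimalPrime.Localization
import Mathlib.RingTheory.LocalRing.ResidueField.Ideal
import Mathlib.RingTheory.Localization.AtPrime.Basic
import Mathlib.RingTheory.LocalProperties.Reduced
import Mathlib.Algebra.Group.Pi.Units
import Mathlib.RingTheory.Ideal.AssociatedPrime.Finiteness

set_option autoImplicit false
universe u
open CategoryTheory CategoryTheory.Limits AlgebraicGeometry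
open Variety

namespace Groth.Agent.S7651
open IsLocalRing

variable {A : Type u} [CommRing A] [IsLocalRing A] [IsNoetherianRing A]

theorem prime_dichotomy (hdim : ringKrullDim A = 1) (P : Ideal A) [P.IsPrime] :
    P ∈ minimalPrimes A ∨ P = maximalIdeal A := by
  haveI : Ring.KrullDimLE 1 A := Ring.krullDimLE_iff.2 hdim.le
  exact (Ring.krullDimLE_one_iff.1 ‹_› P ‹_›).imp id IsLocalRing.eq_maximalIdeal

omit [IsNoetherianRing A] in
theorem maximalIdeal_notMem (hdim : ringKrullDim A = 1) : maximalIdeal A ∉ minimalPrimes A := fun hmin => by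
  haveI : Ring.KrullDimLE 0 A := Ring.KrullDimLE.mk₀ fun I hI => by
    have : maximalIdeal A ≤ I := hmin.2 ⟨hI, bot_le⟩ (le_maximalIdeal hI.ne_top)
    rw [le_antisymm (le_maximalIdeal hI.ne_top) this]
    infer_instance
  have h := Ring.krullDimLE_iff.1 ‹Ring.KrullDimLE 0 A›
  rw [hdim] at h
  exact absurd h (by norm_num)

omit [IsNoetherianRing A] in
theorem mem_radical_iff (hd : ∀ (P : Ideal A) [P.IsPrime], P ∈ minimalPrimes A ∨ P = maximalIdeal A) {f : A}
    (hf : f ∈ maximalIdeal A) {I : Ideal A} (hI : ∀ p ∈ minimalPrimes A, ¬ I ≤ p) : f ∈ I.radical := by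
  rw [Ideal.radical_eq_sInf, Submodule.mem_sInf]
  rintro P ⟨hIP, hP⟩
  haveI := hP
  rcases hd P with h | h
  · exact absurd hIP (hI P h)
  · exact h ▸ hf

variable {f : A} (hdim : ringKrullDim A = 1) (hf : f ∈ maximalIdeal A) (h2 : ∀ p ∈ minimalPrimes A, f ∉ p)

include hdim hf in
theorem isUnit_away {w : A} (hw : ∀ p ∈ minimalPrimes A, w ∉ p) : IsUnit (algebraMap A (Localization.Away f) w) := by
  obtain ⟨n, hn⟩ := mem_radical_iff (prime_dichotomy hdim) hf (I := Ideal.span {w})
    (fun p hp h => hw p hp (h (Ideal.mem_span_singleton_self w)))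
  obtain ⟨c, hc⟩ := Ideal.mem_span_singleton'.1 hn
  have h := ((IsLocalization.Away.algebraMap_isUnit (S := Localization.Away f) f).pow n)
  rw [← map_pow, ← hc, map_mul] at h
  exact isUnit_of_mul_isUnit_right h

abbrev MinP (A : Type u) [CommRing A] := {p : PrimeSpectrum A // p.asIdeal ∈ minimalPrimes A}

include hdim hf h2 in
theorem bijective_pi (φ : Localization.Away f →ₐ[A] (∀ p : MinP A, Localization.AtPrime p.1.asIdeal)) :
    Function.Bijective φ := by
  classical
  haveI : Finite (MinP A) := by
    haveI := (minimalPrimes.finite_of_isNoetherianRing A).to_subtype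
    exact Finite.of_injective (fun p : MinP A => (⟨p.1.asIdeal, p.2⟩ : minimalPrimes A))
      fun p q h => Subtype.ext (PrimeSpectrum.ext (congrArg Subtype.val h))
  haveI := Fintype.ofFinite (MinP A)
  have hφ : ∀ a (p : MinP A), φ (algebraMap A _ a) p = algebraMap A _ a := fun a p => by rw [φ.commutes]; rfl
  constructor
  · rw [injective_iff_map_eq_zero]
    intro z hz
    obtain ⟨n, a, ha⟩ := IsLocalization.Away.surj f z
    have h0 : φ (algebraMap A _ a) = 0 := by rw [← ha, map_mul, hz, zero_mul]
    obtain ⟨N, hN⟩ := mem_radical_iff (prime_dichotomy hdim) hf (I := LinearMap.ker (LinearMap.toSpanSingleton A A a))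
      (fun q hq hle => by
        haveI := hq.1.1
        have h := congrFun h0 (⟨⟨q, inferInstance⟩, hq⟩ : MinP A)
        rw [hφ, Pi.zero_apply] at h
        obtain ⟨⟨c, hc⟩, hca⟩ := (IsLocalization.map_eq_zero_iff q.primeCompl _ _).1 h
        exact hc (hle (LinearMap.mem_ker.2 hca)))
    have h3 : f ^ N * a = 0 := LinearMap.mem_ker.1 hN
    have hu := (IsLocalization.Away.algebraMap_isUnit (S := Localization.Away f) f)
    apply ((hu.pow n).mul (hu.pow N)).mul_left_eq_zero.1
    rw [← mul_assoc, ha, ← map_pow, ← map_mul, mul_comm, h3, map_zero]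
  · intro y
    have hu : ∀ p : MinP A, ∃ u : A, u ∉ p.1.asIdeal ∧ ∀ q : MinP A, q ≠ p →
        algebraMap A (Localization.AtPrime q.1.asIdeal) u = 0 := by
      intro p
      have ht : ∀ q : MinP A, ∃ t : A, t ∉ p.1.asIdeal ∧ (q ≠ p → algebraMap A (Localization.AtPrime q.1.asIdeal) t = 0) := by
        intro q
        by_cases hqp : q = p
        · exact ⟨1, fun h => p.1.2.ne_top ((Ideal.eq_top_iff_one _).2 h), fun h => absurd hqp h⟩
        · obtain ⟨t, htq, htp⟩ := SetLike.not_le_iff_exists.1 fun hle : q.1.asIdeal ≤ p.1.asIdeal =>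
            hqp (Subtype.ext (PrimeSpectrum.ext (le_antisymm hle (p.2.2 ⟨q.1.2, bot_le⟩ hle))))
          haveI : Ring.KrullDimLE 0 (Localization.AtPrime q.1.asIdeal) := by
            refine Ring.KrullDimLE.mk₀ fun I hI => ?_
            have h1 : I.under A ≤ q.1.asIdeal :=
              ((IsLocalization.AtPrime.orderIsoOfPrime (Localization.AtPrime q.1.asIdeal) q.1.asIdeal) ⟨I, hI⟩).2.2
            haveI : (I.under A).IsPrime := Ideal.IsPrime.comap _
            have h2 : I.under A = q.1.asIdeal := le_antisymm h1 (q.2.2 ⟨inferInstance, bot_le⟩ h1)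
            rw [← IsLocalization.map_under q.1.asIdeal.primeCompl _ I, h2, Localization.AtPrime.map_eq_maximalIdeal]
            infer_instance
          obtain ⟨N, hN⟩ : IsNilpotent (algebraMap A (Localization.AtPrime q.1.asIdeal) t) := by
            rw [← mem_nilradical, nilradical_eq_sInf, Submodule.mem_sInf]
            intro (I : Ideal (Localization.AtPrime q.1.asIdeal)) hI
            replace hI : Ideal.IsPrime I := hI
            rw [IsLocalRing.eq_maximalIdeal (hI.isMaximal' : I.IsMaximal), ← Localization.AtPrime.map_eq_maximalIdeal]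
            exact Ideal.mem_map_of_mem _ htq
          exact ⟨t ^ N, fun h => htp (p.1.2.mem_of_pow_mem N h), fun _ => by rw [map_pow, hN]⟩
      choose t ht ht' using ht
      refine ⟨∏ q, t q, fun h => ?_, fun q hq => ?_⟩
      · obtain ⟨q, -, hq⟩ := (p.1.2.prod_mem_iff).1 h
        exact ht q hq
      · rw [map_prod]
        exact Finset.prod_eq_zero (Finset.mem_univ q) (ht' q hq)
    choose u hu hu' using hu
    have hsur : ∀ p, ∃ (a s : A), s ∉ p.1.asIdeal ∧ y p * algebraMap A _ s = algebraMap A _ a := fun p => by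
      obtain ⟨⟨a, s⟩, h⟩ := IsLocalization.surj p.1.asIdeal.primeCompl (y p)
      exact ⟨a, s, s.2, h⟩
    choose a s hs hys using hsur
    let w : A := ∑ p, s p * u p
    have hw' : ∀ q : MinP A, algebraMap A (Localization.AtPrime q.1.asIdeal) w =
        algebraMap A _ (s q) * algebraMap A _ (u q) := fun q => by
      rw [map_sum, Finset.sum_eq_single q (fun p _ hp => by rw [map_mul, hu' p q (Ne.symm hp), mul_zero]) (by simp),
        map_mul]
    have hwu : ∀ q : MinP A, IsUnit (algebraMap A (Localization.AtPrime q.1.asIdeal) w) := fun q => by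
      rw [hw']
      exact (IsLocalization.map_units (M := q.1.asIdeal.primeCompl) _ ⟨s q, hs q⟩).mul
        (IsLocalization.map_units (M := q.1.asIdeal.primeCompl) _ ⟨u q, hu q⟩)
    have hw : IsUnit (algebraMap A (Localization.Away f) w) := isUnit_away hdim hf fun q hq hmem => by
      haveI := hq.1.1
      exact ((IsLocalization.AtPrime.isUnit_to_map_iff (Localization.AtPrime q) q w).1 (hwu ⟨⟨q, inferInstance⟩, hq⟩))
        hmem
    obtain ⟨v, hv⟩ := hw.exists_left_inv
    refine ⟨v * algebraMap A _ (∑ p, a p * u p), funext fun q => (hwu q).mul_left_inj.1 ?_⟩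
    rw [map_mul, Pi.mul_apply, mul_right_comm, ← hφ w q, ← Pi.mul_apply, ← map_mul, hv, map_one, Pi.one_apply, one_mul,
      hφ, map_sum, Finset.sum_eq_single q (fun p _ hp => by rw [map_mul, hu' p q (Ne.symm hp), mul_zero]) (by simp),
      map_mul, ← hys, hφ, hw']
    ring

/-- Let (A, m) be a Noetherian local ring of dimension one and f ∈ m. Then (1) m = √(f), (2) f lies in
no minimal prime of A, and (3) A_f ≅ ∏_{p minimal} A_p as A-algebras, are equivalent; such an f
exists; if A has depth one, for instance if A is reduced, they are also equivalent to (4) f is a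
nonzerodivisor and to (5) A → A_f is the localization of A at all its nonzerodivisors; and if A is
reduced they are also equivalent to (6) A_f ≅ ∏_{p minimal} κ(p) as A-algebras. -/
theorem result (A : Type u) [CommRing A] [IsLocalRing A]
    [IsNoetherianRing A] (hdim : ringKrullDim A = 1) :
    (∃ f ∈ IsLocalRing.maximalIdeal A, ∀ p ∈ minimalPrimes A, f ∉ p) ∧
    ∀ f ∈ IsLocalRing.maximalIdeal A,
      ((IsLocalRing.maximalIdeal A = (Ideal.span {f}).radical) ↔ (∀ p ∈ minimalPrimes A, f ∉ p)) ∧
      ((∀ p ∈ minimalPrimes A, f ∉ p) ↔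
        Nonempty (Localization.Away f ≃ₐ[A] (∀ p : {p : PrimeSpectrum A // p.asIdeal ∈ minimalPrimes A}, Localization.AtPrime p.1.asIdeal))) ∧
      ((LocCoh.depth A A = 1 ∨ IsReduced A) →
        ((∀ p ∈ minimalPrimes A, f ∉ p) ↔ f ∈ nonZeroDivisors A) ∧
        ((∀ p ∈ minimalPrimes A, f ∉ p) ↔ IsLocalization (nonZeroDivisors A) (Localization.Away f))) ∧
      (IsReduced A →
        ((∀ p ∈ minimalPrimes A, f ∉ p) ↔
          Nonempty (Localization.Away f ≃ₐ[A] (∀ p : {p : PrimeSpectrum A // p.asIdeal ∈ minimalPrimes A}, p.1.asIdeal.ResidueField)))) := by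
  classical
  have hd := fun (P : Ideal A) [P.IsPrime] => prime_dichotomy hdim P
  have hne := maximalIdeal_notMem hdim
  have hex : ∃ f ∈ maximalIdeal A, ∀ p ∈ minimalPrimes A, f ∉ p := by
    by_contra hc
    push Not at hc
    obtain ⟨q, hq, hle⟩ := (Ideal.subset_union_prime_finite (minimalPrimes.finite_of_isNoetherianRing A) ⊥ ⊥
      (fun q hq _ _ => hq.1.1)).1 (fun x hx => by
        obtain ⟨p, hp, hxp⟩ := hc x hx
        exact Set.mem_biUnion hp hxp)
    exact hne ((le_antisymm hle (le_maximalIdeal hq.1.1.ne_top) : maximalIdeal A = q) ▸ hq)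
  refine ⟨hex, fun f hf => ?_⟩
  have hunitp : (∀ p ∈ minimalPrimes A, f ∉ p) → ∀ q : MinP A,
      IsUnit (algebraMap A (Localization.AtPrime q.1.asIdeal) f) := fun h q =>
    IsLocalization.map_units (M := q.1.asIdeal.primeCompl) _ ⟨f, h _ q.2⟩
  have h3 : (∀ p ∈ minimalPrimes A, f ∉ p) ↔
      Nonempty (Localization.Away f ≃ₐ[A] (∀ p : MinP A, Localization.AtPrime p.1.asIdeal)) := by
    constructor
    · intro h
      let φ : Localization.Away f →ₐ[A] (∀ p : MinP A, Localization.AtPrime p.1.asIdeal) :=
        IsLocalization.liftAlgHom (M := Submonoid.powers f)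
          (f := Algebra.ofId A (∀ p : MinP A, Localization.AtPrime p.1.asIdeal)) (by
            rintro ⟨_, n, rfl⟩
            exact Pi.isUnit_iff.2 fun q => by
              change IsUnit (algebraMap A (Localization.AtPrime q.1.asIdeal) (f ^ n))
              rw [map_pow]
              exact (hunitp h q).pow n)
      exact ⟨AlgEquiv.ofBijective φ (bijective_pi hdim hf h φ)⟩
    · rintro ⟨e⟩ p hp hfp
      haveI := hp.1.1
      have h1 := ((IsLocalization.Away.algebraMap_isUnit (S := Localization.Away f) f).map e)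
      rw [AlgEquiv.commutes] at h1
      exact (IsLocalization.AtPrime.isUnit_to_map_iff (Localization.AtPrime p) p f).1
        (Pi.isUnit_iff.1 h1 ⟨⟨p, inferInstance⟩, hp⟩) hfp
  refine ⟨⟨fun h p hp hfp => ?_, fun h => ?_⟩, h3, fun hred => ?_, fun hred => ?_⟩
  · haveI := hp.1.1
    have hle : maximalIdeal A ≤ p := by
      rw [h, Ideal.IsPrime.radical_le_iff inferInstance, Ideal.span_singleton_le_iff_mem]
      exact hfp
    exact hne ((le_antisymm hle (le_maximalIdeal hp.1.1.ne_top) : maximalIdeal A = p) ▸ hp)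
  · refine le_antisymm (fun x hx => ?_) ?_
    · exact mem_radical_iff (prime_dichotomy hdim) hx fun p hp hle => h p hp (hle (Ideal.mem_span_singleton_self f))
    · rw [(IsLocalRing.maximalIdeal.isMaximal A).isPrime.radical_le_iff, Ideal.span_singleton_le_iff_mem]
      exact hf
  · have hass : ¬ IsAssociatedPrime (maximalIdeal A) A := by
      rcases hred with h | h
      · exact AssPointLib.one_le_depth_iff.1 h.ge
      · intro hassm
        obtain ⟨-, y, hy⟩ := isAssociatedPrime_iff.1 hassm
        have hmem : y ∈ maximalIdeal A := by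
          by_contra hn
          rw [mem_maximalIdeal, mem_nonunits_iff, not_not] at hn
          have h0 : maximalIdeal A = ⊥ := by
            rw [hy, eq_bot_iff]
            intro z hz
            simpa [hn.mul_left_eq_zero] using hz
          exact hne (h0 ▸ ⟨⟨h0 ▸ inferInstance, le_rfl⟩, fun q hq _ => bot_le⟩)
        rw [hy] at hmem
        have hyy : y * y = 0 := by simpa using hmem
        have hy0 : y = 0 := by
          refine h.eq_zero y ⟨2, ?_⟩
          rw [pow_two, hyy]
        subst hy0
        exact (IsLocalRing.maximalIdeal.isMaximal A).ne_top (by rw [hy]; simp)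
    have hnzd : ∀ {w : A}, (∀ p ∈ minimalPrimes A, w ∉ p) → w ∈ nonZeroDivisors A := by
      intro w hw
      by_contra hc
      have hm : w ∈ (⋃ p ∈ associatedPrimes A A, (p : Set A)) := by
        rw [biUnion_associatedPrimes_eq_compl_regular]
        exact fun hreg => hc (mem_nonZeroDivisors_iff_right.2 fun z hz => hreg (show w * z = w * 0 by
          rw [mul_zero, mul_comm, hz]))
      simp only [Set.mem_iUnion] at hm
      obtain ⟨q, hq, hwq⟩ := hm
      haveI := hq.isPrime
      rcases hd q with h | h
      · exact hw q h hwq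
      · exact hass (h ▸ hq)
    have hnzd' : ∀ {w : A}, w ∈ nonZeroDivisors A → ∀ p ∈ minimalPrimes A, w ∉ p := fun {w} hw p hp hwp =>
      notMem_nonZeroDivisors_of_mem_mem_minimalPrimes hwp hp hw
    refine ⟨⟨hnzd, hnzd'⟩, fun h => ?_, fun h p hp hfp => ?_⟩
    · exact IsLocalization.isLocalization_of_is_exists_mul_mem (Localization.Away f) (Submonoid.powers f) _
        (Submonoid.powers_le.2 (hnzd h)) (fun ⟨w, hw⟩ => by
          obtain ⟨n, hn⟩ := mem_radical_iff (prime_dichotomy hdim) hf (I := Ideal.span {w})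
            (fun q hq hle => hnzd' hw q hq (hle (Ideal.mem_span_singleton_self w)))
          obtain ⟨c, hc⟩ := Ideal.mem_span_singleton'.1 hn
          exact ⟨c, hc ▸ ⟨n, rfl⟩⟩)
    · haveI := h
      haveI := hp.1.1
      have hd' : Disjoint (nonZeroDivisors A : Set A) p :=
        (Ideal.disjoint_nonZeroDivisors_of_mem_minimalPrimes hp).symm
      have hP := IsLocalization.isPrime_of_isPrime_disjoint (nonZeroDivisors A) (Localization.Away f) p inferInstance hd'
      exact hP.ne_top (Ideal.eq_top_of_isUnit_mem _ (Ideal.mem_map_of_mem _ hfp)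
        (IsLocalization.Away.algebraMap_isUnit (S := Localization.Away f) f))
  · constructor
    · intro h
      obtain ⟨e⟩ := h3.1 h
      haveI := hred
      have hb : ∀ q : MinP A, Function.Bijective
          (IsScalarTower.toAlgHom A (Localization.AtPrime q.1.asIdeal) q.1.asIdeal.ResidueField) := fun q => by
        refine ⟨?_, residue_surjective⟩
        rw [injective_iff_map_eq_zero]
        intro x hx
        haveI : IsReduced (Localization.AtPrime q.1.asIdeal) := inferInstance
        have hx' : x ∈ maximalIdeal (Localization.AtPrime q.1.asIdeal) := (residue_eq_zero_iff x).1 hx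
        refine (isNilpotent_iff_eq_zero).1 ?_
        rw [← mem_nilradical, nilradical_eq_sInf, Submodule.mem_sInf]
        intro (I : Ideal (Localization.AtPrime q.1.asIdeal)) hI
        replace hI : Ideal.IsPrime I := hI
        have h1 : I.under A ≤ q.1.asIdeal :=
          ((IsLocalization.AtPrime.orderIsoOfPrime (Localization.AtPrime q.1.asIdeal) q.1.asIdeal) ⟨I, hI⟩).2.2
        haveI : (I.under A).IsPrime := Ideal.IsPrime.comap _
        rw [← IsLocalization.map_under q.1.asIdeal.primeCompl _ I,
          show I.under A = q.1.asIdeal from le_antisymm h1 (q.2.2 ⟨inferInstance, bot_le⟩ h1),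
          Localization.AtPrime.map_eq_maximalIdeal]
        exact hx'
      exact ⟨e.trans (AlgEquiv.piCongrRight fun q => AlgEquiv.ofBijective _ (hb q))⟩
    · rintro ⟨e⟩ p hp hfp
      haveI := hp.1.1
      have h1 := ((IsLocalization.Away.algebraMap_isUnit (S := Localization.Away f) f).map e)
      rw [AlgEquiv.commutes] at h1
      refine (Pi.isUnit_iff.1 h1 ⟨⟨p, inferInstance⟩, hp⟩).ne_zero ?_
      exact Ideal.algebraMap_residueField_eq_zero.2 hfp

end Groth.Agent.S7651
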