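import Groth.Statements.S7653
import Groth.Agent.S7652
import Mathlib.RingTheory.DedekindDomain.Dvr
import Mathlib.RingTheory.DiscreteValuationRing.TFAE

set_option autoImplicit false
universe u
open CategoryTheory CategoryTheory.Limits AlgebraicGeometry
open Variety

namespace Groth.Agent.S7653

/-- For a reduced local Nagata ring A of Krull dimension one, the δ-invariant of A is zero exactly when
A is a DVR (in particular a domain). -/
theorem result (A : Type u) [CommRing A] [IsLocalRing A]
    [IsReduced A] (hN : CAlg.IsNagata A) (hdim : ringKrullDim A = 1) :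
    Curv2.deltaInv A = 0 ↔ ∃ _ : IsDomain A, IsDiscreteValuationRing A := by
  classical
  obtain ⟨hfin, hnorm, -⟩ := S7652.result A hN hdim
  haveI := hN.1
  rw [Curv2.deltaInv, Module.length_eq_zero_iff, Submodule.Quotient.subsingleton_iff, LinearMap.range_eq_top]
  constructor
  · intro hs
    have hinj : Function.Injective (algebraMap A (integralClosure A (FractionRing A))) := fun a b h =>
      IsFractionRing.injective A (FractionRing A) (congrArg Subtype.val h)
    let e := RingEquiv.ofBijective (algebraMap A (integralClosure A (FractionRing A))) ⟨hinj, hs⟩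
    obtain ⟨hD, hI⟩ := hnorm ⟨(IsLocalRing.maximalIdeal A).comap e.symm.toRingHom, inferInstance⟩
    let f : A ≃+* Localization.AtPrime ((IsLocalRing.maximalIdeal A).comap e.symm.toRingHom) :=
      e.trans (IsLocalization.atUnits _ ((IsLocalRing.maximalIdeal A).comap e.symm.toRingHom).primeCompl (fun y hy => by
        have h1 : IsUnit (e.symm y) := not_not.1 fun hn => hy ((IsLocalRing.mem_maximalIdeal _).2 hn)
        exact (by simpa using h1.map e : IsUnit y))).toRingEquiv
    haveI : IsDomain A := f.toMulEquiv.isDomain _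
    haveI : IsIntegrallyClosed A := IsIntegrallyClosed.of_equiv (R := Localization.AtPrime ((IsLocalRing.maximalIdeal A).comap e.symm.toRingHom)) f.symm
    haveI : Ring.KrullDimLE 1 A := Ring.krullDimLE_iff.2 (le_of_eq hdim)
    have hnf : ¬ IsField A := fun hf => by
      have h0 := ringKrullDim_eq_zero_of_isField hf
      rw [hdim] at h0
      exact absurd h0 one_ne_zero
    have htfae : IsDiscreteValuationRing A ↔ (IsIntegrallyClosed A ∧ ∃! P : Ideal A, P ≠ ⊥ ∧ P.IsPrime) :=
      (IsDiscreteValuationRing.TFAE A hnf).out 0 3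
    refine ⟨inferInstance, htfae.2 ⟨inferInstance,
      IsLocalRing.maximalIdeal A, ⟨fun h => hnf (IsLocalRing.isField_iff_maximalIdeal_eq.2 h), inferInstance⟩,
      fun P hP => ?_⟩⟩
    exact IsLocalRing.eq_maximalIdeal (hP.2.isMaximal_of_ne_bot hP.1)
  · rintro ⟨hd, hdvr⟩ x
    obtain ⟨a, ha⟩ := IsIntegrallyClosed.isIntegral_iff.1 x.2
    exact ⟨a, Subtype.ext ha⟩

end Groth.Agent.S7653
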