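import Groth.Statements.S7655
import Groth.Agent.S7652
import Mathlib.LinearAlgebra.FreeModule.Finite.Matrix
import Mathlib.RingTheory.Length

set_option autoImplicit false
universe u
open CategoryTheory CategoryTheory.Limits AlgebraicGeometry
open Variety

namespace Groth.Agent.S7655
open IsLocalRing

theorem card_algHom_le {A : Type u} [CommRing A] [IsLocalRing A] (C : Type u) [CommRing C] [Algebra A C]
    [Module.Finite A C] (K : Type u) [Field K] [Algebra (ResidueField A) K] [Algebra A K]
    [IsScalarTower A (ResidueField A) K] :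
    ENat.card (C →ₐ[A] K) ≤
      Module.length A (C ⧸ LinearMap.range (Algebra.linearMap A C)) + 1 := by
  let Cb := C ⧸ (maximalIdeal A).map (algebraMap A C)
  letI : Algebra (ResidueField A) Cb :=
    (inferInstance : Algebra (A ⧸ maximalIdeal A) (C ⧸ (maximalIdeal A).map (algebraMap A C)))
  haveI : IsScalarTower A (ResidueField A) Cb := IsScalarTower.of_algebraMap_eq fun _ => rfl
  haveI : Module.Finite (ResidueField A) Cb := Module.Finite.of_restrictScalars_finite A _ _
  have hker : ∀ f : C →ₐ[A] K, ∀ c ∈ (maximalIdeal A).map (algebraMap A C), f c = 0 := by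
    intro f
    suffices h : (maximalIdeal A).map (algebraMap A C) ≤ RingHom.ker f from fun c hc => h hc
    rw [Ideal.map_le_iff_le_comap]
    intro x hx
    rw [Ideal.mem_comap, RingHom.mem_ker, f.commutes, IsScalarTower.algebraMap_apply A (ResidueField A) K,
      ResidueField.algebraMap_eq, (residue_eq_zero_iff x).2 hx, map_zero]
  let F : (C →ₐ[A] K) → (Cb →ₐ[ResidueField A] K) := fun f =>
    { Ideal.Quotient.lift _ (f : C →+* K) (hker f) with
      commutes' := fun r => by
        obtain ⟨a, rfl⟩ := residue_surjective r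
        exact (f.commutes a).trans (IsScalarTower.algebraMap_apply A (ResidueField A) K a) }
  have hF : Function.Injective F := fun f g h => AlgHom.ext fun c =>
    DFunLike.congr_fun h (Ideal.Quotient.mk _ c)
  haveI : Finite (Cb →ₐ[ResidueField A] K) := inferInstance
  haveI : Finite (C →ₐ[A] K) := Finite.of_injective F hF
  have h1 : Nat.card (C →ₐ[A] K) ≤ Module.finrank (ResidueField A) Cb :=
    (Nat.card_le_card_of_injective F hF).trans (card_algHom_le_finrank _ _ _)
  rw [ENat.card_eq_coe_natCard]
  refine (Nat.cast_le.2 h1).trans ?_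
  rw [← Module.length_eq_finrank, ← Module.length_eq_of_surjective (S := A) residue_surjective]
  let f : ResidueField A →ₗ[A] Cb := (IsScalarTower.toAlgHom A (ResidueField A) Cb).toLinearMap
  let Q := Cb ⧸ LinearMap.range f
  have hsum := Module.length_eq_add_of_exact (LinearMap.range f).subtype (LinearMap.range f).mkQ
    Subtype.val_injective (Submodule.mkQ_surjective _) (LinearMap.exact_subtype_mkQ _)
  have h2 : Module.length A (LinearMap.range f) ≤ 1 := by
    refine (Module.length_le_of_surjective f.rangeRestrict f.surjective_rangeRestrict).trans_eq ?_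
    rw [Module.length_eq_of_surjective (S := A) residue_surjective]
    exact Module.length_eq_one _ _
  have h3 : Module.length A Q ≤ Module.length A (C ⧸ LinearMap.range (Algebra.linearMap A C)) := by
    let g : C →ₗ[A] Q := (LinearMap.range f).mkQ ∘ₗ (Ideal.Quotient.mkₐ A _).toLinearMap
    have hg : LinearMap.range (Algebra.linearMap A C) ≤ LinearMap.ker g := by
      rintro _ ⟨a, rfl⟩
      exact (Submodule.Quotient.mk_eq_zero _).2 ⟨residue A a, rfl⟩
    refine Module.length_le_of_surjective (Submodule.liftQ _ g hg) fun z => ?_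
    obtain ⟨z, rfl⟩ := Submodule.mkQ_surjective _ z
    obtain ⟨c, rfl⟩ := Ideal.Quotient.mk_surjective z
    exact ⟨Submodule.Quotient.mk c, rfl⟩
  rw [hsum, add_comm (Module.length A (C ⧸ _))]
  exact add_le_add h2 h3

/-- Let (A, m) be a reduced Nagata local ring of dimension one. Then the δ-invariant of A is at least
the number of geometric branches of A minus one. -/
theorem result (A : Type u) [CommRing A] [IsLocalRing A]
    [IsReduced A] (hN : CAlg.IsNagata A) (hdim : ringKrullDim A = 1) :
    Brnch.numGeomBranches A ≤ Curv2.deltaInv A + 1 := by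
  classical
  haveI := hN.1
  haveI := (S7652.result A hN hdim).1
  haveI : Nontrivial A := inferInstance
  have hbij : Function.Bijective (Ideal.Quotient.mk (nilradical A)) :=
    ⟨(RingHom.injective_iff_ker_eq_bot _).2 (by rw [Ideal.mk_ker, nilradical_eq_zero]; rfl),
      Ideal.Quotient.mk_surjective⟩
  haveI : IsFractionRing A (FractionRing (CAlg2.red A)) := by
    constructor
    constructor
    · rintro ⟨y, hy⟩
      rw [IsScalarTower.algebraMap_apply A (CAlg2.red A)]
      refine IsLocalization.map_units (M := nonZeroDivisors (CAlg2.red A)) _ ⟨_, ?_⟩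
      rw [mem_nonZeroDivisors_iff_right] at hy ⊢
      intro z hz
      obtain ⟨z, rfl⟩ := hbij.2 z
      have : z * y = 0 := hbij.1 (by rw [map_mul, map_zero]; exact hz)
      rw [hy z this, map_zero]
    · intro z
      obtain ⟨⟨a, s⟩, h⟩ := IsLocalization.surj (nonZeroDivisors (CAlg2.red A)) z
      obtain ⟨a, rfl⟩ := hbij.2 a
      obtain ⟨t, ht⟩ := hbij.2 s
      have ht' : t ∈ nonZeroDivisors A := by
        rw [mem_nonZeroDivisors_iff_right]
        intro w hw
        refine hbij.1 ((mem_nonZeroDivisors_iff_right.1 s.2 _ ?_).trans (map_zero _).symm)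
        rw [← ht, ← map_mul, hw, map_zero]
      refine ⟨(a, ⟨t, ht'⟩), ?_⟩
      rw [IsScalarTower.algebraMap_apply A (CAlg2.red A), IsScalarTower.algebraMap_apply A (CAlg2.red A)]
      change z * algebraMap (CAlg2.red A) _ (Ideal.Quotient.mk _ t) = _
      rw [ht]
      exact h
    · intro x y h
      rw [IsScalarTower.algebraMap_apply A (CAlg2.red A), IsScalarTower.algebraMap_apply A (CAlg2.red A)] at h
      exact ⟨1, congrArg _ (hbij.1 (IsFractionRing.injective (CAlg2.red A) _ h))⟩
  let e : FractionRing A ≃ₐ[A] FractionRing (CAlg2.red A) := IsLocalization.algEquiv (nonZeroDivisors A) _ _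
  let ψ : ↥(integralClosure A (FractionRing A)) ≃ₐ[A] CAlg2.normRed A :=
    { toFun := fun x => ⟨e x.1, IsIntegral.tower_top (R := A) (x.2.map e.toAlgHom)⟩
      invFun := fun x => ⟨e.symm x.1, (isIntegral_trans (A := CAlg2.red A) x.1 x.2).map e.symm.toAlgHom⟩
      left_inv := fun x => Subtype.ext (e.symm_apply_apply _)
      right_inv := fun x => Subtype.ext (e.apply_symm_apply _)
      map_mul' := fun x y => Subtype.ext (map_mul e _ _)
      map_add' := fun x y => Subtype.ext (map_add e _ _)
      commutes' := fun r => Subtype.ext (e.commutes r) }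
  haveI : Module.Finite A (CAlg2.normRed A) := Module.Finite.equiv ψ.toLinearEquiv
  haveI : IsScalarTower A (ResidueField A) (AlgebraicClosure (ResidueField A)) := inferInstance
  let G : (Σ m : MaximalSpectrum (CAlg2.normRed A), Brnch.Emb A m) →
      (CAlg2.normRed A →ₐ[A] AlgebraicClosure (ResidueField A)) := fun p =>
    { p.2.1.comp (Ideal.Quotient.mk p.1.asIdeal) with
      commutes' := fun a => by
        show p.2.1 (Brnch.toResidue A p.1 a) = _
        exact (DFunLike.congr_fun p.2.2 a).trans
          (IsScalarTower.algebraMap_apply A (ResidueField A) (AlgebraicClosure (ResidueField A)) a).symm }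
  have hG : Function.Injective G := by
    rintro ⟨m, σ⟩ ⟨m', σ'⟩ h
    have hm : ∀ (n : MaximalSpectrum (CAlg2.normRed A)) (τ : Brnch.Emb A n),
        RingHom.ker (G ⟨n, τ⟩) = n.asIdeal := fun n τ => by
      haveI := n.isMaximal
      letI := Ideal.Quotient.field n.asIdeal
      ext x
      rw [RingHom.mem_ker]
      change τ.1 (Ideal.Quotient.mk n.asIdeal x) = 0 ↔ _
      rw [map_eq_zero, Ideal.Quotient.eq_zero_iff_mem]
    obtain rfl : m = m' := MaximalSpectrum.ext ((hm m σ).symm.trans ((congrArg RingHom.ker h).trans (hm m' σ')))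
    have : σ.1 = σ'.1 := Ideal.Quotient.ringHom_ext (RingHom.ext fun x => DFunLike.congr_fun h x)
    rw [Subtype.ext this]
  rw [Brnch.numGeomBranches, if_pos (minimalPrimes.finite_of_isNoetherianRing A)]
  refine (ENat.card_le_card_of_injective hG).trans ((card_algHom_le (CAlg2.normRed A) _).trans ?_)
  refine add_le_add (le_of_eq ?_) le_rfl
  rw [Curv2.deltaInv]
  refine (Submodule.Quotient.equiv _ _ ψ.toLinearEquiv ?_).length_eq.symm
  ext x
  simp only [Submodule.mem_map, LinearMap.mem_range]
  constructor
  · rintro ⟨_, ⟨a, rfl⟩, rfl⟩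
    exact ⟨a, (ψ.commutes a).symm⟩
  · rintro ⟨a, rfl⟩
    exact ⟨_, ⟨a, rfl⟩, ψ.commutes a⟩

end Groth.Agent.S7655
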