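import Groth.Statements.S7656
import Groth.Agent.HenselBranchLib.FieldBCBranch
import Groth.Agent.GeomRedFieldLib.Locus
-- import your own Groth.Agent.* helpers here

set_option autoImplicit false
universe u
open CategoryTheory CategoryTheory.Limits AlgebraicGeometry
open Variety TensorProduct

namespace Groth.Agent.S7656

/-- For X locally of finite type over a field k, a field extension K/k and a point y of X_K over x ∈ X,
the local rings of X at x and of X_K at y have the same number of geometric branches. -/
theorem result (k : Type u) [Field k] (X : Scheme.{u}) [X.Over (Spec (CommRingCat.of k))]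
    [LocallyOfFiniteType (X ↘ (Spec (CommRingCat.of k)))] (K : Type u) [Field K] [Algebra k K]
    (y : ↥(Curv2.bc k X K)) :
    Brnch.numGeomBranchesAt X ((Curv2.bcFst k X K).base y) =
      Brnch.numGeomBranchesAt (Curv2.bc k X K) y := by
  let f : X ⟶ Spec (CommRingCat.of k) := X ↘ Spec (CommRingCat.of k)
  let g : Spec (CommRingCat.of K) ⟶ Spec (CommRingCat.of k) := Spec.map (CommRingCat.ofHom (algebraMap k K))
  let x : X := (Curv2.bcFst k X K).base y
  letI := Curv2.stalkAlgebra k X x
  let R := X.presheaf.stalk x
  have hR : X.fromSpecStalk x ≫ f = GeomRedFieldLib.str k R := GeomRedFieldLib.fromSpecStalk_comp_over X x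
  haveI := AlgSpLib.flat_fromSpecStalk x
  let m : pullback (GeomRedFieldLib.str k R) g ⟶ Curv2.bc k X K :=
    pullback.map _ _ f g (X.fromSpecStalk x) (𝟙 _) (𝟙 _) (by rw [Category.comp_id]; exact hR.symm)
      (by rw [Category.comp_id, Category.id_comp])
  have sq : IsPullback m (pullback.fst (GeomRedFieldLib.str k R) g) (pullback.fst f g) (X.fromSpecStalk x) := by
    refine (IsPullback.of_bot (v₂₁ := pullback.snd f g) (h₃₁ := g) (v₂₂ := f) ?_
      (pullback.lift_fst _ _ _).symm (IsPullback.of_hasPullback f g)).flip
    rw [show m ≫ pullback.snd f g = pullback.snd (GeomRedFieldLib.str k R) g from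
      (pullback.lift_snd _ _ _).trans (Category.comp_id _), hR]
    exact IsPullback.of_hasPullback (GeomRedFieldLib.str k R) g
  haveI : Flat m := MorphismProperty.of_isPullback sq.flip ‹_›
  haveI : IsPreimmersion m := MorphismProperty.of_isPullback sq.flip inferInstance
  obtain ⟨v, hv, hv'⟩ := Scheme.exists_preimage_of_isPullback sq y (IsLocalRing.closedPoint _)
    Scheme.fromSpecStalk_closedPoint.symm
  let e := pullbackSpecIso k R K
  let Q : PrimeSpectrum (R ⊗[k] K) := e.hom v
  have hQ : Q.asIdeal.comap (algebraMap R (R ⊗[k] K)) = IsLocalRing.maximalIdeal R := by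
    have h1 : Spec.map (CommRingCat.ofHom (algebraMap R (R ⊗[k] K))) (e.hom v) = IsLocalRing.closedPoint R := by
      rw [← Scheme.Hom.comp_apply, pullbackSpecIso_hom_fst]
      exact hv'
    exact congrArg PrimeSpectrum.asIdeal h1
  rw [Brnch.numGeomBranchesAt, Brnch.numGeomBranchesAt,
    HenselBranchLib.numGeomBranches_tensor_field k R K Q.asIdeal hQ]
  exact (HenselBranchLib.numGeomBranches_congr
    (((Spec.stalkIso (CommRingCat.of (R ⊗[k] K)) (e.hom v)).commRingCatIsoToRingEquiv.symm).trans
      (((RingEquiv.ofBijective (e.hom.stalkMap v).hom (SweepSix.FieldsRed.isIso_stalkMap e.hom v)).trans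
        (RingEquiv.ofBijective (m.stalkMap v).hom (SweepSix.FieldsRed.isIso_stalkMap m v)).symm).trans
          ((Curv2.bc k X K).presheaf.stalkCongr (.of_eq hv)).commRingCatIsoToRingEquiv)))

end Groth.Agent.S7656
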