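import Groth.Statements.S7657
import Groth.Agent.NormDimOneLib.Chart
import Groth.Agent.BranchLib.Local
import Groth.Agent.BranchLib.Card

set_option autoImplicit false
universe u
open CategoryTheory CategoryTheory.Limits AlgebraicGeometry
open Variety

namespace Groth.Agent.S7657

/-- For an integral scheme X with normalization ν : X^ν → X and a point x: (1) X has as many branches at
x as there are points of X^ν lying over x; (2) counted geometrically, the branches of X at x number
Σ_{ν(x') = x} [κ(x') : κ(x)]_s, the separable degree being counted as the number of κ(x)-embeddings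
of κ(x') into an algebraic closure. (The published statement allows any scheme each of whose
quasi-compact opens meets only finitely many irreducible components; this row takes X integral.) -/
theorem result (X : Scheme.{u}) [IsIntegral X]
    [QuasiCompact (X.fromSpecStalk (genericPoint X))] [QuasiSeparated (X.fromSpecStalk (genericPoint X))]
    (x : X) :
    Brnch.numBranchesAt X x =
        ENat.card {x' : ↥(Curv2.normalization X) // (Curv2.normalizationι X).base x' = x} ∧
      Brnch.numGeomBranchesAt X x =
        ∑' x' : {x' : ↥(Curv2.normalization X) // (Curv2.normalizationι X).base x' = x},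
          (letI := ((Curv2.normalizationι X).residueFieldMap x'.1).hom.toAlgebra
           ENat.card (Field.Emb (X.residueField ((Curv2.normalizationι X).base x'.1))
             ((Curv2.normalization X).residueField x'.1))) := by
  classical
  haveI : IsIntegral (Curv2.normalization X) :=
    inferInstanceAs (IsIntegral (X.fromSpecStalk (genericPoint X)).normalization)
  haveI hint : IsIntegralHom (Curv2.normalizationι X) :=
    inferInstanceAs (IsIntegralHom (X.fromSpecStalk (genericPoint X)).fromNormalization)
  set ι := Curv2.normalizationι X with hι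
  obtain ⟨U₀, hU₀, hxU, -⟩ := exists_isAffineOpen_mem_and_subset (x := x) (U := ⊤) trivial
  obtain ⟨U, rfl⟩ : ∃ U : X.affineOpens, U.1 = U₀ := ⟨⟨U₀, hU₀⟩, rfl⟩
  haveI : Nonempty U.1 := ⟨⟨x, hxU⟩⟩
  obtain ⟨ψ, hψ, hψa, -, hrange⟩ := NormDimOneLib.exists_chart X U
  let W : (Curv2.normalization X).affineOpens := ⟨ι ⁻¹ᵁ U.1, U.2.preimage ι⟩
  letI := X.presheaf.algebra_section_stalk (⟨x, hxU⟩ : U.1)
  haveI : IsLocalization.AtPrime (X.presheaf.stalk x) (SDivLib.prm U hxU) := U.2.isLocalization_stalk ⟨x, hxU⟩
  letI : Algebra Γ(X, U.1) Γ(Curv2.normalization X, W.1) := (ι.app U.1).hom.toAlgebra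
  letI : Algebra Γ(X, U.1) X.functionField := (X.germToFunctionField U.1).hom.toAlgebra
  haveI : IsScalarTower Γ(X, U.1) (X.presheaf.stalk x) X.functionField :=
    functionField_isScalarTower X U.1 (⟨x, hxU⟩ : U.1)
  obtain ⟨p, hp⟩ := BranchLib.exists_equiv (A := X.presheaf.stalk x) X.functionField (SDivLib.prm U hxU) ψ hψ hψa
    ⟨ι.isIntegral_app U.1 U.2⟩ hrange
  have hprm : ∀ (x' : ↥(Curv2.normalization X)) (hx : ι x' ∈ U.1),
      (SDivLib.prm W (x := x') hx).comap (ι.app U.1).hom = SDivLib.prm U hx := by
    intro x' hx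
    rw [Scheme.Hom.app_eq_appLE]
    exact congrArg PrimeSpectrum.asIdeal (IsAffineOpen.comap_primeIdealOf_appLE U.1 U.2 _ (U.2.preimage ι) le_rfl hx)
  have hfibmem : ∀ x' : {x' : ↥(Curv2.normalization X) // ι.base x' = x}, x'.1 ∈ W.1 := fun x' =>
    show ι x'.1 ∈ U.1 from x'.2.symm ▸ hxU
  have hfibprm : ∀ x' : {x' : ↥(Curv2.normalization X) // ι.base x' = x},
      (SDivLib.prm W (hfibmem x')).comap (ι.app U.1).hom = SDivLib.prm U hxU := by
    rintro ⟨x', rfl⟩
    exact hprm x' hxU
  let q : {x' : ↥(Curv2.normalization X) // ι.base x' = x} ≃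
      {Q : Ideal Γ(Curv2.normalization X, W.1) // Q.IsPrime ∧ Q.comap (ι.app U.1).hom = SDivLib.prm U hxU} :=
    Equiv.ofBijective (fun x' => ⟨SDivLib.prm W (hfibmem x'), SDivLib.prm_isPrime _ _, hfibprm x'⟩) ⟨fun a b h => by
      have h1 := congrArg Subtype.val h
      exact Subtype.ext (((SDivLib.specializes_iff_prm W (hfibmem b) (hfibmem a)).2 h1.le).antisymm
        ((SDivLib.specializes_iff_prm W (hfibmem a) (hfibmem b)).2 h1.ge)).eq, fun Q => by
      have := Q.2.1
      obtain ⟨x', hx', hQ⟩ := SDivLib.exists_point W Q.1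
      have hx'' : ι x' ∈ U.1 := hx'
      have h1 : SDivLib.prm U hx'' = SDivLib.prm U hxU := by
        rw [← hprm x' hx'', ← Q.2.2]
        exact congrArg (Ideal.comap (ι.app U.1).hom) hQ
      exact ⟨⟨x', (((SDivLib.specializes_iff_prm U hxU hx'').2 h1.le).antisymm
        ((SDivLib.specializes_iff_prm U hx'' hxU).2 h1.ge)).eq⟩, Subtype.ext hQ⟩⟩
  have hmin : (minimalPrimes (X.presheaf.stalk x)).Finite := by
    rw [IsDomain.minimalPrimes_eq_singleton_bot]
    exact Set.finite_singleton _
  refine ⟨?_, ?_⟩
  · rw [Brnch.numBranchesAt, Brnch.numBranches, if_pos hmin]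
    exact (ENat.card_congr (q.trans p)).symm
  · have hE : ∀ x' : {x' : ↥(Curv2.normalization X) // ι.base x' = x},
        (letI := (ι.residueFieldMap x'.1).hom.toAlgebra
         Nonempty (Field.Emb (X.residueField (ι.base x'.1)) ((Curv2.normalization X).residueField x'.1) ≃
          Brnch.Emb (X.presheaf.stalk x) (p (q x')))) := by
      rintro ⟨x', rfl⟩
      letI := (ι.residueFieldMap x').hom.toAlgebra
      letI : Algebra (IsLocalRing.ResidueField (X.presheaf.stalk (ι x'))) ((Curv2.normalization X).residueField x') :=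
        (ι.residueFieldMap x').hom.toAlgebra
      have hx' : x' ∈ W.1 := hxU
      haveI : (SDivLib.prm W hx').IsPrime := SDivLib.prm_isPrime _ _
      let φ : Γ(Curv2.normalization X, W.1) →+* (Curv2.normalization X).residueField x' :=
        ((Curv2.normalization X).evaluation W.1 x' hx').hom
      have hzero : ∀ b, φ b = 0 ↔ b ∈ SDivLib.prm W hx' := fun b => by
        rw [SDivLib.mem_prm_iff, ← mem_nonunits_iff, ← IsLocalRing.mem_maximalIdeal, ← IsLocalRing.residue_eq_zero_iff]
        rfl
      refine (hp (q ⟨x', rfl⟩) ((Curv2.normalization X).residueField x') φ (Ideal.ext fun b => RingHom.mem_ker.trans (hzero b))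
        (fun y => ?_) (fun r => Scheme.evaluation_naturality_apply ι x' hxU r)).map Equiv.symm
      obtain ⟨z, rfl⟩ : ∃ z, ((Curv2.normalization X).residue x').hom z = y :=
        IsLocalRing.residue_surjective (R := (Curv2.normalization X).presheaf.stalk x') y
      letI := (Curv2.normalization X).presheaf.algebra_section_stalk (⟨x', hx'⟩ : W.1)
      haveI : IsLocalization.AtPrime ((Curv2.normalization X).presheaf.stalk x') (SDivLib.prm W hx') :=
        W.2.isLocalization_stalk ⟨x', hx'⟩
      obtain ⟨⟨b, t⟩, hbt⟩ := IsLocalization.surj (SDivLib.prm W hx').primeCompl z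
      have hne : φ t ≠ 0 := fun h => t.2 ((hzero _).1 h)
      refine ⟨b, t, hne, (eq_div_iff hne).2 ?_⟩
      exact (map_mul ((Curv2.normalization X).residue x').hom _ _).symm.trans (congrArg _ hbt)
    rw [Brnch.numGeomBranchesAt, Brnch.numGeomBranches, if_pos hmin, ← BranchLib.enat_card_sigma]
    exact (ENat.card_congr (Equiv.sigmaCongr (q.trans p) fun x' => (hE x').some)).symm

end Groth.Agent.S7657
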