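import Groth.Statements.S7658


set_option autoImplicit false
universe u
open CategoryTheory CategoryTheory.Limits AlgebraicGeometry
open Variety

namespace Groth.Agent.S7658

/-- A separated morphism of schemes f : X → Y such that X has an open covering on whose members f
restricts to open immersions, and such that no two distinct generic points of irreducible components
of X have the same image under f, is an open immersion. -/
theorem result {X Y : Scheme.{u}}
    (f : X ⟶ Y) [IsSeparated f]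
    (hloc : ∀ x : X, ∃ U : X.Opens, x ∈ U ∧ IsOpenImmersion (U.ι ≫ f))
    (hinj : ∀ ξ ξ' : X, closure ({ξ} : Set X) ∈ irreducibleComponents (X : Type u) → closure ({ξ'} : Set X) ∈ irreducibleComponents (X : Type u) →
      f.base ξ = f.base ξ' → ξ = ξ') :
    IsOpenImmersion f := by
  choose U hU hfU using hloc
  refine IsOpenImmersion.of_forall_source_exists f ?_ fun x =>
    ⟨U x, (U x).ι, inferInstance, by rw [Scheme.Opens.opensRange_ι]; exact hU x, hfU x⟩
  intro x₁ x₂ he
  haveI := hfU x₁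
  haveI := hfU x₂
  let j₁ := (U x₁).ι ≫ f
  let j₂ := (U x₂).ι ≫ f
  obtain ⟨p, hp₁, hp₂⟩ := Scheme.Pullback.exists_preimage_pullback (f := (U x₁).ι ≫ f) (g := (U x₂).ι ≫ f)
    ⟨x₁, hU x₁⟩ ⟨x₂, hU x₂⟩ (by
      rw [Scheme.Hom.comp_apply, Scheme.Hom.comp_apply]; exact he)
  let a := pullback.fst ((U x₁).ι ≫ f) ((U x₂).ι ≫ f)
  let b := pullback.snd ((U x₁).ι ≫ f) ((U x₂).ι ≫ f)
  let m : pullback ((U x₁).ι ≫ f) ((U x₂).ι ≫ f) ⟶ pullback f f :=
    pullback.lift (a ≫ (U x₁).ι) (b ≫ (U x₂).ι) (by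
      rw [Category.assoc, Category.assoc]; exact pullback.condition)
  obtain ⟨ζ, hζ⟩ := QuasiSober.sober (isIrreducible_irreducibleComponent (x := p)) isClosed_irreducibleComponent
  have hζp : ζ ⤳ p := hζ.specializes mem_irreducibleComponent
  have hmax : ∀ w, w ⤳ ζ → w = ζ := fun w hw => by
    refine (hw.antisymm (hζ.specializes ?_)).eq
    have hsub : irreducibleComponent p ⊆ closure {w} := hζ.def.symm.le.trans
      (closure_minimal (Set.singleton_subset_iff.mpr (specializes_iff_mem_closure.mp hw)) isClosed_closure)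
    rw [eq_irreducibleComponent isIrreducible_singleton.closure.isPreirreducible hsub |>.symm]
    exact subset_closure rfl
  have hgen : ∀ (g : pullback ((U x₁).ι ≫ f) ((U x₂).ι ≫ f) ⟶ X), IsOpenImmersion g →
      closure ({g ζ} : Set X) ∈ irreducibleComponents (X : Type u) := fun g hg => by
    have hm : ∀ v, v ⤳ g ζ → v = g ζ := fun v hv => by
      obtain ⟨w, rfl⟩ := hv.mem_open g.isOpenEmbedding.isOpen_range ⟨ζ, rfl⟩
      rw [hmax w (g.isOpenEmbedding.toIsInducing.specializes_iff.mp hv)]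
    refine ⟨isIrreducible_singleton.closure, fun T hT hle => ?_⟩
    obtain ⟨ξ, hξ⟩ := QuasiSober.sober hT.closure isClosed_closure
    obtain rfl := hm ξ (hξ.specializes (subset_closure (hle (subset_closure rfl))))
    exact (subset_closure (s := T)).trans hξ.def.symm.le
  have hq : (a ≫ (U x₁).ι) ≫ f = (b ≫ (U x₂).ι) ≫ f := by
    rw [Category.assoc, Category.assoc]; exact pullback.condition
  have hx₀ : (a ≫ (U x₁).ι) ζ = (b ≫ (U x₂).ι) ζ := by
    refine hinj _ _ (hgen (a ≫ (U x₁).ι) inferInstance) (hgen (b ≫ (U x₂).ι) inferInstance) ?_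
    rw [← Scheme.Hom.comp_apply, ← Scheme.Hom.comp_apply, hq]
  let W := U x₁ ⊓ U x₂
  have hW : (a ≫ (U x₁).ι) ζ ∈ W := ⟨(a ζ).2, by rw [hx₀]; exact (b ζ).2⟩
  let h : (W : Scheme.{u}) ⟶ pullback ((U x₁).ι ≫ f) ((U x₂).ι ≫ f) :=
    pullback.lift (X.homOfLE inf_le_left) (X.homOfLE inf_le_right) (by simp [← Category.assoc])
  have hha : h ≫ a ≫ (U x₁).ι = W.ι := by
    simp only [h, a, ← Category.assoc, pullback.lift_fst]; simp [W]
  have hhb : h ≫ b ≫ (U x₂).ι = W.ι := by
    simp only [h, b, ← Category.assoc, pullback.lift_snd]; simp [W]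
  have hhζ : h ⟨_, hW⟩ = ζ := by
    refine (a ≫ (U x₁).ι).isOpenEmbedding.injective ?_
    rw [← Scheme.Hom.comp_apply, hha]
    rfl
  have hhm : h ≫ m = W.ι ≫ pullback.diagonal f := by
    apply pullback.hom_ext <;> simp only [m, Category.assoc, pullback.lift_fst, pullback.lift_snd, pullback.diagonal_fst, pullback.diagonal_snd, Category.comp_id]
    exacts [hha, hhb]
  have hmem : m ζ ∈ Set.range (pullback.diagonal f) := by
    refine ⟨W.ι ⟨_, hW⟩, ?_⟩
    rw [← Scheme.Hom.comp_apply, ← hhm, Scheme.Hom.comp_apply, hhζ]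
  obtain ⟨z, hz⟩ := (hζp.map m.continuous).mem_closed (pullback.diagonal f).isClosedEmbedding.isClosed_range hmem
  have h1 := congrArg (pullback.fst f f) hz
  have h2 := congrArg (pullback.snd f f) hz
  simp only [← Scheme.Hom.comp_apply, pullback.diagonal_fst, pullback.diagonal_snd] at h1 h2
  simp only [m, pullback.lift_fst, pullback.lift_snd, Scheme.Hom.comp_apply] at h1 h2
  rw [hp₁] at h1
  rw [hp₂] at h2
  exact h1.symm.trans h2

end Groth.Agent.S7658
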