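import Groth.Statements.S7659
import Mathlib

set_option autoImplicit false
universe u
open CategoryTheory CategoryTheory.Limits AlgebraicGeometry
open Variety

namespace Groth.Agent.S7659


open CategoryTheory AlgebraicGeometry

/-- In a reduced ring with finitely many minimal primes, an element outside `p` kills
everything that vanishes near `p`. -/
theorem exists_killer {A : Type u} [CommRing A] [IsReduced A] (hfin : (minimalPrimes A).Finite)
    (p : Ideal A) [p.IsPrime] :
    ∃ s ∉ p, ∀ a : A, (∃ t ∉ p, t * a = 0) → s * a = 0 := by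
  classical
  let T := hfin.toFinset.filter fun P => ¬ P ≤ p
  have hT : ∀ P ∈ T, ∃ e : A, e ∈ P ∧ e ∉ p := fun P hP =>
    Set.not_subset.1 (Finset.mem_filter.1 hP).2
  choose e heP hep using hT
  refine ⟨∏ P ∈ T.attach, e P.1 P.2, fun h => ?_, fun a ⟨t, ht, hta⟩ => ?_⟩
  · obtain ⟨P, -, hP⟩ := (Ideal.IsPrime.prod_mem_iff (hp := ‹p.IsPrime›)).1 h
    exact hep P.1 P.2 hP
  · have hmem : ∀ P ∈ minimalPrimes A, (∏ P ∈ T.attach, e P.1 P.2) * a ∈ P := by
      intro P hP
      by_cases hle : P ≤ p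
      · haveI : P.IsPrime := hP.1.1
        exact P.mul_mem_left _ (((Ideal.IsPrime.mem_or_mem (hI := ‹P.IsPrime›)
          (hta ▸ P.zero_mem))).resolve_left fun h => ht (hle h))
      · have hPT : P ∈ T := Finset.mem_filter.2 ⟨hfin.mem_toFinset.2 hP, hle⟩
        refine P.mul_mem_right _ (Ideal.mem_of_dvd _
          (Finset.dvd_prod_of_mem _ (Finset.mem_attach T ⟨P, hPT⟩)) (heP P hPT))
    have h : (∏ P ∈ T.attach, e P.1 P.2) * a ∈ sInf (minimalPrimes A) :=
      Ideal.mem_sInf.2 (fun {I} hI => hmem I hI)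
    rw [show sInf (minimalPrimes A) = nilradical A from Ideal.sInf_minimalPrimes, nilradical_eq_zero A] at h
    exact h

theorem exists_away {A B : Type u} [CommRing A] [CommRing B] [Algebra A B] [Algebra.FiniteType A B]
    (q : Ideal B) [q.IsPrime] (s : A) (hs : s ∉ q.comap (algebraMap A B))
    (h1 : ∀ a : A, (∃ u ∉ q, u * algebraMap A B a = 0) → s * a = 0)
    (h2 : ∀ b : B, ∃ a t : A, t ∉ q.comap (algebraMap A B) ∧
      ∃ u ∉ q, u * (algebraMap A B t * b - algebraMap A B a) = 0) :
    ∃ g ∉ q, ∃ r : A, ∀ (B' : Type u) [CommRing B'] [Algebra A B'] [Algebra B B']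
      [IsScalarTower A B B'] [IsLocalization.Away g B'], IsLocalization.Away r B' := by
  classical
  obtain ⟨S, hS⟩ := (Algebra.FiniteType.out : (⊤ : Subalgebra A B).FG)
  choose a t ht u hu hrel using h2
  let T := ∏ b ∈ S, t b
  let U := ∏ b ∈ S, u b
  have hTp : T ∉ q.comap (algebraMap A B) := fun h => by
    obtain ⟨b, -, hb⟩ := (Ideal.IsPrime.prod_mem_iff (hp := Ideal.IsPrime.comap _)).1 h
    exact ht b hb
  have hUq : U ∉ q := fun h => by
    obtain ⟨b, -, hb⟩ := (Ideal.IsPrime.prod_mem_iff (hp := ‹q.IsPrime›)).1 h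
    exact hu b hb
  let c := T * s
  have hc : c ∉ q.comap (algebraMap A B) := fun h =>
    ((Ideal.IsPrime.comap (algebraMap A B) (K := q)).mem_or_mem h).elim hTp hs
  let g := U * algebraMap A B c
  have hg : g ∉ q := fun h => (Ideal.IsPrime.mem_or_mem (hI := ‹q.IsPrime›) h).elim hUq hc
  refine ⟨g, hg, ?_⟩
  let L := Localization.Away g
  have hug : IsUnit (algebraMap B L g) := IsLocalization.Away.algebraMap_isUnit g
  rw [map_mul] at hug
  obtain ⟨hU, hcu⟩ := IsUnit.mul_iff.1 hug
  rw [← IsScalarTower.algebraMap_apply] at hcu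
  let ψ : Localization.Away c →ₐ[A] L :=
    IsLocalization.liftAlgHom (M := Submonoid.powers c) (f := Algebra.ofId A L) (fun y => by
      obtain ⟨n, hn⟩ := y.2
      show IsUnit (algebraMap A L (y : A))
      rw [← hn, map_pow]
      exact hcu.pow n)
  have hψinv : ∀ x : A, IsUnit (algebraMap A L x) → c ∈ Ideal.span {x} → ∀ y : L,
      algebraMap A L x * y ∈ ψ.range → y ∈ ψ.range := by
    intro x hx hcx y hy
    obtain ⟨w, hw⟩ := Ideal.mem_span_singleton'.1 hcx
    let v := IsLocalization.mk' (Localization.Away c) w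
      (⟨c, Submonoid.mem_powers c⟩ : Submonoid.powers c)
    have h1 : ψ v * algebraMap A L c = algebraMap A L w := by
      have := congrArg ψ (IsLocalization.mk'_spec (Localization.Away c) w
        (⟨c, Submonoid.mem_powers c⟩ : Submonoid.powers c))
      rwa [map_mul, AlgHom.commutes, AlgHom.commutes] at this
    have h3 : algebraMap A L w * algebraMap A L x = algebraMap A L c := by rw [← map_mul, hw]
    have h2 : ψ v * algebraMap A L x = 1 := by
      apply hcu.mul_right_cancel
      rw [one_mul, mul_right_comm, h1, h3]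
    have : y = ψ v * (algebraMap A L x * y) := by rw [← mul_assoc, h2, one_mul]
    rw [this]
    exact mul_mem ⟨v, rfl⟩ hy
  have hgen : ∀ b : B, algebraMap B L b ∈ ψ.range := by
    intro b
    have hb : b ∈ Algebra.adjoin A (S : Set B) := by rw [hS]; trivial
    induction hb using Algebra.adjoin_induction with
    | mem x hx =>
      have hU' : IsUnit (algebraMap B L (u x)) := by
        rw [show U = u x * ∏ y ∈ S.erase x, u y from (Finset.mul_prod_erase S u hx).symm,
          map_mul] at hU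
        exact (IsUnit.mul_iff.1 hU).1
      have hdiv : c ∈ Ideal.span {t x} := Ideal.mem_span_singleton.2
        ((Finset.dvd_prod_of_mem t hx).trans (dvd_mul_right T s))
      have htu : IsUnit (algebraMap A L (t x)) :=
        isUnit_of_dvd_unit (map_dvd _ (Ideal.mem_span_singleton.1 hdiv)) hcu
      refine hψinv _ htu hdiv _ ?_
      have h0 := congrArg (algebraMap B L) (hrel x)
      rw [map_mul, map_zero, hU'.mul_right_eq_zero, map_sub, map_mul, sub_eq_zero,
        ← IsScalarTower.algebraMap_apply, ← IsScalarTower.algebraMap_apply] at h0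
      rw [h0]
      exact ψ.range.algebraMap_mem _
    | algebraMap x => rw [← IsScalarTower.algebraMap_apply]; exact ψ.range.algebraMap_mem _
    | add x y _ _ hx hy => rw [map_add]; exact add_mem hx hy
    | mul x y _ _ hx hy => rw [map_mul]; exact mul_mem hx hy
  have hnum : ∀ b : B, ∃ (β : A) (k : ℕ),
      algebraMap A L β = algebraMap B L b * algebraMap A L c ^ k := fun b => by
    obtain ⟨v, hv⟩ := hgen b
    obtain ⟨⟨β, y⟩, hy⟩ := IsLocalization.surj (Submonoid.powers c) v
    obtain ⟨k, hk⟩ := y.2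
    refine ⟨β, k, ?_⟩
    have := congrArg ψ hy
    rw [map_mul, AlgHom.commutes, AlgHom.commutes, ← hk, map_pow] at this
    rw [← this]
    exact congrArg (· * algebraMap A L c ^ k) hv
  obtain ⟨α, n, hα⟩ := hnum g
  have hαu : IsUnit (algebraMap A L α) := by
    rw [hα]
    exact (IsLocalization.Away.algebraMap_isUnit g).mul (hcu.pow n)
  refine ⟨c * α, fun B' _ _ _ _ _ => ?_⟩
  let e : L ≃ₐ[A] B' := (IsLocalization.algEquiv (Submonoid.powers g) L B').restrictScalars A
  suffices IsLocalization.Away (c * α) L from IsLocalization.isLocalization_of_algEquiv _ e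
  refine ⟨⟨fun y => ?_, fun z => ?_, fun {x y} hxy => ?_⟩⟩
  · obtain ⟨m, hm⟩ := y.2
    rw [← hm, map_pow, map_mul]
    exact (hcu.mul hαu).pow m
  · obtain ⟨⟨b, y⟩, hy⟩ := IsLocalization.surj (Submonoid.powers g) z
    obtain ⟨m, hm⟩ := y.2
    obtain ⟨β, k, hβ⟩ := hnum b
    refine ⟨⟨β * c ^ (n * m) * c ^ m * α ^ k, ⟨(c * α) ^ (m + k), m + k, rfl⟩⟩, ?_⟩
    simp only [map_mul, map_pow]
    rw [← hm, map_pow] at hy
    rw [hβ, ← hy, hα]
    simp only [← pow_mul, pow_add, mul_pow]
    ring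
  · rw [IsScalarTower.algebraMap_apply A B L, IsScalarTower.algebraMap_apply A B L] at hxy
    obtain ⟨⟨_, m, rfl⟩, hm⟩ := IsLocalization.exists_of_eq (M := Submonoid.powers g) hxy
    have h := h1 (x - y) ⟨g ^ m, fun h => hg (Ideal.IsPrime.mem_of_pow_mem ‹_› _ h),
      by rw [map_sub, mul_sub, sub_eq_zero]; exact hm⟩
    refine ⟨⟨c * α, Submonoid.mem_powers _⟩, ?_⟩
    show c * α * x = c * α * y
    linear_combination (T * α) * h


/-- Let f : X → S be a morphism of schemes and x a point with image s such that O_{S,s} → O_{X,x} is an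
isomorphism, S is reduced with finitely many irreducible components, and f is locally of finite
type. Then f restricted to some open neighbourhood of x is an open immersion. (The published
statement assumes f of finite type; this row assumes only that f is locally of finite type.) -/
theorem result {X S : Scheme.{u}} (f : X ⟶ S)
    [LocallyOfFiniteType f] [IsReduced S] (hS : (irreducibleComponents (S : Type u)).Finite)
    (x : X) (hx : IsIso (f.stalkMap x)) :
    ∃ U : X.Opens, x ∈ U ∧ IsOpenImmersion (U.ι ≫ f) := by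
  obtain ⟨V, hV, hxV, -⟩ := exists_isAffineOpen_mem_and_subset (X := S) (x := f x) (U := ⊤) trivial
  obtain ⟨W, hW, hxW, hWle⟩ :=
    exists_isAffineOpen_mem_and_subset (X := X) (x := x) (U := f ⁻¹ᵁ V) hxV
  have e : W ≤ f ⁻¹ᵁ V := hWle
  letI : Algebra Γ(S, V) Γ(X, W) := (f.appLE V W e).hom.toAlgebra
  haveI : Algebra.FiniteType Γ(S, V) Γ(X, W) := f.finiteType_appLE hV hW e
  let q := (hW.primeIdealOf ⟨x, hxW⟩).asIdeal
  have hpq : q.comap (algebraMap Γ(S, V) Γ(X, W)) = (hV.primeIdealOf ⟨f x, hxV⟩).asIdeal :=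
    congrArg PrimeSpectrum.asIdeal (IsAffineOpen.comap_primeIdealOf_appLE V hV W hW e hxW)
  letI := S.presheaf.algebra_section_stalk (U := V) ⟨f x, hxV⟩
  letI := X.presheaf.algebra_section_stalk (U := W) ⟨x, hxW⟩
  haveI := hV.isLocalization_stalk ⟨f x, hxV⟩
  haveI := hW.isLocalization_stalk ⟨x, hxW⟩
  have hbij : Function.Bijective (f.stalkMap x) := ConcreteCategory.bijective_of_isIso (f.stalkMap x)
  have hg : ∀ a : Γ(S, V), X.presheaf.germ W x hxW (algebraMap Γ(S, V) Γ(X, W) a) =
      f.stalkMap x (S.presheaf.germ V (f x) hxV a) := fun a => by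
    show (f.appLE V W e ≫ X.presheaf.germ W x hxW) a = (S.presheaf.germ V (f x) hxV ≫ f.stalkMap x) a
    rw [Scheme.Hom.appLE, Category.assoc, X.presheaf.germ_res, Scheme.Hom.germ_stalkMap]
  haveI : _root_.IsReduced Γ(S, V) := inferInstance
  have hfin : (minimalPrimes Γ(S, V)).Finite := by
    have hG := genericPoints.finite (α := S) hS
    haveI := hG.to_subtype
    suffices hmem : ∀ P : minimalPrimes Γ(S, V), hV.fromSpec ⟨P.1, P.2.1.1⟩ ∈ genericPoints S by
      refine Set.finite_coe_iff.1 (Finite.of_injective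
        (fun P : minimalPrimes Γ(S, V) => (⟨_, hmem P⟩ : genericPoints S)) (fun P Q hPQ => ?_))
      simp only [Subtype.mk.injEq] at hPQ
      have h : (⟨P.1, P.2.1.1⟩ : PrimeSpectrum Γ(S, V)) = ⟨Q.1, Q.2.1.1⟩ :=
        hV.fromSpec.isOpenEmbedding.injective hPQ
      exact Subtype.ext (congrArg PrimeSpectrum.asIdeal h)
    intro P
    refine ⟨isIrreducible_singleton.closure, fun C hC hle => ?_⟩
    obtain ⟨η, hη⟩ := QuasiSober.sober hC.closure isClosed_closure
    have hηy : η ⤳ hV.fromSpec ⟨P.1, P.2.1.1⟩ := by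
      rw [specializes_iff_mem_closure, hη.def]
      exact subset_closure (hle (subset_closure rfl))
    have hyV : hV.fromSpec ⟨P.1, P.2.1.1⟩ ∈ (V : Set S) := hV.range_fromSpec ▸ Set.mem_range_self _
    obtain ⟨Q, hQ⟩ : η ∈ Set.range hV.fromSpec := by
      rw [hV.range_fromSpec]; exact hηy.mem_open V.2 hyV
    rw [← hQ] at hηy
    have hle' : Q.asIdeal ≤ P.1 :=
      (PrimeSpectrum.le_iff_specializes Q ⟨P.1, P.2.1.1⟩).2
        (hV.fromSpec.isOpenEmbedding.isInducing.specializes_iff.1 hηy)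
    have hQP : Q = ⟨P.1, P.2.1.1⟩ :=
      PrimeSpectrum.ext (le_antisymm hle' (P.2.2 ⟨Q.isPrime, bot_le⟩ hle'))
    rw [hQP] at hQ
    intro z hz
    have : z ∈ closure ({η} : Set S) := by rw [hη.def]; exact subset_closure hz
    rwa [← hQ] at this
  haveI : (q.comap (algebraMap Γ(S, V) Γ(X, W))).IsPrime := Ideal.IsPrime.comap _
  obtain ⟨s, hs, hkill⟩ := exists_killer hfin (q.comap (algebraMap Γ(S, V) Γ(X, W)))
  obtain ⟨g, hgq, r, hr⟩ := exists_away q s hs (fun a ⟨u, hu, hua⟩ => by
      refine hkill a ?_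
      have h0 : algebraMap Γ(X, W) (X.presheaf.stalk x) (algebraMap Γ(S, V) Γ(X, W) a) = 0 :=
        (IsLocalization.map_eq_zero_iff q.primeCompl _ _).2 ⟨⟨u, hu⟩, hua⟩
      have h1 : algebraMap Γ(S, V) (S.presheaf.stalk (f x)) a = 0 := hbij.1 (by
        rw [map_zero]; exact (hg a).symm.trans h0)
      obtain ⟨t, ht⟩ := (IsLocalization.map_eq_zero_iff (hV.primeIdealOf ⟨f x, hxV⟩).asIdeal.primeCompl
        _ a).1 h1
      exact ⟨t, fun h => t.2 (hpq.le h), ht⟩) (fun b => by
      obtain ⟨z, hz⟩ := hbij.2 (algebraMap Γ(X, W) (X.presheaf.stalk x) b)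
      obtain ⟨⟨a, t⟩, hat⟩ := IsLocalization.surj (hV.primeIdealOf ⟨f x, hxV⟩).asIdeal.primeCompl z
      refine ⟨a, t, fun h => t.2 (hpq.le h), ?_⟩
      have h0 : algebraMap Γ(X, W) (X.presheaf.stalk x)
          (algebraMap Γ(S, V) Γ(X, W) t * b - algebraMap Γ(S, V) Γ(X, W) a) = 0 := by
        rw [map_sub, map_mul]
        show X.presheaf.germ W x hxW _ * X.presheaf.germ W x hxW b - X.presheaf.germ W x hxW _ = 0
        rw [hg, hg, sub_eq_zero]
        have := congrArg (f.stalkMap x) hat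
        rw [map_mul, hz, mul_comm] at this
        exact this
      obtain ⟨u, hu⟩ := (IsLocalization.map_eq_zero_iff q.primeCompl _ _).1 h0
      exact ⟨u, u.2, hu⟩)
  refine ⟨X.basicOpen g, ?_, ?_⟩
  · have h2 : hW.fromSpec (hW.primeIdealOf ⟨x, hxW⟩) ∈ X.basicOpen g := by
      show (hW.primeIdealOf ⟨x, hxW⟩) ∈ hW.fromSpec ⁻¹ᵁ X.basicOpen g
      rw [hW.fromSpec_preimage_basicOpen]
      exact hgq
    rwa [hW.fromSpec_primeIdealOf] at h2
  · let e' : X.basicOpen g ≤ f ⁻¹ᵁ V := (X.basicOpen_le g).trans e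
    letI : Algebra Γ(S, V) Γ(X, X.basicOpen g) := (f.appLE V (X.basicOpen g) e').hom.toAlgebra
    haveI : IsScalarTower Γ(S, V) Γ(X, W) Γ(X, X.basicOpen g) := IsScalarTower.of_algebraMap_eq' (by
      show (f.appLE V (X.basicOpen g) e').hom = _
      rw [← Scheme.Hom.appLE_map (f := f) e (homOfLE (X.basicOpen_le g)).op, CommRingCat.hom_comp]
      rfl)
    haveI := hW.isLocalization_basicOpen g
    haveI := hr Γ(X, X.basicOpen g)
    haveI : IsOpenImmersion (Spec.map (f.appLE V (X.basicOpen g) e')) :=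
      IsOpenImmersion.of_isLocalization (S := Γ(X, X.basicOpen g)) r
    rw [← (hW.basicOpen g).isoSpec_hom_fromSpec, Category.assoc,
      ← IsAffineOpen.SpecMap_appLE_fromSpec f hV (hW.basicOpen g) e']
    infer_instance

end Groth.Agent.S7659
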