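import Groth.Statements.S7660
import Groth.Agent.AffContLib.Semi
-- import your own Groth.Agent.* helpers here

set_option autoImplicit false
universe u
open CategoryTheory CategoryTheory.Limits AlgebraicGeometry
open Variety

namespace Groth.Agent.S7660

/-- For a morphism of schemes f : T → X with T affine and X quasi-separated with finitely many
irreducible components, assume f sends the generic point of each irreducible component of T to the
generic point of an irreducible component of X, and distinct such points to distinct points, and let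
t_1, …, t_m ∈ T be points at which O_{X, f(t_j)} → O_{T, t_j} is an isomorphism. Then there is an
affine open of X containing f(t_1), …, f(t_m). -/
theorem result {T X : Scheme.{u}} (f : T ⟶ X)
    [IsAffine T] [QuasiSeparatedSpace X] (hX : (irreducibleComponents (X : Type u)).Finite)
    (hgen : ∀ η : T, closure ({η} : Set T) ∈ irreducibleComponents (T : Type u) → closure ({(f.base η)} : Set X) ∈ irreducibleComponents (X : Type u))
    (hinj : ∀ η η' : T, closure ({η} : Set T) ∈ irreducibleComponents (T : Type u) → closure ({η'} : Set T) ∈ irreducibleComponents (T : Type u) → f.base η = f.base η' → η = η')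
    (s : Finset T) (hs : ∀ t ∈ s, IsIso (f.stalkMap t)) :
    ∃ U : X.Opens, IsAffineOpen U ∧ ∀ t ∈ s, f.base t ∈ U := by
  classical
  induction s using Finset.induction with
  | empty => exact ⟨⊥, isAffineOpen_bot X, by simp⟩
  | insert t₀ s hnot ih =>
    obtain ⟨U, hU, hsU⟩ := ih fun t ht => hs t (Finset.mem_insert_of_mem ht)
    obtain ⟨V, hV, ht₀V, -⟩ := exists_isAffineOpen_mem_and_subset (X := X) (x := f.base t₀) (U := ⊤) trivial
    let hT := isAffineOpen_top T
    let A := Γ(T, ⊤)
    let P : T → PrimeSpectrum A := fun t => hT.primeIdealOf ⟨t, trivial⟩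
    let M : Submonoid A :=
      { carrier := {a | ∀ t ∈ insert t₀ s, a ∉ (P t).asIdeal}
        one_mem' := fun t _ h => (P t).isPrime.ne_top ((Ideal.eq_top_iff_one _).2 h)
        mul_mem' := fun {a b} ha hb t ht h => ((P t).isPrime.mem_or_mem h).elim (ha t ht) (hb t ht) }
    let L := CommRingCat.of (Localization M)
    let ι : A ⟶ L := CommRingCat.ofHom (algebraMap A (Localization M))
    haveI : IsPreimmersion (Spec.map ι) := IsPreimmersion.of_isLocalization M
    haveI : Flat (Spec.map ι) := Flat.SpecMap_iff.2
      (RingHom.flat_algebraMap_iff.2 (IsLocalization.flat (Localization M) M))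
    let ψ : Spec L ⟶ T := Spec.map ι ≫ hT.fromSpec
    have hψiso : ∀ z, IsIso (ψ.stalkMap z) := fun z => AffContLib.isIso_stalkMap_of_flat_preimmersion ψ z
    have hfP : ∀ t, hT.fromSpec (P t) = t := fun t => hT.fromSpec_primeIdealOf ⟨t, trivial⟩
    have hspec : ∀ z, ∃ t ∈ insert t₀ s, ψ z ⤳ t := by
      intro z
      obtain ⟨t, ht, hle⟩ : ∃ t ∈ insert t₀ s, (Spec.map ι z).asIdeal ≤ (P t).asIdeal := by
        refine (Ideal.subset_union_prime (f := fun t => (P t).asIdeal) t₀ t₀ fun t _ _ _ => (P t).isPrime).1
          fun a ha => ?_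
        by_contra hn
        simp only [Set.mem_iUnion, not_exists] at hn
        have : IsUnit (algebraMap A (Localization M) a) :=
          IsLocalization.map_units (Localization M) (⟨a, show a ∈ M from fun t ht => hn t ht⟩ : M)
        exact z.isPrime.ne_top (Ideal.eq_top_of_isUnit_mem _ ha this)
      refine ⟨t, ht, ?_⟩
      have h1 := ((PrimeSpectrum.le_iff_specializes _ (P t)).1 hle).map hT.fromSpec.continuous
      rwa [hfP] at h1
    have hψmem : ∀ t ∈ insert t₀ s, t ∈ Set.range ψ := fun t ht => by
      have : P t ∈ Set.range (PrimeSpectrum.comap (algebraMap A (Localization M))) := by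
        rw [PrimeSpectrum.localization_comap_range (Localization M) M]
        exact Set.disjoint_left.2 fun a ha haP => ha t ht haP
      obtain ⟨z, hz⟩ := this
      refine ⟨z, ?_⟩
      show hT.fromSpec (Spec.map ι z) = t
      rw [show Spec.map ι z = P t from hz, hfP]
    let φ : Spec L ⟶ X := ψ ≫ f
    have hiso : ∀ z, IsIso (φ.stalkMap z) := fun z => by
      obtain ⟨t, ht, hzt⟩ := hspec z
      rw [Scheme.Hom.stalkMap_comp]
      exact IsIso.comp_isIso' ((AffContLib.generization_facts f t (hs t ht)).1 _ hzt) (hψiso z)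
    have hmax : ∀ (Z : Scheme.{u}) (η η' : Z), closure ({η} : Set Z) ∈ irreducibleComponents (Z : Type u) →
        η' ⤳ η → η' = η := fun Z η η' hη h => by
      refine (h.antisymm ?_).eq
      rw [specializes_iff_closure_subset]
      exact hη.2 isIrreducible_singleton.closure (specializes_iff_closure_subset.1 h)
    have hgeneric : ∀ P : T, ∃ η : T, η ⤳ P ∧ closure ({η} : Set T) ∈ irreducibleComponents (T : Type u) := fun P => by
      have hirr : IsIrreducible (irreducibleComponent P) := isIrreducible_irreducibleComponent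
      have hgp := hirr.isGenericPoint_genericPoint isClosed_irreducibleComponent
      exact ⟨hirr.genericPoint, hgp.specializes mem_irreducibleComponent,
        by rw [hgp.def]; exact irreducibleComponent_mem_irreducibleComponents P⟩
    have hinjφ : Function.Injective φ := by
      intro z z' hzz
      refine ψ.isEmbedding.injective ?_
      obtain ⟨t, ht, hzt⟩ := hspec z
      obtain ⟨t', ht', hzt'⟩ := hspec z'
      have hP : IsIso (f.stalkMap (ψ z)) := (AffContLib.generization_facts f t (hs t ht)).1 _ hzt
      have hQ : IsIso (f.stalkMap (ψ z')) := (AffContLib.generization_facts f t' (hs t' ht')).1 _ hzt'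
      obtain ⟨-, hinjQ, hliftQ⟩ := AffContLib.generization_facts f (ψ z') hQ
      obtain ⟨η, hη, hηc⟩ := hgeneric (ψ z)
      have hfη : f η ⤳ f (ψ z') := by
        have := hη.map f.continuous
        rwa [show f (ψ z) = f (ψ z') from hzz] at this
      obtain ⟨η', hη', hηη'⟩ := hliftQ _ hfη
      obtain ⟨η₀, hη₀, hη₀c⟩ := hgeneric η'
      have h0 : f η₀ = f η := hmax X _ _ (hgen η hηc) (hηη' ▸ hη₀.map f.continuous)
      have h1 : η₀ = η' := hinjQ _ _ (hη₀.trans hη') hη' (h0.trans hηη'.symm)
      have h2 : η₀ = η := hinj η₀ η hη₀c hηc h0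
      exact AffContLib.eq_of_common_generization f hη (by rw [← h2, h1]; exact hη') hzz hP hQ
    have hcover : ∀ z, φ z ∈ U ∨ φ z ∈ V := fun z => by
      obtain ⟨t, ht, hzt⟩ := hspec z
      rcases Finset.mem_insert.1 ht with rfl | hts
      · exact Or.inr ((hzt.map f.continuous).mem_open V.isOpen ht₀V)
      · exact Or.inl ((hzt.map f.continuous).mem_open U.isOpen (hsU t hts))
    obtain ⟨I, hI⟩ := (PrimeSpectrum.isClosed_iff_zeroLocus_ideal _).1 (φ ⁻¹ᵁ U).isOpen.isClosed_compl
    obtain ⟨J, hJ⟩ := (PrimeSpectrum.isClosed_iff_zeroLocus_ideal _).1 (φ ⁻¹ᵁ V).isOpen.isClosed_compl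
    have hIJ : I ⊔ J = ⊤ := by
      by_contra hne
      obtain ⟨m, hm, hle⟩ := Ideal.exists_le_maximal _ hne
      have h1 : (⟨m, hm.isPrime⟩ : PrimeSpectrum L) ∈ PrimeSpectrum.zeroLocus (I : Set L) := le_sup_left.trans hle
      have h2 : (⟨m, hm.isPrime⟩ : PrimeSpectrum L) ∈ PrimeSpectrum.zeroLocus (J : Set L) := le_sup_right.trans hle
      rw [← hI] at h1
      rw [← hJ] at h2
      exact (hcover _).elim h1 h2
    obtain ⟨a, ha, b, hb, hab⟩ := Submodule.mem_sup.1 (hIJ.ge (Submodule.mem_top (x := (1 : L))))
    obtain ⟨R, G, hTR, hGU, hGV⟩ := AffContLib.exists_spread φ hiso hinjφ ((Scheme.ΓSpecIso L).inv a)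
      (U := U) (V := V)
      (by
        intro z hz
        rw [basicOpen_eq_of_affine] at hz
        by_contra hn
        have h1 : (z : PrimeSpectrum L) ∈ ((φ ⁻¹ᵁ U : (Spec L).Opens) : Set (Spec L))ᶜ := hn
        exact hz ((hI.le h1) ha))
      (by
        intro z hz
        rw [← map_one (Scheme.ΓSpecIso L).inv.hom, ← map_sub, basicOpen_eq_of_affine] at hz
        by_contra hn
        have h1 : (z : PrimeSpectrum L) ∈ ((φ ⁻¹ᵁ V : (Spec L).Opens) : Set (Spec L))ᶜ := hn
        refine hz ?_
        rw [← hab, add_sub_cancel_left]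
        exact (hJ.le h1) hb)
      (f.base '' ((insert t₀ s : Finset T) : Set T)) ((Finset.finite_toSet _).image _)
      (by
        rintro _ ⟨t, ht, rfl⟩
        obtain ⟨z, hz⟩ := hψmem t ht
        exact ⟨z, by rw [← hz]; rfl⟩)
    obtain ⟨W, hW, hTW⟩ := AffContLib.exists_affine_of_separating hU hV G hGU hGV _
      ((Finset.finite_toSet _).image _) hTR
    exact ⟨W, hW, fun t ht => hTW ⟨t, ht, rfl⟩⟩

end Groth.Agent.S7660
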