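import Groth.Statements.S7661
-- import your own Groth.Agent.* helpers here

set_option autoImplicit false
universe u
open CategoryTheory CategoryTheory.Limits AlgebraicGeometry
open Variety

namespace Groth.Agent.S7661

/-- Let A be a ring, I an ideal, p_1, …, p_r prime ideals with I ⊄ p_i for all i, and let f̄ ∈ A/I. Then
f̄ lifts to an element f ∈ A with f ∉ p_i for all i. -/
theorem result (A : Type u) [CommRing A] (I : Ideal A)
    (s : Finset (Ideal A)) (hs : ∀ p ∈ s, p.IsPrime) (hI : ∀ p ∈ s, ¬ I ≤ p) (fbar : A ⧸ I) :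
    ∃ f : A, Ideal.Quotient.mk I f = fbar ∧ ∀ p ∈ s, f ∉ p := by
  classical
  obtain ⟨f0, rfl⟩ := Ideal.Quotient.mk_surjective fbar
  induction s using Finset.strongInductionOn with
  | _ s ih =>
    rcases s.eq_empty_or_nonempty with rfl | hne
    · exact ⟨f0, rfl, by simp⟩
    obtain ⟨p, hp, hmin⟩ := s.exists_minimal hne
    obtain ⟨f, hf, hfav⟩ := ih (s.erase p) (Finset.erase_ssubset hp)
      (fun q hq => hs q (Finset.mem_of_mem_erase hq))
      (fun q hq => hI q (Finset.mem_of_mem_erase hq))
    by_cases hfp : f ∈ p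
    · have hpp := hs p hp
      have hnle : ¬ I * ∏ q ∈ s.erase p, q ≤ p := by
        intro h
        rcases hpp.mul_le.1 h with h | h
        · exact hI p hp h
        · obtain ⟨q, hq, hqp⟩ := hpp.prod_le.1 h
          exact Finset.ne_of_mem_erase hq
            (le_antisymm hqp (hmin (Finset.mem_of_mem_erase hq) hqp))
      obtain ⟨t, ht, htp⟩ := SetLike.not_le_iff_exists.1 hnle
      refine ⟨f + t, ?_, fun q hq => ?_⟩
      · rw [map_add, hf, (Ideal.Quotient.eq_zero_iff_mem.2 (Ideal.mul_le_left ht)), add_zero]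
      · rcases eq_or_ne q p with rfl | hqp
        · exact fun h => htp ((Ideal.add_mem_iff_right _ hfp).1 h)
        · have hq' : q ∈ s.erase p := Finset.mem_erase.2 ⟨hqp, hq⟩
          have htq : t ∈ q :=
            ((Ideal.prod_le_inf (f := fun x : Ideal A => x)).trans (Finset.inf_le hq')) (Ideal.mul_le_right ht)
          exact fun h => hfav q hq' ((Ideal.add_mem_iff_left _ htq).1 h)
    · refine ⟨f, hf, fun q hq => ?_⟩
      rcases eq_or_ne q p with rfl | hqp
      · exact hfp
      · exact hfav q (Finset.mem_erase.2 ⟨hqp, hq⟩)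

end Groth.Agent.S7661
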