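import Groth.Statements.S7662
import Groth.Agent.AffContLib.Union
-- import your own Groth.Agent.* helpers here

set_option autoImplicit false
universe u
open CategoryTheory CategoryTheory.Limits AlgebraicGeometry
open Variety

namespace Groth.Agent.S7662

/-- Let X be a scheme with finitely many irreducible components Z_1, …, Z_t and T ⊆ X a finite set of
points such that, for each i, some affine open of Z_i with its reduced closed subscheme structure
contains the points of T on Z_i. Then some affine open of X contains every point of T. -/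
theorem result (X : Scheme.{u})
    (hX : (irreducibleComponents (X : Type u)).Finite) (T : Finset X)
    (h : ∀ (Z : Set X) (hZ : Z ∈ irreducibleComponents (X : Type u)),
      ∃ V : (Scheme.IdealSheafData.vanishingIdeal
          (⟨Z, isClosed_of_mem_irreducibleComponents Z hZ⟩ : TopologicalSpace.Closeds X)).subscheme.Opens,
        IsAffineOpen V ∧ ∀ t ∈ T, t ∈ Z → t ∈ (Scheme.IdealSheafData.vanishingIdeal
          (⟨Z, isClosed_of_mem_irreducibleComponents Z hZ⟩ : TopologicalSpace.Closeds X)).subschemeι.base '' (V : Set _)) :
    ∃ U : X.Opens, IsAffineOpen U ∧ ∀ t ∈ T, t ∈ U := by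
  classical
  obtain ⟨W, hW, hTW⟩ := AffContLib.exists_affine_of_finite (T := (T : Set X)) T.finite_toSet hX.toFinset
    (fun x => ⟨irreducibleComponent x, hX.mem_toFinset.2 (irreducibleComponent_mem_irreducibleComponents x),
      mem_irreducibleComponent⟩)
    (fun Z hZ => by
      obtain ⟨V, hV, hTV⟩ := h Z (hX.mem_toFinset.1 hZ)
      refine ⟨_, (Scheme.IdealSheafData.vanishingIdeal (⟨Z, isClosed_of_mem_irreducibleComponents Z (hX.mem_toFinset.1 hZ)⟩ : TopologicalSpace.Closeds X)).subschemeι, inferInstance, ?_, V, hV, fun x hx => ?_⟩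
      · rw [Scheme.IdealSheafData.range_subschemeι]
        rfl
      · have hxZ : (Scheme.IdealSheafData.vanishingIdeal (⟨Z, isClosed_of_mem_irreducibleComponents Z
            (hX.mem_toFinset.1 hZ)⟩ : TopologicalSpace.Closeds X)).subschemeι x ∈ Z := by
          have h1 : _ ∈ Set.range (Scheme.IdealSheafData.vanishingIdeal (⟨Z, isClosed_of_mem_irreducibleComponents Z
            (hX.mem_toFinset.1 hZ)⟩ : TopologicalSpace.Closeds X)).subschemeι := ⟨x, rfl⟩
          rw [Scheme.IdealSheafData.range_subschemeι] at h1
          exact h1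
        obtain ⟨y, hy, hyx⟩ := hTV _ hx hxZ
        rwa [← (Scheme.IdealSheafData.vanishingIdeal (⟨Z, isClosed_of_mem_irreducibleComponents Z
            (hX.mem_toFinset.1 hZ)⟩ : TopologicalSpace.Closeds X)).subschemeι.isClosedEmbedding.injective hyx])
  exact ⟨W, hW, fun t ht => hTW ht⟩

end Groth.Agent.S7662
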