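import Groth.Statements.S7663
import Mathlib
import Groth.Agent.DvrDom.Basic

set_option autoImplicit false
universe u
open CategoryTheory CategoryTheory.Limits AlgebraicGeometry
open Variety

namespace Groth.Agent.S7663

/-- Let K be a field and A, B ⊆ K subrings with fraction field K, with A Noetherian of dimension one.
Then A ⊗ B → K is not surjective (equivalently, the subring generated by A and B is not K) if and
only if some discrete valuation ring O ⊆ K with fraction field K contains both A and B. -/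
theorem result (K : Type u) [Field K]
    (A : Subring K) [IsFractionRing A K] (B : Subring K) [IsFractionRing B K] [IsNoetherianRing A] (hdim : ringKrullDim A = 1) :
    A ⊔ B ≠ ⊤ ↔ ∃ O : ValuationSubring K, IsDiscreteValuationRing O ∧ A ≤ O.toSubring ∧ B ≤ O.toSubring := by
  constructor
  · intro hC
    have hfield : ¬ IsField (A ⊔ B : Subring K) := by
      intro hF
      refine hC (eq_top_iff.2 fun x _ => ?_)
      obtain ⟨a, b, hb, rfl⟩ := IsFractionRing.div_surjective A (K := K) x
      have hA : ∀ c : A, (c : K) ∈ A ⊔ B := fun c => (le_sup_left : A ≤ A ⊔ B) c.2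
      have hb0 : (⟨b.1, hA b⟩ : (A ⊔ B : Subring K)) ≠ 0 := fun h =>
        nonZeroDivisors.ne_zero hb (Subtype.ext (Subtype.ext_iff.1 h :))
      obtain ⟨c, hc⟩ := hF.mul_inv_cancel hb0
      have hc' : (b : K) * (c : K) = 1 := congrArg Subtype.val hc
      show (a : K) / (b : K) ∈ A ⊔ B
      rw [div_eq_mul_inv, inv_eq_of_mul_eq_one_right hc']
      exact mul_mem (hA a) c.2
    obtain ⟨M, hMbot, hMmax⟩ := Ring.not_isField_iff_exists_ideal_bot_lt_and_lt_top.1 hfield
    obtain ⟨m, hm, hm0⟩ := SetLike.exists_of_lt hMbot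
    obtain ⟨O, hO, hnu⟩ := Ideal.image_subset_nonunits_valuationSubring M hMmax.ne
    have hAO : A ≤ O.toSubring := le_sup_left.trans hO
    refine ⟨O, ?_, hAO, le_sup_right.trans hO⟩
    haveI : Ring.KrullDimLE 1 A := Ring.krullDimLE_iff.2 hdim.le
    let R : Subalgebra A K := { O.toSubring with algebraMap_mem' := fun a => hAO a.2 }
    haveI : IsNoetherianRing R := DvrDomLib.isNoetherianRing_of_between R
    haveI : IsNoetherianRing O := isNoetherianRing_of_ringEquiv R
      { toFun := fun x => ⟨x.1, x.2⟩, invFun := fun x => ⟨x.1, x.2⟩, left_inv := fun _ => rfl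
        right_inv := fun _ => rfl, map_mul' := fun _ _ => rfl, map_add' := fun _ _ => rfl }
    have hOf : ¬ IsField O := by
      intro hF
      have hmO : (m : K) ∈ O := hO m.2
      have hm0' : (⟨(m : K), hmO⟩ : O) ≠ 0 := fun h =>
        hm0 (by rw [Ideal.mem_bot]; exact Subtype.ext (Subtype.ext_iff.1 h :))
      obtain ⟨c, hc⟩ := hF.mul_inv_cancel hm0'
      obtain ⟨hmem, hnot⟩ := O.mem_nonunits_iff_exists_mem_maximalIdeal.1 (hnu ⟨m, hm, rfl⟩)
      exact hnot (isUnit_iff_exists_inv.2 ⟨c, hc⟩)
    haveI : IsPrincipalIdealRing O := (IsBezout.TFAE.out 0 1).1 ‹IsNoetherianRing O›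
    exact { not_a_field' := IsLocalRing.isField_iff_maximalIdeal_eq.not.1 hOf }
  · rintro ⟨O, hO, hA, hB⟩ htop
    refine IsDiscreteValuationRing.not_isField (R := O) ?_
    refine ⟨⟨0, 1, zero_ne_one⟩, mul_comm, fun {a} ha => ?_⟩
    have ha' : (a : K)⁻¹ ∈ O := by
      have h : (a : K)⁻¹ ∈ A ⊔ B := htop ▸ Subring.mem_top _
      exact sup_le hA hB h
    exact ⟨⟨_, ha'⟩, Subtype.ext (mul_inv_cancel₀ fun h => ha (Subtype.ext h))⟩

end Groth.Agent.S7663
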