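import Groth.Statements.S7664
import Groth.Agent.SemiGlue.Dvr
-- import your own Groth.Agent.* helpers here

set_option autoImplicit false
universe u
open CategoryTheory CategoryTheory.Limits AlgebraicGeometry
open Variety

namespace Groth.Agent.S7664

/-- Let K be a field, A ⊆ K a Noetherian semi-local domain of dimension one and B ⊆ K a discrete
valuation ring, both with fraction field K, and R = A ∩ B. (a) If some unit of A does not lie in R,
then Spec A and Spec B each map to Spec R by an open immersion, Spec R is the union of the two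
images, and the natural map A ⊗_R B → K is an isomorphism. (b) If every unit of A lies in R, then B
dominates the local ring of A at one of its maximal ideals (A ⊆ B and the maximal ideal of B
contracts to a maximal ideal of A) and A ⊗ B → K is not surjective. -/
theorem result (K : Type u) [Field K]
    (A : Subring K) [IsFractionRing A K] [IsNoetherianRing A] (hdim : ringKrullDim A = 1) (hsl : Finite (MaximalSpectrum A))
    (B : ValuationSubring K) [IsDiscreteValuationRing B] :
    ((∃ u : A, IsUnit u ∧ (u : K) ∉ B) →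
      IsOpenImmersion (Spec.map (CommRingCat.ofHom (Subring.inclusion (inf_le_left : A ⊓ B.toSubring ≤ A)))) ∧
      IsOpenImmersion (Spec.map (CommRingCat.ofHom (Subring.inclusion (inf_le_right : A ⊓ B.toSubring ≤ B.toSubring)))) ∧
      Set.range (Spec.map (CommRingCat.ofHom (Subring.inclusion (inf_le_left : A ⊓ B.toSubring ≤ A)))).base ∪
        Set.range (Spec.map (CommRingCat.ofHom (Subring.inclusion (inf_le_right : A ⊓ B.toSubring ≤ B.toSubring)))).base = Set.univ ∧
      IsPushout (CommRingCat.ofHom (Subring.inclusion (inf_le_left : A ⊓ B.toSubring ≤ A)))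
        (CommRingCat.ofHom (Subring.inclusion (inf_le_right : A ⊓ B.toSubring ≤ B.toSubring)))
        (CommRingCat.ofHom A.subtype) (CommRingCat.ofHom B.toSubring.subtype)) ∧
    ((∀ u : A, IsUnit u → (u : K) ∈ B) →
      (∃ h : A ≤ B.toSubring,
        (Ideal.comap (Subring.inclusion h) (IsLocalRing.maximalIdeal B)).IsMaximal) ∧ A ⊔ B.toSubring ≠ ⊤) := by
  have hA : SemiGlue.Good A := ⟨‹_›, ‹_›, hdim, hsl⟩
  refine ⟨fun hu => ?_, fun h => let ⟨hle, h1, h2⟩ := SemiGlue.dominated B hA h; ⟨⟨hle, h1⟩, h2⟩⟩
  have hgen := SemiGlue.sup_eq_top B hu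
  obtain ⟨S⟩ := SemiGlue.exists_sep (A := ![A, B.toSubring]) (R := A ⊓ B.toSubring)
    (Fin.forall_fin_two.mpr ⟨hA, SemiGlue.good_dvr B⟩)
    (by
      simp only [Fin.forall_fin_two]
      refine ⟨⟨fun h => absurd rfl h, fun _ => hgen⟩, ⟨fun _ => sup_comm B.toSubring A ▸ hgen, fun h => absurd rfl h⟩⟩)
    (fun z => by simp [Fin.forall_fin_two, Subring.mem_inf])
  refine ⟨S.isOpenImmersion 0, S.isOpenImmersion 1, ?_, S.isPushout 1 0 (by decide)⟩
  refine Set.eq_univ_of_forall fun p => ?_
  obtain ⟨i, hi⟩ := Set.mem_iUnion.mp (S.iUnion_range.symm ▸ Set.mem_univ p : p ∈ ⋃ i, _)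
  revert hi
  revert i
  exact Fin.forall_fin_two.mpr ⟨fun h => Or.inl h, fun h => Or.inr h⟩

end Groth.Agent.S7664
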