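import Groth.Statements.S7666
import Mathlib

set_option autoImplicit false
universe u
open CategoryTheory CategoryTheory.Limits AlgebraicGeometry
open Variety

namespace Groth.Agent.S7666


theorem exists_pow_mul_eq_zero {A : Type u} [CommRing A] [IsLocalRing A] [IsNoetherianRing A]
    (hdim : ringKrullDim A = 1) (a : A)
    (h : ∀ p : {p : PrimeSpectrum A // p.asIdeal ∈ minimalPrimes A},
      algebraMap A (Localization.AtPrime p.1.asIdeal) a = 0) :
    ∃ k : ℕ, ∀ x ∈ IsLocalRing.maximalIdeal A ^ k, x * a = 0 := by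
  have hle : IsLocalRing.maximalIdeal A ≤ (Submodule.annihilator (Ideal.span {a} : Ideal A)).radical := by
    rw [Ideal.radical_eq_sInf]
    refine le_sInf fun p hp => ?_
    obtain ⟨hpI, hpp⟩ := hp
    by_contra hne
    have hlt : p < IsLocalRing.maximalIdeal A := lt_of_le_of_ne
      (IsLocalRing.le_maximalIdeal hpp.ne_top) (fun h' => hne (h' ▸ le_refl _))
    have hp1 := Ideal.height_add_one_le_of_lt_of_isPrime hlt
    have hm1 : (IsLocalRing.maximalIdeal A).height = 1 := by
      have := IsLocalRing.maximalIdeal_height_eq_ringKrullDim (R := A)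
      rw [hdim] at this
      exact_mod_cast this
    rw [hm1] at hp1
    have hp0 : p.height = 0 :=
      ENat.lt_one_iff_eq_zero.1 (lt_of_lt_of_le (ENat.lt_add_one_iff (ne_top_of_le_ne_top ENat.one_ne_top
        (le_self_add.trans hp1)) |>.2 le_rfl) hp1)
    have hmin : p ∈ minimalPrimes A := Ideal.height_eq_zero_iff.1 hp0
    have h0 := h ⟨⟨p, hpp⟩, hmin⟩
    rw [IsLocalization.map_eq_zero_iff p.primeCompl] at h0
    obtain ⟨s, hs⟩ := h0
    refine s.2 (hpI ((Submodule.mem_annihilator).2 fun x hx => ?_))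
    obtain ⟨c, rfl⟩ := Ideal.mem_span_singleton'.1 hx
    rw [smul_eq_mul, mul_left_comm, hs, mul_zero]
  obtain ⟨k, hk⟩ := Ideal.exists_pow_le_of_le_radical_of_fg hle (IsNoetherian.noetherian _)
  exact ⟨k, fun x hx => by
    simpa [smul_eq_mul] using
      Submodule.mem_annihilator.1 (hk hx) a (Ideal.mem_span_singleton_self a)⟩


/-- Let A be a one-dimensional Noetherian local ring and L = ∏ A_p, the product over the minimal primes
of A. If a_1, a_2 ∈ m_A have the same image in L, then a_1 and a_2 have equal n-th powers for some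
positive integer n. -/
theorem result (A : Type u) [CommRing A]
    [IsLocalRing A] [IsNoetherianRing A] (hdim : ringKrullDim A = 1)
    (a₁ a₂ : A) (h₁ : a₁ ∈ IsLocalRing.maximalIdeal A) (h₂ : a₂ ∈ IsLocalRing.maximalIdeal A)
    (heq : ∀ p : {p : PrimeSpectrum A // p.asIdeal ∈ minimalPrimes A},
      algebraMap A (Localization.AtPrime p.1.asIdeal) a₁ = algebraMap A (Localization.AtPrime p.1.asIdeal) a₂) :
    ∃ n : ℕ, 0 < n ∧ a₁ ^ n = a₂ ^ n := by
  obtain ⟨k, hk⟩ := exists_pow_mul_eq_zero hdim (a₁ - a₂) (fun p => by rw [map_sub, heq p, sub_self])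
  refine ⟨k + 1, Nat.succ_pos _, sub_eq_zero.1 ?_⟩
  rw [← geom_sum₂_mul a₁ a₂ (k + 1)]
  refine hk _ (Ideal.sum_mem _ fun i hi => ?_)
  rw [Finset.mem_range] at hi
  have : k = i + (k + 1 - 1 - i) := by omega
  rw [this, pow_add]
  have h' : i + (k + 1 - 1 - i) + 1 - 1 - i = k + 1 - 1 - i := by omega
  rw [h']
  exact Ideal.mul_mem_mul (Ideal.pow_mem_pow h₁ _) (Ideal.pow_mem_pow h₂ _)

end Groth.Agent.S7666
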