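import Groth.Statements.S7667
import Mathlib


-- import your own Groth.Agent.* helpers here

set_option autoImplicit false
universe u
open CategoryTheory CategoryTheory.Limits AlgebraicGeometry
open Variety

namespace Groth.Agent.S7667

/-- Let A be a one-dimensional Noetherian local ring, L the product of the localizations A_p over its
minimal primes p, and I the intersection of those primes (the nilradical of A). If f ∈ L equals i +
a with a in the maximal ideal of A and i ∈ I·L, then for some positive integer n, f^n belongs to the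
subring of L obtained as the image of the structure map from A. -/
theorem result (A : Type u) [CommRing A]
    [IsLocalRing A] [IsNoetherianRing A] (hdim : ringKrullDim A = 1)
    (a : A) (ha : a ∈ IsLocalRing.maximalIdeal A)
    (i : ∀ p : {p : PrimeSpectrum A // p.asIdeal ∈ minimalPrimes A}, Localization.AtPrime p.1.asIdeal)
    (hi : i ∈ (nilradical A).map (algebraMap A (∀ p : {p : PrimeSpectrum A // p.asIdeal ∈ minimalPrimes A}, Localization.AtPrime p.1.asIdeal))) :
    ∃ n : ℕ, 0 < n ∧ (i + algebraMap A (∀ p : {p : PrimeSpectrum A // p.asIdeal ∈ minimalPrimes A}, Localization.AtPrime p.1.asIdeal) a) ^ n ∈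
      (algebraMap A (∀ p : {p : PrimeSpectrum A // p.asIdeal ∈ minimalPrimes A}, Localization.AtPrime p.1.asIdeal)).range := by
  classical
  have hfinset : (minimalPrimes A).Finite := (⊥ : Ideal A).finite_minimalPrimes_of_isNoetherianRing
  haveI : Finite {p : PrimeSpectrum A // p.asIdeal ∈ minimalPrimes A} :=
    haveI := hfinset.to_subtype
    Finite.of_injective (fun p : {p : PrimeSpectrum A // p.asIdeal ∈ minimalPrimes A} => (⟨p.1.asIdeal, p.2⟩ : minimalPrimes A))
      fun p q h => Subtype.ext (PrimeSpectrum.ext (congrArg Subtype.val h))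
  letI := Fintype.ofFinite {p : PrimeSpectrum A // p.asIdeal ∈ minimalPrimes A}
  let L := (∀ p : {p : PrimeSpectrum A // p.asIdeal ∈ minimalPrimes A}, Localization.AtPrime p.1.asIdeal)
  obtain ⟨N, hN⟩ := IsNoetherianRing.isNilpotent_nilradical A
  have hm : ∀ (p : {p : PrimeSpectrum A // p.asIdeal ∈ minimalPrimes A}), ∃ e : A, e ∉ p.1.asIdeal ∧
      ∀ q : {p : PrimeSpectrum A // p.asIdeal ∈ minimalPrimes A}, q ≠ p → algebraMap A (Localization.AtPrime q.1.asIdeal) e = 0 := by
    intro p
    have hc : ∀ q : {p : PrimeSpectrum A // p.asIdeal ∈ minimalPrimes A}, ∃ c : A, c ∉ p.1.asIdeal ∧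
        (q ≠ p → algebraMap A (Localization.AtPrime q.1.asIdeal) c = 0) := by
      intro q
      by_cases h : q = p
      · exact ⟨1, fun h1 => p.1.2.ne_top ((Ideal.eq_top_iff_one _).2 h1), fun h2 => absurd h h2⟩
      obtain ⟨c, hc1, hc2⟩ : ∃ c ∈ q.1.asIdeal, c ∉ p.1.asIdeal := SetLike.not_le_iff_exists.1 fun hle =>
        h (Subtype.ext (PrimeSpectrum.ext (le_antisymm hle (p.2.2 ⟨q.1.2, bot_le⟩ hle))))
      have hnil : IsNilpotent (algebraMap A (Localization.AtPrime q.1.asIdeal) c) := by
        rw [← mem_nilradical, nilradical_eq_sInf]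
        refine Submodule.mem_sInf.2 fun P hP => ?_
        replace hP : Ideal.IsPrime P := hP
        haveI := hP
        have h1 := IsLocalization.AtPrime.orderIsoOfPrime (Localization.AtPrime q.1.asIdeal) q.1.asIdeal ⟨P, hP⟩
        have h2 : Ideal.comap (algebraMap A (Localization.AtPrime q.1.asIdeal)) P ≤ q.1.asIdeal := fun z hz => by
          by_contra hzq
          exact hP.ne_top (Ideal.eq_top_of_isUnit_mem _ hz (IsLocalization.map_units (Localization.AtPrime q.1.asIdeal) (⟨z, hzq⟩ : q.1.asIdeal.primeCompl)))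
        exact q.2.2 ⟨Ideal.IsPrime.comap _, bot_le⟩ h2 hc1
      obtain ⟨k, hk⟩ := hnil
      refine ⟨c ^ (k + 1), fun hc => hc2 (p.1.2.mem_of_pow_mem _ hc), fun _ => ?_⟩
      rw [map_pow, pow_succ, hk, zero_mul]
    choose c hc1 hc2 using hc
    refine ⟨∏ q, c q, fun h => ?_, fun q hq => ?_⟩
    · obtain ⟨q, -, hq⟩ := p.1.2.prod_mem_iff.1 h
      exact hc1 q hq
    · rw [map_prod]
      exact Finset.prod_eq_zero (Finset.mem_univ q) (hc2 q hq)
  choose e he he0 using hm
  have hfrac : ∀ x : L, ∃ s y : A, (∀ q : {p : PrimeSpectrum A // p.asIdeal ∈ minimalPrimes A}, s ∉ q.1.asIdeal) ∧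
      algebraMap A L s * x = algebraMap A L y := by
    intro x
    choose ys hys using fun q => IsLocalization.surj (M := q.1.asIdeal.primeCompl) (x q)
    let s := ∑ q, e q * ((ys q).2 : A)
    have hs : ∀ q, algebraMap A (Localization.AtPrime q.1.asIdeal) s =
        algebraMap A _ (e q * ((ys q).2 : A)) := fun q => by
      rw [map_sum]
      refine Finset.sum_eq_single q (fun r _ hr => ?_) (by simp)
      rw [map_mul, he0 r q hr.symm, zero_mul]
    refine ⟨s, ∑ q, e q * (ys q).1, fun q hq => ?_, funext fun q => ?_⟩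
    · have hu : IsUnit (algebraMap A (Localization.AtPrime q.1.asIdeal) s) := by
        rw [hs q]
        exact IsLocalization.map_units _ (⟨_, q.1.asIdeal.primeCompl.mul_mem (he q) (ys q).2.2⟩ : q.1.asIdeal.primeCompl)
      exact (IsLocalization.AtPrime.isUnit_to_map_iff (Localization.AtPrime q.1.asIdeal) q.1.asIdeal s).1 hu hq
    · show algebraMap A _ s * x q = algebraMap A _ (∑ r, e r * (ys r).1)
      rw [hs q, map_sum, Finset.sum_eq_single q (fun r _ hr => by rw [map_mul, he0 r q hr.symm, zero_mul]) (by simp),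
        map_mul, map_mul, mul_assoc, mul_comm _ (x q), hys q]
  choose s y hsq hsy using fun j : ℕ => hfrac (i ^ j)
  let S := ∏ j ∈ Finset.range N, s j
  obtain ⟨M, hM⟩ : ∃ M, IsLocalRing.maximalIdeal A ^ M ≤ Ideal.span {S} := by
    refine Ideal.exists_pow_le_of_le_radical_of_fg ?_ (IsNoetherian.noetherian _)
    rw [Ideal.radical_eq_sInf]
    refine le_sInf fun P ⟨hle, hP⟩ => ?_
    haveI := hP
    obtain ⟨q, hq, hqP⟩ := Ideal.exists_minimalPrimes_le (I := (⊥ : Ideal A)) (J := P) bot_le
    have hlt : q < P := lt_of_le_of_ne hqP fun h => by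
      have hS : S ∈ q := h ▸ ((Ideal.span_singleton_le_iff_mem _).1 hle)
      haveI := hq.1.1
      obtain ⟨j, -, hj⟩ := (Ideal.IsPrime.prod_mem_iff).1 hS
      exact hsq j ⟨⟨q, hq.1.1⟩, hq⟩ hj
    have h1 : (1 : ℕ∞) ≤ P.height := by
      rw [Order.one_le_iff_pos, pos_iff_ne_zero]
      intro h0
      have := Ideal.height_eq_zero_iff.1 h0
      exact hlt.not_ge (this.2 ⟨hq.1.1, bot_le⟩ hqP)
    by_contra hne
    have hPm : P < IsLocalRing.maximalIdeal A := lt_of_le_of_ne (IsLocalRing.le_maximalIdeal hP.ne_top) fun h => hne h.ge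
    have h2 := Ideal.height_strict_mono_of_isPrime hPm
    have h3 : (IsLocalRing.maximalIdeal A).height = 1 := by
      have := IsLocalRing.maximalIdeal_height_eq_ringKrullDim (R := A)
      rw [hdim] at this
      exact_mod_cast this
    rw [h3] at h2
    exact h2.not_ge h1
  have hiN : i ^ N = 0 := by
    have h := Ideal.pow_mem_pow hi N
    rwa [← Ideal.map_pow, hN, Ideal.zero_eq_bot, Ideal.map_bot, Ideal.mem_bot] at h
  refine ⟨N + M + 1, by omega, ?_⟩
  rw [add_pow]
  refine Subring.sum_mem _ fun j _ => ?_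
  rcases lt_or_ge j N with hj | hj
  · obtain ⟨t, ht⟩ := Ideal.mem_span_singleton'.1 (hM (Ideal.pow_mem_pow ha M))
    obtain ⟨S', hS'⟩ := Finset.dvd_prod_of_mem s (Finset.mem_range.2 hj)
    obtain ⟨r, hr⟩ : ∃ r, N + M + 1 - j = M + r := ⟨N + 1 - j, by omega⟩
    refine Subring.mul_mem _ ?_ (natCast_mem _ _)
    refine ⟨t * S' * y j * a ^ r, ?_⟩
    rw [hr, pow_add, ← map_pow, ← map_pow, ← ht, show S = s j * S' from hS', map_mul, map_mul, map_mul, map_mul, map_mul, ← hsy j]
    ring
  · rw [pow_eq_zero_of_le hj hiN, zero_mul, zero_mul]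
    exact Subring.zero_mem _

end Groth.Agent.S7667
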