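import Groth.Statements.S7674
import Groth.Agent.AffDimLib.Diag
import Groth.Agent.HLVTLib.SpecDim

set_option autoImplicit false
set_option linter.all false
universe u
open CategoryTheory CategoryTheory.Limits AlgebraicGeometry
open Variety

namespace Groth.Agent.S7674

open PrimeSpectrum in
theorem top_dim_ge {k : Type u} [Field k] {σ : Type u} [Finite σ] (n : ℕ) (hn : Nat.card σ = n) (r s : ℕ)
    (A : Type u) [TopologicalSpace A] (h : A ≃ₜ PrimeSpectrum (MvPolynomial σ k))
    (X Y : Set A) (hX : IsClosed X) (hY : IsClosed Y)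
    (hXr : ∀ Z ∈ irreducibleComponents X, topologicalKrullDim Z = r)
    (hYs : ∀ Z ∈ irreducibleComponents Y, topologicalKrullDim Z = s)
    (Z : Set ↥(X ∩ Y)) (hZ : Z ∈ irreducibleComponents ↥(X ∩ Y)) :
    ((r + s : ℕ) : WithBot ℕ∞) ≤ topologicalKrullDim Z + (n : WithBot ℕ∞) := by
  haveI : QuasiSober A := h.isOpenEmbedding.quasiSober
  -- dimension of a closure
  have hdim : ∀ a : A, topologicalKrullDim ↥(closure ({a} : Set A)) =
      ringKrullDim (MvPolynomial σ k ⧸ (h a).asIdeal) := by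
    intro a
    rw [((h.image (closure {a})).trans (Homeomorph.setCongr (show h '' closure {a} = zeroLocus ((h a).asIdeal : Set _) by
      rw [h.image_closure, Set.image_singleton, PrimeSpectrum.closure_singleton]))).isHomeomorph.topologicalKrullDim_eq]
    exact HLVTLib.Conn.dim_zeroLocus _
  -- irreducible components of a closed set
  have comp : ∀ (W : Set A), IsClosed W → ∀ (C : Set W), C ∈ irreducibleComponents W →
      ∃ c : A, c ∈ W ∧ Subtype.val '' C = closure {c} ∧
        topologicalKrullDim C = topologicalKrullDim ↥(closure ({c} : Set A)) := by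
    intro W hW C hC
    have h1 : IsClosed (Subtype.val '' C) :=
      hW.isClosedEmbedding_subtypeVal.isClosedMap _ (isClosed_of_mem_irreducibleComponents C hC)
    have h2 : IsIrreducible (Subtype.val '' C) := hC.1.image _ continuous_subtype_val.continuousOn
    obtain ⟨c, hc⟩ := QuasiSober.sober h2 h1
    have hc' : Subtype.val '' C = closure {c} := hc.symm
    refine ⟨c, ?_, hc', ?_⟩
    · have : c ∈ Subtype.val '' C := hc' ▸ subset_closure rfl
      obtain ⟨⟨_, hm⟩, -, rfl⟩ := this
      exact hm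
    · rw [← hc']
      exact ((Topology.IsEmbedding.subtypeVal.homeomorphImage C).isHomeomorph).topologicalKrullDim_eq
  obtain ⟨z, hzXY, hzc, hzd⟩ := comp _ (hX.inter hY) Z hZ
  have above : ∀ (W : Set A), IsClosed W → z ∈ W → ∀ d : ℕ,
      (∀ C ∈ irreducibleComponents W, topologicalKrullDim C = d) →
      ∃ x : A, x ⤳ z ∧ closure {x} ⊆ W ∧ ringKrullDim (MvPolynomial σ k ⧸ (h x).asIdeal) = (d : WithBot ℕ∞) := by
    intro W hW hzW d hd
    obtain ⟨C, hC, hzC⟩ : ∃ C ∈ irreducibleComponents W, (⟨z, hzW⟩ : W) ∈ C :=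
      ⟨irreducibleComponent _, irreducibleComponent_mem_irreducibleComponents _, mem_irreducibleComponent⟩
    obtain ⟨x, hxW, hxc, hxd⟩ := comp W hW C hC
    refine ⟨x, ?_, hW.closure_subset_iff.2 (Set.singleton_subset_iff.2 hxW), ?_⟩
    · rw [specializes_iff_mem_closure, ← hxc]; exact ⟨_, hzC, rfl⟩
    · rw [← hdim, ← hxd]; exact hd C hC
  obtain ⟨x, hxz, hxX, hx⟩ := above X hX hzXY.1 r hXr
  obtain ⟨y, hyz, hyY, hy⟩ := above Y hY hzXY.2 s hYs
  have hle : ∀ a b : A, a ⤳ b ↔ (h a).asIdeal ≤ (h b).asIdeal := fun a b => by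
    rw [← h.isInducing.specializes_iff, ← PrimeSpectrum.le_iff_specializes]
    rfl
  have hmin : (h z).asIdeal ∈ ((h x).asIdeal ⊔ (h y).asIdeal).minimalPrimes := by
    refine ⟨⟨(h z).isPrime, sup_le ((hle x z).1 hxz) ((hle y z).1 hyz)⟩, ?_⟩
    rintro P ⟨hP, hxyP⟩ hPz
    let w := h.symm ⟨P, hP⟩
    have hw : (h w).asIdeal = P := by simp [w]
    have hwz : w ⤳ z := (hle w z).2 (hw ▸ hPz)
    have hwX : w ∈ X := hxX (specializes_iff_mem_closure.1 ((hle x w).2 (hw ▸ le_sup_left.trans hxyP)))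
    have hwY : w ∈ Y := hyY (specializes_iff_mem_closure.1 ((hle y w).2 (hw ▸ le_sup_right.trans hxyP)))
    let w' : ↥(X ∩ Y) := ⟨w, hwX, hwY⟩
    have hsub : Z ⊆ closure {w'} := fun v hv => by
      rw [← specializes_iff_mem_closure]
      exact Topology.IsInducing.subtypeVal.specializes_iff.1
        (hwz.trans (specializes_iff_mem_closure.2 (hzc ▸ ⟨v, hv, rfl⟩)))
    have heq : closure {w'} ⊆ Z := hZ.2 isIrreducible_singleton.closure hsub
    have hzw : z ⤳ w := by
      rw [specializes_iff_mem_closure, ← hzc]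
      exact ⟨w', heq (subset_closure rfl), rfl⟩
    exact hw ▸ (hle z w).1 hzw
  have := AffDimLib.dim_ge (h x).asIdeal (h y).asIdeal (h z).asIdeal hmin hx hy
  rwa [hn, ← hdim, ← hzd] at this

/-- Let k be a field, n ≥ 0, and X, Y ⊆ A^n_k closed subsets which are equidimensional of dimensions r
and s. Then each irreducible component Z of the intersection X ∩ Y satisfies dim Z ≥ r + s − n. -/
theorem result (k : Type u) [Field k] (n r s : ℕ)
    (X Y : Set ↥(𝔸(ULift.{u} (Fin n); Spec (CommRingCat.of k)))) (hX : IsClosed X) (hY : IsClosed Y)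
    (hXr : ∀ Z ∈ irreducibleComponents X, topologicalKrullDim Z = r)
    (hYs : ∀ Z ∈ irreducibleComponents Y, topologicalKrullDim Z = s)
    (Z : Set ↥(X ∩ Y)) (hZ : Z ∈ irreducibleComponents ↥(X ∩ Y)) :
    ((r + s : ℕ) : WithBot ℕ∞) ≤ topologicalKrullDim Z + (n : WithBot ℕ∞) :=
  top_dim_ge n (by simp) r s _
    (TopCat.homeoOfIso (Scheme.forgetToTop.mapIso (AffineSpace.SpecIso (ULift.{u} (Fin n)) (CommRingCat.of k))))
    X Y hX hY hXr hYs Z hZ

end Groth.Agent.S7674
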