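import Groth.Statements.S7676
import Groth.Agent.ProjSecLib.Hyperplane

set_option autoImplicit false
universe u
open CategoryTheory CategoryTheory.Limits AlgebraicGeometry
open Variety

namespace Groth.Agent.S7676

/-- Let k be a field, n ≥ 1 and i : H → P^n_k a hyperplane, the zero scheme of a nonzero section of
O(1). Then there is an isomorphism φ : P^{n-1}_k → H under which i^*O(1) pulls back to O(1).
(Indexed here with P^{n+1} and P^n.) -/
theorem result (k : Type u) [Field k] (n : ℕ)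
    (s : Coh.structureModule (CohB1.ProjSpace (n + 1) k) ⟶ Twist.twistProjSpace (n + 1) k 1) (hs : s ≠ 0) :
    ∃ φ : CohB1.ProjSpace n k ≅ (PicF2.zeroScheme _ s).subscheme,
      Nonempty ((Scheme.Modules.pullback (φ.hom ≫ (PicF2.zeroScheme _ s).subschemeι)).obj
          (Twist.twistProjSpace (n + 1) k 1) ≅ Twist.twistProjSpace n k 1) := by
  classical
  haveI := GenusZeroLib.isIntegral_projSpace k (n + 1)
  haveI : IsIntegral (Proj (CohB1.polyGrading (n + 1) k)) := GenusZeroLib.isIntegral_projSpace k (n + 1)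
  let 𝒜 := CohB1.polyGrading (n + 1) k
  let L : (Proj 𝒜).Modules := Twist.twist 𝒜 ((1 : ℕ) : ℤ)
  let s' : Coh.structureModule (Proj 𝒜) ⟶ L := s
  have hL : PicF.IsInvertible L := TwistLib.twist_isInvertible 𝒜 (eq_top_iff.mpr fun x _ => by
    obtain ⟨i, hi⟩ := ProjSecLib.cover (R := k) (n := n + 1) x
    exact TopologicalSpace.Opens.mem_iSup.mpr ⟨⟨MvPolynomial.X i, ProjSecLib.X_mem i⟩, hi⟩) _
  obtain ⟨⟨a, ha⟩, hval⟩ := ProjSecLib.globalOf_surjective (R := k) (n := n + 1) (d := 1)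
    (show Γ(L, ⊤) from ProjSecLib.sec s' ⊤)
  have hsec : ProjSecLib.sec s' ⊤ ≠ 0 := fun h => hs (ProjSecLib.eq_zero_of_sec s' h)
  -- the equation
  obtain ⟨c, hc⟩ : ∃ c : Fin (n + 2) → k, a = ProjSecLib.form k n (c := c) := by
    refine ⟨fun i => MvPolynomial.coeff (Finsupp.single i 1) a, MvPolynomial.ext _ _ fun e => ?_⟩
    rw [show ProjSecLib.form k n (c := fun i => MvPolynomial.coeff (Finsupp.single i 1) a) =
      ∑ i, MvPolynomial.C (MvPolynomial.coeff (Finsupp.single i 1) a) * MvPolynomial.X i from rfl,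
      MvPolynomial.coeff_sum]
    simp only [MvPolynomial.coeff_C_mul, MvPolynomial.coeff_X']
    by_cases he : Finsupp.degree e = 1
    · obtain ⟨i, rfl⟩ := (Finsupp.sum_eq_one_iff e).mp he
      rw [Finset.sum_eq_single i]
      · simp
      · intro j _ hj
        simp [Finsupp.single_eq_single_iff, hj]
      · simp
    · rw [MvPolynomial.IsHomogeneous.coeff_eq_zero ha he, Finset.sum_eq_zero]
      intro j _
      rw [if_neg, mul_zero]
      intro hj
      exact he (by rw [← hj]; simp)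
  subst hc
  obtain ⟨p, hp⟩ : ∃ p, c p ≠ 0 := by
    by_contra hne
    push Not at hne
    apply hsec
    refine hval.symm.trans ?_
    have h0 : (ProjSecLib.form k n (c := c)) = 0 := Finset.sum_eq_zero fun i _ => by rw [hne i, map_zero, zero_mul]
    refine TwistLib.sec_ext fun x => ?_
    show Localization.mk (ProjSecLib.form k n (c := c)) _ = 0
    rw [h0, Localization.mk_zero]
  let φ := ProjSecLib.phi k n c p
  have hφs : Function.Surjective φ := ProjSecLib.phi_surjective k n c p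
  have hφ := ProjClosedLib.irrelevant_le_map φ hφs
  let r := Proj.map φ hφ
  haveI : IsClosedImmersion r := ProjClosedLib.isClosedImmersion_map φ hφs hφ
  -- frame
  let u : ∀ j, Γ(L, Proj.basicOpen 𝒜 (MvPolynomial.X j)) := fun j =>
    AmpleLib.res L le_top (Twist.globalOf 𝒜 ⟨MvPolynomial.X j, ProjSecLib.X_mem j⟩)
  let ℓ : ∀ j, Γ(Proj 𝒜, Proj.basicOpen 𝒜 (MvPolynomial.X j)) := fun j =>
    ProjClosedLib.fr 𝒜 (ProjSecLib.X_mem j) (ProjSecLib.form_mem k n (c := c))
  have hu : ∀ j, ℓ j • u j = ProjSecLib.sec s' (Proj.basicOpen 𝒜 (MvPolynomial.X j)) := fun j => by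
    refine (TwistLib.frac_smul_globalOf 𝒜 (ProjSecLib.X_mem j) (ProjSecLib.form_mem k n (c := c))).trans ?_
    exact (congrArg (AmpleLib.res L le_top) hval).trans (ProjSecLib.sec_res s' le_top)
  have hug : ∀ j, AmpleLib.GenOn L (u j) := fun j => TwistLib.globalOf_genOn 𝒜 (ProjSecLib.X_mem j)
  let A : Fin (n + 2) → (Proj 𝒜).affineOpens := fun j =>
    ⟨Proj.basicOpen 𝒜 (MvPolynomial.X j), Proj.isAffineOpen_basicOpen 𝒜 _ (ProjSecLib.X_mem j) one_pos⟩
  have hker : r.ker = PicF2.zeroScheme L s' := by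
    refine le_antisymm (Scheme.IdealSheafData.le_ofIdeals_iff.mpr fun U a ha => ?_) ?_
    · refine ProjSecLib.mem_zeroIdealOn_of_local s' hL hsec (show Γ(Proj 𝒜, U.1) from a) fun x hx => ?_
      obtain ⟨j, hj⟩ := ProjSecLib.cover (R := k) (n := n + 1) x
      obtain ⟨V, hV, hxV, hVle⟩ := TopologicalSpace.Opens.isBasis_iff_nbhd.mp (Proj 𝒜).isBasis_affineOpens
        (show x ∈ U.1 ⊓ (A j).1 from ⟨hx, hj⟩)
      have hVU : V ≤ U.1 := hVle.trans inf_le_left
      have hVA : V ≤ (A j).1 := hVle.trans inf_le_right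
      refine ⟨V, hVU, hxV, ?_⟩
      have h1 : (Proj 𝒜).presheaf.map (homOfLE hVU).op a ∈ r.ker.ideal ⟨V, hV⟩ := by
        rw [← r.ker.map_ideal (U := ⟨V, hV⟩) (V := U) hVU]
        exact Ideal.mem_map_of_mem _ ha
      rw [← r.ker.map_ideal (U := ⟨V, hV⟩) (V := A j) hVA] at h1
      have h2 : r.ker.ideal (A j) ≤ Ideal.span {ℓ j} := by
        intro y hy
        rw [Scheme.Hom.ker_apply, RingHom.mem_ker] at hy
        obtain ⟨b, hb⟩ := (ProjSecLib.mem_ker_iff k n hp j hφ y).mp hy
        exact Ideal.mem_span_singleton'.mpr ⟨b, hb.symm⟩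
      have h3 := Ideal.map_mono h2 h1
      rw [Ideal.map_span, Set.image_singleton] at h3
      obtain ⟨b, hb⟩ := Ideal.mem_span_singleton'.mp h3
      intro m
      obtain ⟨cc, hcc⟩ := (hug j V hVA).2 m
      refine ⟨b * cc, ?_⟩
      have h4 : (Proj 𝒜).presheaf.map (homOfLE hVA).op (ℓ j) • AmpleLib.res L hVA (u j) = ProjSecLib.sec s' V := by
        rw [← AmpleLib.res_smul, hu, ProjSecLib.sec_res]
      show (Proj 𝒜).presheaf.map (homOfLE hVU).op a • (show Γ(L, V) from m) = (b * cc) • ProjSecLib.sec s' V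
      rw [← hb, ← h4]
      change (b * _) • _ = _
      rw [← show cc • AmpleLib.res L hVA (u j) = (show Γ(L, V) from m) from hcc, smul_smul, smul_smul]
      congr 1
      exact mul_right_comm _ _ _
    · refine Scheme.IdealSheafData.le_of_iSup_eq_top A ?_ fun j y hy => ?_
      · exact eq_top_iff.mpr fun x _ => by
          obtain ⟨j, hj⟩ := ProjSecLib.cover (R := k) (n := n + 1) x
          exact TopologicalSpace.Opens.mem_iSup.mpr ⟨j, hj⟩
      · obtain ⟨b, hb⟩ := Scheme.IdealSheafData.ideal_ofIdeals_le _ (A j) hy (u j)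
        rw [Scheme.Hom.ker_apply, RingHom.mem_ker]
        refine (ProjSecLib.mem_ker_iff k n hp j hφ y).mpr ⟨b, (hug j _ le_rfl).1 ?_⟩
        dsimp only
        rw [AmpleLib.res_refl]
        refine Eq.trans ?_ (mul_smul (show Γ(Proj 𝒜, Proj.basicOpen 𝒜 (MvPolynomial.X j)) from b) _ _).symm
        exact (show _ = _ from hb).trans (congrArg (_ • ·) (hu j).symm)
  let Z := (PicF2.zeroScheme L s').subschemeι
  have hZk : Z.ker = r.ker := (PicF2.zeroScheme L s').ker_subschemeι.trans hker.symm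
  let l := IsClosedImmersion.lift Z r hZk.le
  refine ⟨@asIso _ _ _ _ l (IsClosedImmersion.isIso_lift Z r hZk), ?_⟩
  have hl : l ≫ Z = r := IsClosedImmersion.lift_fac _ _ _
  obtain ⟨e⟩ := ProjSecLib.exists_iso_pullback_map φ hφ (fun i => MvPolynomial.X i) ProjSecLib.X_mem
    (ProjSecLib.exists_phi_X_ne_zero k n c p)
  exact ⟨eqToIso (congrArg (fun f => (Scheme.Modules.pullback f).obj L) hl) ≪≫ e⟩

end Groth.Agent.S7676
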