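import Groth.Statements.S7677
import Groth.Agent.HilbPolyLib.Ample
import Groth.Agent.GrTildeLib.MulTwist
import Groth.Agent.TwistLib.Ample
import Groth.Agent.ProjSecLib.Hyperplane
import Groth.Agent.ProjDegLib.Criterion

set_option autoImplicit false
set_option linter.style.haveILetI false
universe u
open CategoryTheory CategoryTheory.Limits AlgebraicGeometry
open Variety

namespace Groth.Agent.S7677

/-- Let k be a field, n ≥ 0 and F a coherent module on P^n_k with Hilbert polynomial P, i.e. χ(P^n_k,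
F(d)) = P(d) for all d. Then P(d) = dim_k H^0(P^n_k, F(d)) for all d ≫ 0. -/
theorem result (k : Type u) [Field k] (n : ℕ)
    (F : (CohB1.ProjSpace n k).Modules) (hF : Coh.IsCoh F) (P : Polynomial ℚ)
    (hP : ∀ d : ℤ, (Curv2.euler k (CohB1.ProjSpace n k)
      (CohB1.tensorMod F (Twist.twistProjSpace n k d)) : ℚ) = P.eval (d : ℚ)) :
    ∃ d₀ : ℤ, ∀ d : ℤ, d₀ ≤ d →
      P.eval (d : ℚ) = (Module.finrank k (Coh.HH (CohB1.ProjSpace n k)
        (CohB1.tensorMod F (Twist.twistProjSpace n k d)) 0) : ℚ) := by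
  classical
  let 𝒜 := CohB1.polyGrading n k
  let L := Twist.twistProjSpace n k 1
  haveI : IsProper (CohB1.ProjSpace n k ↘ Spec (CommRingCat.of k)) := ProjDegLib.toSpec_isProper k n
  have hcov : ∀ x : Proj 𝒜, ∃ g ∈ 𝒜 1, g ∉ x.asHomogeneousIdeal := fun x => by
    obtain ⟨i, hi⟩ := ProjSecLib.cover (R := k) (n := n) x
    exact ⟨MvPolynomial.X i, ProjSecLib.X_mem i, hi⟩
  have hinv : ∀ m : ℤ, PicF.IsInvertible (Twist.twistProjSpace n k m) := fun m =>
    TwistLib.twist_isInvertible 𝒜 (eq_top_iff.mpr fun x _ => by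
      obtain ⟨g, hg, hgx⟩ := hcov x
      exact TopologicalSpace.Opens.mem_iSup.mpr ⟨⟨g, hg⟩, hgx⟩) m
  have hA : CohB1.IsAmple L := TwistLib.twist_one_isAmple 𝒜
    (Finset.univ.image (MvPolynomial.X : Fin (n + 1) → MvPolynomial (Fin (n + 1)) k))
    (fun f hf => by obtain ⟨i, -, rfl⟩ := Finset.mem_image.mp hf; exact ProjSecLib.X_mem i)
    (fun a ha => by
      rw [Finset.coe_image, Finset.coe_univ, MvPolynomial.mem_ideal_span_X_image]
      intro e he
      by_contra h0
      push Not at h0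
      obtain rfl : e = 0 := Finsupp.ext fun i => h0 i (Set.mem_univ i)
      refine (MvPolynomial.mem_support_iff.mp he) ?_
      rw [← DirectSum.sum_support_decompose 𝒜 a, MvPolynomial.coeff_sum]
      refine Finset.sum_eq_zero fun j _ => ?_
      by_contra hne
      obtain rfl : j = 0 := by
        simpa using ((DirectSum.decompose 𝒜 a j).2 hne).symm
      have h00 : ((DirectSum.decompose 𝒜 a 0 : 𝒜 0) : MvPolynomial (Fin (n + 1)) k) = 0 := by
        have := (HomogeneousIdeal.mem_irrelevant_iff 𝒜 a).mp ha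
        rwa [GradedRing.proj_apply] at this
      rw [h00, MvPolynomial.coeff_zero] at hne
      exact hne rfl)
  have hpow : ∀ m : ℕ, Nonempty (CohB1.tensorMod (Twist.twistProjSpace n k 0) (CohB1.tensorPow L m) ≅
      Twist.twistProjSpace n k m) := by
    intro m
    induction m with
    | zero => exact ⟨HilbPolyLib.swapIso _ _ ≪≫ HilbPolyLib.unitLeft _⟩
    | succ m ih =>
      obtain ⟨e⟩ := ih
      obtain ⟨e'⟩ := GrTildeLib.twist_tensor_twist hcov (m : ℤ) 1
      refine ⟨(HilbPolyLib.assocIso _ _ _).symm ≪≫ HilbPolyLib.congrLeft e L ≪≫ e' ≪≫ eqToIso ?_⟩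
      rw [Nat.cast_succ]
      rfl
  have hM : Coh.IsCoh (CohB1.tensorMod F (Twist.twistProjSpace n k 0)) := SerreVanLib.isCoh_tensor hF (hinv 0)
  obtain ⟨N, hN⟩ := SerreVanLib.exists_vanishing (CohB1.ProjSpace n k ↘ Spec (CommRingCat.of k)) hA.1 hA _ hM
  refine ⟨(N : ℤ), fun d hd => ?_⟩
  obtain ⟨m, rfl⟩ := Int.eq_ofNat_of_zero_le ((Int.natCast_nonneg N).trans hd)
  obtain ⟨e⟩ := hpow m
  rw [← hP, CurvLib.euler_eq_finrank fun p hp => SerreVanLib.subsingleton_HH_of_iso
    (HilbPolyLib.assocIso F _ _ ≪≫ HilbPolyLib.congrRight F e).symm p (hN m (by exact_mod_cast hd) p hp)]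
  norm_cast

end Groth.Agent.S7677
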