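import Groth.Statements.S7678
import Groth.Agent.GeomRedFieldLib.Frobenius
-- import your own Groth.Agent.* helpers here

set_option autoImplicit false
universe u
open CategoryTheory CategoryTheory.Limits AlgebraicGeometry
open Variety

namespace Groth.Agent.S7678

/-- For a field k of positive characteristic p and a k-scheme X, the base change of X along the p-th
power map of k is a reduced scheme exactly when X is geometrically reduced over k. -/
theorem result (k : Type u) [Field k] (X : Scheme.{u}) [X.Over (Spec (CommRingCat.of k))]
    (p : ℕ) [Fact p.Prime] [CharP k p] :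
    GeometricallyReduced (X ↘ (Spec (CommRingCat.of k))) ↔
      IsReduced ↑(pullback (X ↘ (Spec (CommRingCat.of k))) (Spec.map (CommRingCat.ofHom (frobenius k p)))) := by
  let f := X ↘ Spec (CommRingCat.of k)
  refine ⟨fun h ↦ GeometricallyReduced.geometrically_isReduced _ _ _ (.of_hasPullback _ _), fun h ↦ ?_⟩
  refine GeomRedFieldLib.gr_of_charts f fun T _ _ j hjo hj ↦ ?_
  haveI := hjo
  refine GeomRedFieldLib.isGeometricallyReduced_of_frobenius p T ?_
  obtain ⟨m, hm, -, -⟩ := GeomRedFieldLib.exists_bcChart f (GeomRedFieldLib.FK k p) j hj
  haveI := hm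
  haveI : AlgebraicGeometry.IsReduced (Limits.pullback f (GeomRedFieldLib.str k (GeomRedFieldLib.FK k p))) := h
  haveI := (affine_isReduced_iff _).mp (isReduced_of_isOpenImmersion m)
  exact isReduced_of_injective (Algebra.TensorProduct.comm k T (GeomRedFieldLib.FK k p)) (AlgEquiv.injective _)

end Groth.Agent.S7678
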