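import Groth.Statements.S7684
import Groth.Agent.NormDimOneLib.Chart
import Mathlib.RingTheory.Algebraic.Integral

set_option autoImplicit false
universe u
open CategoryTheory CategoryTheory.Limits AlgebraicGeometry
open Variety

namespace Groth.Agent.S7684

/-- For an integral scheme: let X be an integral locally Noetherian scheme of dimension one and ν : X^ν
→ X its normalization. Then ν has finite fibres and finite residue field extensions, and X^ν is a
locally Noetherian scheme whose nonempty affine opens are spectra of Dedekind domains. (The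
published statement is for any locally Noetherian X of dimension one, with X^ν → X_red, and also
says that ν is integral, surjective and birational, that X^ν is normal and that its stalks are the
integral closures of those of X; here X is integral, and those clauses, which hold for the
normalization of every integral scheme, are not restated.) -/
theorem result (X : Scheme.{u}) [IsIntegral X] [IsLocallyNoetherian X]
    [QuasiCompact (X.fromSpecStalk (genericPoint X))] [QuasiSeparated (X.fromSpecStalk (genericPoint X))]
    (hdim : topologicalKrullDim X = 1) :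
    (∀ x : X, Finite {x' : ↥(Curv2.normalization X) // (Curv2.normalizationι X).base x' = x}) ∧
      (∀ x' : ↥(Curv2.normalization X),
        letI := ((Curv2.normalizationι X).residueFieldMap x').hom.toAlgebra
        Module.Finite (X.residueField ((Curv2.normalizationι X).base x')) ((Curv2.normalization X).residueField x')) ∧
      IsLocallyNoetherian (Curv2.normalization X) ∧
      (∀ U : (Curv2.normalization X).affineOpens, ((U : (Curv2.normalization X).Opens) : Set ↥(Curv2.normalization X)).Nonempty →
        IsDedekindDomain Γ(Curv2.normalization X, (U : (Curv2.normalization X).Opens))) := by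
  haveI hint : IsIntegralHom (Curv2.normalizationι X) :=
    inferInstanceAs (IsIntegralHom (X.fromSpecStalk (genericPoint X)).fromNormalization)
  haveI : IsIntegral (Curv2.normalization X) :=
    inferInstanceAs (IsIntegral (X.fromSpecStalk (genericPoint X)).normalization)
  set ι := Curv2.normalizationι X with hι
  have haff : ∀ x : X, ∃ U : X.affineOpens, x ∈ U.1 := fun x => by
    obtain ⟨U, hU, hx, -⟩ := exists_isAffineOpen_mem_and_subset (x := x) (U := ⊤) trivial
    exact ⟨⟨U, hU⟩, hx⟩
  let W : X.affineOpens → (Curv2.normalization X).affineOpens := fun U => ⟨ι ⁻¹ᵁ U.1, U.2.preimage ι⟩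
  have hspec : ∀ (U : X.affineOpens) (x : X), x ∈ U.1 → _ := fun U x hx =>
    haveI : Nonempty U.1 := ⟨⟨x, hx⟩⟩
    NormDimOneLib.chart_spec X hdim U
  have hprm : ∀ (U : X.affineOpens) (x' : ↥(Curv2.normalization X)) (hx : ι x' ∈ U.1),
      (SDivLib.prm (W U) (x := x') hx).comap (ι.app U.1).hom = SDivLib.prm U hx := by
    intro U x' hx
    rw [Scheme.Hom.app_eq_appLE]
    exact congrArg PrimeSpectrum.asIdeal (IsAffineOpen.comap_primeIdealOf_appLE U.1 U.2 _ (U.2.preimage ι) le_rfl hx)
  refine ⟨fun x => ?_, fun x' => ?_, ?_, fun V hV => ?_⟩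
  · obtain ⟨U, hx⟩ := haff x
    have hfin := (hspec U x hx).2.1 (SDivLib.prm U hx)
    haveI := hfin.to_subtype
    refine Finite.of_injective (fun p : {x' : ↥(Curv2.normalization X) // ι x' = x} =>
      (⟨SDivLib.prm (W U) (x := p.1) (show ι p.1 ∈ U.1 from p.2.symm ▸ hx), SDivLib.prm_isPrime _ _, by
        obtain ⟨p, rfl⟩ := p
        exact hprm U p hx⟩ : {Q : Ideal Γ(Curv2.normalization X, ι ⁻¹ᵁ U.1) |
          Q.IsPrime ∧ Q.comap (ι.app U.1).hom = SDivLib.prm U hx})) fun p q hpq => ?_
    have h := congrArg Subtype.val hpq
    have hp : p.1 ∈ (W U).1 := show ι p.1 ∈ U.1 from p.2.symm ▸ hx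
    have hq : q.1 ∈ (W U).1 := show ι q.1 ∈ U.1 from q.2.symm ▸ hx
    exact Subtype.ext (((SDivLib.specializes_iff_prm (W U) hq hp).2 h.le).antisymm
      ((SDivLib.specializes_iff_prm (W U) hp hq).2 h.ge)).eq
  · obtain ⟨U, hxU⟩ := haff (ι x')
    have hx' : x' ∈ (W U).1 := hxU
    let Q := SDivLib.prm (W U) hx'
    haveI : Q.IsPrime := SDivLib.prm_isPrime _ _
    obtain ⟨T, hT⟩ := (hspec U _ hxU).2.2 Q
    letI := (ι.residueFieldMap x').hom.toAlgebra
    let φ : Γ(X, U.1) →+* X.residueField (ι x') := (X.evaluation U.1 (ι x') hxU).hom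
    let ψ : Γ(Curv2.normalization X, (W U).1) →+* (Curv2.normalization X).residueField x' :=
      ((Curv2.normalization X).evaluation (W U).1 x' hx').hom
    have hcomm : ∀ r, algebraMap _ _ (φ r) = ψ ((ι.app U.1).hom r) := fun r =>
      Scheme.evaluation_naturality_apply ι x' hxU r
    have hzero : ∀ b, ψ b = 0 ↔ b ∈ Q := fun b => by
      rw [SDivLib.mem_prm_iff, ← mem_nonunits_iff, ← IsLocalRing.mem_maximalIdeal, ← IsLocalRing.residue_eq_zero_iff]
      rfl
    let S := Submodule.span (X.residueField (ι x')) (ψ '' (T : Set Γ(Curv2.normalization X, (W U).1)))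
    have hmem : ∀ b, ψ b ∈ S := by
      intro b
      obtain ⟨s, hs, hsb⟩ := hT b
      letI := (ι.app U.1).hom.toAlgebra
      obtain ⟨c, hc, d, hd, hcd⟩ := Submodule.mem_sup.1 hsb
      have hc' : ψ c ∈ S := by
        clear hcd hsb
        induction hc using Submodule.span_induction with
        | mem y hy => exact Submodule.subset_span ⟨y, hy, rfl⟩
        | zero => rw [map_zero]; exact S.zero_mem
        | add y z _ _ hy hz => rw [map_add]; exact S.add_mem hy hz
        | smul r y _ hy =>
          have : ψ (r • y) = φ r • ψ y := by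
            show ψ ((ι.app U.1).hom r * y) = algebraMap _ _ (φ r) * ψ y
            rw [map_mul, hcomm]
          rw [this]; exact S.smul_mem _ hy
      have hne : ψ ((ι.app U.1).hom s) ≠ 0 := fun h => hs ((hzero _).1 h)
      have heq : ψ c = φ s • ψ b := by
        show ψ c = algebraMap _ _ (φ s) * ψ b
        rw [hcomm, ← map_mul]
        have := congrArg ψ hcd
        rw [map_add, (hzero d).2 hd, add_zero] at this
        exact this
      have hφ : φ s ≠ 0 := fun h => hne (by rw [← hcomm, h, map_zero])
      rw [← inv_smul_smul₀ hφ (ψ b), ← heq]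
      exact S.smul_mem _ hc'
    let 𝔸 := Algebra.adjoin (X.residueField (ι x')) (Set.range ψ)
    have h𝔸 : 𝔸.toSubmodule ≤ S := by
      rw [Algebra.adjoin_eq_span_of_subset]
      · exact Submodule.span_le.2 (by rintro _ ⟨b, rfl⟩; exact hmem b)
      · intro z hz
        induction hz using Submonoid.closure_induction with
        | mem y hy => exact Submodule.subset_span hy
        | one => exact Submodule.subset_span ⟨1, map_one ψ⟩
        | mul y z _ _ hy hz =>
          refine Submodule.span_induction (fun a ha => ?_) (by simp) (fun a b _ _ ha hb => by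
            rw [add_mul]; exact add_mem ha hb) (fun r a _ ha => by rw [smul_mul_assoc]; exact Submodule.smul_mem _ r ha) hy
          obtain ⟨a, rfl⟩ := ha
          refine Submodule.span_induction (fun b hb => ?_) (by simp) (fun b c _ _ hb hc => by
            rw [mul_add]; exact add_mem hb hc) (fun r b _ hb => by rw [mul_smul_comm]; exact Submodule.smul_mem _ r hb) hz
          obtain ⟨b, rfl⟩ := hb
          exact Submodule.subset_span ⟨a * b, map_mul ψ a b⟩
    haveI : FiniteDimensional (X.residueField (ι x')) S :=
      FiniteDimensional.span_of_finite _ (T.finite_toSet.image ψ)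
    haveI : FiniteDimensional (X.residueField (ι x')) 𝔸 := Submodule.finiteDimensional_of_le h𝔸
    have htop : ∀ y, y ∈ S := by
      intro y
      obtain ⟨z, rfl⟩ : ∃ z, ((Curv2.normalization X).residue x').hom z = y :=
        IsLocalRing.residue_surjective (R := (Curv2.normalization X).presheaf.stalk x') y
      letI := (Curv2.normalization X).presheaf.algebra_section_stalk (⟨x', hx'⟩ : (W U).1)
      haveI : IsLocalization.AtPrime ((Curv2.normalization X).presheaf.stalk x') Q :=
        (W U).2.isLocalization_stalk ⟨x', hx'⟩
      obtain ⟨⟨b, t⟩, hbt⟩ := IsLocalization.surj Q.primeCompl z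
      have hbt' : ((Curv2.normalization X).residue x').hom z * ψ t = ψ b :=
        (map_mul ((Curv2.normalization X).residue x').hom _ _).symm.trans (congrArg _ hbt)
      have hne : ψ t ≠ 0 := fun h => t.2 ((hzero _).1 h)
      have hz : ((Curv2.normalization X).residue x').hom z = ψ b * (ψ t)⁻¹ := by
        rw [← hbt', mul_inv_cancel_right₀ hne]
      refine h𝔸 ?_
      show _ ∈ 𝔸
      rw [hz]
      refine 𝔸.mul_mem (Algebra.subset_adjoin ⟨b, rfl⟩) ?_
      exact Subalgebra.inv_mem_of_algebraic 𝔸 (x := ⟨ψ t, Algebra.subset_adjoin ⟨_, rfl⟩⟩)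
        ((isAlgebraic_algHom_iff 𝔸.val Subtype.val_injective).2 (Algebra.IsAlgebraic.isAlgebraic (⟨ψ t, Algebra.subset_adjoin ⟨_, rfl⟩⟩ : 𝔸)))
    exact Module.Finite.of_fg_top (by
      rw [← eq_top_iff.2 (fun y _ => htop y)]
      exact Submodule.fg_span (T.finite_toSet.image ψ))
  · refine isLocallyNoetherian_of_affine_cover (S := fun x : X => W (haff x).choose) ?_ fun x => ?_
    · refine eq_top_iff.2 fun x' _ => TopologicalSpace.Opens.mem_iSup.2 ⟨ι x', ?_⟩
      exact (haff (ι x')).choose_spec
    · haveI := (hspec _ x (haff x).choose_spec).1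
      exact (inferInstance : IsNoetherianRing Γ(Curv2.normalization X, ι ⁻¹ᵁ (haff x).choose.1))
  · haveI : Nonempty V.1 := hV.to_subtype
    haveI hL : IsLocallyNoetherian (Curv2.normalization X) := by
      refine isLocallyNoetherian_of_affine_cover (S := fun x : X => W (haff x).choose) ?_ fun x => ?_
      · exact eq_top_iff.2 fun x' _ => TopologicalSpace.Opens.mem_iSup.2 ⟨ι x', (haff (ι x')).choose_spec⟩
      · haveI := (hspec _ x (haff x).choose_spec).1
        exact (inferInstance : IsNoetherianRing Γ(Curv2.normalization X, ι ⁻¹ᵁ (haff x).choose.1))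
    haveI : IsNoetherianRing Γ(Curv2.normalization X, V.1) := IsLocallyNoetherian.component_noetherian V
    haveI : IsDedekindDomainDvr Γ(Curv2.normalization X, V.1) := by
      refine { toIsNoetherian := inferInstance, is_dvr_at_nonzero_prime := fun P hP hPp => ?_ }
      obtain ⟨x', hx'V, rfl⟩ := SDivLib.exists_point V P
      obtain ⟨U, hxU⟩ := haff (ι x')
      have hx' : x' ∈ (W U).1 := hxU
      haveI : (SDivLib.prm (W U) hx').IsPrime := SDivLib.prm_isPrime _ _
      haveI : IsDedekindDomain Γ(Curv2.normalization X, (W U).1) := (hspec U _ hxU).1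
      haveI hdom : IsDomain ((Curv2.normalization X).presheaf.stalk x') := inferInstance
      have hnf : ¬ IsField ((Curv2.normalization X).presheaf.stalk x') := by
        letI := (Curv2.normalization X).presheaf.algebra_section_stalk (⟨x', hx'V⟩ : V.1)
        haveI : IsLocalization.AtPrime ((Curv2.normalization X).presheaf.stalk x') (SDivLib.prm V hx'V) :=
          V.2.isLocalization_stalk ⟨x', hx'V⟩
        exact IsLocalization.AtPrime.not_isField Γ(Curv2.normalization X, V.1) hP _
      letI := (Curv2.normalization X).presheaf.algebra_section_stalk (⟨x', hx'⟩ : (W U).1)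
      haveI : IsLocalization.AtPrime ((Curv2.normalization X).presheaf.stalk x') (SDivLib.prm (W U) hx') :=
        (W U).2.isLocalization_stalk ⟨x', hx'⟩
      have hQ : SDivLib.prm (W U) hx' ≠ ⊥ := fun h => hnf (by
        rw [IsLocalRing.isField_iff_maximalIdeal_eq,
          ← IsLocalization.AtPrime.map_eq_maximalIdeal (SDivLib.prm (W U) hx'), h, Ideal.map_bot])
      haveI hdvr : IsDiscreteValuationRing ((Curv2.normalization X).presheaf.stalk x') :=
        IsLocalization.AtPrime.isDiscreteValuationRing_of_dedekind_domain Γ(Curv2.normalization X, (W U).1) hQ _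
      letI := (Curv2.normalization X).presheaf.algebra_section_stalk (⟨x', hx'V⟩ : V.1)
      haveI : IsLocalization.AtPrime ((Curv2.normalization X).presheaf.stalk x') (SDivLib.prm V hx'V) :=
        V.2.isLocalization_stalk ⟨x', hx'V⟩
      exact IsDiscreteValuationRing.RingEquivClass.isDiscreteValuationRing
        (IsLocalization.algEquiv (SDivLib.prm V hx'V).primeCompl ((Curv2.normalization X).presheaf.stalk x')
          (Localization.AtPrime (SDivLib.prm V hx'V)))
    exact IsDedekindDomainDvr.isDedekindDomain _

end Groth.Agent.S7684
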