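import Groth.Statements.S7686
import Groth.Agent.IntMultLib.Main

set_option autoImplicit false
set_option linter.style.haveILetI false
universe u
open CategoryTheory CategoryTheory.Limits AlgebraicGeometry
open Variety

namespace Groth.Agent.S7686

/-- Let X be proper over a field k, Z ⊆ X a closed subscheme of dimension d with irreducible components
Z_i of dimension d (reduced induced structure, generic points ξ_i, multiplicities m_i = length of
O_{Z,ξ_i} over O_{X,ξ_i}) and L_1, …, L_d invertible modules. Then (L_1 ⋯ L_d · Z) = Σ m_i (L_1 ⋯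
L_d · Z_i). Intersection numbers are the n_1⋯n_d-coefficients of the polynomials computing the Euler
characteristics; the sum is written over all points ξ whose closure has dimension d (other terms
vanish). -/
theorem result (k : Type u) [Field k] (X : Scheme.{u}) [X.Over (Spec (CommRingCat.of k))] [IsProper (X ↘ (Spec (CommRingCat.of k)))]
    (D : X.IdealSheafData) (d : ℕ) (hD : topologicalKrullDim (D.support : Set X) = d)
    (L : Fin d → X.Modules) (hL : ∀ i, PicF.IsInvertible (L i)) (P : MvPolynomial (Fin d) ℚ)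
    (hP : ∀ n : Fin d → ℕ, (Curv2.euler k X (Curv2.tensorPows (ClSub.quotMod D) d L n) : ℚ) = MvPolynomial.eval (fun i => (n i : ℚ)) P)
    (Q : X → MvPolynomial (Fin d) ℚ)
    (hQ : ∀ ξ : X, topologicalKrullDim (closure ({ξ} : Set X)) = (d : WithBot ℕ∞) →
      ∀ n : Fin d → ℕ, (Curv2.euler k X (Curv2.tensorPows (ClSub.quotMod (Scheme.IdealSheafData.vanishingIdeal (⟨closure ({ξ} : Set X), isClosed_closure⟩ : TopologicalSpace.Closeds X))) d L n) : ℚ) = MvPolynomial.eval (fun i => (n i : ℚ)) (Q ξ)) :
    MvPolynomial.coeff (Finsupp.equivFunOnFinite.symm fun _ : Fin d => 1) P =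
      ∑ᶠ ξ : X, (if topologicalKrullDim (closure ({ξ} : Set X)) = (d : WithBot ℕ∞) then
        ((Module.length (X.presheaf.stalk ξ) ((ClSub.quotMod D).presheaf.stalk ξ)).toNat : ℚ) *
          MvPolynomial.coeff (Finsupp.equivFunOnFinite.symm fun _ : Fin d => 1) (Q ξ) else 0) := by
  haveI := CurvLib.isNoetherian k (X := X)
  have hsupp := CurvLib.support_quotMod_subset D
  have hmem : IntMultLib.hilb k L (ClSub.quotMod D) ∈ HilbPolyLib.polyFun d (d + 1) :=
    IntMultLib.hilb_mem hL (CurvLib.isCoh_quotMod D)
      (((Topology.IsInducing.topologicalKrullDim_le (f := Set.inclusion hsupp)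
        (Topology.IsInducing.subtypeVal.codRestrict _)).trans hD.le).trans_lt
          (by exact_mod_cast Nat.lt_succ_self d))
  have hcP := IntMultLib.coeff_eq_cubeSum hmem P (funext fun n => (IntMultLib.hilb_eq L _ n).trans (hP n))
  have hne : (D.support : Set X).Nonempty := by
    by_contra h
    haveI : IsEmpty (D.support : Set X) := Set.isEmpty_coe_sort.mpr (Set.not_nonempty_iff_eq_empty.mp h)
    haveI : IsEmpty (TopologicalSpace.IrreducibleCloseds (D.support : Set X)) :=
      ⟨fun Z => IsEmpty.false Z.isIrreducible.1.some⟩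
    simp [topologicalKrullDim, Order.krullDim_eq_bot] at hD
  obtain ⟨T, hT, hsub⟩ := IntMultLib.main (k := k) hL D.support.isClosed hne hD.le _
    (CurvLib.isCoh_quotMod D) hsupp
  have h0 := HilbPolyLib.cubeSum_eq_zero hsub
  rw [map_sub, sub_eq_zero, map_sum] at h0
  refine hcP.trans ?_
  rw [h0, Finset.mul_sum, finsum_eq_sum_of_support_subset _ (s := T) ?_]
  · refine Finset.sum_congr rfl fun ξ hξ => ?_
    obtain ⟨hξY, hdim⟩ := (hT ξ).mp hξ
    have hmemξ : IntMultLib.hilb k L (ClSub.quotMod (IntMultLib.ptIdeal ξ)) ∈ HilbPolyLib.polyFun d (d + 1) :=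
      IntMultLib.hilb_mem hL (IntMultLib.generator ξ).1 (by
        rw [(IntMultLib.generator ξ).2.1, hdim]; exact_mod_cast Nat.lt_succ_self d)
    rw [if_pos hdim, map_smul, smul_eq_mul, IntMultLib.coeff_eq_cubeSum hmemξ (Q ξ)
      (funext fun n => (IntMultLib.hilb_eq L _ n).trans (hQ ξ hdim n))]
    ring
  · intro ξ hξ
    rw [Function.mem_support] at hξ
    split_ifs at hξ with hdim
    · refine (hT ξ).mpr ⟨?_, hdim⟩
      by_contra h0
      exact hξ (by rw [show Module.length (X.presheaf.stalk ξ) ((ClSub.quotMod D).presheaf.stalk ξ) = 0 from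
        IntMultLib.len_eq_zero fun h => h0 (hsupp h)]; simp)
    · exact absurd rfl hξ

end Groth.Agent.S7686
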