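import Groth.Statements.S7687
import Groth.Agent.SemiGlue.Dvr
-- import your own Groth.Agent.* helpers here

set_option autoImplicit false
universe u
open CategoryTheory CategoryTheory.Limits AlgebraicGeometry
open Variety

namespace Groth.Agent.S7687

/-- Let K be a field and A, B ⊆ K Noetherian semi-local domains of dimension one with fraction field K
such that A ⊗ B → K is surjective, and R = A ∩ B. Then Spec A and Spec B each map to Spec R by an
open immersion, Spec R is the union of the two images, and the natural map A ⊗_R B → K is an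
isomorphism. -/
theorem result (K : Type u) [Field K]
    (A : Subring K) [IsFractionRing A K] (B : Subring K) [IsFractionRing B K] [IsNoetherianRing A] [IsNoetherianRing B]
    (hdimA : ringKrullDim A = 1) (hdimB : ringKrullDim B = 1)
    (hslA : Finite (MaximalSpectrum A)) (hslB : Finite (MaximalSpectrum B)) (hgen : A ⊔ B = ⊤) :
    IsOpenImmersion (Spec.map (CommRingCat.ofHom (Subring.inclusion (inf_le_left : A ⊓ B ≤ A)))) ∧
      IsOpenImmersion (Spec.map (CommRingCat.ofHom (Subring.inclusion (inf_le_right : A ⊓ B ≤ B)))) ∧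
      Set.range (Spec.map (CommRingCat.ofHom (Subring.inclusion (inf_le_left : A ⊓ B ≤ A)))).base ∪
        Set.range (Spec.map (CommRingCat.ofHom (Subring.inclusion (inf_le_right : A ⊓ B ≤ B)))).base = Set.univ ∧
      IsPushout (CommRingCat.ofHom (Subring.inclusion (inf_le_left : A ⊓ B ≤ A)))
        (CommRingCat.ofHom (Subring.inclusion (inf_le_right : A ⊓ B ≤ B)))
        (CommRingCat.ofHom A.subtype) (CommRingCat.ofHom B.subtype) := by
  obtain ⟨S⟩ := SemiGlue.exists_sep (A := ![A, B]) (R := A ⊓ B)
    (Fin.forall_fin_two.mpr ⟨⟨‹_›, ‹_›, hdimA, hslA⟩, ⟨‹_›, ‹_›, hdimB, hslB⟩⟩)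
    (by
      simp only [Fin.forall_fin_two]
      refine ⟨⟨fun h => absurd rfl h, fun _ => hgen⟩, ⟨fun _ => sup_comm B A ▸ hgen, fun h => absurd rfl h⟩⟩)
    (fun z => by simp [Fin.forall_fin_two, Subring.mem_inf])
  refine ⟨S.isOpenImmersion 0, S.isOpenImmersion 1, ?_, S.isPushout 1 0 (by decide)⟩
  refine Set.eq_univ_of_forall fun p => ?_
  obtain ⟨i, hi⟩ := Set.mem_iUnion.mp (S.iUnion_range.symm ▸ Set.mem_univ p : p ∈ ⋃ i, _)
  revert hi
  revert i
  exact Fin.forall_fin_two.mpr ⟨fun h => Or.inl h, fun h => Or.inr h⟩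

end Groth.Agent.S7687
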