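import Groth.Statements.S7690
import Mathlib
import Groth.Agent.MumfordLib.Main
import Groth.Agent.RpushLib.AffBaseBC
-- import your own Groth.Agent.* helpers here

set_option autoImplicit false
universe u
open CategoryTheory CategoryTheory.Limits AlgebraicGeometry
open Variety

namespace Groth.Agent.S7690

/-- Let k'/k be a field extension (k' in the universe of k), n ≥ 0, F a coherent module on P^n_k with
pullback F' to P^n_{k'}. For every integer m, F is m-regular exactly when F' is. Here P^n_{k'} is
taken as the base change P^n_k ×_k Spec k' and the m-regularity of F' is spelled out as the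
vanishing of H^i(P^n_{k'}, (F(m − i))') for 1 ≤ i ≤ n, (F(m − i))' being the pullback of F ⊗ O(m −
i). -/
theorem result (k : Type u) [Field k] (n : ℕ)
    (k' : Type u) [Field k'] [Algebra k k'] (F : (CohB1.ProjSpace n k).Modules) (hF : Coh.IsCoh F) (m : ℤ) :
    Curv2.IsMRegular k n F m ↔
      ∀ i : ℕ, 1 ≤ i → i ≤ n →
        Subsingleton (Coh.HH (Curv2.bc k (CohB1.ProjSpace n k) k')
          ((Scheme.Modules.pullback (Curv2.bcFst k (CohB1.ProjSpace n k) k')).obj
            (CohB1.tensorMod F (Twist.twistProjSpace n k (m - i)))) i) := by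
  let Pn := CohB1.ProjSpace n k
  haveI := MumfordLib.isProper_projSpace (n := n) k
  haveI := CurvLib.isNoetherian k (X := Pn)
  have key : ∀ i : ℕ, Subsingleton (Coh.HH Pn (CohB1.tensorMod F (Twist.twistProjSpace n k (m - i))) i) ↔
      Subsingleton (Coh.HH (Curv2.bc k Pn k') ((Scheme.Modules.pullback (Curv2.bcFst k Pn k')).obj
        (CohB1.tensorMod F (Twist.twistProjSpace n k (m - i)))) i) := fun i => by
    haveI := (MumfordLib.isCoh_tw k hF (m - i)).1
    obtain ⟨E⟩ := RpushLib.nonempty_affBase_bc (A := k) (B := k') (IsPullback.of_hasPullback _ _ :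
      IsPullback (Curv2.bcFst k Pn k') _ (Pn ↘ Spec (CommRingCat.of k)) (Spec.map (CommRingCat.ofHom (algebraMap k k'))))
      (CohB1.tensorMod F (Twist.twistProjSpace n k (m - i))) i
    letI := Module.compHom (Coh.HH Pn (CohB1.tensorMod F (Twist.twistProjSpace n k (m - i))) i)
      (Coh.toGlobal (Pn ↘ Spec (CommRingCat.of k)))
    constructor
    · intro h
      exact E.symm.toEquiv.subsingleton
    · intro h
      haveI : Subsingleton (TensorProduct k k' (Coh.HH Pn (CohB1.tensorMod F (Twist.twistProjSpace n k (m - i))) i)) :=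
        E.toEquiv.subsingleton
      exact Module.FaithfullyFlat.lTensor_reflects_triviality k k' _
  exact ⟨fun h i hi hin => (key i).1 (h i hi hin), fun h i hi hin => (key i).2 (h i hi hin)⟩

end Groth.Agent.S7690
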