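import Groth.Statements.S8269
import Mathlib
import Groth.Agent.SymAlgLib.Funct
import Groth.Agent.QCohLib.FTCrit
import Groth.Agent.QCohLib.Push
-- import your own Groth.Agent.* helpers here

set_option autoImplicit false
universe u
open CategoryTheory CategoryTheory.Limits AlgebraicGeometry Opposite TopologicalSpace
open EGA2

namespace Groth.Agent.S8269

/-- Let Y be either a quasi-compact separated scheme or a scheme with Noetherian underlying space, and X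
affine and of finite type over Y. Then X is Y-isomorphic to a closed subscheme of a vector bundle
V(E) with E a quasi-coherent O_Y-module of finite type: there are such an E, its symmetric algebra
A, and a closed immersion X → Spec(A) over Y. -/
theorem result {X Y : Scheme.{u}}
    (hY : (CompactSpace Y ∧ Y.IsSeparated) ∨ NoetherianSpace Y) (f : X ⟶ Y) [IsAffineHom f]
    [LocallyOfFiniteType f] :
    ∃ (E : Y.Modules) (_ : Coh.IsCoh E) (A : RelSpec.QCAlg Y) (j : E ⟶ A.toModule)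
      (_ : RelSpec.IsSymAlg E A j) (i : X ⟶ A.spec), IsClosedImmersion i ∧ i ≫ A.π = f := by
  haveI : CompactSpace Y ∧ QuasiSeparatedSpace Y := by
    rcases hY with ⟨h1, h2⟩ | h
    · haveI := h1
      haveI := h2
      exact ⟨h1, inferInstance⟩
    · haveI := h
      exact ⟨inferInstance, ⟨fun U V _ _ _ _ => NoetherianSpace.isCompact _⟩⟩
  obtain ⟨h1, h2⟩ := this
  haveI := h1
  haveI := h2
  haveI : Coh.IsQCoh (Coh.structureModule X) := QCohLib.isQCoh_unit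
  let K : Y.Modules := (Scheme.Modules.pushforward f).obj (Coh.structureModule X)
  haveI : Coh.IsQCoh K := QCohLib.isQCoh_pushforward f _
  classical
  obtain ⟨T, hT⟩ : ∃ T : Finset Y.affineOpens, (Set.univ : Set Y) ⊆ ⋃ V ∈ T, (V.1 : Set Y) :=
    isCompact_univ.elim_finite_subcover (fun V : Y.affineOpens => (V.1 : Set Y)) (fun V => V.1.isOpen) (fun p _ => by
      obtain ⟨V, hV, hp, -⟩ := exists_isAffineOpen_mem_and_subset (X := Y) (x := p) (U := ⊤) trivial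
      exact Set.mem_iUnion.mpr ⟨⟨V, hV⟩, hp⟩)
  have hft : ∀ V : Y.affineOpens, ∃ s : Finset Γ(X, f ⁻¹ᵁ V.1),
      Subring.closure (Set.range (f.app V.1).hom ∪ (s : Set Γ(X, f ⁻¹ᵁ V.1))) = ⊤ := fun V => by
    have h := f.finiteType_appLE V.2 (V.2.preimage f) le_rfl
    rw [← Scheme.Hom.app_eq_appLE] at h
    algebraize [(f.app V.1).hom]
    obtain ⟨s, hs⟩ := h.out
    refine ⟨s, ?_⟩
    have h3 := congrArg Subalgebra.toSubring hs
    rw [Algebra.adjoin_eq_ring_closure] at h3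
    exact h3
  choose gs hgs using hft
  obtain ⟨G, jG, -, hG, hGft, hgen⟩ := QCohLib.exists_ft_through_finset (K := K)
    (κ := Σ V : Y.affineOpens, Γ(X, f ⁻¹ᵁ V.1)) (T.sigma gs) (fun a => a.1.1) (fun a => a.1.2) (fun a => a.2)
  haveI := hG
  have hA := SymAlgLib.isSymAlg G
  obtain ⟨i, ⟨hi, hiv⟩, -⟩ := SymAlgLib.symPts hA f jG
  let A := SymAlgLib.symAlg G
  haveI : IsAffineHom A.π := ⟨fun U hU => by
    rw [A.π_preimage U hU]
    exact isAffineOpen_opensRange _⟩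
  refine ⟨G, ⟨hG, hGft⟩, A, _, hA, i, ?_, hi⟩
  haveI : IsAffineHom i := by
    haveI : IsAffineHom (i ≫ A.π) := by rw [hi]; infer_instance
    exact IsAffineHom.of_comp i A.π
  refine IsZariskiLocalAtTarget.of_iSup_eq_top (P := @IsClosedImmersion) (fun V : T => A.π ⁻¹ᵁ V.1.1)
    (eq_top_iff.2 fun x _ => ?_) fun V => ?_
  · obtain ⟨V, hVT, hxV⟩ := Set.mem_iUnion₂.1 (hT (Set.mem_univ (A.π x)))
    exact Opens.mem_iSup.2 ⟨⟨V, hVT⟩, hxV⟩
  obtain ⟨W, hVT⟩ := V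
  haveI : IsAffine (A.π ⁻¹ᵁ W.1 : A.spec.Opens) := W.2.preimage A.π
  haveI : IsAffine (i ⁻¹ᵁ (A.π ⁻¹ᵁ W.1) : X.Opens) := (W.2.preimage A.π).preimage i
  refine IsClosedImmersion.of_surjective_of_isAffine _ ?_
  have hsurj : Function.Surjective (i.appLE (A.π ⁻¹ᵁ W.1) (f ⁻¹ᵁ W.1) (CycBdlLib.preimage_le hi W.1)) := fun y => by
    suffices hy : y ∈ (i.appLE (A.π ⁻¹ᵁ W.1) (f ⁻¹ᵁ W.1) (CycBdlLib.preimage_le hi W.1)).hom.range from hy
    refine (Subring.closure_le.2 ?_) ((hgs W).ge (Subring.mem_top y))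
    rintro y' (⟨r, rfl⟩ | hm)
    · refine ⟨A.π.app W.1 r, ?_⟩
      show (A.π.app W.1 ≫ i.appLE (A.π ⁻¹ᵁ W.1) (f ⁻¹ᵁ W.1) (CycBdlLib.preimage_le hi W.1)) r = f.app W.1 r
      rw [Scheme.Hom.app_eq_appLE, Scheme.Hom.appLE_comp_appLE, Scheme.Hom.app_eq_appLE f]
      have key : ∀ {g : X ⟶ Y} (eg : g = f) (h : f ⁻¹ᵁ W.1 ≤ g ⁻¹ᵁ W.1),
          g.appLE W.1 (f ⁻¹ᵁ W.1) h = f.appLE W.1 (f ⁻¹ᵁ W.1) le_rfl := by rintro g rfl h; rfl
      rw [key hi]
    · obtain ⟨g, hg⟩ := hgen ⟨W, y'⟩ (Finset.mem_sigma.2 ⟨hVT, hm⟩)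
      exact ⟨(CycBdlLib.univMap (SymAlgLib.symι G)).app W.1 g, (hiv W.1 g).trans hg⟩
  have e : f ⁻¹ᵁ W.1 = i ⁻¹ᵁ (A.π ⁻¹ᵁ W.1) := by rw [← Scheme.Hom.comp_preimage, hi]
  rw [morphismRestrict_appTop]
  have h1 : Function.Surjective (i.app (A.π ⁻¹ᵁ W.1)) := fun y => by
    obtain ⟨a, ha⟩ := hsurj (X.presheaf.map (homOfLE e.le).op y)
    haveI : IsIso (X.presheaf.map (homOfLE e.le).op) := by
      rw [show homOfLE e.le = eqToHom e from Subsingleton.elim _ _]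
      infer_instance
    refine ⟨a, (ConcreteCategory.bijective_of_isIso (X.presheaf.map (homOfLE e.le).op)).1 ?_⟩
    exact ha
  have h2 : Function.Surjective (i.app ((A.π ⁻¹ᵁ W.1).ι ''ᵁ ⊤)) := by
    rw [Scheme.Opens.ι_image_top]
    exact h1
  intro y
  obtain ⟨z, hz⟩ := (ConcreteCategory.bijective_of_isIso
    (X.presheaf.map (eqToHom (image_morphismRestrict_preimage i (A.π ⁻¹ᵁ W.1) ⊤)).op)).2 y
  obtain ⟨a, ha⟩ := h2 z
  exact ⟨a, (congrArg _ ha).trans hz⟩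

end Groth.Agent.S8269
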