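import Groth.Statements.S8282
import Mathlib
import Groth.Agent.ProjTopLib.Basic
import Groth.Agent.ProjTopLib.FG

set_option autoImplicit false
set_option linter.style.haveILetI false
set_option backward.isDefEq.respectTransparency false
set_option backward.isDefEq.respectTransparency.types false
universe u
open CategoryTheory CategoryTheory.Limits AlgebraicGeometry
open EGA2

namespace Groth.Agent.S8282
open scoped Pointwise

variable {R A B : Type u} [CommRing R] [CommRing A] [Algebra R A] {𝒜 : ℕ → Submodule R A} [GradedAlgebra 𝒜]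
  [CommRing B] [Algebra R B] {ℬ : ℕ → Submodule R B} [GradedAlgebra ℬ] (φ : 𝒜 →+*ᵍ ℬ)

/-- `ℬ n ≤ ℬ 1 ^ n` on the image of `𝒜 1 ^ n`. -/
theorem map_pow_one {n : ℕ} (hn : 1 ≤ n) {x : A} (hx : x ∈ 𝒜 1 ^ n) : φ x ∈ ℬ 1 ^ n := by
  induction n, hn using Nat.le_induction generalizing x with
  | base =>
    rw [pow_one] at hx ⊢
    exact φ.2 hx
  | succ n hn ih =>
    rw [pow_succ] at hx ⊢
    induction hx using Submodule.mul_induction_on' with
    | mem_mul_mem a ha b hb =>
      rw [map_mul]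
      exact Submodule.mul_mem_mul (ih ha) (φ.2 hb)
    | add a _ b _ h1 h2 =>
      rw [map_add]
      exact add_mem h1 h2

theorem pow_one_le {n : ℕ} (hn : 1 ≤ n) : ℬ 1 ^ n ≤ ℬ n := by
  induction n, hn using Nat.le_induction with
  | base => rw [pow_one]
  | succ n hn ih =>
    rw [pow_succ]
    exact (mul_le_mul' ih le_rfl).trans (Submodule.mul_le.mpr fun a ha b hb => SetLike.mul_mem_graded ha hb)

theorem mem_span_one (hgen : ∀ n : ℕ, 1 ≤ n → 𝒜 n = 𝒜 1 ^ n) {n : ℕ} (hn : 1 ≤ n) {x : A} (hx : x ∈ 𝒜 n) :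
    x ∈ Ideal.span (𝒜 1 : Set A) := by
  induction n, hn using Nat.le_induction generalizing x with
  | base => exact Ideal.subset_span hx
  | succ n hn ih =>
    rw [hgen _ (Nat.le_succ_of_le hn), pow_succ] at hx
    induction hx using Submodule.mul_induction_on' with
    | mem_mul_mem a _ b hb => exact Ideal.mul_mem_left _ _ (Ideal.subset_span hb)
    | add a _ b _ h1 h2 => exact add_mem h1 h2

theorem chart_isOpenImmersion {d : ℕ} {f : A} (hf : f ∈ 𝒜 d) (hd : 0 < d) :
    IsOpenImmersion (PCone.chart φ hf hd) := by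
  have h : PCone.chart φ hf hd ≫ (PCone.dom φ).ι = Proj.awayι ℬ (φ f) (φ.2 hf) hd :=
    IsOpenImmersion.lift_fac _ _ _
  have : IsOpenImmersion (PCone.chart φ hf hd ≫ (PCone.dom φ).ι) := by rw [h]; infer_instance
  exact IsOpenImmersion.of_comp (PCone.chart φ hf hd) (PCone.dom φ).ι

theorem chart_range {d : ℕ} {f : A} (hf : f ∈ 𝒜 d) (hd : 0 < d) :
    haveI := chart_isOpenImmersion φ hf hd
    (PCone.chart φ hf hd).opensRange = (PCone.dom φ).ι ⁻¹ᵁ Proj.basicOpen ℬ (φ f) := by
  haveI := chart_isOpenImmersion φ hf hd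
  have h : PCone.chart φ hf hd ≫ (PCone.dom φ).ι = Proj.awayι ℬ (φ f) (φ.2 hf) hd :=
    IsOpenImmersion.lift_fac _ _ _
  rw [← Scheme.Hom.image_top_eq_opensRange, ← Proj.opensRange_awayι ℬ (φ f) (φ.2 hf) hd,
    ← Scheme.Hom.image_top_eq_opensRange (Proj.awayι ℬ (φ f) (φ.2 hf) hd)]
  simp only [← h, Scheme.Hom.comp_image]
  exact ((PCone.dom φ).ι.preimage_image_eq _).symm

theorem cover_dom (x : (PCone.dom φ : Scheme.{u})) :
    ∃ (d : ℕ) (f : A) (hd : 0 < d) (hf : f ∈ 𝒜 d),
      x ∈ (PCone.dom φ).ι ⁻¹ᵁ Proj.basicOpen ℬ (φ f) := by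
  have hx : ((PCone.dom φ).ι x) ∈ PCone.dom φ := by
    have h := Set.mem_range_self (f := (PCone.dom φ).ι.base) x
    rwa [Scheme.Opens.range_ι] at h
  obtain ⟨⟨f, d, hd, hf⟩, hf'⟩ := TopologicalSpace.Opens.mem_iSup.mp hx
  exact ⟨d, f, hd, hf, hf'⟩

theorem away_map_surjective (p : (PCone.dom φ : Scheme.{u}) ⟶ Proj 𝒜)
    (hp : ∀ (d : ℕ) (f : A) (hd : 0 < d) (hf : f ∈ 𝒜 d),
      PCone.chart φ hf hd ≫ p =
        Spec.map (CommRingCat.ofHom (HomogeneousLocalization.Away.map φ f)) ≫ Proj.awayι 𝒜 f hf hd)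
    [IsIso p] {a : A} (ha : a ∈ 𝒜 1) :
    Function.Surjective (HomogeneousLocalization.Away.map φ a) := by
  haveI := chart_isOpenImmersion φ ha Nat.one_pos
  have hcr := chart_range φ ha Nat.one_pos
  let ψ := CommRingCat.ofHom (HomogeneousLocalization.Away.map φ a)
  let j := Proj.awayι 𝒜 a ha Nat.one_pos
  have : IsOpenImmersion (Spec.map ψ ≫ j) := by rw [← hp 1 a Nat.one_pos ha]; infer_instance
  have := IsOpenImmersion.of_comp (Spec.map ψ) j
  have key : ∀ y : (PCone.dom φ : Scheme.{u}), p y ∈ Proj.basicOpen 𝒜 a →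
      y ∈ (PCone.dom φ).ι ⁻¹ᵁ Proj.basicOpen ℬ (φ a) := by
    intro y hy
    obtain ⟨d, g, hd, hg, hyg⟩ := cover_dom φ y
    haveI := chart_isOpenImmersion φ hg hd
    have hgr := chart_range φ hg hd
    rw [← hgr] at hyg
    obtain ⟨z, rfl⟩ := hyg
    have h1 : z ∈ (PCone.chart φ hg hd ≫ p) ⁻¹ᵁ Proj.basicOpen 𝒜 a := hy
    rw [hp d g hd hg, Scheme.Hom.comp_preimage, Proj.awayι_preimage_basicOpen (𝒜 := 𝒜) hg hd ha Nat.one_pos] at h1
    show z ∈ (PCone.chart φ hg hd ≫ (PCone.dom φ).ι) ⁻¹ᵁ Proj.basicOpen ℬ (φ a)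
    have hg' : φ g ∈ ℬ d := φ.2 hg
    have ha' : φ a ∈ ℬ 1 := φ.2 ha
    rw [show PCone.chart φ hg hd ≫ (PCone.dom φ).ι = Proj.awayι ℬ (φ g) hg' hd from
      IsOpenImmersion.lift_fac _ _ _, Proj.awayι_preimage_basicOpen (𝒜 := ℬ) hg' hd ha' Nat.one_pos]
    have h2 : HomogeneousLocalization.Away.map φ g (HomogeneousLocalization.Away.isLocalizationElem hg ha) =
        HomogeneousLocalization.Away.isLocalizationElem hg' ha' := by
      apply HomogeneousLocalization.val_injective
      simp [HomogeneousLocalization.Away.isLocalizationElem, HomogeneousLocalization.Away.map_mk, map_pow]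
    rw [← h2]
    exact h1
  have : Surjective (Spec.map ψ) := ⟨fun w => by
    obtain ⟨y, hy⟩ := p.surjective (j w)
    have hw : j w ∈ Proj.basicOpen 𝒜 a := by
      rw [← Proj.opensRange_awayι 𝒜 a ha Nat.one_pos]
      exact ⟨w, rfl⟩
    have h1 := key y (by rw [hy]; exact hw)
    rw [← hcr] at h1
    obtain ⟨z, rfl⟩ := h1
    refine ⟨z, j.isOpenEmbedding.injective ?_⟩
    show (Spec.map ψ ≫ j) z = j w
    rw [← hp 1 a Nat.one_pos ha]
    exact hy⟩
  have : IsIso (Spec.map ψ) := (isIso_iff_isOpenImmersion_and_surjective _).mpr ⟨inferInstance, inferInstance⟩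
  exact ((isIso_SpecMap_iff (f := ψ)).mp inferInstance).2


/-- Let T be a positively graded ring which is a T_0-algebra of finite type, and T' = ⊕_n T_1^n → T the
injective graded homomorphism from the subalgebra generated by T_1 (T' presented as a graded ring
with φ : T' → T injective, bijective in degrees 0 and 1, and T'_n = (T'_1)^n for n ≥ 1). If the
morphism of homogeneous spectra induced by φ is everywhere defined (its domain G(φ) is the whole of
Proj T) and is an isomorphism onto Proj T', then there is n₀ with T_n = T_1^n for all n ≥ n₀. -/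
theorem result {R A B : Type u} [CommRing R] [CommRing A] [Algebra R A]
    (𝒜 : ℕ → Submodule R A) [GradedAlgebra 𝒜] [CommRing B] [Algebra R B] (ℬ : ℕ → Submodule R B) [GradedAlgebra ℬ]
    [Algebra.FiniteType (ℬ 0) B] (φ : 𝒜 →+*ᵍ ℬ) (hφ : Function.Injective φ)
    (h0 : Set.BijOn φ (𝒜 0) (ℬ 0)) (h1 : Set.BijOn φ (𝒜 1) (ℬ 1))
    (hgen : ∀ n : ℕ, 1 ≤ n → 𝒜 n = 𝒜 1 ^ n)
    (hdom : PCone.dom φ = ⊤)
    (p : (PCone.dom φ : Scheme.{u}) ⟶ Proj 𝒜)
    (hp : ∀ (d : ℕ) (f : A) (hd : 0 < d) (hf : f ∈ 𝒜 d),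
      PCone.chart φ hf hd ≫ p =
        Spec.map (CommRingCat.ofHom (HomogeneousLocalization.Away.map φ f)) ≫ Proj.awayι 𝒜 f hf hd)
    [IsIso p] :
    ∃ n₀ : ℕ, ∀ n : ℕ, n₀ ≤ n → ℬ n = ℬ 1 ^ n := by
  classical
  let J : Ideal B := Ideal.span (φ '' (𝒜 1 : Set A))
  have hJh : J.IsHomogeneous ℬ := Ideal.homogeneous_span ℬ _ (by rintro _ ⟨a, ha, rfl⟩; exact ⟨1, φ.2 ha⟩)
  -- the irrelevant ideal lies in the radical of `J`
  have hrad : (HomogeneousIdeal.irrelevant ℬ).toIdeal ≤ J.radical := fun f hf =>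
    (ProjTopLib.mem_radical_iff ℬ hJh hf).mpr fun x hx => by
      exfalso
      have hx' : x ∈ PCone.dom φ := hdom ▸ trivial
      obtain ⟨⟨g, d, hd, hg⟩, hgx⟩ := TopologicalSpace.Opens.mem_iSup.mp hx'
      refine (Proj.mem_basicOpen ℬ (φ g) x).mp hgx (hx ?_)
      have := Ideal.mem_map_of_mem (φ : A →+* B) (mem_span_one hgen hd hg)
      rw [Ideal.map_span] at this
      exact this
  have hfg := ProjTopLib.fg_of_finiteType ℬ
  obtain ⟨k, hk⟩ := Ideal.exists_pow_le_of_le_radical_of_fg hrad hfg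
  obtain ⟨D, hD⟩ := ProjTopLib.exists_le_pow ℬ hfg k
  obtain ⟨s, hs, hspan⟩ := ProjTopLib.exists_homogeneous_gens ℬ hfg
  have hadj := ProjTopLib.adjoin_eq_top_of_span ℬ hs hspan.le
  choose! deg hdeg hmem using hs
  let F : Finset B := (Finset.range D).biUnion fun l => s ^ l
  have hFh : ∀ (l : ℕ), ∀ f ∈ s ^ l, ∃ n, l ≤ n ∧ f ∈ ℬ n := by
    intro l
    induction l with
    | zero =>
      intro f hf
      rw [pow_zero, Finset.mem_one] at hf
      exact ⟨0, le_rfl, hf ▸ SetLike.one_mem_graded ℬ⟩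
    | succ l ih =>
      intro f hf
      rw [pow_succ, Finset.mem_mul] at hf
      obtain ⟨f', hf', e, he, rfl⟩ := hf
      obtain ⟨n, hn, hf''⟩ := ih f' hf'
      exact ⟨n + deg e, by have := hdeg e he; omega, SetLike.mul_mem_graded hf'' (hmem e he)⟩
  have hF : ∀ f ∈ F, ∃ n, f ∈ ℬ n := fun f hf => by
    obtain ⟨l, -, hl⟩ := Finset.mem_biUnion.mp hf
    obtain ⟨n, -, hn⟩ := hFh l f hl
    exact ⟨n, hn⟩
  letI : Algebra A B := (φ : A →+* B).toAlgebra
  have hsmul : ∀ (x : A) (y : B), x • y = φ x * y := fun _ _ => rfl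
  let M : Submodule A B := Submodule.span A (F : Set B)
  -- every element is in `span F + J`
  have hmod : ∀ b : B, ∃ m ∈ M, b - m ∈ J := by
    intro b
    have hb : b ∈ Submodule.span (ℬ 0) (Submonoid.closure (s : Set B) : Set B) := by
      rw [← Algebra.adjoin_eq_span, hadj]; trivial
    induction hb using Submodule.span_induction with
    | mem m hm =>
      obtain ⟨l, hl⟩ : ∃ l, m ∈ s ^ l := by
        induction hm using Submonoid.closure_induction with
        | mem e he => exact ⟨1, by rwa [pow_one]⟩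
        | one => exact ⟨0, by simp⟩
        | mul a b _ _ h1 h2 =>
          obtain ⟨l, hl⟩ := h1
          obtain ⟨l', hl'⟩ := h2
          exact ⟨l + l', by rw [pow_add]; exact Finset.mul_mem_mul hl hl'⟩
      obtain ⟨n, hln, hn⟩ := hFh l m hl
      by_cases hnD : D ≤ n
      · exact ⟨0, zero_mem _, by rw [sub_zero]; exact hk (hD n hnD hn)⟩
      · exact ⟨m, Submodule.subset_span (Finset.mem_biUnion.mpr ⟨l, Finset.mem_range.mpr (by omega), hl⟩),
          by rw [sub_self]; exact zero_mem _⟩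
    | zero => exact ⟨0, zero_mem _, by rw [sub_zero]; exact zero_mem _⟩
    | add a b _ _ h1 h2 =>
      obtain ⟨m, hm, hm'⟩ := h1
      obtain ⟨m', hm₂, hm₂'⟩ := h2
      exact ⟨m + m', add_mem hm hm₂, by rw [add_sub_add_comm]; exact add_mem hm' hm₂'⟩
    | smul r x _ h1 =>
      obtain ⟨m, hm, hm'⟩ := h1
      obtain ⟨r', -, hr'⟩ := h0.surjOn r.2
      refine ⟨r' • m, Submodule.smul_mem _ _ hm, ?_⟩
      rw [hsmul, hr', show r • x = (r : B) * x from rfl, ← mul_sub]
      exact Ideal.mul_mem_left _ _ hm'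
  -- homogeneous components of `M` stay in `M`
  have hMh : ∀ m ∈ M, ∀ n, (DirectSum.decompose ℬ m n : B) ∈ M := by
    intro m hm
    induction hm using Submodule.span_induction with
    | mem f hf =>
      intro n
      obtain ⟨e, he⟩ := hF f hf
      by_cases hne : e = n
      · subst hne; rw [DirectSum.decompose_of_mem_same ℬ he]; exact Submodule.subset_span hf
      · rw [DirectSum.decompose_of_mem_ne ℬ he hne]; exact zero_mem _
    | zero => intro n; simp
    | add a b _ _ h1 h2 =>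
      intro n
      rw [DirectSum.decompose_add, DirectSum.add_apply, Submodule.coe_add]
      exact add_mem (h1 n) (h2 n)
    | smul r x _ h1 =>
      intro n
      rw [hsmul, ← DirectSum.sum_support_decompose 𝒜 r, map_sum, Finset.sum_mul, DirectSum.decompose_sum,
        DFinsupp.finsetSum_apply, Submodule.coe_sum]
      refine Submodule.sum_mem _ fun i _ => ?_
      have hi : φ (DirectSum.decompose 𝒜 r i : A) ∈ ℬ i := φ.2 (SetLike.coe_mem _)
      by_cases hin : i ≤ n
      · rw [DirectSum.coe_decompose_mul_of_left_mem_of_le ℬ hi hin, ← hsmul]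
        exact Submodule.smul_mem _ _ (h1 _)
      · rw [DirectSum.coe_decompose_mul_of_left_mem_of_not_le ℬ hi hin]
        exact zero_mem _
  have hhom : ∀ n, ∀ b ∈ ℬ n, b ∈ M := by
    intro n
    induction n using Nat.strong_induction_on with
    | _ n ih =>
      intro b hb
      obtain ⟨m, hm, hm'⟩ := hmod b
      have hj : ∀ j ∈ J, ∀ y : B, (DirectSum.decompose ℬ (y * j) n : B) ∈ M := by
        intro j hj
        induction hj using Submodule.span_induction with
        | mem x hx =>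
          obtain ⟨a, ha, rfl⟩ := hx
          intro y
          have ha' : φ a ∈ ℬ 1 := φ.2 ha
          by_cases hn : 1 ≤ n
          · rw [DirectSum.coe_decompose_mul_of_right_mem_of_le ℬ ha' hn, mul_comm, ← hsmul]
            exact Submodule.smul_mem _ _ (ih (n - 1) (by omega) _ (SetLike.coe_mem _))
          · rw [DirectSum.coe_decompose_mul_of_right_mem_of_not_le ℬ ha' hn]
            exact zero_mem _
        | zero => intro y; simp
        | add a b _ _ h1 h2 =>
          intro y
          rw [mul_add, DirectSum.decompose_add, DirectSum.add_apply, Submodule.coe_add]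
          exact add_mem (h1 y) (h2 y)
        | smul r x _ h1 =>
          intro y
          rw [smul_eq_mul, ← mul_assoc]
          exact h1 _
      rw [← DirectSum.decompose_of_mem_same ℬ hb, show b = m + 1 * (b - m) by ring, DirectSum.decompose_add,
        DirectSum.add_apply, Submodule.coe_add]
      exact add_mem (hMh m hm n) (hj _ hm' 1)
  have hMtop : ∀ b : B, b ∈ M := fun b => by
    rw [← DirectSum.sum_support_decompose ℬ b]
    exact Submodule.sum_mem _ fun i _ => hhom i _ (SetLike.coe_mem _)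
  -- the conductor
  let C : Ideal A :=
    { carrier := {x | ∀ y : B, φ x * y ∈ Set.range φ}
      add_mem' := fun {x y} hx hy z => by
        obtain ⟨u, hu⟩ := hx z
        obtain ⟨v, hv⟩ := hy z
        exact ⟨u + v, by rw [map_add, hu, hv, map_add, add_mul]⟩
      zero_mem' := fun z => ⟨0, by rw [map_zero, zero_mul]⟩
      smul_mem' := fun r x hx z => by
        obtain ⟨u, hu⟩ := hx z
        exact ⟨r * u, by rw [map_mul, hu, smul_eq_mul, map_mul, mul_assoc]⟩ }
  have hC : ∀ a ∈ 𝒜 1, ∃ N, a ^ N ∈ C := by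
    intro a ha
    have h : ∀ f ∈ F, ∃ N, φ (a ^ N) * f ∈ Set.range φ := by
      intro f hf
      obtain ⟨e, he⟩ := hF f hf
      obtain ⟨x, hx⟩ := away_map_surjective φ p hp ha
        (HomogeneousLocalization.Away.mk ℬ (φ.2 ha) e f (by simpa using he))
      obtain ⟨m, x, hxm, rfl⟩ := HomogeneousLocalization.Away.mk_surjective 𝒜 ha x
      have h := congrArg HomogeneousLocalization.val hx
      rw [HomogeneousLocalization.Away.map_mk, HomogeneousLocalization.Away.val_mk,
        HomogeneousLocalization.Away.val_mk, Localization.mk_eq_mk_iff, Localization.r_iff_exists] at h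
      obtain ⟨⟨_, t, rfl⟩, ht⟩ := h
      refine ⟨t + m, a ^ (t + e) * x, ?_⟩
      simp only at ht
      rw [map_mul, map_pow, map_pow, pow_add, pow_add, mul_assoc, mul_assoc]
      exact ht
    choose! N hN using h
    refine ⟨F.sup N, fun y => ?_⟩
    have hy := hMtop y
    induction hy using Submodule.span_induction with
    | mem f hf =>
      obtain ⟨u, hu⟩ := hN f hf
      obtain ⟨q, hq⟩ := Nat.exists_eq_add_of_le (Finset.le_sup (f := N) hf)
      exact ⟨a ^ q * u, by rw [hq, map_mul, hu, pow_add, map_mul]; ring⟩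
    | zero => exact ⟨0, by rw [map_zero, mul_zero]⟩
    | add u v _ _ h1 h2 =>
      obtain ⟨u', hu⟩ := h1
      obtain ⟨v', hv⟩ := h2
      exact ⟨u' + v', by rw [map_add, hu, hv, mul_add]⟩
    | smul r x _ h1 =>
      obtain ⟨u, hu⟩ := h1
      exact ⟨r * u, by rw [map_mul, hu, hsmul, mul_left_comm]⟩
  have hrange : ∀ z ∈ Ideal.map (φ : A →+* B) C, z ∈ Set.range φ := by
    intro z hz
    have : ∀ y : B, y * z ∈ Set.range φ := by
      induction hz using Submodule.span_induction with
      | mem x hx =>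
        obtain ⟨c, hc, rfl⟩ := hx
        intro y
        rw [mul_comm]
        exact hc y
      | zero => intro y; exact ⟨0, by rw [map_zero, mul_zero]⟩
      | add u v _ _ h1 h2 =>
        intro y
        obtain ⟨u', hu⟩ := h1 y
        obtain ⟨v', hv⟩ := h2 y
        exact ⟨u' + v', by rw [map_add, hu, hv, mul_add]⟩
      | smul r x _ h1 =>
        intro y
        rw [smul_eq_mul, ← mul_assoc]
        exact h1 _
    simpa using this 1
  have hrad' : (HomogeneousIdeal.irrelevant ℬ).toIdeal ≤ (Ideal.map (φ : A →+* B) C).radical := by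
    refine hrad.trans (Ideal.radical_le_radical_iff.mpr (Ideal.span_le.mpr ?_))
    rintro _ ⟨a, ha, rfl⟩
    obtain ⟨N, hN⟩ := hC a ha
    exact ⟨N, by rw [← map_pow]; exact Ideal.mem_map_of_mem (φ : A →+* B) hN⟩
  obtain ⟨k', hk'⟩ := Ideal.exists_pow_le_of_le_radical_of_fg hrad' hfg
  obtain ⟨n₀, hn₀⟩ := ProjTopLib.exists_le_pow ℬ hfg k'
  refine ⟨n₀ + 1, fun n hn => le_antisymm ?_ (pow_one_le (by omega))⟩
  intro b hb
  obtain ⟨x, rfl⟩ := hrange b (hk' (hn₀ n (by omega) hb))
  have h : φ x = φ (DirectSum.decompose 𝒜 x n : A) := by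
    conv_lhs => rw [← DirectSum.decompose_of_mem_same ℬ hb, ← DirectSum.sum_support_decompose 𝒜 x]
    rw [map_sum, DirectSum.decompose_sum, DFinsupp.finsetSum_apply, Submodule.coe_sum,
      Finset.sum_eq_single n]
    · exact DirectSum.decompose_of_mem_same ℬ (φ.2 (SetLike.coe_mem _))
    · exact fun i _ hi => DirectSum.decompose_of_mem_ne ℬ (φ.2 (SetLike.coe_mem _)) hi
    · intro hni
      rw [DFinsupp.notMem_support_iff.mp hni]
      simp
  rw [h]
  exact map_pow_one φ (by omega) (hgen n (by omega) ▸ SetLike.coe_mem _)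

end Groth.Agent.S8282
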