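import Groth.Statements.S8283
import Groth.Agent.S9501
import Groth.Agent.FComplLib.Modules
-- import your own Groth.Agent.* helpers here

set_option autoImplicit false
universe u
open CategoryTheory CategoryTheory.Limits AlgebraicGeometry Opposite TopologicalSpace
open EGA2

namespace Groth.Agent.S8283

namespace aux
open IsLocalRing

theorem equiv {W T : Scheme.{u}} (h : W ⟶ T) (s : T) (y : h.fiber s) (w : W) (hy : h.fiberι s y = w) :
    Nonempty ((h.fiber s).presheaf.stalk y ≃+*
      W.presheaf.stalk w ⧸ (maximalIdeal (T.presheaf.stalk (h w))).map (h.stalkMap w).hom) := by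
  subst hy
  obtain ⟨hsurj, hker⟩ := Groth.Agent.S9501.result h s y
  exact ⟨(RingHom.quotientKerEquivOfSurjective hsurj).symm.trans (Ideal.quotEquivOfEq hker)⟩

theorem dvr {F : Type u} [CommRing F] [IsLocalRing F] [IsNoetherianRing F] (π₀ : F)
    (hm : maximalIdeal F = Ideal.span {π₀}) (hn : ∀ n : ℕ, π₀ ^ n ≠ 0) :
    ∃ _ : IsDomain F, IsDiscreteValuationRing F := by
  have hex : ∀ b : F, b ≠ 0 → ∃ (n : ℕ) (u : Fˣ), b = π₀ ^ n * u := by
    intro b hb
    have hkr := Ideal.iInf_pow_eq_bot_of_isLocalRing (R := F) (maximalIdeal F)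
      (IsLocalRing.maximalIdeal.isMaximal F).ne_top
    have : ∃ n, b ∉ (maximalIdeal F) ^ n := by
      by_contra h
      push Not at h
      exact hb (by simpa [hkr] using (Submodule.mem_iInf fun n => (maximalIdeal F) ^ n).2 h)
    classical
    have hn' := Nat.find_spec this
    have hpos : Nat.find this ≠ 0 := fun h0 => by simp [h0] at hn'
    obtain ⟨k, hk⟩ := Nat.exists_eq_succ_of_ne_zero hpos
    have hmem : b ∈ (maximalIdeal F) ^ k := not_not.1 (Nat.find_min this (by omega))
    rw [hm, Ideal.span_singleton_pow, Ideal.mem_span_singleton] at hmem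
    obtain ⟨c, rfl⟩ := hmem
    have hcu : IsUnit c := by
      refine IsLocalRing.notMem_maximalIdeal.1 fun hc => hn' ?_
      rw [hk, pow_succ]
      exact Ideal.mul_mem_mul (Ideal.pow_mem_pow (hm ▸ Ideal.mem_span_singleton_self π₀) k) hc
    exact ⟨k, hcu.unit, rfl⟩
  have hdom : IsDomain F := by
    haveI : Nontrivial F := inferInstance
    haveI : NoZeroDivisors F := ⟨fun {a b} hab => by
      by_contra h
      push Not at h
      obtain ⟨n, u, rfl⟩ := hex a h.1
      obtain ⟨m, w, rfl⟩ := hex b h.2
      refine hn (n + m) ((u * w).isUnit.mul_left_eq_zero.1 ?_)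
      rw [Units.val_mul, pow_add, ← hab]
      ring⟩
    exact NoZeroDivisors.to_isDomain F
  haveI : IsPrincipalIdealRing F := by
    refine ⟨fun I => ?_⟩
    classical
    by_cases hI : I = ⊥
    · exact ⟨0, by rw [hI]; simp⟩
    obtain ⟨b, hbI, hb⟩ := Submodule.exists_mem_ne_zero_of_ne_bot hI
    have hex' : ∃ n, π₀ ^ n ∈ I := by
      obtain ⟨n, u, rfl⟩ := hex b hb
      exact ⟨n, (Ideal.mul_unit_mem_iff_mem _ u.isUnit).1 hbI⟩
    refine ⟨π₀ ^ Nat.find hex', le_antisymm (fun c hc => ?_) ?_⟩
    · by_cases hc0 : c = 0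
      · rw [hc0]; exact zero_mem _
      obtain ⟨n, u, rfl⟩ := hex c hc0
      exact Ideal.mem_span_singleton.2 (dvd_mul_of_dvd_left
        (pow_dvd_pow _ (Nat.find_min' hex' ((Ideal.mul_unit_mem_iff_mem _ u.isUnit).1 hc))) _)
    · exact (Ideal.span_singleton_le_iff_mem _).2 (Nat.find_spec hex')
  refine ⟨hdom, { not_a_field' := fun h => ?_ }⟩
  have : π₀ = 0 := by
    rw [← Ideal.mem_bot, ← h]
    exact hm ▸ Ideal.mem_span_singleton_self π₀
  exact hn 1 (by rw [pow_one, this])

end aux

/-- Let π : V → X be locally of finite type and j : X → V a section of π that is a closed immersion with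
invertible ideal sheaf. Then for every x ∈ X the local ring at j(x) of the fibre π⁻¹(π(j(x))) =
π⁻¹(x) is a regular local ring of dimension one, i.e. a discrete valuation ring (so j(x) lies on a
single irreducible component of the fibre; the completion of that local ring is then a power-series
ring in one variable over the residue field of x). (The published statement assumes π of finite
type; this row assumes only that π is locally of finite type, which is all the proof uses: it needs
no more than the Noetherian property of the local rings of the fibre.) -/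
theorem result {X V : Scheme.{u}} (π : V ⟶ X) [LocallyOfFiniteType π]
    (j : X ⟶ V) [IsClosedImmersion j] (hj : j ≫ π = 𝟙 X) (hJ : BlowUp.IsEffCartierIdeal j.ker) (x : X) :
    ∃ _ : IsDomain ((π.fiber (π.base (j.base x))).presheaf.stalk (π.asFiber (j.base x))),
      IsDiscreteValuationRing ((π.fiber (π.base (j.base x))).presheaf.stalk (π.asFiber (j.base x))) := by
  set v := j x
  -- the local equation
  obtain ⟨U, hvU, g, hg, hgI⟩ := hJ v
  have hker : RingHom.ker (j.stalkMap x).hom = Ideal.span {(V.presheaf.germ U.1 v hvU) g} := by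
    rw [FComplLib.ker_stalkMap j x U hvU, hgI, Ideal.map_span, Set.image_singleton]
  let t := (V.presheaf.germ U.1 v hvU) g
  have ht : t ∈ nonZeroDivisors (V.presheaf.stalk v) := by
    letI := V.presheaf.algebra_section_stalk (⟨v, hvU⟩ : U.1)
    haveI := U.2.isLocalization_stalk ⟨v, hvU⟩
    exact IsLocalization.map_nonZeroDivisors_le (U.2.primeIdealOf ⟨v, hvU⟩).asIdeal.primeCompl
      (V.presheaf.stalk v) ⟨g, hg, rfl⟩
  have hπx : π v = x := congr($hj x)
  -- `π` splits the surjection onto the local ring of the section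
  have hsplit : (j.stalkMap x).hom.comp (π.stalkMap v).hom =
      ((j ≫ π).stalkMap x).hom := by
    rw [Scheme.Hom.stalkMap_comp]
    rfl
  have hbij : Function.Bijective ((j.stalkMap x).hom.comp (π.stalkMap v).hom) := by
    rw [hsplit]
    have : IsIso (j ≫ π) := by rw [hj]; infer_instance
    exact ConcreteCategory.bijective_of_isIso ((j ≫ π).stalkMap x)
  let a : X.presheaf.stalk (π v) →+* V.presheaf.stalk v := (π.stalkMap v).hom
  let O := V.presheaf.stalk v
  let I : Ideal O := (IsLocalRing.maximalIdeal (X.presheaf.stalk (π v))).map a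
  have hmem : RingHom.ker (j.stalkMap x).hom ≤ IsLocalRing.maximalIdeal O :=
    IsLocalRing.le_maximalIdeal (RingHom.ker_ne_top _)
  have htm : t ∈ IsLocalRing.maximalIdeal O := hmem (hker ▸ Ideal.mem_span_singleton_self t)
  -- `O = A + tO`
  have hdec : ∀ o : O, ∃ c o', o = a c + t * o' := fun o => by
    obtain ⟨c, hc⟩ := hbij.2 (j.stalkMap x o)
    have : o - a c ∈ RingHom.ker (j.stalkMap x).hom := by
      rw [RingHom.mem_ker, map_sub, sub_eq_zero]; exact hc.symm
    rw [hker, Ideal.mem_span_singleton] at this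
    obtain ⟨o', ho'⟩ := this
    exact ⟨c, o', by rw [← ho']; ring⟩
  have hJt : ∀ (i : O), i ∈ I → ∃ c ∈ IsLocalRing.maximalIdeal (X.presheaf.stalk (π v)), ∃ e ∈ I,
      i = a c + t * e := fun i hi => by
    induction hi using Submodule.span_induction with
    | mem z hz =>
      obtain ⟨c, hc, rfl⟩ := hz
      exact ⟨c, hc, 0, zero_mem _, by rw [mul_zero, add_zero]⟩
    | zero => exact ⟨0, zero_mem _, 0, zero_mem _, by simp⟩
    | add p q _ _ hp hq =>
      obtain ⟨c, hc, e, he, rfl⟩ := hp
      obtain ⟨c', hc', e', he', rfl⟩ := hq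
      exact ⟨c + c', add_mem hc hc', e + e', add_mem he he', by rw [map_add]; ring⟩
    | smul r p _ hp =>
      obtain ⟨c, hc, e, he, rfl⟩ := hp
      obtain ⟨d, r', rfl⟩ := hdec r
      exact ⟨d * c, Ideal.mul_mem_left _ _ hc, r' * a c + (a d + t * r') * e,
        add_mem (Ideal.mul_mem_left _ _ (Ideal.mem_map_of_mem _ hc)) (Ideal.mul_mem_left _ _ he),
        by rw [map_mul, smul_eq_mul]; ring⟩
  have hcancel : ∀ i : O, i ∈ I → ∀ u, i = t * u → u ∈ I := fun i hi u hu => by
    obtain ⟨c, hc, e, he, rfl⟩ := hJt i hi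
    have hac : a c ∈ RingHom.ker (j.stalkMap x).hom := by
      rw [hker, Ideal.mem_span_singleton]
      exact ⟨u - e, by rw [mul_sub, ← hu]; ring⟩
    have hc0 : c = 0 := hbij.1 (by rw [map_zero]; exact hac)
    rw [hc0, map_zero, zero_add] at hu
    rwa [← (mem_nonZeroDivisors_iff_right.1 ht _ (by rw [sub_mul, mul_comm e, mul_comm u, hu, sub_self]) |>
      sub_eq_zero.1 : e = u)]
  have hIle : I ≤ IsLocalRing.maximalIdeal O := Ideal.map_le_iff_le_comap.2
    fun c hc h => hc (isUnit_of_map_unit (π.stalkMap v).hom c h)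
  have hnil : ∀ n : ℕ, t ^ n ∉ I := by
    intro n
    induction n with
    | zero =>
      intro h
      exact (IsLocalRing.maximalIdeal.isMaximal O).ne_top
        (Ideal.eq_top_of_isUnit_mem _ (hIle h) (by rw [pow_zero]; exact isUnit_one))
    | succ k ih => exact fun h => ih (hcancel _ h _ (pow_succ' t k))
  -- pass to the fibre
  have hy : π.fiberι _ (π.asFiber v) = v := π.fiberι_asFiber v
  let F := (π.fiber (π v)).presheaf.stalk (π.asFiber v)
  obtain ⟨q, hqs, hqk⟩ : ∃ q : O →+* F, Function.Surjective q ∧ RingHom.ker q = I := by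
    obtain ⟨e⟩ := aux.equiv π (π v) (π.asFiber v) v hy
    exact ⟨e.symm.toRingHom.comp (Ideal.Quotient.mk I), e.symm.surjective.comp Ideal.Quotient.mk_surjective,
      by rw [RingHom.ker_comp_of_injective _ e.symm.injective, Ideal.mk_ker]⟩
  have : LocallyOfFiniteType (π.fiberToSpecResidueField (π v)) :=
    MorphismProperty.pullback_snd (P := @LocallyOfFiniteType) _ _ inferInstance
  have : IsLocallyNoetherian (π.fiber (π v)) :=
    LocallyOfFiniteType.isLocallyNoetherian (π.fiberToSpecResidueField (π v))
  have hnF : IsNoetherianRing F := inferInstance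
  have hmF : IsLocalRing.maximalIdeal F = Ideal.span {q t} := by
    apply le_antisymm
    · intro w hw
      obtain ⟨o, rfl⟩ := hqs w
      obtain ⟨c, o', rfl⟩ := hdec o
      have hcm : c ∈ IsLocalRing.maximalIdeal (X.presheaf.stalk (π v)) := by
        by_contra hc
        have hcu : IsUnit (a c) := (IsLocalRing.notMem_maximalIdeal.1 hc).map a
        refine hw (IsUnit.map q ?_)
        refine IsLocalRing.notMem_maximalIdeal.1 fun h => IsLocalRing.notMem_maximalIdeal.2 hcu ?_
        have := sub_mem h (Ideal.mul_mem_right o' _ htm)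
        rwa [add_sub_cancel_right] at this
      have : q (a c) = 0 := RingHom.mem_ker.1 (hqk.ge (Ideal.mem_map_of_mem _ hcm))
      rw [map_add, this, zero_add, map_mul]
      exact Ideal.mul_mem_right _ _ (Ideal.mem_span_singleton_self _)
    · rw [Ideal.span_singleton_le_iff_mem]
      haveI : IsLocalHom q := .of_surjective q hqs
      exact fun h => htm (isUnit_of_map_unit q t h)
  exact aux.dvr (q t) hmF fun n h => hnil n (hqk.le (by rw [RingHom.mem_ker, map_pow]; exact h))


end Groth.Agent.S8283
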