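import Groth.Statements.S8289
import Groth.Agent.RelConeLib.ConeImm
-- import your own Groth.Agent.* helpers here

set_option autoImplicit false
universe u
open CategoryTheory CategoryTheory.Limits AlgebraicGeometry Opposite TopologicalSpace
open scoped HomogeneousIdeal
noncomputable section
open EGA2

namespace Groth.Agent.S8289

/-- The canonical morphism i from the affine cone to the projective cone: let 𝒮 be a quasi-coherent
positively graded O_Y-algebra with 𝒮_0 = O_Y, Ŝ = 𝒮[z] (z of degree one; presented through a graded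
homomorphism ι : 𝒮 → Ŝ and a degree-one global section z with 𝒮(U)[X] → Ŝ(U), X ↦ z, bijective on
affine opens), C = Spec(𝒮) and Ĉ = Proj(Ŝ). There is a unique morphism i : C → Ĉ which, on the chart
Spec 𝒮(U) of C over an affine open U, is Spec of the ring isomorphism Ŝ(U)_(z) ≅ 𝒮(U) (sending x/z^k
to x for x homogeneous of degree k) followed by the inclusion of D_+(z|U) into Proj Ŝ(U) and the
chart of Ĉ; this i is an open immersion, affine, lies over Y, Ĉ is the smallest closed subscheme of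
Ĉ containing its image (its kernel ideal sheaf is zero), and its image is the open Ĉ_z where the
section z does not vanish (characterised chartwise by D_+(z|U)). -/
theorem result {Y PC : Scheme.{u}} (𝒮 Sh : RelProj.QCGrAlg Y)
    (h0 : ∀ (U : Y.Opens) (hU : IsAffineOpen U), Function.Bijective (𝒮.strZero U hU).hom)
    (ι : 𝒮.toQCAlg ⟶ Sh.toQCAlg) (hι : RelProj.IsGradedHom ι) (z : Sh.presheaf.obj (op ⊤))
    (hz : ∀ (U : Y.Opens) (hU : IsAffineOpen U), (Sh.presheaf.map (homOfLE le_top).op).hom z ∈ Sh.deg U hU 1)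
    (hpoly : ∀ (U : Y.Opens) (hU : IsAffineOpen U),
      Function.Bijective (Polynomial.eval₂RingHom (ι.hom.app (op U)).hom ((Sh.presheaf.map (homOfLE le_top).op).hom z)))
    (pC : PC ⟶ Y)
    (chartC : ∀ (U : Y.Opens) (hU : IsAffineOpen U), (((pC ⁻¹ᵁ U : PC.Opens) : Scheme.{u}) ≅ Proj (Sh.deg U hU)))
    (hPC : RelProj.IsRelProj Sh pC chartC)
    (θ : ∀ (U : Y.Opens) (hU : IsAffineOpen U),
      CommRingCat.of (HomogeneousLocalization.Away (Sh.deg U hU) ((Sh.presheaf.map (homOfLE le_top).op).hom z)) ⟶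
        𝒮.presheaf.obj (op U))
    (hθ : ∀ (U : Y.Opens) (hU : IsAffineOpen U)
      (q : HomogeneousLocalization.Away (Sh.deg U hU) ((Sh.presheaf.map (homOfLE le_top).op).hom z))
      (k : ℕ) (x : 𝒮.presheaf.obj (op U)), x ∈ 𝒮.deg U hU k →
        q.val = Localization.mk ((ι.hom.app (op U)).hom x)
          ⟨(Sh.presheaf.map (homOfLE le_top).op).hom z ^ k,
            pow_mem (Submonoid.mem_powers ((Sh.presheaf.map (homOfLE le_top).op).hom z)) k⟩ →
        (θ U hU).hom q = x) :
    (∃! i : 𝒮.toQCAlg.spec ⟶ PC, ∀ (U : Y.Opens) (hU : IsAffineOpen U),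
        𝒮.toQCAlg.ι U hU ≫ i =
          Spec.map (θ U hU) ≫
            Proj.awayι (Sh.deg U hU) ((Sh.presheaf.map (homOfLE le_top).op).hom z) (hz U hU) one_pos ≫
              RelProj.emb pC chartC U hU) ∧
      ∀ i : 𝒮.toQCAlg.spec ⟶ PC, (∀ (U : Y.Opens) (hU : IsAffineOpen U),
        𝒮.toQCAlg.ι U hU ≫ i =
          Spec.map (θ U hU) ≫
            Proj.awayι (Sh.deg U hU) ((Sh.presheaf.map (homOfLE le_top).op).hom z) (hz U hU) one_pos ≫
              RelProj.emb pC chartC U hU) →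
        IsOpenImmersion i ∧ IsAffineHom i ∧ i ≫ pC = 𝒮.toQCAlg.π ∧ i.ker = ⊥ ∧
          ∀ Xz : PC.Opens, (∀ (U : Y.Opens) (hU : IsAffineOpen U),
            Xz ⊓ pC ⁻¹ᵁ U =
              (pC ⁻¹ᵁ U).ι ''ᵁ ((chartC U hU).hom ⁻¹ᵁ
                Proj.basicOpen (Sh.deg U hU) ((Sh.presheaf.map (homOfLE le_top).op).hom z))) →
            Set.range i.base = (Xz : Set PC) := by

  let h : RelCone.IsPolyOver 𝒮 Sh ι z := ⟨hι, hz, hpoly⟩
  have hθ' : ∀ (U : Y.Opens) (hU : IsAffineOpen U), θ U hU = CommRingCat.ofHom (h.awayZToBase U hU) := by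
    intro U hU
    letI := RelConeLib.algι ι U
    refine CommRingCat.hom_ext ?_
    rw [RelConeLib.awayZToBase_eq h U hU]
    exact RelConeLib.eq_deHom (RelProj.gradedHomAt ι hι U hU) (fun _ => rfl) _ (hz U hU) (RelConeLib.hat_bij h U hU)
      (θ U hU).hom fun q n a ha hq => hθ U hU q n a ha hq
  have hiff : ∀ i : 𝒮.toQCAlg.spec ⟶ PC, (∀ (U : Y.Opens) (hU : IsAffineOpen U),
        𝒮.toQCAlg.ι U hU ≫ i =
          Spec.map (θ U hU) ≫
            Proj.awayι (Sh.deg U hU) ((Sh.presheaf.map (homOfLE le_top).op).hom z) (hz U hU) one_pos ≫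
              RelProj.emb pC chartC U hU) ↔ RelCone.IsConeImm 𝒮 h pC chartC i := by
    intro i
    refine forall₂_congr fun U hU => ?_
    rw [hθ' U hU]
  obtain ⟨i, hi, hu⟩ := RelConeLib.existsUnique_coneImm h hPC
  refine ⟨⟨i, (hiff i).mpr hi, fun j hj => hu j ((hiff j).mp hj)⟩, fun j hj => ?_⟩
  replace hj := (hiff j).mp hj
  refine ⟨RelConeLib.isOpenImmersion_coneImm h hPC hj, RelConeLib.isAffineHom_coneImm h hPC hj,
    RelConeLib.coneImm_over h hPC hj, RelConeLib.coneImm_ker h hPC hj, fun Xz hXz => ?_⟩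
  ext x
  obtain ⟨U, hU, v, rfl⟩ := RelConeLib.exists_emb (chart := chartC) x
  have h1 : RelProj.emb pC chartC U hU v ∈ Xz ↔
      v ∈ Proj.basicOpen (Sh.deg U hU) (RelCone.restrictTop Sh z U) := by
    have h2 : (RelProj.emb pC chartC U hU v ∈ Xz ⊓ pC ⁻¹ᵁ U) ↔ RelProj.emb pC chartC U hU v ∈ Xz :=
      ⟨fun h3 => h3.1, fun h3 => ⟨h3, RelConeLib.mem_of_emb v⟩⟩
    rw [← h2, hXz U hU]
    constructor
    · rintro ⟨y, hy, hyv⟩
      have h4 : (chartC U hU).hom y = v := by
        refine (RelProj.emb pC chartC U hU).isOpenEmbedding.injective ?_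
        rw [← Scheme.Hom.comp_apply, RelProj.emb, Iso.hom_inv_id_assoc]
        exact hyv
      exact h4 ▸ hy
    · intro hv
      refine ⟨(chartC U hU).inv v, ?_, rfl⟩
      show (chartC U hU).hom ((chartC U hU).inv v) ∈ Proj.basicOpen _ _
      rw [← Scheme.Hom.comp_apply, Iso.inv_hom_id]
      exact hv
  exact (RelConeLib.mem_range_coneImm h hPC hj hU v).trans h1.symm


end Groth.Agent.S8289
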