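import Groth.Statements.S8304
import Mathlib
import Groth.Agent.SymAlgLib.Pts
import Groth.Agent.QCohLib.QCoh
-- import your own Groth.Agent.* helpers here

set_option autoImplicit false
universe u
open CategoryTheory CategoryTheory.Limits AlgebraicGeometry Opposite TopologicalSpace
open scoped HomogeneousIdeal
noncomputable section
open EGA2

namespace Groth.Agent.S8304

/-- At the level of graded algebras: let E be a quasi-coherent O_Y-module and 𝒮 = Sym(E) its graded
symmetric algebra (j : E → 𝒮 landing in degree one), and let Ŝ = 𝒮[z] be given through a graded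
homomorphism ι : 𝒮 → Ŝ and a global section z of degree one with 𝒮(U)[X] → Ŝ(U), X ↦ z, bijective
over every affine open U. If k : O_Y → Ŝ is a module homomorphism sending the unit section to z over
every open, then Ŝ together with the map E ⊕ O_Y → Ŝ whose components are j followed by ι, and k, is
the graded symmetric algebra of E ⊕ O_Y. Consequently the projective cone of V(E) = Spec(Sym E),
which is Proj(Ŝ), is the projective bundle P(E ⊕ O_Y), and its locus at infinity Proj(𝒮) is P(E). -/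
theorem result {Y : Scheme.{u}} (E : Y.Modules) (hE : Coh.IsQCoh E)
    (𝒮 𝒮h : RelProj.QCGrAlg Y) (j : E ⟶ 𝒮.toModule) (hS : RelProj.IsGrSymAlg E 𝒮 j)
    (ι : 𝒮.toQCAlg ⟶ 𝒮h.toQCAlg) (z : 𝒮h.presheaf.obj (op ⊤)) (hz : RelCone.IsPolyOver 𝒮 𝒮h ι z)
    (k : Coh.structureModule Y ⟶ 𝒮h.toModule)
    (hk : ∀ U : Y.Opens, (k.app U) (1 : Γ(Y, U)) = RelCone.restrictTop 𝒮h z U) :
    RelProj.IsGrSymAlg (E ⊞ Coh.structureModule Y) 𝒮h
      (biprod.desc (j ≫ RelSpec.QCAlg.Hom.toModuleMap ι) k) := by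
  haveI := hE
  haveI : Coh.IsQCoh (Coh.structureModule Y) := QCohLib.isQCoh_unit
  haveI := QCohLib.isQCoh_biprod E (Coh.structureModule Y)
  let F := E ⊞ Coh.structureModule Y
  let C := SymAlgLib.symAlg F
  let l := SymAlgLib.symι F
  have hC : RelSpec.IsSymAlg F C l := SymAlgLib.isSymAlg F
  let φ : F ⟶ 𝒮h.toModule := biprod.desc (j ≫ RelSpec.QCAlg.Hom.toModuleMap ι) k
  obtain ⟨a, ha, -⟩ := hC 𝒮h.toQCAlg φ
  obtain ⟨c, hc, -⟩ := hS.1 C (biprod.inl ≫ l)
  have hTM : ∀ {A B D : RelSpec.QCAlg Y} (f : A ⟶ B) (g : B ⟶ D),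
      RelSpec.QCAlg.Hom.toModuleMap (f ≫ g) = RelSpec.QCAlg.Hom.toModuleMap f ≫ RelSpec.QCAlg.Hom.toModuleMap g :=
    fun f g => rfl
  have hca : c ≫ a = ι := by
    refine (hS.1 𝒮h.toQCAlg (j ≫ RelSpec.QCAlg.Hom.toModuleMap ι)).unique ?_ rfl
    show j ≫ _ = _
    rw [hTM, ← Category.assoc, hc, Category.assoc, ha, biprod.inl_desc]
  have hbij : ∀ U : Y.AffineZariskiSite, IsIso (a.hom.app (op U.1)) := fun U => by
    let cU := (c.hom.app (op U.1)).hom
    let aU := (a.hom.app (op U.1)).hom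
    let t : C.presheaf.obj (op U.1) := l.app U.1 ((biprod.inr : _ ⟶ F).app U.1 (1 : Γ(Y, U.1)))
    have hat : aU t = RelCone.restrictTop 𝒮h z U.1 := by
      refine Eq.trans (congr($(ha).app U.1 ((biprod.inr : _ ⟶ F).app U.1 (1 : Γ(Y, U.1))))) ?_
      exact (congr($(biprod.inr_desc (j ≫ RelSpec.QCAlg.Hom.toModuleMap ι) k).app U.1 (1 : Γ(Y, U.1)))).trans (hk U.1)
    let pe := hz.polyEquiv U.1 U.2
    let b : 𝒮h.presheaf.obj (op U.1) →+* C.presheaf.obj (op U.1) :=
      (Polynomial.eval₂RingHom cU t).comp pe.symm.toRingHom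
    have hbι : ∀ x, b ((ι.hom.app (op U.1)).hom x) = cU x := fun x => by
      show Polynomial.eval₂ cU t (pe.symm _) = _
      rw [show (ι.hom.app (op U.1)).hom x = pe (Polynomial.C x) by rw [hz.polyEquiv_apply, Polynomial.eval₂_C],
        RingEquiv.symm_apply_apply, Polynomial.eval₂_C]
    have hbz : b (RelCone.restrictTop 𝒮h z U.1) = t := by
      show Polynomial.eval₂ cU t (pe.symm _) = _
      rw [show RelCone.restrictTop 𝒮h z U.1 = pe Polynomial.X by rw [hz.polyEquiv_apply, Polynomial.eval₂_X],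
        RingEquiv.symm_apply_apply, Polynomial.eval₂_X]
    have hab : ∀ y, aU (b y) = y := fun y => by
      show aU (Polynomial.eval₂ cU t (pe.symm y)) = y
      rw [Polynomial.hom_eval₂, hat, show aU.comp cU = (ι.hom.app (op U.1)).hom from congr(($(hca).hom.app (op U.1)).hom),
        ← hz.polyEquiv_apply U.1 U.2, RingEquiv.apply_symm_apply]
    have hba : b.comp aU = RingHom.id _ := by
      refine (SymAlgLib.existsUnique_hom hC U.2 (C.str.app (op U.1)).hom
        (AddMonoidHom.mk' (fun m => (l.app U.1 m : C.presheaf.obj (op U.1))) (fun x y => map_add (l.app U.1).hom x y))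
        ?_).unique ⟨fun r => ?_, fun m => ?_⟩ ⟨fun r => rfl, fun m => rfl⟩
      · intro r m
        exact (Scheme.Modules.Hom.app_smul l r m).trans (RelSpec.QCAlg.str_smul_def _ _ _ _)
      · show b (aU ((C.str.app (op U.1)).hom r)) = _
        rw [show aU ((C.str.app (op U.1)).hom r) = (ι.hom.app (op U.1)).hom ((𝒮.str.app (op U.1)).hom r) from
          (congr(($(a.comm).app (op U.1)).hom r)).trans (congr(($(ι.comm).app (op U.1)).hom r)).symm, hbι]
        exact congr(($(c.comm).app (op U.1)).hom r)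
      · show b (aU (l.app U.1 m)) = l.app U.1 m
        rw [show aU (l.app U.1 m) = φ.app U.1 m from congr($(ha).app U.1 m)]
        let e₁ := (biprod.fst : F ⟶ E).app U.1 m
        let r₁ : Γ(Y, U.1) := (biprod.snd : F ⟶ Coh.structureModule Y).app U.1 m
        have hm : m = (biprod.inl : E ⟶ F).app U.1 e₁ + (biprod.inr : _ ⟶ F).app U.1 r₁ :=
          (congr($(biprod.total (X := E) (Y := Coh.structureModule Y)).app U.1 m)).symm
        have h1 : b (φ.app U.1 ((biprod.inl : E ⟶ F).app U.1 e₁)) = l.app U.1 ((biprod.inl : E ⟶ F).app U.1 e₁) := by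
          rw [show φ.app U.1 ((biprod.inl : E ⟶ F).app U.1 e₁) = (ι.hom.app (op U.1)).hom (j.app U.1 e₁) from
            congr($(biprod.inl_desc (j ≫ RelSpec.QCAlg.Hom.toModuleMap ι) k).app U.1 e₁)]
          exact (hbι _).trans (congr($(hc).app U.1 e₁))
        have h2 : b (φ.app U.1 ((biprod.inr : _ ⟶ F).app U.1 r₁)) = l.app U.1 ((biprod.inr : _ ⟶ F).app U.1 r₁) := by
          have er : (r₁ • (1 : Γ(Y, U.1)) : Γ(Coh.structureModule Y, U.1)) = r₁ := mul_one r₁
          have e2 : φ.app U.1 ((biprod.inr : _ ⟶ F).app U.1 r₁) =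
              (𝒮h.str.app (op U.1)).hom r₁ * RelCone.restrictTop 𝒮h z U.1 := by
            refine (congr($(biprod.inr_desc (j ≫ RelSpec.QCAlg.Hom.toModuleMap ι) k).app U.1 r₁)).trans ?_
            conv_lhs => rw [← er]
            refine ((Scheme.Modules.Hom.app_smul k r₁ _).trans (RelSpec.QCAlg.str_smul_def _ _ _ _)).trans ?_
            exact congrArg (_ * ·) (hk U.1)
          rw [e2, map_mul, hbz, show b ((𝒮h.str.app (op U.1)).hom r₁) = (C.str.app (op U.1)).hom r₁ from by
            rw [show (𝒮h.str.app (op U.1)).hom r₁ = (ι.hom.app (op U.1)).hom ((𝒮.str.app (op U.1)).hom r₁) from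
              (congr(($(ι.comm).app (op U.1)).hom r₁)).symm, hbι]
            exact congr(($(c.comm).app (op U.1)).hom r₁)]
          refine (RelSpec.QCAlg.str_smul_def C _ r₁ t).symm.trans ?_
          refine (Scheme.Modules.Hom.app_smul l r₁ _).symm.trans (congrArg (l.app U.1) ?_)
          refine ((Scheme.Modules.Hom.app_smul (biprod.inr : _ ⟶ F) r₁ _).symm.trans ?_)
          exact congrArg _ er
        rw [hm, map_add, map_add]
        exact ((map_add b _ _).trans (congrArg₂ (· + ·) h1 h2))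
    rw [ConcreteCategory.isIso_iff_bijective]
    exact Function.bijective_iff_has_inverse.mpr ⟨b, fun x => RingHom.congr_fun hba x, hab⟩
  let shC : TopCat.Sheaf CommRingCat.{u} Y.carrier := ⟨C.presheaf, C.isSheaf⟩
  let shH : TopCat.Sheaf CommRingCat.{u} Y.carrier := ⟨𝒮h.presheaf, 𝒮h.isSheaf⟩
  let ah : shC ⟶ shH := ⟨a.hom⟩
  haveI : IsIso ah := by
    refine Functor.IsCoverDense.iso_of_restrict_iso (G := Scheme.AffineZariskiSite.toOpensFunctor Y)
      (K := Opens.grothendieckTopology Y) ah ?_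
    haveI : ∀ U, IsIso ((Functor.whiskerLeft (Scheme.AffineZariskiSite.toOpensFunctor Y).op ah.hom).app U) :=
      fun U => hbij U.unop
    exact NatIso.isIso_of_isIso_app _
  haveI : IsIso a.hom := ⟨(inv ah).hom, congrArg (fun f : shC ⟶ shC => f.hom) (IsIso.hom_inv_id ah), congrArg (fun f : shH ⟶ shH => f.hom) (IsIso.inv_hom_id ah)⟩
  let ai : 𝒮h.toQCAlg ⟶ C := ⟨inv a.hom, by rw [IsIso.comp_inv_eq, a.comm]⟩
  have e1 : ai ≫ a = 𝟙 _ := RelSpec.QCAlg.hom_ext (IsIso.inv_hom_id a.hom)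
  have e2 : a ≫ ai = 𝟙 _ := RelSpec.QCAlg.hom_ext (IsIso.hom_inv_id a.hom)
  refine ⟨fun B χ => ?_, fun U hU x => ?_⟩
  · obtain ⟨ψ, hψ, hu⟩ := hC B χ
    refine ⟨ai ≫ ψ, ?_, fun ψ' hψ' => ?_⟩
    · show φ ≫ _ = χ
      rw [← ha, Category.assoc, ← hTM, ← Category.assoc a ai ψ, e2, Category.id_comp]
      exact hψ
    · rw [← hu (a ≫ ψ') ?_, ← Category.assoc, e1, Category.id_comp]
      show l ≫ _ = χ
      rw [hTM, ← Category.assoc, ha]
      exact hψ'
  · let e₁ := (biprod.fst : F ⟶ E).app U x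
    let r₁ : Γ(Y, U) := (biprod.snd : F ⟶ Coh.structureModule Y).app U x
    have hm : x = (biprod.inl : E ⟶ F).app U e₁ + (biprod.inr : _ ⟶ F).app U r₁ :=
      (congr($(biprod.total (X := E) (Y := Coh.structureModule Y)).app U x)).symm
    rw [hm, map_add]
    refine add_mem ?_ ?_
    · rw [show φ.app U ((biprod.inl : E ⟶ F).app U e₁) = (ι.hom.app (op U)).hom (j.app U e₁) from
        congr($(biprod.inl_desc (j ≫ RelSpec.QCAlg.Hom.toModuleMap ι) k).app U e₁)]
      exact hz.graded U hU _ _ (hS.2 U hU e₁)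
    · have er : (r₁ • (1 : Γ(Y, U)) : Γ(Coh.structureModule Y, U)) = r₁ := mul_one r₁
      have e3 : φ.app U ((biprod.inr : _ ⟶ F).app U r₁) = (𝒮h.str.app (op U)).hom r₁ * RelCone.restrictTop 𝒮h z U := by
        refine (congr($(biprod.inr_desc (j ≫ RelSpec.QCAlg.Hom.toModuleMap ι) k).app U r₁)).trans ?_
        conv_lhs => rw [← er]
        refine ((Scheme.Modules.Hom.app_smul k r₁ _).trans (RelSpec.QCAlg.str_smul_def _ _ _ _)).trans ?_
        exact congrArg (_ * ·) (hk U)
      rw [e3]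
      have := SetLike.GradedMul.mul_mem (A := 𝒮h.deg U hU) (𝒮h.str_mem U hU r₁) (hz.deg_z U hU)
      rwa [zero_add] at this

end Groth.Agent.S8304
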