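import Groth.Statements.S8305
import Groth.Agent.S3570
import Groth.Agent.S8302
import Groth.Agent.ModSiteLib.Colimits
import Groth.Agent.QCohLib.Push
-- import your own Groth.Agent.* helpers here

set_option autoImplicit false
universe u
open CategoryTheory CategoryTheory.Limits AlgebraicGeometry Opposite TopologicalSpace
noncomputable section
open EGA2

namespace Groth.Agent.S8305

/-- Let X and Y be schemes affine over S with structure morphisms gX and gY, h : Y → X a morphism over
S, F a quasi-coherent O_X-module, G a quasi-coherent O_Y-module and v : F → h_*G a homomorphism of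
O_X-modules, so that (h, v) is a morphism of pairs (Y, G) → (X, F). Then h and v are isomorphisms if
and only if the direct-image algebra homomorphism A(h) : gX_*O_X → gY_*O_Y and the direct image A(v)
= gX_*(v) : gX_*F → gX_*h_*G are isomorphisms (the pair (A(h), A(v)) is a di-isomorphism). -/
theorem result {X Y S : Scheme.{u}} (gX : X ⟶ S) [IsAffineHom gX]
    (gY : Y ⟶ S) [IsAffineHom gY] (h : Y ⟶ X) (hh : h ≫ gX = gY)
    (F : X.Modules) (G : Y.Modules) (hF : Coh.IsQCoh F) (hG : Coh.IsQCoh G)
    (v : F ⟶ (Scheme.Modules.pushforward h).obj G) :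
    (IsIso h ∧ IsIso v) ↔
      (IsIso (AffAlg.algHom gX gY h hh) ∧ IsIso ((Scheme.Modules.pushforward gX).map v)) := by
  haveI hha : IsAffineHom h := by
    have : IsAffineHom (h ≫ gX) := hh ▸ inferInstance
    exact MorphismProperty.of_postcomp (W := @IsAffineHom) (W' := @IsSeparated) h gX inferInstance this
  haveI := hG
  haveI : Coh.IsQCoh ((Scheme.Modules.pushforward h).obj G) := QCohLib.isQCoh_pushforward h G
  refine ⟨fun ⟨h1, h2⟩ => ?_, fun ⟨h1, h2⟩ => ⟨(Groth.Agent.S3570.result gX gY h hh).2 h1, ?_⟩⟩
  · haveI := h2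
    exact ⟨(Groth.Agent.S3570.result gX gY h hh).1 h1, inferInstance⟩
  · obtain ⟨-, -, h3⟩ := ModSiteLib.restrictScalars_preserves
      (AMod.strHom (RelSpec.QCAlg.directImage gX))
    haveI : (AMod.toOS (RelSpec.QCAlg.directImage gX)).ReflectsIsomorphisms := h3
    haveI : IsIso ((AMod.toOS (RelSpec.QCAlg.directImage gX)).map ((AMod.dirImg gX).map v)) := h2
    haveI : IsIso ((AMod.dirImg gX).map v) := isIso_of_reflects_iso _ (AMod.toOS _)
    obtain ⟨w, hw⟩ := (Groth.Agent.S8302.result gX _ F inferInstance hF).2 (inv ((AMod.dirImg gX).map v))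
    refine ⟨w, (Groth.Agent.S8302.result gX F F hF hF).1 ?_, (Groth.Agent.S8302.result gX _ _ inferInstance inferInstance).1 ?_⟩
    · rw [Functor.map_comp, hw, IsIso.hom_inv_id, CategoryTheory.Functor.map_id]
    · rw [Functor.map_comp, hw, IsIso.inv_hom_id, CategoryTheory.Functor.map_id]


end Groth.Agent.S8305
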