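import Groth.Statements.S8309
import Groth.Agent.RelConeLib.ConeImm
-- import your own Groth.Agent.* helpers here

set_option autoImplicit false
universe u
open CategoryTheory CategoryTheory.Limits AlgebraicGeometry Opposite TopologicalSpace
open scoped HomogeneousIdeal
noncomputable section
open EGA2

namespace Groth.Agent.S8309

/-- The canonical retraction of the pointed affine cone: let 𝒮 be a quasi-coherent positively graded
O_Y-algebra with 𝒮_0 = O_Y, Ŝ = 𝒮[z] (graded homomorphism ι : 𝒮 → Ŝ and a degree-one global section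
z, polynomial over affine opens), C = Spec(𝒮), X = Proj(𝒮) and Ĉ = Proj(Ŝ) with their charts, E ⊆ C
and Ê ⊆ Ĉ the pointed cones, i : C → Ĉ the canonical open immersion and p : Ê → X the canonical
retraction (the morphism which on each affine piece Spec Ŝ(U)_(ι f), f ∈ 𝒮(U) homogeneous of
positive degree, is Spec of 𝒮(U)_(f) → Ŝ(U)_(ι f) followed by the chart of X). Then the image of E
under i lies in Ê, and for the induced morphism i' : E → Ê the composite π = i' ≫ p : E → X is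
affine and surjective. -/
theorem result {Y PC P : Scheme.{u}} (𝒮 𝒮h : RelProj.QCGrAlg Y) (h0 : RelCone.StrZeroBij 𝒮)
    (ι : 𝒮.toQCAlg ⟶ 𝒮h.toQCAlg) (z : 𝒮h.presheaf.obj (op ⊤)) (hz : RelCone.IsPolyOver 𝒮 𝒮h ι z)
    (pC : PC ⟶ Y)
    (chartC : ∀ (U : Y.Opens) (hU : IsAffineOpen U), (((pC ⁻¹ᵁ U : PC.Opens) : Scheme.{u}) ≅ Proj (𝒮h.deg U hU)))
    (hPC : RelProj.IsRelProj 𝒮h pC chartC)
    (p : P ⟶ Y)
    (chart : ∀ (U : Y.Opens) (hU : IsAffineOpen U), (((p ⁻¹ᵁ U : P.Opens) : Scheme.{u}) ≅ Proj (𝒮.deg U hU)))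
    (hP : RelProj.IsRelProj 𝒮 p chart)
    (i : 𝒮.toQCAlg.spec ⟶ PC) (hi : RelCone.IsConeImm 𝒮 hz pC chartC i)
    (r : ((RelCone.pointedProjCone 𝒮 hz pC chartC : PC.Opens) : Scheme.{u}) ⟶ P)
    (hr : (∀ (U : Y.Opens) (hU : IsAffineOpen U) (d : ℕ) (hd : 0 < d) (f : 𝒮.presheaf.obj (op U)) (hf : f ∈ 𝒮.deg U hU d)
        (g : Spec (CommRingCat.of (HomogeneousLocalization.Away (𝒮h.deg U hU) ((RelProj.gradedHomAt ι hz.graded U hU) f))) ⟶
          ((RelCone.pointedProjCone 𝒮 hz pC chartC : PC.Opens) : Scheme.{u})),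
        g ≫ (RelCone.pointedProjCone 𝒮 hz pC chartC).ι =
            Proj.awayι (𝒮h.deg U hU) ((RelProj.gradedHomAt ι hz.graded U hU) f) ((RelProj.gradedHomAt ι hz.graded U hU).2 hf) hd ≫
              RelProj.emb pC chartC U hU →
          g ≫ r =
            Spec.map (CommRingCat.ofHom (HomogeneousLocalization.Away.map (RelProj.gradedHomAt ι hz.graded U hU) f)) ≫
              Proj.awayι (𝒮.deg U hU) f hf hd ≫ RelProj.emb p chart U hU)) :
    (RelCone.pointedCone 𝒮 : 𝒮.toQCAlg.spec.Opens) ≤ i ⁻¹ᵁ (RelCone.pointedProjCone 𝒮 hz pC chartC) ∧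
      ∀ i' : ((RelCone.pointedCone 𝒮 : 𝒮.toQCAlg.spec.Opens) : Scheme.{u}) ⟶ ((RelCone.pointedProjCone 𝒮 hz pC chartC : PC.Opens) : Scheme.{u}),
        i' ≫ (RelCone.pointedProjCone 𝒮 hz pC chartC).ι = (RelCone.pointedCone 𝒮).ι ≫ i →
          IsAffineHom (i' ≫ r) ∧ Function.Surjective (i' ≫ r).base := by

  have hpre := RelConeLib.coneImm_preimage_pointedProjCone hz hPC hi
  refine ⟨hpre.ge, fun i' hi' => ?_⟩
  let E : 𝒮.toQCAlg.spec.Opens := RelCone.pointedCone 𝒮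
  let V : ∀ U : Y.affineOpens, (Spec (𝒮.presheaf.obj (op U.1))).Opens := fun U => RelCone.vertexCompl (𝒮.deg U.1 U.2)
  let e : ∀ U : Y.affineOpens, (V U : Scheme.{u}) ⟶ (E : Scheme.{u}) := fun U =>
    IsOpenImmersion.lift E.ι ((V U).ι ≫ 𝒮.toQCAlg.ι U.1 U.2) (by
      rw [Scheme.Opens.range_ι]
      rintro _ ⟨w, rfl⟩
      exact (RelConeLib.ι_preimage_pointedCone 𝒮 U.2).ge w.2)
  have he : ∀ U, e U ≫ E.ι = (V U).ι ≫ 𝒮.toQCAlg.ι U.1 U.2 := fun U => IsOpenImmersion.lift_fac _ _ _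
  haveI : ∀ U, IsOpenImmersion (e U) := fun U => by
    haveI : IsOpenImmersion (e U ≫ E.ι) := by rw [he]; infer_instance
    exact IsOpenImmersion.of_comp _ E.ι
  have hW : ∀ (U : Y.affineOpens) (w : Spec (𝒮.presheaf.obj (op U.1))),
      w ∈ V U ↔ ¬ (HomogeneousIdeal.irrelevant (𝒮.deg U.1 U.2)).toIdeal ≤ w.asIdeal :=
    fun U w => RelConeLib.mem_vertexCompl 𝒮 U.2 w
  let g : ∀ U : Y.affineOpens, (V U : Scheme.{u}) ⟶ Proj (𝒮.deg U.1 U.2) := fun U =>
    letI := RelConeLib.algι ι U.1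
    RelConeLib.coneLift (RelProj.gradedHomAt ι hz.graded U.1 U.2) (fun _ => rfl) _ (hz.deg_z U.1 U.2)
      (RelConeLib.hat_bij hz U.1 U.2) (V U) (hW U) ≫ RelConeLib.dMap (RelProj.gradedHomAt ι hz.graded U.1 U.2)
  have hw : ∀ U, e U ≫ i' ≫ r = g U ≫ RelProj.emb p chart U.1 U.2 := by
    intro U
    letI := RelConeLib.algι ι U.1
    have h1 : e U ≫ i' = RelConeLib.coneLift (RelProj.gradedHomAt ι hz.graded U.1 U.2) (fun _ => rfl) _
        (hz.deg_z U.1 U.2) (RelConeLib.hat_bij hz U.1 U.2) (V U) (hW U) ≫ RelConeLib.dEmb hz U.1 U.2 := by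
      rw [← cancel_mono (RelCone.pointedProjCone 𝒮 hz pC chartC).ι, Category.assoc, hi', Category.assoc,
        RelConeLib.dEmb_ι, reassoc_of% (he U), (RelConeLib.isConeImm_iff hz i).mp hi U.1 U.2]
      exact (Category.assoc _ _ _).symm.trans ((congrArg (· ≫ RelProj.emb pC chartC U.1 U.2)
        (RelConeLib.coneLift_ι (RelProj.gradedHomAt ι hz.graded U.1 U.2) (fun _ => rfl) _
          (hz.deg_z U.1 U.2) (RelConeLib.hat_bij hz U.1 U.2) (V U) (hW U)).symm).trans (Category.assoc _ _ _))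
    rw [← Category.assoc, h1, Category.assoc, (RelConeLib.isRetr_iff hz r).mp hr U.1 U.2]
    exact (Category.assoc _ _ _).symm
  have hpre' : ∀ U : Y.affineOpens, (i' ≫ r) ⁻¹ᵁ (RelProj.emb p chart U.1 U.2).opensRange = (e U).opensRange := by
    intro U
    have h2 : (i' ≫ r) ≫ p = E.ι ≫ 𝒮.toQCAlg.π := by
      rw [Category.assoc, RelConeLib.retr_over hz hPC hP hr, reassoc_of% hi', RelConeLib.coneImm_over hz hPC hi]
    rw [RelConeLib.emb_opensRange, ← Scheme.Hom.comp_preimage, h2, Scheme.Hom.comp_preimage,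
      𝒮.toQCAlg.π_preimage U.1 U.2]
    ext x
    constructor
    · rintro ⟨w, hw'⟩
      have hwV : w ∈ V U := (RelConeLib.ι_preimage_pointedCone 𝒮 U.2).le (show 𝒮.toQCAlg.ι U.1 U.2 w ∈ E from hw' ▸ x.2)
      refine ⟨⟨w, hwV⟩, E.ι.isOpenEmbedding.injective ?_⟩
      rw [← Scheme.Hom.comp_apply, he]
      exact hw'
    · rintro ⟨w, rfl⟩
      refine ⟨w.1, ?_⟩
      rw [← Scheme.Hom.comp_apply, he]
      rfl
  have hcov : ∀ y : P, ∃ U : Y.affineOpens, y ∈ (RelProj.emb p chart U.1 U.2).opensRange := by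
    intro y
    obtain ⟨U, hU, v, hv⟩ := RelConeLib.exists_emb (chart := chart) y
    exact ⟨⟨U, hU⟩, v, hv⟩
  refine ⟨RelConeLib.of_squares @IsAffineHom (i' ≫ r) e (fun U => RelProj.emb p chart U.1 U.2) g hw hpre' hcov
    fun U => ?_, (RelConeLib.of_squares @Surjective (i' ≫ r) e (fun U => RelProj.emb p chart U.1 U.2) g hw hpre' hcov
    fun U => ?_).surj⟩
  · letI := RelConeLib.algι ι U.1
    exact RelConeLib.isAffineHom_coneLift (RelProj.gradedHomAt ι hz.graded U.1 U.2) (fun _ => rfl) _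
      (hz.deg_z U.1 U.2) (RelConeLib.hat_bij hz U.1 U.2) (V U) (hW U)
  · letI := RelConeLib.algι ι U.1
    exact RelConeLib.surjective_coneLift (RelProj.gradedHomAt ι hz.graded U.1 U.2) (fun _ => rfl) _
      (hz.deg_z U.1 U.2) (RelConeLib.hat_bij hz U.1 U.2) (V U) (hW U)


end Groth.Agent.S8309
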