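import Groth.Statements.S8312
import Groth.Agent.SweepSix.Natural
-- import your own Groth.Agent.* helpers here

set_option autoImplicit false
universe u
open scoped HomogeneousIdeal
open EGA2

namespace Groth.Agent.S8312

open SweepSix.Natural

open Polynomial

/-- Let S be a positively graded ring (an ℕ-graded R-algebra) and S♮ the graded ring with S♮_n = S_[n] =
⊕_{m ≥ n} S_m, presented as a graded ring S' with an injective algebra homomorphism φ : S' → S[X]
carrying S'_n onto S_[n]·X^n; for a homogeneous f ∈ S_d write f♮ for the element of S' with φ(f♮) =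
f·X^d (f placed in degree d of S♮). If (f_α) is a family of homogeneous elements of S of positive
degrees such that every element of the irrelevant ideal S_+ has a positive power in the ideal
generated by the f_α (that is, S_+ is the radical in S_+ of that ideal), then every element of the
irrelevant ideal S'_+ has a positive power in the ideal of S' generated by the f_α♮. -/
theorem result {R A B : Type u} [CommRing R] [CommRing A] [Algebra R A]
    (𝒜 : ℕ → Submodule R A) [GradedAlgebra 𝒜] [CommRing B] [Algebra R B] (ℬ : ℕ → Submodule R B) [GradedAlgebra ℬ]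
    (φ : B →ₐ[R] Polynomial A) (hφ : Function.Injective φ)
    (hdeg : ∀ n : ℕ, Submodule.map φ.toLinearMap (ℬ n) =
      Submodule.map ((Polynomial.monomial n : A →ₗ[A] Polynomial A).restrictScalars R) (⨆ (m : ℕ) (_ : n ≤ m), 𝒜 m))
    {ι : Type u} (d : ι → ℕ) (hd : ∀ a, 0 < d a) (f : ι → A) (hf : ∀ a, f a ∈ 𝒜 (d a))
    (hrad : ∀ g ∈ (HomogeneousIdeal.irrelevant 𝒜).toIdeal, ∃ n : ℕ, 0 < n ∧ g ^ n ∈ Ideal.span (Set.range f))
    (fn : ι → B) (hfn : ∀ a, φ (fn a) = Polynomial.monomial (d a) (f a)) :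
    ∀ g ∈ (HomogeneousIdeal.irrelevant ℬ).toIdeal, ∃ n : ℕ, 0 < n ∧ g ^ n ∈ Ideal.span (Set.range fn) := by
  classical
  suffices h : (HomogeneousIdeal.irrelevant ℬ).toIdeal ≤ (Ideal.span (Set.range fn)).radical by
    intro g hg
    obtain ⟨n, hn⟩ := h hg
    exact ⟨n + 1, n.succ_pos, pow_succ g n ▸ Ideal.mul_mem_right _ _ hn⟩
  intro g hg
  rw [← DirectSum.sum_support_decompose ℬ g]
  refine Ideal.sum_mem _ fun n _ => ?_
  rcases Nat.eq_zero_or_pos n with rfl | hn
  · rw [ProjTopLib.decompose_zero_of_mem_irrelevant ℬ hg]; exact zero_mem _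
  obtain ⟨b, hbn, hb'⟩ : ∃ b, b ∈ ℬ n ∧ (DirectSum.decompose ℬ g n : B) = b :=
    ⟨_, SetLike.coe_mem _, rfl⟩
  rw [hb']
  obtain ⟨s, hs, hbs⟩ := of_mem 𝒜 ℬ φ hdeg hbn
  obtain ⟨N, hN, hsN⟩ := hrad s ((HomogeneousIdeal.mem_irrelevant_iff 𝒜 s).mpr
    (proj_eq_zero 𝒜 hs hn))
  obtain ⟨c, hc⟩ := Finsupp.mem_span_range_iff_exists_finsupp.mp hsN
  let D := c.support.sup d
  let M := N * (D + 1)
  have hM : ∀ a ∈ c.support, d a ≤ n * M := fun a ha =>
    calc d a ≤ D := Finset.le_sup (f := d) ha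
      _ ≤ D + 1 := Nat.le_succ _
      _ ≤ M := Nat.le_mul_of_pos_left _ hN
      _ ≤ n * M := Nat.le_mul_of_pos_left _ hn
  refine ⟨M, ?_⟩
  obtain ⟨s', hs', hbM⟩ := of_mem 𝒜 ℬ φ hdeg (n := M • n) (SetLike.pow_mem_graded M hbn)
  have he : s' = s ^ M := by
    rw [← ev_of_eq φ hbM, map_pow, ev_of_eq φ hbs]
  rw [smul_eq_mul, Nat.mul_comm M n] at hs' hbM
  subst he
  let J := Ideal.span (Set.range fn)
  suffices monomial (n * M) (s ^ M) ∈ J.toAddSubmonoid.map φ.toRingHom.toAddMonoidHom by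
    obtain ⟨w, hw, hw'⟩ := this
    rwa [← hφ (hbM.trans hw'.symm)] at hw
  rw [← DirectSum.sum_support_decompose 𝒜 (s ^ M), map_sum]
  refine sum_mem fun m _ => ?_
  rcases lt_or_ge m (n * M) with hm | hm
  · have h0 := proj_eq_zero 𝒜 hs' hm
    rw [GradedRing.proj_apply] at h0
    rw [h0, map_zero]
    exact zero_mem _
  have hsum : s ^ M = ∑ a ∈ c.support, (c a * s ^ (N * D)) * f a := by
    rw [show M = N * D + N from Nat.mul_succ N D, pow_add, ← hc, Finsupp.sum, Finset.mul_sum]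
    exact Finset.sum_congr rfl fun a _ => by rw [smul_eq_mul]; ring
  rw [hsum, DirectSum.decompose_sum, DFinsupp.finsetSum_apply, Submodule.coe_sum, map_sum]
  refine sum_mem fun a ha => ?_
  have hda := hM a ha
  rw [DirectSum.coe_decompose_mul_of_right_mem_of_le 𝒜 (hf a) (hda.trans hm)]
  obtain ⟨e, he⟩ : ∃ e, n * M = e + d a := ⟨n * M - d a, by omega⟩
  obtain ⟨z, hz, hz'⟩ := exists_mem 𝒜 ℬ φ hdeg (n := e)
    (le_ge 𝒜 (show e ≤ m - d a by omega)
      (SetLike.coe_mem (DirectSum.decompose 𝒜 (c a * s ^ (N * D)) (m - d a))))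
  refine ⟨z * fn a, J.mul_mem_left _ (Ideal.subset_span ⟨a, rfl⟩), ?_⟩
  change φ (z * fn a) = _
  rw [map_mul, hz', hfn, monomial_mul_monomial, ← he]

end Groth.Agent.S8312
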