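import Groth.Statements.S8334
import Groth.Agent.MiscFlat6.PullbackFT
import Groth.Agent.GrModLib6.RelPow
import Groth.Agent.HilbPolyLib.Twist
import Groth.Agent.QCohLib.Push
-- import your own Groth.Agent.* helpers here

set_option autoImplicit false
universe u
open CategoryTheory CategoryTheory.Limits AlgebraicGeometry Opposite TopologicalSpace
open scoped HomogeneousIdeal
noncomputable section
open EGA2

namespace Groth.Agent.S8334

theorem exists_epi_tensor {X : Scheme.{u}} {L A B : X.Modules} (hL : PicF.IsInvertible L) (φ : A ⟶ B) (h : Epi φ) :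
    ∃ ψ : CohB1.tensorMod L A ⟶ CohB1.tensorMod L B, Epi ψ := by
  let S : ShortComplex X.Modules := ShortComplex.mk (kernel.ι φ) φ (kernel.condition φ)
  have hS : S.ShortExact :=
    { exact := S.exact_of_f_is_kernel (kernelIsKernel φ)
      mono_f := inferInstanceAs (Mono (kernel.ι φ))
      epi_g := h }
  exact ⟨(S.map (CurvLib.tensorLeft' L)).g, (HilbPolyLib.shortExact_tensor hL hS).epi_g⟩

/-- Let Y be a quasi-compact separated scheme, or a scheme with Noetherian underlying space, 𝒮 a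
quasi-coherent positively graded O_Y-algebra generated by 𝒮_1 with 𝒮_1 of finite type, p : P =
Proj(𝒮) → Y, and F a quasi-coherent O_P-module of finite type. Then there is n₀ such that for every
n ≥ n₀, F is a quotient of (p^*G)(−n) = p^*(G) ⊗ O_P(−n) for some quasi-coherent O_Y-module G of
finite type (which may vary with n), O_P(−n) being given through its chartwise identifications. -/
theorem result {Y P : Scheme.{u}} (𝒮 : RelProj.QCGrAlg Y) (p : P ⟶ Y)
    (chart : ∀ (U : Y.Opens) (hU : IsAffineOpen U), (((p ⁻¹ᵁ U : P.Opens) : Scheme.{u}) ≅ Proj (𝒮.deg U hU)))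
    (hP : RelProj.IsRelProj 𝒮 p chart)
    (hY : (CompactSpace Y ∧ Y.IsSeparated) ∨ NoetherianSpace Y) (hgen : 𝒮.IsGenDegOne)
    (hft : 𝒮.IsFTDeg 1) (F : P.Modules) (hFq : Coh.IsQCoh F) (hFt : CohB1.IsFT F) :
    ∃ n₀ : ℤ, ∀ (n : ℤ), n₀ ≤ n → ∀ (L : P.Modules)
      (lam : ∀ (U : Y.Opens) (hU : IsAffineOpen U),
      L ⟶ (Scheme.Modules.pushforward (RelProj.emb p chart U hU)).obj (GrTwist.twist (𝒮.deg U hU) (-n))),
      RelProj.IsRelTwist 𝒮 p chart (-n) L lam →
        ∃ (G : Y.Modules) (π : CohB1.tensorMod ((Scheme.Modules.pullback p).obj G) L ⟶ F),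
          Coh.IsQCoh G ∧ CohB1.IsFT G ∧ Epi π := by
  haveI : CompactSpace Y := hY.elim (fun h => h.1) fun h => inferInstance
  haveI : QuasiSeparatedSpace Y := by
    rcases hY with h | h
    · haveI := h.2
      infer_instance
    · infer_instance
  haveI := MiscFlat6.isProper_relProj hP hgen hft
  haveI : CompactSpace P := QuasiCompact.compactSpace_of_compactSpace p
  obtain ⟨n₀, hn₀⟩ := GrModLib6.counit_twist_epi hP hgen hft F ⟨hFq, hFt⟩
  refine ⟨n₀, fun n hn L lam hL => ?_⟩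
  obtain ⟨Ln, lamn, hLn⟩ := GrModLib6.exists_isRelTwist hP n
  have hLi := MiscFlat6.relTwist_genDegOne_isInvertible hgen hL
  have hLni := MiscFlat6.relTwist_genDegOne_isInvertible hgen hLn
  let M := CohB1.tensorMod F Ln
  have hM : Coh.IsCoh M := SerreVanLib.isCoh_tensor ⟨hFq, hFt⟩ hLni
  haveI := hn₀ n hn Ln lamn hLn
  haveI : Coh.IsQCoh M := hM.1
  haveI : Coh.IsQCoh ((Scheme.Modules.pushforward p).obj M) := QCohLib.isQCoh_pushforward p M
  obtain ⟨G, φ, hG, hGft, hφ⟩ := MiscFlat6.exists_ft_sub_epi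
    ((Scheme.Modules.pullbackPushforwardAdjunction p).counit.app M) hM.2
  haveI := hφ
  obtain ⟨L₀, lam₀, hL₀⟩ := GrModLib6.exists_isRelTwist hP 0
  obtain ⟨i⟩ := GrModLib6.tensor_iso_global hP hgen hL hLn hL₀ (neg_add_cancel n).symm
  obtain ⟨j⟩ := GrModLib6.relTwist_zero_iso hP hL₀
  obtain ⟨ψ, hψ⟩ := exists_epi_tensor hLi φ hφ
  haveI := hψ
  let e : CohB1.tensorMod L M ≅ F :=
    HilbPolyLib.leftComm L F Ln ≪≫ HilbPolyLib.congrRight F (i ≪≫ j) ≪≫
      HilbPolyLib.swapIso F _ ≪≫ HilbPolyLib.unitLeft F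
  exact ⟨G, (HilbPolyLib.swapIso _ L).hom ≫ ψ ≫ e.hom, hG, hGft, epi_comp _ _⟩

end Groth.Agent.S8334
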