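import Groth.Statements.S8339
import Groth.Agent.GrModLib6.Comap
import Groth.Agent.GrModLib6.Chart

set_option autoImplicit false
universe u
open CategoryTheory CategoryTheory.Limits AlgebraicGeometry Opposite TopologicalSpace
open scoped HomogeneousIdeal
noncomputable section
open EGA2

namespace Groth.Agent.S8339
open GrModLib6 in
open scoped Classical in
theorem inj {A σ : Type u} [CommRing A] [SetLike σ A] [AddSubgroupClass σ A] {𝒜 : ℕ → σ}
    [GradedRing 𝒜] {B σ' : Type u} [CommRing B] [SetLike σ' B] [AddSubgroupClass σ' B] {ℬ : ℕ → σ'} [GradedRing ℬ]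
    (ψ : 𝒜 →+*ᵍ ℬ) (hψ : ℬ₊ ≤ (𝒜₊).map ψ)
    {M τ : Type u} [AddCommGroup M] [Module A M] [SetLike τ M] [AddSubgroupClass τ M] {ℳ : ℕ → τ}
    [SetLike.GradedSMul 𝒜 ℳ]
    {N τ' : Type u} [AddCommGroup N] [Module B N] [SetLike τ' N] [AddSubgroupClass τ' N] {𝒩 : ℕ → τ'}
    [SetLike.GradedSMul ℬ 𝒩] [DirectSum.Decomposition 𝒩]
    (v : M →ₛₗ[ψ.toRingHom] N) (hv : ∀ (i : ℕ) (m : M), m ∈ ℳ i → v m ∈ 𝒩 i) (hinj : Function.Injective v)
    (n : ℤ) {W : (Proj 𝒜).Opens} (s : Γ(GrMod.tilde 𝒜 ℳ n, W))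
    (hs : (GrMod.comap ψ hψ v hv n).app W s = 0) : s = 0 := by
  refine sec_ext fun x => ?_
  obtain ⟨W', hxW', hW', i, j, m, a, hm, ha, hnin, -, hval⟩ := val_exists s x
  obtain ⟨e, g, he, hg, hxg, hgW⟩ := exists_homogeneous_basicOpen 𝒜 hxW'
  have h0 : ∀ y : ProjectiveSpectrum ℬ, ψ g ∉ y.asHomogeneousIdeal →
      ∃ t : y.asHomogeneousIdeal.toIdeal.primeCompl, (LocalizedModule.mk (v m) t : GrMod.LocMod ℬ y) = 0 := by
    intro y hy
    have hyW' : ProjectiveSpectrum.comap ψ hψ y ∈ W' := hgW (show g ∉ (ProjectiveSpectrum.comap ψ hψ y).asHomogeneousIdeal from hy)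
    refine ⟨⟨ψ a, hnin ⟨_, hyW'⟩⟩, ?_⟩
    have h1 : val ((GrMod.comap ψ hψ v hv n).app W s)
        (⟨y, hW' hyW'⟩ : (Proj.map ψ hψ ⁻¹ᵁ W : (Proj ℬ).Opens)) = 0 :=
      (congrArg (fun z => val z (⟨y, hW' hyW'⟩ : (Proj.map ψ hψ ⁻¹ᵁ W : (Proj ℬ).Opens))) hs).trans
        (val_zero _)
    rw [GrModLib6.comap_val hψ hv W s, hval ⟨_, hyW'⟩, GrMod.locModMap_mk] at h1
    exact h1
  obtain ⟨K, hK⟩ := exists_pow_smul_eq_zero ℬ 𝒩 he (ψ.map_mem hg) (hv i m hm) h0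
  have hKm : g ^ K • m = 0 := hinj (by
    rw [map_zero, LinearMap.map_smulₛₗ]
    show ψ (g ^ K) • v m = 0
    rw [map_pow]
    exact hK)
  refine (hval ⟨x.1, hxW'⟩).trans ?_
  rw [val_zero, ← LocalizedModule.zero_mk 1, LocalizedModule.mk_eq]
  refine ⟨⟨g ^ K, fun h => hxg (x.1.isPrime.mem_of_pow_mem K h)⟩, ?_⟩
  simp only [Submonoid.smul_def, OneMemClass.coe_one, one_smul, smul_zero]
  exact hKm

/-- Let ψ : S' → S be a homomorphism of graded rings with S_+ contained in the ideal generated by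
ψ(S'_+), so that Φ : Proj S → Proj S' is everywhere defined, and let N be a graded S-module. If M is
the graded S'-module obtained from N by restriction of scalars along ψ — given here as any graded
S'-module with a degree-preserving bijective ψ-semilinear map v : M → N — then the canonical
morphism M(n)~ → Φ_*(N(n)~), m/f ↦ v(m)/ψ(f), is an isomorphism for every integer n. (The published
statement is over the open G(ψ) where Φ is defined; the hypothesis on irrelevant ideals used here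
forces G(ψ) = Proj S. For v not bijective this morphism is not an isomorphism in general. Gradings
by additive subgroups; modules graded in non-negative degrees.) -/
theorem result {A σ : Type u} [CommRing A] [SetLike σ A] [AddSubgroupClass σ A] {𝒜 : ℕ → σ}
    [GradedRing 𝒜] {B σ' : Type u} [CommRing B] [SetLike σ' B] [AddSubgroupClass σ' B] {ℬ : ℕ → σ'} [GradedRing ℬ]
    (ψ : 𝒜 →+*ᵍ ℬ) (hψ : ℬ₊ ≤ (𝒜₊).map ψ)
    {M τ : Type u} [AddCommGroup M] [Module A M] [SetLike τ M] [AddSubgroupClass τ M] (ℳ : ℕ → τ)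
    [SetLike.GradedSMul 𝒜 ℳ] [DirectSum.Decomposition ℳ]
    {N τ' : Type u} [AddCommGroup N] [Module B N] [SetLike τ' N] [AddSubgroupClass τ' N] (𝒩 : ℕ → τ')
    [SetLike.GradedSMul ℬ 𝒩] [DirectSum.Decomposition 𝒩]
    (v : M →ₛₗ[ψ.toRingHom] N) (hv : ∀ (i : ℕ) (m : M), m ∈ ℳ i → v m ∈ 𝒩 i) (hbij : Function.Bijective v)
    (n : ℤ) : IsIso (GrMod.comap ψ hψ v hv n) := by
  classical
  refine Scheme.Modules.Hom.isIso_iff_isIso_app.mpr fun W => ?_
  rw [ConcreteCategory.isIso_iff_bijective]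
  refine ⟨fun a b hab => sub_eq_zero.mp (inj ψ hψ v hv hbij.1 n _ (by rw [map_sub, hab, sub_self])), fun t => ?_⟩
  have hloc : ∀ x : W, ∃ (W' : (Proj 𝒜).Opens) (hle : W' ≤ W), x.1 ∈ W' ∧ ∃ s,
      (GrMod.comap ψ hψ v hv n).app W' s =
        ModGlueLib.rs ((Scheme.Modules.pushforward (Proj.map ψ hψ)).obj (GrMod.tilde ℬ 𝒩 n)) hle t := by
    rintro ⟨x, hx⟩
    obtain ⟨e, g, he, hg, hxg, hgW⟩ := GrModLib6.exists_homogeneous_basicOpen 𝒜 hx
    have hle' : Proj.basicOpen ℬ (ψ g) ≤ Proj.map ψ hψ ⁻¹ᵁ W := fun y hy =>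
      hgW (show g ∉ (ProjectiveSpectrum.comap ψ hψ y).asHomogeneousIdeal from hy)
    obtain ⟨k, i, n₁, hn₁, hdeg, hval⟩ := GrModLib6.exists_eq_frac (ℳ := 𝒩) (n := n) he (ψ.map_mem hg)
      ((GrMod.tilde ℬ 𝒩 n).presheaf.map (homOfLE hle').op t)
    obtain ⟨m₀, hm₀⟩ := hbij.2 n₁
    have hmem : (DirectSum.decompose ℳ m₀ i : M) ∈ ℳ i := SetLike.coe_mem _
    have hvm : v (DirectSum.decompose ℳ m₀ i : M) = n₁ := by
      rw [GrModLib6.decompose_semilinear ψ v hv, hm₀, DirectSum.decompose_of_mem_same 𝒩 hn₁]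
    refine ⟨Proj.basicOpen 𝒜 g, hgW, hxg,
      GrModLib6.fracSec hmem (SetLike.pow_mem_graded k hg) (by simp [hdeg])
        (fun z => GrModLib6.pow_nin z k), GrModLib6.sec_ext fun z => ?_⟩
    rw [GrModLib6.comap_val hψ hv, GrModLib6.val_fracSec, GrMod.locModMap_mk, ModGlueLib.rs]
    refine (GrModLib6.mk_congr ?_).trans (hval ⟨z.1, z.2⟩).symm
    show ψ g ^ k • v (DirectSum.decompose ℳ m₀ i : M) = ψ (g ^ k) • n₁
    rw [hvm, map_pow]
  choose W' hle hxW' s hs using hloc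
  obtain ⟨S, hS⟩ := ModGlueLib.exists_glue (V := W) W' hle (fun x hx => ⟨⟨x, hx⟩, hxW' ⟨x, hx⟩⟩) s
    (fun p q => sub_eq_zero.mp (inj ψ hψ v hv hbij.1 n _ (by
      rw [map_sub, ModGlueLib.app_rs, ModGlueLib.app_rs, hs p, hs q, ModGlueLib.rs_rs, ModGlueLib.rs_rs, sub_self])))
  refine ⟨S, ModGlueLib.eq_of_locally _ _ fun x hx => ⟨W' ⟨x, hx⟩, hle _, hxW' _, ?_⟩⟩
  rw [← ModGlueLib.app_rs, hS, hs]

end Groth.Agent.S8339
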