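import Groth.Statements.S8346
import Groth.Agent.SweepSix.Constr

set_option autoImplicit false
universe u
open ConstrTop

namespace Groth.Agent.S8346

open TopologicalSpace in
/-- Let X be a topological space admitting a basis of open subsets which are retrocompact in X. Then
every locally constructible subset T of X is retrocompact in X. -/
theorem result {X : Type u} [TopologicalSpace X]
    {B : Set (Set X)} (hB : IsTopologicalBasis B) (hBr : ∀ U ∈ B, IsRetrocompact U) {T : Set X}
    (hT : Topology.IsLocallyConstructible T) : IsRetrocompact T := by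
  intro K hK hKo
  have h : ∀ x, ∃ V ∈ B, x ∈ V ∧ Topology.IsConstructible ((Subtype.val : V → X) ⁻¹' T) := by
    intro x
    obtain ⟨U, hxU, hU, hUT⟩ := hT x
    obtain ⟨V, hV, hxV, hVU⟩ := hB.exists_subset_of_mem_open (mem_of_mem_nhds hxU) hU
    exact ⟨V, hV, hxV, (hUT.preimage_of_isOpenEmbedding
      (Topology.IsOpenEmbedding.id.restrict hVU (hB.isOpen hV)) :)⟩
  choose V hV hxV hVT using h
  obtain ⟨t, ht⟩ := hK.elim_finite_subcover V (fun x => hB.isOpen (hV x)) fun x _ => Set.mem_iUnion.mpr ⟨x, hxV x⟩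
  have heq : T ∩ K = ⋃ x ∈ t, (Subtype.val : V x → X) '' (Subtype.val ⁻¹' T ∩ Subtype.val ⁻¹' K) := by
    ext y
    constructor
    · rintro ⟨hyT, hyK⟩
      obtain ⟨x, hx, hy⟩ := Set.mem_iUnion₂.mp (ht hyK)
      exact Set.mem_iUnion₂.mpr ⟨x, hx, ⟨y, hy⟩, ⟨hyT, hyK⟩, rfl⟩
    · intro hy
      obtain ⟨x, -, z, hz, rfl⟩ := Set.mem_iUnion₂.mp hy
      exact hz
  rw [heq]
  refine t.isCompact_biUnion fun x _ => IsCompact.image ?_ continuous_subtype_val
  refine SweepSix.isRetrocompact_of_isConstructible (hVT x) ?_ (hKo.preimage continuous_subtype_val)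
  rw [Topology.IsEmbedding.subtypeVal.isCompact_iff, Subtype.image_preimage_coe]
  exact hBr _ (hV x) hK hKo

end Groth.Agent.S8346
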