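import Groth.Statements.S8348
import Mathlib
-- import your own Groth.Agent.* helpers here

set_option autoImplicit false
set_option linter.style.haveILetI false
universe v u
open CategoryTheory CategoryTheory.Limits
open HomAlg3

namespace Groth.Agent.S8348

/-- Let C be an abelian category and Q a cochain complex of objects of C in degrees 0, 1, 2, ... such
that every Q^i is injective, every homology object H^i(Q) with i ≥ 1 is zero, and every inclusion of
the cycles Z^i(Q) into Q^i (i ≥ 0) is a split monomorphism. Then Q is an injective object of the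
category of cochain complexes of C indexed by the natural numbers. (The published statement is for
the narrower class of complexes with Z^i(Q) = B^i(Q) for every i ≥ 0, which in degree 0, where there
is no incoming differential, forces Z^0(Q) = 0; this row allows a nonzero Z^0(Q), so that it pairs
with the embedding of an arbitrary complex into such a Q. Such a Q is the direct sum of Z^0(Q)
placed in degree 0 and of the two-term complexes with Z^{i+1}(Q) in degrees i and i+1 and the
identity as differential, and the published argument carries over with Z^i(Q) in place of B^i(Q) as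
the first summand of Q^i.) -/
theorem result {C : Type u} [Category.{v} C] [Abelian C]
    (Q : CochainComplex C ℕ) (hinj : ∀ i : ℕ, Injective (Q.X i)) (hac : ∀ i : ℕ, IsZero (Q.homology (i + 1)))
    (hsplit : ∀ i : ℕ, IsSplitMono (Q.iCycles i)) : Injective Q := by
  have hs : ∀ i, ∃ r : Q.X i ⟶ Q.cycles i, Q.iCycles i ≫ r = 𝟙 _ := fun i => by
    haveI := hsplit i
    exact ⟨retraction (Q.iCycles i), IsSplitMono.id (Q.iCycles i)⟩
  choose r hr using hs
  have hZ : ∀ i, Injective (Q.cycles i) := fun i => by
    haveI := hinj i
    exact (Retract.injective ⟨Q.iCycles i, r i, hr i⟩)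
  have hepi : ∀ i, Epi (Q.toCycles i (i + 1)) := fun i => by
    have h : Q.ExactAt (i + 1) := (HomologicalComplex.exactAt_iff_isZero_homology _ _).2 (hac i)
    exact Preadditive.epi_of_isZero_cokernel' _
      (Q.homologyIsCokernel i (i + 1) (by simp)) (hac i)
  have hz : ∀ i, Q.iCycles i ≫ Q.toCycles i (i + 1) = 0 := fun i => by
    rw [← cancel_mono (Q.iCycles (i + 1)), Category.assoc, HomologicalComplex.toCycles_i,
      HomologicalComplex.iCycles_d, zero_comp]
  have hex : ∀ i, (ShortComplex.mk _ _ (hz i)).Exact := fun i => by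
    apply ShortComplex.exact_of_f_is_kernel
    exact KernelFork.IsLimit.ofι _ _
      (fun g hg => Q.liftCycles g (i + 1) (by simp) (by
        rw [← Q.toCycles_i i (i + 1), reassoc_of% hg, zero_comp]))
      (fun g hg => Q.liftCycles_i g (i + 1) (by simp) _)
      (fun g hg m hm => by rw [← cancel_mono (Q.iCycles i), Q.liftCycles_i, hm])
  have hsp : ∀ i, ∃ s : Q.cycles (i + 1) ⟶ Q.X i,
      r i ≫ Q.iCycles i + Q.toCycles i (i + 1) ≫ s = 𝟙 _ := fun i => by
    haveI : Epi (ShortComplex.mk _ _ (hz i)).g := hepi i
    let σ := ShortComplex.Splitting.ofExactOfRetraction _ (hex i) (r i) (hr i) ‹_›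
    exact ⟨σ.s, σ.id⟩
  choose s hs using hsp
  constructor
  intro K L g u hu
  have hext : ∀ i, ∃ α : L.X i ⟶ Q.cycles i, u.f i ≫ α = g.f i ≫ r i := fun i => by
    haveI := hZ i
    exact ⟨Injective.factorThru (g.f i ≫ r i) (u.f i), Injective.comp_factorThru _ _⟩
  choose α hα using hext
  refine ⟨{ f := fun i => α i ≫ Q.iCycles i + L.d i (i + 1) ≫ α (i + 1) ≫ s i, comm' := ?_ }, ?_⟩
  · rintro i j rfl
    have h1 : s i ≫ Q.d i (i + 1) = Q.iCycles (i + 1) := by
      haveI := hepi i
      rw [← cancel_epi (Q.toCycles i (i + 1)), ← Category.assoc, eq_sub_of_add_eq' (hs i),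
        Preadditive.sub_comp, Category.id_comp, Category.assoc, Q.iCycles_d, comp_zero, sub_zero,
        Q.toCycles_i]
    simp only [Preadditive.add_comp, Preadditive.comp_add, Category.assoc, h1, Q.iCycles_d,
      comp_zero, zero_add, L.d_comp_d_assoc, zero_comp, add_zero]
  · refine HomologicalComplex.hom_ext _ _ fun i => ?_
    have hd : g.f i ≫ Q.d i (i + 1) = K.d i (i + 1) ≫ g.f (i + 1) := g.comm i (i + 1)
    change u.f i ≫ (α i ≫ Q.iCycles i + L.d i (i + 1) ≫ α (i + 1) ≫ s i) = g.f i
    rw [Preadditive.comp_add, reassoc_of% hα i, u.comm_assoc, reassoc_of% hα (i + 1),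
      ← reassoc_of% hd, ← Q.toCycles_i i (i + 1)]
    simp only [Category.assoc]
    rw [reassoc_of% hr (i + 1), ← Preadditive.comp_add, hs i, Category.comp_id]

end Groth.Agent.S8348
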