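import Groth.Statements.S8349
import Mathlib
-- import your own Groth.Agent.* helpers here

set_option autoImplicit false
set_option linter.style.haveILetI false
universe v u
open CategoryTheory CategoryTheory.Limits
open HomAlg3

namespace Groth.Agent.S8349

/-- Let C be an abelian category in which every object embeds in an injective object, and let A be a
cochain complex of objects of C in degrees 0, 1, 2, .... Then there are a cochain complex Q, with
every Q^i injective, H^i(Q) = 0 for every i ≥ 1 and every cycle inclusion Z^i(Q) ⟶ Q^i (i ≥ 0) a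
split monomorphism, and a monomorphism of complexes A ⟶ Q. (The published statement asks Z^i(Q) =
B^i(Q) for every i ≥ 0; in degree 0, where there is no incoming differential, this makes Z^0(Q) = 0,
and then no complex with nonzero degree-0 cycles, for instance a nonzero object placed in degree 0,
embeds in such a Q, because the degree-0 component of a chain map into Q factors through Z^0(Q).
This row asks vanishing homology in positive degrees only; the published construction, which embeds
each A^i in an injective I^i and takes Q^i = I^i ⊕ I^{i+1}, proves that version once an injective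
I^0 containing A^0 is used in degree 0 as well.) -/
theorem result {C : Type u} [Category.{v} C] [Abelian C]
    [EnoughInjectives C] (A : CochainComplex C ℕ) :
    ∃ (Q : CochainComplex C ℕ) (f : A ⟶ Q), Mono f ∧ (∀ i : ℕ, Injective (Q.X i)) ∧
      (∀ i : ℕ, IsZero (Q.homology (i + 1))) ∧ ∀ i : ℕ, IsSplitMono (Q.iCycles i) := by
  let J : ℕ → C := fun n => Injective.under (A.X n)
  let u : ∀ n, A.X n ⟶ J n := fun n => Injective.ι (A.X n)
  let d : ∀ n, (J n ⊞ J (n + 1)) ⟶ (J (n + 1) ⊞ J (n + 1 + 1)) := fun n => biprod.snd ≫ biprod.inl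
  let Q : CochainComplex C ℕ := CochainComplex.of (fun n => J n ⊞ J (n + 1)) d
    (fun n => by simp [d])
  have hQd : ∀ n, Q.d n (n + 1) = d n := fun n => by simp [Q]
  let F : ∀ n, A.X n ⟶ J n ⊞ J (n + 1) := fun n => biprod.lift (u n) (A.d n (n + 1) ≫ u (n + 1))
  let f : A ⟶ Q :=
    { f := F
      comm' := fun i j hij => by
        obtain rfl : i + 1 = j := hij
        rw [hQd]
        change biprod.lift _ _ ≫ biprod.snd ≫ biprod.inl = A.d i (i + 1) ≫ biprod.lift _ _
        apply biprod.hom_ext <;> simp }
  haveI : ∀ n, Mono (F n) := fun n => mono_of_mono_fac (biprod.lift_fst (u n) _)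
  refine ⟨Q, f, HomologicalComplex.mono_of_mono_f f (fun n => inferInstanceAs (Mono (F n))),
    fun i => inferInstanceAs (Injective (J i ⊞ J (i + 1))), fun i => ?_, fun i => ?_⟩
  · rw [← HomologicalComplex.exactAt_iff_isZero_homology,
      HomologicalComplex.exactAt_iff' Q i (i + 1) (i + 1 + 1) (by simp) (by simp),
      ShortComplex.exact_iff_exact_up_to_refinements]
    intro T z hz
    have key : ∀ z : T ⟶ J (i + 1) ⊞ J (i + 1 + 1), z ≫ d (i + 1) = 0 →
        z = (z ≫ biprod.fst ≫ biprod.inr) ≫ d i := by
      intro z hz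
      have := congrArg (· ≫ (biprod.fst : J (i + 1 + 1) ⊞ J (i + 1 + 1 + 1) ⟶ _)) hz
      simp [d] at this
      apply biprod.hom_ext <;> simp [d, this]
    refine ⟨T, 𝟙 T, inferInstance,
      (show T ⟶ J (i + 1) ⊞ J (i + 1 + 1) from z) ≫ biprod.fst ≫ biprod.inr, ?_⟩
    refine (Category.id_comp _).trans ?_
    refine (key z ((congrArg (fun t => z ≫ t) (hQd (i + 1))).symm.trans hz)).trans ?_
    exact congrArg (fun t => (_ : T ⟶ Q.X i) ≫ t) (hQd i).symm
  · have hz : ((biprod.fst ≫ biprod.inl : (J i ⊞ J (i + 1)) ⟶ (J i ⊞ J (i + 1))) : Q.X i ⟶ Q.X i) ≫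
        Q.d i (i + 1) = 0 := by
      rw [hQd]
      exact (Category.assoc _ _ _).trans ((congrArg (biprod.fst ≫ ·) (biprod.inl_snd_assoc _)).trans
        (by simp))
    refine IsSplitMono.mk' ⟨Q.liftCycles _ (i + 1) (by simp) hz, ?_⟩
    rw [← cancel_mono (Q.iCycles i), Category.assoc, HomologicalComplex.liftCycles_i,
      Category.id_comp]
    have h := Q.iCycles_d i (i + 1)
    rw [hQd] at h
    have key : ∀ (T : C) (x : T ⟶ J i ⊞ J (i + 1)), x ≫ d i = 0 → x ≫ biprod.fst ≫ biprod.inl = x := by
      intro T x hx
      have := congrArg (· ≫ (biprod.fst : J (i + 1) ⊞ J (i + 1 + 1) ⟶ _)) hx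
      simp [d] at this
      apply biprod.hom_ext <;> simp [this]
    exact key _ _ h

end Groth.Agent.S8349
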