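import Groth.Statements.S8351
import Groth.Agent.AbSiteDerLib.KInjPresheaf
import Groth.Agent.DerLib.LerayAcyclic
-- import your own Groth.Agent.* helpers here

set_option autoImplicit false
set_option backward.isDefEq.respectTransparency false
set_option backward.isDefEq.respectTransparency.types false
universe u
open CategoryTheory CategoryTheory.Limits TopologicalSpace
open CohCx

namespace Groth.Agent.S8351

/-- For abelian sheaves on topological spaces and a complex bounded below. Let f : X ⟶ Y be a continuous
map and K a bounded below complex of abelian sheaves on X. For every p, the p-th cohomology sheaf of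
the derived direct image R f_*(K) (bounded below right derived functor of f_*, computed with
injective resolutions) is isomorphic to the sheaf associated with the presheaf U ↦ H^p(f⁻¹(U), K) on
Y, where H^p(V, K) denotes hypercohomology (morphisms from the free abelian sheaf on V to K[p] in
the derived category). (The published statement is for modules over arbitrary ringed spaces,
complexes unbounded via Cartan-Eilenberg resolutions, and a canonical isomorphism; here only the
existence of an isomorphism is asserted, and the derived categories are assumed to exist with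
morphism types in the universe of X and Y.) -/
theorem result {X Y : TopCat.{u}} (f : X ⟶ Y)
    [HasDerivedCategory.{u} (CohTop.Ab X)] [HasDerivedCategory.{u} (CohTop.Ab Y)]
    (K : CochainComplex.Plus (CohTop.Ab X)) (p : ℤ) :
    Nonempty ((DerivedCategory.Plus.homologyFunctor (CohTop.Ab Y) p).obj
        ((CohTop.push f).rightDerivedFunctorPlus.obj
          (DerivedCategory.Plus.Qh.obj ((HomotopyCategory.Plus.quotient (CohTop.Ab X)).obj K))) ≅
      (presheafToSheaf (Opens.grothendieckTopology Y) AddCommGrpCat.{u}).obj
        ((Opens.map f).op ⋙ CohCx.HDUPresheaf (DerivedCategory.Q.obj K.obj) p)) := by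
  let J := Opens.grothendieckTopology X
  let J' := Opens.grothendieckTopology Y
  let P := CohTop.push f
  obtain ⟨a, ha⟩ := K.property
  obtain ⟨L, i, _, _, _⟩ := CochainComplex.Plus.modelCategoryQuillen.exists_quasiIso_injective K.obj a
  haveI : L.IsKInjective := CochainComplex.isKInjective_of_injective L a
  let L' : CochainComplex (InjectiveObject (CohTop.Ab X)) ℤ :=
    HomologicalComplex.liftObjectProperty _ L inferInstance
  have hL' : L'.IsStrictlyGE a := by
    rw [← CochainComplex.isStrictlyGE_mapHomologicalComplex_obj_iff _ (InjectiveObject.ι _)]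
    assumption
  let LP : CochainComplex.Plus (InjectiveObject (CohTop.Ab X)) := ⟨L', a, hL'⟩
  let M := (InjectiveObject.ι (CohTop.Ab X)).mapCochainComplexPlus.obj LP
  let g := (HomotopyCategory.Plus.quotient (CohTop.Ab X)).map (ObjectProperty.homMk i : K ⟶ M)
  have hg : HomotopyCategory.Plus.quasiIso (CohTop.Ab X) g :=
    (HomotopyCategory.quotient_map_mem_quasiIso_iff i).2 ((HomologicalComplex.mem_quasiIso_iff _).2 ‹_›)
  haveI : IsIso (DerivedCategory.Plus.Qh.map g) :=
    Localization.inverts DerivedCategory.Plus.Qh (HomotopyCategory.Plus.quasiIso (CohTop.Ab X)) g hg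
  haveI : IsIso (P.rightDerivedFunctorPlusUnit.app ((HomotopyCategory.Plus.quotient _).obj M)) := inferInstanceAs
    (IsIso (P.rightDerivedFunctorPlusUnit.app
      ((HomotopyCategory.Plus.quotient _).obj ((InjectiveObject.ι (CohTop.Ab X)).mapCochainComplexPlus.obj LP))))
  let e₁ : DerivedCategory.Plus.Qh.obj (P.mapHomotopyCategoryPlus.obj ((HomotopyCategory.Plus.quotient _).obj M)) ≅
      P.rightDerivedFunctorPlus.obj (DerivedCategory.Plus.Qh.obj ((HomotopyCategory.Plus.quotient _).obj K)) :=
    asIso (P.rightDerivedFunctorPlusUnit.app ((HomotopyCategory.Plus.quotient _).obj M)) ≪≫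
      P.rightDerivedFunctorPlus.mapIso (asIso (DerivedCategory.Plus.Qh.map g)).symm
  let L₁ := (P.mapHomologicalComplex (ComplexShape.up ℤ)).obj L
  let eA : (DerivedCategory.Plus.homologyFunctor (CohTop.Ab Y) p).obj (P.rightDerivedFunctorPlus.obj
      (DerivedCategory.Plus.Qh.obj ((HomotopyCategory.Plus.quotient _).obj K))) ≅ L₁.homology p :=
    (DerivedCategory.homologyFunctor (CohTop.Ab Y) p).mapIso (DerivedCategory.Plus.ι.mapIso e₁.symm ≪≫
      (DerivedCategory.quotientCompQhIso (CohTop.Ab Y)).app L₁) ≪≫
      (DerivedCategory.homologyFunctorFactors (CohTop.Ab Y) p).app L₁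
  obtain ⟨eB⟩ := Groth.Agent.AbSiteDerLib.nonempty_sheafify_hpsh_iso (J := J') L₁ p
  let W := (Functor.whiskeringLeft (Opens Y)ᵒᵖ (Opens X)ᵒᵖ AddCommGrpCat.{u}).obj (Opens.map f).op
  let eC : Groth.Agent.AbSiteDerLib.hpsh (J := J') L₁ p ≅ W.obj (Groth.Agent.AbSiteDerLib.hpsh (J := J) L p) :=
    ((Groth.Agent.AbSiteDerLib.secComplex (J := J) L).sc p).mapHomologyIso W
  let eK : DerivedCategory.Q.obj K.obj ≅ DerivedCategory.Q.obj L := asIso (DerivedCategory.Q.map i)
  let eD : CohCx.HDUPresheaf (DerivedCategory.Q.obj L) p ≅ CohCx.HDUPresheaf (DerivedCategory.Q.obj K.obj) p :=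
    Functor.isoWhiskerLeft _ (preadditiveYoneda.mapIso ((shiftFunctor _ p).mapIso eK.symm))
  exact ⟨eA ≪≫ eB.symm ≪≫ (presheafToSheaf J' AddCommGrpCat.{u}).mapIso (eC ≪≫
    W.mapIso (Groth.Agent.AbSiteDerLib.hduPresheafIso L p ≪≫ eD))⟩


end Groth.Agent.S8351
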