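import Groth.Statements.S8353
import Mathlib.RingTheory.AdicCompletion.Basic
import Mathlib.RingTheory.Noetherian.Basic
import Mathlib.RingTheory.Finiteness.Ideal
import Mathlib.Data.Int.Interval
-- import your own Groth.Agent.* helpers here

set_option autoImplicit false
set_option linter.style.haveILetI false
universe u
open HomAlg3

namespace Groth.Agent.S8353

/-- Let S be a Noetherian ring which is separated and complete for the adic topology of an ideal J, and
let M be an S-module with a decreasing filtration (F^p M)_{p ∈ ℤ} by submodules such that F^p M = M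
for some p, J·F^p M ⊆ F^{p+1} M for all p, and ⋂_p F^p M = 0. Then the following are equivalent: (a)
M is a finitely generated S-module and J·F^p M = F^{p+1} M for all large p; (c) every F^p M /
F^{p+1} M is a finitely generated S-module and, for all large p, the map J ⊗ (F^p M/F^{p+1} M) ⟶
F^{p+1} M/F^{p+2} M is surjective, that is F^{p+1} M = J·F^p M + F^{p+2} M. (The published statement
also lists a third equivalent condition, finite generation of the associated graded module over the
associated graded ring; this row states the equivalence of the other two.) -/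
theorem result {S : Type u} [CommRing S] [IsNoetherianRing S]
    (J : Ideal S) [IsAdicComplete J S] {M : Type u} [AddCommGroup M] [Module S M]
    (F : ℤ → Submodule S M) (hF : Antitone F) (hcod : ∃ p₀ : ℤ, F p₀ = ⊤)
    (hJ : ∀ p : ℤ, J • F p ≤ F (p + 1)) (hsep : ⨅ p : ℤ, F p = ⊥) :
    (Module.Finite S M ∧ ∃ p₁ : ℤ, ∀ p : ℤ, p₁ ≤ p → J • F p = F (p + 1)) ↔
      ((∀ p : ℤ, (Submodule.map (F (p + 1)).mkQ (F p)).FG) ∧
        ∃ p₁ : ℤ, ∀ p : ℤ, p₁ ≤ p → F (p + 1) = J • F p ⊔ F (p + 2)) := by
  classical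
  obtain ⟨p₀, hp₀⟩ := hcod
  have htop : ∀ p ≤ p₀, F p = ⊤ := fun p hp => top_le_iff.1 (hp₀ ▸ hF hp)
  have hpow : ∀ (k : ℕ) (p : ℤ), J ^ k • F p ≤ F (p + k) := by
    intro k
    induction k with
    | zero => intro p; simp
    | succ k ih =>
      intro p
      rw [pow_succ', mul_smul]
      refine (Submodule.smul_mono le_rfl (ih p)).trans ((hJ _).trans (le_of_eq ?_))
      congr 1
      push_cast
      ring
  constructor
  · rintro ⟨hfin, p₁, h⟩
    haveI := hfin
    haveI : IsNoetherian S M := isNoetherian_of_isNoetherianRing_of_finite S M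
    refine ⟨fun p => (IsNoetherian.noetherian (F p)).map _, p₁, fun p hp => le_antisymm ?_ ?_⟩
    · rw [← h p hp]; exact le_sup_left
    · exact sup_le (hJ p) (hF (by omega))
  rintro ⟨hfg, p₁', hc'⟩
  set p₁ := max p₁' p₀ with hp₁
  have hc : ∀ p, p₁ ≤ p → F (p + 1) = J • F p ⊔ F (p + 2) := fun p hp =>
    hc' p ((le_max_left _ _).trans hp)
  -- finitely many generators
  have hgen : ∀ p, ∃ G : Finset M, (↑G : Set M) ⊆ F p ∧
      F p ≤ Submodule.span S (↑G : Set M) ⊔ F (p + 1) := by
    intro p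
    obtain ⟨T, hT⟩ := hfg p
    have : ∀ t ∈ T, ∃ m ∈ F p, (F (p + 1)).mkQ m = t := fun t ht =>
      Submodule.mem_map.1 (hT ▸ Submodule.subset_span ht)
    choose f hf hf' using this
    refine ⟨T.attach.image fun t => f t.1 t.2, ?_, ?_⟩
    · intro m hm
      simp only [Finset.coe_image, Set.mem_image] at hm
      obtain ⟨t, -, rfl⟩ := hm
      exact hf _ _
    · intro m hm
      have h1 : (F (p + 1)).mkQ m ∈ Submodule.span S (T : Set (M ⧸ F (p + 1))) := by
        rw [hT]; exact Submodule.mem_map_of_mem hm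
      have h2 : Submodule.span S (T : Set (M ⧸ F (p + 1))) ≤ Submodule.map (F (p + 1)).mkQ
          (Submodule.span S (↑(T.attach.image fun t => f t.1 t.2) : Set M)) := by
        rw [Submodule.span_le]
        intro t ht
        exact ⟨f t ht, Submodule.subset_span (Finset.mem_coe.2 (Finset.mem_image.2
          ⟨⟨t, ht⟩, Finset.mem_attach _ _, rfl⟩)), hf' _ _⟩
      obtain ⟨y, hy, hy'⟩ := h2 h1
      refine Submodule.mem_sup.2 ⟨y, hy, m - y, ?_, add_sub_cancel _ _⟩
      rw [← Submodule.ker_mkQ (F (p + 1)), LinearMap.mem_ker, map_sub, hy', sub_self]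
  choose G hG hG' using hgen
  let ι := Σ d : ↑(Finset.Icc p₀ p₁), ↑(G d.1)
  let deg : ι → ℤ := fun i => i.1.1
  let g : ι → M := fun i => i.2.1
  have hdeg : ∀ i, p₀ ≤ deg i ∧ deg i ≤ p₁ := fun i => Finset.mem_Icc.1 i.1.2
  have hgF : ∀ i, g i ∈ F (deg i) := fun i => hG _ i.2.2
  have hsum : ∀ (a : ι → S) (q : ℤ), (∀ i, a i ∈ J ^ (q - deg i).toNat) →
      ∑ i, a i • g i ∈ F q := fun a q ha => Submodule.sum_mem _ fun i _ =>
    hF (by omega) (hpow _ _ (Submodule.smul_mem_smul (ha i) (hgF i)))
  -- representing an element of `J^k • span (G d)`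
  have hrep : ∀ (k : ℕ) (d : ℤ) (hd : d ∈ Finset.Icc p₀ p₁) (x : M),
      x ∈ J ^ k • Submodule.span S (↑(G d) : Set M) →
      ∃ a : ι → S, (∀ i, a i ∈ J ^ k ∧ (deg i ≠ d → a i = 0)) ∧ x = ∑ i, a i • g i := by
    intro k d hd x hx
    refine Submodule.smul_induction_on hx (fun r hr n hn => ?_) ?_
    · have key : ∀ n, n ∈ Submodule.span S (↑(G d) : Set M) →
          ∃ a : ι → S, (∀ i, deg i ≠ d → a i = 0) ∧ n = ∑ i, a i • g i := by
        intro n hn
        induction hn using Submodule.span_induction with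
        | zero => exact ⟨0, fun _ _ => rfl, by simp⟩
        | add u v _ _ hu hv =>
          obtain ⟨a, ha, rfl⟩ := hu
          obtain ⟨b, hb, rfl⟩ := hv
          exact ⟨a + b, fun i hi => by simp [ha i hi, hb i hi], by
            simp [add_smul, Finset.sum_add_distrib]⟩
        | smul s u _ hu =>
          obtain ⟨a, ha, rfl⟩ := hu
          exact ⟨s • a, fun i hi => by simp [ha i hi], by simp [Finset.smul_sum, mul_smul]⟩
        | mem u hu =>
          let i₀ : ι := ⟨⟨d, hd⟩, ⟨u, hu⟩⟩
          refine ⟨fun i => if i = i₀ then 1 else 0, fun i hi => if_neg fun h => hi (by rw [h]),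
            ?_⟩
          symm
          refine (Finset.sum_eq_single i₀ (fun b _ hb => by simp [hb]) (by simp)).trans ?_
          simp [g, i₀]
      obtain ⟨a, ha, rfl⟩ := key n hn
      exact ⟨fun i => r * a i, fun i => ⟨Ideal.mul_mem_right _ _ hr, fun hi => by simp [ha i hi]⟩,
        by simp [Finset.smul_sum, mul_smul]⟩
    · rintro u v ⟨a, ha, rfl⟩ ⟨b, hb, rfl⟩
      exact ⟨a + b, fun i => ⟨Ideal.add_mem _ (ha i).1 (hb i).1,
        fun hi => by simp [(ha i).2 hi, (hb i).2 hi]⟩, by simp [add_smul, Finset.sum_add_distrib]⟩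
  have hstep : ∀ q, p₀ ≤ q → ∀ m ∈ F q, ∃ a : ι → S, (∀ i, a i ∈ J ^ (q - deg i).toNat) ∧
      m - ∑ i, a i • g i ∈ F (q + 1) := by
    intro q hq m hm
    rcases le_or_gt q p₁ with hq' | hq'
    · obtain ⟨y, hy, z, hz, rfl⟩ := Submodule.mem_sup.1 (hG' q hm)
      obtain ⟨a, ha, rfl⟩ := hrep 0 q (Finset.mem_Icc.2 ⟨hq, hq'⟩) y
        (by rw [pow_zero, Ideal.one_eq_top, Submodule.top_smul]; exact hy)
      refine ⟨a, fun i => ?_, by simpa using hz⟩
      by_cases h : deg i = q
      · simp [h]
      · simp [(ha i).2 h]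
    · have hk : ∀ k : ℕ, F (p₁ + k + 1) ≤ J ^ (k + 1) • F p₁ ⊔ F (p₁ + k + 2) := by
        intro k
        induction k with
        | zero => simp only [Nat.cast_zero, add_zero, zero_add, pow_one]; exact (hc p₁ le_rfl).le
        | succ k ih =>
          rw [show p₁ + ((k + 1 : ℕ) : ℤ) + 1 = p₁ + k + 2 by push_cast; ring,
            show p₁ + ((k + 1 : ℕ) : ℤ) + 2 = p₁ + k + 1 + 2 by push_cast; ring]
          have h1 := hc (p₁ + k + 1) (by omega)
          rw [show p₁ + (k : ℤ) + 1 + 1 = p₁ + k + 2 by ring] at h1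
          rw [h1]
          refine sup_le ((Submodule.smul_mono le_rfl ih).trans ?_) le_sup_right
          rw [Submodule.smul_sup, ← mul_smul, ← pow_succ']
          refine sup_le_sup le_rfl ((hJ _).trans (le_of_eq ?_))
          congr 1
          ring
      obtain ⟨k, rfl⟩ : ∃ k : ℕ, q = p₁ + k + 1 := ⟨(q - p₁ - 1).toNat, by omega⟩
      obtain ⟨y, hy, z, hz, rfl⟩ := Submodule.mem_sup.1 (hk k hm)
      have hy' : y ∈ J ^ (k + 1) • Submodule.span S (↑(G p₁) : Set M) ⊔ F (p₁ + k + 2) := by
        have h2 := Submodule.smul_mono (le_refl (J ^ (k + 1))) (hG' p₁) hy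
        rw [Submodule.smul_sup] at h2
        exact sup_le_sup le_rfl ((hpow _ _).trans (hF (by push_cast; omega))) h2
      obtain ⟨y₁, hy₁, y₂, hy₂, rfl⟩ := Submodule.mem_sup.1 hy'
      obtain ⟨a, ha, rfl⟩ := hrep (k + 1) p₁ (Finset.mem_Icc.2 ⟨by omega, le_rfl⟩) y₁ hy₁
      refine ⟨a, fun i => ?_, ?_⟩
      · by_cases h : deg i = p₁
        · rw [show (p₁ + (k : ℤ) + 1 - deg i).toNat = k + 1 by omega]
          exact (ha i).1
        · simp [(ha i).2 h]
      · rw [show p₁ + (k : ℤ) + 1 + 1 = p₁ + k + 2 by ring, add_assoc (Finset.sum _ _),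
          add_sub_cancel_left]
        exact add_mem hy₂ hz
  -- summing the successive approximations
  have key : ∀ q, p₀ ≤ q → ∀ m ∈ F q, ∃ L : ι → S, (∀ i, L i ∈ J ^ (q - deg i).toNat) ∧
      m = ∑ i, L i • g i := by
    intro q hq m hm
    choose a ha ha' using fun (n : ℕ) (r : F (q + n)) => hstep (q + n) (by omega) r.1 r.2
    let r : (n : ℕ) → F (q + n) := fun n => Nat.rec ⟨m, by simpa using hm⟩
      (fun n r => ⟨r.1 - ∑ i, a n r i • g i, by
        have h1 := ha' n r
        rw [show q + ((n + 1 : ℕ) : ℤ) = q + n + 1 by push_cast; ring]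
        exact h1⟩) n
    let s : ℕ → ι → S := fun n i => ∑ j ∈ Finset.range n, a j (r j) i
    have hrs : ∀ n, (r n).1 = m - ∑ i, s n i • g i := by
      intro n
      induction n with
      | zero => simp [s, r]
      | succ n ih =>
        show (r n).1 - ∑ i, a n (r n) i • g i = _
        rw [ih, sub_sub, ← Finset.sum_add_distrib]
        simp only [s, Finset.sum_range_succ, add_smul]
    let K := (p₁ - q).toNat
    have hcauchy : ∀ n n' : ℕ, n ≤ n' → ∀ i, s (n' + K) i - s (n + K) i ∈ J ^ n := by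
      intro n n' h i
      simp only [s, ← Finset.sum_Ico_eq_sub _ (show n + K ≤ n' + K by omega)]
      refine Submodule.sum_mem _ fun j hj => Ideal.pow_le_pow_right ?_ (ha j (r j) i)
      have := (Finset.mem_Ico.1 hj).1
      have := (hdeg i).2
      omega
    have hlim : ∀ i, ∃ L : S, ∀ n, s (n + K) i - L ∈ J ^ n := by
      intro i
      obtain ⟨L, hL⟩ := IsPrecomplete.prec (I := J) inferInstance (f := fun n => s (n + K) i)
        (fun {n n'} h => by
          rw [SModEq.sub_mem, smul_eq_mul, Ideal.mul_top, ← neg_mem_iff, neg_sub]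
          exact hcauchy n n' h i)
      refine ⟨L, fun n => ?_⟩
      have h1 := hL n
      rwa [SModEq.sub_mem, smul_eq_mul, Ideal.mul_top] at h1
    choose L hL using hlim
    refine ⟨L, fun i => ?_, ?_⟩
    · set N := (q - deg i).toNat
      have h1 : s (N + K) i ∈ J ^ N := Submodule.sum_mem _ fun j _ =>
        Ideal.pow_le_pow_right (by omega) (ha j (r j) i)
      simpa using Ideal.sub_mem _ h1 (hL i N)
    · rw [← sub_eq_zero, ← Submodule.mem_bot (R := S), ← hsep, Submodule.mem_iInf]
      intro j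
      set n := (j - p₀).toNat
      have h1 : m - ∑ i, L i • g i = (r (n + K)).1 + ∑ i, (s (n + K) i - L i) • g i := by
        rw [hrs]
        simp only [sub_smul, Finset.sum_sub_distrib]
        abel
      rw [h1]
      refine add_mem (hF (by omega) (r (n + K)).2) (Submodule.sum_mem _ fun i _ => ?_)
      refine hF (a := j) (b := p₀ + n) (by omega) (hpow n p₀ (Submodule.smul_mem_smul (hL i n) ?_))
      rw [hp₀]
      trivial
  constructor
  · refine ⟨Submodule.fg_def.2 ⟨Set.range g, Set.finite_range g, eq_top_iff.2 fun m _ => ?_⟩⟩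
    obtain ⟨L, -, rfl⟩ := key p₀ le_rfl m (by rw [hp₀]; trivial)
    exact Submodule.sum_mem _ fun i _ => Submodule.smul_mem _ _ (Submodule.subset_span ⟨i, rfl⟩)
  · refine ⟨p₁, fun p hp => le_antisymm (hJ p) fun m hm => ?_⟩
    obtain ⟨L, hL, rfl⟩ := key (p + 1) (by omega) m hm
    refine Submodule.sum_mem _ fun i _ => ?_
    have h1 := hL i
    have := (hdeg i).2
    rw [show (p + 1 - deg i).toNat = (p - deg i).toNat + 1 by omega, pow_succ'] at h1
    have h2 : L i • g i ∈ (J * J ^ (p - deg i).toNat) • F (deg i) :=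
      Submodule.smul_mem_smul h1 (hgF i)
    rw [mul_smul] at h2
    exact Submodule.smul_mono le_rfl ((hpow _ _).trans (hF (by omega))) h2

end Groth.Agent.S8353
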