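import Groth.Statements.S8359
import Groth.Agent.ConjAvgLib.Iso
import Groth.Prelude.Def_ActBC

set_option autoImplicit false
universe u
open CategoryTheory MonObj AlgebraicGeometry
open Red

namespace Groth.Agent.S8359

/-- Over an affine base S = Spec R with S₀ = Spec (R/I) for a nilpotent ideal I: for a commutative group
M, the diagonalisable group D(M) = Spec R[M] over S, a group scheme X locally of finite presentation
over S and a homomorphism f from D(M) to X, if the base change of f to S₀ is the unit homomorphism
then f is the unit homomorphism. (The published statement is over an arbitrary base scheme with S₀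
defined by a nilpotent quasi-coherent ideal; this row is its case of an affine base.) -/
theorem result (R : Type u) [CommRing R] (I : Ideal R) (hI : IsNilpotent I)
    (M : Type) [AddCommGroup M] (X : Over (Spec (CommRingCat.of R))) [GrpObj X]
    [LocallyOfFinitePresentation X.hom] (f : Red.diag R M ⟶ X) [IsMonHom f]
    (h : (Over.pullback (Spec.map (CommRingCat.ofHom (Ideal.Quotient.mk I)))).map f = 1) :
    f = 1 := by
  let j : Spec (CommRingCat.of (R ⧸ I)) ⟶ Spec (CommRingCat.of R) :=
    Spec.map (CommRingCat.ofHom (Ideal.Quotient.mk I))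
  have key : ∀ (Z : Over (Spec (CommRingCat.of R))) (g : Z ⟶ Red.diag R M) (q : Z.left ⟶ Spec (CommRingCat.of (R ⧸ I))),
      q ≫ j = Z.hom → g ≫ f = 1 := by
    intro Z g q hq
    let i : (Over.map j).obj (Over.mk q) ≅ Z := Over.isoMk (Iso.refl _) (by
      show 𝟙 _ ≫ Z.hom = q ≫ j
      rw [Category.id_comp, hq])
    rw [← cancel_epi i.hom, MonObj.comp_one]
    apply ((Over.mapPullbackAdj j).homEquiv (Over.mk q) X).injective
    have h1 : (Over.mapPullbackAdj j).homEquiv (Over.mk q) X 1 = 1 :=
      mul_eq_left.mp ((AlgGrp.Action.homEquiv_mul j 1 1).symm.trans (by rw [_root_.one_mul]))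
    rw [← Category.assoc, Adjunction.homEquiv_naturality_right, h1]
    show _ ≫ (Over.pullback j).map f = 1
    rw [h, MonObj.comp_one]
  let w : CoactBr.sp R (Groth.Agent.FreeAct.DA R M) ≅ Red.diag R M := Iso.refl _
  haveI : IsMonHom w.hom := inferInstanceAs (IsMonHom (𝟙 _))
  have h1 := @Groth.Agent.TrivNil.act_eq_snd_split R _ M _ (Red.diag R M) X _ w _
    (Groth.Agent.MultLift.transAction f) I hI (fun Z g x q hq => by
      rw [Groth.Agent.MultLift.lift_transAction, key Z g q hq, _root_.one_mul])
  have h2 := Groth.Agent.MultLift.lift_transAction f (𝟙 (Red.diag R M)) 1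
  rw [h1, CartesianMonoidalCategory.lift_snd, Category.id_comp, _root_.mul_one] at h2
  exact h2.symm

end Groth.Agent.S8359
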