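import Groth.Statements.S8361
import Groth.Agent.Sweep9Lib.LieAdd

set_option autoImplicit false
universe u
open CategoryTheory MonObj AlgebraicGeometry
open LieS

namespace Groth.Agent.S8361

/-- Uniqueness of the bracket: for a group scheme G over a scheme S and an affine S-scheme T = Spec B:
an element of Lie(G/S)(T) is determined by its pull-back along the coordinate-multiplying map from
the iterated dual numbers over T to the dual numbers over T; in particular the bracket of x and y,
the element whose pull-back is the commutator of x read in the second dual coordinate with y read in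
the first, is unique when it exists. -/
theorem result (S : Scheme.{u}) (G : Over S) [GrpObj G] (B : Type u) [CommRing B]
    (f : Spec (CommRingCat.of B) ⟶ S) (x y z z' : LieS.Lie G B f)
    (h : LieS.IsBracket G B f x y z) (h' : LieS.IsBracket G B f x y z') : z = z' := by
  have e : LieS.mulMap B f ≫ z.1 = LieS.mulMap B f ≫ z'.1 := h.trans h'.symm
  apply Subtype.ext
  ext1
  have key : ∀ c : DualNumber B, (LieS.mulHom B c).fst.fst = c.fst ∧
      (LieS.mulHom B c).snd.snd = c.snd := fun c => by
    constructor <;> simp [LieS.mulHom, TrivSqZeroExt.algebraMap_eq_inl']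
  have e' := congrArg Over.Hom.left e
  rw [Over.comp_left, Over.comp_left] at e'
  have hm : (LieS.mulMap B f).left = Spec.map (CommRingCat.ofHom (LieS.mulHom B)) := rfl
  refine Sweep9Lib.hom_ext_of_jointly_injective (C := CommRingCat.of (DualNumber B)) (D := fun _ => CommRingCat.of (LieS.D2 B))
    (fun _ : Unit => CommRingCat.ofHom (LieS.mulHom B)) ?_ ?_ z.1.left z'.1.left ?_
  · intro c hc
    have h0 : LieS.mulHom B c = 0 := hc ()
    have := key c
    rw [h0] at this
    exact TrivSqZeroExt.ext (by simpa using this.1.symm) (by simpa using this.2.symm)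
  · intro x
    refine ⟨(), ?_⟩
    let ff : LieS.D2 B →+* B := ((TrivSqZeroExt.fstHom B B B).toRingHom).comp
      (TrivSqZeroExt.fstHom (DualNumber B) (DualNumber B) (DualNumber B)).toRingHom
    refine ⟨PrimeSpectrum.comap ff (PrimeSpectrum.comap (algebraMap B (DualNumber B)) x), ?_⟩
    refine PrimeSpectrum.ext (Ideal.ext fun c => ?_)
    change algebraMap B (DualNumber B) (ff (LieS.mulHom B c)) ∈ x.1 ↔ c ∈ x.1
    rw [show ff (LieS.mulHom B c) = c.fst from (key c).1]
    have hr : TrivSqZeroExt.inr c.snd ∈ x.1 :=
      x.2.mem_of_pow_mem 2 (by rw [pow_two, TrivSqZeroExt.inr_mul_inr]; exact x.1.zero_mem)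
    rw [← Ideal.add_mem_iff_left (a := algebraMap B (DualNumber B) c.fst) _ hr,
      TrivSqZeroExt.algebraMap_eq_inl', Algebra.algebraMap_self, RingHom.id_apply,
      TrivSqZeroExt.inl_fst_add_inr_snd_eq]
  · intro _
    erw [hm] at e'
    exact e'

end Groth.Agent.S8361
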