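import Groth.Prelude
import Mathlib

universe u

open CategoryTheory CategoryTheory.Limits AlgebraicGeometry Opposite TopologicalSpace

namespace Groth.Agent.S8362Aux

theorem bijective_of_sub_mem {R A : Type u} [CommRing R] [CommRing A] (ρ : R →+* A) (J : Ideal R)
    (hJ : J * J = ⊥) (φ : A →+* A) (hρ : ∀ r, φ (ρ r) = ρ r)
    (h : ∀ a, φ a - a ∈ J.map ρ) : Function.Bijective φ := by
  set I := J.map ρ
  have hI : ∀ x ∈ I, ∀ y ∈ I, x * y = 0 := fun x hx y hy => by
    have := Ideal.mul_mem_mul hx hy
    rwa [← Ideal.map_mul, hJ, Ideal.map_bot, Ideal.mem_bot] at this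
  have hfix : ∀ x ∈ I, φ x = x := by
    intro x hx
    refine Submodule.span_induction (p := fun y _ => φ y = y) ?_ (map_zero _) ?_ ?_ hx
    · rintro y ⟨r, -, rfl⟩; exact hρ r
    · intro a b _ _ ha hb; rw [map_add, ha, hb]
    · intro a b hb hb'
      rw [smul_eq_mul, map_mul, hb']
      linear_combination hI _ (h a) b hb
  refine ⟨?_, fun a => ⟨a - (φ a - a), ?_⟩⟩
  · rw [injective_iff_map_eq_zero]
    intro a ha
    have : a ∈ I := by have := I.neg_mem (h a); rwa [ha, zero_sub, neg_neg] at this
    rwa [hfix a this] at ha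
  · rw [map_sub, hfix _ (h a)]; ring

end Groth.Agent.S8362Aux

namespace Groth.Agent.S8362

/-- Over an affine base S = Spec R with S₀ = Spec (R/J) for an ideal J of square zero: for an arbitrary
S-scheme X, every S-endomorphism of X inducing the identity on X ×_S S₀ is an automorphism. (The
published statement is over an arbitrary base scheme with a quasi-coherent ideal of square zero;
this row is its case of an affine base, to which it reduces since being an isomorphism is local on
the base.) -/
theorem result (R : Type u) [CommRing R] (J : Ideal R) (hJ : J * J = ⊥)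
    (X : Over (Spec (CommRingCat.of R))) (u : X ⟶ X)
    (h : (Over.pullback (Spec.map (CommRingCat.ofHom (Ideal.Quotient.mk J)))).map u = 𝟙 _) :
    IsIso u := by
  set g := Spec.map (CommRingCat.ofHom (Ideal.Quotient.mk J)) with hg
  have hfst : pullback.fst X.hom g ≫ u.left = pullback.fst X.hom g := by
    have := congrArg (fun q => q.left ≫ pullback.fst X.hom g) h
    dsimp at this
    erw [pullback.lift_fst, Category.id_comp] at this
    exact this
  haveI : Surjective g := by
    constructor
    intro x
    obtain ⟨y, hy⟩ : x ∈ Set.range (PrimeSpectrum.comap (Ideal.Quotient.mk J)) := by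
      rw [range_comap_of_surjective (R := R) (S := R ⧸ J) _ Ideal.Quotient.mk_surjective,
        Ideal.mk_ker]
      refine (PrimeSpectrum.mem_zeroLocus _ _).mpr ?_
      intro r hr
      have : r * r = 0 := by
        have := Ideal.mul_mem_mul hr hr; rwa [hJ, Ideal.mem_bot] at this
      exact x.isPrime.mem_of_pow_mem 2 (by rw [pow_two, this]; exact zero_mem _)
    exact ⟨y, hy⟩
  have hbase : ∀ x, u.left.base x = x := by
    intro x
    obtain ⟨y, rfl⟩ := (pullback.fst X.hom g).surjective x
    conv_rhs => rw [← hfst]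
    rfl
  have key : ∀ U : X.left.Opens, IsAffineOpen U → IsIso (u.left.app U) := by
    intro U hU
    have hpre : u.left ⁻¹ᵁ U = U := by
      ext x; show u.left.base x ∈ U ↔ _; rw [hbase]; rfl
    set φ := u.left.appLE U U hpre.ge with hφ
    set ρ := Spec.preimage (hU.fromSpec ≫ X.hom) with hρ
    have hSρ : Spec.map ρ = hU.fromSpec ≫ X.hom := Spec.map_preimage _
    have hSφ : Spec.map φ ≫ hU.fromSpec = hU.fromSpec ≫ u.left :=
      hU.SpecMap_appLE_fromSpec u.left hU hpre.ge
    have h1 : ρ ≫ φ = ρ := Spec.map_injective <| by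
      rw [Spec.map_comp, hSρ, ← Category.assoc, hSφ, Category.assoc, Over.w u]
    let I : Ideal Γ(X.left, U) := J.map ρ.hom
    let q : R ⧸ J →+* Γ(X.left, U) ⧸ I :=
      Ideal.quotientMap I ρ.hom Ideal.le_comap_map
    have hcomm : (Spec.map (CommRingCat.ofHom (Ideal.Quotient.mk I)) ≫ hU.fromSpec) ≫ X.hom
        = Spec.map (CommRingCat.ofHom q) ≫ g := by
      rw [Category.assoc, ← hSρ, hg, ← Spec.map_comp, ← Spec.map_comp]
      congr 1
    have h2 : φ ≫ CommRingCat.ofHom (Ideal.Quotient.mk I) =
        CommRingCat.ofHom (Ideal.Quotient.mk I) := Spec.map_injective <| by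
      rw [Spec.map_comp, ← cancel_mono hU.fromSpec, Category.assoc, hSφ]
      have := congrArg (fun q' => pullback.lift _ _ hcomm ≫ q') hfst
      erw [pullback.lift_fst_assoc, pullback.lift_fst] at this
      simpa using this
    have hbij : Function.Bijective φ.hom :=
      S8362Aux.bijective_of_sub_mem ρ.hom J hJ φ.hom
        (fun r => ConcreteCategory.congr_hom h1 r)
        (fun a => (Ideal.Quotient.mk_eq_mk_iff_sub_mem _ _).mp (ConcreteCategory.congr_hom h2 a))
    haveI : IsIso φ := (ConcreteCategory.isIso_iff_bijective φ).mpr hbij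
    have hfac : u.left.app U ≫ X.left.presheaf.map (homOfLE hpre.ge).op = φ := rfl
    haveI : IsIso (X.left.presheaf.map (homOfLE hpre.ge).op) := by
      rw [show (homOfLE hpre.ge).op = (eqToHom hpre.symm).op from rfl]; infer_instance
    exact IsIso.of_isIso_fac_right hfac
  haveI : IsIso u.left := by
    suffices h : MorphismProperty.isomorphisms Scheme u.left from h
    rw [HasAffineProperty.iff_of_iSup_eq_top (P := MorphismProperty.isomorphisms Scheme)
      (fun U : X.left.affineOpens => U) (iSup_affineOpens_eq_top X.left)]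
    intro U
    have hpre : u.left ⁻¹ᵁ U.1 = U.1 := by
      ext x; show u.left.base x ∈ U.1 ↔ _; rw [hbase]; rfl
    refine ⟨show IsAffineOpen (u.left ⁻¹ᵁ U.1) from hpre.symm ▸ U.2, ?_⟩
    have e : U.1.ι ''ᵁ ⊤ = U.1 := Scheme.Opens.ι_image_top _
    have h5 : IsIso (u.left.app (U.1.ι ''ᵁ ⊤)) := by rw [e]; exact key U.1 U.2
    rw [Scheme.Hom.appTop, morphismRestrict_app]
    refine IsIso.comp_isIso' h5 ?_
    rw [eqToHom_op]
    erw [eqToHom_map]
    generalize_proofs h6
    exact Iso.isIso_hom (eqToIso (by assumption))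
  haveI : IsIso ((Over.forget _).map u) := ‹IsIso u.left›
  exact isIso_of_reflects_iso u (Over.forget _)

end Groth.Agent.S8362
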