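import Groth.Statements.S8365
import Groth.Agent.Sweep9Lib.LieAdd

set_option autoImplicit false
universe u
open CategoryTheory MonObj AlgebraicGeometry
open LieS

namespace Groth.Agent.S8365

/-- For a monoid scheme X over a scheme S (an associative unital monoid object in S-schemes) and an
affine S-scheme T = Spec B, a point of X with values in the dual numbers over T is invertible if and
only if its restriction along the zero section ε = 0 is invertible in X(T); in particular every such
point restricting to the unit section is invertible. (The published statement is for monoid-valued
functors satisfying a tangent-space exactness condition, which every representable functor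
satisfies, and its special case where the restriction is the unit section allows unital composition
laws that need not be associative; this row treats monoid schemes only.) -/
theorem result (S : Scheme.{u}) (X : Over S) [MonObj X] (B : Type u) [CommRing B]
    (f : Spec (CommRingCat.of B) ⟶ S) (v : LieS.dpt B f ⟶ X) :
    IsUnit v ↔ IsUnit (LieS.zeroSec B f ≫ v) := by
  constructor
  · intro h
    exact h.map (({ toFun := fun w => LieS.zeroSec B f ≫ w
                    map_one' := MonObj.comp_one _
                    map_mul' := MonObj.comp_mul _ } : (LieS.dpt B f ⟶ X) →* (LieS.pt B f ⟶ X)))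
  · rintro ⟨a, ha⟩
    let P : (LieS.pt B f ⟶ X) →* (LieS.dpt B f ⟶ X) :=
      { toFun := fun w => LieS.proj B f ≫ w
        map_one' := MonObj.comp_one _
        map_mul' := MonObj.comp_mul _ }
    have hz : ∀ w, LieS.zeroSec B f ≫ P w = w := fun w => by
      change LieS.zeroSec B f ≫ LieS.proj B f ≫ w = w
      rw [← Category.assoc, LieS.zeroSec_proj, Category.id_comp]
    have h1 : LieS.zeroSec B f ≫ (v * P ↑a⁻¹) = 1 := by
      rw [MonObj.comp_mul, hz, ← ha, Units.mul_inv]
    have h2 := Sweep9Lib.isUnit_of_zeroSec_eq_one f h1
    have h3 : v = (v * P ↑a⁻¹) * P ↑a := by
      rw [_root_.mul_assoc, ← map_mul, Units.inv_mul, map_one, _root_.mul_one]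
    rw [h3]
    exact h2.mul (a.isUnit.map P)

end Groth.Agent.S8365
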