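import Groth.Statements.S8366
import Groth.Agent.FlatNilIsoLib.Basic
-- import your own Groth.Agent.* helpers here

set_option autoImplicit false
set_option backward.isDefEq.respectTransparency false
universe u
open CategoryTheory MonoidalCategory MonObj AlgebraicGeometry
open SGA3

namespace Groth.Agent.S8366

open CartesianMonoidalCategory GrpObj CategoryTheory.Limits

attribute [-instance] CategoryTheory.Hom.commGroup

/-- Over an affine base S = Spec R with S₀ = Spec (R/I) for a nilpotent ideal I: let X be an S-scheme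
which is flat and either quasi-compact or locally of finite presentation over S, and P : X ×_S X → X
a composition law. If P is associative and its base change to S₀ is the multiplication of some
group-scheme structure on X ×_S S₀, then P is the multiplication of a group-scheme structure on X.
(The published statement is over an arbitrary base scheme with S₀ defined by a nilpotent
quasi-coherent ideal; this row is its case of an affine base.) -/
theorem result (R : Type u) [CommRing R] (I : Ideal R)
    (hI : IsNilpotent I) (X : Over (Spec (CommRingCat.of R))) [Flat X.hom]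
    (hX : QuasiCompact X.hom ∨ LocallyOfFinitePresentation X.hom) (P : X ⊗ X ⟶ X)
    (hassoc : (P ▷ X) ≫ P = (α_ X X X).hom ≫ (X ◁ P) ≫ P)
    (h0 : ∃ _ : GrpObj ((Over.pullback (Spec.map (CommRingCat.ofHom (Ideal.Quotient.mk I)))).obj X),
      μ[(Over.pullback (Spec.map (CommRingCat.ofHom (Ideal.Quotient.mk I)))).obj X] =
        Functor.LaxMonoidal.μ (Over.pullback (Spec.map (CommRingCat.ofHom (Ideal.Quotient.mk I)))) X X ≫ (Over.pullback (Spec.map (CommRingCat.ofHom (Ideal.Quotient.mk I)))).map P) :
    ∃ _ : GrpObj X, μ[X] = P := by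
  classical
  obtain ⟨grp₀, hμ⟩ := h0
  let j := Spec.map (CommRingCat.ofHom (Ideal.Quotient.mk I))
  let F := Over.pullback j
  let G := F.obj X
  haveI : Flat (X ⊗ X).hom := inferInstanceAs (Flat (pullback.fst X.hom X.hom ≫ X.hom))
  -- the two shears
  let sR : X ⊗ X ⟶ X ⊗ X := lift P (snd X X)
  let sL : X ⊗ X ⟶ X ⊗ X := lift P (fst X X)
  let tR : G ⊗ G ⟶ G ⊗ G := lift μ[G] (snd G G)
  let tL : G ⊗ G ⟶ G ⊗ G := lift μ[G] (fst G G)
  haveI : IsIso tR := ⟨lift (fst G G * (snd G G)⁻¹) (snd G G), by
    apply CartesianMonoidalCategory.hom_ext <;> simp [tR, MonObj.mul_eq_mul, MonObj.comp_mul, GrpObj.comp_inv, _root_.mul_assoc], by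
    apply CartesianMonoidalCategory.hom_ext <;> simp [tR, MonObj.mul_eq_mul, MonObj.comp_mul, GrpObj.comp_inv, _root_.mul_assoc]⟩
  haveI : IsIso tL := ⟨lift (snd G G) ((snd G G)⁻¹ * fst G G), by
    apply CartesianMonoidalCategory.hom_ext <;> simp [tL, MonObj.mul_eq_mul, MonObj.comp_mul, GrpObj.comp_inv, _root_.mul_assoc], by
    apply CartesianMonoidalCategory.hom_ext <;> simp [tL, MonObj.mul_eq_mul, MonObj.comp_mul, GrpObj.comp_inv, _root_.mul_assoc]⟩
  have hR : Functor.LaxMonoidal.μ F X X ≫ F.map sR = tR ≫ Functor.LaxMonoidal.μ F X X := by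
    rw [← Functor.Monoidal.lift_μ, ← Category.assoc, comp_lift, Functor.Monoidal.μ_snd, ← hμ]
  have hL : Functor.LaxMonoidal.μ F X X ≫ F.map sL = tL ≫ Functor.LaxMonoidal.μ F X X := by
    rw [← Functor.Monoidal.lift_μ, ← Category.assoc, comp_lift, Functor.Monoidal.μ_fst, ← hμ]
  haveI : IsIso (F.map sR) := by
    haveI : IsIso (Functor.LaxMonoidal.μ F X X ≫ F.map sR) := by rw [hR]; infer_instance
    exact IsIso.of_isIso_comp_left (Functor.LaxMonoidal.μ F X X) _
  haveI : IsIso (F.map sL) := by
    haveI : IsIso (Functor.LaxMonoidal.μ F X X ≫ F.map sL) := by rw [hL]; infer_instance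
    exact IsIso.of_isIso_comp_left (Functor.LaxMonoidal.μ F X X) _
  haveI : IsIso sR := FlatNilIso.isIso_of_nilpotent hI sR
  haveI : IsIso sL := FlatNilIso.isIso_of_nilpotent hI sL
  -- the semigroups of points
  let op : ∀ {T : Over (Spec (CommRingCat.of R))}, (T ⟶ X) → (T ⟶ X) → (T ⟶ X) := fun a b => lift a b ≫ P
  have op_comp : ∀ {T T' : Over (Spec (CommRingCat.of R))} (f : T' ⟶ T) (a b : T ⟶ X),
      f ≫ op a b = op (f ≫ a) (f ≫ b) := fun f a b => by
    show f ≫ lift a b ≫ P = lift (f ≫ a) (f ≫ b) ≫ P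
    rw [← Category.assoc, comp_lift]
  have op_assoc : ∀ {T : Over (Spec (CommRingCat.of R))} (a b c : T ⟶ X), op (op a b) c = op a (op b c) := by
    intro T a b c
    have h := congrArg (lift (lift a b) c ≫ ·) hassoc
    simpa [op] using h
  have cancelR : ∀ {T : Over (Spec (CommRingCat.of R))} {a a' b : T ⟶ X}, op a b = op a' b → a = a' := by
    intro T a a' b h
    have : lift a b ≫ sR = lift a' b ≫ sR := by
      apply CartesianMonoidalCategory.hom_ext
      · simpa [sR] using h
      · simp [sR]
    simpa using congrArg (· ≫ fst X X) ((cancel_mono sR).mp this)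
  have divR : ∀ {T : Over (Spec (CommRingCat.of R))} (a b : T ⟶ X), ∃ c, op c b = a := by
    intro T a b
    refine ⟨lift a b ≫ inv sR ≫ fst X X, ?_⟩
    have h : (lift a b ≫ inv sR) ≫ sR = lift a b := by simp
    have h₂ : (lift a b ≫ inv sR) ≫ snd X X = b := by
      have := congrArg (· ≫ snd X X) h
      simpa [sR] using this
    have h₁ := congrArg (· ≫ fst X X) h
    simp only [sR, Category.assoc, lift_fst] at h₁
    have e0 : op ((lift a b ≫ inv sR) ≫ fst X X) b = a := by
      conv_lhs => arg 2; rw [← h₂]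
      show lift ((lift a b ≫ inv sR) ≫ fst X X) ((lift a b ≫ inv sR) ≫ snd X X) ≫ P = a
      rw [← comp_lift, lift_fst_snd, Category.comp_id, Category.assoc]
      exact h₁
    rwa [Category.assoc] at e0
  have divL : ∀ {T : Over (Spec (CommRingCat.of R))} (a b : T ⟶ X), ∃ c, op b c = a := by
    intro T a b
    refine ⟨lift a b ≫ inv sL ≫ snd X X, ?_⟩
    have h : (lift a b ≫ inv sL) ≫ sL = lift a b := by simp
    have h₂ : (lift a b ≫ inv sL) ≫ fst X X = b := by
      have := congrArg (· ≫ snd X X) h
      simpa [sL] using this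
    have h₁ := congrArg (· ≫ fst X X) h
    simp only [sL, Category.assoc, lift_fst] at h₁
    have e0 : op b ((lift a b ≫ inv sL) ≫ snd X X) = a := by
      conv_lhs => arg 1; rw [← h₂]
      show lift ((lift a b ≫ inv sL) ≫ fst X X) ((lift a b ≫ inv sL) ≫ snd X X) ≫ P = a
      rw [← comp_lift, lift_fst_snd, Category.comp_id, Category.assoc]
      exact h₁
    rwa [Category.assoc] at e0
  obtain ⟨e, he⟩ := divR (𝟙 X) (𝟙 X)
  have he_left : ∀ {T : Over (Spec (CommRingCat.of R))} (f y : T ⟶ X), op (f ≫ e) y = y := by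
    intro T f y
    have h1 : op (f ≫ e) f = f := by simpa [op_comp] using congrArg (f ≫ ·) he
    obtain ⟨g, rfl⟩ := divL y f
    rw [← op_assoc, h1]
  have he_const : ∀ {T : Over (Spec (CommRingCat.of R))} (f f' : T ⟶ X), f ≫ e = f' ≫ e := fun f f' =>
    cancelR ((he_left f f).trans (he_left f' f).symm)
  -- descend the unit
  haveI : Surjective j := ⟨fun q => by
    have hle : I ≤ q.asIdeal := fun r hr => by
      obtain ⟨n, hn⟩ := hI
      refine q.isPrime.mem_of_pow_mem n ?_
      have h := Ideal.pow_mem_pow hr n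
      rw [hn] at h
      rw [show r ^ n = 0 from h]
      exact q.asIdeal.zero_mem
    have : q ∈ Set.range (PrimeSpectrum.comap (Ideal.Quotient.mk I)) := by
      rw [range_comap_of_surjective _ _ Ideal.Quotient.mk_surjective, Ideal.mk_ker]
      exact hle
    exact this⟩
  haveI : Surjective X.hom := by
    haveI : Surjective (η[G].left ≫ pullback.fst X.hom j ≫ X.hom) := by
      rw [pullback.condition, ← Category.assoc]
      haveI : Surjective (η[G].left ≫ pullback.snd X.hom j) := by
        rw [show η[G].left ≫ pullback.snd X.hom j = 𝟙 _ from Over.w η[G]]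
        infer_instance
      infer_instance
    haveI : Surjective ((η[G].left ≫ pullback.fst X.hom j) ≫ X.hom) := by rwa [Category.assoc]
    exact Surjective.of_comp (η[G].left ≫ pullback.fst X.hom j) X.hom
  haveI : EffectiveEpi X.hom := by
    rcases hX with h | h <;> infer_instance
  have hcond : ∀ {W : Scheme.{u}} (g₁ g₂ : W ⟶ X.left), g₁ ≫ X.hom = g₂ ≫ X.hom → g₁ ≫ e.left = g₂ ≫ e.left := by
    intro W g₁ g₂ hg
    exact congrArg CommaMorphism.left
      (he_const (Over.homMk g₁ rfl : Over.mk (g₁ ≫ X.hom) ⟶ X) (Over.homMk g₂ hg.symm))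
  let η₀ := EffectiveEpi.desc X.hom e.left hcond
  have hη₀ : X.hom ≫ η₀ = e.left := EffectiveEpi.fac _ _ _
  let one' : 𝟙_ (Over (Spec (CommRingCat.of R))) ⟶ X := Over.homMk η₀ (by
    show η₀ ≫ X.hom = 𝟙 _
    rw [← cancel_epi X.hom, ← Category.assoc, hη₀, Over.w e, Category.comp_id])
  have hone : toUnit X ≫ one' = e := by
    refine Over.OverMorphism.ext ?_
    rw [Over.comp_left, Over.toUnit_left]
    exact hη₀
  have he_right : ∀ {T : Over (Spec (CommRingCat.of R))} (y : T ⟶ X), op y (y ≫ e) = y := fun y =>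
    cancelR (b := y) (by rw [op_assoc, he_left])
  obtain ⟨inv', hinv⟩ := divR (toUnit X ≫ one') (𝟙 X)
  have hinv' : op (𝟙 X) inv' = toUnit X ≫ one' := cancelR (b := 𝟙 X) (by
    rw [op_assoc, hinv, hone, he]
    simpa using he_right (𝟙 X))
  refine ⟨{
    one := one'
    mul := P
    one_mul := ?_
    mul_one := ?_
    mul_assoc := hassoc
    inv := inv'
    left_inv := hinv
    right_inv := hinv' }, rfl⟩
  · rw [show one' ▷ X = lift ((fst _ _) ≫ one') (snd _ _) by
      apply CartesianMonoidalCategory.hom_ext <;> simp]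
    rw [show fst (𝟙_ _) X ≫ one' = snd (𝟙_ _) X ≫ e by
      rw [← hone, ← Category.assoc]
      exact congrArg (· ≫ one') (toUnit_unique _ _)]
    exact (he_left _ _).trans (leftUnitor_hom _).symm
  · rw [show X ◁ one' = lift (fst _ _) ((snd _ _) ≫ one') by
      apply CartesianMonoidalCategory.hom_ext <;> simp]
    rw [show snd X (𝟙_ _) ≫ one' = fst X (𝟙_ _) ≫ e by
      rw [← hone, ← Category.assoc]
      exact congrArg (· ≫ one') (toUnit_unique _ _)]
    exact (he_right _).trans (rightUnitor_hom _).symm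

end Groth.Agent.S8366
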