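import Groth.Statements.S8367
import Groth.Agent.RelRegLib.Scheme
import Groth.Agent.HopfTruncLib.GroupSyntomic
import Groth.Agent.RegImmOpenLib.Basic

set_option autoImplicit false
universe u
open CategoryTheory MonObj AlgebraicGeometry
open SGA3

namespace Groth.Agent.S8367

/-- For a scheme S, a group scheme X smooth over S and a sub-group-scheme Y of X (a homomorphism of
S-group schemes from Y to X which is an immersion) with Y flat and locally of finite presentation
over S, the immersion of Y in X is regular: each point of Y has an affine open neighbourhood in X
over which the immersion is closed and cut out by a regular sequence. (The published statement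
concludes that Y is a local complete intersection in X, in the Koszul sense; this row states the
stronger conclusion that the immersion is regular, which is what the printed proof establishes.) -/
theorem result (S : Scheme.{u}) (X Y : Over S) [GrpObj X] [GrpObj Y]
    [Smooth X.hom] [Flat Y.hom] [LocallyOfFinitePresentation Y.hom] (i : Y ⟶ X) [IsMonHom i]
    [IsImmersion i.left] :
    RegImm.IsRegularImmersion .regular i.left := by
  refine RegImmOpenLib.isRegularImmersion_of_liftCoborder i.left ?_
  haveI : Smooth (i.left.coborderRange.ι ≫ X.hom) := inferInstance
  refine RelRegLib.isRegularClosedImmersion_of_syntomic (i.left.coborderRange.ι ≫ X.hom) i.left.liftCoborder ?_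
  rw [Scheme.Hom.liftCoborder_ι_assoc, Over.w i]
  exact HopfTruncLib.syntomic_of_flat_lfp Y
end Groth.Agent.S8367
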