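import Groth.Statements.S8368
import Groth.Agent.KoszSqLib.Basic
import Groth.Agent.RelQRegLib.Flat

set_option autoImplicit false
universe u
open SGA3

namespace Groth.Agent.S8368

/-- Let A be a commutative ring, J an ideal of A of square zero, B a flat A-algebra and f₁, …, f_d
elements of B (a linear map from a free B-module of rank d to B). If the reductions of the f_i to
B/JB form a Koszul-regular sequence and the quotient of B/JB by them is flat over A/J, then f₁, …,
f_d is a Koszul-regular sequence in B and B/(f₁, …, f_d) is flat over A. -/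
theorem result (A B : Type u) [CommRing A] [CommRing B] [Algebra A B]
    [Module.Flat A B] (J : Ideal A) (hJ : J * J = ⊥) (rs : List B)
    (hreg : LCI.IsKoszulRegularSeq (B ⧸ Ideal.map (algebraMap A B) J)
      (rs.map (Ideal.Quotient.mk (Ideal.map (algebraMap A B) J))))
    (hflat : Module.Flat (A ⧸ J) ((B ⧸ Ideal.map (algebraMap A B) J) ⧸
      Ideal.ofList (rs.map (Ideal.Quotient.mk (Ideal.map (algebraMap A B) J))))) :
    LCI.IsKoszulRegularSeq B rs ∧ Module.Flat A (B ⧸ Ideal.ofList rs) := by
  have hmap : rs.map (Ideal.Quotient.mk (Ideal.map (algebraMap A B) J)) =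
      List.ofFn fun i => Ideal.Quotient.mk (Ideal.map (algebraMap A B) J) (rs.get i) := by
    conv_lhs => rw [← List.ofFn_get rs, List.map_ofFn]
    rfl
  rw [hmap] at hreg hflat
  have hf := KoszDetLib.isExactK_of_isKoszulRegularSeq _ hreg
  have hspan : ∀ {R : Type u} [CommRing R] {n : ℕ} (g : Fin n → R),
      Ideal.ofList (List.ofFn g) = Ideal.span (Set.range g) := fun g => by
    rw [Ideal.ofList]
    congr 1
    ext x
    exact List.mem_ofFn' g x
  haveI : Module.Flat (A ⧸ J) ((B ⧸ Ideal.map (algebraMap A B) J) ⧸ Ideal.span (Set.range fun i =>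
      Ideal.Quotient.mk (Ideal.map (algebraMap A B) J) (rs.get i))) := by
    rwa [← hspan]
  refine ⟨?_, ?_⟩
  · have h := KRLib.isKoszulRegularSeq_of_isExactK _ (KoszSqLib.isExactK_of_sq J rs.get hJ hf)
    rwa [List.ofFn_get] at h
  · rw [RelQRegLib.ofList_eq_span]
    exact KoszSqLib.flat_of_sq J rs.get hJ hf

end Groth.Agent.S8368
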