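import Groth.Statements.S8369
import Mathlib


-- import your own Groth.Agent.* helpers here

set_option autoImplicit false
universe u v
open SGA3

namespace Groth.Agent.S8369

/-- Let A be a commutative ring, J a nilpotent ideal, N ⊆ M A-modules with M/N flat over A. If elements
of N have images generating the image of N in M/JM, then they generate N. (The published statement
takes finitely many elements; this row allows an arbitrary set, which the same argument permits.) -/
theorem result (A : Type u) [CommRing A] (J : Ideal A) (hJ : IsNilpotent J)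
    (M : Type v) [AddCommGroup M] [Module A M] (N : Submodule A M) [Module.Flat A (M ⧸ N)] (s : Set M)
    (hs : s ⊆ N)
    (hgen : (Submodule.span A s).map (J • (⊤ : Submodule A M)).mkQ = N.map (J • (⊤ : Submodule A M)).mkQ) :
    Submodule.span A s = N := by
  set S := Submodule.span A s
  have hSN : S ≤ N := Submodule.span_le.2 hs
  have hpure : J • (⊤ : Submodule A M) ⊓ N ≤ J • N := by
    rintro x ⟨hxJ, hxN⟩
    let μ : TensorProduct A J M →ₗ[A] M := TensorProduct.lift ((LinearMap.lsmul A M).comp J.subtype)
    obtain ⟨t, rfl⟩ : x ∈ LinearMap.range μ := by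
      refine Submodule.smul_le.2 (fun r hr m _ => LinearMap.mem_range.2 ⟨TensorProduct.tmul A (⟨r, hr⟩ : J) m, by simp [μ]⟩) hxJ
    have hexact : Function.Exact N.subtype N.mkQ := LinearMap.exact_subtype_mkQ N
    have ht0 : N.mkQ.lTensor J t = 0 := by
      have hinj : Function.Injective (TensorProduct.lift ((LinearMap.lsmul A (M ⧸ N)).comp J.subtype)) := by
        rw [← LinearMap.lid_comp_rTensor]
        exact (TensorProduct.lid A (M ⧸ N)).injective.comp (Module.Flat.rTensor_preserves_injective_linearMap _ J.injective_subtype)
      apply hinj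
      rw [map_zero]
      have e : ∀ t : TensorProduct A J M, TensorProduct.lift ((LinearMap.lsmul A (M ⧸ N)).comp J.subtype) (N.mkQ.lTensor J t) = N.mkQ (μ t) := fun t => by
        induction t using TensorProduct.induction_on with
        | zero => simp
        | tmul a b => simp [μ]
        | add a b ha hb => rw [map_add, map_add, map_add, map_add, ha, hb]
      rw [e]
      exact (Submodule.Quotient.mk_eq_zero N).2 hxN
    obtain ⟨t', rfl⟩ := (lTensor_exact J hexact N.mkQ_surjective t).1 ht0
    clear ht0 hxJ hxN
    induction t' using TensorProduct.induction_on with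
    | zero => simp
    | tmul a b => simp [μ]; exact Submodule.smul_mem_smul a.2 b.2
    | add a b ha hb => rw [map_add, map_add]; exact add_mem ha hb
  have hstep : N ≤ S ⊔ J • N := by
    intro x hx
    obtain ⟨y, hy, hxy⟩ : (J • (⊤ : Submodule A M)).mkQ x ∈ S.map (J • (⊤ : Submodule A M)).mkQ := hgen ▸ Submodule.mem_map_of_mem hx
    have h2 : x - y ∈ J • N := hpure ⟨(Submodule.Quotient.eq _).1 hxy.symm, sub_mem hx (hSN hy)⟩
    exact (add_sub_cancel y x) ▸ Submodule.add_mem_sup hy h2
  have hiter : ∀ m, N ≤ S ⊔ J ^ m • N := by
    intro m
    induction m with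
    | zero => simp
    | succ m ih =>
      refine ih.trans (sup_le le_sup_left ?_)
      refine (Submodule.smul_mono le_rfl hstep).trans ?_
      rw [Submodule.smul_sup, ← Submodule.smul_assoc, smul_eq_mul, ← pow_succ]
      exact sup_le_sup_right Submodule.smul_le_right _
  obtain ⟨m, hm⟩ := hJ
  refine le_antisymm hSN ?_
  have := hiter m
  rwa [hm, Submodule.zero_eq_bot, Submodule.bot_smul, sup_bot_eq] at this

end Groth.Agent.S8369
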