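import Groth.Statements.S8370
-- import your own Groth.Agent.* helpers here

set_option autoImplicit false
universe u
open CategoryTheory MonObj AlgebraicGeometry
open LieS

namespace Groth.Agent.S8370

theorem dual_factor {B C : Type u} [CommRing B] [CommRing C] (ψ : DualNumber B →+* C)
    (hc : ψ DualNumber.eps * ψ DualNumber.eps = 0) :
    (LieS.dualHom (RingHom.id C) (ψ DualNumber.eps) hc).comp (LieS.bcHom (ψ.comp (algebraMap B (DualNumber B)))) = ψ := by
  refine RingHom.ext fun x => ?_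
  have hx : x = algebraMap B (DualNumber B) x.fst + algebraMap B (DualNumber B) x.snd * DualNumber.eps := by
    refine TrivSqZeroExt.ext ?_ ?_ <;>
      simp only [TrivSqZeroExt.algebraMap_eq_inl', TrivSqZeroExt.fst_add, TrivSqZeroExt.snd_add, TrivSqZeroExt.fst_mul,
        DualNumber.snd_mul, TrivSqZeroExt.fst_inl, TrivSqZeroExt.snd_inl, DualNumber.fst_eps, DualNumber.snd_eps,
        Algebra.algebraMap_self, RingHom.id_apply, mul_zero, add_zero, _root_.mul_one, zero_add, zero_mul]
  conv_rhs => rw [hx, map_add, map_mul]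
  simp only [RingHom.comp_apply, LieS.dualHom_apply, LieS.bcHom, TrivSqZeroExt.algebraMap_eq_inl',
    TrivSqZeroExt.fst_add, TrivSqZeroExt.snd_add, TrivSqZeroExt.fst_mul, DualNumber.snd_mul, TrivSqZeroExt.fst_inl,
    TrivSqZeroExt.snd_inl, DualNumber.fst_eps, DualNumber.snd_eps, Algebra.algebraMap_self, RingHom.id_apply, mul_zero,
    add_zero, _root_.mul_one, zero_add, zero_mul]

open MonoidalCategory CartesianMonoidalCategory in
theorem affine_case (S : Scheme.{u}) (G K : Over S) [GrpObj G] [GrpObj K] (i : K ⟶ G)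
    (B : Type u) [CommRing B] (f : Spec (CommRingCat.of B) ⟶ S) (x : LieS.Lie G B f)
    (H : ∀ (B' : Type u) [CommRing B'] (h : B →+* B') (k : LieS.pt B' (Spec.map (CommRingCat.ofHom h) ≫ f) ⟶ K),
      LieS.Ad G B' (Spec.map (CommRingCat.ofHom h) ≫ f) (k ≫ i) (LieS.pull G f h x) = LieS.pull G f h x)
    (C : Type u) [CommRing C] (f₁ : Spec (CommRingCat.of C) ⟶ S) (ψ : DualNumber B →+* C)
    (hψ : Spec.map (CommRingCat.ofHom (ψ.comp (algebraMap B (DualNumber B)))) ≫ f = f₁)
    (y : Over.mk f₁ ⟶ LieS.dpt B f) (hy : y.left = Spec.map (CommRingCat.ofHom ψ)) (h : Over.mk f₁ ⟶ K) :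
    (y ≫ x.1) * (h ≫ i) = (h ≫ i) * (y ≫ x.1) := by
  subst hψ
  let h₀ := ψ.comp (algebraMap B (DualNumber B))
  have hc : ψ DualNumber.eps * ψ DualNumber.eps = 0 := by rw [← map_mul, LieS.eps_sq, map_zero]
  let u : LieS.pt C (Spec.map (CommRingCat.ofHom h₀) ≫ f) ⟶ LieS.dpt C (Spec.map (CommRingCat.ofHom h₀) ≫ f) :=
    Over.homMk (Spec.map (CommRingCat.ofHom (LieS.dualHom (RingHom.id C) (ψ DualNumber.eps) hc))) (by
      change Spec.map _ ≫ Spec.map _ ≫ _ = _
      rw [← Category.assoc, LieS.specMap_comp, LieS.dualHom_comp_algebraMap, CommRingCat.ofHom_id]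
      erw [Spec.map_id]; exact Category.id_comp _)
  have hu : u ≫ LieS.dptMap f h₀ = y := by
    refine Over.OverMorphism.ext ?_
    change Spec.map _ ≫ Spec.map _ = y.left
    rw [LieS.specMap_comp, dual_factor, hy]
  have hp : u ≫ LieS.proj C (Spec.map (CommRingCat.ofHom h₀) ≫ f) = 𝟙 _ := by
    refine Over.OverMorphism.ext ?_
    change Spec.map _ ≫ Spec.map _ = 𝟙 _
    rw [LieS.specMap_comp, LieS.dualHom_comp_algebraMap, CommRingCat.ofHom_id]
    erw [Spec.map_id]
  have h1 : (LieS.proj C (Spec.map (CommRingCat.ofHom h₀) ≫ f) ≫ h ≫ i) * (LieS.dptMap f h₀ ≫ x.1) *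
      (LieS.proj C (Spec.map (CommRingCat.ofHom h₀) ≫ f) ≫ h ≫ i)⁻¹ = LieS.dptMap f h₀ ≫ x.1 :=
    congrArg Subtype.val (H C h₀ h)
  have h2 := congrArg (u ≫ ·) (mul_inv_eq_iff_eq_mul.1 h1)
  simp only [MonObj.comp_mul] at h2
  rw [reassoc_of% hp, reassoc_of% hu] at h2
  exact h2.symm


/-- For a group scheme G over a scheme S (the group law of the Lie algebra functor of a group scheme is
commutative, which the published statement assumes), a sub-group-scheme K of G given by a
monomorphic homomorphism i, and an affine S-scheme T = Spec B: an element x of Lie(G/S)(T) belongs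
to the Lie algebra of the centraliser of K, i.e. the point x of G with values in the dual numbers
I_T commutes with every point of K with values in any scheme over I_T, if and only if x is fixed by
the adjoint action of every point of K with values in an affine scheme T' = Spec B' over T (acting
on the restriction of x to T'). -/
theorem result (S : Scheme.{u}) (G K : Over S) [GrpObj G] [GrpObj K] (i : K ⟶ G)
    [IsMonHom i] [Mono i] (B : Type u) [CommRing B] (f : Spec (CommRingCat.of B) ⟶ S) (x : LieS.Lie G B f) :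
    (∀ (X' : Over S) (y : X' ⟶ LieS.dpt B f) (h : X' ⟶ K), (y ≫ x.1) * (h ≫ i) = (h ≫ i) * (y ≫ x.1)) ↔
    (∀ (B' : Type u) [CommRing B'] (h : B →+* B')
      (k : LieS.pt B' (Spec.map (CommRingCat.ofHom h) ≫ f) ⟶ K),
      LieS.Ad G B' (Spec.map (CommRingCat.ofHom h) ≫ f) (k ≫ i) (LieS.pull G f h x) = LieS.pull G f h x) := by
  refine ⟨fun hL B' _ h k => ?_, fun H X' y h => ?_⟩
  · refine Subtype.ext ?_
    show (LieS.proj B' _ ≫ k ≫ i) * (LieS.dptMap f h ≫ x.1) * (LieS.proj B' _ ≫ k ≫ i)⁻¹ = LieS.dptMap f h ≫ x.1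
    rw [mul_inv_eq_iff_eq_mul]
    have := hL _ (LieS.dptMap f h) (LieS.proj B' _ ≫ k)
    rw [Category.assoc] at this
    exact this.symm
  · refine Over.OverMorphism.ext (X'.left.affineCover.hom_ext _ _ fun j => ?_)
    let 𝒰 := X'.left.affineCover
    let e : Over.mk (𝒰.f j ≫ X'.hom) ⟶ X' := Over.homMk (𝒰.f j) rfl
    obtain ⟨ψ, hψ⟩ : ∃ ψ, Spec.map ψ = 𝒰.f j ≫ y.left := ⟨_, Spec.map_preimage _⟩
    have hw : Spec.map (CommRingCat.ofHom (ψ.hom.comp (algebraMap B (DualNumber B)))) ≫ f = 𝒰.f j ≫ X'.hom := by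
      rw [← LieS.specMap_comp, Category.assoc, ← Over.w y, ← Category.assoc (𝒰.f j), ← hψ]
      rfl
    have := affine_case S G K i B f x H _ (𝒰.f j ≫ X'.hom) ψ.hom hw (e ≫ y) hψ.symm (e ≫ h)
    simp only [Category.assoc, ← MonObj.comp_mul] at this
    exact congrArg Over.Hom.left this

end Groth.Agent.S8370
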