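import Groth.Statements.S8373
import Groth.Agent.CartanRelLib.Reduced

set_option autoImplicit false
universe u
open scoped TensorProduct
open SGA3t2b

set_option linter.style.haveILetI false
set_option maxHeartbeats 1000000
open TensorProduct LieAlgebra Module CartanRelLib
attribute [local instance 100] LieRing.ofAssociativeRing

namespace Groth.Agent.S8373

/-- Over an affine base Spec A: let L be a Lie algebra over A which is a finitely generated projective
A-module, H a Cartan subalgebra of L relative to A, a an element of H which is quasi-regular in L,
and u an automorphism of the Lie algebra L over A. Then u(H) = H if and only if u(a) ∈ H. -/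
theorem result {A : Type u} [CommRing A] {L : Type u} [LieRing L]
    [LieAlgebra A L] [Module.Finite A L] [Module.Projective A L]
    (H : LieSubalgebra A L) (hH : SGA3t2b.IsCartanRel H) (a : L) (haH : a ∈ H)
    (ha : SGA3t2b.IsQuasiRegular A L a) (u : L ≃ₗ⁅A⁆ L) :
    H.map u.toLieHom = H ↔ u a ∈ H := by
  haveI := hH.1
  constructor
  · intro h
    rw [← h]
    exact ⟨a, haH, rfl⟩
  · intro hua
    have hu : SGA3t2b.IsQuasiRegular A L (u a) := fun p => by
      have h := (isRegular_lieEquiv_iff p.asIdeal.ResidueField (lieEquivBaseChange A p.asIdeal.ResidueField u)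
        ((1 : p.asIdeal.ResidueField) ⊗ₜ[A] a)).2 (ha p)
      rwa [lieEquivBaseChange_tmul] at h
    conv_lhs => rw [eq_engel H hH haH ha]
    rw [map_engel, ← eq_engel H hH hua hu]

end Groth.Agent.S8373
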