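import Groth.Statements.S8374
import Groth.Agent.CartanRelLib.Reduced

set_option autoImplicit false
universe u
open scoped TensorProduct
open SGA3t2b

set_option linter.style.haveILetI false
set_option maxHeartbeats 1000000
open TensorProduct LieAlgebra Module CartanRelLib
attribute [local instance 100] LieRing.ofAssociativeRing

namespace Groth.Agent.S8374

/-- Over an affine base Spec A: let L be a Lie algebra over A which is a finitely generated projective
A-module, H a Cartan subalgebra of L relative to A, and p a prime of A whose residue field is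
infinite. Then there are f ∈ A with f ∉ p and an element a ∈ H such that a is a regular element of
every fibre κ(q) ⊗ L with f ∉ q, H is contained in the Engel subalgebra Nil(a, L), and every element
of Nil(a, L) is carried into H by some power of f; that is, over the basic open set D(f) the section
a is regular and H coincides with Nil(a, L). (The published statement gives a regular section of H
over some open neighbourhood of p; this row takes a global element of H and a basic open
neighbourhood D(f), which is equivalent over an affine base because multiplying by a function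
invertible on D(f) does not change regularity.) -/
theorem result {A : Type u} [CommRing A] {L : Type u} [LieRing L]
    [LieAlgebra A L] [Module.Finite A L] [Module.Projective A L]
    (H : LieSubalgebra A L) (hH : SGA3t2b.IsCartanRel H) (p : PrimeSpectrum A)
    (hp : Infinite p.asIdeal.ResidueField) :
    ∃ f : A, f ∉ p.asIdeal ∧ ∃ a : L, a ∈ H ∧
      (∀ q : PrimeSpectrum A, f ∉ q.asIdeal →
        LieAlgebra.IsRegular q.asIdeal.ResidueField ((1 : q.asIdeal.ResidueField) ⊗ₜ[A] a)) ∧
      H ≤ LieSubalgebra.engel A a ∧
      ∀ y : L, y ∈ LieSubalgebra.engel A a → ∃ n : ℕ, f ^ n • y ∈ H := by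
  haveI := hH.1
  haveI := hp
  obtain ⟨hcart, hdim⟩ := fibre_isCartan H hH p
  haveI := hcart
  obtain ⟨x, hxH, hx⟩ := exists_isRegular_mem p.asIdeal.ResidueField (fibreIncl H p).range hdim
  obtain ⟨w, rfl⟩ := hxH
  obtain ⟨s, hs, h, hh⟩ := exists_smul_eq_tmul p.asIdeal w
  have hreg : IsRegular p.asIdeal.ResidueField ((1 : p.asIdeal.ResidueField) ⊗ₜ[A] (h : L)) := by
    have e : (1 : p.asIdeal.ResidueField) ⊗ₜ[A] (h : L) =
        algebraMap A p.asIdeal.ResidueField s • fibreIncl H p w := by
      rw [← map_smul (fibreIncl H p), ← smul_tmul_eq, hh]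
      rfl
    rw [e]
    exact isRegular_smul (isUnit_algebraMap_residueField p.asIdeal hs).ne_zero hx
  set D := adQuot H h.2
  obtain ⟨f, hf, hC⟩ := exists_smul_eq_zero_of_fibre (M := _ ⧸ LinearMap.range D) p.asIdeal fun z => by
    obtain ⟨y, rfl⟩ := (LinearMap.range D).mkQ_surjective z
    obtain ⟨y', hy'⟩ := adQuot_baseChange_surjective H h.2 p (fibre_eq_engel H hH h.2 p hreg)
      ((1 : p.asIdeal.ResidueField) ⊗ₜ[A] y)
    change (LinearMap.range D).mkQ.baseChange p.asIdeal.ResidueField ((1 : p.asIdeal.ResidueField) ⊗ₜ[A] y) = 0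
    rw [← hy', ← LinearMap.comp_apply, ← LinearMap.baseChange_comp,
      show (LinearMap.range D).mkQ ∘ₗ D = 0 from
        LinearMap.ext fun v => (Submodule.Quotient.mk_eq_zero _).2 ⟨v, rfl⟩, LinearMap.baseChange_zero,
      LinearMap.zero_apply]
  refine ⟨f, hf, h, h.2, fun q hq => ?_, le_engel_of_fibrewise_nilpotent H (fun p => (hH.2 p).1) h.2,
    fun y hy => ?_⟩
  · rw [isRegular_iff_finrank_engel_eq_rank]
    refine le_antisymm ?_ (rank_le_finrank_engel _ _)
    rw [← (hH.2 q).2.2]
    refine Submodule.finrank_mono fun z hz => ?_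
    change z ∈ LieSubalgebra.engel _ _ at hz
    obtain ⟨n, hn⟩ := (LieSubalgebra.mem_engel_iff _ _ z).1 hz
    refine (mem_baseChange_iff_mkQ H.toSubmodule _ z).2 ?_
    have hinj : Function.Injective (D.baseChange q.asIdeal.ResidueField) :=
      LinearMap.injective_iff_surjective.2 (baseChange_surjective_of_smul q.asIdeal hq D hC)
    have key : ∀ (k : ℕ) (v : q.asIdeal.ResidueField ⊗[A] L),
        (D.baseChange q.asIdeal.ResidueField ^ k) (H.toSubmodule.mkQ.baseChange q.asIdeal.ResidueField v) =
          H.toSubmodule.mkQ.baseChange q.asIdeal.ResidueField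
            ((ad q.asIdeal.ResidueField _ ((1 : q.asIdeal.ResidueField) ⊗ₜ[A] (h : L)) ^ k) v) := by
      intro k
      induction k with
      | zero => intro v; rfl
      | succ k ih =>
        intro v
        rw [pow_succ, Module.End.mul_apply, adQuot_baseChange_mkQ, ih, pow_succ, Module.End.mul_apply]
    have hn' : Function.Injective (D.baseChange q.asIdeal.ResidueField ^ n) := by
      rw [Module.End.coe_pow]; exact hinj.iterate n
    exact hn' (by rw [map_zero, key, hn, map_zero])
  · obtain ⟨n, hn⟩ := (LieSubalgebra.mem_engel_iff A (h : L) y).1 hy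
    obtain ⟨m, hm⟩ := exists_pow_smul_eq_zero D hC (y := Submodule.Quotient.mk y) (n := n)
      (by rw [adQuot_pow_mk, hn, Submodule.Quotient.mk_zero])
    exact ⟨m, (Submodule.Quotient.mk_eq_zero H.toSubmodule).1 (by rw [Submodule.Quotient.mk_smul, hm])⟩

end Groth.Agent.S8374
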