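import Groth.Statements.S8377
import Groth.Agent.CartanRelLib.Reduced

set_option autoImplicit false
universe u
open scoped TensorProduct
open SGA3t2b

set_option linter.style.haveILetI false
set_option maxHeartbeats 1000000
open TensorProduct LieAlgebra Module CartanRelLib
attribute [local instance 100] LieRing.ofAssociativeRing

namespace Groth.Agent.S8377

/-- Let L be a Lie algebra over the commutative ring A which is a finitely generated projective
A-module. Suppose that the nilpotent rank of the fibres κ(p) ⊗ L is locally constant on Spec A, that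
for every A-algebra A' every quasi-regular element of A' ⊗ L is regular (condition (C₂)), and that
every fibre κ(p) ⊗ L has a regular element (automatic when every residue field of A is infinite).
Then L acquires a relative Cartan subalgebra after a faithfully flat etale base change A → A'
(condition (C′₁)). (The published implication (C₂) ⇒ (C′₁) is over an arbitrary base and has no
hypothesis on regular elements of the fibres; this row is over an affine base and assumes every
fibre has a regular element, the case in which the published argument, through the existence of a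
Cartan subalgebra Zariski-locally near each such point, is complete.) -/
theorem result {A : Type u} [CommRing A] {L : Type u} [LieRing L]
    [LieAlgebra A L] [Module.Finite A L] [Module.Projective A L]
    (hC2 : ((∀ p : PrimeSpectrum A, ∃ f : A, f ∉ p.asIdeal ∧ ∀ q : PrimeSpectrum A, f ∉ q.asIdeal →
        LieAlgebra.rank q.asIdeal.ResidueField (q.asIdeal.ResidueField ⊗[A] L) =
          LieAlgebra.rank p.asIdeal.ResidueField (p.asIdeal.ResidueField ⊗[A] L)) ∧
      ∀ (A' : Type u) [CommRing A'] [Algebra A A'] (a' : A' ⊗[A] L),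
        SGA3t2b.IsQuasiRegular A' (A' ⊗[A] L) a' → SGA3t2b.IsRegularRel A' (A' ⊗[A] L) a'))
    (hreg : ∀ p : PrimeSpectrum A, ∃ x : p.asIdeal.ResidueField ⊗[A] L, LieAlgebra.IsRegular p.asIdeal.ResidueField x) :
    ∃ (A' : Type u) (_ : CommRing A') (_ : Algebra A A'), Algebra.Etale A A' ∧ Module.FaithfullyFlat A A' ∧
        ∃ H : LieSubalgebra A' (A' ⊗[A] L), SGA3t2b.IsCartanRel H := by
  classical
  obtain ⟨hC0, hC2'⟩ := hC2
  have h : ∀ p : PrimeSpectrum A, ∃ f : A, f ∉ p.asIdeal ∧ ∃ a : L, ∀ q : PrimeSpectrum A, f ∉ q.asIdeal →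
      IsRegular q.asIdeal.ResidueField ((1 : q.asIdeal.ResidueField) ⊗ₜ[A] a) := fun p => by
    obtain ⟨x, hx⟩ := hreg p
    obtain ⟨a, ha⟩ := exists_isRegular_tmul p hx
    obtain ⟨g, hg, hrank⟩ := hC0 p
    obtain ⟨f, hf, hf'⟩ := exists_isRegular_near a p hg hrank ha
    exact ⟨f, hf, a, hf'⟩
  choose f hf a ha using h
  obtain ⟨s, hs⟩ := isCompact_univ.elim_finite_subcover (fun p => (PrimeSpectrum.basicOpen (f p) : Set (PrimeSpectrum A)))
    (fun p => (PrimeSpectrum.basicOpen (f p)).2) (fun p _ => Set.mem_iUnion.2 ⟨p, hf p⟩)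
  haveI : ∀ i : s, Algebra.Etale A (Localization.Away (f i)) := fun i => Algebra.Etale.of_isLocalizationAway (f i)
  let A' := ∀ i : s, Localization.Away (f i)
  haveI : Algebra.Etale A A' := inferInstance
  have hff : Module.FaithfullyFlat A A' := by
    refine Module.FaithfullyFlat.of_comap_surjective fun p => ?_
    obtain ⟨i, hi, hpi⟩ := Set.mem_iUnion₂.1 (hs (Set.mem_univ p))
    have hpr : p ∈ Set.range (PrimeSpectrum.comap (algebraMap A (Localization.Away (f i)))) := by
      rw [PrimeSpectrum.localization_away_comap_range _ (f i)]; exact hpi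
    obtain ⟨q, hq⟩ := hpr
    exact ⟨PrimeSpectrum.comap (Pi.evalRingHom (fun i : s => Localization.Away (f i)) ⟨i, hi⟩) q, hq⟩
  refine ⟨A', inferInstance, inferInstance, inferInstance, hff, ?_⟩
  let e : s → A' := fun i => Pi.single i 1
  obtain ⟨-, H, hH, -⟩ := hC2' A' (∑ i : s, e i ⊗ₜ[A] a i) fun q => by
    obtain ⟨i, hi⟩ : ∃ i, e i ∉ q.asIdeal := by
      by_contra! hall
      refine q.isPrime.ne_top ((Ideal.eq_top_iff_one _).2 ?_)
      rw [show (1 : A') = ∑ i : s, e i from (Finset.univ_sum_single (1 : A')).symm]
      exact Ideal.sum_mem _ fun i _ => hall i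
    have hj : ∀ j, j ≠ i → e j ∈ q.asIdeal := fun j hji => by
      refine (q.isPrime.mem_or_mem ?_).resolve_right hi
      rw [show e j * e i = 0 from funext fun l => ?_]
      · exact zero_mem _
      · by_cases hl : l = j
        · subst hl; change e l l * e i l = 0; simp [e, Pi.single_eq_of_ne hji]
        · change e j l * e i l = 0; simp [e, Pi.single_eq_of_ne hl]
    have hei : algebraMap A' q.asIdeal.ResidueField (e i) = 1 := by
      have h1 : IsIdempotentElem (e i) := funext fun l => by
        by_cases hl : l = i
        · subst hl; change e l l * e l l = e l l; simp [e]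
        · change e i l * e i l = e i l; simp [e, Pi.single_eq_of_ne hl]
      exact (IsIdempotentElem.iff_eq_zero_or_one.1 (h1.map (algebraMap A' q.asIdeal.ResidueField))).resolve_left
        fun h0 => hi (Ideal.algebraMap_residueField_eq_zero.1 h0)
    have hsum : (1 : q.asIdeal.ResidueField) ⊗ₜ[A'] (∑ j : s, e j ⊗ₜ[A] a j) =
        (1 : q.asIdeal.ResidueField) ⊗ₜ[A'] ((1 : A') ⊗ₜ[A] a i) := by
      have h2 : ∀ j, (1 : q.asIdeal.ResidueField) ⊗ₜ[A'] (e j ⊗ₜ[A] a j) =
          algebraMap A' q.asIdeal.ResidueField (e j) • ((1 : q.asIdeal.ResidueField) ⊗ₜ[A'] ((1 : A') ⊗ₜ[A] a j)) := by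
        intro j
        rw [algebraMap_smul, ← tmul_smul, TensorProduct.smul_tmul', smul_eq_mul, mul_one]
      rw [tmul_sum, Finset.sum_eq_single i (fun j _ hji => by
        rw [h2, Ideal.algebraMap_residueField_eq_zero.2 (hj j hji), zero_smul]) (by simp), h2, hei, one_smul]
    change IsRegular _ _
    rw [hsum]
    refine (isRegular_residue q (a i)).2 (ha _ _ fun hh => hi ?_)
    have h3 : algebraMap A A' (f i) ∈ q.asIdeal := hh
    let v : A' := Pi.single i ((IsLocalization.Away.algebraMap_isUnit (S := Localization.Away (f i)) (f i)).unit⁻¹ : _)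
    rw [show e i = v * algebraMap A A' (f i) from funext fun l => ?_]
    · exact q.asIdeal.mul_mem_left v h3
    · by_cases hl : l = i
      · subst hl
        change e l l = v l * algebraMap A (Localization.Away (f l)) (f l)
        simp [e, v]
      · change e i l = v l * algebraMap A (Localization.Away (f l)) (f i)
        simp [e, v, Pi.single_eq_of_ne hl]
  exact ⟨H, hH⟩

end Groth.Agent.S8377
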