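import Groth.Statements.S8383
import Mathlib
-- import your own Groth.Agent.* helpers here

set_option autoImplicit false
universe u
open scoped TensorProduct
open SGA3t2b

namespace Groth.Agent.S8383

open TensorProduct

open MvPolynomial in
theorem exists_forall_ne_zero {k K : Type*} [Field k] [Finite k] [Field K] [Algebra k K] {ι J : Type}
    [Fintype ι] [Fintype J] (A : ι → J → K) (B : J → ι → K) [DecidableEq ι]
    (hAB : ∀ i l, ∑ j, A i j * B j l = if i = l then 1 else 0) :
    ∃ x : J → k, ∀ i, ∑ j, A i j * algebraMap k K (x j) ≠ 0 := by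
  classical
  haveI := Fintype.ofFinite k
  obtain ⟨p, hp⟩ := CharP.exists k
  obtain ⟨⟨n, hn0⟩, hpp, hcard⟩ := FiniteField.card k p
  haveI : Fact p.Prime := ⟨hpp⟩
  haveI : CharP K p := charP_of_injective_algebraMap (algebraMap k K).injective p
  haveI : ExpChar K p := .prime hpp
  let L : ι → MvPolynomial J K := fun i => ∑ j, C (A i j) * X j
  let f := ∏ i, L i
  have hhom : f.IsHomogeneous (Fintype.card ι) := by
    rw [Fintype.card_eq_sum_ones]
    refine IsHomogeneous.prod _ _ _ fun i _ => IsHomogeneous.sum _ _ _ fun j _ => ?_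
    exact (isHomogeneous_X K j).C_mul _
  obtain ⟨t, ht, htp⟩ : ∃ t : J →₀ ℕ, f.coeff t ≠ 0 ∧ ∀ j, t j < p := by
    by_contra! hall
    have hf : f ∈ Ideal.span ((fun s => monomial s (1 : K)) '' Set.range fun j => Finsupp.single j p) := by
      rw [mem_ideal_span_monomial_image]
      intro t ht
      obtain ⟨j, hj⟩ := hall t (mem_support_iff.1 ht)
      exact ⟨_, ⟨j, rfl⟩, Finsupp.single_le_iff.2 hj⟩
    let φ : MvPolynomial J K →ₐ[K] MvPolynomial ι K := aeval fun j => ∑ i, C (B j i) * X i
    have h2 : φ f ∈ Ideal.span ((fun s => monomial s (1 : K)) '' Set.range fun i => Finsupp.single i p) := by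
      revert hf
      suffices hle : Ideal.span ((fun s => monomial s (1 : K)) '' Set.range fun j => Finsupp.single j p)
          ≤ (Ideal.span ((fun s => monomial s (1 : K)) '' Set.range fun i => Finsupp.single i p)).comap φ from
        fun hf => hle hf
      rw [Ideal.span_le]
      rintro _ ⟨_, ⟨j, rfl⟩, rfl⟩
      simp only [SetLike.mem_coe, Ideal.mem_comap, ← X_pow_eq_monomial, map_pow, φ, aeval_X, sum_pow_char]
      refine sum_mem fun i _ => ?_
      rw [mul_pow]
      refine Ideal.mul_mem_left _ _ (Ideal.subset_span ⟨_, ⟨i, rfl⟩, ?_⟩)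
      exact (X_pow_eq_monomial).symm
    have hL : ∀ i, φ (L i) = X i := by
      intro i
      simp only [L, φ, map_sum, map_mul, aeval_X, aeval_C, MvPolynomial.algebraMap_eq, Finset.mul_sum]
      rw [Finset.sum_comm]
      simp_rw [← mul_assoc, ← C_mul, ← Finset.sum_mul, ← map_sum, hAB]
      simp
    rw [map_prod, Finset.prod_congr rfl fun i _ => hL i] at h2
    rw [mem_ideal_span_monomial_image] at h2
    have hm : (∏ i : ι, X i : MvPolynomial ι K) = monomial (∑ i, Finsupp.single i 1) 1 := by
      rw [monomial_sum_one]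
      rfl
    obtain ⟨_, ⟨i, rfl⟩, hi⟩ := h2 (∑ i, Finsupp.single i 1) (by
      rw [hm, support_monomial, if_neg one_ne_zero, Finset.mem_singleton])
    have := hi i
    simp only [Finsupp.single_eq_same, Finsupp.finset_sum_apply, Finsupp.single_apply,
      Finset.sum_ite_eq', Finset.mem_univ, if_true] at this
    have := hpp.two_le
    omega
  have hdeg : f.totalDegree = t.degree := by
    rw [hhom.totalDegree (fun h => ht (by rw [h, coeff_zero]))]
    exact ((Finsupp.degree_eq_weight_one (R := ℕ) ▸ hhom ht)).symm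
  obtain ⟨s, hs, hs0⟩ := combinatorial_nullstellensatz_exists_eval_nonzero f t ht hdeg
    (fun _ => Finset.univ.image (algebraMap k K)) fun j => by
      rw [Finset.card_image_of_injective _ (algebraMap k K).injective, Finset.card_univ, hcard]
      exact (htp j).trans_le (Nat.le_self_pow hn0.ne' p)
  choose x _ hx using fun j => Finset.mem_image.1 (hs j)
  refine ⟨x, fun i hi => hs0 ?_⟩
  simp only [f, map_prod]
  refine Finset.prod_eq_zero (Finset.mem_univ i) ?_
  simp only [L, map_sum, map_mul, eval_C, eval_X, ← hx, hi]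


/-- Let k be a finite field with algebraic closure K, V a finite-dimensional vector space over k, and
θ₁, …, θₙ a basis of the dual of the K-vector space K ⊗ V. Then there is x ∈ V with θᵢ(1 ⊗ x) ≠ 0
for every i. -/
theorem result (k : Type u) [Field k] [Finite k]
    (V : Type u) [AddCommGroup V] [Module k V] [Module.Finite k V] {ι : Type} [Fintype ι]
    (θ : Module.Basis ι (AlgebraicClosure k) (Module.Dual (AlgebraicClosure k) (AlgebraicClosure k ⊗[k] V))) :
    ∃ x : V, ∀ i : ι, θ i ((1 : AlgebraicClosure k) ⊗ₜ[k] x) ≠ 0 := by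
  classical
  let K := AlgebraicClosure k
  let b := Module.finBasis k V
  let bK := b.baseChange K
  let w : ι → K ⊗[k] V := fun i => (Module.evalEquiv K (K ⊗[k] V)).symm (θ.coord i)
  have hw : ∀ i l, θ i (w l) = if i = l then 1 else 0 := by
    intro i l
    rw [Module.apply_evalEquiv_symm_apply, Module.Basis.coord_apply, Module.Basis.repr_self, Finsupp.single_apply]
  obtain ⟨x, hx⟩ := exists_forall_ne_zero (k := k) (K := K) (fun i j => θ i (bK j)) (fun j l => bK.repr (w l) j)
    (fun i l => by
      rw [← hw i l]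
      conv_rhs => rw [← bK.sum_repr (w l), map_sum]
      simp only [map_smul, smul_eq_mul, mul_comm])
  refine ⟨∑ j, x j • b j, fun i h => hx i ?_⟩
  rw [← h, TensorProduct.tmul_sum, map_sum]
  refine Finset.sum_congr rfl fun j _ => ?_
  rw [TensorProduct.tmul_smul, ← algebraMap_smul K (x j), map_smul, smul_eq_mul, mul_comm, Module.Basis.baseChange_apply]


end Groth.Agent.S8383
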