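import Groth.Statements.S8384
import Groth.Agent.HomLiftCpl.Basic

set_option autoImplicit false
universe u
open CategoryTheory MonoidalCategory CartesianMonoidalCategory MonObj GrpObj AlgebraicGeometry
open SGA3x

namespace Groth.Agent.S8384

/-- Let A be a local ring, separated and complete for the topology defined by its maximal ideal m, S =
Spec A and Sₙ = Spec(A/mⁿ). Then for every scheme X the canonical map Hom(S, X) → lim Hom(Sₙ, X) is
bijective: two morphisms S → X that agree on every Sₙ are equal, and every family of morphisms Sₙ →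
X compatible with the closed immersions Sₙ → Sₙ₊₁ is induced by a morphism S → X. -/
theorem result (A : Type u) [CommRing A] [IsLocalRing A]
    [IsAdicComplete (IsLocalRing.maximalIdeal A) A] (X : Scheme.{u}) :
    (∀ f g : (Spec (CommRingCat.of A)) ⟶ X,
      (∀ n : ℕ, (Spec.map (CommRingCat.ofHom (Ideal.Quotient.mk ((IsLocalRing.maximalIdeal A) ^ n)))) ≫ f = (Spec.map (CommRingCat.ofHom (Ideal.Quotient.mk ((IsLocalRing.maximalIdeal A) ^ n)))) ≫ g) → f = g) ∧
    (∀ u : (n : ℕ) → (Spec (CommRingCat.of (A ⧸ (IsLocalRing.maximalIdeal A) ^ n)) ⟶ X),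
      (∀ n : ℕ, (Spec.map (CommRingCat.ofHom (Ideal.Quotient.factor
          (Ideal.pow_le_pow_right (I := (IsLocalRing.maximalIdeal A)) (Nat.le_succ n))))) ≫ u (n + 1) = u n) →
      ∃ f : (Spec (CommRingCat.of A)) ⟶ X, ∀ n : ℕ, (Spec.map (CommRingCat.ofHom (Ideal.Quotient.mk ((IsLocalRing.maximalIdeal A) ^ n)))) ≫ f = u n) := by
  set m := IsLocalRing.maximalIdeal A with hm
  have hpt : ∀ p q : Spec (CommRingCat.of (A ⧸ m ^ 1)), p = q := by
    intro p q
    have hinj : Function.Injective
        (PrimeSpectrum.comap (Ideal.Quotient.mk (m ^ 1))) :=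
      PrimeSpectrum.comap_injective_of_surjective _ Ideal.Quotient.mk_surjective
    have key : ∀ r : PrimeSpectrum (A ⧸ m ^ 1),
        (PrimeSpectrum.comap (Ideal.Quotient.mk (m ^ 1)) r).asIdeal = m := by
      intro r
      refine ((IsLocalRing.maximalIdeal.isMaximal A).eq_of_le
        (PrimeSpectrum.comap (Ideal.Quotient.mk (m ^ 1)) r).isPrime.ne_top ?_).symm
      intro x hx
      show Ideal.Quotient.mk (m ^ 1) x ∈ r.asIdeal
      rw [Ideal.Quotient.eq_zero_iff_mem.mpr (by rwa [pow_one])]
      exact r.asIdeal.zero_mem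
    exact hinj (PrimeSpectrum.ext ((key p).trans (key q).symm))
  let z : Spec (CommRingCat.of A) := IsLocalRing.closedPoint A
  refine ⟨fun f g h => ?_, fun u hu => ?_⟩
  · obtain ⟨_, ⟨V, hV, rfl⟩, hzV, -⟩ :=
      X.isBasis_affineOpens.exists_subset_of_mem_open (Set.mem_univ (f.base z)) isOpen_univ
    refine HomLiftCpl.ext_of_affine m V hV f g (fun p => ?_) h
    have hp : (HomLiftCpl.cl m).base p = z := by
      have : (HomLiftCpl.cl m).base p ∈ Set.range (HomLiftCpl.cl m).base := ⟨p, rfl⟩
      rw [HomLiftCpl.range_cl] at this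
      exact PrimeSpectrum.ext (((IsLocalRing.maximalIdeal.isMaximal A).eq_of_le
        (PrimeSpectrum.isPrime _).ne_top this).symm)
    rw [Scheme.Hom.comp_apply, hp]
    exact hzV
  · let w : Spec (CommRingCat.of A) := z
    have hne : Nonempty (Spec (CommRingCat.of (A ⧸ m ^ 1))) := by
      have : z ∈ Set.range (HomLiftCpl.cl (m ^ 1)).base := by
        rw [HomLiftCpl.range_cl, pow_one]
        exact le_refl m
      exact ⟨this.choose⟩
    obtain ⟨_, ⟨V, hV, rfl⟩, hzV, -⟩ :=
      X.isBasis_affineOpens.exists_subset_of_mem_open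
        (Set.mem_univ ((u 1).base hne.some)) isOpen_univ
    exact HomLiftCpl.exists_of_affine m V hV u hu (fun p => hpt hne.some p ▸ hzV)

end Groth.Agent.S8384
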