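import Groth.Statements.S8385
import Groth.Agent.HomLiftCpl.Semilocal

set_option autoImplicit false
universe u
open CategoryTheory MonoidalCategory CartesianMonoidalCategory MonObj GrpObj AlgebraicGeometry
open SGA3x

namespace Groth.Agent.S8385

/-- Let A be a complete Noetherian local ring with maximal ideal m, S = Spec A, Sₙ = Spec(A/mⁿ), X =
Spec B a scheme finite over S (B a finite A-algebra) and Y an S-scheme. Then the canonical map
Hom_S(X, Y) → lim Hom_{Sₙ}(Xₙ, Yₙ), Xₙ = Spec(B/mⁿB), is bijective: two S-morphisms X → Y agreeing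
on every Xₙ are equal, and every family of S-morphisms Xₙ → Y compatible with the closed immersions
Xₙ → Xₙ₊₁ comes from an S-morphism X → Y. -/
theorem result (A : Type u) [CommRing A] [IsLocalRing A]
    [IsNoetherianRing A] [IsAdicComplete (IsLocalRing.maximalIdeal A) A] (B : Type u) [CommRing B] [Algebra A B]
    [Module.Finite A B] (Y : Over (Spec (CommRingCat.of A))) :
    (∀ f g : Spec (CommRingCat.of B) ⟶ Y.left, f ≫ Y.hom = Spec.map (CommRingCat.ofHom (algebraMap A B)) →
      g ≫ Y.hom = Spec.map (CommRingCat.ofHom (algebraMap A B)) →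
      (∀ n : ℕ, Spec.map (CommRingCat.ofHom (Ideal.Quotient.mk (Ideal.map (algebraMap A B) ((IsLocalRing.maximalIdeal A) ^ n)))) ≫ f =
        Spec.map (CommRingCat.ofHom (Ideal.Quotient.mk (Ideal.map (algebraMap A B) ((IsLocalRing.maximalIdeal A) ^ n)))) ≫ g) → f = g) ∧
    (∀ u : (n : ℕ) → (Spec (CommRingCat.of (B ⧸ (Ideal.map (algebraMap A B) ((IsLocalRing.maximalIdeal A) ^ n)))) ⟶ Y.left),
      (∀ n : ℕ, u n ≫ Y.hom =
        Spec.map (CommRingCat.ofHom ((Ideal.Quotient.mk (Ideal.map (algebraMap A B) ((IsLocalRing.maximalIdeal A) ^ n))).comp (algebraMap A B)))) →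
      (∀ n : ℕ, Spec.map (CommRingCat.ofHom (Ideal.Quotient.factor
          (Ideal.map_mono (Ideal.pow_le_pow_right (I := (IsLocalRing.maximalIdeal A)) (Nat.le_succ n))))) ≫ u (n + 1) = u n) →
      ∃ f : Spec (CommRingCat.of B) ⟶ Y.left, f ≫ Y.hom = Spec.map (CommRingCat.ofHom (algebraMap A B)) ∧
        ∀ n : ℕ, Spec.map (CommRingCat.ofHom (Ideal.Quotient.mk (Ideal.map (algebraMap A B) ((IsLocalRing.maximalIdeal A) ^ n)))) ≫ f = u n) := by
  set m := IsLocalRing.maximalIdeal A with hm
  set I := Ideal.map (algebraMap A B) m with hI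
  haveI : IsAdicComplete m B := HomLiftCpl.isAdicComplete_of_finite m
  haveI hcI : IsAdicComplete I B := (IsAdicComplete.map_algebraMap_iff (I := m) (S := B) (M := B)).mpr inferInstance
  haveI : IsArtinianRing (B ⧸ I) := by
    haveI : m.IsMaximal := IsLocalRing.maximalIdeal.isMaximal A
    haveI : IsArtinianRing (A ⧸ m) := by
      letI := Ideal.Quotient.field m
      infer_instance
    letI : Algebra (A ⧸ m) (B ⧸ I) :=
      (Ideal.quotientMap I (algebraMap A B) Ideal.le_comap_map).toAlgebra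
    haveI : IsScalarTower A (A ⧸ m) (B ⧸ I) := IsScalarTower.of_algebraMap_eq fun _ => rfl
    haveI : Module.Finite (A ⧸ m) (B ⧸ I) := Module.Finite.of_restrictScalars_finite A _ _
    exact IsArtinianRing.of_finite (A ⧸ m) (B ⧸ I)
  obtain ⟨hext, hex⟩ := HomLiftCpl.ext_and_exists I Y.left
  obtain ⟨hextA, -⟩ := HomLiftCpl.ext_and_exists I (Spec (CommRingCat.of A))
  have hle : ∀ n : ℕ, Ideal.map (algebraMap A B) (m ^ n) ≤ I ^ n := fun n =>
    (Ideal.map_pow _ _ _).le
  have hge : ∀ n : ℕ, I ^ n ≤ Ideal.map (algebraMap A B) (m ^ n) := fun n =>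
    (Ideal.map_pow _ _ _).ge
  have key : ∀ {Z : Scheme.{u}} (n : ℕ) (f : Spec (CommRingCat.of B) ⟶ Z),
      HomLiftCpl.cl (I ^ n) ≫ f = Spec.map (CommRingCat.ofHom (Ideal.Quotient.factor (hle n))) ≫
        HomLiftCpl.cl (Ideal.map (algebraMap A B) (m ^ n)) ≫ f := by
    intro Z n f
    rw [← Category.assoc, ← Spec.map_comp]
    rfl
  refine ⟨fun f g _ _ h => hext f g fun n => ?_, fun u hu hc => ?_⟩
  · rw [key, key]
    exact congrArg (_ ≫ ·) (h n)
  · obtain ⟨f, hf⟩ := hex
      (fun n => Spec.map (CommRingCat.ofHom (Ideal.Quotient.factor (hle n))) ≫ u n) (fun n => by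
        conv_rhs => rw [← hc n]
        rw [← Category.assoc, ← Category.assoc, ← Spec.map_comp, ← Spec.map_comp]
        congr 2
        ext x
        rfl)
    refine ⟨f, hextA _ _ fun n => ?_, fun n => ?_⟩
    · rw [← Category.assoc, hf, Category.assoc, hu, ← Spec.map_comp, ← Spec.map_comp]
      rfl
    · have h := congrArg (Spec.map (CommRingCat.ofHom (Ideal.Quotient.factor (hge n))) ≫ ·) (hf n)
      simp only [key, ← Category.assoc, ← Spec.map_comp, ← CommRingCat.ofHom_comp] at h
      have hid : (Ideal.Quotient.factor (hle n)).comp (Ideal.Quotient.factor (hge n)) =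
          RingHom.id _ := Ideal.Quotient.ringHom_ext (by ext; rfl)
      have hid' : (Ideal.Quotient.factor (hge n)).comp (Ideal.Quotient.factor (hle n)) =
          RingHom.id _ := Ideal.Quotient.ringHom_ext (by ext; rfl)
      simp only [hid, hid', CommRingCat.ofHom_id, Spec.map_id, Category.id_comp] at h
      rw [← h]
      rfl

end Groth.Agent.S8385
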