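import Groth.Statements.S8389
import Groth.Agent.PowEtCentralLib.CompleteLift

set_option autoImplicit false
universe u
open CategoryTheory MonoidalCategory CartesianMonoidalCategory MonObj GrpObj AlgebraicGeometry
open SGA3x

namespace Groth.Agent.S8389

/-- Let A be a complete Noetherian local ring with residue field k, S = Spec A, S₀ = Spec k the closed
point, M an S-group scheme of multiplicative type which is smooth and finite over S, G an S-group
scheme flat and of finite type over S, and u₀ : M₀ → G₀ a central homomorphism between the closed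
fibres. Then u₀ is the restriction of exactly one homomorphism u : M → G; and u is central when the
fibres of G are connected. -/
theorem result (A : Type u) [CommRing A]
    [IsLocalRing A] [IsNoetherianRing A] [IsAdicComplete (IsLocalRing.maximalIdeal A) A]
    (M : Over (Spec (CommRingCat.of A))) [GrpObj M] [IsFinite M.hom] [Smooth M.hom] (hM : SGA3x.IsMultTypeFT M)
    (G : Over (Spec (CommRingCat.of A))) [GrpObj G] [Flat G.hom] [QuasiCompact G.hom] [LocallyOfFiniteType G.hom]
    (u₀ : Red.bc (Spec.map (CommRingCat.ofHom (Ideal.Quotient.mk (IsLocalRing.maximalIdeal A)))) M ⟶ Red.bc (Spec.map (CommRingCat.ofHom (Ideal.Quotient.mk (IsLocalRing.maximalIdeal A)))) G) [IsMonHom u₀]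
    (hc₀ : ∀ (X : Over _) (x : X ⟶ Red.bc (Spec.map (CommRingCat.ofHom (Ideal.Quotient.mk (IsLocalRing.maximalIdeal A)))) M) (g : X ⟶ Red.bc (Spec.map (CommRingCat.ofHom (Ideal.Quotient.mk (IsLocalRing.maximalIdeal A)))) G), (x ≫ u₀) * g = g * (x ≫ u₀)) :
    (∃ u : M ⟶ G, IsMonHom u ∧ (Over.pullback (Spec.map (CommRingCat.ofHom (Ideal.Quotient.mk (IsLocalRing.maximalIdeal A))))).map u = u₀ ∧
      ∀ u' : M ⟶ G, IsMonHom u' → (Over.pullback (Spec.map (CommRingCat.ofHom (Ideal.Quotient.mk (IsLocalRing.maximalIdeal A))))).map u' = u₀ → u' = u) ∧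
    ((∀ s : (Spec (CommRingCat.of A)), _root_.IsConnected (G.hom.base ⁻¹' {s})) →
      ∀ u : M ⟶ G, IsMonHom u → (Over.pullback (Spec.map (CommRingCat.ofHom (Ideal.Quotient.mk (IsLocalRing.maximalIdeal A))))).map u = u₀ →
        ∀ (X : Over (Spec (CommRingCat.of A))) (x : X ⟶ M) (g : X ⟶ G), (x ≫ u) * g = g * (x ≫ u)) := by
  haveI : IsLocallyNoetherian G.left := LocallyOfFiniteType.isLocallyNoetherian G.hom
  haveI : LocallyOfFinitePresentation G.hom := inferInstance
  haveI : QuasiSeparated G.hom := inferInstance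
  obtain ⟨u, hu, hres, huniq⟩ := PowEtCentralLib.exists_lift_complete G M hM u₀ hc₀
  refine ⟨⟨u, hu, hres, huniq⟩, fun hconn u' hu' hres' X x g => ?_⟩
  haveI := hu'
  have hconn' : ∀ t : (Spec (CommRingCat.of A)),
      ConnectedSpace ↥(Limits.pullback G.hom ((Spec (CommRingCat.of A)).fromSpecResidueField t)) := by
    intro t
    have hr : _root_.IsConnected
        (Set.range (Limits.pullback.fst G.hom ((Spec (CommRingCat.of A)).fromSpecResidueField t)).base) := by
      have he : Set.range (Limits.pullback.fst G.hom ((Spec (CommRingCat.of A)).fromSpecResidueField t)).base =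
          G.hom.base ⁻¹' {t} := by
        rw [Scheme.Pullback.range_fst, Scheme.range_fromSpecResidueField]
      rw [he]
      exact hconn t
    exact connectedSpace_iff_univ.mpr ⟨by
        obtain ⟨_, ⟨p, -⟩⟩ := hr.nonempty
        exact ⟨p, trivial⟩,
      (Scheme.Hom.isEmbedding (Limits.pullback.fst G.hom
        ((Spec (CommRingCat.of A)).fromSpecResidueField t))).isInducing.isPreconnected_image.mp
          (by rw [Set.image_univ]; exact hr.isPreconnected)⟩
  set s := IsLocalRing.closedPoint A
  let i := Spec.map (CommRingCat.ofHom (Ideal.Quotient.mk (IsLocalRing.maximalIdeal A)))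
  obtain ⟨U, hsU, hU⟩ := Groth.Agent.S5295.result M G hM hconn' u' s (fun Y g' h' => by
    let κ := (Spec (CommRingCat.of A)).fromSpecResidueField s
    haveI : IsClosedImmersion i := IsClosedImmersion.spec_of_surjective _ Ideal.Quotient.mk_surjective
    obtain ⟨h₀, rfl⟩ := ((Over.mapPullbackAdj κ).homEquiv Y M).surjective h'
    obtain ⟨g₀, rfl⟩ := ((Over.mapPullbackAdj κ).homEquiv Y G).surjective g'
    rw [← Adjunction.homEquiv_naturality_right, ← AlgGrp.Action.homEquiv_mul, ← AlgGrp.Action.homEquiv_mul]
    congr 1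
    have hsurj : Surjective (PowEtCentralLib.inc i ((Over.map κ).obj Y)).left := by
      refine PowEtCentralLib.surjective_inc_of_range i ?_
      rintro _ ⟨z, rfl⟩
      show (Y.hom ≫ κ).base z ∈ Set.range i.base
      rw [Scheme.Hom.comp_apply, Scheme.fromSpecResidueField_apply]
      exact (HomLiftCpl.range_cl (IsLocalRing.maximalIdeal A)).symm ▸ (le_refl (IsLocalRing.maximalIdeal A))
    let P : Over (Spec (CommRingCat.of A)) := Over.mk κ
    let k : (Over.map κ).obj Y ⟶ P := Over.homMk Y.hom rfl
    haveI : IsReduced P.left :=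
      inferInstanceAs (IsReduced (Spec ((Spec (CommRingCat.of A)).residueField s)))
    haveI : Surjective (PowEtCentralLib.inc i P).left := by
      refine PowEtCentralLib.surjective_inc_of_range i ?_
      rintro _ ⟨z, rfl⟩
      show κ.base z ∈ Set.range i.base
      rw [Scheme.fromSpecResidueField_apply]
      exact (HomLiftCpl.range_cl (IsLocalRing.maximalIdeal A)).symm ▸ (le_refl (IsLocalRing.maximalIdeal A))
    haveI : IsIso (PowEtCentralLib.inc i P).left := isIso_of_isClosedImmersion_of_surjective _
    haveI := PowEtCentralLib.isIso_inc_of_hom i k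
    haveI : IsIso (PowEtCentralLib.inc i ((Over.map κ).obj Y)) := by
      haveI : IsIso ((Over.forget _).map (PowEtCentralLib.inc i ((Over.map κ).obj Y))) := ‹_›
      exact isIso_of_reflects_iso _ (Over.forget _)
    rw [← cancel_epi (PowEtCentralLib.inc i ((Over.map κ).obj Y)), MonObj.comp_mul, MonObj.comp_mul,
      (PowEtCentralLib.tau_eq_iff i u₀ h₀ (h₀ ≫ u')).mpr (by rw [Functor.map_comp, hres'])]
    exact (PowEtCentralLib.tau_central i u₀ hc₀ _ _).symm)
  have hUtop : ∀ t : (Spec (CommRingCat.of A)), t ∈ U := fun t =>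
    (IsLocalRing.specializes_closedPoint t).mem_open U.isOpen hsU
  have hr : Set.range X.hom.base ⊆ Set.range U.ι.base := by
    rw [Scheme.Opens.range_ι]
    exact fun t _ => hUtop t
  exact (hU X (Over.homMk (IsOpenImmersion.lift U.ι X.hom hr) (IsOpenImmersion.lift_fac _ _ _)) g x).symm

end Groth.Agent.S8389
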