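import Groth.Statements.S8400
import Groth.Agent.LieTorusLib.Bracket
import Groth.Agent.BorelLib.Facts
import Groth.Agent.CentreRedLib.Main
import Groth.Agent.DiagRepLib.Main
import Mathlib.Data.ZMod.Basic
-- import your own Groth.Agent.* helpers here

set_option autoImplicit false
universe u
open CategoryTheory MonoidalCategory CartesianMonoidalCategory MonObj GrpObj AlgebraicGeometry
open SGA3x

attribute [-instance] CategoryTheory.Hom.commGroup

namespace Groth.Agent.S8400

/-- Let G be a smooth, connected, affine algebraic group over an algebraically closed field k whose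
reductive centre is trivial (every central subgroup scheme of multiplicative type is trivial), and
suppose the Lie algebra of G is nilpotent. Then the maximal tori of G are trivial: G contains no
non-trivial subtorus. (The published statement concludes that G is unipotent, i.e. has a composition
series with quotients isomorphic to 𝔾_a; this row concludes only that G contains no non-trivial
subtorus.) -/
theorem result (k : Type u) [Field k] [IsAlgClosed k]
    (G : Over (Spec (CommRingCat.of k))) [GrpObj G] [Smooth G.hom] [QuasiCompact G.hom] [IsAffine G.left] [ConnectedSpace ↥G.left]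
    (hZ : ∀ (Z : Over (Spec (CommRingCat.of k))) [GrpObj Z] (z : Z ⟶ G) [IsMonHom z] [Mono z], SGA3x.IsMultTypeFT Z →
      (∀ (X : Over (Spec (CommRingCat.of k))) (x : X ⟶ Z) (g : X ⟶ G), (x ≫ z) * g = g * (x ≫ z)) → Red.IsTrivialGrp Z)
    (L : Type u) [LieRing L] [LieAlgebra k L] (m : LieS.Model G k (Spec.map (CommRingCat.ofHom (algebraMap k k))) L) (hL : LieRing.IsNilpotent L) :
    Red.HasNoSubtorus k G := by
  classical
  letI := CoactBr.braidedAlgSpecOf (R := CommRingCat.of k)
  intro T _ j _ _ hT
  obtain ⟨A, _, _, v, hv, hA, hred⟩ := BorelLib.exists_setup G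
  haveI := hv; haveI := hA; haveI := hred
  haveI : IsNoetherianRing A := Algebra.FiniteType.isNoetherianRing k A
  letI := BorelLib.pTop (k := k) (R := A)
  obtain ⟨hKc, hK⟩ := BorelLib.facts_top v
  haveI : IsDomain A := BorelLib.isDomain_of_irreducible (k := k) (by
    simpa using BorelLib.isIrreducible_of_connected hKc hK)
  obtain ⟨r, w, hw, -, -, -, -, -⟩ := BorelLib.torus_facts hT
  haveI := hw
  let i : CoactBr.sp k (BorelLib.Lr k r) ⟶ CoactBr.sp k A := w.hom ≫ j ≫ v.inv
  haveI : IsMonHom i := inferInstanceAs (IsMonHom (w.hom ≫ j ≫ v.inv))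
  haveI : Mono i := inferInstanceAs (Mono (w.hom ≫ j ≫ v.inv))
  let q := ringChar k
  let π : (Fin r → ℤ) →+ (Fin r → ZMod q) :=
    { toFun := fun m t => (m t : ZMod q)
      map_zero' := funext fun t => Int.cast_zero
      map_add' := fun a b => funext fun t => Int.cast_add _ _ }
  have hsq : ∀ (a : A) (n : Multiplicative (Fin r → ℤ)), π (Multiplicative.toAdd n) ≠ 0 →
      RCentre.wt i a n ∈ (RingHom.ker (Bialgebra.counitAlgHom k A)) ^ 2 := by
    intro a n hn
    obtain ⟨t, ht⟩ := Function.ne_iff.1 hn
    have htk : ((Multiplicative.toAdd n t : ℤ) : k) ≠ 0 := fun h => ht (by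
      show ((Multiplicative.toAdd n t : ℤ) : ZMod q) = 0
      rw [ZMod.intCast_zmod_eq_zero_iff_dvd]
      exact (CharP.intCast_eq_zero_iff k q _).1 h)
    let δ : (Fin r → ℤ) →+ k :=
      { toFun := fun m => ((Multiplicative.toAdd n t : ℤ) : k)⁻¹ * (m t : k)
        map_zero' := by simp
        map_add' := fun a b => by simp [mul_add] }
    exact LieTorus.wt_mem_sq v i m hL δ a n (inv_mul_cancel₀ htk)
  let P : BorelLib.Lr k r →ₐc[k] MonoidAlgebra k (Multiplicative (Fin r → ZMod q)) :=
    MonoidAlgebra.mapDomainBialgHom k (AddMonoidHom.toMultiplicative π)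
  let Pa : BorelLib.Lr k r →ₐ[k] MonoidAlgebra k (Multiplicative (Fin r → ZMod q)) := P
  haveI : IsMonHom (CoactBr.pt Pa) := SekSuwa.isMonHom_specHom P
  have hPs : ∀ m : Multiplicative (Fin r → ℤ),
      Pa (MonoidAlgebra.single m 1) = MonoidAlgebra.single (AddMonoidHom.toMultiplicative π m) 1 := fun m =>
    MonoidAlgebra.mapDomainBialgHom_single _ _ _
  have hsurj : Function.Surjective Pa := by
    intro x
    induction x using MonoidAlgebra.induction_linear with
    | zero => exact ⟨0, map_zero _⟩
    | add a b ha hb =>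
      obtain ⟨a', rfl⟩ := ha
      obtain ⟨b', rfl⟩ := hb
      exact ⟨a' + b', map_add _ _ _⟩
    | single m c =>
      choose l hl using fun t => ZMod.intCast_surjective (n := q) (Multiplicative.toAdd m t)
      refine ⟨c • MonoidAlgebra.single (Multiplicative.ofAdd l) 1, ?_⟩
      rw [map_smul, hPs, MonoidAlgebra.smul_single, smul_eq_mul, _root_.mul_one]
      congr 1
      exact funext hl
  haveI : IsClosedImmersion (CoactBr.pt Pa).left := by
    rw [CoactBr.pt_left]
    exact IsClosedImmersion.spec_of_surjective _ hsurj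
  haveI : Mono (CoactBr.pt Pa) := Over.mono_of_mono_left _
  let z : CoactBr.sp k (MonoidAlgebra k (Multiplicative (Fin r → ZMod q))) ⟶ G := CoactBr.pt Pa ≫ i ≫ v.hom
  haveI : IsMonHom z := inferInstanceAs (IsMonHom (CoactBr.pt Pa ≫ i ≫ v.hom))
  haveI : Mono z := inferInstanceAs (Mono (CoactBr.pt Pa ≫ i ≫ v.hom))
  have hcentral : ∀ (X : Over (Spec (CommRingCat.of k)))
      (x : X ⟶ CoactBr.sp k (MonoidAlgebra k (Multiplicative (Fin r → ZMod q)))) (g : X ⟶ G),
      (x ≫ z) * g = g * (x ≫ z) := by
    intro X x g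
    letI := RCentre.algΓ X
    have h1 := RCentre.mul_comm_of_weights i (x ≫ CoactBr.pt Pa) (fun a n => ?_) (g ≫ v.inv)
    · rw [← cancel_mono v.inv, MonObj.mul_comp, MonObj.mul_comp]
      simpa [z] using h1
    by_cases hn : π (Multiplicative.toAdd n) = 0
    · have hfn : RCentre.fn (x ≫ CoactBr.pt Pa) = (RCentre.fn x).comp Pa := by
        refine RCentre.fn_unique ?_
        rw [RCentre.toSp_fn, CoactBr.pt_comp, ← Category.assoc, RCentre.toSp_fn]
      have h2 : AddMonoidHom.toMultiplicative π n = 1 := congrArg Multiplicative.ofAdd hn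
      rw [hfn, AlgHom.comp_apply, hPs, h2, ← MonoidAlgebra.one_def, map_one, sub_self, TensorProduct.tmul_zero]
    · rw [LieTorus.wt_eq_zero i π hsq a n hn, TensorProduct.zero_tmul]
  haveI : Module.Finite ℤ (Fin r → ZMod q) :=
    Module.Finite.of_surjective π.toIntLinearMap fun m => by
      choose l hl using fun t => ZMod.intCast_surjective (n := q) (m t)
      exact ⟨l, funext hl⟩
  obtain ⟨e, he, he'⟩ := TorusField.exists_DS_iso k (Fin r → ZMod q)
  haveI := he
  have htriv : IsIso (CoactBr.sp k (MonoidAlgebra k (Multiplicative (Fin r → ZMod q)))).hom :=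
    hZ _ z (CentreRed.isMultTypeFT_of_iso _ (Module.Finite.iff_addGroup_fg.1 inferInstance) e) hcentral
  have hr : r = 0 := by
    by_contra hr0
    have hbij : Function.Bijective (algebraMap k (MonoidAlgebra k (Multiplicative (Fin r → ZMod q)))) := by
      let f := CommRingCat.ofHom (algebraMap k (MonoidAlgebra k (Multiplicative (Fin r → ZMod q))))
      haveI : IsIso (Scheme.Spec.map f.op) := htriv
      haveI : IsIso f.op := isIso_of_fully_faithful Scheme.Spec f.op
      haveI : IsIso f := isIso_of_op f
      exact ConcreteCategory.bijective_of_isIso (CommRingCat.ofHom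
        (algebraMap k (MonoidAlgebra k (Multiplicative (Fin r → ZMod q)))))
    haveI : Fact (q ≠ 1) := ⟨CharP.ringChar_ne_one⟩
    haveI : Nontrivial (ZMod q) := ZMod.nontrivial_iff.2 CharP.ringChar_ne_one
    obtain ⟨c, hc⟩ := hbij.2 (MonoidAlgebra.single (Multiplicative.ofAdd (fun _ : Fin r => (1 : ZMod q))) 1)
    have hne : (Multiplicative.ofAdd (fun _ : Fin r => (1 : ZMod q))) ≠ 1 := fun h =>
      one_ne_zero (congrFun (congrArg Multiplicative.toAdd h) ⟨0, Nat.pos_of_ne_zero hr0⟩)
    have h3 := congrArg (fun t => t.coeff (Multiplicative.ofAdd (fun _ : Fin r => (1 : ZMod q)))) hc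
    simp [MonoidAlgebra.coe_algebraMap, hne] at h3
  subst hr
  have hbij0 : Function.Bijective (algebraMap k (BorelLib.Lr k 0)) := by
    refine ⟨(algebraMap k (BorelLib.Lr k 0)).injective, fun x => ⟨x.coeff 1, ?_⟩⟩
    refine MonoidAlgebra.ext (Finsupp.ext fun b' => ?_)
    rw [Subsingleton.elim b' 1]
    simp [MonoidAlgebra.coe_algebraMap]
  haveI : IsIso (CommRingCat.ofHom (algebraMap k (BorelLib.Lr k 0))) :=
    (ConcreteCategory.isIso_iff_bijective _).2 hbij0
  haveI : IsIso (CoactBr.sp k (BorelLib.Lr k 0)).hom :=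
    inferInstanceAs (IsIso (Spec.map (CommRingCat.ofHom (algebraMap k (BorelLib.Lr k 0)))))
  haveI : IsIso w.inv.left := (Over.forget _).map_isIso w.inv
  show IsIso T.hom
  rw [← Over.w w.inv]
  infer_instance

end Groth.Agent.S8400
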