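import Groth.Statements.S8403
import Groth.Agent.MaxTorusRankLib.Cartan

set_option autoImplicit false
universe u
open CategoryTheory MonoidalCategory CartesianMonoidalCategory MonObj GrpObj AlgebraicGeometry
open SGA3x

attribute [-instance] CategoryTheory.Hom.commGroup
attribute [local instance] CoactBr.braidedAlgSpecOf
set_option backward.isDefEq.respectTransparency false

namespace Groth.Agent.S8403

/-- Let G be an affine smooth algebraic group over a field k, T a torus in G and C its centralizer. Then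
the nilpotent rank of G (the dimension of the Cartan subgroups of G over an algebraic closure of k)
is at most dim C. -/
theorem result (k : Type u) [Field k]
    (G : Over (Spec (CommRingCat.of k))) [GrpObj G] [Smooth G.hom] [QuasiCompact G.hom] [IsAffine G.left]
    (T : Over (Spec (CommRingCat.of k))) [GrpObj T] (j : T ⟶ G) [IsMonHom j] [Mono j] (hT : Red.IsTorus T)
    (C : Over (Spec (CommRingCat.of k))) [GrpObj C] (c : C ⟶ G) (hC : Red.IsCentralizerOf j c)
    (s : ↥(Spec (CommRingCat.of k))) (C' : Over (Spec (CommRingCat.of (AlgebraicClosure ((Spec (CommRingCat.of k)).residueField s))))) [GrpObj C']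
    (c' : C' ⟶ Red.geomFibre s G) (hC' : SGA3x.IsCartanOver (AlgebraicClosure ((Spec (CommRingCat.of k)).residueField s)) c') :
    topologicalKrullDim ↥C'.left ≤ topologicalKrullDim ↥C.left := by
  obtain ⟨hc'm, hc'mono, T', _, i', hi', hcent⟩ := hC'
  let p := Red.geomPt s
  haveI : IsAffineHom G.hom := inferInstance
  have hci : IsClosedImmersion j.left :=
    Transporter.isClosedImmersion_of_mono (RedRank.locally_of_isTorus hT) inferInstance j
  obtain ⟨C₀, _, c₀, hC₀, hcc, hsm⟩ := (S3006.result _ G T j hci hT).1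
  haveI := hC.2.1; haveI := hC₀.2.1
  obtain ⟨a, ha⟩ := (hC.2.2 _ c₀).2 ((hC₀.2.2 _ c₀).1 ⟨𝟙 _, Category.id_comp _⟩)
  obtain ⟨b, hb⟩ := (hC₀.2.2 _ c).2 ((hC.2.2 _ c).1 ⟨𝟙 _, Category.id_comp _⟩)
  let ε : C₀ ≅ C :=
    { hom := a
      inv := b
      hom_inv_id := by rw [← cancel_mono c₀, Category.assoc, hb, ha, Category.id_comp]
      inv_hom_id := by rw [← cancel_mono c, Category.assoc, ha, hb, Category.id_comp] }
  haveI := hcc; haveI := hsm
  haveI : IsAffineHom C₀.hom := by rw [← Over.w c₀]; infer_instance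
  haveI := RedRank.isAffineHom_bc G p
  haveI : Smooth (Red.bc p G).hom := MorphismProperty.pullback_snd (P := @Smooth) _ _ inferInstance
  haveI : IsAffine (Red.bc p G).left := isAffine_of_isAffineHom (Red.bc p G).hom
  haveI : IsMonHom (M := Red.bc p T) (N := Red.bc p G) ((Over.pullback p).map j) := DiagRep.isMonHom_bc_map p j
  haveI : Mono ((Over.pullback p).map j) := by
    haveI : (Over.pullback p).IsRightAdjoint := (Over.mapPullbackAdj p).isRightAdjoint
    infer_instance
  obtain ⟨r, v, hv, hv', -⟩ := RedRank.exists_torus_rank (RedRank.isTorus_bc hT p)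
  haveI := hv; haveI := hv'
  obtain ⟨r', jt, q, hq, -, hjt⟩ := MaxTorusRank.exists_maxTorus_ge (Red.bc p G) (v.hom ≫ (Over.pullback p).map j)
  haveI := hjt.1; haveI := hjt.2.1
  obtain ⟨Ct, _, ct, hCt, hCc, -⟩ :=
    (S3006.result _ (Red.bc p G) _ jt (RedRank.isClosedImmersion_of_mono_sp jt) hjt.2.2.1).1
  haveI := hCc
  obtain ⟨e⟩ := MaxTorusRank.exists_iso_centralizers (MaxTorusRank.isMaxTorus_of_isMaximalTorus hi') hjt hcent hCt
  have hpC := MaxTorusRank.isCentralizerOf_bc hC₀ p
  haveI := hpC.1
  obtain ⟨k', hk'⟩ := MaxTorusRank.exists_centralizer_map (𝟙 (Red.bc p G)) hCt hpC fun X x => ⟨x ≫ v.inv ≫ q, by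
    simp [hq]⟩
  rw [Category.comp_id] at hk'
  haveI := RedRank.isAffineHom_bc C₀ p
  haveI : IsSeparated (((Over.pullback p).map c₀).left ≫ (Red.bc p G).hom) := by
    rw [Over.w]; exact inferInstanceAs (IsSeparated (Red.bc p C₀).hom)
  haveI : IsSeparated ((Over.pullback p).map c₀).left := IsSeparated.of_comp _ (Red.bc p G).hom
  haveI : IsClosedImmersion (k'.left ≫ ((Over.pullback p).map c₀).left) := by
    rw [← Over.comp_left, hk']; infer_instance
  haveI : IsClosedImmersion k'.left := IsClosedImmersion.of_comp k'.left ((Over.pullback p).map c₀).left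
  let h₁ := Scheme.homeoOfIso ((Over.forget _).mapIso e)
  refine (IsHomeomorph.topologicalKrullDim_eq h₁ h₁.isHomeomorph).trans_le
    (k'.left.isClosedEmbedding.isInducing.topologicalKrullDim_le.trans ?_)
  rw [MaxTorusRank.dim_bc_eq C₀ p]
  let h₂ := Scheme.homeoOfIso ((Over.forget _).mapIso ε)
  haveI : Subsingleton ↥(Spec (CommRingCat.of k)) := inferInstanceAs (Subsingleton (PrimeSpectrum k))
  refine Topology.IsInducing.subtypeVal.topologicalKrullDim_le.trans ?_
  exact (IsHomeomorph.topologicalKrullDim_eq h₂ h₂.isHomeomorph).le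

end Groth.Agent.S8403
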