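import Groth.Statements.S8405
import Groth.Agent.AntiAffLib.Centre
import Groth.Agent.MonoQuotLib.QuotGrp
-- import your own Groth.Agent.* helpers here

set_option autoImplicit false
set_option backward.isDefEq.respectTransparency false
universe u
open CategoryTheory MonoidalCategory CartesianMonoidalCategory MonObj GrpObj AlgebraicGeometry
open SGA3x

namespace Groth.Agent.S8405

/-- Let G be a connected algebraic group (a group scheme of finite type) over a field k, z : Z → G the
centre of G and q : G → Q a morphism representing the fppf quotient G/Z. Then Q is an affine scheme.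
(The published statement allows any subgroup of finite index in the centre; this row takes Z to be
the centre itself.) -/
theorem result (k : Type u) [Field k]
    (G : Over (Spec (CommRingCat.of k))) [GrpObj G] [QuasiCompact G.hom] [LocallyOfFiniteType G.hom] [ConnectedSpace ↥G.left]
    (Z : Over (Spec (CommRingCat.of k))) [GrpObj Z] (z : Z ⟶ G) (hZ : Red.IsCentre z)
    (Q : Over (Spec (CommRingCat.of k))) (q : G ⟶ Q) (hq : RedSub.IsQuotient z q) : IsAffine Q.left := by
  obtain ⟨hs, hf, hl, hsq⟩ := hq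
  haveI := hs; haveI := hf; haveI := hl
  obtain ⟨Z₀, _, i, _, _, hiff, Q₀, _, q₀, _, _, _, _, _, hk₀⟩ := AntiAffLib.exists_centre G
  obtain ⟨-, -, hc⟩ := hZ
  have hj : ∀ (T : Over (Spec (CommRingCat.of k))) (g : T ⟶ G), (∃ w, w ≫ z = g) ↔ g ≫ q₀ = 1 := by
    intro T g
    rw [show (∃ w, w ≫ z = g) ↔ ∃ w, w ≫ i = g by rw [hiff, hc]; simp only [Category.comp_id]]
    constructor
    · rintro ⟨w, rfl⟩
      rw [Category.assoc, hk₀.w, ← Category.assoc, toUnit_unique (w ≫ toUnit Z₀) (toUnit T), ← Hom.one_def]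
    · exact fun h => ⟨hk₀.lift g (toUnit _) (by rw [h, Hom.one_def]), hk₀.lift_fst _ _ _⟩
  have key : ∀ (T : Over (Spec (CommRingCat.of k))) (a b : T ⟶ G), a ≫ q = b ≫ q ↔ a ≫ q₀ = b ≫ q₀ := by
    intro T a b
    rw [Groth.Agent.MonoQuot.coset_iff hsq]
    constructor
    · rintro ⟨h, rfl⟩
      rw [MonObj.mul_comp, (hj T (h ≫ z)).1 ⟨h, rfl⟩, _root_.mul_one]
    · intro e
      obtain ⟨w, hw⟩ := (hj T (a⁻¹ * b)).2 (by rw [MonObj.mul_comp, GrpObj.inv_comp, e, inv_mul_cancel])
      exact ⟨w, by rw [hw, mul_inv_cancel_left]⟩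
  haveI : IsLocallyNoetherian Q₀.left := LocallyOfFiniteType.isLocallyNoetherian Q₀.hom
  haveI : LocallyOfFinitePresentation q₀.left := by
    haveI : LocallyOfFiniteType (q₀.left ≫ Q₀.hom) := by rw [Over.w q₀]; infer_instance
    haveI := locallyOfFiniteType_of_comp q₀.left Q₀.hom
    exact LocallyOfFinitePresentation.iff_locallyOfFiniteType.2 inferInstance
  obtain ⟨y, hy⟩ := Groth.Agent.MonoQuot.exists_desc_over q q₀ fun T a b => (key T a b).1
  obtain ⟨y', hy'⟩ := Groth.Agent.MonoQuot.exists_desc_over q₀ q fun T a b => (key T a b).2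
  haveI := Groth.Agent.MonoQuot.epi_over q
  haveI := Groth.Agent.MonoQuot.epi_over q₀
  haveI : IsIso y := ⟨y', by rw [← cancel_epi q, ← Category.assoc, hy, hy', Category.comp_id],
    by rw [← cancel_epi q₀, ← Category.assoc, hy', hy, Category.comp_id]⟩
  haveI : IsIso y.left := inferInstanceAs (IsIso ((Over.forget _).map y))
  exact IsAffine.of_isIso y.left
end Groth.Agent.S8405
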