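import Groth.Statements.S8408
import Groth.Agent.BorelLib.NonAffTori
import Groth.Agent.BorelLib.MaxTorGeom
import Groth.Agent.CentreRedLib.Main
import Groth.Agent.CartanMultLib.Factor
import Groth.Agent.MultTorusLib.Univ
import Groth.Agent.MaxTorConjLib.EtaleBC
import Groth.Agent.CentLocusLib.Com
-- import your own Groth.Agent.* helpers here

set_option autoImplicit false
set_option maxHeartbeats 2000000
set_option synthInstance.maxHeartbeats 400000
set_option backward.isDefEq.respectTransparency false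
universe u
open CategoryTheory MonoidalCategory CartesianMonoidalCategory MonObj GrpObj AlgebraicGeometry
open SGA3x

namespace Groth.Agent.S8408

attribute [-instance] CategoryTheory.Hom.commGroup
attribute [local instance] BorelLib.pTop BorelLib.pTopTensor

open Groth.Agent.BorelLib CategoryTheory.Limits

variable {k : Type u} [Field k] [IsAlgClosed k] {G : Over (Spec (CommRingCat.of k))} [GrpObj G]

/-- The normalising points of `c`. -/
def Nml {C : Over (Spec (CommRingCat.of k))} (c : C ⟶ G) {X : Over (Spec (CommRingCat.of k))} (g : X ⟶ G) : Prop :=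
  ∀ (X' : Over (Spec (CommRingCat.of k))) (x : X' ⟶ X) (h : X' ⟶ C),
    (∃ h' : X' ⟶ C, (x ≫ g) * (h ≫ c) * (x ≫ g)⁻¹ = h' ≫ c) ∧
    (∃ h' : X' ⟶ C, (x ≫ g)⁻¹ * (h ≫ c) * (x ≫ g) = h' ≫ c)

theorem Nml.inv {C : Over (Spec (CommRingCat.of k))} {c : C ⟶ G} {X : Over (Spec (CommRingCat.of k))} {g : X ⟶ G}
    (h : Nml c g) : Nml c g⁻¹ := fun X' x a => by
  obtain ⟨h1, h2⟩ := h X' x a
  simp only [GrpObj.comp_inv, _root_.inv_inv]
  exact ⟨h2, h1⟩

theorem Nml.comp {C : Over (Spec (CommRingCat.of k))} {c : C ⟶ G} {X Y : Over (Spec (CommRingCat.of k))} {g : X ⟶ G}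
    (h : Nml c g) (y : Y ⟶ X) : Nml c (y ≫ g) := fun X' x a => by
  rw [← Category.assoc]
  exact h X' (x ≫ y) a

section

variable {T C : Over (Spec (CommRingCat.of k))} [GrpObj T] [GrpObj C] {i : T ⟶ G} {c : C ⟶ G}

theorem comm_of_centralizer (hC : Red.IsCentralizerOf i c) {W : Over (Spec (CommRingCat.of k))} (a : W ⟶ C)
    (t : W ⟶ T) : (a ≫ c) * (t ≫ i) = (t ≫ i) * (a ≫ c) := by
  have h := (hC.2.2 W (a ≫ c)).1 ⟨a, rfl⟩ W (𝟙 W) t
  rwa [Category.id_comp] at h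

/-- A normaliser of the centraliser conjugates `T` into points commuting with the centraliser. -/
theorem conj_comm (hC : Red.IsCentralizerOf i c) {W : Over (Spec (CommRingCat.of k))} {g : W ⟶ G} (hg : Nml c g)
    (t : W ⟶ T) (a : W ⟶ C) :
    (g * (t ≫ i) * g⁻¹) * (a ≫ c) = (a ≫ c) * (g * (t ≫ i) * g⁻¹) := by
  obtain ⟨b, hb⟩ := (hg W (𝟙 W) a).2
  rw [Category.id_comp] at hb
  have e : a ≫ c = g * (b ≫ c) * g⁻¹ := by rw [← hb]; group
  rw [e]
  calc g * (t ≫ i) * g⁻¹ * (g * (b ≫ c) * g⁻¹) = g * ((t ≫ i) * (b ≫ c)) * g⁻¹ := by group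
    _ = g * ((b ≫ c) * (t ≫ i)) * g⁻¹ := by rw [comm_of_centralizer hC b t]
    _ = g * (b ≫ c) * g⁻¹ * (g * (t ≫ i) * g⁻¹) := by group

/-- Normalisers of `T` normalise its centraliser. -/
theorem nml_centralizer (hC : Red.IsCentralizerOf i c) {X : Over (Spec (CommRingCat.of k))} {g : X ⟶ G}
    (hg : Nml i g) : Nml c g := by
  have key : ∀ {X : Over (Spec (CommRingCat.of k))} {g : X ⟶ G}, Nml i g → ∀ (a : X ⟶ C),
      ∃ a' : X ⟶ C, g * (a ≫ c) * g⁻¹ = a' ≫ c := by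
    intro X g hg a
    obtain ⟨a', ha'⟩ := (hC.2.2 X (g * (a ≫ c) * g⁻¹)).2 fun X' x t => by
      obtain ⟨t', ht'⟩ := (hg X' x t).2
      have e : t ≫ i = (x ≫ g) * (t' ≫ i) * (x ≫ g)⁻¹ := by rw [← ht']; group
      rw [e, MonObj.comp_mul, MonObj.comp_mul, GrpObj.comp_inv, ← Category.assoc x a c]
      calc (x ≫ g) * ((x ≫ a) ≫ c) * (x ≫ g)⁻¹ * ((x ≫ g) * (t' ≫ i) * (x ≫ g)⁻¹)
          = (x ≫ g) * (((x ≫ a) ≫ c) * (t' ≫ i)) * (x ≫ g)⁻¹ := by group
        _ = (x ≫ g) * ((t' ≫ i) * ((x ≫ a) ≫ c)) * (x ≫ g)⁻¹ := by rw [comm_of_centralizer hC]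
        _ = (x ≫ g) * (t' ≫ i) * (x ≫ g)⁻¹ * ((x ≫ g) * ((x ≫ a) ≫ c) * (x ≫ g)⁻¹) := by group
    exact ⟨a', ha'.symm⟩
  intro X' x a
  have h1 := key (hg.comp x) a
  have h2 := key (hg.comp x).inv a
  rw [_root_.inv_inv] at h2
  exact ⟨h1, h2⟩

end

variable [Smooth G.hom] [QuasiCompact G.hom] [ConnectedSpace G.left]

/-- The affine part is normal. -/
theorem conj_affinePart (S : NA.Split G) {X : Over (Spec (CommRingCat.of k))} (g : X ⟶ G) (a : X ⟶ S.L) :
    ∃ a' : X ⟶ S.L, a' ≫ S.l = g * (a ≫ S.l) * g⁻¹ := by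
  haveI : Smooth (S.L ⊗ G).hom := inferInstanceAs (Smooth (pullback.fst S.L.hom G.hom ≫ S.L.hom))
  haveI : AlgebraicGeometry.IsReduced (S.L ⊗ G).left := AlgSpLib.isReduced_of_smooth (S.L ⊗ G).hom
  obtain ⟨f, hf⟩ := NA.exists_factor_of_pts
    ((snd S.L G) * (fst S.L G ≫ S.l) * (snd S.L G)⁻¹) S.l fun p => by
      obtain ⟨u, v, huv⟩ := S.hmul (p ≫ snd S.L G)
      refine ⟨u * (p ≫ fst S.L G) * u⁻¹, ?_⟩
      rw [MonObj.comp_mul, MonObj.comp_mul, GrpObj.comp_inv, ← huv, MonObj.mul_comp, MonObj.mul_comp,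
        GrpObj.inv_comp, Category.assoc]
      have hv := S.hcentral _ v (p ≫ fst S.L G ≫ S.l)
      calc (u ≫ S.l) * (p ≫ fst S.L G ≫ S.l) * (u ≫ S.l)⁻¹
          = (u ≫ S.l) * ((p ≫ fst S.L G ≫ S.l) * (v ≫ S.d)) * (v ≫ S.d)⁻¹ * (u ≫ S.l)⁻¹ := by group
        _ = (u ≫ S.l) * ((v ≫ S.d) * (p ≫ fst S.L G ≫ S.l)) * (v ≫ S.d)⁻¹ * (u ≫ S.l)⁻¹ := by rw [hv]
        _ = (u ≫ S.l) * (v ≫ S.d) * (p ≫ fst S.L G ≫ S.l) * ((u ≫ S.l) * (v ≫ S.d))⁻¹ := by group
  refine ⟨lift a g ≫ f, ?_⟩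
  rw [Category.assoc, hf]
  simp only [MonObj.comp_mul, GrpObj.comp_inv, lift_fst_assoc, lift_snd]

/-- A normaliser of the Cartan subgroup conjugates points of the maximal torus into the torus. -/
theorem conj_torus {T C : Over (Spec (CommRingCat.of k))} [GrpObj T] [GrpObj C] {i : T ⟶ G} {c : C ⟶ G}
    (hT : Red.IsMaximalTorus i) (hC : Red.IsCentralizerOf i c) {X : Over (Spec (CommRingCat.of k))} {g : X ⟶ G}
    (hg : Nml c g) (h : X ⟶ T) : ∃ h' : X ⟶ T, g * (h ≫ i) * g⁻¹ = h' ≫ i := by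
  haveI := hT.1; haveI := hT.2.1; haveI := hC.1; haveI := hC.2.1
  obtain ⟨S⟩ := NA.exists_split (G := G)
  haveI : Mono S.l := DiagRep.mono_of_isClosedImmersion S.l inferInstance
  haveI : QuasiCompact S.L.hom := inferInstance
  obtain ⟨j₀, hj, hjm, hjmono⟩ := NA.exists_lift_torus S i hT.2.2.1
  subst hj
  haveI := hjm; haveI := hjmono
  have hmax : AGF.IsMaxTorus j₀ := (NA.isMaxTorus_iff S).1 (isMaxTorus_of_isMaximalTorus hT)
  -- the affine Cartan subgroup
  obtain ⟨-, -, -, -, -, hclL⟩ := NA.torus_props j₀ hT.2.2.1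
  obtain ⟨⟨CL, _, cL, hcL, hcLc, hcLs⟩, -⟩ := Groth.Agent.S3006.result _ S.L T j₀ hclL hT.2.2.1
  haveI := hcL.1; haveI := hcL.2.1; haveI := hcLc; haveI := hcLs
  haveI : IsAffine CL.left := isAffine_of_isAffineHom cL.left
  have hTC : ∀ (W : Over (Spec (CommRingCat.of k))) (t : W ⟶ T), ∃ a : W ⟶ C, a ≫ c = t ≫ j₀ ≫ S.l := fun W t =>
    (hC.2.2 W _).2 fun W' x u => by
      rw [← Category.assoc x t, ← MonObj.mul_comp, ← MonObj.mul_comp, CartanMult.mul_comm_torus hT.2.2.1 (x ≫ t) u]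
  obtain ⟨tL, htL⟩ := (hcL.2.2 T j₀).2 fun W' x u => by
    rw [← MonObj.mul_comp, ← MonObj.mul_comp, CartanMult.mul_comm_torus hT.2.2.1 x u]
  haveI : IsMonHom (tL ≫ cL) := htL.symm ▸ hjm
  haveI : Mono (tL ≫ cL) := htL.symm ▸ hjmono
  haveI : IsMonHom tL := DiagRep.isMonHom_of_comp_mono tL cL
  haveI : Mono tL := mono_of_mono tL cL
  -- its reductive centre and the torus in it
  obtain ⟨Z, _, zc, hzm, hzmono, hZ, hzcen, huniv⟩ := CentreRed.exists_reductiveCentre CL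
  haveI := hzm; haveI := hzmono
  obtain ⟨_, htm, htmax⟩ := MultTorus.exists_unique_maximalTorus hZ
  haveI := htm; haveI := htmax.2.1
  have hTcen : ∀ (W : Over (Spec (CommRingCat.of k))) (t : W ⟶ T) (a : W ⟶ CL),
      (t ≫ tL) * a = a * (t ≫ tL) := fun W t a => by
    rw [← cancel_mono cL, MonObj.mul_comp, MonObj.mul_comp, Category.assoc, htL]
    exact (comm_of_centralizer hcL a t).symm
  let π₀ := 𝟙 (Spec (CommRingCat.of k))
  let eCL : Red.bc π₀ CL ≅ CL := (Over.pullbackId (X := Spec (CommRingCat.of k))).app CL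
  haveI : IsMonHom (M := Red.bc π₀ CL) (N := CL) eCL.hom := CartanMult.isMonHom_pullbackId CL
  haveI : IsMonHom (M := CL) (N := Red.bc π₀ CL) eCL.inv := inferInstance
  obtain ⟨f, hf⟩ : ∃ f : T ⟶ MultTorus.torus Z, f ≫ MultTorus.torIncl Z ≫ zc = tL := by
    obtain ⟨w, hw⟩ := huniv _ π₀ T (tL ≫ eCL.inv) (RedRank.isMultTypeFT_of_isTorus hT.2.2.1) fun W t a => by
      rw [← cancel_mono eCL.hom, MonObj.mul_comp, MonObj.mul_comp]
      simp only [Category.assoc, Iso.inv_hom_id, Category.comp_id]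
      exact hTcen W t _
    let eZ : Red.bc π₀ Z ≅ Z := (Over.pullbackId (X := Spec (CommRingCat.of k))).app Z
    have hw' : (w ≫ eZ.hom) ≫ zc = tL := by
      have nat : (Over.pullback π₀).map zc ≫ eCL.hom = eZ.hom ≫ zc :=
        (Over.pullbackId (X := Spec (CommRingCat.of k))).hom.naturality zc
      rw [Category.assoc, ← nat, ← Category.assoc, hw, Category.assoc, eCL.inv_hom_id, Category.comp_id]
    haveI : IsMonHom ((w ≫ eZ.hom) ≫ zc) := hw'.symm ▸ inferInstance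
    haveI : IsMonHom (w ≫ eZ.hom) := DiagRep.isMonHom_of_comp_mono (w ≫ eZ.hom) zc
    obtain ⟨f, hf⟩ := MultTorus.exists_factor hT.2.2.1 (w ≫ eZ.hom)
    exact ⟨f, by rw [← Category.assoc, hf, hw']⟩
  let p : MultTorus.torus Z ⟶ S.L := MultTorus.torIncl Z ≫ zc ≫ cL
  haveI : IsIso f := hmax.2.2.2 (MultTorus.torus Z) p f htmax.2.2.1
    (by rw [← htL, ← hf]; simp only [p, Category.assoc])
  -- conjugation over `X`
  let π := X.hom
  let adj := Over.mapPullbackAdj π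
  let one : Over X.left := 𝟙_ (Over X.left)
  let e : (Over.map π).obj one ≅ X := Over.isoMk (Iso.refl _) (by simp [one, π])
  let P : Over X.left := Red.bc π T
  let h₀ : (Over.map π).obj P ⟶ T := (adj.homEquiv P T).symm (𝟙 P)
  let x : (Over.map π).obj P ⟶ X := (Over.map π).map (toUnit P) ≫ e.hom
  have hgx : Nml c (x ≫ g) := hg.comp x
  obtain ⟨aL, haL⟩ := conj_affinePart S (x ≫ g) (h₀ ≫ j₀)
  obtain ⟨z, hz⟩ := (hcL.2.2 _ aL).2 fun W u t => by
    rw [← cancel_mono S.l, MonObj.mul_comp, MonObj.mul_comp, Category.assoc, Category.assoc, haL]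
    obtain ⟨a, ha⟩ := hTC W t
    rw [← ha]
    simp only [MonObj.comp_mul, GrpObj.comp_inv, Category.assoc]
    rw [← Category.assoc u h₀]
    simpa only [Category.assoc] using conj_comm hC (hgx.comp u) (u ≫ h₀) a
  have hzG : z ≫ cL ≫ S.l = (x ≫ g) * (h₀ ≫ j₀ ≫ S.l) * (x ≫ g)⁻¹ := by
    rw [← Category.assoc, hz, haL]
    simp only [Category.assoc]
  -- it is a central homomorphism
  let ψ : P ⟶ Red.bc π CL := adj.homEquiv P CL z
  let gam : one ⟶ Red.bc π G := adj.homEquiv one G (e.hom ≫ g)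
  let φG : ∀ (W : Over X.left), ((Over.map π).obj W ⟶ G) →* (W ⟶ Red.bc π G) := fun W =>
    MonoidHom.mk' (fun q => adj.homEquiv W G q) (fun q q' => AlgGrp.Action.homEquiv_mul π q q')
  haveI : IsMonHom (M := Red.bc π CL) (N := Red.bc π G) ((Over.pullback π).map (cL ≫ S.l)) :=
    DiagRep.isMonHom_bc_map π (cL ≫ S.l)
  haveI : Mono ((Over.pullback π).map (cL ≫ S.l)) := BorelLib.mono_bc π (cL ≫ S.l)
  haveI : IsMonHom (M := Red.bc π T) (N := Red.bc π G) ((Over.pullback π).map (j₀ ≫ S.l)) :=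
    DiagRep.isMonHom_bc_map π (j₀ ≫ S.l)
  have hψ : ψ ≫ (Over.pullback π).map (cL ≫ S.l) =
      (Over.pullback π).map (j₀ ≫ S.l) ≫ AGF.conjBy gam (𝟙 (Red.bc π G)) := by
    have e1 : (φG P) (x ≫ g) = toUnit P ≫ gam := by
      show adj.homEquiv P G (x ≫ g) = _
      rw [← adj.homEquiv_naturality_left]
      simp only [x, Category.assoc]
    have e2 : (φG P) (h₀ ≫ j₀ ≫ S.l) = (Over.pullback π).map (j₀ ≫ S.l) := by
      show adj.homEquiv P G (h₀ ≫ j₀ ≫ S.l) = _
      rw [adj.homEquiv_naturality_right, Equiv.apply_symm_apply, Category.id_comp]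
    have e3 : ψ ≫ (Over.pullback π).map (cL ≫ S.l) = (φG P) (z ≫ cL ≫ S.l) :=
      (adj.homEquiv_naturality_right z (cL ≫ S.l)).symm
    rw [e3, hzG, map_mul, map_mul, map_inv, e1, e2, ← DiagRep.conjBy_eq_comp]
  haveI : IsMonHom ψ := by
    haveI := DiagRep.isMonHom_conjBy gam
    haveI : IsMonHom (ψ ≫ (Over.pullback π).map (cL ≫ S.l)) := by rw [hψ]; infer_instance
    exact DiagRep.isMonHom_of_comp_mono ψ ((Over.pullback π).map (cL ≫ S.l))
  obtain ⟨w, hw⟩ := huniv _ π P ψ (RedRank.isMultTypeFT_of_isTorus (RedRank.isTorus_bc hT.2.2.1 π)) fun W y a => by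
    obtain ⟨y₀, rfl⟩ := (adj.homEquiv W T).surjective y
    obtain ⟨a₀, rfl⟩ := (adj.homEquiv W CL).surjective a
    rw [← adj.homEquiv_naturality_left, ← AlgGrp.Action.homEquiv_mul, ← AlgGrp.Action.homEquiv_mul]
    congr 1
    rw [← cancel_mono (cL ≫ S.l), MonObj.mul_comp, MonObj.mul_comp, Category.assoc, hzG]
    obtain ⟨a', ha'⟩ := (hC.2.2 _ (a₀ ≫ cL ≫ S.l)).2 fun W' u t => by
      simp only [← Category.assoc]
      rw [← MonObj.mul_comp, ← MonObj.mul_comp]
      exact congrArg (· ≫ S.l) (comm_of_centralizer hcL (u ≫ a₀) t)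
    rw [← ha']
    simp only [MonObj.comp_mul, GrpObj.comp_inv]
    rw [← Category.assoc _ h₀]
    exact conj_comm hC (hgx.comp _) _ a'
  haveI : IsMonHom (M := Red.bc π Z) (N := Red.bc π CL) ((Over.pullback π).map zc) := DiagRep.isMonHom_bc_map π zc
  haveI : Mono ((Over.pullback π).map zc) := BorelLib.mono_bc π zc
  haveI : IsMonHom (w ≫ (Over.pullback π).map zc) := hw.symm ▸ inferInstance
  haveI : IsMonHom w := DiagRep.isMonHom_of_comp_mono w ((Over.pullback π).map zc)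
  obtain ⟨v, hv⟩ := MultTorus.exists_factor_bc π (RedRank.isTorus_bc hT.2.2.1 π) w
  -- evaluate at the point
  let y : one ⟶ P := adj.homEquiv one T (e.hom ≫ h)
  obtain ⟨t₀, ht₀⟩ := (adj.homEquiv one (MultTorus.torus Z)).surjective (y ≫ v)
  have h5 : (Over.map π).map y ≫ z = t₀ ≫ MultTorus.torIncl Z ≫ zc := by
    apply (adj.homEquiv one CL).injective
    rw [adj.homEquiv_naturality_left, adj.homEquiv_naturality_right, ht₀, Functor.map_comp]
    show y ≫ ψ = _
    rw [← hw, ← hv]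
    simp only [Category.assoc]
  have h6 : (Over.map π).map y ≫ x = e.hom := by
    simp only [x, ← Category.assoc, ← Functor.map_comp]
    rw [toUnit_unique (y ≫ toUnit P) (𝟙 one), (Over.map π).map_id, Category.id_comp]
  have h7 : (Over.map π).map y ≫ h₀ = e.hom ≫ h := by
    rw [← adj.homEquiv_naturality_left_symm, Category.comp_id, Equiv.symm_apply_apply]
  refine ⟨e.inv ≫ t₀ ≫ inv f, ?_⟩
  rw [← cancel_epi e.hom]
  have h8 : inv f ≫ j₀ = p := by
    rw [IsIso.inv_comp_eq, ← htL, ← hf]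
    simp only [p, Category.assoc]
  calc e.hom ≫ (g * (h ≫ j₀ ≫ S.l) * g⁻¹)
      = (Over.map π).map y ≫ z ≫ cL ≫ S.l := by
        simp only [hzG, MonObj.comp_mul, GrpObj.comp_inv, ← Category.assoc, h6, h7]
    _ = t₀ ≫ p ≫ S.l := by
        rw [← Category.assoc, h5]
        simp only [p, Category.assoc]
    _ = _ := by
        rw [← h8]
        simp

/-- Let G be a smooth connected algebraic group (not necessarily affine) over an algebraically closed
field k, T a maximal torus of G and C = Centr_G(T) the corresponding Cartan subgroup. Then Norm_G(C)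
= Norm_G(T): a subgroup scheme n : N → G represents the normalizer of C if and only if it represents
the normalizer of T. (The published item c) says more about the Cartan subgroup C; this row states
only its last assertion, the equality of the two normalizers.) -/
theorem result (k : Type u) [Field k] [IsAlgClosed k]
    (G : Over (Spec (CommRingCat.of k))) [GrpObj G] [Smooth G.hom] [QuasiCompact G.hom] [ConnectedSpace ↥G.left]
    (T : Over (Spec (CommRingCat.of k))) [GrpObj T] (i : T ⟶ G) (hT : Red.IsMaximalTorus i)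
    (C : Over (Spec (CommRingCat.of k))) [GrpObj C] (c : C ⟶ G) (hC : Red.IsCentralizerOf i c)
    (N : Over (Spec (CommRingCat.of k))) [GrpObj N] (n : N ⟶ G) :
    Red.IsNormalizerOf c n ↔ Red.IsNormalizerOf i n := by
  haveI := hT.1
  have key : ∀ (X : Over (Spec (CommRingCat.of k))) (g : X ⟶ G), Nml c g ↔ Nml i g := fun X g =>
    ⟨fun hg X' x h => by
      obtain ⟨h1, hh1⟩ := conj_torus hT hC (hg.comp x) h
      obtain ⟨h2, hh2⟩ := conj_torus hT hC (hg.comp x).inv h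
      rw [_root_.inv_inv] at hh2
      exact ⟨⟨h1, hh1⟩, ⟨h2, hh2⟩⟩,
    fun hg => nml_centralizer hC hg⟩
  exact ⟨fun hn => ⟨hn.1, hn.2.1, fun X g => (hn.2.2 X g).trans (key X g)⟩,
    fun hn => ⟨hn.1, hn.2.1, fun X g => (hn.2.2 X g).trans (key X g).symm⟩⟩

end Groth.Agent.S8408
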