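import Groth.Statements.S8412
import Groth.Agent.BorelLib.NormOpen
import Groth.Agent.TorsTupleLib.SubCartan
-- import your own Groth.Agent.* helpers here

set_option autoImplicit false
set_option maxHeartbeats 4000000
set_option synthInstance.maxHeartbeats 400000
set_option backward.isDefEq.respectTransparency false
universe u
open CategoryTheory MonoidalCategory CartesianMonoidalCategory MonObj GrpObj AlgebraicGeometry
open SGA3x

attribute [-instance] CategoryTheory.Hom.commGroup

namespace Groth.Agent.S8412

open Groth.Agent.BorelLib
attribute [local instance] BorelLib.pTop BorelLib.pTopTensor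

/-- Let G be an S-group scheme, smooth and of finite presentation over S with connected fibres, and i :
H → G a monomorphism of S-groups with H smooth over S, such that every geometric fibre H_s̄ is
connected and contains a Cartan subgroup of G_s̄ (has the same reductive and nilpotent ranks). Then
a subgroup scheme C of H is a Cartan subgroup of H if and only if it is a Cartan subgroup of G. -/
theorem result (S : Scheme.{u}) (G : Over S) [GrpObj G]
    [Smooth G.hom] [QuasiCompact G.hom] [QuasiSeparated G.hom] (hconn : ∀ s : S, _root_.IsConnected (G.hom.base ⁻¹' {s}))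
    (H : Over S) [GrpObj H] [Smooth H.hom] (i : H ⟶ G) [IsMonHom i] [Mono i]
    (hHconn : ∀ s : S, ConnectedSpace ↥(Red.geomFibre s H).left)
    (hHC : ∀ s : S, ∃ (C' : Over (Spec (CommRingCat.of (AlgebraicClosure (S.residueField s))))) (_ : GrpObj C')
      (c' : C' ⟶ Red.geomFibre s H), SGA3x.IsCartanOver _ (c' ≫ (Over.pullback (Red.geomPt s)).map i))
    (C : Over S) [GrpObj C] (c : C ⟶ H) :
    SGA3x.IsCartan c ↔ SGA3x.IsCartan (c ≫ i) := by
  haveI : QuasiCompact H.hom := quasiCompact_of_geom_connected H hHconn
  have key : ∀ (hm : IsMonHom c) (hmo : Mono c) (s : S),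
      SGA3x.IsCartanOver (AlgebraicClosure (S.residueField s)) ((Over.pullback (Red.geomPt s)).map c) ↔
        SGA3x.IsCartanOver (AlgebraicClosure (S.residueField s)) ((Over.pullback (Red.geomPt s)).map (c ≫ i)) := by
    intro hm hmo s
    let ξ := Red.geomPt s
    haveI : Smooth (Red.geomFibre s G).hom := MorphismProperty.pullback_snd (P := @Smooth) _ _ inferInstance
    haveI : QuasiCompact (Red.geomFibre s G).hom := MorphismProperty.pullback_snd (P := @QuasiCompact) _ _ inferInstance
    haveI : Smooth (Red.geomFibre s H).hom := MorphismProperty.pullback_snd (P := @Smooth) _ _ inferInstance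
    haveI : QuasiCompact (Red.geomFibre s H).hom := MorphismProperty.pullback_snd (P := @QuasiCompact) _ _ inferInstance
    haveI := DiagRep.isMonHom_bc_map ξ i
    haveI := BorelLib.mono_bc ξ i
    haveI := DiagRep.isMonHom_bc_map ξ c
    haveI := BorelLib.mono_bc ξ c
    obtain ⟨C', hC'g, c', hC'⟩ := hHC s
    rw [Functor.map_comp]
    exact TorsTuple.isCartanOver_sub_iff ((Over.pullback ξ).map i) hC' ((Over.pullback ξ).map c)
  constructor
  · rintro ⟨hm, hmo, hs, hC⟩
    haveI := hm; haveI := hmo
    exact ⟨inferInstance, inferInstance, hs, fun s => (key hm hmo s).1 (hC s)⟩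
  · rintro ⟨hm, hmo, hs, hC⟩
    haveI := hm; haveI := hmo
    haveI hm' : IsMonHom c := DiagRep.isMonHom_of_comp_mono c i
    haveI hmo' : Mono c := mono_of_mono c i
    exact ⟨hm', hmo', hs, fun s => (key hm' hmo' s).2 (hC s)⟩

end Groth.Agent.S8412
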