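import Groth.Statements.S8413
import Groth.Agent.BorelLib.NormOpen
-- import your own Groth.Agent.* helpers here

set_option autoImplicit false
set_option maxHeartbeats 4000000
set_option synthInstance.maxHeartbeats 400000
set_option backward.isDefEq.respectTransparency false
universe u
open CategoryTheory CategoryTheory.Limits MonoidalCategory CartesianMonoidalCategory MonObj GrpObj AlgebraicGeometry
open SGA3x

attribute [-instance] CategoryTheory.Hom.commGroup

namespace Groth.Agent.S8413

open Groth.Agent.BorelLib
attribute [local instance] BorelLib.pTop BorelLib.pTopTensor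

/-- Let G be an S-group scheme, smooth and of finite presentation over S with connected fibres, and i :
H → G a monomorphism of S-groups with H smooth over S whose geometric fibres are connected and
contain a Cartan subgroup of the corresponding geometric fibre of G. Then H contains every subgroup
scheme Z of G which is central in G and flat and of finite presentation over S. -/
theorem result (S : Scheme.{u}) (G : Over S) [GrpObj G]
    [Smooth G.hom] [QuasiCompact G.hom] [QuasiSeparated G.hom] (hconn : ∀ s : S, _root_.IsConnected (G.hom.base ⁻¹' {s}))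
    (H : Over S) [GrpObj H] [Smooth H.hom] (i : H ⟶ G) [IsMonHom i] [Mono i]
    (hHconn : ∀ s : S, ConnectedSpace ↥(Red.geomFibre s H).left)
    (hHC : ∀ s : S, ∃ (C' : Over (Spec (CommRingCat.of (AlgebraicClosure (S.residueField s))))) (_ : GrpObj C')
      (c' : C' ⟶ Red.geomFibre s H), SGA3x.IsCartanOver _ (c' ≫ (Over.pullback (Red.geomPt s)).map i))
    (Z : Over S) [GrpObj Z] (z : Z ⟶ G) [IsMonHom z] [Mono z] [Flat Z.hom] [QuasiCompact Z.hom]
    [QuasiSeparated Z.hom] [LocallyOfFinitePresentation Z.hom]
    (hc : ∀ (X : Over S) (x : X ⟶ Z) (g : X ⟶ G), (x ≫ z) * g = g * (x ≫ z)) :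
    ∃ f : Z ⟶ H, f ≫ i = z := by
  obtain ⟨N, gN, n, f, hN, hnc, -, -, hf, hfo⟩ := exists_normalizer_open i hHconn hHC
  haveI := hfo; haveI := hN.2.1
  obtain ⟨w, hw⟩ := (hN.2.2 Z z).2 fun X' x h =>
    ⟨⟨h, by rw [hc X' x (h ≫ i), mul_inv_cancel_right]⟩,
      ⟨h, by rw [_root_.mul_assoc, ← hc X' x (h ≫ i), inv_mul_cancel_left]⟩⟩
  have hr : Set.range w.left ⊆ Set.range f.left := by
    rintro _ ⟨y, rfl⟩
    let s := Z.hom y
    obtain ⟨C', _, c', hcm, hcmo, T, _, iT, -, hcent⟩ := hHC s
    let t := Red.geomPt s
    obtain ⟨a, ha⟩ := (hcent.2.2 (Red.geomFibre s Z) ((Over.pullback t).map z)).2 fun X' x h => by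
      obtain ⟨x₀, rfl⟩ := ((Over.mapPullbackAdj t).homEquiv X' Z).surjective x
      obtain ⟨g₀, hg⟩ := (PowEtCentralLib.adjEquiv (G := G) t X').surjective (h ≫ iT)
      have h1 : (Over.mapPullbackAdj t).homEquiv X' Z x₀ ≫ (Over.pullback t).map z =
          PowEtCentralLib.adjEquiv t X' (x₀ ≫ z) :=
        (Adjunction.homEquiv_naturality_right (Over.mapPullbackAdj t) x₀ z).symm
      rw [h1, ← hg, ← map_mul, ← map_mul, hc]
    haveI := mono_bc t n
    have key : (a ≫ c') ≫ (Over.pullback t).map f = (Over.pullback t).map w :=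
      (cancel_mono ((Over.pullback t).map n)).1 (by
        rw [Category.assoc, Category.assoc, ← Functor.map_comp, hf, ← Functor.map_comp, hw, ha])
    obtain ⟨y', hy'⟩ : y ∈ Set.range (pullback.fst Z.hom t) := by
      rw [Scheme.Pullback.range_fst]
      refine ⟨IsLocalRing.closedPoint _, ?_⟩
      show (Spec.map _ ≫ S.fromSpecResidueField s) _ = s
      rw [Scheme.Hom.comp_apply]
      exact Scheme.fromSpecResidueField_apply s _
    refine ⟨pullback.fst H.hom t ((a ≫ c').left y'), ?_⟩
    have e := congrArg (fun φ => φ.left ≫ pullback.fst N.hom t) key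
    simp only [Over.comp_left, Category.assoc] at e
    rw [show ((Over.pullback t).map f).left ≫ pullback.fst N.hom t = pullback.fst H.hom t ≫ f.left from
      pullback.lift_fst _ _ _, show ((Over.pullback t).map w).left ≫ pullback.fst N.hom t =
      pullback.fst Z.hom t ≫ w.left from pullback.lift_fst _ _ _] at e
    have e' := congrArg (fun φ => φ y') e
    simp only [Scheme.Hom.comp_apply, hy', ← Category.assoc] at e' ⊢
    rw [Over.comp_left, Scheme.Hom.comp_apply, ← hy']
    exact e'
  let g : Z.left ⟶ H.left := IsOpenImmersion.lift f.left w.left hr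
  have hg : g ≫ f.left = w.left := IsOpenImmersion.lift_fac _ _ _
  refine ⟨Over.homMk g (by rw [← Over.w f, ← Category.assoc, hg, Over.w w]), ?_⟩
  rw [← hf, ← hw, ← Category.assoc]
  exact congrArg (· ≫ n) (Over.OverMorphism.ext hg)

end Groth.Agent.S8413
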