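import Groth.Statements.S8415
import Groth.Agent.CentMaxTorLib.Pieces
import Groth.Agent.CentMaxTorLib.ArtinCent
import Groth.Agent.BorelLib.BaseChange
import Groth.Agent.TorsTupleLib.CartanDesc
import Groth.Agent.SubDescLib.Swap

set_option autoImplicit false
set_option backward.isDefEq.respectTransparency false
set_option backward.isDefEq.respectTransparency.types false
set_option maxHeartbeats 1000000
set_option synthInstance.maxHeartbeats 400000
universe u
open CategoryTheory MonoidalCategory CartesianMonoidalCategory MonObj GrpObj AlgebraicGeometry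
open SGA3x

attribute [-instance] CategoryTheory.Hom.commGroup
set_option backward.isDefEq.respectTransparency false
set_option maxHeartbeats 1000000
open CategoryTheory.Limits
namespace Groth.Agent.S8415

/-- Let S = Spec A be an Artinian scheme, G an S-group scheme which is smooth and of finite presentation
over S with connected fibres, and H a subgroup scheme of G (a homomorphism H → G which is an
immersion), smooth over S, such that for every s ∈ S the geometric fibre H_s̄ is the centralizer in
G_s̄ of a subtorus of G_s̄. Then H is the centralizer in G of a subtorus of G, and H is closed in G.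
(The published item on closedness also asserts that the normalizer N of H in G is a closed smooth
subgroup scheme, that N/H is represented by a separated etale S-group of finite type and that G/N is
smooth and quasi-projective over S; this row states only that H is closed.) -/
theorem result (A : Type u) [CommRing A] [IsArtinianRing A]
    (G : Over (Spec (CommRingCat.of A))) [GrpObj G] [Smooth G.hom] [QuasiCompact G.hom] [QuasiSeparated G.hom]
    (hconn : ∀ s : ↥(Spec (CommRingCat.of A)), _root_.IsConnected (G.hom.base ⁻¹' {s}))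
    (H : Over (Spec (CommRingCat.of A))) [GrpObj H] [Smooth H.hom] (i : H ⟶ G) [IsMonHom i] [Mono i]
    (hi : IsImmersion i.left) (hH : ∀ s : ↥(Spec (CommRingCat.of A)), ∃ (T' : Over (Spec (CommRingCat.of (AlgebraicClosure ((Spec (CommRingCat.of A)).residueField s)))))
      (_ : GrpObj T') (j' : T' ⟶ Red.geomFibre s G) (_ : IsMonHom j') (_ : Mono j'), Red.IsTorus T' ∧
      Red.IsCentralizerOf j' ((Over.pullback (Red.geomPt s)).map i)) :
    (∃ (T : Over (Spec (CommRingCat.of A))) (_ : GrpObj T) (j : T ⟶ G) (_ : IsMonHom j) (_ : Mono j), Red.IsTorus T ∧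
      Red.IsCentralizerOf j i) ∧ IsClosedImmersion i.left := by
  haveI : IsImmersion i.left := hi
  let S := Spec (CommRingCat.of A)
  let P : PrimeSpectrum A → Scheme.{u} := fun k => Spec (CommRingCat.of (Localization.AtPrime k.asIdeal))
  let q : ∀ k, P k ⟶ S := fun k => Spec.map (CommRingCat.ofHom (algebraMap A (Localization.AtPrime k.asIdeal)))
  haveI hcl : ∀ k, IsClosedImmersion (q k) := fun k =>
    IsClosedImmersion.spec_of_surjective _ (IsArtinianRing.localization_surjective k.asIdeal.primeCompl _)
  haveI hop : ∀ k, IsOpenImmersion (q k) := fun k => by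
    haveI : Flat (q k) := HasRingHomProperty.Spec_iff.2 (RingHom.flat_algebraMap_iff.2 inferInstance)
    haveI : LocallyOfFinitePresentation (q k) := LocallyOfFinitePresentation.iff_locallyOfFiniteType.2 inferInstance
    exact IsOpenImmersion.of_flat_of_mono _
  have hrange : ∀ k, Set.range (q k) = {k} := fun k => by
    refine (PrimeSpectrum.localization_comap_range (Localization.AtPrime k.asIdeal) k.asIdeal.primeCompl).trans ?_
    refine Set.ext fun x => ⟨fun hx => ?_, fun hx => ?_⟩
    · have hle : x.asIdeal ≤ k.asIdeal := fun a ha => by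
        by_contra hak
        exact Set.disjoint_left.1 hx hak ha
      haveI : x.asIdeal.IsMaximal := inferInstance
      exact PrimeSpectrum.ext (Ideal.IsMaximal.eq_of_le ‹_› k.isPrime.ne_top hle)
    · obtain rfl : x = k := hx
      exact Set.disjoint_left.2 fun a ha hak => ha hak
  haveI : IsIso (Sigma.desc q) := by
    haveI : IsOpenImmersion (Sigma.desc q) := isOpenImmersion_sigmaDesc P q fun a b hab => by
      show Disjoint (Set.range (q a)) (Set.range (q b))
      rw [hrange, hrange]
      exact Set.disjoint_singleton.2 hab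
    refine isIso_of_isOpenImmersion_of_opensRange_eq_top _ (eq_top_iff.2 fun x _ => ?_)
    obtain ⟨y, hy⟩ : x ∈ Set.range (q x) := by rw [hrange x]; rfl
    exact ⟨Sigma.ι P x y, by rw [← Scheme.Hom.comp_apply, Sigma.ι_desc]; exact hy⟩
  have hcov : ∀ s : S, ∃ k, s ∈ Set.range (q k) := fun s => ⟨s, by rw [hrange s]; rfl⟩
  have main : ∀ k, ∃ (T : Over (P k)) (_ : GrpObj T) (j : T ⟶ Red.bc (q k) G) (_ : IsMonHom j) (_ : Mono j),
      Red.IsTorus T ∧ Red.IsCentralizerOf (G := Red.bc (q k) G) (Z := Red.bc (q k) H) j ((Over.pullback (q k)).map i) ∧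
        IsClosedImmersion ((Over.pullback (q k)).map i).left := fun k => by
    let s₁ : ↥(P k) := IsLocalRing.closedPoint (Localization.AtPrime k.asIdeal)
    obtain ⟨T', _, j', _, _, hT', hcent⟩ := hH (q k s₁)
    obtain ⟨l, hl⟩ := MaxTorConj.exists_geomPt_factor (q k) s₁
    let eG := ActBC.bcCompIso l (Red.geomPt (q k s₁)) G hl ≪≫ (ActBC.bcCompIso (Red.geomPt s₁) (q k) G rfl).symm
    let eH := (ActBC.bcCompIso (Red.geomPt s₁) (q k) H rfl) ≪≫ (ActBC.bcCompIso l (Red.geomPt (q k s₁)) H hl).symm
    haveI : IsMonHom eG.hom := by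
      haveI : IsMonHom (ActBC.bcCompIso l (Red.geomPt (q k s₁)) G hl).hom := ActBC.bcCompIso_isMonHom _ _ _
      haveI : IsMonHom (ActBC.bcCompIso (Red.geomPt s₁) (q k) G rfl).hom := ActBC.bcCompIso_isMonHom _ _ _
      haveI : IsMonHom (ActBC.bcCompIso (Red.geomPt s₁) (q k) G rfl).symm.hom :=
        inferInstanceAs (IsMonHom (ActBC.bcCompIso (Red.geomPt s₁) (q k) G rfl).inv)
      exact inferInstanceAs (IsMonHom (_ ≫ _))
    haveI : IsMonHom eH.hom := by
      haveI : IsMonHom (ActBC.bcCompIso l (Red.geomPt (q k s₁)) H hl).hom := ActBC.bcCompIso_isMonHom _ _ _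
      haveI : IsMonHom (ActBC.bcCompIso (Red.geomPt s₁) (q k) H rfl).hom := ActBC.bcCompIso_isMonHom _ _ _
      haveI : IsMonHom (ActBC.bcCompIso l (Red.geomPt (q k s₁)) H hl).symm.hom :=
        inferInstanceAs (IsMonHom (ActBC.bcCompIso l (Red.geomPt (q k s₁)) H hl).inv)
      exact inferInstanceAs (IsMonHom (_ ≫ _))
    let j₁ : Red.bc l T' ⟶ Red.geomFibre s₁ (Red.bc (q k) G) := (Over.pullback l).map j' ≫ eG.hom
    haveI : IsMonHom (M := Red.bc l T') (N := Red.bc l (Red.geomFibre (q k s₁) G)) ((Over.pullback l).map j') :=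
      DiagRep.isMonHom_bc_map _ j'
    haveI : IsMonHom j₁ := inferInstanceAs (IsMonHom (_ ≫ _))
    haveI : Mono j₁ := inferInstanceAs (Mono (_ ≫ _))
    have hc₁ : Red.IsCentralizerOf j₁ ((Over.pullback (Red.geomPt s₁)).map ((Over.pullback (q k)).map i)) := by
      refine TorsTuple.isCentralizerOf_transport eG (Iso.refl _) eH (Category.id_comp _) ?_
        (BorelLib.isCentralizerOf_bc l hcent)
      show ((ActBC.bcCompIso _ _ H rfl).hom ≫ (ActBC.bcCompIso l _ H hl).inv) ≫ (Over.pullback l).map _ ≫
        (ActBC.bcCompIso l _ G hl).hom ≫ (ActBC.bcCompIso _ _ G rfl).inv = _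
      rw [ActBC.bcCompIso_hom_naturality_assoc, Category.assoc, Iso.inv_hom_id_assoc,
        ← ActBC.bcCompIso_hom_naturality_assoc, Iso.hom_inv_id, Category.comp_id]
    haveI : Smooth (Red.bc (q k) G).hom := MorphismProperty.pullback_snd (P := @Smooth) _ _ inferInstance
    haveI : QuasiCompact (Red.bc (q k) G).hom := MorphismProperty.pullback_snd (P := @QuasiCompact) _ _ inferInstance
    haveI : Smooth (Red.bc (q k) H).hom := MorphismProperty.pullback_snd (P := @Smooth) _ _ inferInstance
    haveI : IsImmersion ((Over.pullback (q k)).map i).left :=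
      MorphismProperty.of_isPullback (P := @IsImmersion) (SubDesc.isPullback_map_left (q k) i) ‹_›
    haveI : IsMonHom (M := Red.bc (q k) H) (N := Red.bc (q k) G) ((Over.pullback (q k)).map i) :=
      DiagRep.isMonHom_bc_map _ i
    haveI : Mono (X := Red.bc (q k) H) (Y := Red.bc (q k) G) ((Over.pullback (q k)).map i) :=
      inferInstanceAs (Mono ((Over.pullback (q k)).map i))
    have hconn₁ : _root_.IsConnected ((Red.bc (q k) G).hom.base ⁻¹' {s₁}) := by
      have e : (pullback.fst G.hom (q k)) '' ((Red.bc (q k) G).hom.base ⁻¹' {s₁}) = G.hom.base ⁻¹' {q k s₁} := by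
        refine Set.ext fun x => ⟨?_, fun hx => ?_⟩
        · rintro ⟨z, hz, rfl⟩
          show G.hom (pullback.fst G.hom (q k) z) = q k s₁
          rw [← Scheme.Hom.comp_apply, pullback.condition]
          exact congrArg (q k) hz
        · obtain ⟨z, hz₁, hz₂⟩ := Scheme.Pullback.exists_preimage_pullback (f := G.hom) (g := q k) x s₁ hx
          exact ⟨z, hz₂, hz₁⟩
      have h0 := hconn (q k s₁)
      rw [← e] at h0
      exact ⟨h0.nonempty.of_image, (pullback.fst G.hom (q k)).isOpenEmbedding.isInducing.isPreconnected_image.1 h0.2⟩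
    obtain ⟨T, i1, j, i2, i3, hT, hc, hcl'⟩ := CentMaxTor.exists_torus_centralizer_artinian
      (Red.bc (q k) G) s₁ hconn₁ (Red.bc (q k) H) ((Over.pullback (q k)).map i) (Red.bc l T') j₁
      (RedRank.isTorus_bc hT' l) hc₁
    exact ⟨T, i1, j, i2, i3, hT, hc, hcl'⟩
  choose T iT j ij ijm hT hc hcl' using main
  letI := iT
  haveI := ij
  haveI := ijm
  obtain ⟨U, _, u, θ, hu, hum, hθ, hθj⟩ := CentMaxTor.Pieces.exists_subgroup q T j
  refine ⟨⟨U, inferInstance, u, hu, hum, ?_, ?_⟩, ?_⟩
  · exact CentMaxTor.Pieces.isTorus q hcov fun k => by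
      haveI := hθ k
      exact RedRank.isTorus_of_iso (θ k) (hT k)
  · refine CentMaxTor.Pieces.isCentralizerOf q u i fun k => ?_
    haveI : IsMonHom (Iso.refl (Red.bc (q k) G)).hom := inferInstanceAs (IsMonHom (𝟙 _))
    haveI : IsMonHom (Iso.refl (Red.bc (q k) H)).hom := inferInstanceAs (IsMonHom (𝟙 _))
    exact TorsTuple.isCentralizerOf_transport (Iso.refl _) (θ k) (Iso.refl _)
      (by rw [← hθj k]; exact congrArg _ (Category.comp_id _))
      ((Category.id_comp _).trans (Category.comp_id _)) (hc k)
  · refine IsClosedImmersion.of_isPreimmersion _ ?_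
    have e : Set.range i.left = ⋃ k, pullback.fst G.hom (q k) '' Set.range ((Over.pullback (q k)).map i).left := by
      refine Set.ext fun x => ⟨?_, fun hx => ?_⟩
      · rintro ⟨y, rfl⟩
        obtain ⟨k, z, hz⟩ := hcov (H.hom y)
        obtain ⟨w, hw, _⟩ := Scheme.Pullback.exists_preimage_pullback (f := H.hom) (g := q k) y z hz.symm
        refine Set.mem_iUnion.2 ⟨k, ((Over.pullback (q k)).map i).left w, ⟨w, rfl⟩, ?_⟩
        exact (congrArg (fun φ => φ w) (ActBC.pullback_map_left_fst (q k) i)).trans (congrArg i.left hw)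
      · obtain ⟨k, _, ⟨w, rfl⟩, rfl⟩ := Set.mem_iUnion.1 hx
        exact ⟨pullback.fst H.hom (q k) w, by rw [← Scheme.Hom.comp_apply, ← ActBC.pullback_map_left_fst]; rfl⟩
    rw [e]
    refine isClosed_iUnion_of_finite fun k => ?_
    haveI : IsClosedImmersion (pullback.fst G.hom (q k)) :=
      MorphismProperty.pullback_fst (P := @IsClosedImmersion) _ _ inferInstance
    haveI := hcl' k
    exact (pullback.fst G.hom (q k)).isClosedEmbedding.isClosedMap _
      ((Over.pullback (q k)).map i).left.isClosedEmbedding.isClosed_range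

end Groth.Agent.S8415
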