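import Groth.Statements.S8417
import Groth.Agent.MaxTorusRankLib.Cartan

set_option autoImplicit false
universe u
open CategoryTheory MonoidalCategory CartesianMonoidalCategory MonObj GrpObj AlgebraicGeometry
open SGA3x

attribute [-instance] CategoryTheory.Hom.commGroup
attribute [local instance] CoactBr.braidedAlgSpecOf
set_option backward.isDefEq.respectTransparency false

namespace Groth.Agent.S8417

/-- Let G be an S-group scheme, affine and smooth over S. Then the nilpotent rank of the geometric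
fibres of G (the common dimension of their Cartan subgroups) is an upper semicontinuous function on
S: for every n, the set of s ∈ S such that G_s̄ has a Cartan subgroup of dimension ≤ n is open. (The
published item a) asserts the same upper semicontinuity for the reductive rank as well; this row
states it for the nilpotent rank.) -/
theorem result (S : Scheme.{u}) (G : Over S) [GrpObj G] [IsAffineHom G.hom] [Smooth G.hom] (n : ℕ) :
    IsOpen {s : S | ∃ (C' : Over (Spec (CommRingCat.of (AlgebraicClosure (S.residueField s))))) (_ : GrpObj C') (c' : C' ⟶ Red.geomFibre s G),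
      SGA3x.IsCartanOver (AlgebraicClosure (S.residueField s)) c' ∧ topologicalKrullDim ↥C'.left ≤ (n : WithBot ℕ∞)} := by
  refine isOpen_iff_forall_mem_open.2 fun s hs => ?_
  obtain ⟨C', _, c', ⟨hc'm, hc'mono, T', _, i', hi', hcent⟩, hdim⟩ := hs
  haveI := hc'm; haveI := hc'mono
  obtain ⟨r, S', g, y, i, hg, hy, hi, him, hmax⟩ := MaxTorusRank.exists_local_torus G s
  haveI := hg; haveI := hi; haveI := him
  haveI := RedRank.isAffineHom_bc G g
  haveI : Smooth (Red.bc g G).hom := MorphismProperty.pullback_snd (P := @Smooth) _ _ inferInstance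
  have hci : IsClosedImmersion i.left :=
    Transporter.isClosedImmersion_of_mono (RedRank.locally_of_isTorus (RedRank.isTorus_DS S' r)) inferInstance i
  obtain ⟨Z, _, c, hZ, hcc, hsm⟩ := (S3006.result S' (Red.bc g G) _ i hci (RedRank.isTorus_DS S' r)).1
  haveI := hcc; haveI := hsm; haveI := hZ.1; haveI := hZ.2.1
  haveI : IsAffineHom Z.hom := by rw [← Over.w c]; infer_instance
  obtain ⟨θ, hθ⟩ : ∃ θ : Red.bc (Red.geomPt s) G ≅ Red.bc y (Red.bc g G), IsMonHom θ.hom := by
    rw [← hy]; exact RedCharZeroLib.exists_bc_comp y g G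
  haveI := hθ
  haveI : IsMonHom θ.inv := inferInstance
  have hyZ := MaxTorusRank.isCentralizerOf_bc hZ y
  haveI := hyZ.1; haveI := hyZ.2.1
  haveI : IsMonHom (M := Red.bc y (Red.DS S' (Fin r → ℤ))) (N := Red.bc y (Red.bc g G)) ((Over.pullback y).map i) :=
    DiagRep.isMonHom_bc_map y i
  haveI : Mono ((Over.pullback y).map i) := by
    haveI : (Over.pullback y).IsRightAdjoint := (Over.mapPullbackAdj y).isRightAdjoint
    infer_instance
  let j : Red.bc y (Red.DS S' (Fin r → ℤ)) ⟶ Red.geomFibre s G := (Over.pullback y).map i ≫ θ.inv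
  haveI : IsMonHom j := inferInstanceAs (IsMonHom ((Over.pullback y).map i ≫ θ.inv))
  haveI : Mono j := inferInstanceAs (Mono ((Over.pullback y).map i ≫ θ.inv))
  have hjmax : Red.IsMaximalTorus j :=
    MaxTorusRank.isMaximalTorus_of_top G (Red.geomPt s) j (RedRank.isTorus_bc (RedRank.isTorus_DS S' r) y)
      fun m hm => (MaxTorusRank.has_bc_DS_iff y r m).2 (hmax m hm)
  haveI := RedRank.isAffineHom_bc G (Red.geomPt s)
  haveI : Smooth (Red.geomFibre s G).hom := MorphismProperty.pullback_snd (P := @Smooth) _ _ inferInstance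
  haveI : IsAffine (Red.geomFibre s G).left := isAffine_of_isAffineHom (Red.geomFibre s G).hom
  obtain ⟨gK, f, hf⟩ := MaxTorusRank.exists_conj (MaxTorusRank.isMaxTorus_of_isMaximalTorus hjmax)
    (MaxTorusRank.isMaxTorus_of_isMaximalTorus hi')
  rw [DiagRep.conjBy_eq_comp] at hf
  haveI := DiagRep.isMonHom_conjBy gK
  let κ : Red.bc y (Red.bc g G) ⟶ Red.geomFibre s G := θ.inv ≫ AGF.conjBy gK (𝟙 (Red.geomFibre s G))
  haveI : IsIso κ := inferInstanceAs (IsIso (θ.inv ≫ AGF.conjBy gK (𝟙 _)))
  haveI : IsMonHom κ := inferInstanceAs (IsMonHom (θ.inv ≫ AGF.conjBy gK (𝟙 _)))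
  haveI : IsMonHom (asIso κ).hom := inferInstanceAs (IsMonHom κ)
  haveI : IsMonHom (inv κ) := inferInstanceAs (IsMonHom (asIso κ).inv)
  have hfκ : (Over.pullback y).map i ≫ κ = f.hom ≫ i' := by
    rw [hf]
    simp [κ, j]
  obtain ⟨k₁, hk₁⟩ := MaxTorusRank.exists_centralizer_map κ hyZ hcent fun X a => ⟨a ≫ f.inv, by
    simp [hfκ]⟩
  obtain ⟨k₂, hk₂⟩ := MaxTorusRank.exists_centralizer_map (inv κ) hcent hyZ fun X a => ⟨a ≫ f.hom, by
    rw [Category.assoc a, ← hfκ]; simp⟩
  let ε : Red.bc y Z ≅ C' :=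
    { hom := k₁
      inv := k₂
      hom_inv_id := by
        rw [← cancel_mono ((Over.pullback y).map c), Category.assoc, hk₂, ← Category.assoc, hk₁, Category.assoc,
          IsIso.hom_inv_id, Category.comp_id, Category.id_comp]
      inv_hom_id := by
        rw [← cancel_mono c', Category.assoc, hk₁, ← Category.assoc, hk₂, Category.assoc, IsIso.inv_hom_id,
          Category.comp_id, Category.id_comp] }
  let V : S'.Opens := ⟨_, S3022.result S' Z (Set.Iic (n : WithBot ℕ∞))⟩
  have hyV : y (IsLocalRing.closedPoint _) ∈ V := by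
    show topologicalKrullDim _ ∈ Set.Iic _
    rw [← MaxTorusRank.dim_bc_eq Z y, Set.mem_Iic]
    let e := Scheme.homeoOfIso ((Over.forget _).mapIso ε)
    exact (IsHomeomorph.topologicalKrullDim_eq e e.isHomeomorph).trans_le hdim
  refine ⟨g '' (V : Set S'), ?_, g.isOpenMap _ V.2,
    ⟨_, hyV, by rw [← Scheme.Hom.comp_apply, hy, RedRank.geomPt_apply]⟩⟩
  rintro _ ⟨z, hz, rfl⟩
  obtain ⟨y₀, hy₀, -⟩ := Scheme.Pullback.exists_preimage_pullback (f := g) (g := Red.geomPt (g z)) z
    (IsLocalRing.closedPoint _) (RedRank.geomPt_apply (g z)).symm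
  obtain ⟨y', hy', hy'V⟩ := RedRank.exists_field_point (Limits.pullback.snd g (Red.geomPt (g z)))
    (Limits.pullback.fst g (Red.geomPt (g z)) ⁻¹ᵁ V) ⟨y₀, by show Limits.pullback.fst g _ y₀ ∈ V; rw [hy₀]; exact hz⟩
  let q := y' ≫ Limits.pullback.fst g (Red.geomPt (g z))
  have hq : q ≫ g = Red.geomPt (g z) := by rw [Category.assoc, Limits.pullback.condition, reassoc_of% hy']
  have hqV : q (IsLocalRing.closedPoint _) ∈ V := by rw [Scheme.Hom.comp_apply]; exact hy'V
  obtain ⟨θt, hθt⟩ : ∃ θ : Red.bc (Red.geomPt (g z)) G ≅ Red.bc q (Red.bc g G), IsMonHom θ.hom := by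
    rw [← hq]; exact RedCharZeroLib.exists_bc_comp q g G
  haveI := hθt
  haveI : IsMonHom θt.inv := inferInstance
  have hqZ := MaxTorusRank.isCentralizerOf_bc hZ q
  haveI := hqZ.1; haveI := hqZ.2.1
  obtain ⟨e, he⟩ := RedCharZeroLib.exists_DS_bc q (Fin r → ℤ)
  obtain ⟨w, hw, hw'⟩ := TorusField.exists_DS_iso (AlgebraicClosure (S.residueField (g z))) (Fin r → ℤ)
  haveI := he; haveI := hw; haveI := hw'
  haveI : IsMonHom (M := Red.bc q (Red.DS S' (Fin r → ℤ))) (N := Red.bc q (Red.bc g G)) ((Over.pullback q).map i) :=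
    DiagRep.isMonHom_bc_map q i
  haveI : Mono ((Over.pullback q).map i) := by
    haveI : (Over.pullback q).IsRightAdjoint := (Over.mapPullbackAdj q).isRightAdjoint
    infer_instance
  haveI := RedRank.isAffineHom_bc G (Red.geomPt (g z))
  haveI : Smooth (Red.geomFibre (g z) G).hom := MorphismProperty.pullback_snd (P := @Smooth) _ _ inferInstance
  obtain ⟨r', jt, p, hp, -, hjt⟩ := MaxTorusRank.exists_maxTorus_ge (Red.geomFibre (g z) G)
    (w.hom ≫ e.hom ≫ (Over.pullback q).map i ≫ θt.inv)
  haveI := hjt.1; haveI := hjt.2.1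
  have hjR : Red.IsMaximalTorus jt := MaxTorusRank.isMaximalTorus_of_top G (Red.geomPt (g z)) jt hjt.2.2.1
    fun m hm => MaxTorusRank.has_of_isMaxTorus G (Red.geomPt (g z)) hjt hm
  obtain ⟨C, _, cC, hC, hCc, -⟩ :=
    (S3006.result _ (Red.geomFibre (g z) G) _ jt (RedRank.isClosedImmersion_of_mono_sp jt) hjt.2.2.1).1
  haveI := hC.1; haveI := hC.2.1; haveI := hCc
  obtain ⟨k, hk⟩ := MaxTorusRank.exists_centralizer_map θt.hom hC hqZ fun X a => ⟨a ≫ e.inv ≫ w.inv ≫ p, by
    simp [hp]⟩
  refine ⟨C, inferInstance, cC, ⟨hC.1, hC.2.1, _, inferInstance, jt, hjR, hC⟩, ?_⟩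
  haveI : IsIso θt.hom.left := inferInstanceAs (IsIso ((Over.forget _).map θt.hom))
  haveI : IsClosedImmersion (k.left ≫ ((Over.pullback q).map c).left) := by
    rw [← Over.comp_left, hk, Over.comp_left]; infer_instance
  haveI := RedRank.isAffineHom_bc Z q
  haveI : IsSeparated (((Over.pullback q).map c).left ≫ (Red.bc q (Red.bc g G)).hom) := by
    rw [Over.w]; exact inferInstanceAs (IsSeparated (Red.bc q Z).hom)
  haveI : IsSeparated ((Over.pullback q).map c).left := IsSeparated.of_comp _ (Red.bc q (Red.bc g G)).hom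
  haveI : IsClosedImmersion k.left := IsClosedImmersion.of_comp k.left ((Over.pullback q).map c).left
  refine k.left.isClosedEmbedding.isInducing.topologicalKrullDim_le.trans ?_
  rw [MaxTorusRank.dim_bc_eq Z q]
  exact hqV

end Groth.Agent.S8417
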