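import Groth.Statements.S8418
import Groth.Agent.MaxTorusRankLib.Cartan

set_option autoImplicit false
universe u
open CategoryTheory MonoidalCategory CartesianMonoidalCategory MonObj GrpObj AlgebraicGeometry
open SGA3x

attribute [-instance] CategoryTheory.Hom.commGroup
attribute [local instance] CoactBr.braidedAlgSpecOf
set_option backward.isDefEq.respectTransparency false

namespace Groth.Agent.S8418

/-- Let G be an S-group scheme, affine and smooth over S, whose reductive rank is locally constant on S.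
Then the nilpotent rank of the geometric fibres is locally constant too: every s ∈ S has an open
neighbourhood U and an r such that for all t ∈ U every Cartan subgroup of G_t̄ has dimension r. -/
theorem result (S : Scheme.{u}) (G : Over S) [GrpObj G]
    [IsAffineHom G.hom] [Smooth G.hom] (hr : SGA3x.RedRankLocallyConstant G) (s : S) :
    ∃ U : S.Opens, s ∈ U ∧ ∃ r : WithBot ℕ∞, ∀ t : S, t ∈ U →
      ∀ (C' : Over (Spec (CommRingCat.of (AlgebraicClosure (S.residueField t))))) [GrpObj C'] (c' : C' ⟶ Red.geomFibre t G),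
        SGA3x.IsCartanOver (AlgebraicClosure (S.residueField t)) c' → topologicalKrullDim ↥C'.left = r := by
  obtain ⟨U₀, hsU, d, hU⟩ := hr s
  obtain ⟨n, rfl, hn⟩ := MaxTorusRank.exists_nat_of_hasRedRank (hU s hsU)
  obtain ⟨r, S', g, y, i, hg, hy, hi, him, hmax⟩ := MaxTorusRank.exists_local_torus G s
  haveI := hg; haveI := hi; haveI := him
  haveI := RedRank.isAffineHom_bc G g
  haveI : Smooth (Red.bc g G).hom := MorphismProperty.pullback_snd (P := @Smooth) _ _ inferInstance
  have hnr : n ≤ r := hmax n ((hn n).2 le_rfl)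
  have hci : IsClosedImmersion i.left :=
    Transporter.isClosedImmersion_of_mono (RedRank.locally_of_isTorus (RedRank.isTorus_DS S' r)) inferInstance i
  obtain ⟨Z, _, c, hZ, hcc, hsm⟩ := (S3006.result S' (Red.bc g G) _ i hci (RedRank.isTorus_DS S' r)).1
  haveI := hcc; haveI := hsm
  let D := topologicalKrullDim ↥(Z.hom.base ⁻¹' {y (IsLocalRing.closedPoint _)})
  let V : S'.Opens := ⟨_, (S3022.result S' Z).isOpen_fiber D⟩ ⊓ g ⁻¹ᵁ U₀
  have hyV : y (IsLocalRing.closedPoint _) ∈ V := ⟨rfl, by
    show g (y _) ∈ U₀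
    rw [← Scheme.Hom.comp_apply, hy, RedRank.geomPt_apply]; exact hsU⟩
  refine ⟨⟨g '' (V : Set S'), g.isOpenMap _ V.2⟩,
    ⟨_, hyV, by rw [← Scheme.Hom.comp_apply, hy, RedRank.geomPt_apply]⟩, D, ?_⟩
  rintro _ ⟨z, hz, rfl⟩ C' _ c' ⟨hc'm, hc'mono, T', _, i', hi', hcent⟩
  obtain ⟨y₀, hy₀, -⟩ := Scheme.Pullback.exists_preimage_pullback (f := g) (g := Red.geomPt (g z)) z
    (IsLocalRing.closedPoint _) (RedRank.geomPt_apply (g z)).symm
  obtain ⟨y', hy', hy'V⟩ := RedRank.exists_field_point (Limits.pullback.snd g (Red.geomPt (g z)))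
    (Limits.pullback.fst g (Red.geomPt (g z)) ⁻¹ᵁ V) ⟨y₀, by show Limits.pullback.fst g _ y₀ ∈ V; rw [hy₀]; exact hz⟩
  let q := y' ≫ Limits.pullback.fst g (Red.geomPt (g z))
  have hq : q ≫ g = Red.geomPt (g z) := by rw [Category.assoc, Limits.pullback.condition, reassoc_of% hy']
  have hqV : q (IsLocalRing.closedPoint _) ∈ V := by rw [Scheme.Hom.comp_apply]; exact hy'V
  obtain ⟨n', hn', hall⟩ := MaxTorusRank.exists_nat_of_hasRedRank (hU (g z) hz.2)
  obtain rfl : n = n' := by exact_mod_cast hn'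
  exact (MaxTorusRank.dim_cartan_eq G g i hZ q _ hq (fun m hm => ((hall m).1 hm).trans hnr) hi' hcent).trans hqV.1

end Groth.Agent.S8418
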