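import Groth.Statements.S8419
import Groth.Agent.MultSubQuotLib.FieldAffine
-- import your own Groth.Agent.* helpers here

set_option autoImplicit false
set_option backward.isDefEq.respectTransparency false
universe u
open CategoryTheory MonoidalCategory CartesianMonoidalCategory MonObj GrpObj AlgebraicGeometry
open SGA3x

namespace Groth.Agent.S8419

/-- Let G be a smooth affine algebraic group over a field k and H a subgroup of G of multiplicative type
(and of finite type), with centralizer C and normalizer N. Then the quotients G/C and G/N are
affine: any k-scheme representing the fppf quotient of G by C (resp. by N) is affine. -/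
theorem result (k : Type u) [Field k]
    (G : Over (Spec (CommRingCat.of k))) [GrpObj G] [Smooth G.hom] [QuasiCompact G.hom] [IsAffine G.left]
    (H : Over (Spec (CommRingCat.of k))) [GrpObj H] (h : H ⟶ G) [IsMonHom h] [Mono h] (hH : SGA3x.IsMultTypeFT H)
    (C N : Over (Spec (CommRingCat.of k))) [GrpObj C] [GrpObj N] (c : C ⟶ G) (n : N ⟶ G)
    (hC : Red.IsCentralizerOf h c) (hN : Red.IsNormalizerOf h n) :
    (∀ (Q : Over (Spec (CommRingCat.of k))) (q : G ⟶ Q), RedSub.IsQuotient c q → IsAffine Q.left) ∧
    (∀ (Q : Over (Spec (CommRingCat.of k))) (q : G ⟶ Q), RedSub.IsQuotient n q → IsAffine Q.left) := by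
  haveI : IsAffineHom G.hom := isAffineHom_of_isAffine G.hom
  exact ⟨fun Q q hq => MultSubQuotLib.isAffine_quot_centralizer h hH hC (.of_isQuotient hq),
    fun Q q hq => MultSubQuotLib.isAffine_quot_normalizer h hH hC hN (.of_isQuotient hq)⟩

end Groth.Agent.S8419
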