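import Groth.Statements.S8424
import Groth.Agent.BorelLib.CartanNorm
-- import your own Groth.Agent.* helpers here

set_option autoImplicit false
universe u
open CategoryTheory MonoidalCategory CartesianMonoidalCategory MonObj GrpObj AlgebraicGeometry
open SGA3x

attribute [-instance] CategoryTheory.Hom.commGroup

namespace Groth.Agent.S8424

/-- Let G be a smooth algebraic group (not necessarily affine) over an algebraically closed field k, B a
Borel subgroup of G, C a Cartan subgroup of B and N the normalizer of C in G. Then N ∩ B = C: a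
point of G with values in a k-scheme factors through N and through B if and only if it factors
through C. -/
theorem result (k : Type u) [Field k] [IsAlgClosed k]
    (G : Over (Spec (CommRingCat.of k))) [GrpObj G] [Smooth G.hom] [QuasiCompact G.hom]
    (B : Over (Spec (CommRingCat.of k))) [GrpObj B] (b : B ⟶ G) (hB : Red.IsBorelOver k b)
    (C : Over (Spec (CommRingCat.of k))) [GrpObj C] (c : C ⟶ B) (hC : SGA3x.IsCartanOver k c)
    (N : Over (Spec (CommRingCat.of k))) [GrpObj N] (n : N ⟶ G) (hN : Red.IsNormalizerOf (c ≫ b) n)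
    (X : Over (Spec (CommRingCat.of k))) (g : X ⟶ G) :
    ((∃ x : X ⟶ N, x ≫ n = g) ∧ (∃ y : X ⟶ B, y ≫ b = g)) ↔ ∃ z : X ⟶ C, z ≫ c ≫ b = g := by
  haveI := hB.1; haveI := hB.2.1; haveI := hB.2.2.1; haveI := hB.2.2.2.1
  haveI : QuasiCompact B.hom := by rw [← Over.w b]; infer_instance
  haveI : Mono b := DiagRep.mono_of_isClosedImmersion b inferInstance
  haveI := hC.1; haveI := hC.2.1
  constructor
  · rintro ⟨hx, ⟨y, rfl⟩⟩
    have hn := (hN.2.2 X (y ≫ b)).1 hx
    obtain ⟨z, hz⟩ := BorelLib.NA.exists_factor_of_normalizes_cartan hB.2.2.2.2.1 hC y fun X' x h => by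
      obtain ⟨⟨h₁, e₁⟩, ⟨h₂, e₂⟩⟩ := hn X' x h
      refine ⟨⟨h₁, ?_⟩, ⟨h₂, ?_⟩⟩
      · rw [← cancel_mono b, MonObj.mul_comp, MonObj.mul_comp, GrpObj.inv_comp]
        simpa only [Category.assoc] using e₁
      · rw [← cancel_mono b, MonObj.mul_comp, MonObj.mul_comp, GrpObj.inv_comp]
        simpa only [Category.assoc] using e₂
    exact ⟨z, by rw [← Category.assoc, hz]⟩
  · rintro ⟨z, rfl⟩
    refine ⟨(hN.2.2 X (z ≫ c ≫ b)).2 fun X' x h => ⟨⟨(x ≫ z) * h * (x ≫ z)⁻¹, ?_⟩, ⟨(x ≫ z)⁻¹ * h * (x ≫ z), ?_⟩⟩,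
      z ≫ c, Category.assoc z c b⟩
    all_goals simp only [MonObj.mul_comp, GrpObj.inv_comp, Category.assoc]

end Groth.Agent.S8424
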