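import Groth.Statements.S8425
import Groth.Agent.BorelLib.SelfNormRel
import Groth.Agent.BorelLib.NonAffSelfNorm
import Groth.Agent.CentLocusLib.Global
-- import your own Groth.Agent.* helpers here

set_option autoImplicit false
set_option maxHeartbeats 4000000
set_option synthInstance.maxHeartbeats 400000
set_option backward.isDefEq.respectTransparency false
universe u
open CategoryTheory CategoryTheory.Limits MonoidalCategory CartesianMonoidalCategory MonObj GrpObj AlgebraicGeometry
open SGA3x

attribute [-instance] CategoryTheory.Hom.commGroup

namespace Groth.Agent.S8425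

open Groth.Agent.BorelLib
attribute [local instance] BorelLib.pTop BorelLib.pTopTensor

/-- Let G be an S-group scheme, smooth and of finite presentation over S with connected fibres, and b :
B → G a Borel subgroup: a subgroup scheme (a homomorphism which is an immersion), smooth and of
finite presentation over S, every geometric fibre of which is a Borel subgroup of the corresponding
geometric fibre of G. Then B is its own normalizer, and B is a closed subscheme of G. -/
theorem result (S : Scheme.{u}) (G : Over S) [GrpObj G]
    [Smooth G.hom] [QuasiCompact G.hom] [QuasiSeparated G.hom] (hconn : ∀ s : S, _root_.IsConnected (G.hom.base ⁻¹' {s}))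
    (B : Over S) [GrpObj B] (b : B ⟶ G) (hB : (IsMonHom b ∧ IsImmersion b.left ∧ Smooth B.hom ∧ QuasiCompact B.hom ∧
      ∀ s : S, Red.IsBorelOver (AlgebraicClosure (S.residueField s)) ((Over.pullback (Red.geomPt s)).map b))) :
    Red.IsNormalizerOf b b ∧ IsClosedImmersion b.left := by
  obtain ⟨him, hii, hBs, hBq, hBg⟩ := hB
  haveI := him; haveI := hii; haveI := hBs; haveI := hBq
  haveI : Mono b := (Over.forget S).mono_of_mono_map (inferInstanceAs (Mono b.left))
  haveI : QuasiSeparated B.hom := by rw [← Over.w b]; infer_instance
  have hconn' : ∀ t : S, ConnectedSpace ↥(pullback G.hom (S.fromSpecResidueField t)) := fun t => by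
    haveI := isConnected_iff_connectedSpace.1 (hconn t)
    exact (G.hom.fiberHomeo t).symm.surjective.connectedSpace (G.hom.fiberHomeo t).symm.continuous
  exact isNormalizerOf_self_of_geomFibres (fun s => (hBg s).2.2.2.1) fun s => by
    haveI : Smooth (Red.geomFibre s G).hom := MorphismProperty.pullback_snd (P := @Smooth) _ _ inferInstance
    haveI : QuasiCompact (Red.geomFibre s G).hom :=
      MorphismProperty.pullback_snd (P := @QuasiCompact) _ _ inferInstance
    haveI : ConnectedSpace (Red.geomFibre s G).left := CentLocus.connectedSpace_geom hconn' (Red.geomPt s)
    exact BorelLib.NA.isNormalizerOf_self (hBg s)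

end Groth.Agent.S8425
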