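import Groth.Statements.S8426
import Groth.Agent.HomCorrLib.SubLift
import Groth.Agent.HomCorrLib.SqLift
import Groth.Agent.TorusLiftLib.Kernel
import Groth.Agent.ThickFlatLib.Apps

set_option linter.style.haveILetI false
set_option backward.isDefEq.respectTransparency false
set_option maxHeartbeats 2000000
set_option synthInstance.maxHeartbeats 400000

set_option autoImplicit false
universe u
open CategoryTheory MonoidalCategory CartesianMonoidalCategory MonObj GrpObj AlgebraicGeometry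
open SGA3x

namespace Groth.Agent.S8426

attribute [-instance] CategoryTheory.Hom.commGroup
attribute [local instance] CoactBr.braidedAlgSpecOf

open CategoryTheory.Limits CoactBr
open Groth.Agent.DiagRep (bcHom)
open TorusLift (jq)
open scoped TensorProduct

variable {R : Type u} [CommRing R] {J : Ideal R}

theorem finiteOrder_jq (hJ : J ^ 2 = ⊥) : MoreMor.IsFiniteOrderThickening (jq J) := by
  haveI : IsClosedImmersion (jq J) := IsClosedImmersion.spec_of_surjective _ Ideal.Quotient.mk_surjective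
  refine ⟨⟨inferInstance, ⟨fun p => ?_⟩⟩, 2, ?_⟩
  · have h : (p : PrimeSpectrum R) ∈ Set.range (PrimeSpectrum.comap (Ideal.Quotient.mk J)) := by
      rw [range_comap_of_surjective _ _ Ideal.Quotient.mk_surjective, Ideal.mk_ker]
      refine fun x hx => nilradical_le_prime (p : PrimeSpectrum R).asIdeal ⟨2, ?_⟩
      have h := Ideal.pow_mem_pow hx 2
      rwa [hJ, Submodule.mem_bot] at h
    exact h
  · refine Scheme.IdealSheafData.ext_of_isAffine ?_
    let e := Scheme.ΓSpecIso (CommRingCat.of R)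
    have hle : (jq J).ker.ideal ⟨⊤, isAffineOpen_top _⟩ ≤ J.map e.inv.hom := by
      intro y hy
      rw [Scheme.Hom.ker_apply, RingHom.mem_ker] at hy
      have h := congrArg (fun k => k.hom y) (Scheme.ΓSpecIso_naturality (CommRingCat.ofHom (Ideal.Quotient.mk J)))
      simp only [CommRingCat.hom_comp, RingHom.comp_apply] at h
      erw [hy, map_zero] at h
      have h2 := Ideal.mem_map_of_mem e.inv.hom (Ideal.Quotient.eq_zero_iff_mem.1 h.symm)
      rwa [← RingHom.comp_apply, ← CommRingCat.hom_comp, Iso.hom_inv_id] at h2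
    rw [pow_two]
    refine le_antisymm ?_ bot_le
    simp only [Scheme.IdealSheafData.ideal_mul, Pi.mul_apply]
    refine (Ideal.mul_mono hle hle).trans ?_
    rw [← Ideal.map_mul, ← pow_two, hJ, Ideal.map_bot]
    exact bot_le

theorem exists_lift (hJ2 : J ^ 2 = ⊥) (G : Over (Spec (CommRingCat.of R))) [GrpObj G]
    (H₀ : Over (Spec (CommRingCat.of (R ⧸ J)))) [GrpObj H₀] [Smooth H₀.hom] (hm₀ : SGA3x.IsMultTypeFT H₀)
    (j₀ : H₀ ⟶ Red.bc (jq J) G) [IsMonHom j₀] [IsImmersion j₀.left] {H' : Scheme.{u}} (h' : H' ⟶ G.left)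
    [Flat (h' ≫ G.hom)] (e₀ : pullback h' (pullback.fst G.hom (jq J)) ≅ H₀.left)
    (he₀ : e₀.hom ≫ j₀.left = pullback.snd h' (pullback.fst G.hom (jq J))) :
    ∃ (H : Over (Spec (CommRingCat.of R))) (_ : GrpObj H) (j : H ⟶ G), IsMonHom j ∧ Mono j ∧ IsImmersion j.left ∧
      SGA3x.IsMultTypeFT H ∧ ∃ φ : Red.bc (jq J) H ≅ H₀, φ.hom ≫ j₀ = (Over.pullback (jq J)).map j := by
  have hJ : IsNilpotent J := ⟨2, by rw [hJ2, Ideal.zero_eq_bot]⟩
  have hJ' : ∀ x ∈ J, IsNilpotent x := fun x hx => by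
    obtain ⟨n, hn⟩ := hJ
    refine ⟨n, ?_⟩
    have h := Ideal.pow_mem_pow hx n
    rw [hn] at h
    exact h
  haveI := MultEq.isAffineHom_of_isMultTypeFT hm₀
  haveI : IsAffine H₀.left := isAffine_of_isAffineHom H₀.hom
  obtain ⟨A₀, _, _, v₀, hv₀, hv₀'⟩ := HomCorr.exists_hopf H₀
  haveI := hv₀
  have hA₀ := HomCorr.isMultType_of_locally v₀.hom (TorusLift.locally_of_isMultTypeFT hm₀)
  haveI : Algebra.FiniteType (R ⧸ J) A₀ := by
    haveI : LocallyOfFiniteType H₀.hom := inferInstance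
    haveI : IsIso v₀.hom.left := (Over.forget _).map_isIso v₀.hom
    haveI : LocallyOfFiniteType (sp (R ⧸ J) A₀).hom := by rw [← Over.w v₀.hom]; infer_instance
    have h : (algebraMap (R ⧸ J) A₀).FiniteType :=
      (HasRingHomProperty.Spec_iff (P := @LocallyOfFiniteType) (φ := CommRingCat.ofHom (algebraMap (R ⧸ J) A₀))).1
        (inferInstance : LocallyOfFiniteType (sp (R ⧸ J) A₀).hom)
    exact RingHom.finiteType_algebraMap.1 h
  obtain ⟨A, _, _, hq, ⟨e⟩⟩ := HopfDesc.quasiIsotrivial_lifts hJ' A₀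
    (QIso.isQuasiIsotrivial_of_finiteType inferInstance hA₀)
  have hA := FlatLift.isMultType_of_isQuasiIsotrivial hq
  haveI : Algebra.FiniteType R A := HomCorr.finiteType_of_nilpotent hJ
    (Algebra.FiniteType.equiv (inferInstance : Algebra.FiniteType (R ⧸ J) A₀) (e : (R ⧸ J) ⊗[R] A ≃ₐ[R ⧸ J] A₀).symm)
  haveI := FinMult.flat_of_isMultType hA
  obtain ⟨il, hil⟩ := HopfLift.exists_integral_of_isMultType hA
  -- the comparison
  let E : (R ⧸ J) ⊗[R] A ≃ₐ[R ⧸ J] A₀ := (e : (R ⧸ J) ⊗[R] A ≃ₐ[R ⧸ J] A₀)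
  haveI : IsMonHom (pt E.toAlgHom) := DiagRep.isMonHom_pt E.toAlgHom
    (BialgHom.counitAlgHom_comp e.toBialgHom) (BialgHom.map_comp_comulAlgHom e.toBialgHom)
  haveI : IsIso (pt E.toAlgHom) := ⟨pt E.symm.toAlgHom,
    by rw [← pt_comp, show E.toAlgHom.comp E.symm.toAlgHom = AlgHom.id (R ⧸ J) A₀ from
      AlgHom.ext E.apply_symm_apply, pt_id],
    by rw [← pt_comp, show E.symm.toAlgHom.comp E.toAlgHom = AlgHom.id (R ⧸ J) _ from
      AlgHom.ext E.symm_apply_apply, pt_id]⟩
  haveI : IsMonHom (asIso (pt E.toAlgHom)).hom := inferInstanceAs (IsMonHom (pt E.toAlgHom))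
  let b : Red.bc (jq J) (sp R A) ⟶ sp (R ⧸ J) ((R ⧸ J) ⊗[R] A) := bcHom R (R ⧸ J) A
  haveI : IsIso b := inferInstanceAs (IsIso (bcHom _ _ _))
  haveI : IsMonHom (asIso b).hom := DiagRep.isMonHom_bcHom R (R ⧸ J) A
  let φ : Red.bc (jq J) (sp R A) ≅ H₀ := asIso b ≪≫ (asIso (pt E.toAlgHom)).symm ≪≫ v₀
  haveI : IsMonHom φ.hom := by
    show IsMonHom ((asIso b).hom ≫ (asIso (pt E.toAlgHom)).inv ≫ v₀.hom)
    infer_instance
  let MO : Over (Spec (CommRingCat.of R)) := Over.mk (h' ≫ G.hom)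
  let hO : MO ⟶ G := Over.homMk h' rfl
  haveI : Flat MO.hom := inferInstanceAs (Flat (h' ≫ G.hom))
  haveI : Smooth (pullback.snd MO.hom (jq J)) := by
    rw [show pullback.snd MO.hom (jq J) =
      (pullbackRightPullbackFstIso G.hom (jq J) h').inv ≫ e₀.hom ≫ H₀.hom by
        rw [← Over.w j₀, reassoc_of% he₀, Iso.eq_inv_comp]
        exact pullbackRightPullbackFstIso_hom_snd G.hom (jq J) h']
    infer_instance
  haveI : Smooth MO.hom := ThickFlatLib.smooth_of_finiteOrder (g := 𝟙 _) (g' := 𝟙 _) (finiteOrder_jq hJ2)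
    (iX := pullback.fst MO.hom (jq J)) (f := pullback.snd MO.hom (jq J))
    (by simpa using IsPullback.of_hasPullback MO.hom (jq J))
    (IsPullback.of_vert_isIso ⟨by simp⟩) pullback.condition
  let ψ : Red.bc (jq J) (sp R A) ⟶ Red.bc (jq J) G := φ.hom ≫ j₀
  haveI : IsMonHom ψ := inferInstanceAs (IsMonHom (φ.hom ≫ j₀))
  let χ : (Red.bc (jq J) (sp R A)).left ⟶ H' := φ.hom.left ≫ e₀.inv ≫ pullback.fst h' _
  have hχ : χ ≫ h' = ψ.left ≫ pullback.fst G.hom (jq J) := by
    simp only [χ, ψ, Over.comp_left, Category.assoc, pullback.condition]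
    rw [← he₀]
    simp
  obtain ⟨g, hg⟩ := HomCorr.exists_lift_res (X := MO) hJ
    (Over.homMk χ (by
      show χ ≫ h' ≫ G.hom = pullback.snd (sp R A).hom (jq J) ≫ jq J
      rw [reassoc_of% hχ, pullback.condition, ← Category.assoc]
      congr 1
      exact Over.w ψ) : PowEtCentralLib.res (jq J) (sp R A) ⟶ MO)
  have hs : (Over.pullback (jq J)).map (g ≫ hO) = ψ := by
    refine Over.OverMorphism.ext (pullback.hom_ext ?_ ?_)
    · rw [ActBC.pullback_map_left_fst, ← hχ, Over.comp_left, ← Category.assoc]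
      have h : (PowEtCentralLib.inc (jq J) (sp R A) ≫ g).left = χ := congrArg CommaMorphism.left hg
      simp only [Over.comp_left, PowEtCentralLib.inc_left] at h
      exact congrArg (· ≫ h') h
    · exact (Over.w _).trans (Over.w ψ).symm
  obtain ⟨f, hf, hfψ⟩ := HomCorr.exists_hom_lift_sq hil (J := J) (by rw [← pow_two, hJ2]) ψ (g ≫ hO) hs
  haveI : IsImmersion f.left := by
    refine HomCorr.isImmersion_of_nilpotent hJ f ?_
    have h : (PowEtCentralLib.inc (jq J) (sp R A)).left ≫ f.left = ψ.left ≫ pullback.fst G.hom (jq J) := by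
      rw [← hfψ, PowEtCentralLib.inc_left, ActBC.pullback_map_left_fst]
    erw [h]
    haveI : IsIso φ.hom.left := (Over.forget _).map_isIso φ.hom
    haveI : IsClosedImmersion (jq J) := IsClosedImmersion.spec_of_surjective _ Ideal.Quotient.mk_surjective
    simp only [ψ, Over.comp_left, Category.assoc]
    infer_instance
  haveI : Mono f.left := inferInstance
  exact ⟨sp R A, inferInstance, f, hf, Over.mono_of_mono_left f, inferInstance,
    HomCorr.isMultTypeFT_of_isMultType (𝟙 _) hA, φ, hfψ.symm⟩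


/-- Let S = Spec A be affine, S₀ = Spec(A/J) the closed subscheme defined by an ideal J of square zero,
G an S-group scheme and H₀ a subgroup scheme of G₀ = G ×_S S₀ (a monomorphic homomorphism H₀ → G₀
which is an immersion) which is smooth and of finite type over S₀ and of multiplicative type. Then G
has a subgroup scheme of multiplicative type (again an immersion) lifting H₀ if and only if G has a
subscheme H′, flat over S, lifting H₀ (H′ ×_S S₀ = H₀ as subschemes of G₀). -/
theorem result (A : Type u) [CommRing A] (J : Ideal A) (hJ : J ^ 2 = ⊥)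
    (G : Over (Spec (CommRingCat.of A))) [GrpObj G]
    (H₀ : Over (Spec (CommRingCat.of (A ⧸ J)))) [GrpObj H₀] (j₀ : H₀ ⟶ Red.bc (Spec.map (CommRingCat.ofHom (Ideal.Quotient.mk J))) G) [IsMonHom j₀] [Mono j₀]
    (hj₀ : IsImmersion j₀.left) [Smooth H₀.hom] [QuasiCompact H₀.hom] (hm₀ : SGA3x.IsMultTypeFT H₀) :
    (∃ (H : Over (Spec (CommRingCat.of A))) (_ : GrpObj H) (j : H ⟶ G), IsMonHom j ∧ Mono j ∧ IsImmersion j.left ∧ SGA3x.IsMultTypeFT H ∧
      ∃ e : Red.bc (Spec.map (CommRingCat.ofHom (Ideal.Quotient.mk J))) H ≅ H₀, e.hom ≫ j₀ = (Over.pullback (Spec.map (CommRingCat.ofHom (Ideal.Quotient.mk J)))).map j) ↔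
    (∃ (H' : Scheme.{u}) (h' : H' ⟶ G.left), IsImmersion h' ∧ Flat (h' ≫ G.hom) ∧
      ∃ e : Limits.pullback h' (Limits.pullback.fst G.hom (Spec.map (CommRingCat.ofHom (Ideal.Quotient.mk J)))) ≅ H₀.left,
        e.hom ≫ j₀.left = Limits.pullback.snd h' (Limits.pullback.fst G.hom (Spec.map (CommRingCat.ofHom (Ideal.Quotient.mk J))))) := by
  haveI := hj₀
  constructor
  · rintro ⟨H, _, j, -, -, hj, hH, e, he⟩
    haveI := EqNhd.flat_of_isMultTypeFT hH
    refine ⟨H.left, j.left, hj, by rw [Over.w j]; infer_instance,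
      pullbackRightPullbackFstIso G.hom (jq J) j.left ≪≫ pullback.congrHom (Over.w j) rfl ≪≫ (Over.forget _).mapIso e, ?_⟩
    have h := congrArg CommaMorphism.left he
    simp only [Over.comp_left] at h
    show (_ ≫ _ ≫ e.hom.left) ≫ j₀.left = _
    rw [Category.assoc, Category.assoc]
    erw [h]
    refine pullback.hom_ext ?_ ?_
    · simp [pullback.condition]
    · simp
  · rintro ⟨H', h', -, hfl, e, he⟩
    haveI := hfl
    exact exists_lift hJ G H₀ hm₀ j₀ h' e he

end Groth.Agent.S8426
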