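import Groth.Statements.S8427
import Groth.Agent.TorusLiftLib.TorsionSub
import Groth.Agent.TorusLiftLib.Lift

set_option autoImplicit false
set_option linter.style.haveILetI false
set_option backward.isDefEq.respectTransparency false
set_option maxHeartbeats 2000000
set_option synthInstance.maxHeartbeats 400000
set_option synthInstance.maxSize 4000
universe u
open CategoryTheory MonoidalCategory CartesianMonoidalCategory MonObj GrpObj AlgebraicGeometry
open SGA3x

namespace Groth.Agent.S8427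

attribute [-instance] CategoryTheory.Hom.commGroup
attribute [local instance] CoactBr.braidedAlgSpecOf

open CategoryTheory.Limits CoactBr
open TorusLift (jq)

variable {A : Type u} [CommRing A] {J : Ideal A}

theorem agreeMod_of_map_eq {H G : Over (Spec (CommRingCat.of A))} (u v : H ⟶ G)
    (h : (Over.pullback (jq J)).map u = (Over.pullback (jq J)).map v) : ConjAvg.AgreeMod J u v := by
  intro C _ _ hC x
  let b : Spec (CommRingCat.of C) ⟶ Spec (CommRingCat.of (A ⧸ J)) :=
    Spec.map (CommRingCat.ofHom (Ideal.Quotient.lift J (algebraMap A C) fun a ha => RingHom.mem_ker.1 (hC ha)))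
  have hb : x.left ≫ H.hom = b ≫ jq J := by
    rw [Over.w x, ← Spec.map_comp, ← CommRingCat.ofHom_comp]
    rfl
  have h1 := (TorusLift.lifts_map_iff (jq J) _ u).1 h x.left b hb
  have h2 := (TorusLift.lifts_map_iff (jq J) _ v).1 rfl x.left b hb
  exact Over.OverMorphism.ext (h1.trans h2.symm)

/-- A point trivial on the closed subscheme reduces to the unit. -/
theorem map_toUnit_eq_one {G X : Over (Spec (CommRingCat.of A))} [GrpObj G]
    (g : 𝟙_ (Over (Spec (CommRingCat.of A))) ⟶ G)
    (h : toUnit (Over.mk (jq J) : Over (Spec (CommRingCat.of A))) ≫ g = 1) :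
    (Over.pullback (jq J)).map (toUnit X ≫ g) = 1 := by
  let r : PowEtCentralLib.res (jq J) X ⟶ Over.mk (jq J) := Over.homMk (pullback.snd X.hom (jq J)) rfl
  have e : PowEtCentralLib.inc (jq J) X ≫ toUnit X ≫ g = 1 := by
    rw [← Category.assoc, toUnit_unique (PowEtCentralLib.inc (jq J) X ≫ toUnit X) (r ≫ toUnit _), Category.assoc, h,
      MonObj.comp_one]
  have e' := PowEtCentralLib.adjEquiv_inc (jq J) (toUnit X ≫ g)
  rw [e, map_one] at e'
  exact e'.symm

/-- A homomorphism into the reduction lifts as soon as its image lifts to a flat subscheme. -/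
theorem exists_hom_lift [IsNoetherianRing A] (hJ : J ^ 2 = ⊥) {G K : Over (Spec (CommRingCat.of A))} [GrpObj G]
    [LocallyOfFiniteType G.hom] [GrpObj K] (hK : SGA3x.IsMultTypeFT K) [Etale K.hom]
    (ψ : Red.bc (jq J) K ⟶ Red.bc (jq J) G) [IsMonHom ψ] {M' : Scheme.{u}} (h' : M' ⟶ G.left)
    [Flat (h' ≫ G.hom)] [LocallyOfFiniteType h']
    (e : pullback h' (pullback.fst G.hom (jq J)) ≅ (Red.bc (jq J) K).left)
    (he : e.hom ≫ ψ.left = pullback.snd h' (pullback.fst G.hom (jq J))) :
    ∃ u : K ⟶ G, IsMonHom u ∧ (Over.pullback (jq J)).map u = ψ := by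
  have hn : IsNilpotent J := ⟨2, by rw [hJ, Ideal.zero_eq_bot]⟩
  haveI : IsClosedImmersion (jq J) := IsClosedImmersion.spec_of_surjective _ Ideal.Quotient.mk_surjective
  haveI : Surjective (jq J) := ⟨fun p => by
    have h : (p : PrimeSpectrum A) ∈ Set.range (PrimeSpectrum.comap (Ideal.Quotient.mk J)) := by
      rw [range_comap_of_surjective _ _ Ideal.Quotient.mk_surjective, Ideal.mk_ker]
      refine fun x hx => nilradical_le_prime (p : PrimeSpectrum A).asIdeal ⟨2, ?_⟩
      have h := Ideal.pow_mem_pow hx 2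
      rwa [hJ, Submodule.mem_bot] at h
    exact h⟩
  let MO : Over (Spec (CommRingCat.of A)) := Over.mk (h' ≫ G.hom)
  let hO : MO ⟶ G := Over.homMk h' rfl
  haveI : LocallyOfFinitePresentation MO.hom := by
    haveI : LocallyOfFiniteType MO.hom := inferInstanceAs (LocallyOfFiniteType (h' ≫ G.hom))
    exact TorusLift.lfp_of_noetherian MO
  haveI : Etale (pullback.snd MO.hom (jq J)) := by
    haveI : Etale (Red.bc (jq J) K).hom := inferInstanceAs (Etale (pullback.snd K.hom (jq J)))
    rw [show pullback.snd MO.hom (jq J) =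
      (pullbackRightPullbackFstIso G.hom (jq J) h').inv ≫ e.hom ≫ (Red.bc (jq J) K).hom by
        rw [← Over.w ψ, reassoc_of% he, Iso.eq_inv_comp]
        exact pullbackRightPullbackFstIso_hom_snd G.hom (jq J) h']
    infer_instance
  haveI : Flat MO.hom := inferInstanceAs (Flat (h' ≫ G.hom))
  haveI : Etale MO.hom := PowEtCentralLib.etale_of_reduction (jq J) MO.hom
  haveI := MultEq.isAffineHom_of_isMultTypeFT hK
  haveI : IsAffine K.left := isAffine_of_isAffineHom K.hom
  obtain ⟨R', _, _, v, hv, hv'⟩ := HomCorr.exists_hopf K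
  haveI := hv; haveI := hv'
  obtain ⟨il, hil⟩ := HopfLift.exists_integral_of_isMultType
    (HomCorr.isMultType_of_locally v.hom (TorusLift.locally_of_isMultTypeFT hK))
  let ψ' : Red.bc (jq J) (sp A R') ⟶ Red.bc (jq J) G := (Over.pullback (jq J)).map v.hom ≫ ψ
  haveI : IsMonHom ψ' := TorusLift.isMonHom_comp (DiagRep.isMonHom_bc_map (jq J) v.hom) ‹IsMonHom ψ›
  let χ : (Red.bc (jq J) (sp A R')).left ⟶ M' :=
    ((Over.pullback (jq J)).map v.hom).left ≫ e.inv ≫ pullback.fst h' _
  have hχ : χ ≫ h' = ψ'.left ≫ pullback.fst G.hom (jq J) := by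
    simp only [χ, ψ', Over.comp_left, Category.assoc, pullback.condition]
    rw [← he]
    simp
  obtain ⟨g, hg⟩ := HomCorr.exists_lift_res (X := MO) hn
    (Over.homMk χ (by
      show χ ≫ h' ≫ G.hom = pullback.snd (sp A R').hom (jq J) ≫ jq J
      rw [reassoc_of% hχ, pullback.condition, ← Category.assoc]
      congr 1
      exact Over.w ψ') : PowEtCentralLib.res (jq J) (sp A R') ⟶ MO)
  have hs : (Over.pullback (jq J)).map (g ≫ hO) = ψ' := by
    refine Over.OverMorphism.ext (pullback.hom_ext ?_ ?_)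
    · rw [ActBC.pullback_map_left_fst, ← hχ, Over.comp_left, ← Category.assoc]
      have h : (PowEtCentralLib.inc (jq J) (sp A R') ≫ g).left = χ := congrArg CommaMorphism.left hg
      simp only [Over.comp_left, PowEtCentralLib.inc_left] at h
      exact congrArg (· ≫ h') h
    · exact (Over.w _).trans (Over.w ψ').symm
  obtain ⟨f, hf, hfψ⟩ := HomCorr.exists_hom_lift_sq hil (J := J) (by rw [← pow_two, hJ]) ψ' (g ≫ hO) hs
  refine ⟨v.inv ≫ f, TorusLift.isMonHom_comp hv' hf, ?_⟩
  rw [Functor.map_comp, hfψ]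
  show _ ≫ (Over.pullback (jq J)).map v.hom ≫ ψ = ψ
  rw [← Category.assoc, ← Functor.map_comp, Iso.inv_hom_id, CategoryTheory.Functor.map_id, Category.id_comp]

/-- Lifts on the torsion subgroups can be chosen coherently. -/
theorem exists_coherent (hJ : J ^ 2 = ⊥) {G T : Over (Spec (CommRingCat.of A))} [GrpObj G] [GrpObj T]
    (v₀ : Red.bc (jq J) T ⟶ Red.bc (jq J) G) {K : ℕ → Over (Spec (CommRingCat.of A))} [∀ k, GrpObj (K k)]
    (i : ∀ k, K k ⟶ T) (hK : ∀ k, SGA3x.IsMultTypeFT (K k))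
    (f : ∀ k, K k ⟶ K (k + 1)) (hf : ∀ k, IsMonHom (f k)) (hfi : ∀ k, f k ≫ i (k + 1) = i k)
    (hu : ∀ k, ∃ u : K k ⟶ G, IsMonHom u ∧ (Over.pullback (jq J)).map u = (Over.pullback (jq J)).map (i k) ≫ v₀) :
    ∃ u : ∀ k, K k ⟶ G, (∀ k, IsMonHom (u k)) ∧
      (∀ k, (Over.pullback (jq J)).map (u k) = (Over.pullback (jq J)).map (i k) ≫ v₀) ∧
      ∀ j k, j ≤ k → ∃ h : K j ⟶ K k, h ≫ i k = i j ∧ h ≫ u k = u j := by
  have hnext : ∀ (k : ℕ) (uk : {u : K k ⟶ G // IsMonHom u ∧
      (Over.pullback (jq J)).map u = (Over.pullback (jq J)).map (i k) ≫ v₀}),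
      ∃ u' : {u : K (k + 1) ⟶ G // IsMonHom u ∧
        (Over.pullback (jq J)).map u = (Over.pullback (jq J)).map (i (k + 1)) ≫ v₀}, f k ≫ u'.1 = uk.1 := by
    rintro k ⟨uk, huk, huk'⟩
    haveI := huk
    obtain ⟨u'', hu'', hu'''⟩ := hu (k + 1)
    haveI := hu''; haveI := hf k
    haveI : IsMonHom (f k ≫ u'') := TorusLift.isMonHom_comp (hf k) hu''
    obtain ⟨g, hg1, hg⟩ := ConjAvg.exists_conj hJ (TorusLift.locally_of_isMultTypeFT (hK k)) (f k ≫ u'') uk
      (agreeMod_of_map_eq _ _ (by rw [Functor.map_comp, hu''', ← Category.assoc, ← Functor.map_comp, hfi, huk']))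
    refine ⟨⟨AGF.conjBy g u'', ?_, ?_⟩, ?_⟩
    · rw [DiagRep.conjBy_eq_comp]
      exact TorusLift.isMonHom_comp hu'' (DiagRep.isMonHom_conjBy g)
    · let F := CategoryTheory.Functor.homMonoidHom (F := Over.pullback (jq J)) (X := K (k + 1)) (M := G)
      show F _ = _
      simp only [AGF.conjBy, map_mul, map_inv]
      rw [show F (toUnit (K (k + 1)) ≫ g) = 1 from map_toUnit_eq_one g hg1, inv_one, _root_.mul_one, _root_.one_mul]
      exact hu'''
    · show f k ≫ AGF.conjBy g u'' = uk
      have h := hg (K k) (𝟙 _)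
      rw [Category.id_comp, Category.id_comp] at h
      simp only [AGF.conjBy, MonObj.comp_mul, GrpObj.comp_inv, ← Category.assoc,
        toUnit_unique (f k ≫ toUnit _) (toUnit (K k))]
      exact h.symm
  choose next hnext using hnext
  let u : ∀ k, {u : K k ⟶ G // IsMonHom u ∧
      (Over.pullback (jq J)).map u = (Over.pullback (jq J)).map (i k) ≫ v₀} :=
    fun k => Nat.rec ⟨(hu 0).choose, (hu 0).choose_spec⟩ next k
  refine ⟨fun k => (u k).1, fun k => (u k).2.1, fun k => (u k).2.2, fun j k h => ?_⟩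
  induction k, h using Nat.le_induction with
  | base => exact ⟨𝟙 _, Category.id_comp _, Category.id_comp _⟩
  | succ k _ ih =>
    obtain ⟨h, hi, hu'⟩ := ih
    refine ⟨h ≫ f k, by rw [Category.assoc, hfi, hi], ?_⟩
    rw [Category.assoc, show f k ≫ (u (k + 1)).1 = (u k).1 from hnext k (u k)]
    exact hu'


/-- Let S = Spec A be a Noetherian affine scheme, S₀ = Spec(A/J) with J an ideal of square zero, G an
S-group scheme of finite type, T₀ a subtorus of G₀ = G ×_S S₀, and q an integer invertible on S with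
q > 1 (the published statement writes q > 0; for q = 1 the family of powers of q is reduced to n = 1
and the hypothesis below holds for the unit section while the conclusion can fail, so this row
assumes q > 1). Suppose that for every n = q^k there is a subscheme Mₙ of G, flat over S, with Mₙ
×_S S₀ = ₙT₀ (the kernel of the n-th power map of T₀) as subschemes of G₀. Then there is a subtorus
T of G with T ×_S S₀ = T₀. -/
theorem result (A : Type u) [CommRing A] [IsNoetherianRing A] (J : Ideal A)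
    (hJ : J ^ 2 = ⊥) (G : Over (Spec (CommRingCat.of A))) [GrpObj G] [QuasiCompact G.hom] [LocallyOfFiniteType G.hom]
    (T₀ : Over (Spec (CommRingCat.of (A ⧸ J)))) [GrpObj T₀] (j₀ : T₀ ⟶ Red.bc (Spec.map (CommRingCat.ofHom (Ideal.Quotient.mk J))) G) [IsMonHom j₀] [Mono j₀] (ht₀ : Red.IsTorus T₀)
    (q : ℕ) (hq0 : 1 < q) (hq : IsUnit (q : A))
    (hM : ∀ (k : ℕ) (Mk : Over (Spec (CommRingCat.of (A ⧸ J)))) [GrpObj Mk] (mk : Mk ⟶ T₀), AlgGrp.IsKernel mk ((𝟙 T₀ : T₀ ⟶ T₀) ^ (q ^ k)) →
      ∃ (M' : Scheme.{u}) (h' : M' ⟶ G.left), IsImmersion h' ∧ Flat (h' ≫ G.hom) ∧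
        ∃ e : Limits.pullback h' (Limits.pullback.fst G.hom (Spec.map (CommRingCat.ofHom (Ideal.Quotient.mk J)))) ≅ Mk.left,
          e.hom ≫ (mk ≫ j₀).left = Limits.pullback.snd h' (Limits.pullback.fst G.hom (Spec.map (CommRingCat.ofHom (Ideal.Quotient.mk J))))) :
    ∃ (T : Over (Spec (CommRingCat.of A))) (_ : GrpObj T) (j : T ⟶ G), IsMonHom j ∧ Mono j ∧ Red.IsTorus T ∧
      ∃ e : Red.bc (Spec.map (CommRingCat.ofHom (Ideal.Quotient.mk J))) T ≅ T₀, e.hom ≫ j₀ = (Over.pullback (Spec.map (CommRingCat.ofHom (Ideal.Quotient.mk J)))).map j := by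
  classical
  have hn : IsNilpotent J := ⟨2, by rw [hJ, Ideal.zero_eq_bot]⟩
  obtain ⟨T, iT, hT, φ, hφ⟩ := TorusLift.exists_torus_lift hn T₀ ht₀
  haveI := hφ
  haveI : IsMonHom (φ.hom ≫ j₀) := TorusLift.isMonHom_comp hφ ‹IsMonHom j₀›
  choose K iK i him hik using fun k => TorusLift.exists_kernel_pow T hT (q ^ k)
  letI := iK
  haveI := him
  haveI : ∀ k, Mono (i k) := fun k => TorusLift.mono_of_isKernel (hik k)
  haveI : ∀ k, NeZero (q ^ k) := fun k => ⟨pow_ne_zero k (by omega)⟩
  have hmt := fun k => TorusLift.multType_etale_kernel (i k) hT (hik k) (by push_cast; exact hq.pow k)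
  have hker : ∀ k, AlgGrp.IsKernel ((Over.pullback (jq J)).map (i k)) ((𝟙 (Red.bc (jq J) T)) ^ (q ^ k)) := fun k => by
    have h := MultExt.isKernel_bc (jq J) (hik k)
    rwa [TorusLift.map_pow_bc] at h
  have hu : ∀ k, ∃ u : K k ⟶ G, IsMonHom u ∧
      (Over.pullback (jq J)).map u = (Over.pullback (jq J)).map (i k) ≫ φ.hom ≫ j₀ := by
    intro k
    haveI := TorusLift.mono_of_isKernel (hker k)
    obtain ⟨M', h', himm, hflat, e, he⟩ := hM k (Red.bc (jq J) (K k)) ((Over.pullback (jq J)).map (i k) ≫ φ.hom) (by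
      refine TorusLift.isKernel_of_lift ?_ fun X x hx => ?_
      · rw [← TorusLift.pow_comp_hom]
        have h := TorusLift.comp_pow_eq_one (hker k) (𝟙 _)
        rw [Category.id_comp] at h
        rw [h, MonObj.one_comp]
      · haveI : IsMonHom φ.inv := inferInstance
        obtain ⟨y, hy⟩ := TorusLift.exists_lift_of_isKernel (hker k) (x ≫ φ.inv)
          (by rw [← TorusLift.pow_comp_hom, hx, MonObj.one_comp])
        exact ⟨y, by rw [← Category.assoc, hy, Category.assoc, Iso.inv_hom_id, Category.comp_id]⟩)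
    haveI := himm; haveI := hflat
    haveI : Etale (K k).hom := (hmt k).2
    haveI : IsMonHom ((Over.pullback (jq J)).map (i k) ≫ φ.hom ≫ j₀) :=
      TorusLift.isMonHom_comp (DiagRep.isMonHom_bc_map (jq J) (i k)) ‹IsMonHom (φ.hom ≫ j₀)›
    haveI : LocallyOfFiniteType h' := inferInstance
    exact exists_hom_lift hJ (hmt k).1 _ h' e (by rw [← Category.assoc]; exact he)
  have hf : ∀ k, ∃ f : K k ⟶ K (k + 1), f ≫ i (k + 1) = i k := fun k =>
    TorusLift.exists_lift_of_isKernel (hik (k + 1)) (i k) (by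
      have h := TorusLift.comp_pow_eq_one (hik k) (𝟙 _)
      rw [Category.id_comp] at h
      rw [pow_succ q k, pow_mul, h, one_pow])
  choose f hfi using hf
  have hfm : ∀ k, IsMonHom (f k) := fun k => by
    haveI : IsMonHom (f k ≫ i (k + 1)) := by rw [hfi]; exact him k
    exact DiagRep.isMonHom_of_comp_mono (f k) (i (k + 1))
  obtain ⟨u, hum, hur, huc⟩ := exists_coherent hJ (φ.hom ≫ j₀) i (fun k => (hmt k).1) f hfm hfi hu
  have hd : TorusLift.TorsionData (q := q) J i u (φ.hom ≫ j₀) :=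
    { one_lt := hq0, unit := hq, monHom_b := him, mono_b := fun k => inferInstance, monHom_m := hum,
      multType := fun k => (hmt k).1, coh := huc, ker := hker, red := fun k => (hur k).symm }
  obtain ⟨j, ⟨hj, hjr, -⟩, -⟩ := TorusLift.existsUnique_coherent hd two_ne_zero hJ hT
  haveI := hj
  haveI : LocallyOfFinitePresentation G.hom := TorusLift.lfp_of_noetherian G
  refine ⟨T, iT, j, hj, TorusLift.mono_of_reduction (fun x hx => ⟨2, ?_⟩) hT j (by rw [hjr]; infer_instance), hT,
    φ, hjr.symm⟩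
  have h := Ideal.pow_mem_pow hx 2
  rwa [hJ, Submodule.mem_bot] at h

end Groth.Agent.S8427
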