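import Groth.Statements.S8428
import Groth.Agent.BorelLib.RedTorus
import Groth.Agent.TorsTupleLib.EtaleLocal
-- import your own Groth.Agent.* helpers here

set_option autoImplicit false
set_option maxHeartbeats 4000000
set_option synthInstance.maxHeartbeats 400000
set_option backward.isDefEq.respectTransparency false
universe u
open CategoryTheory MonoidalCategory CartesianMonoidalCategory MonObj GrpObj AlgebraicGeometry
open SGA3x

attribute [-instance] CategoryTheory.Hom.commGroup

namespace Groth.Agent.S8428

open Groth.Agent.BorelLib
attribute [local instance] BorelLib.pTop BorelLib.pTopTensor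

/-- Let G and G′ be S-group schemes, smooth, separated and of finite type over S, G admitting a maximal
torus locally for the fpqc topology, and u : G → G′ a homomorphism which is surjective on every
geometric fibre. Then G′ admits a maximal torus locally for the etale topology. -/
theorem result (S : Scheme.{u}) (G G' : Over S) [GrpObj G] [GrpObj G']
    [Smooth G.hom] [IsSeparated G.hom] [QuasiCompact G.hom] [Smooth G'.hom] [IsSeparated G'.hom] [QuasiCompact G'.hom]
    (hG : SGA3x.HasMaxTorusFpqcLocally G) (u : G ⟶ G') [IsMonHom u]
    (hu : ∀ s : S, Surjective ((Over.pullback (Red.geomPt s)).map u).left) :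
    SGA3x.HasMaxTorusEtaleLocally G' := by
  haveI : Surjective u.left := MaxTorConj.surjective_of_geom_fibres u hu
  obtain ⟨S', f, hf, hs, hcov, T, _, i, hi⟩ := hG
  haveI : Smooth (Red.bc f G).hom := MorphismProperty.pullback_snd (P := @Smooth) _ _ inferInstance
  haveI : QuasiCompact (Red.bc f G).hom := MorphismProperty.pullback_snd (P := @QuasiCompact) _ _ inferInstance
  haveI : Smooth (Red.bc f G').hom := MorphismProperty.pullback_snd (P := @Smooth) _ _ inferInstance
  haveI : IsSeparated (Red.bc f G').hom := inferInstanceAs (IsSeparated (Limits.pullback.snd G'.hom f))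
  haveI : QuasiCompact (Red.bc f G').hom := MorphismProperty.pullback_snd (P := @QuasiCompact) _ _ inferInstance
  haveI : IsMonHom (M := Red.bc f G) (N := Red.bc f G') ((Over.pullback f).map u) := DiagRep.isMonHom_bc_map f u
  haveI : Surjective ((Over.pullback f).map u).left := BorelLib.surjective_bc f u
  obtain ⟨T', hT', i', -, -, hi', -⟩ := MaxTorConj.exists_image_max ((Over.pullback f).map u) hi
  exact TorsTuple.hasMaxTorusEtaleLocally ⟨S', f, hf, hs, hcov, T', hT', i', hi'⟩

end Groth.Agent.S8428
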