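import Groth.Statements.S8430
import Groth.Agent.BorelLib.CentralPreimageRanks
import Groth.Agent.CentLocusLib.Global
import Groth.Agent.AbSchLib.Flat
-- import your own Groth.Agent.* helpers here

set_option autoImplicit false
set_option maxHeartbeats 4000000
set_option synthInstance.maxHeartbeats 400000
set_option backward.isDefEq.respectTransparency false
universe u
open CategoryTheory CategoryTheory.Limits MonoidalCategory CartesianMonoidalCategory MonObj GrpObj AlgebraicGeometry
open SGA3x

attribute [-instance] CategoryTheory.Hom.commGroup

namespace Groth.Agent.S8430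

open Groth.Agent.BorelLib
attribute [local instance] BorelLib.pTop BorelLib.pTopTensor

/-- Let G, G′ be S-group schemes, smooth and of finite presentation over S, u : G → G′ a homomorphism
which is faithfully flat on every fibre, with Ker u central and G with connected fibres. Then for
every subgroup scheme H′ of G′, smooth and of finite presentation over S and having the same
reductive and nilpotent ranks as G′ at every point (each geometric fibre contains a Cartan
subgroup), the inverse image H = u⁻¹(H′) is a subgroup scheme of G, smooth and of finite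
presentation over S, with the same property relative to G; and H has connected fibres if and only if
H′ does. (The published statement also asserts that H′ ↦ u⁻¹(H′) is a bijection onto the subgroup
schemes of G that are smooth, of finite presentation and have the ranks of G everywhere; this row
states only that u⁻¹(H′) is one of them.) -/
theorem result (S : Scheme.{u}) (G G' : Over S)
    [GrpObj G] [GrpObj G'] [Smooth G.hom] [QuasiCompact G.hom] [QuasiSeparated G.hom]
    [Smooth G'.hom] [QuasiCompact G'.hom] [QuasiSeparated G'.hom]
    (hconn : ∀ s : S, _root_.IsConnected (G.hom.base ⁻¹' {s}))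
    (u : G ⟶ G') [IsMonHom u] (hu : ∀ s : S, Surjective ((Over.pullback (S.fromSpecResidueField s)).map u).left ∧
      Flat ((Over.pullback (S.fromSpecResidueField s)).map u).left)
    (hker : ∀ (X : Over S) (z : X ⟶ G), z ≫ u = 1 → ∀ (X' : Over S) (x : X' ⟶ X) (g : X' ⟶ G),
      (x ≫ z) * g = g * (x ≫ z))
    (H' : Over S) [GrpObj H'] (h' : H' ⟶ G') [IsMonHom h'] [Mono h'] [Smooth H'.hom] [QuasiCompact H'.hom]
    (hH' : ∀ s : S, ∃ (C' : Over (Spec (CommRingCat.of (AlgebraicClosure (S.residueField s))))) (_ : GrpObj C')
      (c' : C' ⟶ Red.geomFibre s H'), SGA3x.IsCartanOver _ (c' ≫ (Over.pullback (Red.geomPt s)).map h')) :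
    Smooth (Limits.pullback h' u).hom ∧ QuasiCompact (Limits.pullback h' u).hom ∧
    (∀ s : S, ∃ (C : Over (Spec (CommRingCat.of (AlgebraicClosure (S.residueField s))))) (_ : GrpObj C)
      (c : C ⟶ Red.geomFibre s (Limits.pullback h' u)),
      SGA3x.IsCartanOver _ (c ≫ (Over.pullback (Red.geomPt s)).map (Limits.pullback.snd h' u))) ∧
    ((∀ s : S, _root_.IsConnected ((Limits.pullback h' u).hom.base ⁻¹' {s})) ↔
      ∀ s : S, _root_.IsConnected (H'.hom.base ⁻¹' {s})) := by
  haveI : Surjective u.left := CentPre.surjective_of_residue_fibres u fun s => (hu s).1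
  haveI : GeometricallyReduced G'.hom := AbSchLib.geometricallyReduced_of_smooth G'.hom
  haveI : Flat u.left := AbSchLib.flat_of_surjective u
  haveI := CentPre.lfp_left u
  haveI : QuasiCompact u.left := by
    haveI : QuasiCompact (u.left ≫ G'.hom) := by rw [Over.w u]; infer_instance
    exact QuasiCompact.of_comp u.left G'.hom
  let P := Limits.pullback h' u
  let v : P ⟶ H' := pullback.fst h' u
  let b : P ⟶ G := pullback.snd h' u
  have hpb : IsPullback b v u h' := (IsPullback.of_hasPullback h' u).flip
  have hsq : IsPullback b.left v.left u.left h'.left := hpb.map (Over.forget _)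
  haveI : Flat v.left := MorphismProperty.of_isPullback (P := @Flat) hsq ‹_›
  haveI : Surjective v.left := MorphismProperty.of_isPullback (P := @Surjective) hsq ‹_›
  haveI : QuasiCompact v.left := MorphismProperty.of_isPullback (P := @QuasiCompact) hsq ‹_›
  haveI : LocallyOfFinitePresentation v.left :=
    MorphismProperty.of_isPullback (P := @LocallyOfFinitePresentation) hsq ‹_›
  haveI : Flat P.hom := by rw [← Over.w v]; infer_instance
  haveI : LocallyOfFinitePresentation P.hom := by rw [← Over.w v]; infer_instance
  have hqP : QuasiCompact P.hom := by rw [← Over.w v]; infer_instance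
  have hconnG : ∀ (s : S), ConnectedSpace ↥(Red.geomFibre s G).left := fun s => by
    refine CentLocus.connectedSpace_geom (fun t => ?_) (Red.geomPt s)
    haveI := isConnected_iff_connectedSpace.1 (hconn t)
    exact (G.hom.fiberHomeo t).symm.surjective.connectedSpace (G.hom.fiberHomeo t).symm.continuous
  have hs : ∀ (H : Over S) [Smooth H.hom] (s : S), Smooth (Red.geomFibre s H).hom := fun H _ s =>
    MorphismProperty.pullback_snd (P := @Smooth) _ _ inferInstance
  have hq : ∀ (H : Over S) [QuasiCompact H.hom] (s : S), QuasiCompact (Red.geomFibre s H).hom := fun H _ s =>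
    MorphismProperty.pullback_snd (P := @QuasiCompact) _ _ inferInstance
  have hgeom : ∀ s : S, Smooth (Red.geomFibre s P).hom ∧
      (∃ (C : Over (Spec (CommRingCat.of (AlgebraicClosure (S.residueField s))))) (_ : GrpObj C)
        (c : C ⟶ Red.geomFibre s P), SGA3x.IsCartanOver _ (c ≫ (Over.pullback (Red.geomPt s)).map b)) ∧
      (ConnectedSpace (Red.geomFibre s H').left → ConnectedSpace (Red.geomFibre s P).left) := fun s => by
    haveI := hs G s; haveI := hq G s; haveI := hs G' s; haveI := hq G' s; haveI := hs H' s; haveI := hq H' s
    haveI := hconnG s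
    haveI := DiagRep.isMonHom_bc_map (Red.geomPt s) u
    haveI := DiagRep.isMonHom_bc_map (Red.geomPt s) h'
    haveI := surjective_bc (Red.geomPt s) u
    haveI := mono_bc (Red.geomPt s) h'
    haveI : ConnectedSpace (Red.geomFibre s G').left :=
      (Scheme.Hom.surjective ((Over.pullback (Red.geomPt s)).map u).left).connectedSpace
        ((Over.pullback (Red.geomPt s)).map u).left.continuous
    obtain ⟨C', _, c', hC'⟩ := hH' s
    exact CentPre.preimage_facts (CentPre.kerCentral_bc (Red.geomPt s) hker) c' hC'
      (hpb.map (Over.pullback (Red.geomPt s)))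
  refine ⟨CentPre.smooth_of_geom_fibres P fun s => (hgeom s).1, hqP, fun s => (hgeom s).2.1, ?_, ?_⟩
  · intro h s
    have e : H'.hom.base ⁻¹' {s} = v.left.base '' (P.hom.base ⁻¹' {s}) := by
      ext x
      constructor
      · intro hx
        obtain ⟨y, rfl⟩ := v.left.surjective x
        refine ⟨y, ?_, rfl⟩
        show P.hom y = s
        rw [← Over.w v, Scheme.Hom.comp_apply]; exact hx
      · rintro ⟨y, hy, rfl⟩
        show H'.hom (v.left y) = s
        rw [← Scheme.Hom.comp_apply, Over.w v]; exact hy
    rw [e]
    exact (h s).image _ v.left.continuous.continuousOn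
  · intro h s
    haveI : ConnectedSpace (Red.geomFibre s H').left := by
      refine CentLocus.connectedSpace_geom (fun t => ?_) (Red.geomPt s)
      haveI := isConnected_iff_connectedSpace.1 (h t)
      exact (H'.hom.fiberHomeo t).symm.surjective.connectedSpace (H'.hom.fiberHomeo t).symm.continuous
    haveI := (hgeom s).2.2 inferInstance
    exact CentPre.isConnected_fibre_of_geom P s

end Groth.Agent.S8430
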