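import Groth.Statements.S8433
import Groth.Agent.CentMaxTorLib.Descend

set_option autoImplicit false
set_option backward.isDefEq.respectTransparency false
set_option backward.isDefEq.respectTransparency.types false
set_option maxHeartbeats 1000000
set_option synthInstance.maxHeartbeats 400000
universe u
open CategoryTheory MonoidalCategory CartesianMonoidalCategory MonObj GrpObj AlgebraicGeometry
open SGA3x

attribute [-instance] CategoryTheory.Hom.commGroup
namespace Groth.Agent.S8433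

/-- Let G be an S-group scheme of finite presentation over S which admits, locally for the fpqc
topology, a central maximal torus. Then G admits globally a unique maximal torus T, which is the
largest subtorus of G (every subtorus factors through T), and T is central. -/
theorem result (S : Scheme.{u}) (G : Over S) [GrpObj G]
    [QuasiCompact G.hom] [QuasiSeparated G.hom] [LocallyOfFinitePresentation G.hom]
    (h : ∃ (S' : Scheme.{u}) (f : S' ⟶ S), Flat f ∧ Surjective f ∧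
      (∀ V : S.Opens, IsAffineOpen V → ∃ W : S'.Opens, IsCompact (W : Set ↥S') ∧ f.base '' (W : Set ↥S') = (V : Set ↥S)) ∧
      ∃ (T' : Over S') (_ : GrpObj T') (i' : T' ⟶ Red.bc f G), Red.IsMaximalTorus i' ∧
        ∀ (X : Over S') (t : X ⟶ T') (g : X ⟶ Red.bc f G), (t ≫ i') * g = g * (t ≫ i')) :
    ∃ (T : Over S) (_ : GrpObj T) (i : T ⟶ G), Red.IsMaximalTorus i ∧
      (∀ (X : Over S) (t : X ⟶ T) (g : X ⟶ G), (t ≫ i) * g = g * (t ≫ i)) ∧
      ∀ (R : Over S) [GrpObj R] (j : R ⟶ G) [IsMonHom j] [Mono j], Red.IsTorus R → ∃ f : R ⟶ T, f ≫ i = j := by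
  obtain ⟨S', π, hfl, hsu, hcov, T', _, i', hT', hc'⟩ := h
  haveI := hfl; haveI := hsu; haveI := hT'.1; haveI := hT'.2.1
  have hc : MultLift.Central i' := fun X g t => (hc' X t g).symm
  haveI : LocallyOfFinitePresentation (Red.bc π G).hom :=
    inferInstanceAs (LocallyOfFinitePresentation (Limits.pullback.snd G.hom π))
  haveI : QuasiCompact (Red.bc π G).hom := inferInstanceAs (QuasiCompact (Limits.pullback.snd G.hom π))
  obtain ⟨U, j, θ, hθ⟩ := CentMaxTor.exists_descend π i' hcov hT' hc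
  let F := Over.pullback π
  haveI : Mono j := ⟨fun {Y} a b hab => by
    refine CentMaxTor.map_injective π hcov ?_
    have h1 : (F.map a ≫ θ.hom) ≫ i' = (F.map b ≫ θ.hom) ≫ i' := by
      rw [Category.assoc, Category.assoc, hθ, ← F.map_comp, ← F.map_comp, hab]
    exact (cancel_mono θ.hom).1 ((cancel_mono i').1 h1)⟩
  have hback : ∀ {Y : Over S} (y : Y ⟶ G), (∃ a : Red.bc π Y ⟶ T', a ≫ i' = F.map y) → ∃ h : Y ⟶ U, h ≫ j = y :=
    fun y ⟨a, ha⟩ => CentMaxTor.factor π hcov j y (a ≫ θ.inv) (by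
      rw [← hθ, Category.assoc, Iso.inv_hom_id_assoc, ha])
  have hpt : ∀ {Y : Over S} (a : Y ⟶ U), F.map (a ≫ j) = (F.map a ≫ θ.hom) ≫ i' := fun a => by
    rw [F.map_comp, Category.assoc, hθ]
  have hmap1 : ∀ {Y : Over S}, F.map (1 : Y ⟶ G) = (1 : Red.bc π Y ⟶ Red.bc π G) := fun {Y} => by
    have h := Functor.map_mul F (1 : Y ⟶ G) 1
    exact left_eq_mul.1 (((congrArg F.map (one_mul (1 : Y ⟶ G))).symm.trans h))
  have hm := hback ((fst U U ≫ j) * (snd U U ≫ j))
    ⟨(F.map (fst U U) ≫ θ.hom) * (F.map (snd U U) ≫ θ.hom), by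
      rw [MonObj.mul_comp, ← hpt, ← hpt]; exact (Functor.map_mul F _ _).symm⟩
  have he := hback (1 : 𝟙_ (Over S) ⟶ G) ⟨1, by rw [MonObj.one_comp, hmap1]⟩
  have hn := hback j⁻¹ ⟨θ.hom⁻¹, by
    rw [GrpObj.inv_comp, hθ]
    refine inv_eq_of_mul_eq_one_left ?_
    exact (Functor.map_mul F j⁻¹ j).symm.trans ((congrArg F.map (inv_mul_cancel j)).trans hmap1)⟩
  obtain ⟨I, hj⟩ := SubDesc.exists_grpObj_of_mono j hm he hn
  letI := I
  haveI := hj
  haveI : IsMonHom (M := Red.bc π U) (N := Red.bc π G) (F.map j) := DiagRep.isMonHom_bc_map π j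
  haveI : IsMonHom (M := Red.bc π U) (N := Red.bc π G) (θ.hom ≫ i') := by rw [hθ]; infer_instance
  haveI : IsMonHom θ.hom := DiagRep.isMonHom_of_comp_mono θ.hom i'
  have hU : Red.IsTorus U := by
    obtain ⟨S'', f, hflat, hsurj, hcovf, hloc⟩ := hT'.2.2.1
    haveI := hflat
    haveI := hsurj
    refine ⟨S'', f ≫ π, inferInstance, inferInstance, SubDesc.hcov_comp π f hcovf hcov, fun z => ?_⟩
    obtain ⟨V, hzV, r, ⟨e⟩⟩ := hloc z
    let g := V.ι ≫ f
    let e₁ : Red.bc g T' ≅ Red.DS (V : Scheme.{u}) (Fin r → ℤ) := (Grp.forget _).mapIso e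
    haveI : IsMonHom e₁.hom := e.hom.hom.isMonHom_hom
    let b : Red.bc g (Red.bc π U) ≅ Red.bc (V.ι ≫ f ≫ π) U := ActBC.bcCompIso g π U (Category.assoc _ _ _)
    haveI : IsMonHom b.hom := ActBC.bcCompIso_isMonHom _ _ _
    haveI : IsMonHom b.inv := inferInstance
    haveI : IsMonHom (M := Red.bc g (Red.bc π U)) (N := Red.bc g T') ((Over.pullback g).map θ.hom) :=
      DiagRep.isMonHom_bc_map g θ.hom
    let w : Red.bc (V.ι ≫ f ≫ π) U ≅ Red.DS (V : Scheme.{u}) (Fin r → ℤ) := b.symm ≪≫ (Over.pullback g).mapIso θ ≪≫ e₁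
    haveI : IsMonHom w.hom := by
      show IsMonHom (b.inv ≫ (Over.pullback g).map θ.hom ≫ e₁.hom)
      infer_instance
    exact ⟨V, hzV, r, ⟨Grp.mkIso' w⟩⟩
  have hmax : Red.IsMaximalTorus (T := Red.bc π U) (G := Red.bc π G) (F.map j) :=
    hθ ▸ TorsTuple.isMaximalTorus_precomp θ hT'
  refine ⟨U, I, j, TorsTuple.isMaximalTorus_of_bc hU fun s => ⟨S', π, _, (π.surjective s).choose_spec, hmax⟩,
    fun X t g => CentMaxTor.map_injective π hcov ?_, fun R _ jR _ _ hR => ?_⟩
  · rw [Functor.map_mul, Functor.map_mul, hpt]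
    exact hc' _ _ _
  · haveI : IsMonHom (M := Red.bc π R) (N := Red.bc π G) (F.map jR) := DiagRep.isMonHom_bc_map π jR
    let P := Over.pullback (𝟙 S')
    haveI : IsMonHom (M := Red.bc (𝟙 S') (Red.bc π R)) (N := Red.bc (𝟙 S') (Red.bc π G)) (P.map (F.map jR)) :=
      DiagRep.isMonHom_bc_map (𝟙 S') (F.map jR)
    obtain ⟨f, hf⟩ := CentMaxTor.exists_factor_central hT' hc (𝟙 S') (P.map (F.map jR))
      (RedRank.isTorus_bc (RedRank.isTorus_bc hR π) (𝟙 S'))
    refine hback jR ⟨(asIso (BorelLib.bcIdHom (Red.bc π R))).inv ≫ f ≫ BorelLib.bcIdHom T', ?_⟩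
    have e1 : P.map i' ≫ BorelLib.bcIdHom (Red.bc π G) = BorelLib.bcIdHom T' ≫ i' :=
      BorelLib.bcIdHom_naturality _ i'
    have e2 : P.map (F.map jR) ≫ BorelLib.bcIdHom (Red.bc π G) = BorelLib.bcIdHom (Red.bc π R) ≫ F.map jR :=
      BorelLib.bcIdHom_naturality _ (F.map jR)
    rw [Category.assoc, Category.assoc, ← e1, reassoc_of% hf, e2, asIso_inv, IsIso.inv_hom_id_assoc]

end Groth.Agent.S8433
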