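import Groth.Statements.S8434
import Groth.Agent.BorelLib.CentralPreimageRel
import Groth.Agent.BorelLib.ImageField
import Groth.Agent.CentLocusLib.Global
import Groth.Agent.MonoQuotLib.Kernel
import Groth.Agent.S1133
import Groth.Agent.S0083
import Groth.Agent.FlatLib.SmoothScheme
-- import your own Groth.Agent.* helpers here

set_option autoImplicit false
set_option maxHeartbeats 4000000
set_option synthInstance.maxHeartbeats 400000
set_option backward.isDefEq.respectTransparency false
universe u
open CategoryTheory CategoryTheory.Limits MonoidalCategory CartesianMonoidalCategory MonObj GrpObj AlgebraicGeometry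
open SGA3x

attribute [-instance] CategoryTheory.Hom.commGroup

namespace Groth.Agent.S8434

open Groth.Agent.BorelLib
attribute [local instance] BorelLib.pTop BorelLib.pTopTensor

/-- Let G, G′ be S-group schemes, smooth and of finite presentation over S with connected fibres, and u
: G → G′ a faithfully flat homomorphism whose kernel is central in G. Then B′ ↦ u⁻¹(B′) sends Borel
subgroups of G′ (subgroup schemes smooth and of finite presentation over S whose geometric fibres
are Borel subgroups) to Borel subgroups of G, and every Borel subgroup of G arises in this way: if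
B′ is a Borel subgroup of G′ and B is an S-group scheme with homomorphisms b : B → G and v : B → B′
making B = G ×_{G′} B′, then B is a Borel subgroup of G; and every Borel subgroup of G is such an
inverse image of some Borel subgroup of G′. (The published statement says that B′ ↦ u⁻¹(B′) is a
bijection; its injectivity, a consequence of faithful flatness of u, is not stated here.) -/
theorem result (S : Scheme.{u}) (G G' : Over S) [GrpObj G] [GrpObj G']
    [Smooth G.hom] [QuasiCompact G.hom] [QuasiSeparated G.hom] [Smooth G'.hom] [QuasiCompact G'.hom] [QuasiSeparated G'.hom]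
    (hconn : ∀ s : S, _root_.IsConnected (G.hom.base ⁻¹' {s})) (hconn' : ∀ s : S, _root_.IsConnected (G'.hom.base ⁻¹' {s}))
    (u : G ⟶ G') [IsMonHom u] [Flat u.left] [Surjective u.left]
    (hker : ∀ (X : Over S) (z : X ⟶ G), z ≫ u = 1 → ∀ (X' : Over S) (x : X' ⟶ X) (g : X' ⟶ G),
      (x ≫ z) * g = g * (x ≫ z)) :
    (∀ (B' : Over S) [GrpObj B'] (b' : B' ⟶ G'), (IsMonHom b' ∧ Mono b' ∧ Smooth B'.hom ∧ QuasiCompact B'.hom ∧
      ∀ s : S, Red.IsBorelOver (AlgebraicClosure (S.residueField s)) ((Over.pullback (Red.geomPt s)).map b')) →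
      ∀ (B : Over S) [GrpObj B] (b : B ⟶ G) [IsMonHom b] (v : B ⟶ B') [IsMonHom v], IsPullback b v u b' → (IsMonHom b ∧ Mono b ∧ Smooth B.hom ∧ QuasiCompact B.hom ∧
      ∀ s : S, Red.IsBorelOver (AlgebraicClosure (S.residueField s)) ((Over.pullback (Red.geomPt s)).map b))) ∧
    (∀ (B : Over S) [GrpObj B] (b : B ⟶ G), (IsMonHom b ∧ Mono b ∧ Smooth B.hom ∧ QuasiCompact B.hom ∧
      ∀ s : S, Red.IsBorelOver (AlgebraicClosure (S.residueField s)) ((Over.pullback (Red.geomPt s)).map b)) →
      ∃ (B' : Over S) (_ : GrpObj B') (b' : B' ⟶ G') (v : B ⟶ B'), (IsMonHom b' ∧ Mono b' ∧ Smooth B'.hom ∧ QuasiCompact B'.hom ∧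
      ∀ s : S, Red.IsBorelOver (AlgebraicClosure (S.residueField s)) ((Over.pullback (Red.geomPt s)).map b')) ∧ IsMonHom v ∧
        IsPullback b v u b') := by
  have hconnG : ∀ (s : S), ConnectedSpace ↥(Red.geomFibre s G).left := fun s => by
    refine CentLocus.connectedSpace_geom (fun t => ?_) (Red.geomPt s)
    haveI := isConnected_iff_connectedSpace.1 (hconn t)
    exact (G.hom.fiberHomeo t).symm.surjective.connectedSpace (G.hom.fiberHomeo t).symm.continuous
  have hconnG' : ∀ (s : S), ConnectedSpace ↥(Red.geomFibre s G').left := fun s => by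
    refine CentLocus.connectedSpace_geom (fun t => ?_) (Red.geomPt s)
    haveI := isConnected_iff_connectedSpace.1 (hconn' t)
    exact (G'.hom.fiberHomeo t).symm.surjective.connectedSpace (G'.hom.fiberHomeo t).symm.continuous
  haveI := CentPre.lfp_left u
  haveI hqu : QuasiCompact u.left := by
    haveI : QuasiCompact (u.left ≫ G'.hom) := by rw [Over.w u]; infer_instance
    exact QuasiCompact.of_comp u.left G'.hom
  have hs : ∀ (H : Over S) [Smooth H.hom] (s : S), Smooth (Red.geomFibre s H).hom := fun H _ s =>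
    MorphismProperty.pullback_snd (P := @Smooth) _ _ inferInstance
  have hq : ∀ (H : Over S) [QuasiCompact H.hom] (s : S), QuasiCompact (Red.geomFibre s H).hom := fun H _ s =>
    MorphismProperty.pullback_snd (P := @QuasiCompact) _ _ inferInstance
  refine ⟨?_, ?_⟩
  · intro B' _ b' hB' B _ b _ v _ hpb
    obtain ⟨hb'm, hb'mono, hB's, hB'q, hB'g⟩ := hB'
    haveI := hb'm; haveI := hb'mono; haveI := hB's; haveI := hB'q
    have hsq : IsPullback b.left v.left u.left b'.left := hpb.map (Over.forget _)
    haveI : Flat v.left := MorphismProperty.of_isPullback (P := @Flat) hsq ‹_›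
    haveI : Surjective v.left := MorphismProperty.of_isPullback (P := @Surjective) hsq ‹_›
    haveI : QuasiCompact v.left := MorphismProperty.of_isPullback (P := @QuasiCompact) hsq ‹_›
    haveI : LocallyOfFinitePresentation v.left :=
      MorphismProperty.of_isPullback (P := @LocallyOfFinitePresentation) hsq ‹_›
    haveI hBq : QuasiCompact B.hom := by rw [← Over.w v]; infer_instance
    haveI : Flat B.hom := by rw [← Over.w v]; infer_instance
    haveI : LocallyOfFinitePresentation B.hom := by rw [← Over.w v]; infer_instance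
    have hgeom : ∀ s : S, Red.IsBorelOver (AlgebraicClosure (S.residueField s))
        ((Over.pullback (Red.geomPt s)).map b) := fun s => by
      haveI := hs G s; haveI := hq G s; haveI := hs G' s; haveI := hq G' s
      haveI := hconnG s; haveI := hconnG' s
      haveI := DiagRep.isMonHom_bc_map (Red.geomPt s) u
      haveI := DiagRep.isMonHom_bc_map (Red.geomPt s) b
      haveI := surjective_bc (Red.geomPt s) u
      exact CentPre.isBorelOver_of_isPullback (CentPre.kerCentral_bc (Red.geomPt s) hker) (hB'g s)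
        (hpb.map (Over.pullback (Red.geomPt s)))
    haveI : Mono b := PullbackCone.mono_fst_of_is_pullback_of_mono hpb.isLimit
    exact ⟨inferInstance, inferInstance, CentPre.smooth_of_geom_fibres B fun s => (hgeom s).2.2.1, hBq, hgeom⟩
  · intro B _ b hB
    obtain ⟨hbm, hbmono, hBs, hBq, hBg⟩ := hB
    haveI := hbm; haveI := hbmono; haveI := hBs; haveI := hBq
    haveI : QuasiSeparated B.hom := by
      haveI : Mono b.left := inferInstanceAs (Mono ((Over.forget S).map b))
      rw [← Over.w b]; infer_instance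
    obtain ⟨hN, hbc⟩ := isNormalizerOf_self_of_geomFibres (i := b) (fun s => (hBg s).2.2.2.1) fun s => by
      haveI := hs G s; haveI := hq G s; haveI := hconnG s
      exact BorelLib.NA.isNormalizerOf_self (hBg s)
    haveI := hbc
    have hK : ∀ (X : Over S) (z : X ⟶ G), z ≫ u = 1 → ∃ y : X ⟶ B, y ≫ b = z := fun X z hz =>
      (hN.2.2 X z).2 fun X' x h => by
        have hc := hker X z hz X' x (h ≫ b)
        exact ⟨⟨h, by rw [hc, mul_inv_cancel_right]⟩, ⟨h, by rw [_root_.mul_assoc, ← hc, inv_mul_cancel_left]⟩⟩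
    have key : ∀ {T : Scheme.{u}} (x₀ x₁ : T ⟶ G.left), x₀ ≫ u.left = x₁ ≫ u.left →
        (∃ l : T ⟶ B.left, l ≫ b.left = x₀) → ∃ l : T ⟶ B.left, l ≫ b.left = x₁ := by
      intro T x₀ x₁ h ⟨l, hl⟩
      let X : Over S := Over.mk (x₀ ≫ G.hom)
      have hw : x₁ ≫ G.hom = x₀ ≫ G.hom := by rw [← Over.w u, ← Category.assoc, ← h, Category.assoc]
      let g₀ : X ⟶ G := Over.homMk x₀ rfl
      let g₁ : X ⟶ G := Over.homMk x₁ hw
      let m : X ⟶ B := Over.homMk l (by show l ≫ B.hom = x₀ ≫ G.hom; rw [← hl, Category.assoc, Over.w b])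
      have hm : m ≫ b = g₀ := Over.OverMorphism.ext hl
      have hu : g₀ ≫ u = g₁ ≫ u := Over.OverMorphism.ext h
      obtain ⟨y, hy⟩ := hK X (g₀⁻¹ * g₁) (by rw [MonObj.mul_comp, GrpObj.inv_comp, hu, inv_mul_cancel])
      have : (m * y) ≫ b = g₁ := by rw [MonObj.mul_comp, hm, hy, mul_inv_cancel_left]
      exact ⟨(m * y).left, by rw [← Over.comp_left, this]; rfl⟩
    haveI : Mono b.left := inferInstanceAs (Mono ((Over.forget S).map b))
    have hsub : ∀ {T : Scheme.{u}} {x : T ⟶ G.left} (v v' : {l : T ⟶ B.left // l ≫ b.left = x}), v = v' :=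
      fun v v' => Subtype.ext ((cancel_mono b.left).1 (v.2.trans v'.2.symm))
    let mv : ∀ {T : Scheme.{u}} (x₀ x₁ : T ⟶ G.left), x₀ ≫ u.left = x₁ ≫ u.left →
        {l : T ⟶ B.left // l ≫ b.left = x₀} → {l : T ⟶ B.left // l ≫ b.left = x₁} := fun x₀ x₁ h v =>
      ⟨(key x₀ x₁ h ⟨v.1, v.2⟩).choose, (key x₀ x₁ h ⟨v.1, v.2⟩).choose_spec⟩
    let D : Desc.SchDD u.left :=
      { obj := Over.mk b.left
        φ := fun T x₀ x₁ h => ⟨mv x₀ x₁ h, mv x₁ x₀ h.symm, fun v => hsub _ _, fun v => hsub _ _⟩
        φ_natural := fun T T' g x₀ x₁ h h' v v' hv' => (cancel_mono b.left).1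
          ((mv (g ≫ x₀) (g ≫ x₁) h' v').2.trans (by
            rw [Category.assoc]; exact congrArg (g ≫ ·) (mv x₀ x₁ h v).2.symm))
        φ_self := fun T x v => hsub _ _
        φ_comp := fun T x₀ x₁ x₂ h₀₁ h₁₂ v => hsub _ _ }
    haveI : IsAffineHom D.obj.hom := inferInstanceAs (IsAffineHom b.left)
    obtain ⟨U, ⟨e⟩⟩ := Groth.Agent.S1133.result u.left D
    let w : pullback u.left U.hom ⟶ B.left := e.hom.hom.left
    let w' : B.left ⟶ pullback u.left U.hom := e.inv.hom.left
    have hw : w ≫ b.left = pullback.fst u.left U.hom := Over.w e.hom.hom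
    have hw' : w' ≫ pullback.fst u.left U.hom = b.left := Over.w e.inv.hom
    have hww : w ≫ w' = 𝟙 _ := congrArg (fun f => f.hom.left) e.hom_inv_id
    have hww' : w' ≫ w = 𝟙 _ := congrArg (fun f => f.hom.left) e.inv_hom_id
    haveI : IsIso w' := ⟨w, hww', hww⟩
    haveI : IsClosedImmersion (pullback.fst u.left U.hom) := by
      haveI : IsIso w := ⟨w', hww, hww'⟩
      rw [← hw]; infer_instance
    haveI := Groth.Agent.S0083.result.{u}
    haveI : IsClosedImmersion U.hom := MorphismProperty.of_isPullback_of_descendsAlong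
      (P := @IsClosedImmersion) (Q := @Surjective ⊓ @Flat ⊓ @QuasiCompact)
      (IsPullback.of_hasPullback u.left U.hom) ⟨⟨‹_›, ‹_›⟩, ‹_›⟩ ‹_›
    let B' : Over S := Over.mk (U.hom ≫ G'.hom)
    let b' : B' ⟶ G' := Over.homMk U.hom rfl
    let v : B ⟶ B' := Over.homMk (w' ≫ pullback.snd u.left U.hom) (by
      show (w' ≫ pullback.snd u.left U.hom) ≫ U.hom ≫ G'.hom = B.hom
      rw [Category.assoc, ← pullback.condition_assoc, Over.w u, ← Category.assoc, hw', Over.w b])
    have hsq : IsPullback b.left v.left u.left b'.left :=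
      IsPullback.of_iso (IsPullback.of_hasPullback u.left U.hom) (asIso w').symm (Iso.refl _) (Iso.refl _)
        (Iso.refl _) (by simp [← hw']) (by simp [v]) (by simp) (by simp [b'])
    have hpb : IsPullback b v u b' :=
      IsPullback.of_map (Over.forget S) (Over.OverMorphism.ext hsq.w) hsq
    haveI : IsClosedImmersion b'.left := ‹IsClosedImmersion U.hom›
    haveI : Mono b' := DiagRep.mono_of_isClosedImmersion b' inferInstance
    haveI : Flat v.left := MorphismProperty.of_isPullback (P := @Flat) hsq ‹_›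
    haveI : Surjective v.left := MorphismProperty.of_isPullback (P := @Surjective) hsq ‹_›
    haveI : LocallyOfFinitePresentation v.left :=
      MorphismProperty.of_isPullback (P := @LocallyOfFinitePresentation) hsq ‹_›
    obtain ⟨I, hv, hb'⟩ := MonoQuot.exists_grpObj_image (u := b ≫ u) v b' hpb.w.symm
    letI := I; haveI := hv; haveI := hb'
    haveI hB'q : QuasiCompact B'.hom := by rw [← Over.w b']; infer_instance
    haveI hB's : Smooth B'.hom := by
      haveI : Smooth (v.left ≫ B'.hom) := by rw [Over.w v]; infer_instance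
      exact FlatLib.smooth_of_fppf_comp v.left B'.hom
    refine ⟨B', I, b', v, ⟨hb', inferInstance, hB's, hB'q, fun s => ?_⟩, hv, hpb⟩
    haveI := hs G s; haveI := hq G s; haveI := hs G' s; haveI := hq G' s; haveI := hs B' s
    haveI := hconnG s; haveI := hconnG' s
    haveI := DiagRep.isMonHom_bc_map (Red.geomPt s) u
    haveI := DiagRep.isMonHom_bc_map (Red.geomPt s) b'
    haveI := surjective_bc (Red.geomPt s) u
    haveI := surjective_bc (Red.geomPt s) v
    haveI := isClosedImmersion_bc (Red.geomPt s) b'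
    exact CentPre.isBorelOver_of_isPullback' (CentPre.kerCentral_bc (Red.geomPt s) hker) (hBg s)
      (hpb.map (Over.pullback (Red.geomPt s)))

end Groth.Agent.S8434
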