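import Groth.Statements.S8437
import Groth.Agent.BorelLib.RedTorus
import Groth.Agent.TorsTupleLib.CartanImage
import Groth.Agent.S4119
-- import your own Groth.Agent.* helpers here

set_option autoImplicit false
set_option maxHeartbeats 4000000
set_option synthInstance.maxHeartbeats 400000
set_option backward.isDefEq.respectTransparency false
universe u
open CategoryTheory MonoidalCategory CartesianMonoidalCategory MonObj GrpObj AlgebraicGeometry
open SGA3x

attribute [-instance] CategoryTheory.Hom.commGroup

namespace Groth.Agent.S8437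

open Groth.Agent.BorelLib
attribute [local instance] BorelLib.pTop BorelLib.pTopTensor

/-- Let G, G′ be S-group schemes, smooth, separated and of finite type over S, G admitting a maximal
torus locally for the fpqc topology, G′ with connected fibres, and u : G → G′ a homomorphism
surjective on every geometric fibre whose kernel is central. Then C ↦ u(C) is a bijection from the
Cartan subgroups of G onto those of G′ with C = u⁻¹(u(C)): for every Cartan subgroup C of G there
are a Cartan subgroup C′ of G′ and a faithfully flat homomorphism v : C → C′ making C → G, C → C′ a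
cartesian square over u; and every Cartan subgroup C′ of G′ is obtained in this way. -/
theorem result (S : Scheme.{u}) (G G' : Over S) [GrpObj G] [GrpObj G']
    [Smooth G.hom] [IsSeparated G.hom] [QuasiCompact G.hom] [Smooth G'.hom] [IsSeparated G'.hom] [QuasiCompact G'.hom]
    (hG : SGA3x.HasMaxTorusFpqcLocally G) (u : G ⟶ G') [IsMonHom u]
    (hu : ∀ s : S, Surjective ((Over.pullback (Red.geomPt s)).map u).left)
    (hconn' : ∀ s : S, _root_.IsConnected (G'.hom.base ⁻¹' {s}))
    (hker : ∀ (X : Over S) (z : X ⟶ G), z ≫ u = 1 → ∀ (X' : Over S) (x : X' ⟶ X) (g : X' ⟶ G),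
      (x ≫ z) * g = g * (x ≫ z)) :
    (∀ (C : Over S) [GrpObj C] (c : C ⟶ G), SGA3x.IsCartan c →
      ∃ (C' : Over S) (_ : GrpObj C') (c' : C' ⟶ G') (v : C ⟶ C'), SGA3x.IsCartan c' ∧ IsMonHom v ∧
        Surjective v.left ∧ Flat v.left ∧ IsPullback c v u c') ∧
    (∀ (C' : Over S) [GrpObj C'] (c' : C' ⟶ G'), SGA3x.IsCartan c' →
      ∃ (C : Over S) (_ : GrpObj C) (c : C ⟶ G) (v : C ⟶ C'), SGA3x.IsCartan c ∧ IsMonHom v ∧
        Surjective v.left ∧ Flat v.left ∧ IsPullback c v u c') := by
  haveI : Surjective u.left := MaxTorConj.surjective_of_geom_fibres u hu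
  have hG' : SGA3x.HasMaxTorusFpqcLocally G' := by
    obtain ⟨S', f, hf, hs, hcov, T, _, i, hi⟩ := hG
    haveI : Smooth (Red.bc f G).hom := MorphismProperty.pullback_snd (P := @Smooth) _ _ inferInstance
    haveI : QuasiCompact (Red.bc f G).hom := MorphismProperty.pullback_snd (P := @QuasiCompact) _ _ inferInstance
    haveI : Smooth (Red.bc f G').hom := MorphismProperty.pullback_snd (P := @Smooth) _ _ inferInstance
    haveI : IsSeparated (Red.bc f G').hom := inferInstanceAs (IsSeparated (Limits.pullback.snd G'.hom f))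
    haveI : QuasiCompact (Red.bc f G').hom := MorphismProperty.pullback_snd (P := @QuasiCompact) _ _ inferInstance
    haveI : IsMonHom (M := Red.bc f G) (N := Red.bc f G') ((Over.pullback f).map u) := DiagRep.isMonHom_bc_map f u
    haveI : Surjective ((Over.pullback f).map u).left := BorelLib.surjective_bc f u
    obtain ⟨T', hT', i', -, -, hi', -⟩ := MaxTorConj.exists_image_max ((Over.pullback f).map u) hi
    exact ⟨S', f, hf, hs, hcov, T', hT', i', hi'⟩
  constructor
  · intro C _ c hc
    haveI := hc.2.2.1
    obtain ⟨T, _, i, hi, hcent⟩ := S4119.result S G hG C c hc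
    obtain ⟨T', _, i', p, -, hi', hp, hpf, hps⟩ := MaxTorConj.exists_image_max u hi
    haveI := hpf; haveI := hps
    obtain ⟨C', _, c', hc', -, hcart, -⟩ := S4118.result S G' T' i' hi'
    haveI := hcart.2.2.1
    obtain ⟨v, hvm, hvs, hvf, hsq⟩ :=
      TorsTuple.exists_centralizer_square u hconn' hker hi hi' p hp hcent hc'
    exact ⟨C', inferInstance, c', v, hcart, hvm, hvs, hvf, hsq⟩
  · intro C' _ c' hc'
    haveI := hc'.2.2.1
    obtain ⟨T', _, i', hi', hcent'⟩ := S4119.result S G' hG' C' c' hc'
    obtain ⟨T, _, i, p, hi, -, hp, hps, hpf⟩ := MaxTorConj.exists_preimage_torus hG u hker hi'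
    haveI := hpf; haveI := hps
    obtain ⟨C, _, c, hc, -, hcart, -⟩ := S4118.result S G T i hi
    haveI := hcart.2.2.1
    obtain ⟨v, hvm, hvs, hvf, hsq⟩ :=
      TorsTuple.exists_centralizer_square u hconn' hker hi hi' p hp hc hcent'
    exact ⟨C, inferInstance, c, v, hcart, hvm, hvs, hvf, hsq⟩

end Groth.Agent.S8437
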