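import Groth.Statements.S8440
import Groth.Agent.TorusLiftLib.Lift
import Groth.Agent.TorusLiftLib.Coherent

set_option autoImplicit false
universe u
open CategoryTheory MonoidalCategory CartesianMonoidalCategory MonObj GrpObj AlgebraicGeometry
open SGA3x

namespace Groth.Agent.S8440

/-- Over an affine base: let A be a Noetherian ring, J a nilpotent ideal, S = Spec A, S₀ = Spec(A/J), G
an S-group scheme of finite type, T₀ a subtorus of G₀ = G ×_S S₀, q > 1 an integer invertible on S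
(the published statement writes q > 0), and, for n running through the powers q^k, (Mₙ) a coherent
family of subgroup schemes of G of multiplicative type (M_m = ₘ(Mₙ) when m divides n) lifting the
ₙT₀. Then there is one and only one subtorus T of G with T ×_S S₀ = T₀ and ₙT = Mₙ for all n
(uniqueness up to isomorphism over G). -/
theorem result (A : Type u) [CommRing A] [IsNoetherianRing A]
    (J : Ideal A) (hJ : IsNilpotent J) (G : Over (Spec (CommRingCat.of A))) [GrpObj G] [QuasiCompact G.hom] [LocallyOfFiniteType G.hom]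
    (T₀ : Over (Spec (CommRingCat.of (A ⧸ J)))) [GrpObj T₀] (j₀ : T₀ ⟶ Red.bc (Spec.map (CommRingCat.ofHom (Ideal.Quotient.mk J))) G) [IsMonHom j₀] [Mono j₀] (ht₀ : Red.IsTorus T₀)
    (q : ℕ) (hq : 1 < q) (hqu : IsUnit (q : A))
    (M : ℕ → Over (Spec (CommRingCat.of A))) (grp : ∀ k, GrpObj (M k)) (m : ∀ k, M k ⟶ G)
    (hm : ∀ k, IsMonHom (m k) ∧ Mono (m k) ∧ SGA3x.IsMultTypeFT (M k))
    (hcoh : ∀ j k : ℕ, j ≤ k → ∃ f : M j ⟶ M k, f ≫ m k = m j ∧ AlgGrp.IsKernel f ((𝟙 (M k) : M k ⟶ M k) ^ (q ^ j)))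
    (hlift : ∀ k, ∃ g : Red.bc (Spec.map (CommRingCat.ofHom (Ideal.Quotient.mk J))) (M k) ⟶ T₀, g ≫ j₀ = (Over.pullback (Spec.map (CommRingCat.ofHom (Ideal.Quotient.mk J)))).map (m k) ∧
      AlgGrp.IsKernel g ((𝟙 T₀ : T₀ ⟶ T₀) ^ (q ^ k))) :
    (∃ (T : Over (Spec (CommRingCat.of A))) (_ : GrpObj T) (j : T ⟶ G), IsMonHom j ∧ Mono j ∧ Red.IsTorus T ∧
      (∃ e : Red.bc (Spec.map (CommRingCat.ofHom (Ideal.Quotient.mk J))) T ≅ T₀, e.hom ≫ j₀ = (Over.pullback (Spec.map (CommRingCat.ofHom (Ideal.Quotient.mk J)))).map j) ∧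
      ∀ k, ∃ g : M k ⟶ T, g ≫ j = m k ∧ AlgGrp.IsKernel g ((𝟙 T : T ⟶ T) ^ (q ^ k))) ∧
    (∀ (T₁ T₂ : Over (Spec (CommRingCat.of A))) [GrpObj T₁] [GrpObj T₂] (j₁ : T₁ ⟶ G) (j₂ : T₂ ⟶ G) [IsMonHom j₁] [Mono j₁]
      [IsMonHom j₂] [Mono j₂], Red.IsTorus T₁ → Red.IsTorus T₂ →
      (∃ e : Red.bc (Spec.map (CommRingCat.ofHom (Ideal.Quotient.mk J))) T₁ ≅ T₀, e.hom ≫ j₀ = (Over.pullback (Spec.map (CommRingCat.ofHom (Ideal.Quotient.mk J)))).map j₁) →
      (∃ e : Red.bc (Spec.map (CommRingCat.ofHom (Ideal.Quotient.mk J))) T₂ ≅ T₀, e.hom ≫ j₀ = (Over.pullback (Spec.map (CommRingCat.ofHom (Ideal.Quotient.mk J)))).map j₂) →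
      (∀ k, ∃ g : M k ⟶ T₁, g ≫ j₁ = m k ∧ AlgGrp.IsKernel g ((𝟙 T₁ : T₁ ⟶ T₁) ^ (q ^ k))) →
      (∀ k, ∃ g : M k ⟶ T₂, g ≫ j₂ = m k ∧ AlgGrp.IsKernel g ((𝟙 T₂ : T₂ ⟶ T₂) ^ (q ^ k))) →
      ∃ φ : T₁ ≅ T₂, φ.hom ≫ j₂ = j₁) := by
  classical
  letI := grp
  obtain ⟨n₀, hn₀⟩ := id hJ
  have hn : J ^ (n₀ + 1) = ⊥ := by rw [pow_succ, hn₀]; exact zero_mul J
  have hJ' : ∀ x ∈ J, IsNilpotent x := fun x hx => by
    refine ⟨n₀, ?_⟩
    have h := Ideal.pow_mem_pow hx n₀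
    rw [hn₀] at h
    exact h
  haveI : LocallyOfFinitePresentation G.hom := TorusLift.lfp_of_noetherian G
  haveI := fun k => (hm k).1
  haveI := fun k => (hm k).2.1
  choose g hg hgker using hlift
  have hcoh' : ∀ j k : ℕ, j ≤ k → ∃ f : M j ⟶ M k, IsMonHom f ∧ f ≫ m k = m j := fun j k h => by
    obtain ⟨f, hf, -⟩ := hcoh j k h
    haveI : IsMonHom (f ≫ m k) := by rw [hf]; infer_instance
    exact ⟨f, DiagRep.isMonHom_of_comp_mono f (m k), hf⟩
  refine ⟨?_, ?_⟩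
  · obtain ⟨T, iT, hT, φ, hφ⟩ := TorusLift.exists_torus_lift hJ T₀ ht₀
    haveI := hφ
    haveI : IsMonHom φ.inv := inferInstance
    haveI hgm : ∀ k, IsMonHom (g k) := fun k => by
      haveI : IsMonHom (g k ≫ j₀) := by rw [hg k]; exact DiagRep.isMonHom_bc_map _ (m k)
      exact DiagRep.isMonHom_of_comp_mono (g k) j₀
    have hker₀ : ∀ k, AlgGrp.IsKernel (g k ≫ φ.inv) ((𝟙 (Red.bc (TorusLift.jq J) T)) ^ (q ^ k)) := fun k => by
      haveI := TorusLift.mono_of_isKernel (hgker k)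
      refine TorusLift.isKernel_of_lift ?_ fun X x hx => ?_
      · rw [← TorusLift.pow_comp_hom]
        have h := TorusLift.comp_pow_eq_one (hgker k) (𝟙 _)
        rw [Category.id_comp] at h
        rw [h, MonObj.one_comp]
      · obtain ⟨y, hy⟩ := TorusLift.exists_lift_of_isKernel (hgker k) (x ≫ φ.hom)
          (by rw [← TorusLift.pow_comp_hom, hx, MonObj.one_comp])
        exact ⟨y, by rw [← Category.assoc, hy, Category.assoc, Iso.hom_inv_id, Category.comp_id]⟩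
    have hb : ∀ k, ∃ b : M k ⟶ T, IsMonHom b ∧ Mono b ∧ (Over.pullback (TorusLift.jq J)).map b = g k ≫ φ.inv := by
      intro k
      obtain ⟨b, hb, hb'⟩ := TorusLift.exists_kernel_lift hJ hT (hm k).2.2 (g k ≫ φ.inv)
      exact ⟨b, hb, TorusLift.mono_of_kernel_red hJ hT b (by rw [hb']; exact hker₀ k), hb'⟩
    choose b hbm hbmono hbr using hb
    have hd : TorusLift.TorsionData (q := q) J b m (φ.hom ≫ j₀) :=
      { one_lt := hq, unit := hqu, monHom_b := hbm, mono_b := hbmono, monHom_m := fun k => (hm k).1,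
        multType := fun k => (hm k).2.2,
        coh := fun j k h => by
          obtain ⟨f, hf, hfm⟩ := hcoh' j k h
          haveI := hf; haveI := hbm j; haveI := hbm k
          haveI := MultEq.lfp_of_isMultTypeFT (RedRank.isMultTypeFT_of_isTorus hT)
          refine ⟨f, TorusLift.hom_eq_of_red hJ (hm j).2.2 (fun X a c => RCentre.commute_torus hT a c) _ _ ?_, hfm⟩
          rw [Functor.map_comp, hbr, hbr, ← cancel_mono (φ.hom ≫ j₀)]
          simp only [Category.assoc, Iso.inv_hom_id_assoc, hg, ← Functor.map_comp, hfm]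
        ker := fun k => by rw [hbr]; exact hker₀ k,
        red := fun k => by rw [hbr]; simp only [Category.assoc, Iso.inv_hom_id_assoc, hg] }
    obtain ⟨j, ⟨hj, hjr, hjm⟩, -⟩ := TorusLift.existsUnique_coherent hd n₀.succ_ne_zero hn hT
    haveI := hj
    exact ⟨T, iT, j, hj, TorusLift.mono_of_reduction hJ' hT j (by rw [hjr]; infer_instance), hT, ⟨φ, hjr.symm⟩,
      fun k => ⟨b k, hjm k, TorusLift.isKernel_torsion hd n₀.succ_ne_zero hn hT k⟩⟩
  intro T₁ T₂ _ _ j₁ j₂ _ _ _ _ hT₁ hT₂ ⟨e₁, he₁⟩ ⟨e₂, he₂⟩ h₁ h₂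
  choose g₁ hg₁ hker₁ using h₁
  choose g₂ hg₂ hker₂ using h₂
  haveI : IsMonHom e₁.hom := by
    haveI : IsMonHom (e₁.hom ≫ j₀) := by rw [he₁]; exact DiagRep.isMonHom_bc_map _ j₁
    exact DiagRep.isMonHom_of_comp_mono e₁.hom j₀
  haveI : IsMonHom e₂.hom := by
    haveI : IsMonHom (e₂.hom ≫ j₀) := by rw [he₂]; exact DiagRep.isMonHom_bc_map _ j₂
    exact DiagRep.isMonHom_of_comp_mono e₂.hom j₀
  haveI : IsMonHom (e₁ ≪≫ e₂.symm).hom := inferInstanceAs (IsMonHom (e₁.hom ≫ e₂.inv))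
  obtain ⟨ψ, hψm, hψ⟩ := TorusLift.exists_iso_lift n₀.succ_ne_zero hn hT₁ hT₂ (e₁ ≪≫ e₂.symm)
  haveI := hψm
  refine ⟨ψ, ?_⟩
  haveI hm₁ : ∀ k, IsMonHom (g₁ k) := fun k => by
    haveI : IsMonHom (g₁ k ≫ j₁) := by rw [hg₁]; infer_instance
    exact DiagRep.isMonHom_of_comp_mono (g₁ k) j₁
  haveI hm₂ : ∀ k, IsMonHom (g₂ k) := fun k => by
    haveI : IsMonHom (g₂ k ≫ j₂) := by rw [hg₂]; infer_instance
    exact DiagRep.isMonHom_of_comp_mono (g₂ k) j₂
  haveI : IsMonHom (M := Red.bc (TorusLift.jq J) T₁) (N := Red.bc (TorusLift.jq J) G) ((Over.pullback (TorusLift.jq J)).map j₁) :=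
    DiagRep.isMonHom_bc_map _ j₁
  have hd : TorusLift.TorsionData (q := q) J g₁ m ((Over.pullback (TorusLift.jq J)).map j₁) :=
    { one_lt := hq, unit := hqu, monHom_b := hm₁, mono_b := fun k => TorusLift.mono_of_isKernel (hker₁ k),
      monHom_m := fun k => (hm k).1, multType := fun k => (hm k).2.2,
      coh := fun j k h => by
        obtain ⟨f, -, hfm⟩ := hcoh' j k h
        exact ⟨f, by rw [← cancel_mono j₁, Category.assoc, hg₁, hg₁, hfm], hfm⟩
      ker := fun k => by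
        have h := MultExt.isKernel_bc (TorusLift.jq J) (hker₁ k)
        rwa [TorusLift.map_pow_bc] at h
      red := fun k => by rw [← Functor.map_comp, hg₁] }
  have hjj : (Over.pullback (TorusLift.jq J)).map (ψ.hom ≫ j₂) = (Over.pullback (TorusLift.jq J)).map j₁ := by
    rw [Functor.map_comp, hψ, ← he₁, ← he₂]
    simp
  haveI := MultEq.lfp_of_isMultTypeFT (RedRank.isMultTypeFT_of_isTorus hT₂)
  refine (TorusLift.existsUnique_coherent hd n₀.succ_ne_zero hn hT₁).unique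
    ⟨inferInstance, hjj, fun k => ?_⟩ ⟨inferInstance, rfl, hg₁⟩
  have hg12 : g₁ k ≫ ψ.hom = g₂ k := by
    refine TorusLift.hom_eq_of_red hJ (hm k).2.2 (fun X a c => RCentre.commute_torus hT₂ a c) _ _ ?_
    rw [Functor.map_comp, hψ, ← cancel_mono (e₂.hom ≫ j₀)]
    simp only [Iso.trans_hom, Iso.symm_hom, Category.assoc, Iso.inv_hom_id_assoc]
    rw [he₁, he₂, ← Functor.map_comp, ← Functor.map_comp, hg₁, hg₂]
  rw [← Category.assoc, hg12, hg₂]

end Groth.Agent.S8440
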