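import Groth.Statements.S8441
import Mathlib
-- import your own Groth.Agent.* helpers here

set_option autoImplicit false
universe u v w
open SGA3t2b

namespace Groth.Agent.S8441


/-- Let R be a root system with a system of simple roots a₁, …, aₙ and simple reflections rᵢ, and put θᵢ
= rₙ ⋯ rᵢ₊₁(aᵢ). Then the θᵢ form a basis of the group generated by the roots. Stated for a root
pairing over ℤ (Mathlib) with a base whose support is enumerated by Fin n: the θᵢ are ℤ-linearly
independent and their ℤ-span is the ℤ-span of all roots. -/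
theorem result {ι : Type u} {M : Type v} {N : Type w} [AddCommGroup M] [Module ℤ M]
    [AddCommGroup N] [Module ℤ N] (P : RootPairing ι ℤ M N) (b : P.Base) (n : ℕ) (e : Fin n ≃ ↥b.support) :
    LinearIndependent ℤ (fun i : Fin n =>
      ((List.finRange n).filter (fun j => i < j)).foldl (fun x j => P.reflection (e j : ι) x) (P.root (e i : ι))) ∧
    Submodule.span ℤ (Set.range (fun i : Fin n =>
      ((List.finRange n).filter (fun j => i < j)).foldl (fun x j => P.reflection (e j : ι) x) (P.root (e i : ι)))) =
      Submodule.span ℤ (Set.range P.root) := by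
  classical
  obtain rfl := Subsingleton.elim ‹Module ℤ M› (AddCommGroup.toIntModule M)
  obtain ⟨a, ha⟩ : ∃ a : Fin n → M, ∀ i, P.root (e i : ι) = a i := ⟨_, fun i => rfl⟩
  obtain ⟨θ, hθ⟩ : ∃ θ : Fin n → M, (fun i : Fin n =>
      ((List.finRange n).filter (fun j => i < j)).foldl (fun x j => P.reflection (e j : ι) x) (P.root (e i : ι))) = θ :=
    ⟨_, rfl⟩
  rw [hθ]
  have hfold : ∀ (i : Fin n) (l : List (Fin n)), (∀ j ∈ l, i < j) → ∀ x : M,
      x - a i ∈ Submodule.span ℤ (a '' Set.Ioi i) →
      l.foldl (fun x j => P.reflection (e j : ι) x) x - a i ∈ Submodule.span ℤ (a '' Set.Ioi i) := by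
    intro i l
    induction l with
    | nil => exact fun _ x hx => hx
    | cons j l ih =>
      intro hl x hx
      refine ih (fun k hk => hl k (List.mem_cons_of_mem _ hk)) _ ?_
      show P.reflection (e j : ι) x - a i ∈ _
      rw [RootPairing.reflection_apply, ha, sub_right_comm]
      exact sub_mem hx (Submodule.smul_mem _ _ (Submodule.subset_span ⟨j, hl j List.mem_cons_self, rfl⟩))
  have hθa : ∀ i, θ i - a i ∈ Submodule.span ℤ (a '' Set.Ioi i) := by
    intro i
    rw [← hθ]
    exact hfold i _ (fun j hj => by simpa using hj) _ (by rw [ha, sub_self]; exact zero_mem _)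
  have hspan : Submodule.span ℤ (Set.range θ) = Submodule.span ℤ (Set.range a) := by
    refine le_antisymm (Submodule.span_le.2 ?_) (Submodule.span_le.2 ?_)
    · rintro _ ⟨i, rfl⟩
      rw [← sub_add_cancel (θ i) (a i)]
      exact add_mem (Submodule.span_mono (Set.image_subset_range _ _) (hθa i)) (Submodule.subset_span ⟨i, rfl⟩)
    · rintro _ ⟨i, rfl⟩
      induction i using (wellFounded_gt (α := Fin n)).induction with
      | _ i ih =>
        rw [← sub_sub_cancel (θ i) (a i)]
        refine sub_mem (Submodule.subset_span ⟨i, rfl⟩) (Submodule.span_le.2 ?_ (hθa i))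
        rintro _ ⟨j, hj, rfl⟩
        exact ih j hj
  have hrange : Set.range a = P.root '' b.support := by
    ext x
    constructor
    · rintro ⟨i, rfl⟩
      exact ⟨_, (e i).2, ha i⟩
    · rintro ⟨s, hs, rfl⟩
      exact ⟨e.symm ⟨s, hs⟩, by rw [← ha, Equiv.apply_symm_apply]⟩
  refine ⟨?_, by rw [hspan, hrange, b.span_int_root_support]⟩
  have hli : LinearIndependent ℤ a := by
    have hc := b.linearIndepOn_root.comp e e.injective
    convert hc using 1
    · funext i
      exact (ha i).symm
    · rfl
  choose v hv using fun i => (Submodule.mem_span_range_iff_exists_fun ℤ).1 (hspan.le (Submodule.subset_span ⟨i, rfl⟩))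
  let Φ := Fintype.linearCombination ℤ a
  have hΦ : Function.Injective Φ := hli.fintypeLinearCombination_injective
  have hv' : ∀ i, Φ (v i) = θ i := fun i => by rw [Fintype.linearCombination_apply, hv i]
  let T := Fintype.linearCombination ℤ v
  have hT : Function.Surjective T := by
    intro y
    obtain ⟨z, hz⟩ := (Submodule.mem_span_range_iff_exists_fun ℤ).1 (hspan.ge
      ((Submodule.mem_span_range_iff_exists_fun ℤ).2 ⟨y, rfl⟩ : Φ y ∈ Submodule.span ℤ (Set.range a)))
    refine ⟨z, hΦ ?_⟩
    simp only [T, Fintype.linearCombination_apply, map_sum, map_smul, hv']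
    simp only [Φ, Fintype.linearCombination_apply] at hz hv' ⊢
    rw [← hz]
  have hTi : Function.Injective T := OrzechProperty.injective_of_surjective_endomorphism T hT
  have : LinearIndependent ℤ v := linearIndependent_iff_injective_fintypeLinearCombination.2 hTi
  have := this.map' Φ (LinearMap.ker_eq_bot.2 hΦ)
  convert this using 1
  · funext i
    exact (hv' i).symm
  · rfl


end Groth.Agent.S8441
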