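import Groth.Statements.S8443
import Groth.Agent.BorelLib.NormOpen
import Groth.Agent.TorsTupleLib.SubTorusCover
import Groth.Agent.TorsTupleLib.EtaleLocal
import Groth.Agent.S3025
-- import your own Groth.Agent.* helpers here

set_option autoImplicit false
set_option maxHeartbeats 4000000
set_option synthInstance.maxHeartbeats 400000
set_option backward.isDefEq.respectTransparency false
universe u
open CategoryTheory MonoidalCategory CartesianMonoidalCategory MonObj GrpObj AlgebraicGeometry
open SGA3x

attribute [-instance] CategoryTheory.Hom.commGroup

namespace Groth.Agent.S8443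

open Groth.Agent.BorelLib
attribute [local instance] BorelLib.pTop BorelLib.pTopTensor

/-- Let G be an S-group scheme, smooth and of finite presentation over S with connected fibres, and i :
H → G a monomorphism of S-groups with H smooth over S whose geometric fibres are connected and
contain a Cartan subgroup of the corresponding geometric fibre of G. If G admits a maximal torus
locally for the etale topology (resp. for the fpqc topology), then so does H. (The published item
also covers Cartan subgroups; this row states only the maximal-torus halves.) -/
theorem result (S : Scheme.{u}) (G : Over S) [GrpObj G]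
    [Smooth G.hom] [QuasiCompact G.hom] [QuasiSeparated G.hom] (hconn : ∀ s : S, _root_.IsConnected (G.hom.base ⁻¹' {s}))
    (H : Over S) [GrpObj H] [Smooth H.hom] (i : H ⟶ G) [IsMonHom i] [Mono i]
    (hHconn : ∀ s : S, ConnectedSpace ↥(Red.geomFibre s H).left)
    (hHC : ∀ s : S, ∃ (C' : Over (Spec (CommRingCat.of (AlgebraicClosure (S.residueField s))))) (_ : GrpObj C')
      (c' : C' ⟶ Red.geomFibre s H), SGA3x.IsCartanOver _ (c' ≫ (Over.pullback (Red.geomPt s)).map i)) :
    (SGA3x.HasMaxTorusEtaleLocally G → SGA3x.HasMaxTorusEtaleLocally H) ∧
    (SGA3x.HasMaxTorusFpqcLocally G → SGA3x.HasMaxTorusFpqcLocally H) := by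
  haveI : UniversallyOpen G.hom := inferInstance
  haveI : IsSeparated G.hom := (S3025.result S G hconn).1
  haveI : QuasiCompact H.hom := quasiCompact_of_geom_connected H hHconn
  haveI : IsSeparated H.hom := by
    haveI : Mono i.left := inferInstanceAs (Mono ((Over.forget S).map i))
    rw [← Over.w i]; infer_instance
  have key : SGA3x.HasMaxTorusFpqcLocally G → SGA3x.HasMaxTorusFpqcLocally H := fun hG =>
    TorsTuple.exists_sub_torus_cover hG i hconn (TorsTuple.hasCartanIn_of_fibres i hHC)
  refine ⟨fun hG => ?_, key⟩
  obtain ⟨S', f, hf, hs, hT⟩ := hG
  haveI := hf; haveI := hs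
  exact TorsTuple.hasMaxTorusEtaleLocally
    (key ⟨S', f, inferInstance, inferInstance, fun V hV => RedRank.hcov_of_open f V hV, hT⟩)

end Groth.Agent.S8443
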