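import Groth.Statements.S8447
import Groth.Agent.BigCellLib.Cell
-- import your own Groth.Agent.* helpers here

set_option autoImplicit false
universe u
open CategoryTheory MonoidalCategory CartesianMonoidalCategory MonObj GrpObj AlgebraicGeometry CategoryTheory.Limits
open Red

namespace Groth.Agent.S8447

/-- Let G be a reductive S-group, i : T ⟶ G a maximal torus, α a character of T non-trivial on every
geometric fibre, and p₊, p₋ : 𝔾_a ⟶ G monomorphisms of groups normalised by T with multipliers α and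
α⁻¹ such that 𝔾_a ×_S T ×_S 𝔾_a ⟶ G, (y, t, x) ↦ p₋(y) i(t) p₊(x), is an open immersion (a rank-one
system: G has semisimple rank 1 and p₊, p₋ trivialise the root groups of α and -α). Then the centre
of G is Ker α: a point g of G with values in an S-scheme X commutes with all points of G after every
base change X' ⟶ X if and only if g = i(t) for some X-point t of T with α(t) = 1. (In particular the
centre is a closed subgroup of multiplicative type; only the equality of points is stated.) -/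
theorem result (S : Scheme.{u}) (G T : Over S) [GrpObj G] [GrpObj T] (i : T ⟶ G) [IsMonHom i] [Mono i] (hG : Red.IsReductive G) (hTm : Red.IsMaximalTorus i)
    (α : T ⟶ Red.Gm S) [IsMonHom α] (hα : ∀ s : S, (Over.pullback (Red.geomPt s)).map α ≠ 1)
    (pp pm : Red.Ga S ⟶ G) [IsMonHom pp] [Mono pp] [IsMonHom pm] [Mono pm]
    (hpp : ∀ (X : Over S) (t : X ⟶ T) (x : X ⟶ Red.Ga S), ∃ x' : X ⟶ Red.Ga S,
      x' ≫ pp = (t ≫ i) * (x ≫ pp) * (t ≫ i)⁻¹ ∧ Red.gaFn x' = Red.gmFn (t ≫ α) * Red.gaFn x)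
    (hpm : ∀ (X : Over S) (t : X ⟶ T) (y : X ⟶ Red.Ga S), ∃ y' : X ⟶ Red.Ga S,
      y' ≫ pm = (t ≫ i) * (y ≫ pm) * (t ≫ i)⁻¹ ∧ Red.gaFn y' * Red.gmFn (t ≫ α) = Red.gaFn y)
    (hΩ : IsOpenImmersion (((pm ⊗ₘ i) ⊗ₘ pp) ≫ (μ[G] ▷ G) ≫ μ[G]).left) (X : Over S) (g : X ⟶ G) :
    (∀ (X' : Over S) (x : X' ⟶ X) (k : X' ⟶ G), (x ≫ g) * k = k * (x ≫ g)) ↔
      ∃ t : X ⟶ T, t ≫ i = g ∧ t ≫ α = 1 := by
  have st : BigCell.Sys i α pp pm := ⟨inferInstance, inferInstance, inferInstance, inferInstance, hpp, hpm, hΩ⟩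
  have hC := BigCell.conn_of_isReductive hG
  have hT := hTm.2.2.1
  have hc := fun (Y : Over S) (a b : Y ⟶ T) => BigCell.torus_comm hT a b
  constructor
  · intro h
    have hcell : BigCell.InCell i pp pm g := st.inCell_of_field fun K _ _ a p => by
      obtain ⟨X', π, _, _, hs, c, d, ⟨y, t, x, rfl⟩, ⟨y', t', x', rfl⟩, he⟩ := st.exists_div hC (p ≫ g)
      refine st.inCell_of_surjective π ?_
      have h1 := h X' (π ≫ p) (BigCell.rt pm y')
      rw [Category.assoc] at h1
      refine ⟨y - y', t * t'⁻¹, (BigCell.av' α t' : Γ(X'.left, ⊤)) * (x - x'), ?_⟩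
      have key : π ≫ p ≫ g = (BigCell.rt pm y')⁻¹ * (BigCell.rt pm y * (t ≫ i) * BigCell.rt pp x *
          (BigCell.rt pm y' * (t' ≫ i) * BigCell.rt pp x')⁻¹) * BigCell.rt pm y' := by
        rw [← he, _root_.mul_assoc, h1, inv_mul_cancel_left]
      rw [key, BigCell.cell, ← st.conjP, sub_eq_neg_add y, BigCell.rt_add, BigCell.rt_neg,
        sub_eq_add_neg x, BigCell.rt_add, BigCell.rt_neg, MonObj.mul_comp, GrpObj.inv_comp]
      group
    obtain ⟨y, t, x, hg⟩ := hcell
    have hz : ∀ (X' : Over S) (π : X' ⟶ X) (s : X' ⟶ T),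
        (((BigCell.av' α s)⁻¹ : (Γ(X'.left, ⊤))ˣ) : Γ(X'.left, ⊤)) * π.left.appTop y = π.left.appTop y ∧
          (BigCell.av' α s : Γ(X'.left, ⊤)) * π.left.appTop x = π.left.appTop x := fun X' π s => by
      have h1 := h X' π (s ≫ i)
      rw [hg, BigCell.comp_cell] at h1
      have h2 := st.cell_conj hc s (π.left.appTop y) (π ≫ t) (π.left.appTop x)
      rw [← h1, mul_inv_cancel_right] at h2
      obtain ⟨e1, -, e3⟩ := st.cell_inj h2
      exact ⟨e1.symm, e3.symm⟩
    have hx : x = 0 := BigCell.eq_zero_of_weight hT α hα x one_ne_zero fun X' π s => by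
      rw [pow_one]; exact (hz X' π s).2
    have hy : y = 0 := BigCell.eq_zero_of_weight hT α hα y one_ne_zero fun X' π s => by
      have := (hz X' π s).1
      rw [Units.inv_mul_eq_iff_eq_mul] at this
      rw [pow_one]; exact this.symm
    rw [hx, hy, BigCell.cell, BigCell.rt_zero, BigCell.rt_zero, _root_.one_mul, _root_.mul_one] at hg
    refine ⟨t, hg.symm, ?_⟩
    have h1 := h X (𝟙 X) (BigCell.rt pp 1)
    rw [Category.id_comp, hg] at h1
    have h2 := st.conjP t 1
    rw [h1, mul_inv_cancel_right, _root_.mul_one] at h2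
    refine GmPts.gmFn_injective ?_
    show Red.gmFn _ = Red.gmFn _
    rw [GmPts.gmFn_one]
    exact (st.rt_pp_inj h2).symm
  · rintro ⟨t, rfl, ht⟩ X' x k
    have key : ∀ {Y : Over S} (s : Y ⟶ T) (c : Y ⟶ G), s ≫ α = 1 → BigCell.InCell i pp pm c →
        Commute (s ≫ i) c := by
      rintro Y s c hs ⟨y, t', x', rfl⟩
      have h1 := st.cell_conj hc s y t' x'
      have h2 : BigCell.av' α s = 1 := by rw [BigCell.av', hs, GmPts.unitOfPt_one]
      rw [h2, inv_one, Units.val_one, _root_.one_mul, _root_.one_mul, mul_inv_eq_iff_eq_mul] at h1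
      exact h1
    obtain ⟨X'', π, _, _, _, c, d, hc', hd', he⟩ := st.exists_div hC k
    haveI := BigCell.epi_of_flat π
    have hs : ((π ≫ x) ≫ t) ≫ α = 1 := by rw [Category.assoc, ht, MonObj.comp_one]
    rw [← cancel_epi π, MonObj.comp_mul, MonObj.comp_mul, he,
      show π ≫ x ≫ t ≫ i = ((π ≫ x) ≫ t) ≫ i by simp only [Category.assoc]]
    exact ((key _ c hs hc').mul_right (key _ d hs hd').inv_right)

end Groth.Agent.S8447
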