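import Groth.Statements.S8452
import Groth.Agent.BigCellLib.Bridge
-- import your own Groth.Agent.* helpers here

set_option autoImplicit false
universe u
open CategoryTheory MonoidalCategory CartesianMonoidalCategory MonObj GrpObj AlgebraicGeometry CategoryTheory.Limits
open Red

namespace Groth.Agent.S8452

/-- Let (G, T, α, p₊, p₋, α^*) and (G', T', α', p'₊, p'₋, α'^*) be two rank-one systems over S: G
reductive, i : T ⟶ G a maximal torus, α a character of T non-trivial on every geometric fibre, p₊,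
p₋ : 𝔾_a ⟶ G monomorphisms normalised by T with multipliers α, α⁻¹ whose cell map (y, t, x) ↦ p₋(y)
i(t) p₊(x) is an open immersion, α^* : 𝔾_m ⟶ T with α ∘ α^* the squaring map and p₊(x) p₋(y) =
p₋(y/(1+xy)) · i(α^*(1+xy)) · p₊(x/(1+xy)) whenever 1 + xy is invertible; likewise for the primed
data. Let q > 0 be an integer such that x ↦ x^q is additive on all functions of S-schemes. For a
homomorphism f : G ⟶ G' the following are equivalent: (i) f restricted to T factors through a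
homomorphism f_T : T ⟶ T' with α' ∘ f_T = α^q and f_T ∘ α^* = (α'^*)^q; (ii) there is an S-point c
of 𝔾_m (it is then unique) with f(p₊(x)) = p'₊(c x^q) and f(p₋(y)) = p'₋(c⁻¹ y^q) for all points x,
y of 𝔾_a. -/
theorem result (S : Scheme.{u}) (G T : Over S) [GrpObj G] [GrpObj T] (i : T ⟶ G) [IsMonHom i] [Mono i] (hG : Red.IsReductive G) (hTm : Red.IsMaximalTorus i)
    (α : T ⟶ Red.Gm S) [IsMonHom α] (hα : ∀ s : S, (Over.pullback (Red.geomPt s)).map α ≠ 1)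
    (pp pm : Red.Ga S ⟶ G) [IsMonHom pp] [Mono pp] [IsMonHom pm] [Mono pm]
    (hpp : ∀ (X : Over S) (t : X ⟶ T) (x : X ⟶ Red.Ga S), ∃ x' : X ⟶ Red.Ga S,
      x' ≫ pp = (t ≫ i) * (x ≫ pp) * (t ≫ i)⁻¹ ∧ Red.gaFn x' = Red.gmFn (t ≫ α) * Red.gaFn x)
    (hpm : ∀ (X : Over S) (t : X ⟶ T) (y : X ⟶ Red.Ga S), ∃ y' : X ⟶ Red.Ga S,
      y' ≫ pm = (t ≫ i) * (y ≫ pm) * (t ≫ i)⁻¹ ∧ Red.gaFn y' * Red.gmFn (t ≫ α) = Red.gaFn y)
    (hΩ : IsOpenImmersion (((pm ⊗ₘ i) ⊗ₘ pp) ≫ (μ[G] ▷ G) ≫ μ[G]).left)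
    (av : Red.Gm S ⟶ T) [IsMonHom av] (h2 : av ≫ α = (𝟙 (Red.Gm S)) ^ 2)
    (hF : ∀ (X : Over S) (x y : X ⟶ Red.Ga S), IsUnit (1 + Red.gaFn x * Red.gaFn y) →
      ∃ (x' y' : X ⟶ Red.Ga S) (z : X ⟶ Red.Gm S), Red.gmFn z = 1 + Red.gaFn x * Red.gaFn y ∧
        Red.gaFn x' * Red.gmFn z = Red.gaFn x ∧ Red.gaFn y' * Red.gmFn z = Red.gaFn y ∧
        (x ≫ pp) * (y ≫ pm) = (y' ≫ pm) * (z ≫ av ≫ i) * (x' ≫ pp))
    (G' T' : Over S) [GrpObj G'] [GrpObj T'] (i' : T' ⟶ G') [IsMonHom i'] [Mono i'] (hG' : Red.IsReductive G') (hTm' : Red.IsMaximalTorus i')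
    (α' : T' ⟶ Red.Gm S) [IsMonHom α'] (hα' : ∀ s : S, (Over.pullback (Red.geomPt s)).map α' ≠ 1)
    (pp' pm' : Red.Ga S ⟶ G') [IsMonHom pp'] [Mono pp'] [IsMonHom pm'] [Mono pm']
    (hpp' : ∀ (X : Over S) (t : X ⟶ T') (x : X ⟶ Red.Ga S), ∃ x' : X ⟶ Red.Ga S,
      x' ≫ pp' = (t ≫ i') * (x ≫ pp') * (t ≫ i')⁻¹ ∧ Red.gaFn x' = Red.gmFn (t ≫ α') * Red.gaFn x)
    (hpm' : ∀ (X : Over S) (t : X ⟶ T') (y : X ⟶ Red.Ga S), ∃ y' : X ⟶ Red.Ga S,
      y' ≫ pm' = (t ≫ i') * (y ≫ pm') * (t ≫ i')⁻¹ ∧ Red.gaFn y' * Red.gmFn (t ≫ α') = Red.gaFn y)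
    (hΩ' : IsOpenImmersion (((pm' ⊗ₘ i') ⊗ₘ pp') ≫ (μ[G'] ▷ G') ≫ μ[G']).left)
    (av' : Red.Gm S ⟶ T') [IsMonHom av'] (h2' : av' ≫ α' = (𝟙 (Red.Gm S)) ^ 2)
    (hF' : ∀ (X : Over S) (x y : X ⟶ Red.Ga S), IsUnit (1 + Red.gaFn x * Red.gaFn y) →
      ∃ (x' y' : X ⟶ Red.Ga S) (z : X ⟶ Red.Gm S), Red.gmFn z = 1 + Red.gaFn x * Red.gaFn y ∧
        Red.gaFn x' * Red.gmFn z = Red.gaFn x ∧ Red.gaFn y' * Red.gmFn z = Red.gaFn y ∧
        (x ≫ pp') * (y ≫ pm') = (y' ≫ pm') * (z ≫ av' ≫ i') * (x' ≫ pp'))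
    (q : ℕ) (hq0 : 0 < q) (hq : ∀ (X : Over S) (a b : Γ(X.left, ⊤)), (a + b) ^ q = a ^ q + b ^ q) (f : G ⟶ G') [IsMonHom f] :
    (∃ fT : T ⟶ T', IsMonHom fT ∧ i ≫ f = fT ≫ i' ∧ fT ≫ α' = α ^ q ∧ av ≫ fT = av' ^ q) ↔
      ∃! c : 𝟙_ (Over S) ⟶ Red.Gm S,
        (∀ (X : Over S) (x y : X ⟶ Red.Ga S), Red.gaFn y = Red.gmFn (toUnit X ≫ c) * Red.gaFn x ^ q →
          (x ≫ pp) ≫ f = y ≫ pp') ∧
        (∀ (X : Over S) (x y : X ⟶ Red.Ga S), Red.gaFn y * Red.gmFn (toUnit X ≫ c) = Red.gaFn x ^ q →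
          (x ≫ pm) ≫ f = y ≫ pm') := by
  have st : BigCell.Sys1 i α pp pm av :=
    ⟨⟨inferInstance, inferInstance, inferInstance, inferInstance, hpp, hpm, hΩ⟩, inferInstance, h2, hF⟩
  have st' : BigCell.Sys1 i' α' pp' pm' av' :=
    ⟨⟨inferInstance, inferInstance, inferInstance, inferInstance, hpp', hpm', hΩ'⟩, inferInstance, h2', hF'⟩
  have hcG' := BigCell.conn_of_isReductive hG'
  have hc := fun (Y : Over S) (a b : Y ⟶ T) => BigCell.torus_comm hTm.2.2.1 a b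
  have hc' := fun (Y : Over S) (a b : Y ⟶ T') => BigCell.torus_comm hTm'.2.2.1 a b
  have hconj : ∀ {X : Over S} (t : X ⟶ T) (a : Γ(X.left, ⊤)),
      (t ≫ i ≫ f) * BigCell.rt (pp ≫ f) a * (t ≫ i ≫ f)⁻¹ =
        BigCell.rt (pp ≫ f) ((BigCell.av' α t : Γ(X.left, ⊤)) * a) := fun {X} t a => by
    have := congrArg (· ≫ f) (st.sys.conjP t a)
    simpa only [MonObj.mul_comp, GrpObj.inv_comp, BigCell.rt, Category.assoc] using this
  constructor
  · rintro ⟨fT, hfTm, hfi, hfα, hfav⟩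
    haveI := hfTm
    have hh : ∀ (X : Over S) (z : (Γ(X.left, ⊤))ˣ), (st.D X).h z ≫ f = (st'.D X).h (z ^ q) :=
      (st.coroot_iff st' f q).1 fun X z => by
        rw [Category.assoc, Category.assoc, hfi, ← Category.assoc av fT i', hfav, ← Category.assoc, MonObj.comp_pow]
    obtain ⟨ν, hν⟩ := st'.sys.exists_coeff_of_weight (β := α) (p := pp ≫ f) (q := q) hc' hTm.2.2.1 hα
      fun X t a => ⟨t ≫ fT, by
        rw [BigCell.av', Category.assoc, hfα, MonObj.comp_pow]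
        exact map_pow (GmPts.equiv X) _ q, by rw [Category.assoc, ← hfi, hconj]⟩
    have hu : IsUnit ν := BigCell.isUnit_of_field ν fun K _ _ a p h0 => by
      let X := BigCell.fieldPt K a
      obtain ⟨z, hz⟩ := BigCell.exists_unit_pow_ne_one a (n := q * 2) (mul_ne_zero hq0.ne' two_ne_zero)
      have hP : ∀ b : Γ(X.left, ⊤), BigCell.rt pp b ≫ f = 1 := fun b => by
        rw [BigCell.rt, Category.assoc, ← BigCell.rt, hν, BigCell.pull, toUnit_unique (toUnit X) p, h0, zero_mul,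
          BigCell.rt_zero]
      have hM : ∀ b : Γ(X.left, ⊤), b ≠ 0 → BigCell.rt pm b ≫ f = 1 := fun b hb => by
        obtain ⟨v, hv⟩ := BigCell.isUnit_of_ne_zero hb
        have h1 := congrArg (· ≫ f) (st.setup.w_P X ((-v)⁻¹))
        change (BigCell.rt pp _ * BigCell.rt pm _ * BigCell.rt pp _ * BigCell.rt pp _ *
          (BigCell.rt pp _ * BigCell.rt pm _ * BigCell.rt pp _)⁻¹) ≫ f = BigCell.rt pm _ ≫ f at h1
        simp only [MonObj.mul_comp, GrpObj.inv_comp, hP, _root_.mul_one, _root_.one_mul, mul_inv_cancel,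
          _root_.inv_inv, Units.val_neg, neg_neg] at h1
        rw [← hv]
        exact h1.symm
      haveI : IsDomain Γ(X.left, ⊤) := MulEquiv.isDomain K (BigCell.fieldFn K a).toMulEquiv
      have hz1 : (z : Γ(X.left, ⊤)) ≠ 1 := fun e => hz (by rw [show z = 1 from Units.ext e, one_pow])
      have h2 : (st.D X).h z ≫ f = 1 := by
        rw [(st.D X).h_eq_prod z]
        show (BigCell.rt pm _ * BigCell.rt pp _ * BigCell.rt pm _ * BigCell.rt pp _) ≫ f = 1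
        rw [MonObj.mul_comp, MonObj.mul_comp, MonObj.mul_comp, hP, hP,
          hM _ (mul_ne_zero_iff.2 ⟨sub_ne_zero.2 (Ne.symm hz1), Units.ne_zero _⟩), hM _ (sub_ne_zero.2 hz1)]
        simp
      refine hz ?_
      rw [pow_mul]
      refine st'.unit_sq_of_c_eq_one ?_
      refine st'.sys.tor_inj ?_
      rw [MonObj.one_comp]
      exact (hh X z).symm.trans h2
    let c : 𝟙_ (Over S) ⟶ Red.Gm S := GmPts.ptOfUnit hu.unit
    have hcU : ∀ X : Over S, (BigCell.cU c X : Γ(X.left, ⊤)) = BigCell.pull X ν := fun X => by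
      rw [BigCell.cU, GmPts.unitOfPt_comp, GmPts.unitOfPt_ptOfUnit]
      rfl
    have hfp : pp ≫ f = BigCell.pw c q ≫ pp' := by
      conv_lhs => rw [← Category.id_comp (pp ≫ f), BigCell.rt_eq (pp ≫ f) (𝟙 _) rfl, hν, ← hcU]
      rfl
    have hfn := st.pm_of_h st' hcG' hTm'.2.2.1 hα' hq0 hq f hfp hh
    refine ⟨c, ⟨(BigCell.posRoot_iff f c q).2 hfp, (BigCell.negRoot_iff f c q).2 hfn⟩, ?_⟩
    rintro d ⟨hd, -⟩
    have h1 := congrArg (fun g => BigCell.rt g (1 : Γ((𝟙_ (Over S)).left, ⊤)))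
      (((BigCell.posRoot_iff f d q).1 hd).symm.trans hfp)
    simp only [BigCell.rt_pw, one_pow, _root_.mul_one] at h1
    have h2 := Units.ext (st'.sys.rt_pp_inj h1)
    rw [BigCell.cU, BigCell.cU, toUnit_unique (toUnit _) (𝟙 _), Category.id_comp, Category.id_comp] at h2
    exact (GmPts.equiv _).injective h2
  · rintro ⟨c, ⟨hcp, hcm⟩, -⟩
    have hfp := (BigCell.posRoot_iff f c q).1 hcp
    have hfn := (BigCell.negRoot_iff f c q).1 hcm
    have hh : ∀ (X : Over S) (z : (Γ(X.left, ⊤))ˣ), (st.D X).h z ≫ f = (st'.D X).h (z ^ q) :=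
      fun X z => st.h_of_pm st' hq0 hq f hfp hfn z
    obtain ⟨fT, hfi⟩ := st'.exists_of_commute hcG' hTm'.2.2.1 hα' (q : ℤ) (Int.natCast_ne_zero.2 hq0.ne') (i ≫ f)
      fun X' π z => by
        rw [zpow_natCast, ← hh]
        show (π ≫ i ≫ f) * (((st.D X').c z ≫ i) ≫ f) = (((st.D X').c z ≫ i) ≫ f) * (π ≫ i ≫ f)
        rw [← Category.assoc π i f, ← MonObj.mul_comp, ← MonObj.mul_comp, ← MonObj.mul_comp, ← MonObj.mul_comp, hc]
    refine ⟨fT, BigCell.isMonHom_of_mul' fT fun X a b => ?_, hfi.symm, ?_, ?_⟩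
    · refine st'.sys.tor_inj ?_
      simp only [MonObj.mul_comp, Category.assoc, hfi]
    · have h1 := hconj (𝟙 T) 1
      rw [Category.id_comp, _root_.mul_one, ← hfi, hfp, BigCell.rt_pw, BigCell.rt_pw, one_pow, _root_.mul_one,
        st'.sys.conjP] at h1
      refine (GmPts.equiv T).injective ?_
      show GmPts.unitOfPt _ = _
      rw [map_pow]
      refine Units.ext ?_
      have h2 := (Units.isUnit (BigCell.cU c T)).mul_right_cancel
        ((st'.sys.rt_pp_inj h1).trans (_root_.mul_comm _ _))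
      rw [← Units.val_pow_eq_pow_val] at h2
      rw [show (GmPts.equiv T) α = GmPts.unitOfPt α from rfl]
      simpa only [BigCell.av', Category.id_comp] using h2
    · refine st'.sys.tor_inj ?_
      have h1 := (st.coroot_iff st' f q).2 hh (Red.Gm S) (𝟙 _)
      simp only [Category.id_comp, Category.assoc] at h1
      rw [Category.assoc, hfi, h1]

end Groth.Agent.S8452
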