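import Groth.Statements.S8454
import Groth.Agent.BigCellLib.Bridge
-- import your own Groth.Agent.* helpers here

set_option autoImplicit false
universe u
open CategoryTheory MonoidalCategory CartesianMonoidalCategory MonObj GrpObj AlgebraicGeometry CategoryTheory.Limits
open Red

namespace Groth.Agent.S8454

/-- Let (G, T, α, p₊, p₋, α^*) and (G', T', α', p'₊, p'₋, α'^*) be two rank-one systems over S: G
reductive, i : T ⟶ G a maximal torus, α a character of T non-trivial on every geometric fibre, p₊,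
p₋ : 𝔾_a ⟶ G monomorphisms normalised by T with multipliers α, α⁻¹ whose cell map (y, t, x) ↦ p₋(y)
i(t) p₊(x) is an open immersion, α^* : 𝔾_m ⟶ T with α ∘ α^* the squaring map and p₊(x) p₋(y) =
p₋(y/(1+xy)) · i(α^*(1+xy)) · p₊(x/(1+xy)) whenever 1 + xy is invertible; likewise for the primed
data. Let q > 0 be an integer such that x ↦ x^q is additive on all functions of S-schemes. Assume q
= 1: let c be an S-point of 𝔾_m and f_T : T ⟶ T' a homomorphism with α' ∘ f_T = α and f_T ∘ α^* =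
α'^* which is an isomorphism. Then a homomorphism f : G ⟶ G' extending f_T with f(p₊(x)) = p'₊(c x)
for all points x is an isomorphism. -/
theorem result (S : Scheme.{u}) (G T : Over S) [GrpObj G] [GrpObj T] (i : T ⟶ G) [IsMonHom i] [Mono i] (hG : Red.IsReductive G) (hTm : Red.IsMaximalTorus i)
    (α : T ⟶ Red.Gm S) [IsMonHom α] (hα : ∀ s : S, (Over.pullback (Red.geomPt s)).map α ≠ 1)
    (pp pm : Red.Ga S ⟶ G) [IsMonHom pp] [Mono pp] [IsMonHom pm] [Mono pm]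
    (hpp : ∀ (X : Over S) (t : X ⟶ T) (x : X ⟶ Red.Ga S), ∃ x' : X ⟶ Red.Ga S,
      x' ≫ pp = (t ≫ i) * (x ≫ pp) * (t ≫ i)⁻¹ ∧ Red.gaFn x' = Red.gmFn (t ≫ α) * Red.gaFn x)
    (hpm : ∀ (X : Over S) (t : X ⟶ T) (y : X ⟶ Red.Ga S), ∃ y' : X ⟶ Red.Ga S,
      y' ≫ pm = (t ≫ i) * (y ≫ pm) * (t ≫ i)⁻¹ ∧ Red.gaFn y' * Red.gmFn (t ≫ α) = Red.gaFn y)
    (hΩ : IsOpenImmersion (((pm ⊗ₘ i) ⊗ₘ pp) ≫ (μ[G] ▷ G) ≫ μ[G]).left)
    (av : Red.Gm S ⟶ T) [IsMonHom av] (h2 : av ≫ α = (𝟙 (Red.Gm S)) ^ 2)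
    (hF : ∀ (X : Over S) (x y : X ⟶ Red.Ga S), IsUnit (1 + Red.gaFn x * Red.gaFn y) →
      ∃ (x' y' : X ⟶ Red.Ga S) (z : X ⟶ Red.Gm S), Red.gmFn z = 1 + Red.gaFn x * Red.gaFn y ∧
        Red.gaFn x' * Red.gmFn z = Red.gaFn x ∧ Red.gaFn y' * Red.gmFn z = Red.gaFn y ∧
        (x ≫ pp) * (y ≫ pm) = (y' ≫ pm) * (z ≫ av ≫ i) * (x' ≫ pp))
    (G' T' : Over S) [GrpObj G'] [GrpObj T'] (i' : T' ⟶ G') [IsMonHom i'] [Mono i'] (hG' : Red.IsReductive G') (hTm' : Red.IsMaximalTorus i')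
    (α' : T' ⟶ Red.Gm S) [IsMonHom α'] (hα' : ∀ s : S, (Over.pullback (Red.geomPt s)).map α' ≠ 1)
    (pp' pm' : Red.Ga S ⟶ G') [IsMonHom pp'] [Mono pp'] [IsMonHom pm'] [Mono pm']
    (hpp' : ∀ (X : Over S) (t : X ⟶ T') (x : X ⟶ Red.Ga S), ∃ x' : X ⟶ Red.Ga S,
      x' ≫ pp' = (t ≫ i') * (x ≫ pp') * (t ≫ i')⁻¹ ∧ Red.gaFn x' = Red.gmFn (t ≫ α') * Red.gaFn x)
    (hpm' : ∀ (X : Over S) (t : X ⟶ T') (y : X ⟶ Red.Ga S), ∃ y' : X ⟶ Red.Ga S,
      y' ≫ pm' = (t ≫ i') * (y ≫ pm') * (t ≫ i')⁻¹ ∧ Red.gaFn y' * Red.gmFn (t ≫ α') = Red.gaFn y)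
    (hΩ' : IsOpenImmersion (((pm' ⊗ₘ i') ⊗ₘ pp') ≫ (μ[G'] ▷ G') ≫ μ[G']).left)
    (av' : Red.Gm S ⟶ T') [IsMonHom av'] (h2' : av' ≫ α' = (𝟙 (Red.Gm S)) ^ 2)
    (hF' : ∀ (X : Over S) (x y : X ⟶ Red.Ga S), IsUnit (1 + Red.gaFn x * Red.gaFn y) →
      ∃ (x' y' : X ⟶ Red.Ga S) (z : X ⟶ Red.Gm S), Red.gmFn z = 1 + Red.gaFn x * Red.gaFn y ∧
        Red.gaFn x' * Red.gmFn z = Red.gaFn x ∧ Red.gaFn y' * Red.gmFn z = Red.gaFn y ∧
        (x ≫ pp') * (y ≫ pm') = (y' ≫ pm') * (z ≫ av' ≫ i') * (x' ≫ pp'))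
    (c : 𝟙_ (Over S) ⟶ Red.Gm S) (fT : T ⟶ T') [IsMonHom fT] [IsIso fT]
    (hfTα : fT ≫ α' = α) (hfTav : av ≫ fT = av') (f : G ⟶ G') [IsMonHom f] (hfT : i ≫ f = fT ≫ i')
    (hf : ∀ (X : Over S) (x y : X ⟶ Red.Ga S), Red.gaFn y = Red.gmFn (toUnit X ≫ c) * Red.gaFn x →
      (x ≫ pp) ≫ f = y ≫ pp') :
    IsIso f := by
  have st : BigCell.Sys1 i α pp pm av :=
    ⟨⟨inferInstance, inferInstance, inferInstance, inferInstance, hpp, hpm, hΩ⟩, inferInstance, h2, hF⟩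
  have st' : BigCell.Sys1 i' α' pp' pm' av' :=
    ⟨⟨inferInstance, inferInstance, inferInstance, inferInstance, hpp', hpm', hΩ'⟩, inferInstance, h2', hF'⟩
  have hcG' := BigCell.conn_of_isReductive hG'
  have hcG := BigCell.conn_of_isReductive hG
  have hq1 : ∀ (X : Over S) (a b : Γ(X.left, ⊤)), (a + b) ^ 1 = a ^ 1 + b ^ 1 := fun X a b => by
    simp only [pow_one]
  have hfTα' : fT ≫ α' = α ^ 1 := by rw [pow_one, hfTα]
  have hfTav' : av ≫ fT = av' ^ 1 := by rw [pow_one, hfTav]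
  have hfp : pp ≫ f = BigCell.pw c 1 ≫ pp' := (BigCell.posRoot_iff f c 1).1 fun X x y e =>
    hf X x y (e.trans (by rw [pow_one]))
  have hfn : pm ≫ f = BigCell.pw c⁻¹ 1 ≫ pm' := by
    refine st.pm_of_h st' hcG' hTm'.2.2.1 hα' Nat.one_pos hq1 f hfp ((st.coroot_iff st' f 1).1 fun X z => ?_)
    rw [Category.assoc, Category.assoc, hfT, ← Category.assoc av fT i', hfTav, ← Category.assoc, pow_one]
  haveI : IsMonHom (inv fT) := BigCell.isMonHom_of_mul' _ fun X a b => by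
    rw [← cancel_mono fT, Category.assoc, IsIso.inv_hom_id, Category.comp_id, MonObj.mul_comp, Category.assoc, Category.assoc, IsIso.inv_hom_id, Category.comp_id, Category.comp_id]
  obtain ⟨g, hgm, hgi, hgp, hgn⟩ := st'.exists_extend hcG' (fun Y a b => BigCell.torus_comm hTm'.2.2.1 a b)
    (st'.setup_pow st hq1 c⁻¹ (fT := inv fT) (by rw [pow_one, IsIso.inv_comp_eq, hfTα])
      (by rw [pow_one, IsIso.comp_inv_eq, hfTav]))
  haveI := hgm
  rw [_root_.inv_inv] at hgn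
  have hid : ∀ d : 𝟙_ (Over S) ⟶ Red.Gm S, BigCell.pw d 1 ≫ BigCell.pw d⁻¹ 1 = 𝟙 (Red.Ga S) := fun d => by
    refine GaPts.gaFn_injective ?_
    show Red.gaFn _ = Red.gaFn _
    rw [BigCell.comp_pw, GaPts.gaFn_ptOf, BigCell.pw, GaPts.gaFn_ptOf, pow_one, pow_one, BigCell.cU_inv,
      ← _root_.mul_assoc, Units.inv_mul, _root_.one_mul]
  refine ⟨g, st.sys.hom_ext hcG ?_ ?_ ?_, st'.sys.hom_ext hcG' ?_ ?_ ?_⟩
  · rw [← Category.assoc, hfT, Category.assoc, hgi, IsIso.hom_inv_id_assoc, Category.comp_id]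
  · rw [← Category.assoc, hfp, Category.assoc, hgp, ← Category.assoc, hid, Category.id_comp, Category.comp_id]
  · rw [← Category.assoc, hfn, Category.assoc, hgn, ← Category.assoc]
    have := hid c⁻¹
    rw [_root_.inv_inv] at this
    rw [this, Category.id_comp, Category.comp_id]
  · rw [← Category.assoc, hgi, Category.assoc, hfT, IsIso.inv_hom_id_assoc, Category.comp_id]
  · rw [← Category.assoc, hgp, Category.assoc, hfp, ← Category.assoc]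
    have := hid c⁻¹
    rw [_root_.inv_inv] at this
    rw [this, Category.id_comp, Category.comp_id]
  · rw [← Category.assoc, hgn, Category.assoc, hfn, ← Category.assoc, hid, Category.id_comp, Category.comp_id]

end Groth.Agent.S8454
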