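import Groth.Statements.S8455
import Groth.Agent.BigCellLib.Bridge
import Groth.Agent.BigCellLib.Quot
-- import your own Groth.Agent.* helpers here

set_option autoImplicit false
universe u
open CategoryTheory MonoidalCategory CartesianMonoidalCategory MonObj GrpObj AlgebraicGeometry CategoryTheory.Limits
open Red

namespace Groth.Agent.S8455

/-- Let (G, T, α, p₊, p₋, α^*) and (G', T', α', p'₊, p'₋, α'^*) be two rank-one systems over S: G
reductive, i : T ⟶ G a maximal torus, α a character of T non-trivial on every geometric fibre, p₊,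
p₋ : 𝔾_a ⟶ G monomorphisms normalised by T with multipliers α, α⁻¹ whose cell map (y, t, x) ↦ p₋(y)
i(t) p₊(x) is an open immersion, α^* : 𝔾_m ⟶ T with α ∘ α^* the squaring map and p₊(x) p₋(y) =
p₋(y/(1+xy)) · i(α^*(1+xy)) · p₊(x/(1+xy)) whenever 1 + xy is invertible; likewise for the primed
data. Let q > 0 be an integer such that x ↦ x^q is additive on all functions of S-schemes. Assume q
= 1: let c be an S-point of 𝔾_m and f_T : T ⟶ T' a homomorphism with α' ∘ f_T = α and f_T ∘ α^* =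
α'^* which is faithfully flat (flat and surjective) with kernel k : Q ⟶ T. Then a homomorphism f : G
⟶ G' extending f_T with f(p₊(x)) = p'₊(c x) for all points x is faithfully flat and quasi-compact,
with kernel Q (through k and i); so G' is the quotient G/Q. -/
theorem result (S : Scheme.{u}) (G T : Over S) [GrpObj G] [GrpObj T] (i : T ⟶ G) [IsMonHom i] [Mono i] (hG : Red.IsReductive G) (hTm : Red.IsMaximalTorus i)
    (α : T ⟶ Red.Gm S) [IsMonHom α] (hα : ∀ s : S, (Over.pullback (Red.geomPt s)).map α ≠ 1)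
    (pp pm : Red.Ga S ⟶ G) [IsMonHom pp] [Mono pp] [IsMonHom pm] [Mono pm]
    (hpp : ∀ (X : Over S) (t : X ⟶ T) (x : X ⟶ Red.Ga S), ∃ x' : X ⟶ Red.Ga S,
      x' ≫ pp = (t ≫ i) * (x ≫ pp) * (t ≫ i)⁻¹ ∧ Red.gaFn x' = Red.gmFn (t ≫ α) * Red.gaFn x)
    (hpm : ∀ (X : Over S) (t : X ⟶ T) (y : X ⟶ Red.Ga S), ∃ y' : X ⟶ Red.Ga S,
      y' ≫ pm = (t ≫ i) * (y ≫ pm) * (t ≫ i)⁻¹ ∧ Red.gaFn y' * Red.gmFn (t ≫ α) = Red.gaFn y)
    (hΩ : IsOpenImmersion (((pm ⊗ₘ i) ⊗ₘ pp) ≫ (μ[G] ▷ G) ≫ μ[G]).left)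
    (av : Red.Gm S ⟶ T) [IsMonHom av] (h2 : av ≫ α = (𝟙 (Red.Gm S)) ^ 2)
    (hF : ∀ (X : Over S) (x y : X ⟶ Red.Ga S), IsUnit (1 + Red.gaFn x * Red.gaFn y) →
      ∃ (x' y' : X ⟶ Red.Ga S) (z : X ⟶ Red.Gm S), Red.gmFn z = 1 + Red.gaFn x * Red.gaFn y ∧
        Red.gaFn x' * Red.gmFn z = Red.gaFn x ∧ Red.gaFn y' * Red.gmFn z = Red.gaFn y ∧
        (x ≫ pp) * (y ≫ pm) = (y' ≫ pm) * (z ≫ av ≫ i) * (x' ≫ pp))
    (G' T' : Over S) [GrpObj G'] [GrpObj T'] (i' : T' ⟶ G') [IsMonHom i'] [Mono i'] (hG' : Red.IsReductive G') (hTm' : Red.IsMaximalTorus i')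
    (α' : T' ⟶ Red.Gm S) [IsMonHom α'] (hα' : ∀ s : S, (Over.pullback (Red.geomPt s)).map α' ≠ 1)
    (pp' pm' : Red.Ga S ⟶ G') [IsMonHom pp'] [Mono pp'] [IsMonHom pm'] [Mono pm']
    (hpp' : ∀ (X : Over S) (t : X ⟶ T') (x : X ⟶ Red.Ga S), ∃ x' : X ⟶ Red.Ga S,
      x' ≫ pp' = (t ≫ i') * (x ≫ pp') * (t ≫ i')⁻¹ ∧ Red.gaFn x' = Red.gmFn (t ≫ α') * Red.gaFn x)
    (hpm' : ∀ (X : Over S) (t : X ⟶ T') (y : X ⟶ Red.Ga S), ∃ y' : X ⟶ Red.Ga S,
      y' ≫ pm' = (t ≫ i') * (y ≫ pm') * (t ≫ i')⁻¹ ∧ Red.gaFn y' * Red.gmFn (t ≫ α') = Red.gaFn y)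
    (hΩ' : IsOpenImmersion (((pm' ⊗ₘ i') ⊗ₘ pp') ≫ (μ[G'] ▷ G') ≫ μ[G']).left)
    (av' : Red.Gm S ⟶ T') [IsMonHom av'] (h2' : av' ≫ α' = (𝟙 (Red.Gm S)) ^ 2)
    (hF' : ∀ (X : Over S) (x y : X ⟶ Red.Ga S), IsUnit (1 + Red.gaFn x * Red.gaFn y) →
      ∃ (x' y' : X ⟶ Red.Ga S) (z : X ⟶ Red.Gm S), Red.gmFn z = 1 + Red.gaFn x * Red.gaFn y ∧
        Red.gaFn x' * Red.gmFn z = Red.gaFn x ∧ Red.gaFn y' * Red.gmFn z = Red.gaFn y ∧
        (x ≫ pp') * (y ≫ pm') = (y' ≫ pm') * (z ≫ av' ≫ i') * (x' ≫ pp'))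
    (c : 𝟙_ (Over S) ⟶ Red.Gm S) (fT : T ⟶ T') [IsMonHom fT] (hfl : Flat fT.left) (hsu : Surjective fT.left)
    (Q : Over S) (k : Q ⟶ T) (hk : AlgGrp.IsKernel k fT)
    (hfTα : fT ≫ α' = α) (hfTav : av ≫ fT = av') (f : G ⟶ G') [IsMonHom f] (hfT : i ≫ f = fT ≫ i')
    (hf : ∀ (X : Over S) (x y : X ⟶ Red.Ga S), Red.gaFn y = Red.gmFn (toUnit X ≫ c) * Red.gaFn x →
      (x ≫ pp) ≫ f = y ≫ pp') :
    Flat f.left ∧ Surjective f.left ∧ QuasiCompact f.left ∧ AlgGrp.IsKernel (k ≫ i) f := by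
  have st : BigCell.Sys1 i α pp pm av :=
    ⟨⟨inferInstance, inferInstance, inferInstance, inferInstance, hpp, hpm, hΩ⟩, inferInstance, h2, hF⟩
  have st' : BigCell.Sys1 i' α' pp' pm' av' :=
    ⟨⟨inferInstance, inferInstance, inferInstance, inferInstance, hpp', hpm', hΩ'⟩, inferInstance, h2', hF'⟩
  have hcG := BigCell.conn_of_isReductive hG
  have hcG' := BigCell.conn_of_isReductive hG'
  have hc := fun (Y : Over S) (a b : Y ⟶ T) => BigCell.torus_comm hTm.2.2.1 a b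
  have hc' := fun (Y : Over S) (a b : Y ⟶ T') => BigCell.torus_comm hTm'.2.2.1 a b
  have hq1 : ∀ (X : Over S) (a b : Γ(X.left, ⊤)), (a + b) ^ 1 = a ^ 1 + b ^ 1 := fun X a b => by
    simp only [pow_one]
  have hfp : pp ≫ f = BigCell.pw c 1 ≫ pp' := (BigCell.posRoot_iff f c 1).1 fun X x y e =>
    hf X x y (e.trans (by rw [pow_one]))
  have hfn : pm ≫ f = BigCell.pw c⁻¹ 1 ≫ pm' := by
    refine st.pm_of_h st' hcG' hTm'.2.2.1 hα' Nat.one_pos hq1 f hfp ((st.coroot_iff st' f 1).1 fun X z => ?_)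
    rw [Category.assoc, Category.assoc, hfT, ← Category.assoc av fT i', hfTav, ← Category.assoc, pow_one]
  have himg : ∀ {X : Over S} (y : Γ(X.left, ⊤)) (t : X ⟶ T) (x : Γ(X.left, ⊤)),
      BigCell.cell i pp pm y t x ≫ f = BigCell.cell i' pp' pm' ((BigCell.cU c⁻¹ X : Γ(X.left, ⊤)) * y) (t ≫ fT)
        ((BigCell.cU c X : Γ(X.left, ⊤)) * x) := fun {X} y t x => by
    rw [BigCell.cell_comp_hom, BigCell.cell, BigCell.cell, hfT, hfp, hfn, BigCell.rt_pw, BigCell.rt_pw, pow_one,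
      pow_one, Category.assoc]
  have hpre : ∀ {X : Over S} (g : X ⟶ G), BigCell.InCell i' pp' pm' (g ≫ f) → BigCell.InCell i pp pm g := by
    intro X g hg
    obtain ⟨X', π, _, _, _, a, b, ⟨y, t, x, rfl⟩, ⟨y', t', x', rfl⟩, he⟩ := st.sys.exists_div hcG g
    refine st.sys.inCell_of_surjective π ?_
    let b₀ : Γ(X'.left, ⊤) :=
      (((BigCell.av' α t'⁻¹)⁻¹ : (Γ(X'.left, ⊤))ˣ) : Γ(X'.left, ⊤)) * -y'
    have e : π ≫ g = BigCell.cell i pp pm y t (x - x') * BigCell.cell i pp pm b₀ t'⁻¹ 0 := by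
      rw [he]
      simp only [b₀, BigCell.cell, ← st.sys.conjM, sub_eq_add_neg, BigCell.rt_add, BigCell.rt_neg, BigCell.rt_zero,
        GrpObj.inv_comp]
      group
    have h1 := hg.comp π
    rw [← Category.assoc, e, MonObj.mul_comp, himg, himg] at h1
    have h2 := st'.isUnit_of_inCell_mul hc' h1
    have h3 : IsUnit (1 + (x - x') * b₀) := by
      refine (congrArg IsUnit ?_).mp h2
      rw [BigCell.cU_inv]
      linear_combination ((x - x') * b₀) * (BigCell.cU c X').mul_inv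
    rw [e]
    exact ⟨_, _, _, st.cell_mul _ _ _ _ _ _ h3.unit h3.unit_spec⟩
  have hiso : ∀ d : 𝟙_ (Over S) ⟶ Red.Gm S, IsIso (BigCell.pw d 1) := fun d => by
    have hid : ∀ d : 𝟙_ (Over S) ⟶ Red.Gm S, BigCell.pw d 1 ≫ BigCell.pw d⁻¹ 1 = 𝟙 (Red.Ga S) := fun d => by
      refine GaPts.gaFn_injective ?_
      show Red.gaFn _ = Red.gaFn _
      rw [BigCell.comp_pw, GaPts.gaFn_ptOf, BigCell.pw, GaPts.gaFn_ptOf, pow_one, pow_one, BigCell.cU_inv,
        ← _root_.mul_assoc, Units.inv_mul, _root_.one_mul]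
    refine ⟨BigCell.pw d⁻¹ 1, hid d, ?_⟩
    have := hid d⁻¹
    rwa [_root_.inv_inv] at this
  haveI := hfl
  haveI := hsu
  haveI := hiso c
  haveI := hiso c⁻¹
  haveI : IsIso (BigCell.pw c 1).left := ((Over.forget S).mapIso (asIso (BigCell.pw c 1))).isIso_hom
  haveI : IsIso (BigCell.pw c⁻¹ 1).left := ((Over.forget S).mapIso (asIso (BigCell.pw c⁻¹ 1))).isIso_hom
  let h := (BigCell.pw c⁻¹ 1 ⊗ₘ fT) ⊗ₘ BigCell.pw c 1
  haveI : Flat h.left := BigCell.prop_tensorHom @Flat _ _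
    (BigCell.prop_tensorHom @Flat _ _ inferInstance inferInstance) inferInstance
  haveI : Surjective h.left := BigCell.prop_tensorHom @Surjective _ _
    (BigCell.prop_tensorHom @Surjective _ _ inferInstance inferInstance) inferInstance
  have hcomp : BigCell.cellHom i pp pm ≫ f = h ≫ BigCell.cellHom i' pp' pm' := by
    let D := (Red.Ga S ⊗ T) ⊗ Red.Ga S
    let y : D ⟶ Red.Ga S := fst _ _ ≫ fst _ _
    let t : D ⟶ T := fst _ _ ≫ snd _ _
    let x : D ⟶ Red.Ga S := snd _ _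
    have hl : lift (lift y t) x = 𝟙 D := by simp [D, y, t, x]
    have hh : h = lift (lift (y ≫ BigCell.pw c⁻¹ 1) (t ≫ fT)) (x ≫ BigCell.pw c 1) := by
      rw [← Category.id_comp h, ← hl]
      simp only [h, lift_map]
    have e := congrArg (· ≫ f) (BigCell.lift_cellHom i pp pm y t x)
    rw [hl, Category.id_comp] at e
    rw [e, hh, BigCell.lift_cellHom]
    simp only [MonObj.mul_comp, Category.assoc, hfT, hfp, hfn]
  obtain ⟨hflat, hsurj⟩ := st.sys.flat_surjective_of_cell st'.sys hcG hcG' f h hcomp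
  refine ⟨hflat, hsurj, ?_, ?_⟩
  · haveI := hG.1
    haveI := hG'.1
    haveI : IsAffineHom (f.left ≫ G'.hom) := by rw [Over.w f]; infer_instance
    haveI : IsAffineHom f.left :=
      MorphismProperty.of_postcomp (W := @IsAffineHom) (W' := @IsSeparated) f.left G'.hom inferInstance this
    infer_instance
  · replace hk : IsPullback k (toUnit Q) fT η[T'] := hk
    have hk' : k ≫ fT = toUnit Q ≫ η[T'] := hk.w
    have w : (k ≫ i) ≫ f = toUnit Q ≫ η[G'] := by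
      rw [Category.assoc, hfT, ← Category.assoc, hk', Category.assoc, IsMonHom.one_hom]
    have hker : ∀ s : PullbackCone f η[G'], ∃ t : s.pt ⟶ T, t ≫ i = s.fst ∧ t ≫ fT = toUnit s.pt ≫ η[T'] := by
      intro s
      have e1 : s.fst ≫ f = 1 := by
        rw [s.condition, toUnit_unique s.snd (toUnit _)]
        rfl
      obtain ⟨y, t, x, he⟩ := hpre s.fst (by rw [e1]; exact ⟨0, 1, 0, (BigCell.cell_one i' pp' pm').symm⟩)
      rw [he, himg, ← BigCell.cell_one i' pp' pm'] at e1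
      obtain ⟨hy, ht, hx⟩ := st'.sys.cell_inj e1
      rw [Units.mul_right_eq_zero] at hy hx
      refine ⟨t, ?_, ?_⟩
      · rw [he, hy, hx]
        simp only [BigCell.cell, BigCell.rt_zero, _root_.one_mul, _root_.mul_one]
      · rw [ht]
        rfl
    choose tt ht1 ht2 using hker
    refine ⟨⟨w⟩, ⟨PullbackCone.IsLimit.mk w
      (fun s => hk.lift (tt s) (toUnit s.pt) (ht2 s)) (fun s => ?_) (fun s => toUnit_unique _ _) fun s m hm _ => ?_⟩⟩
    · rw [← Category.assoc, IsPullback.lift_fst, ht1]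
    · refine hk.hom_ext ?_ (toUnit_unique _ _)
      rw [IsPullback.lift_fst, ← cancel_mono i, Category.assoc, hm, ht1]

end Groth.Agent.S8455
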