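import Groth.Statements.S8457
import Groth.Agent.BigCellLib.Gen
-- import your own Groth.Agent.* helpers here

set_option autoImplicit false
universe u
open CategoryTheory MonoidalCategory CartesianMonoidalCategory MonObj GrpObj AlgebraicGeometry CategoryTheory.Limits
open Red

namespace Groth.Agent.S8457

/-- Generators and relations for a group of semisimple rank 1: for H an S-group scheme. Let G be a
reductive S-group, i : T ⟶ G a maximal torus, α a character of T non-trivial on every geometric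
fibre, p₊, p₋ : 𝔾_a ⟶ G monomorphisms of groups normalised by T with multipliers α and α⁻¹ whose
cell map (y, t, x) ↦ p₋(y) i(t) p₊(x) is an open immersion 𝔾_a ×_S T ×_S 𝔾_a ⟶ G, and α^* : 𝔾_m ⟶ T
the coroot: α ∘ α^* is the squaring map and p₊(x) p₋(y) = p₋(y/(1+xy)) · i(α^*(1+xy)) · p₊(x/(1+xy))
whenever 1 + xy is invertible (so p₊ and p₋ are dual to each other). Let e₁, em be the S-points of
𝔾_a with coordinates 1, -1 and m the S-point of 𝔾_m with coordinate -1; put u = p₊(e₁) and w =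
p₊(e₁) p₋(em) p₊(e₁). Let H be an S-group scheme, f_T : T ⟶ H and f_α : 𝔾_a ⟶ H homomorphisms and h
an S-point of H. Then there is exactly one homomorphism f : G ⟶ H with f ∘ i = f_T, f ∘ p₊ = f_α and
f(w) = h if and only if: (1) f_T(t) f_α(x) f_T(t)⁻¹ = f_α(α(t) x) for all points t of T and x of
𝔾_a; (2) h f_T(t) h⁻¹ = f_T(t · α^*(α(t))⁻¹) for all points t of T; (3) h² = f_T(α^*(m)); (4) (h ·
f_α(e₁))³ = e. (The published statement allows H to be any fppf sheaf of groups.) -/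
theorem result (S : Scheme.{u}) (G T : Over S) [GrpObj G] [GrpObj T] (i : T ⟶ G) [IsMonHom i] [Mono i] (hG : Red.IsReductive G) (hTm : Red.IsMaximalTorus i)
    (α : T ⟶ Red.Gm S) [IsMonHom α] (hα : ∀ s : S, (Over.pullback (Red.geomPt s)).map α ≠ 1)
    (pp pm : Red.Ga S ⟶ G) [IsMonHom pp] [Mono pp] [IsMonHom pm] [Mono pm]
    (hpp : ∀ (X : Over S) (t : X ⟶ T) (x : X ⟶ Red.Ga S), ∃ x' : X ⟶ Red.Ga S,
      x' ≫ pp = (t ≫ i) * (x ≫ pp) * (t ≫ i)⁻¹ ∧ Red.gaFn x' = Red.gmFn (t ≫ α) * Red.gaFn x)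
    (hpm : ∀ (X : Over S) (t : X ⟶ T) (y : X ⟶ Red.Ga S), ∃ y' : X ⟶ Red.Ga S,
      y' ≫ pm = (t ≫ i) * (y ≫ pm) * (t ≫ i)⁻¹ ∧ Red.gaFn y' * Red.gmFn (t ≫ α) = Red.gaFn y)
    (hΩ : IsOpenImmersion (((pm ⊗ₘ i) ⊗ₘ pp) ≫ (μ[G] ▷ G) ≫ μ[G]).left)
    (av : Red.Gm S ⟶ T) [IsMonHom av] (h2 : av ≫ α = (𝟙 (Red.Gm S)) ^ 2)
    (hF : ∀ (X : Over S) (x y : X ⟶ Red.Ga S), IsUnit (1 + Red.gaFn x * Red.gaFn y) →
      ∃ (x' y' : X ⟶ Red.Ga S) (z : X ⟶ Red.Gm S), Red.gmFn z = 1 + Red.gaFn x * Red.gaFn y ∧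
        Red.gaFn x' * Red.gmFn z = Red.gaFn x ∧ Red.gaFn y' * Red.gmFn z = Red.gaFn y ∧
        (x ≫ pp) * (y ≫ pm) = (y' ≫ pm) * (z ≫ av ≫ i) * (x' ≫ pp))
    (e₁ em : 𝟙_ (Over S) ⟶ Red.Ga S) (he₁ : Red.gaFn e₁ = 1) (hem : Red.gaFn em = -1)
    (m : 𝟙_ (Over S) ⟶ Red.Gm S) (hm : Red.gmFn m = -1)
    (H : Over S) [GrpObj H] (fT : T ⟶ H) [IsMonHom fT] (fα : Red.Ga S ⟶ H) [IsMonHom fα] (h : 𝟙_ (Over S) ⟶ H) :
    (∃! f : G ⟶ H, IsMonHom f ∧ i ≫ f = fT ∧ pp ≫ f = fα ∧ ((e₁ ≫ pp) * (em ≫ pm) * (e₁ ≫ pp)) ≫ f = h) ↔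
      ((∀ (X : Over S) (t : X ⟶ T) (x x' : X ⟶ Red.Ga S), Red.gaFn x' = Red.gmFn (t ≫ α) * Red.gaFn x →
          (t ≫ fT) * (x ≫ fα) * (t ≫ fT)⁻¹ = x' ≫ fα) ∧
        (∀ (X : Over S) (t : X ⟶ T), (toUnit X ≫ h) * (t ≫ fT) * (toUnit X ≫ h)⁻¹ = (t * (t ≫ α ≫ av)⁻¹) ≫ fT) ∧
        h ^ 2 = m ≫ av ≫ fT ∧ (h * (e₁ ≫ fα)) ^ 3 = 1) := by
  have st : BigCell.Sys1 i α pp pm av :=
    ⟨⟨inferInstance, inferInstance, inferInstance, inferInstance, hpp, hpm, hΩ⟩, inferInstance, h2, hF⟩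
  have hcG := BigCell.conn_of_isReductive hG
  have hT := hTm.2.2.1
  have hc := fun (Y : Over S) (a b : Y ⟶ T) => BigCell.torus_comm hT a b
  have he1 : e₁ = GaPts.ptOf 1 := RankOne.eq_ptOf e₁ he₁
  have hem' : em = GaPts.ptOf (-1) := RankOne.eq_ptOf em hem
  have hcm : m ≫ av = (st.D (𝟙_ (Over S))).c (-1) := by
    show m ≫ av = GmPts.ptOfUnit (-1) ≫ av
    rw [RankOne.eq_ptOfUnit m (v := -1) (by rw [hm, Units.val_neg, Units.val_one])]
  have hwG : (e₁ ≫ pp) * (em ≫ pm) * (e₁ ≫ pp) = (st.D (𝟙_ (Over S))).w 1 := by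
    rw [he1, hem']
    show _ = BigCell.rt pp _ * BigCell.rt pm _ * BigCell.rt pp _
    simp only [inv_one, Units.val_one]
  have hwX : ∀ X : Over S, toUnit X ≫ (st.D (𝟙_ (Over S))).w 1 = (st.D X).w 1 := fun X => by
    rw [st.comp_w, map_one]
  constructor
  · rintro ⟨f, ⟨hfm, hfi, hfp, hfw⟩, -⟩
    haveI := hfm
    rw [hwG] at hfw
    have hk : ∀ X : Over S, toUnit X ≫ h = (st.D X).w 1 ≫ f := fun X => by
      rw [← hfw, ← Category.assoc, hwX]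
    have hk1 : h = (st.D (𝟙_ (Over S))).w 1 ≫ f := hfw.symm
    refine ⟨fun X t x x' e => ?_, fun X t => ?_, ?_, ?_⟩
    · have h1 := congrArg (· ≫ f) (st.sys.conjP t (gaFn x))
      rw [← BigCell.rt_eq pp x rfl, ← BigCell.rt_eq pp x' (by rw [e, GmPts.val_unitOfPt])] at h1
      simpa only [MonObj.mul_comp, GrpObj.inv_comp, Category.assoc, hfi, hfp] using h1
    · have h1 := congrArg (· ≫ f) ((st.D X).w_conj t 1)
      have e : (t * (t ≫ α ≫ av)⁻¹) ≫ fT = ((((st.D X).c (BigCell.av' α t))⁻¹ * t) ≫ i) ≫ f := by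
        rw [Category.assoc, hfi, hc X t]
        congr 3
        show t ≫ α ≫ av = GmPts.ptOfUnit _ ≫ av
        rw [BigCell.av', GmPts.ptOfUnit_unitOfPt, Category.assoc]
      rw [e, hk, ← hfi, ← Category.assoc t i f, ← GrpObj.inv_comp, ← MonObj.mul_comp, ← MonObj.mul_comp]
      refine h1.trans ?_
      show (((st.D X).c (BigCell.av' α t) ≫ i)⁻¹ * (t ≫ i)) ≫ f = _
      simp only [MonObj.mul_comp, GrpObj.inv_comp]
    · rw [hk1, ← MonObj.pow_comp, (st.D _).w_sq, ← hfi, ← Category.assoc m av, hcm, ← Category.assoc]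
      rfl
    · rw [hk1, ← hfp, ← Category.assoc e₁ pp f, ← MonObj.mul_comp, ← MonObj.pow_comp]
      have h1 := (st.D (𝟙_ (Over S))).w_P_cube 1 (st.setup.w_P _ 1)
      rw [show e₁ ≫ pp = (st.D (𝟙_ (Over S))).P ((1 : (Γ((𝟙_ (Over S)).left, ⊤))ˣ) : Γ((𝟙_ (Over S)).left, ⊤)) from
        st.setup.pp_eq e₁ (by rw [he₁, Units.val_one]), h1, MonObj.one_comp]
  · rintro ⟨h1, h2', h3, h4⟩
    have r : BigCell.Rel4 st fT fα h := by
      refine ⟨fun X t a => ?_, fun X t => ?_, fun X => ?_, fun X => ?_⟩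
      · exact h1 X t (GaPts.ptOf a) (GaPts.ptOf _) (by rw [GaPts.gaFn_ptOf, GaPts.gaFn_ptOf, GmPts.val_unitOfPt])
      · rw [h2' X t]
        congr 3
        show t ≫ α ≫ av = GmPts.ptOfUnit _ ≫ av
        rw [BigCell.av', GmPts.ptOfUnit_unitOfPt, Category.assoc]
      · rw [← MonObj.comp_pow, h3, ← Category.assoc m av fT, hcm, ← Category.assoc, st.comp_c]
        congr 2
        ext
        simp
      · have := congrArg (toUnit X ≫ ·) h4
        simp only [MonObj.comp_pow, MonObj.comp_mul, MonObj.comp_one, he1] at this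
        rwa [← BigCell.rt, BigCell.comp_rt, map_one] at this
    haveI := BigCell.isMonHom_negRootOf fα h
    obtain ⟨f, hfm, hfi, hfp, hfn⟩ := st.exists_extend hcG hc (r.setup hT hα)
    haveI := hfm
    have hfw : ((e₁ ≫ pp) * (em ≫ pm) * (e₁ ≫ pp)) ≫ f = h := by
      have e := r.weyl (𝟙_ (Over S))
      rw [toUnit_unique (toUnit (𝟙_ (Over S))) (𝟙 _), Category.id_comp] at e
      simp only [MonObj.mul_comp, Category.assoc, hfp, hfn, he1, hem']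
      exact e
    refine ⟨f, ⟨hfm, hfi, hfp, hfw⟩, ?_⟩
    rintro g ⟨hgm, hgi, hgp, hgw⟩
    haveI := hgm
    refine st.sys.hom_ext hcG (hgi.trans hfi.symm) (hgp.trans hfp.symm) ?_
    rw [hwG] at hfw hgw
    refine BigCell.hom_ext_units fun X v => ?_
    -- `M(v)` is the conjugate of `P(-v)` by `w(1)` in `G`
    let D := st.D X
    have e : D.w 1 * D.P ((-v : (Γ(X.left, ⊤))ˣ) : Γ(X.left, ⊤)) * (D.w 1)⁻¹ = D.M (v : Γ(X.left, ⊤)) := by
      have e0 := st.setup.w_P X (-v)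
      have e1 : D.w (-v) = D.h (-v) * D.w 1 := by rw [← D.w_scale, _root_.mul_one]
      change D.w (-v) * _ * (D.w (-v))⁻¹ = D.M _ at e0
      rw [e1] at e0
      calc D.w 1 * D.P ((-v : (Γ(X.left, ⊤))ˣ) : Γ(X.left, ⊤)) * (D.w 1)⁻¹
          = (D.h (-v))⁻¹ * (D.h (-v) * D.w 1 * D.P ((-v : (Γ(X.left, ⊤))ˣ) : Γ(X.left, ⊤)) * (D.h (-v) * D.w 1)⁻¹) *
              D.h (-v) := by group
        _ = _ := by
          rw [e0, ← map_inv, D.h_M, _root_.inv_inv, _root_.mul_assoc, ← map_mul, inv_mul_cancel, map_one,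
            _root_.mul_one]
          congr 1
          rw [Units.val_neg, inv_neg, Units.val_neg]
          linear_combination (v : Γ(X.left, ⊤)) * v.mul_inv
    have key : ∀ (φ : G ⟶ H), IsMonHom φ → pp ≫ φ = fα → (st.D (𝟙_ (Over S))).w 1 ≫ φ = h →
        BigCell.rt (pm ≫ φ) (v : Γ(X.left, ⊤)) = (toUnit X ≫ h) * BigCell.rt fα (-(v : Γ(X.left, ⊤))) * (toUnit X ≫ h)⁻¹ := by
      intro φ _ hφp hφw
      rw [BigCell.rt, ← Category.assoc]
      show D.M (v : Γ(X.left, ⊤)) ≫ φ = _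
      rw [← e, MonObj.mul_comp, MonObj.mul_comp, GrpObj.inv_comp, ← hwX, Category.assoc, hφw]
      show _ * ((GaPts.ptOf _ ≫ pp) ≫ φ) * _ = _
      rw [Category.assoc, hφp, Units.val_neg]
    rw [key g hgm hgp hgw, key f hfm hfp hfw]

end Groth.Agent.S8457
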