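import Groth.Statements.S8466
import Groth.Agent.BruhatLib.NormalizerHom

set_option autoImplicit false
set_option backward.isDefEq.respectTransparency false
set_option maxHeartbeats 1000000
set_option synthInstance.maxHeartbeats 400000
universe u
open CategoryTheory MonoidalCategory CartesianMonoidalCategory MonObj GrpObj AlgebraicGeometry CategoryTheory.Limits
open Red

attribute [-instance] CategoryTheory.Hom.commGroup

namespace Groth.Agent.S8466

/-- Let G be a pinned reductive S-group: a splitting D (maximal torus T ≅ D_S(M), root datum with root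
homomorphisms u_c : 𝔾_a ⟶ G for all roots c, system of simple roots Δ) such that for every simple
root a the root homomorphisms of a and -a are dual to each other: u_a(x) u_{-a}(y) =
u_{-a}(y/(1+xy)) · a^∨(1+xy) · u_a(x/(1+xy)) whenever 1 + xy is invertible, where a^∨ : 𝔾_m ⟶ T is
the coroot of a read through the splitting. For a root a put w_a = u_a(1) u_{-a}(-1) u_a(1) (an
S-point of G). Let j : N ⟶ G be the normaliser of T (with T ⟶ N the inclusion), H an S-group scheme,
f_T : T ⟶ H a homomorphism and h_a (a a simple root) S-points of H. For simple roots a, b let n_{ab}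
be the order of s_a s_b (as an automorphism of M) and t_{ab} = (w_a w_b)^{n_{ab}}, an S-point of T.
Then there is exactly one homomorphism f_N : N ⟶ H inducing f_T on T and with f_N(w_a) = h_a for
every simple root a if and only if (i) f_T(t · a^∨(a(t))⁻¹) = h_a f_T(t) h_a⁻¹ for all simple a and
all points t of T, and (ii) f_T(t_{ab}) = (h_a h_b)^{n_{ab}} for all simple a, b. (The published
statement allows H to be any group functor turning disjoint unions into products.) -/
theorem result (S : Scheme.{u}) (e₁ : 𝟙_ (Over S) ⟶ Red.Ga S) (he₁ : Red.gaFn e₁ = 1)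
    (G : Over S) [GrpObj G] (D : Red.Pinning G)
    (avc : D.idx → (Red.Gm S ⟶ D.T))
    (havc : ∀ a, avc a = Red.DSmap S (D.P.coroot a).toAddMonoidHom ≫ D.split.inv.hom.hom)
    (hpair : ∀ a ∈ D.base.support, ∀ (X : Over S) (x y : X ⟶ Red.Ga S), IsUnit (1 + Red.gaFn x * Red.gaFn y) →
        ∃ (x' y' : X ⟶ Red.Ga S) (z : X ⟶ Red.Gm S), Red.gmFn z = 1 + Red.gaFn x * Red.gaFn y ∧
          Red.gaFn x' * Red.gmFn z = Red.gaFn x ∧ Red.gaFn y' * Red.gmFn z = Red.gaFn y ∧
          (x ≫ D.u a) * (y ≫ D.u (D.P.reflectionPerm a a)) = (y' ≫ D.u (D.P.reflectionPerm a a)) * (z ≫ avc a ≫ D.i) * (x' ≫ D.u a))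
    (w : D.idx → (𝟙_ (Over S) ⟶ G))
    (hw : ∀ a, w a = (e₁ ≫ D.u a) * (e₁ ≫ D.u (D.P.reflectionPerm a a))⁻¹ * (e₁ ≫ D.u a))
    (N : Over S) [GrpObj N] (j : N ⟶ G) (hN : Red.IsNormalizerOf D.i j) (tN : D.T ⟶ N) [IsMonHom tN] (htN : tN ≫ j = D.i)
    (H : Over S) [GrpObj H] (fT : D.T ⟶ H) [IsMonHom fT] (h : D.idx → (𝟙_ (Over S) ⟶ H)) :
    (∃! fN : N ⟶ H, IsMonHom fN ∧ tN ≫ fN = fT ∧
        ∀ a ∈ D.base.support, ∀ n : 𝟙_ (Over S) ⟶ N, n ≫ j = w a → n ≫ fN = h a) ↔
      ((∀ a ∈ D.base.support, ∀ (X : Over S) (t : X ⟶ D.T),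
          (t * (t ≫ (D.split.hom.hom.hom ≫ Red.chi S (D.P.root a)) ≫ avc a)⁻¹) ≫ fT = (toUnit X ≫ h a) * (t ≫ fT) * (toUnit X ≫ h a)⁻¹) ∧
        ∀ a ∈ D.base.support, ∀ b ∈ D.base.support, ∀ t : 𝟙_ (Over S) ⟶ D.T,
          t ≫ D.i = (w a * w b) ^ orderOf (D.P.reflection a * D.P.reflection b) →
            t ≫ fT = (h a * h b) ^ orderOf (D.P.reflection a * D.P.reflection b)) := by
  classical
  haveI := hN.1
  haveI := hN.2.1
  by_cases hS : Nonempty S
  swap
  · refine ⟨fun _ => ⟨fun a ha X t => Bruhat.over_hom_eq hS _ _, fun a ha b hb t _ => Bruhat.over_hom_eq hS _ _⟩,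
      fun _ => ⟨1, ⟨⟨Bruhat.over_hom_eq hS _ _, Bruhat.over_hom_eq hS _ _⟩, Bruhat.over_hom_eq hS _ _,
        fun a ha n _ => Bruhat.over_hom_eq hS _ _⟩, fun g _ => Bruhat.over_hom_eq hS _ _⟩⟩
  haveI := hS
  haveI := SplitCell.mono_i D.toSplitRed
  haveI := SplitCell.isMonHom_i D.toSplitRed
  obtain ⟨nr, hf, hnr⟩ := Bruhat.exists_pinFam D he₁ avc havc hpair w hw
  choose nN hnN using fun a => hf.exists_lift hN a
  constructor
  · rintro ⟨fN, ⟨hfN, hfT, hfa⟩, -⟩
    haveI := hfN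
    refine ⟨fun a ha X t => ?_, fun a ha c hc t ht => ?_⟩
    · have e : Bruhat.tRefl a t ≫ tN =
          (toUnit X ≫ nN a) * (t ≫ tN) * (toUnit X ≫ nN a)⁻¹ := by
        refine (cancel_mono j).1 ?_
        rw [MonObj.mul_comp, MonObj.mul_comp, GrpObj.inv_comp, Category.assoc, Category.assoc, Category.assoc, hnN,
          htN]
        exact ((hf.refl a).conj_torus t).symm
      have e2 := congrArg (· ≫ fN) e
      simp only [MonObj.mul_comp, GrpObj.inv_comp, Category.assoc, hfT, hfa a ha (nN a) (by rw [hnN, hnr a ha])] at e2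
      rw [(hf.pin a ha).tRefl_eq] at e2
      exact e2
    · have e : t ≫ tN = (nN a * nN c) ^ orderOf (D.P.reflection a * D.P.reflection c) := by
        refine (cancel_mono j).1 ?_
        rw [Category.assoc, htN, ht, MonObj.pow_comp, MonObj.mul_comp, hnN, hnN, hnr a ha, hnr c hc]
      have e2 := congrArg (· ≫ fN) e
      simp only [Category.assoc, hfT, MonObj.pow_comp, MonObj.mul_comp, hfa a ha (nN a) (by rw [hnN, hnr a ha]),
        hfa c hc (nN c) (by rw [hnN, hnr c hc])] at e2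
      exact e2
  · rintro ⟨h1, h2⟩
    have h1' : ∀ a ∈ D.base.support, ∀ (X : Over S) (t : X ⟶ D.T),
        Bruhat.tRefl a t ≫ fT = (toUnit X ≫ h a) * (t ≫ fT) * (toUnit X ≫ h a)⁻¹ := fun a ha X t => by
      rw [(hf.pin a ha).tRefl_eq]; exact h1 a ha X t
    obtain ⟨f, hfm, hfT, hfa⟩ := hf.exists_hom hN htN hnN fT h h1' fun a ha c hc t ht =>
      h2 a ha c hc t (by rw [ht, hnr a ha, hnr c hc])
    refine ⟨f, ⟨hfm, hfT, fun a ha n hn => ?_⟩, fun g ⟨hgm, hgT, hga⟩ => ?_⟩
    · rw [show n = nN a from (cancel_mono j).1 (by rw [hn, hnN, hnr a ha])]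
      exact hfa a ha
    · haveI := hgm
      haveI := hfm
      exact hf.hom_unique hN htN hnN fT h hgT hfT (fun a ha => hga a ha _ (by rw [hnN, hnr a ha])) hfa

end Groth.Agent.S8466
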