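import Groth.Statements.S8471
import Mathlib
-- import your own Groth.Agent.* helpers here

set_option autoImplicit false
open Red

namespace Groth.Agent.S8471

open Polynomial

open Polynomial

variable {k : Type} [Field k]

theorem eq_linear (P Q : k[X]) (hcop : IsCoprime P Q) (hP0 : P ≠ 0) (hQ0 : Q ≠ 0)
    {Ω : Type} [Field Ω] [Algebra k Ω] [IsAlgClosed Ω] (x c : Ω) (hx : Transcendental k x)
    (hc : c * aeval x Q = aeval x P) (hc0 : c ≠ 0)
    (hid : ∀ Y : Ω, aeval (x + c * Y) P * aeval Y Q = c * aeval Y P * aeval (x + c * Y) Q) :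
    Q.natDegree = 0 ∧ P.natDegree ≤ 1 := by
  by_cases hdeg : (P * Q).natDegree = 0
  · rw [natDegree_mul hP0 hQ0] at hdeg
    omega
  obtain ⟨r, hr⟩ := IsAlgClosed.exists_aeval_eq_zero Ω (P * Q) (fun h => hdeg (by
    rw [natDegree, h]; rfl))
  have hne : ∀ a : Ω, aeval a P = 0 → aeval a Q ≠ 0 := fun a h h' => by
    obtain ⟨u, v, huv⟩ := hcop
    have := congrArg (aeval a) huv
    simp [h, h'] at this
  obtain ⟨Y, hY⟩ : ∃ Y, x + c * Y = r := ⟨(r - x) / c, by rw [mul_div_cancel₀ _ hc0]; ring⟩
  have h := hid Y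
  rw [hY] at h
  rw [map_mul] at hr
  have hYalg : IsAlgebraic k Y := by
    refine ⟨P * Q, mul_ne_zero hP0 hQ0, ?_⟩
    rw [map_mul]
    rcases mul_eq_zero.1 hr with hp | hq
    · rw [hp, zero_mul, eq_comm, mul_eq_zero, mul_eq_zero] at h
      rcases h with (h | h) | h
      · exact absurd h hc0
      · rw [h, zero_mul]
      · exact absurd h (hne r hp)
    · rw [hq, mul_zero, mul_eq_zero] at h
      rcases h with h | h
      · exact absurd hq (hne r h)
      · rw [h, mul_zero]
  have hralg : IsAlgebraic k r := ⟨P * Q, mul_ne_zero hP0 hQ0, by rwa [map_mul]⟩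
  let E := algebraicClosure k Ω
  let rE : E := ⟨r, mem_algebraicClosure_iff.2 hralg⟩
  let YE : E := ⟨Y, mem_algebraicClosure_iff.2 hYalg⟩
  have hYE : YE ≠ 0 := by
    intro h0
    have h0' : Y = 0 := congrArg Subtype.val h0
    rw [h0', mul_zero, add_zero] at hY
    exact hx (hY ▸ hralg)
  have hxE : Function.Injective (aeval (R := E) x) := by
    have : Algebra.IsAlgebraic k E := algebraicClosure.isAlgebraic k Ω
    exact transcendental_iff_injective.1 fun h => hx (h.restrictScalars k)
  let PE := P.map (algebraMap k E)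
  let QE := Q.map (algebraMap k E)
  have hpoly : C YE * PE = QE * (C rE - Polynomial.X) := by
    apply hxE
    simp only [map_mul, map_sub, aeval_C, aeval_X, PE, QE, aeval_map_algebraMap]
    show Y * aeval x P = aeval x Q * (r - x)
    rw [← hc, ← hY]
    ring
  have hcopE : IsCoprime QE PE := (hcop.map (Polynomial.mapRingHom (algebraMap k E))).symm
  have hdvd : QE ∣ C YE := hcopE.dvd_of_dvd_mul_right ⟨_, hpoly⟩
  have hQd : Q.natDegree = 0 := by
    have := natDegree_le_of_dvd hdvd (C_ne_zero.2 hYE)
    rw [natDegree_C, natDegree_map] at this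
    omega
  refine ⟨hQd, ?_⟩
  have h1 : PE.natDegree ≤ 1 := by
    rw [← natDegree_C_mul hYE, hpoly]
    refine (natDegree_mul_le).trans ?_
    rw [natDegree_map, hQd, zero_add]
    exact (natDegree_sub_le _ _).trans (by simp)
  rwa [natDegree_map] at h1


/-- Let k be a field and F ∈ k(X) a rational function whose denominator does not vanish at 0 and with
F(0) = 1. Suppose that in the field of fractions L of k[X₀, X₁] one has F(X₀ + X₁ · F(X₀)) = F(X₀) ·
F(X₁) (the functional equation F(x + y F(x)) = F(x) F(y)). Then there is a ∈ k with F = 1 + a X.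
(The published statement takes the identity on an open neighbourhood of the origin of 𝔾_a × 𝔾_a on
which all terms are defined; this row takes it as an identity of rational functions in two
variables.) -/
theorem result (k : Type) [Field k] (F : RatFunc k)
    (h0 : F.denom.eval 0 ≠ 0) (h1 : F.num.eval 0 = F.denom.eval 0)
    (hFE : RatFunc.eval (algebraMap k (FractionRing (MvPolynomial (Fin 2) k)))
        (algebraMap (MvPolynomial (Fin 2) k) (FractionRing (MvPolynomial (Fin 2) k)) (MvPolynomial.X 0) +
          algebraMap (MvPolynomial (Fin 2) k) (FractionRing (MvPolynomial (Fin 2) k)) (MvPolynomial.X 1) *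
            RatFunc.eval (algebraMap k (FractionRing (MvPolynomial (Fin 2) k)))
              (algebraMap (MvPolynomial (Fin 2) k) (FractionRing (MvPolynomial (Fin 2) k)) (MvPolynomial.X 0)) F) F =
      RatFunc.eval (algebraMap k (FractionRing (MvPolynomial (Fin 2) k)))
          (algebraMap (MvPolynomial (Fin 2) k) (FractionRing (MvPolynomial (Fin 2) k)) (MvPolynomial.X 0)) F *
        RatFunc.eval (algebraMap k (FractionRing (MvPolynomial (Fin 2) k)))
          (algebraMap (MvPolynomial (Fin 2) k) (FractionRing (MvPolynomial (Fin 2) k)) (MvPolynomial.X 1)) F) :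
    ∃ a : k, F = 1 + RatFunc.C a * RatFunc.X := by
  classical
  obtain ⟨P, hP⟩ : ∃ P, F.num = P := ⟨_, rfl⟩
  obtain ⟨Q, hQ⟩ : ∃ Q, F.denom = Q := ⟨_, rfl⟩
  rw [hQ] at h0 h1
  rw [hP] at h1
  have hQ0 : Q ≠ 0 := fun h => h0 (by rw [h, eval_zero])
  have hP0 : P ≠ 0 := fun h => h0 (by rw [← h1, h, eval_zero])
  let K := RatFunc k
  let Ω := AlgebraicClosure K
  let x : Ω := algebraMap K Ω RatFunc.X
  let c : Ω := algebraMap K Ω F
  have hxtK : Transcendental k (RatFunc.X : K) := by
    rw [← RatFunc.algebraMap_X, transcendental_algebraMap_iff (RatFunc.algebraMap_injective k)]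
    exact transcendental_X k
  have hxt : Transcendental k x :=
    (transcendental_algebraMap_iff (algebraMap K Ω).injective).2 hxtK
  have hF : F * aeval (RatFunc.X : K) Q = aeval (RatFunc.X : K) P := by
    rw [← RatFunc.algebraMap_X, aeval_algebraMap_apply, aeval_algebraMap_apply, aeval_X_left_apply,
      aeval_X_left_apply, ← hP, ← hQ]
    conv_lhs => arg 1; rw [← RatFunc.num_div_denom F]
    rw [div_mul_cancel₀ _ (RatFunc.algebraMap_ne_zero (F.denom_ne_zero))]
  have hF0 : F ≠ 0 := by
    rintro rfl
    exact hP0 (hP ▸ RatFunc.num_zero)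
  have hQX : aeval (RatFunc.X : K) Q ≠ 0 := fun h => hxtK ⟨Q, hQ0, h⟩
  have hc0 : c ≠ 0 := (_root_.map_ne_zero _).2 hF0
  have hc : c * aeval x Q = aeval x P := by
    rw [aeval_algebraMap_apply, aeval_algebraMap_apply, ← map_mul, hF]
  -- the polynomial identity over `K`
  let ℓ : K[X] := C (RatFunc.X : K) + C F * Polynomial.X
  have hid : (P.map (algebraMap k K)).comp ℓ * Q.map (algebraMap k K) =
      C F * P.map (algebraMap k K) * (Q.map (algebraMap k K)).comp ℓ := by
    let L' := RatFunc K
    let g : MvPolynomial (Fin 2) k →ₐ[k] L' :=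
      MvPolynomial.aeval ![algebraMap K L' RatFunc.X, RatFunc.X]
    have hg : Function.Injective g := by
      have e : g = ((IsScalarTower.toAlgHom k K[X] L').comp
          ((Polynomial.mapAlgHom (IsScalarTower.toAlgHom k k[X] K)).comp
            ((Polynomial.mapAlgHom ((MvPolynomial.pUnitAlgEquiv k).toAlgHom.comp
              (MvPolynomial.rename (fun _ : Fin 1 => PUnit.unit.{1})))).comp
              ((MvPolynomial.finSuccEquiv k 1).toAlgHom.comp
                (MvPolynomial.rename ![1, 0]))))) := by
        have h1s : MvPolynomial.finSuccEquiv k 1 (MvPolynomial.X 1) = C (MvPolynomial.X 0) :=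
          MvPolynomial.finSuccEquiv_X_succ (j := 0)
        refine MvPolynomial.algHom_ext fun i => ?_
        fin_cases i
        · simp [g, h1s]
          rw [RatFunc.algebraMap_X, IsScalarTower.algebraMap_apply K K[X] L', Polynomial.algebraMap_eq]
        · simp [g, MvPolynomial.finSuccEquiv_X_zero]
          exact (RatFunc.algebraMap_X).symm
      rw [e]
      simp only [AlgHom.coe_comp]
      refine (RatFunc.algebraMap_injective K).comp ((Polynomial.map_injective _ (RatFunc.algebraMap_injective k)).comp
        ((Polynomial.map_injective _ ?_).comp ((MvPolynomial.finSuccEquiv k 1).injective.comp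
          (MvPolynomial.rename_injective _ ?_))))
      · exact (MvPolynomial.pUnitAlgEquiv k).injective.comp
          (MvPolynomial.rename_injective _ (fun a b _ => Subsingleton.elim a b))
      · decide
    let ψ : FractionRing (MvPolynomial (Fin 2) k) →ₐ[k] L' := IsFractionRing.liftAlgHom hg
    have hψ : ∀ a, ψ (algebraMap _ _ a) = g a := fun a => by
      simp only [ψ, IsFractionRing.coe_liftAlgHom]
      exact IsFractionRing.lift_algebraMap hg a
    let Ev : L' → L' := fun a => aeval a P / aeval a Q
    have hev : ∀ a, ψ (RatFunc.eval (algebraMap k _) a F) = Ev (ψ a) := by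
      intro a
      rw [RatFunc.eval, map_div₀, hP, hQ, ← aeval_def, ← aeval_def, ← aeval_algHom_apply, ← aeval_algHom_apply]
    have h := congrArg ψ hFE
    simp only [map_add, map_mul, hev, hψ, g, MvPolynomial.aeval_X, Matrix.cons_val_zero, Matrix.cons_val_one] at h
    have hEx : Ev (algebraMap K L' RatFunc.X) = algebraMap K L' F := by
      simp only [Ev]
      rw [aeval_algebraMap_apply, aeval_algebraMap_apply, ← map_div₀, ← hF, mul_div_cancel_right₀ _ hQX]
    rw [hEx] at h
    have hl : ∀ q : k[X], aeval (algebraMap K L' RatFunc.X + RatFunc.X * algebraMap K L' F) q =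
        algebraMap K[X] L' ((q.map (algebraMap k K)).comp ℓ) := by
      intro q
      rw [comp_eq_aeval, aeval_map_algebraMap, ← IsScalarTower.toAlgHom_apply k K[X] L', ← aeval_algHom_apply]
      congr 2
      simp only [ℓ, IsScalarTower.toAlgHom_apply, map_add, map_mul, RatFunc.algebraMap_X, RatFunc.algebraMap_C]
      rw [← Polynomial.algebraMap_eq, ← IsScalarTower.algebraMap_apply, ← IsScalarTower.algebraMap_apply, RatFunc.algebraMap_X,
        mul_comm (RatFunc.X : L')]
    have hy : ∀ q : k[X], aeval (RatFunc.X : L') q = algebraMap K[X] L' (q.map (algebraMap k K)) := by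
      intro q
      rw [← RatFunc.algebraMap_X, aeval_algebraMap_apply]
      rw [← aeval_map_algebraMap K, aeval_X_left_apply]
    have hℓ : ∀ q : k[X], q ≠ 0 → (q.map (algebraMap k K)).comp ℓ ≠ 0 := by
      intro q hq h0
      have hd : ℓ.natDegree = 1 := by
        simp only [ℓ]
        rw [natDegree_C_add, natDegree_C_mul_X _ hF0]
      rcases comp_eq_zero_iff.1 h0 with h0 | ⟨_, h0⟩
      · exact hq ((Polynomial.map_eq_zero _).1 h0)
      · rw [h0, natDegree_C] at hd; exact zero_ne_one hd
    simp only [Ev, hl, hy] at h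
    rw [mul_div_assoc', div_eq_div_iff ((map_ne_zero_iff _ (RatFunc.algebraMap_injective K)).2 (hℓ Q hQ0))
      ((map_ne_zero_iff _ (RatFunc.algebraMap_injective K)).2 ((Polynomial.map_ne_zero_iff (algebraMap k K).injective).2 hQ0)),
      IsScalarTower.algebraMap_apply K K[X] L', ← map_mul, ← map_mul, ← map_mul] at h
    rw [RatFunc.algebraMap_injective K h, Polynomial.algebraMap_eq, mul_assoc]
  have hid' : ∀ Y : Ω, aeval (x + c * Y) P * aeval Y Q = c * aeval Y P * aeval (x + c * Y) Q := by
    intro Y
    have := congrArg (aeval Y) hid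
    simpa [ℓ, x, c, aeval_comp, aeval_map_algebraMap] using this
  obtain ⟨hQd, hPd⟩ := eq_linear P Q (hP ▸ hQ ▸ RatFunc.isCoprime_num_denom F) hP0 hQ0 x c hxt hc hc0 hid'
  refine ⟨P.coeff 1 / Q.coeff 0, ?_⟩
  have hq : Q.coeff 0 ≠ 0 := by rwa [coeff_zero_eq_eval_zero]
  have hPe := eq_X_add_C_of_natDegree_le_one hPd
  have hQe := eq_C_of_natDegree_eq_zero hQd
  rw [← RatFunc.num_div_denom F, hP, hQ, hPe, coeff_zero_eq_eval_zero P, h1, ← coeff_zero_eq_eval_zero]
  conv_lhs => arg 2; rw [hQe]
  rw [map_add, map_mul, RatFunc.algebraMap_C, RatFunc.algebraMap_C, RatFunc.algebraMap_X,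
    add_div, div_self (by rwa [ne_eq, map_eq_zero]), map_div₀, div_mul_eq_mul_div, add_comm]
  simp


end Groth.Agent.S8471
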