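import Groth.Statements.S8472
import Groth.Agent.BruhatLib.System

set_option autoImplicit false
set_option backward.isDefEq.respectTransparency false
set_option maxHeartbeats 1000000
set_option synthInstance.maxHeartbeats 400000
universe u
open CategoryTheory MonoidalCategory CartesianMonoidalCategory MonObj GrpObj AlgebraicGeometry CategoryTheory.Limits
open Red

attribute [-instance] CategoryTheory.Hom.commGroup

namespace Groth.Agent.S8472

/-- Existence of a Chevalley system extending a pinning: at the level of root groups. Let G be a pinned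
reductive S-group: a splitting D (maximal torus T ≅ D_S(M), root datum with root homomorphisms u_c :
𝔾_a ⟶ G for all roots c, system of simple roots Δ) such that for every simple root a the root
homomorphisms of a and -a are dual to each other: u_a(x) u_{-a}(y) = u_{-a}(y/(1+xy)) · a^∨(1+xy) ·
u_a(x/(1+xy)) whenever 1 + xy is invertible, where a^∨ : 𝔾_m ⟶ T is the coroot of a read through the
splitting. For a root a put w_a = u_a(1) u_{-a}(-1) u_a(1) (an S-point of G). Then the pinning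
extends to a Chevalley system: there is a family (v_c)_{c} of root homomorphisms v_c : 𝔾_a ⟶ G, one
for each root c, normalised by T through the character of c, with v_a = u_a for every simple root a,
such that every v_c admits a dual root homomorphism v_c⁻ (v_c(x) v_c⁻(y) = v_c⁻(y/(1+xy)) c^∨(1+xy)
v_c(x/(1+xy)) for 1 + xy invertible) for which, writing n_c = v_c(1) v_c⁻(1)⁻¹ v_c(1), one has for
every root b a sign ε ∈ {1, -1} with n_c v_b(x) n_c⁻¹ = v_{s_c(b)}(ε x) for all points x of 𝔾_a. -/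
theorem result (S : Scheme.{u}) (e₁ : 𝟙_ (Over S) ⟶ Red.Ga S) (he₁ : Red.gaFn e₁ = 1)
    (G : Over S) [GrpObj G] (D : Red.Pinning G)
    (avc : D.idx → (Red.Gm S ⟶ D.T))
    (havc : ∀ a, avc a = Red.DSmap S (D.P.coroot a).toAddMonoidHom ≫ D.split.inv.hom.hom)
    (hpair : ∀ a ∈ D.base.support, ∀ (X : Over S) (x y : X ⟶ Red.Ga S), IsUnit (1 + Red.gaFn x * Red.gaFn y) →
        ∃ (x' y' : X ⟶ Red.Ga S) (z : X ⟶ Red.Gm S), Red.gmFn z = 1 + Red.gaFn x * Red.gaFn y ∧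
          Red.gaFn x' * Red.gmFn z = Red.gaFn x ∧ Red.gaFn y' * Red.gmFn z = Red.gaFn y ∧
          (x ≫ D.u a) * (y ≫ D.u (D.P.reflectionPerm a a)) = (y' ≫ D.u (D.P.reflectionPerm a a)) * (z ≫ avc a ≫ D.i) * (x' ≫ D.u a)) :
    ∃ v : D.idx → (Red.Ga S ⟶ G),
      (∀ c, Red.IsRootHom D.i (D.split.hom.hom.hom ≫ Red.chi S (D.P.root c)) (v c)) ∧
      (∀ a ∈ D.base.support, v a = D.u a) ∧
      ∀ c, ∃ vd : Red.Ga S ⟶ G, IsMonHom vd ∧
        (∀ (X : Over S) (x y : X ⟶ Red.Ga S), IsUnit (1 + Red.gaFn x * Red.gaFn y) →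
        ∃ (x' y' : X ⟶ Red.Ga S) (z : X ⟶ Red.Gm S), Red.gmFn z = 1 + Red.gaFn x * Red.gaFn y ∧
          Red.gaFn x' * Red.gmFn z = Red.gaFn x ∧ Red.gaFn y' * Red.gmFn z = Red.gaFn y ∧
          (x ≫ v c) * (y ≫ vd) = (y' ≫ vd) * (z ≫ avc c ≫ D.i) * (x' ≫ v c)) ∧
        ∀ b, ∃ ε : ℤ, (ε = 1 ∨ ε = -1) ∧ ∀ (X : Over S) (x y : X ⟶ Red.Ga S), Red.gaFn y = (ε : Γ(X.left, ⊤)) * Red.gaFn x →
          (toUnit X ≫ ((e₁ ≫ v c) * (e₁ ≫ vd)⁻¹ * (e₁ ≫ v c))) * (x ≫ v b) *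
              (toUnit X ≫ ((e₁ ≫ v c) * (e₁ ≫ vd)⁻¹ * (e₁ ≫ v c)))⁻¹ = y ≫ v (D.P.reflectionPerm c b) := by
  by_cases hS : Nonempty S
  · haveI := hS
    obtain ⟨nr, hf, -⟩ := Bruhat.exists_pinFam D he₁ avc havc hpair _ fun a => rfl
    obtain ⟨v, h1, h2, h3⟩ := hf.exists_system havc
    refine ⟨v, h1, h2, fun c => ?_⟩
    obtain ⟨vd, g1, g2, g3⟩ := h3 c
    refine ⟨vd, g1, g2, fun b => ?_⟩
    obtain ⟨ε, hε, hb⟩ := g3 b
    refine ⟨ε, hε, fun X x y hy => ?_⟩
    rw [Groth.Agent.RankOne.eq_ptOf e₁ he₁, hb X x]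
    haveI : IsMonHom (v (D.P.reflectionPerm c b)) := (h1 _).1
    rcases hε with rfl | rfl
    · rw [Int.cast_one, _root_.one_mul] at hy
      rw [zpow_one, Groth.Agent.GaPts.gaFn_injective hy]
    · rw [Int.cast_neg, Int.cast_one, neg_one_mul] at hy
      rw [zpow_neg_one, Groth.Agent.RankOne.eq_ptOf y hy, Bruhat.ptOf_neg, GrpObj.inv_comp,
        ← Groth.Agent.RankOne.eq_ptOf x rfl]
  · have hh : ∀ {X Y : Over S} (f g : X ⟶ Y), f = g := fun f g => Bruhat.over_hom_eq hS f g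
    refine ⟨D.u, D.rootHom, fun a _ => rfl, fun c => ⟨D.u c, (D.rootHom c).1, fun X x y _ => ?_, fun b => ?_⟩⟩
    · have hX : ∀ r s : Γ(X.left, ⊤), r = s := fun r s => by
        rw [← Groth.Agent.GaPts.gaFn_ptOf (S := S) r, hh (Groth.Agent.GaPts.ptOf r) (Groth.Agent.GaPts.ptOf s),
          Groth.Agent.GaPts.gaFn_ptOf]
      exact ⟨x, y, GmPts.ptOfUnit 1, hX _ _, hX _ _, hX _ _, hh _ _⟩
    · exact ⟨1, Or.inl rfl, fun X x y _ => hh _ _⟩

end Groth.Agent.S8472
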