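import Groth.Statements.S8487
import Groth.Agent.BigCellLib.Coroot
-- import your own Groth.Agent.* helpers here

set_option autoImplicit false
universe u
open CategoryTheory MonoidalCategory CartesianMonoidalCategory MonObj GrpObj AlgebraicGeometry CategoryTheory.Limits
open Red

namespace Groth.Agent.S8487

/-- Let G be a reductive S-group, i : T ⟶ G a maximal torus, α a character of T non-trivial on every
geometric fibre, p₊, p₋ : 𝔾_a ⟶ G monomorphisms of groups normalised by T with multipliers α and α⁻¹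
whose cell map (y, t, x) ↦ p₋(y) i(t) p₊(x) is an open immersion 𝔾_a ×_S T ×_S 𝔾_a ⟶ G, and α^* :
𝔾_m ⟶ T the coroot: α ∘ α^* is the squaring map and p₊(x) p₋(y) = p₋(y/(1+xy)) · i(α^*(1+xy)) ·
p₊(x/(1+xy)) whenever 1 + xy is invertible (so p₊ and p₋ are dual to each other). Let n be a
non-zero integer and w an S-point of G such that w · i(α^*(z))^n · w⁻¹ = i(α^*(z))^{-n} for all
points z of 𝔾_m (after base change). Then w is a point of N^× = Norm_G(T) − T: it normalises T, with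
w i(t) w⁻¹ = i(α^*(α(t)))⁻¹ i(t) for all points t of T, and for no geometric point s̄ of S does
w(s̄) lie in T. (The published statement is an equivalence; this row states only this implication.) -/
theorem result (S : Scheme.{u}) (G T : Over S) [GrpObj G] [GrpObj T] (i : T ⟶ G) [IsMonHom i] [Mono i] (hG : Red.IsReductive G) (hTm : Red.IsMaximalTorus i)
    (α : T ⟶ Red.Gm S) [IsMonHom α] (hα : ∀ s : S, (Over.pullback (Red.geomPt s)).map α ≠ 1)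
    (pp pm : Red.Ga S ⟶ G) [IsMonHom pp] [Mono pp] [IsMonHom pm] [Mono pm]
    (hpp : ∀ (X : Over S) (t : X ⟶ T) (x : X ⟶ Red.Ga S), ∃ x' : X ⟶ Red.Ga S,
      x' ≫ pp = (t ≫ i) * (x ≫ pp) * (t ≫ i)⁻¹ ∧ Red.gaFn x' = Red.gmFn (t ≫ α) * Red.gaFn x)
    (hpm : ∀ (X : Over S) (t : X ⟶ T) (y : X ⟶ Red.Ga S), ∃ y' : X ⟶ Red.Ga S,
      y' ≫ pm = (t ≫ i) * (y ≫ pm) * (t ≫ i)⁻¹ ∧ Red.gaFn y' * Red.gmFn (t ≫ α) = Red.gaFn y)
    (hΩ : IsOpenImmersion (((pm ⊗ₘ i) ⊗ₘ pp) ≫ (μ[G] ▷ G) ≫ μ[G]).left)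
    (av : Red.Gm S ⟶ T) [IsMonHom av] (h2 : av ≫ α = (𝟙 (Red.Gm S)) ^ 2)
    (hF : ∀ (X : Over S) (x y : X ⟶ Red.Ga S), IsUnit (1 + Red.gaFn x * Red.gaFn y) →
      ∃ (x' y' : X ⟶ Red.Ga S) (z : X ⟶ Red.Gm S), Red.gmFn z = 1 + Red.gaFn x * Red.gaFn y ∧
        Red.gaFn x' * Red.gmFn z = Red.gaFn x ∧ Red.gaFn y' * Red.gmFn z = Red.gaFn y ∧
        (x ≫ pp) * (y ≫ pm) = (y' ≫ pm) * (z ≫ av ≫ i) * (x' ≫ pp))
    (n : ℤ) (hn : n ≠ 0) (w : 𝟙_ (Over S) ⟶ G)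
    (hw : ∀ (X : Over S) (z : X ⟶ Red.Gm S),
      (toUnit X ≫ w) * (((z ≫ av) ^ n) ≫ i) * (toUnit X ≫ w)⁻¹ = ((((z ≫ av) ^ n) ≫ i))⁻¹) :
    (∀ (X : Over S) (t : X ⟶ T), (toUnit X ≫ w) * (t ≫ i) * (toUnit X ≫ w)⁻¹ = (t ≫ α ≫ av ≫ i)⁻¹ * (t ≫ i)) ∧
      ∀ s : S, ¬ ∃ t : Over.mk (Red.geomPt s) ⟶ T, t ≫ i = toUnit (Over.mk (Red.geomPt s)) ≫ w := by
  have st : BigCell.Sys1 i α pp pm av :=
    ⟨⟨inferInstance, inferInstance, inferInstance, inferInstance, hpp, hpm, hΩ⟩, inferInstance, h2, hF⟩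
  have hC := BigCell.conn_of_isReductive hG
  have hT := hTm.2.2.1
  have hwX : ∀ (X : Over S), ∀ (X' : Over S) (π : X' ⟶ X) (z : (Γ(X'.left, ⊤))ˣ),
      (π ≫ toUnit X ≫ w) * (st.D X').h (z ^ n) * (π ≫ toUnit X ≫ w)⁻¹ = ((st.D X').h (z ^ n))⁻¹ := fun X X' π z => by
    have h1 := hw X' (GmPts.ptOfUnit z)
    rwa [st.h_zpow, GmPts.unitOfPt_ptOfUnit, ← comp_toUnit π, Category.assoc] at h1
  refine ⟨fun X t => ?_, fun s => ?_⟩
  · obtain ⟨t', ht'⟩ := st.exists_w_mul hC hT hα n hn (toUnit X ≫ w) (hwX X)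
    have h1 := (st.D X).w_conj t 1
    have h3 : (t' ≫ i) * (t ≫ i) * (t' ≫ i)⁻¹ = t ≫ i := by
      rw [← MonObj.mul_comp, BigCell.torus_comm hT, MonObj.mul_comp, mul_inv_cancel_right]
    have h4 : ((st.D X).h ((st.D X).a t))⁻¹ * (st.D X).tor t = (t ≫ α ≫ av ≫ i)⁻¹ * (t ≫ i) := by
      have h5 : (st.D X).h ((st.D X).a t) = t ≫ α ≫ av ≫ i := by
        show (GmPts.ptOfUnit (GmPts.unitOfPt (t ≫ α)) ≫ av) ≫ i = _
        rw [GmPts.ptOfUnit_unitOfPt]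
        simp only [Category.assoc]
      rw [h5]
      rfl
    rw [← h4, ← h1, ht']
    show _ = (st.D X).w 1 * (t ≫ i) * ((st.D X).w 1)⁻¹
    conv_rhs => rw [← h3]
    group
  · rintro ⟨t, ht⟩
    let X := Over.mk (Red.geomPt s)
    obtain ⟨z, hz⟩ := BigCell.exists_unit_pow_ne_one (Red.geomPt s) (n := 4 * n.natAbs) (by simpa using hn)
    have h1 := hwX X X (𝟙 X) z
    rw [Category.id_comp, ← ht] at h1
    have h2 : (st.D X).h (z ^ n) = (st.D X).c (z ^ n) ≫ i := rfl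
    rw [h2, ← MonObj.mul_comp, BigCell.torus_comm hT t, MonObj.mul_comp, mul_inv_cancel_right,
      ← GrpObj.inv_comp] at h1
    have h3 := st.sys.tor_inj h1
    rw [← map_inv] at h3
    have h4 : (st.D X).c ((z ^ n) ^ 2) = 1 := by
      rw [pow_two, map_mul]
      nth_rw 2 [h3]
      rw [← map_mul, mul_inv_cancel, map_one]
    have h5 := st.unit_sq_of_c_eq_one h4
    rw [← pow_mul] at h5
    refine hz ?_
    obtain hs | hs := n.natAbs_eq
    · rw [hs, zpow_natCast, ← pow_mul] at h5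
      rw [mul_comm 4]
      exact h5
    · rw [hs, zpow_neg, zpow_natCast, inv_pow, inv_eq_one, ← pow_mul] at h5
      rw [mul_comm 4]
      exact h5

end Groth.Agent.S8487
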