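import Groth.Statements.S8489
import Groth.Agent.BigCellLib.Root
import Groth.Agent.BigCellLib.Coroot
-- import your own Groth.Agent.* helpers here

set_option autoImplicit false
universe u
open CategoryTheory MonoidalCategory CartesianMonoidalCategory MonObj GrpObj AlgebraicGeometry CategoryTheory.Limits
open Red

namespace Groth.Agent.S8489

/-- At the level of root homomorphisms. Let G be a reductive S-group, i : T ⟶ G a maximal torus, α a
character of T non-trivial on every geometric fibre, and p₊, p₋ : 𝔾_a ⟶ G monomorphisms of groups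
normalised by T with multipliers α and α⁻¹ such that 𝔾_a ×_S T ×_S 𝔾_a ⟶ G, (y, t, x) ↦ p₋(y) i(t)
p₊(x), is an open immersion (a rank-one system: G has semisimple rank 1 and p₊, p₋ trivialise the
root groups of α and -α). Then every monomorphism of groups p : 𝔾_a ⟶ G normalised by T with
multiplier α is a rescaling of p₊ by a unit: there is exactly one S-point c of 𝔾_m with p(x) = p₊(c
x) for all points x of 𝔾_a. (The published statement is a bijection between the nowhere-vanishing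
sections of the root line bundle and such monomorphisms; this row states it after fixing p₊.) -/
theorem result (S : Scheme.{u}) (G T : Over S) [GrpObj G] [GrpObj T] (i : T ⟶ G) [IsMonHom i] [Mono i] (hG : Red.IsReductive G) (hTm : Red.IsMaximalTorus i)
    (α : T ⟶ Red.Gm S) [IsMonHom α] (hα : ∀ s : S, (Over.pullback (Red.geomPt s)).map α ≠ 1)
    (pp pm : Red.Ga S ⟶ G) [IsMonHom pp] [Mono pp] [IsMonHom pm] [Mono pm]
    (hpp : ∀ (X : Over S) (t : X ⟶ T) (x : X ⟶ Red.Ga S), ∃ x' : X ⟶ Red.Ga S,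
      x' ≫ pp = (t ≫ i) * (x ≫ pp) * (t ≫ i)⁻¹ ∧ Red.gaFn x' = Red.gmFn (t ≫ α) * Red.gaFn x)
    (hpm : ∀ (X : Over S) (t : X ⟶ T) (y : X ⟶ Red.Ga S), ∃ y' : X ⟶ Red.Ga S,
      y' ≫ pm = (t ≫ i) * (y ≫ pm) * (t ≫ i)⁻¹ ∧ Red.gaFn y' * Red.gmFn (t ≫ α) = Red.gaFn y)
    (hΩ : IsOpenImmersion (((pm ⊗ₘ i) ⊗ₘ pp) ≫ (μ[G] ▷ G) ≫ μ[G]).left)
    (p : Red.Ga S ⟶ G) [IsMonHom p] [Mono p]
    (hp : ∀ (X : Over S) (t : X ⟶ T) (x : X ⟶ Red.Ga S), ∃ x' : X ⟶ Red.Ga S,
      x' ≫ p = (t ≫ i) * (x ≫ p) * (t ≫ i)⁻¹ ∧ Red.gaFn x' = Red.gmFn (t ≫ α) * Red.gaFn x) :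
    ∃! c : 𝟙_ (Over S) ⟶ Red.Gm S, ∀ (X : Over S) (x y : X ⟶ Red.Ga S),
      Red.gaFn y = Red.gmFn (toUnit X ≫ c) * Red.gaFn x → x ≫ p = y ≫ pp := by
  have st : BigCell.Sys i α pp pm := ⟨inferInstance, inferInstance, inferInstance, inferInstance, hpp, hpm, hΩ⟩
  have hT := hTm.2.2.1
  have hc := fun (Y : Over S) (a b : Y ⟶ T) => BigCell.torus_comm hT a b
  obtain ⟨ν, hν⟩ := st.exists_coeff_of_weight (β := α) (p := p) (q := 1) hc hT hα fun X t c => by
    refine ⟨t, (pow_one _).symm, ?_⟩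
    obtain ⟨x', h1, h2⟩ := hp X t (GaPts.ptOf c)
    rw [GaPts.gaFn_ptOf] at h2
    exact h1.symm.trans (BigCell.rt_eq p x' h2)
  have hu : IsUnit ν := BigCell.isUnit_of_field ν fun K _ _ a π h0 => by
    have h1 := hν (BigCell.fieldPt K a) 1
    rw [show BigCell.pull (BigCell.fieldPt K a) ν = 0 by rw [BigCell.pull, ← toUnit_unique π (toUnit _)]; exact h0,
      zero_mul, BigCell.rt_zero, ← BigCell.rt_zero p] at h1
    have h2 := congrArg Red.gaFn ((cancel_mono p).1 h1)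
    rw [GaPts.gaFn_ptOf, GaPts.gaFn_ptOf] at h2
    haveI : Nontrivial Γ((BigCell.fieldPt K a).left, ⊤) := (BigCell.fieldFn K a).toEquiv.nontrivial
    exact one_ne_zero h2
  refine ⟨GmPts.ptOfUnit hu.unit, fun X x y h => ?_, fun c hc' => ?_⟩
  · rw [BigCell.rt_eq pp y h, BigCell.rt_eq p x rfl, hν, pow_one, GmPts.gmFn_comp, GmPts.gmFn_ptOfUnit]
    rfl
  · refine GmPts.gmFn_injective ?_
    show Red.gmFn c = Red.gmFn _
    rw [GmPts.gmFn_ptOfUnit, IsUnit.unit_spec]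
    refine st.rt_pp_inj ?_
    have h1 := hc' (𝟙_ (Over S)) (GaPts.ptOf 1) (GaPts.ptOf (Red.gmFn c)) (by
      rw [GaPts.gaFn_ptOf, GaPts.gaFn_ptOf, _root_.mul_one, toUnit_unique (toUnit _) (𝟙 _), Category.id_comp])
    have h2 := hν (𝟙_ (Over S)) 1
    rw [one_pow, _root_.mul_one, BigCell.pull, toUnit_unique (toUnit _) (𝟙 _), Over.id_left,
      Scheme.Hom.id_appTop] at h2
    exact h1.symm.trans h2

end Groth.Agent.S8489
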