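import Groth.Statements.S8496
import Groth.Agent.S2762
import Groth.Agent.SubDescLib.Main

set_option autoImplicit false
set_option backward.isDefEq.respectTransparency false
set_option backward.isDefEq.respectTransparency.types false
set_option maxHeartbeats 1000000
set_option synthInstance.maxHeartbeats 400000
open CategoryTheory MonoidalCategory CartesianMonoidalCategory MonObj GrpObj AlgebraicGeometry
universe u
open Par

namespace Groth.Agent.S8496

/-- A morphism over the base is smooth as soon as it is so over a surjective base change. -/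
theorem smooth_of_bc {S : Scheme.{u}} {X Y : Over S} (m : X ⟶ Y) [LocallyOfFinitePresentation Y.hom]
    [LocallyOfFinitePresentation X.hom] [Flat X.hom] :
    (Smooth m.left ↔ ∀ s : S, Smooth ((Over.pullback (S.fromSpecResidueField s)).map m).left) ∧
    ∀ (S' : Scheme.{u}) (g : S' ⟶ S), Surjective g → Smooth ((Over.pullback g).map m).left → Smooth m.left := by
  have hmap : ∀ {T : Scheme.{u}} (c : T ⟶ S), Smooth m.left → Smooth ((Over.pullback c).map m).left := fun c h =>
    MorphismProperty.of_isPullback (P := @Smooth) (SubDesc.isPullback_map_left c m) h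
  have hfib : (∀ s : S, Smooth ((Over.pullback (S.fromSpecResidueField s)).map m).left) → Smooth m.left := by
    intro h
    refine (Groth.Agent.S2762.result Y.hom X.hom m.left (Over.w m)).2 fun s => ?_
    let sq := (SubDesc.isPullback_map_left (S.fromSpecResidueField s) m).flip.flip
    have e := sq.isoPullback_hom_snd
    haveI : Smooth (sq.isoPullback.hom ≫ Limits.pullback.snd m.left (Limits.pullback.fst Y.hom (S.fromSpecResidueField s))) := by
      rw [e]; exact h s
    exact (MorphismProperty.cancel_left_of_respectsIso @Smooth sq.isoPullback.hom _).1 ‹_›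
  refine ⟨⟨fun h s => hmap _ h, hfib⟩, fun S' g hg h => hfib fun s => ?_⟩
  haveI := hg
  obtain ⟨s', rfl⟩ := g.surjective s
  let c := S.fromSpecResidueField (g.base s')
  let d : Spec (S'.residueField s') ⟶ Spec (S.residueField (g.base s')) := Spec.map (g.residueFieldMap s')
  have hd : d ≫ c = S'.fromSpecResidueField s' ≫ g := g.SpecMap_residueFieldMap_fromSpecResidueField s'
  haveI : Flat d := by
    let φ := (g.residueFieldMap s').hom
    letI := φ.toAlgebra
    exact (HasRingHomProperty.Spec_iff (P := @Flat)).2 (RingHom.flat_algebraMap_iff.2 inferInstance)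
  haveI : Surjective d := ⟨fun x => ⟨IsLocalRing.closedPoint _, by
    haveI : Subsingleton ↥(Spec (S.residueField (g.base s'))) :=
      inferInstanceAs (Subsingleton (PrimeSpectrum (S.residueField (g.base s'))))
    exact Subsingleton.elim _ _⟩⟩
  let m' := (Over.pullback c).map m
  let e := S'.fromSpecResidueField s'
  haveI h1 : Smooth ((Over.pullback e).map ((Over.pullback g).map m)).left :=
    MorphismProperty.of_isPullback (P := @Smooth) (SubDesc.isPullback_map_left e _) h
  have n₁ := ActBC.bcCompIso_hom_naturality d c (hd : d ≫ c = e ≫ g) m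
  have n₂ := ActBC.bcCompIso_hom_naturality e g (rfl : e ≫ g = e ≫ g) m
  have h2 : Smooth ((Over.pullback d).map m').left := by
    have e2 : (Over.pullback d).map m' = (ActBC.bcCompIso d c X (hd : d ≫ c = e ≫ g)).hom ≫
        (ActBC.bcCompIso e g X rfl).inv ≫ (Over.pullback e).map ((Over.pullback g).map m) ≫
        (ActBC.bcCompIso e g Y rfl).hom ≫ (ActBC.bcCompIso d c Y (hd : d ≫ c = e ≫ g)).inv := by
      rw [reassoc_of% n₂, Iso.inv_hom_id_assoc, ← Category.assoc, ← n₁, Category.assoc, Iso.hom_inv_id,
        Category.comp_id]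
    rw [e2]
    haveI : ∀ {A B : Over (Spec (S'.residueField s'))} (w : A ≅ B), IsIso w.hom.left :=
      fun w => (Over.forget _).map_isIso w.hom
    haveI : ∀ {A B : Over (Spec (S'.residueField s'))} (w : A ≅ B), IsIso w.inv.left :=
      fun w => (Over.forget _).map_isIso w.inv
    simp only [Over.comp_left]
    infer_instance
  exact MorphismProperty.of_isPullback_of_descendsAlong (P := @Smooth) (Q := @Surjective ⊓ @Flat ⊓ @QuasiCompact)
    (SubDesc.isPullback_map_left d m').flip
    ⟨⟨MorphismProperty.pullback_fst (P := @Surjective) _ _ inferInstance,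
      MorphismProperty.pullback_fst (P := @Flat) _ _ inferInstance⟩,
      MorphismProperty.pullback_fst (P := @QuasiCompact) _ _ inferInstance⟩ h2



/-- Transversal position of a pair of parabolic subgroups is read here as smoothness of the
multiplication morphism P ×_S Q ⟶ G (one of its equivalent characterisations). Let G be a reductive
S-group and P, Q parabolic subgroups. Then (P, Q) is in transversal position if and only if (P_s,
Q_s) is for every point s of S; and if (P_{S'}, Q_{S'}) is in transversal position for some
surjective S' ⟶ S then so is (P, Q). -/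
theorem result {S : Scheme.{u}} {G P Q : Over S} [GrpObj G] [GrpObj P]
    [GrpObj Q] (hG : Red.IsReductive G) (p : P ⟶ G) (q : Q ⟶ G) (hP : Red.IsParabolic p) (hQ : Red.IsParabolic q) :
    (Smooth ((p ⊗ₘ q) ≫ μ[G]).left ↔
      ∀ s : S, Smooth ((Over.pullback (S.fromSpecResidueField s)).map ((p ⊗ₘ q) ≫ μ[G])).left) ∧
    ∀ (S' : Scheme.{u}) (g : S' ⟶ S), Surjective g →
      Smooth ((Over.pullback g).map ((p ⊗ₘ q) ≫ μ[G])).left → Smooth ((p ⊗ₘ q) ≫ μ[G]).left := by
  haveI := hG.2.1
  haveI := hP.2.2.1
  haveI := hQ.2.2.1
  haveI : Smooth (P ⊗ Q).hom := inferInstanceAs (Smooth (Limits.pullback.fst P.hom Q.hom ≫ P.hom))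
  exact smooth_of_bc ((p ⊗ₘ q) ≫ μ[G])

end Groth.Agent.S8496
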