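import Groth.Statements.S8503
import Groth.Agent.ParabIncLib.Main

set_option autoImplicit false
set_option backward.isDefEq.respectTransparency false
set_option backward.isDefEq.respectTransparency.types false
set_option maxHeartbeats 1000000
set_option synthInstance.maxHeartbeats 400000
open CategoryTheory MonoidalCategory CartesianMonoidalCategory MonObj GrpObj AlgebraicGeometry
universe u
open Par

attribute [-instance] CategoryTheory.Hom.commGroup
namespace Groth.Agent.S8503

/-- Let G be a reductive S-group, Q a parabolic subgroup of G, P and P' parabolic subgroups of G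
contained in Q, and g ∈ G(S) such that int(g)P and P' are in osculating position: their intersection
(a fibre product over G of the conjugate of P by g and of P', with its induced group structure) is a
parabolic subgroup of G. Then g ∈ Q(S). -/
theorem result {S : Scheme.{u}} {G Q P P' I : Over S} [GrpObj G] [GrpObj Q] [GrpObj P]
    [GrpObj P'] [GrpObj I] (hG : Red.IsReductive G) (q : Q ⟶ G) (hQ : Red.IsParabolic q)
    (pq : P ⟶ Q) (pq' : P' ⟶ Q) (hP : Red.IsParabolic (pq ≫ q)) (hP' : Red.IsParabolic (pq' ≫ q))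
    (g : 𝟙_ (Over S) ⟶ G) (m : I ⟶ P) (m' : I ⟶ P') [IsMonHom m']
    (hI : IsPullback m m' (AGF.conjBy g (pq ≫ q)) (pq' ≫ q)) (hosc : Red.IsParabolic (m' ≫ pq' ≫ q)) :
    ∃ x : 𝟙_ (Over S) ⟶ Q, x ≫ q = g := by
  haveI := hP.1; haveI := hP'.1
  haveI : IsMonHom (pq' ≫ q) := hP'.1
  haveI := hQ.1
  haveI : IsClosedImmersion q.left := hQ.2.1
  haveI : Mono q := DiagRep.mono_of_isClosedImmersion q inferInstance
  haveI : IsMonHom pq' := DiagRep.isMonHom_of_comp_mono pq' q
  haveI : Etale (𝟙_ (Over S)).hom := inferInstanceAs (Etale (𝟙 S))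
  obtain ⟨w, hw⟩ := ParabInc.mem_of_conj_sub hG q hQ (m' ≫ pq') (by rwa [Category.assoc]) g
    (snd (𝟙_ (Over S)) I ≫ m ≫ pq) (by
      have e : (m' ≫ pq') ≫ q = (toUnit I ≫ g) * (m ≫ pq ≫ q) * (toUnit I ≫ g)⁻¹ := by
        rw [Category.assoc, ← hI.w, AGF.conjBy, MonObj.comp_mul, MonObj.comp_mul, GrpObj.comp_inv, ← Category.assoc m,
          toUnit_unique (m ≫ toUnit P) (toUnit I)]
      rw [e, MonObj.comp_mul, MonObj.comp_mul, GrpObj.comp_inv, ← Category.assoc (snd (𝟙_ (Over S)) I) (toUnit I) g,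
        toUnit_unique (snd (𝟙_ (Over S)) I ≫ toUnit I) (fst (𝟙_ (Over S)) I), Category.assoc, Category.assoc]
      group)
  exact ⟨w, hw⟩

end Groth.Agent.S8503
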