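import Groth.Statements.S8504
import Groth.Agent.RedSymLib.ParabCells
import Groth.Agent.RedSymLib.ParabComb
import Groth.Agent.RedSymLib.BorelRoots
import Groth.Agent.BorelLib.ImageField
import Groth.Agent.BorelLib.Tori

set_option autoImplicit false
set_option linter.style.haveILetI false
set_option linter.unusedSectionVars false
set_option backward.isDefEq.respectTransparency false
set_option maxHeartbeats 1000000
set_option synthInstance.maxHeartbeats 400000
open CategoryTheory MonoidalCategory CartesianMonoidalCategory MonObj GrpObj AlgebraicGeometry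
universe u
open Par

attribute [-instance] CategoryTheory.Hom.commGroup

namespace Groth.Agent.S8504

open CategoryTheory.Limits SplitCell SplitFib RootSubgrp GaPts Groth.Agent.BorelLib
open CoactBr (sp)

attribute [local instance] pTop pTopTensor

/-- The roots of a parabolic subgroup containing the split torus contain one side. -/
theorem exists_sides_le {S : Scheme.{u}} {G P : Over S} [GrpObj G] [GrpObj P] (D : Red.SplitRed G) (p : P ⟶ G)
    (hP : Red.IsParabolic p) (t : D.T ⟶ P) (ht : t ≫ p = D.i)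
    (hconn : ∀ s : S, ConnectedSpace ↥(Red.geomFibre s P).left) (s : S) :
    ∃ σ : Sides D.P, σ.pos ⊆ rootsAt D p (Red.geomPt s) := by
  classical
  haveI : Nonempty ↥S := ⟨s⟩
  haveI := SplitFib.isReduced_root D
  haveI := hP.1; haveI := hP.2.1; haveI := hP.2.2.1
  obtain ⟨ha, hsm, A, iA, iA', v, hv, hA, hA', hc, hred, hT⟩ := exists_fibre D s
  haveI := ha; haveI := hsm; haveI := hv; haveI := hA; haveI := hA'
  let ξ := Red.geomPt s
  haveI := Groth.Agent.DiagRep.isMonHom_bc_map ξ p
  haveI := BorelLib.isClosedImmersion_bc ξ p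
  haveI : QuasiCompact (Red.bc ξ G).hom := inferInstance
  haveI : Smooth (Red.bc ξ P).hom := MorphismProperty.pullback_snd (P := @Smooth) _ _ inferInstance
  haveI : ConnectedSpace (Red.bc ξ P).left := hconn s
  set P' := ptsSub v ((Over.pullback ξ).map p)
  have hmem := fun x => mem_ptsSub_bc ξ v p x
  have hPc : IsClosed (P' : Set (Pt (AlgebraicClosure (S.residueField s)) A)) := isClosed_ptsSub v
  have hPconn : _root_.IsPreconnected (P' : Set (Pt (AlgebraicClosure (S.residueField s)) A)) := isPreconnected_ptsSub v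
  obtain ⟨hFm, hFc, hFs, B₀, hB₀i, b₀, hB₀⟩ := hP.2.2.2 s
  letI := hB₀i
  haveI : IsMonHom (b₀ ≫ (Over.pullback ξ).map p) := hB₀.1
  haveI : IsClosedImmersion (b₀ ≫ (Over.pullback ξ).map p).left := hB₀.2.1
  have hBor := isBor_ptsSub (iB := b₀ ≫ (Over.pullback ξ).map p) v hB₀
  have hB₀P : ptsSub v (b₀ ≫ (Over.pullback ξ).map p) ≤ P' :=
    ptsSub_le_of_factor v (f := b₀) rfl
  have hTP : Tsub D ξ v ≤ P' := by
    rintro _ ⟨τ, rfl⟩
    exact (hmem _).2 ⟨τ ≫ t, by rw [Category.assoc, ht]; rfl⟩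
  obtain ⟨Bu, hBu, -, huniv⟩ := IsBor.exists_conj_universal hPc hPconn
  obtain ⟨g, hg, hgle⟩ := huniv _ hB₀P hBor.conn hBor.sol
  have hgB := hBor.conjSub (Subgroup.mem_top g⁻¹)
  have hBu' : IsBor ⊤ Bu := (hgB.maximal Bu le_top hBu.closed hBu.conn hBu.sol hgle) ▸ hgB
  obtain ⟨h, hh, hhle⟩ := huniv _ hTP hT.tor.conn hT.tor.isSol
  have hB' := hBu'.conjSub (Subgroup.mem_top h)
  have hTB : Tsub D ξ v ≤ BorelLib.conjSub h Bu := by
    have := conjSub_mono (a := h) hhle
    rwa [conjSub_conjSub, mul_inv_cancel, conjSub_one] at this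
  obtain ⟨σ, hσ⟩ := exists_sides_of_sol D ξ v hB'.closed hTB hB'.conn hT hc hred hB'.sol
  refine ⟨σ, ?_⟩
  obtain ⟨n, m, eneg, epos, hneg, hpos⟩ := exists_enum D σ
  obtain ⟨Bp, hBp, hBiff⟩ := isBor_bplus (D := D) ξ v σ hc hred hT hpos
  have hTBp : Tsub D ξ v ≤ Bp := fun x ⟨τ, hτ⟩ => (hBiff x).2 ⟨τ, 0, by
    rw [uPe_zero, _root_.mul_one]; exact hτ.symm⟩
  have hpBp : σ.pos ⊆ rootsIn D ξ v Bp := fun k hk r => by
    obtain ⟨j, rfl⟩ := hpos.2.symm.subset hk
    exact (hBiff _).2 ⟨1, Pi.single j r, by rw [map_one, _root_.one_mul, uPe_single]⟩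
  have hle := le_of_rootsIn D ξ v hB'.closed hTB hB'.conn hTBp (hσ.trans hpBp)
  have he : Bp = BorelLib.conjSub h Bu := hB'.maximal Bp hBp.le hBp.closed hBp.conn hBp.sol hle
  rw [he] at hpBp
  exact fun k hk r => (hmem _).1 (conjSub_le hh hBu.le (hpBp hk r))


/-- (i) ⟹ (iii): Let S be a connected scheme, G a split reductive S-group with splitting D (maximal
torus T, roots indexed by D.idx, root homomorphisms u_a) and R' a set of roots. Suppose there is a
parabolic subgroup P of G containing T such that, for every root a, the root homomorphism u_a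
factors through P exactly when a ∈ R'. Then R' is a closed set of roots and every root lies in R' or
in −R'. (The published statement assumes S non-empty and phrases the hypothesis through the Lie
algebra of P; here S is taken connected and the hypothesis is phrased through the root subgroups
contained in P.) -/
theorem result {S : Scheme.{u}} [ConnectedSpace S]
    {G P : Over S} [GrpObj G] [GrpObj P] (D : Red.SplitRed G) (R' : Set D.idx) (p : P ⟶ G)
    (hP : Red.IsParabolic p) (tP : D.T ⟶ P) (htP : tP ≫ p = D.i)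
    (hR' : ∀ a : D.idx, (∃ v : Red.Ga S ⟶ P, v ≫ p = D.u a) ↔ a ∈ R') :
    (∀ a b c : D.idx, a ∈ R' → b ∈ R' → D.P.root a + D.P.root b = D.P.root c → c ∈ R') ∧
    (∀ a b : D.idx, D.P.root b = -D.P.root a → a ∈ R' ∨ b ∈ R') := by
  haveI : Nonempty ↥S := ConnectedSpace.toNonempty
  haveI := SplitFib.isReduced_root D
  haveI := hP.1; haveI := hP.2.1; haveI := hP.2.2.1
  haveI := D.reductive.1; haveI := D.reductive.2.1
  haveI : Mono p := DiagRep.mono_of_isClosedImmersion p inferInstance
  have hconn : ∀ s, ConnectedSpace ↥(Red.geomFibre s P).left := fun s => by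
    obtain ⟨haff, hsm, hc, -⟩ := D.reductive.2.2 s
    haveI := haff; haveI := hsm; haveI := hc
    obtain ⟨hFm, hFc, hFs, B₀, hB₀i, b₀, hB₀⟩ := hP.2.2.2 s
    haveI := hFm; haveI := hFc; haveI := hFs; letI := hB₀i
    exact (BorelLib.isNormalizerOf_parabolic (G := Red.geomFibre s G) (P := Red.geomFibre s P)
      (iP := (Over.pullback (Red.geomPt s)).map p) hB₀).1
  obtain ⟨R, hR, hiff⟩ := RootSubgrp.exists_roots D p tP htP hconn
  obtain rfl : R = R' := Set.ext fun a => (hiff a).trans (hR' a)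
  obtain ⟨s⟩ := (inferInstance : Nonempty ↥S)
  obtain ⟨σ, hσ⟩ := exists_sides_le D p hP tP htP hconn s
  rw [hR _ (Red.geomPt s)] at hσ
  obtain ⟨b, hb⟩ := exists_base_of_sides D σ
  have hpos : RedSub.posRoots D.P b ⊆ R := fun a ha => hσ ((σ.total a).resolve_right fun hn => by
    obtain ⟨g, hg1, hg2⟩ := (sidesOfBase D.P b).regular
    obtain ⟨g', hg'1, hg'2⟩ := σ.regular
    have hmem : D.P.reflectionPerm a a ∈ σ.pos := (σ.total _).resolve_right fun h => by
      have h1 := hg'2 _ h
      have h2 := hg'2 _ hn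
      rw [RootSubgrp.root_neg, map_neg] at h1
      omega
    have h1 := hg1 _ (hb hmem)
    have h2 := hg1 _ ha
    rw [RootSubgrp.root_neg, map_neg] at h1
    omega)
  have heq := RedSym.eq_parRoots D b hpos fun c hc hc' x hx => by
    obtain ⟨w, hw⟩ := (hiff c).1 hc
    obtain ⟨w', hw'⟩ := (hiff _).1 hc'
    obtain ⟨v, hv⟩ := (hiff x).1 hx
    obtain ⟨_, ⟨z, z', hr⟩, -⟩ := Bruhat.exists_rule' (D := D) c
    obtain ⟨r, hr'⟩ := RootSubgrp.exists_conj_scale (D := D) c x _ hr
    refine (hiff _).2 ⟨r ≫ ((toUnit _ ≫ ((z ≫ w) * (z' ≫ w') * (z ≫ w))) * v *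
      (toUnit _ ≫ ((z ≫ w) * (z' ≫ w') * (z ≫ w)))⁻¹), ?_⟩
    rw [hr']
    simp only [Category.assoc, MonObj.mul_comp, GrpObj.inv_comp, hw, hw', hv]
  refine ⟨fun a c d ha hc e => ?_, fun a c e => ?_⟩
  · rw [heq] at ha hc ⊢
    exact RedSym.par_closed D b (fun j hj => hj.1) ha hc e
  · have hc : c = D.P.reflectionPerm a a := D.P.root.injective (by rw [e, RootSubgrp.root_neg])
    rcases (sidesOfBase D.P b).total a with h | h
    · exact Or.inl (hpos h)
    · refine Or.inr (hc ▸ hpos ?_)
      show D.P.root (D.P.reflectionPerm a a) ∈ AddSubmonoid.closure (D.P.root '' (b.support : Set D.idx))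
      rw [RootSubgrp.root_neg]
      exact h

end Groth.Agent.S8504
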