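import Groth.Statements.S8508
import Groth.Agent.RedSymLib.PosGen
import Groth.Agent.RootSubgrpLib.LineChart
import Groth.Agent.RootSubgrpLib.LineCent

set_option autoImplicit false
set_option backward.isDefEq.respectTransparency false
set_option maxHeartbeats 1000000
set_option synthInstance.maxHeartbeats 400000
open CategoryTheory MonoidalCategory CartesianMonoidalCategory MonObj GrpObj AlgebraicGeometry
universe u
open RedSub

attribute [-instance] CategoryTheory.Hom.commGroup

open Groth.Agent.GaPts Groth.Agent SplitCell SplitFib RootSubgrp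
open Groth.Agent.RankOne (comp_ptOf eq_ptOf)

namespace Groth.Agent.S8508

/-- The unipotent part of the Borel subgroup of a pinned group is generated by the simple root
subgroups. Let G be a split reductive S-group with a pinning D (root homomorphisms u_a, base of
simple roots D.base) and H a subgroup scheme of G. If the root homomorphism u_a factors through H
for every simple root a, then u_b factors through H for every root b which is positive for the base.
(The published statement is about the sub-sheaf of groups generated for the fppf topology; this row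
is its consequence for subgroup schemes.) -/
theorem result {S : Scheme.{u}} {G H : Over S} [GrpObj G] [GrpObj H]
    (D : Red.Pinning G) (h : H ⟶ G) [IsMonHom h] [Mono h]
    (hsimple : ∀ a ∈ D.base.support, ∃ v : Red.Ga S ⟶ H, v ≫ h = D.u a) :
    ∀ b ∈ RedSub.posRoots D.P D.base, ∃ v : Red.Ga S ⟶ H, v ≫ h = D.u b := by
  intro c hc
  by_cases hS : Nonempty S
  · haveI := hS
    obtain ⟨v, hv, nr, hs, -, hf⟩ := Bruhat.exists_pinned D
    let P : RedSym.PtSys G := ⟨RedSym.ptsOf h, fun π hπ _ hg => by haveI := hπ; exact RedSym.ptsOf_desc h π hg⟩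
    let D' : Red.SplitRed G := Bruhat.withU D.toSplitRed v hv
    have hP : ∀ a ∈ D.base.support, P.Has D' a := fun a ha X z => by
      obtain ⟨w, hw⟩ := hsimple a ha
      exact ⟨(ptOf z : X ⟶ Red.Ga S) ≫ w, by rw [Category.assoc, hw, ← hs a ha]⟩
    obtain ⟨g, hgp, hgn⟩ := (sidesOfBase D.P D.base).regular
    have hb : D.base.IsPos c := (RedSym.isPos_iff_of_functional (D := D') (b := D.base) g
      (fun a ha => hgp a (Bruhat.simple_mem_pos (D := D') ha)) c).2 (hgp c hc)
    haveI : IsMonHom (v c) := (hv c).1
    haveI : Mono (v c) := by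
      haveI := (hv c).2.1
      exact (Over.forget S).mono_of_mono_map (inferInstanceAs (Mono (v c).left))
    obtain ⟨L, hL⟩ := exists_line D.toSplitRed c
    obtain ⟨LC⟩ := exists_lineCent D.toSplitRed L
    obtain ⟨w, hw⟩ := LC.exists_scale hL (v c) fun X s x y e => by
      obtain ⟨y₁, hy₁, he⟩ := (hv c).2.2 X s x
      rw [show y = y₁ from gaFn_injective (e.trans he.symm)]
      exact hy₁
    have hmem := RedSym.has_of_pos (D := D') (b := D.base) hf P hP hb (Red.Ga S) (Red.gaFn w)
    obtain ⟨f, hf'⟩ := hmem
    refine ⟨f, hf'.trans ?_⟩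
    rw [← Bruhat.ep_of]
    exact hw
  · exact ⟨1, Bruhat.over_hom_eq hS _ _⟩

end Groth.Agent.S8508
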