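import Groth.Statements.S8517
import Groth.Agent.RootSys.Inversion
-- import your own Groth.Agent.* helpers here

set_option autoImplicit false
open CategoryTheory MonoidalCategory CartesianMonoidalCategory MonObj GrpObj AlgebraicGeometry
universe u
open RedSub

namespace Groth.Agent.S8517

open RootSysLib RootBasicLib RootPairing

/-- Let R be the set of roots of a root pairing over ℤ with finitely many roots, and R₁, R₂ two closed
subsets of R (if a, b ∈ Rᵢ and root a + root b is a root c then c ∈ Rᵢ), each containing a system of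
positive roots (the positive roots of some base). If R₁ ∪ R₂ = R, then R₁ ∩ (−R₂) (the roots of R₁
whose negative is a root in R₂) contains a system of positive roots. -/
theorem result {idx M N : Type} [Finite idx] [AddCommGroup M] [AddCommGroup N] (P : RootPairing idx ℤ M N) (R₁ R₂ : Set idx)
    (h₁ : ∀ a b c : idx, a ∈ R₁ → b ∈ R₁ → P.root a + P.root b = P.root c → c ∈ R₁)
    (h₂ : ∀ a b c : idx, a ∈ R₂ → b ∈ R₂ → P.root a + P.root b = P.root c → c ∈ R₂)
    (hb₁ : ∃ b : P.Base, RedSub.posRoots P b ⊆ R₁) (hb₂ : ∃ b : P.Base, RedSub.posRoots P b ⊆ R₂)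
    (hunion : R₁ ∪ R₂ = Set.univ) :
    ∃ b : P.Base, RedSub.posRoots P b ⊆ {a | a ∈ R₁ ∧ ∃ c ∈ R₂, P.root a = -P.root c} := by
  classical
  obtain ⟨b₁, hb₁⟩ := hb₁
  obtain ⟨b₂, hb₂⟩ := hb₂
  let A : Set idx := {a | a ∈ R₁ ∧ ∃ c ∈ R₂, P.root a = -P.root c}
  have hA : ∀ a, a ∈ A ↔ a ∈ R₁ ∧ P.reflectionPerm a a ∈ R₂ := fun a => by
    refine and_congr Iff.rfl ⟨?_, fun h => ⟨_, h, by rw [root_neg, neg_neg]⟩⟩
    rintro ⟨c, hc, he⟩
    rw [RootSysLib.root_eq_neg_iff] at he
    subst he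
    rwa [neg_neg_idx]
  have hS1 := isPosSys_posOf (isSimpleSys_base b₁)
  have hS2 := isPosSys_posOf (isSimpleSys_base b₂)
  have hcov : ∀ x, x ∈ R₁ ∨ x ∈ R₂ := fun x => (hunion ▸ Set.mem_univ x : x ∈ R₁ ∪ R₂)
  have hP2 : ∀ a, a ∈ A ∨ P.reflectionPerm a a ∈ A := by
    intro a
    rw [hA, hA, neg_neg_idx]
    have h1 := (hS1.cover a).imp (fun h => hb₁ h) (fun h => hb₁ h)
    have h2 := (hS2.cover a).imp (fun h => hb₂ h) (fun h => hb₂ h)
    have h3 := hcov a
    have h4 := hcov (P.reflectionPerm a a)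
    tauto
  obtain ⟨g, -, hg⟩ := exists_mapsTo hS1 hP2 (fun i j k hi hj he => by
    rw [hA] at hi hj ⊢
    exact ⟨h₁ i j k hi.1 hj.1 he.symm, h₂ _ _ _ hi.2 hj.2 (by rw [root_neg, root_neg, root_neg, he]; abel)⟩)
  refine ⟨baseSmul g b₁, fun a ha => hg ⟨g⁻¹ • a, ?_, smul_inv_smul g a⟩⟩
  have hmem : a ∈ RootD.posOf P ((g • ·) '' (b₁.support : Set idx)) := by
    have h : (↑(baseSmul g b₁).support : Set idx) = (g • ·) '' (b₁.support : Set idx) := Finset.coe_image
    rw [← h]
    exact ha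
  have hsimp := isSimpleSys_image (isSimpleSys_base b₁) g⁻¹
  have himg : RootD.posOf P ((g • ·) '' (b₁.support : Set idx)) = (g • ·) '' RootD.posOf P (b₁.support : Set idx) :=
    posOf_eq_of_subset (isSimpleSys_image (isSimpleSys_base b₁) g) (isPosSys_image g hS1)
      (Set.image_mono (self_subset_posOf _))
  rw [himg, mem_image_smul] at hmem
  exact hmem


end Groth.Agent.S8517
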