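import Groth.Statements.S8524
import Groth.Agent.EtShLib.Stalk
import Mathlib

set_option autoImplicit false
universe u
open CategoryTheory CategoryTheory.Limits AlgebraicGeometry Opposite
open EtAcyc

namespace Groth.Agent.S8524

/-- For the small etale site of a scheme and abelian sheaves: let L be a set of primes, F an abelian
L-torsion sheaf on the small etale site of a scheme X, and U an etale X-scheme with quasi-compact
underlying space. Then every section of F over U is killed by some positive integer all of whose
prime factors lie in L. -/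
theorem result {X : Scheme.{u}} (L : Set ℕ) (F : EtCoh.Ab X)
    (hF : EtAcyc.IsLTorsion L F) (U : X.Etale) [CompactSpace U.left] (s : EtCoh.sect F U) :
    ∃ m : ℕ, EtAcyc.PrimesIn L m ∧ m • s = 0 := by
  choose V g m hv hm hz using hF U s
  have hopen : ∀ x, IsOpen (Set.range (g x).left.base) := fun x => by
    haveI : Etale (V x).hom := (V x).prop
    haveI : Etale U.hom := U.prop
    haveI : Etale ((g x).left ≫ U.hom) := by rw [MorphismProperty.Over.w (g x)]; infer_instance
    haveI : Etale (g x).left := Etale.of_comp (g x).left U.hom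
    exact (g x).left.isOpenMap.isOpen_range
  obtain ⟨T, hT⟩ := isCompact_univ.elim_finite_subcover (fun x : U.left => Set.range (g x).left.base) hopen
    fun x _ => Set.mem_iUnion.2 ⟨x, hv x⟩
  refine ⟨∏ x ∈ T, m x, ⟨Finset.prod_pos fun x _ => (hm x).1, fun p hp hpd => ?_⟩, ?_⟩
  · obtain ⟨x, -, hx⟩ := (hp.prime.dvd_finsetProd_iff (S := T) (g := m)).1 hpd
    exact (hm x).2 p hp hx
  · refine Groth.Agent.EtShLib.res_ext (A := AddCommGrpCat.{u + 1}) F _ _ fun y => ?_
    obtain ⟨x, hxT, v, hxv⟩ : ∃ x ∈ T, y ∈ Set.range (g x).left.base := by simpa using hT (Set.mem_univ y)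
    refine ⟨V x, g x, ⟨v, hxv⟩, ?_⟩
    obtain ⟨k, hk⟩ := Finset.dvd_prod_of_mem m hxT
    rw [hk, mul_comm]
    show (F.obj.map (g x).op) ((k * m x) • s) = (F.obj.map (g x).op) 0
    rw [map_nsmul, map_zero, mul_smul, hz, smul_zero]

end Groth.Agent.S8524
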