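import Groth.Statements.S8528
import Groth.Agent.ConstUnitLib.Unit
import Groth.Agent.S2787
import Groth.Agent.S2135
import Groth.Agent.S0537
import Groth.Agent.S3243

set_option maxHeartbeats 1000000
set_option backward.isDefEq.respectTransparency false
set_option backward.isDefEq.respectTransparency.types false
-- import your own Groth.Agent.* helpers here

set_option autoImplicit false
universe u
open CategoryTheory CategoryTheory.Limits AlgebraicGeometry Opposite
open EtPBC

namespace Groth.Agent.S8528

open Groth.Agent.EtShLib

theorem isGeomUnibranch_of_irreducible {A : Type u} [CommRing A] [IsLocalRing A]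
    (h : ∀ (R : Type u) [CommRing R] [IsLocalRing R] [Algebra A R] [IsLocalHom (algebraMap A R)]
      [Hensel.IsStrictHenselization A R], IrreducibleSpace (PrimeSpectrum R)) : CAlg2.IsGeomUnibranch A := by
  obtain ⟨R, _, _, _, _, _⟩ := S0537.result A
  haveI := h R
  refine (S2135.result (Ash := R)).2 ?_
  have hP : (nilradical R).IsPrime := (PrimeSpectrum.irreducibleSpace_iff_isPrime_nilradical).1 inferInstance
  have hle : ∀ q : Ideal R, q.IsPrime → nilradical R ≤ q := fun q hq => by haveI := hq; exact nilradical_le_prime q
  refine ⟨nilradical R, ⟨⟨hP, bot_le⟩, fun q hq _ => hle q hq.1⟩, fun q hq => ?_⟩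
  exact le_antisymm (hq.2 ⟨hP, bot_le⟩ (hle q hq.1.1)) (hle q hq.1.1)

theorem locExt_generic {X : Scheme.{u}} [IrreducibleSpace X]
    (hX : ∀ x : X, CAlg2.IsGeomUnibranch (X.presheaf.stalk x)) :
    ConstUnitLib.LocExt (X.fromSpecResidueField (genericPoint X)) := by
  let g := X.fromSpecResidueField (genericPoint X)
  have hg : Set.range g.base = {genericPoint X} := Scheme.range_fromSpecResidueField _
  haveI : QuasiCompact g := ⟨fun U _ _ => (Set.toFinite _).isCompact⟩
  refine ConstUnitLib.locExt_of_qc g ?_ fun W w => ?_
  · show Dense (Set.range g.base)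
    rw [hg]
    exact dense_iff_closure_eq.2 (genericPoint_spec X)
  · haveI : AlgebraicGeometry.Etale W.hom := W.prop
    haveI : IsPreimmersion (pullback.fst W.hom g) :=
      MorphismProperty.pullback_fst (P := @IsPreimmersion) _ _ (inferInstanceAs (IsPreimmersion g))
    obtain ⟨hu, hc⟩ := @S2787.result W.left X W.hom W.prop _ hX
    obtain ⟨Z, ⟨hZ, hwZ⟩, hZu⟩ := hu w
    obtain ⟨-, ξ, -, hξ⟩ := hc Z hZ
    refine Set.Subsingleton.isPreconnected fun a ha b hb => (pullback.fst W.hom g).isEmbedding.injective ?_
    have hη : ∀ c, (pullback.fst W.hom g).base c ⤳ w → (pullback.fst W.hom g).base c = ξ := fun c hcw => by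
      have hc : W.hom.base ((pullback.fst W.hom g).base c) = genericPoint X :=
        hg.le ((Scheme.Pullback.range_fst W.hom g).le ⟨c, rfl⟩)
      obtain ⟨Z', ⟨hZ', hcZ'⟩, -⟩ := hu ((pullback.fst W.hom g).base c)
      obtain rfl := hZu Z' ⟨hZ', hcw.mem_closed (isClosed_of_mem_irreducibleComponents Z' hZ') hcZ'⟩
      exact hξ _ ⟨hcZ', hc⟩
    exact (hη a ha).trans (hη b hb).symm

/-- Let X be an irreducible scheme all of whose strict localizations are irreducible (for every point x
and every strict henselization R of the local ring at x, Spec R is irreducible; that is, X is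
geometrically unibranch), and M a torsion-free abelian group. Then H^1(X, M_X) = 0 for the constant
sheaf M_X on the small etale site. -/
theorem result (X : Scheme.{u}) [IrreducibleSpace X]
    (hX : ∀ (x : X) (R : Type u) [CommRing R] [IsLocalRing R] [Algebra (X.presheaf.stalk x) R]
      [IsLocalHom (algebraMap (X.presheaf.stalk x) R)] [Hensel.IsStrictHenselization (X.presheaf.stalk x) R],
      IrreducibleSpace (PrimeSpectrum R))
    (M : Type) [AddCommGroup M] [IsAddTorsionFree M] :
    Subsingleton (EtCoh.H X (EtCoh.const X M) 1) := by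
  let η := genericPoint X
  let g := X.fromSpecResidueField η
  have hd : DenseRange g.base := by
    show Dense (Set.range g.base)
    rw [Scheme.range_fromSpecResidueField]
    exact dense_iff_closure_eq.2 (genericPoint_spec X)
  haveI := ConstUnitLib.isIso_unit_const g (ConstUnitLib.denseRange_fst hd)
    (locExt_generic fun x => isGeomUnibranch_of_irreducible (hX x)) (AddCommGrpCat.of (ULift.{u + 1} M))
  let P := (EtCoh.pull g).obj (EtCoh.const X M)
  have h0 : Subsingleton (EtCoh.H (Spec (X.residueField η)) P 1) := by
    have h := S3243.subsingleton_H1_field (X.residueField η) M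
    exact (((EtCoh.HF (Spec (X.residueField η)) 1).mapIso (EtCore.pullConst g M)).addCommGroupIsoToAddEquiv).toEquiv.subsingleton_congr.2 h
  have h1 := @S3243.subsingleton_H1_push (X.residueField η) _ X g P h0
  exact (((EtCoh.HF X 1).mapIso (@asIso _ _ _ _ ((EtCoh.pullPushAdj g).unit.app (EtCoh.const X M)) ‹_›)).addCommGroupIsoToAddEquiv).toEquiv.subsingleton_congr.2 h1

end Groth.Agent.S8528
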