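import Groth.Statements.S8530
import Groth.Agent.EtShLib.SpecLC
import Groth.Agent.EtShLib.Generate
-- import your own Groth.Agent.* helpers here

set_option autoImplicit false
universe u
open CategoryTheory CategoryTheory.Limits AlgebraicGeometry Opposite
set_option backward.isDefEq.respectTransparency false
set_option backward.isDefEq.respectTransparency.types false
open EtPBC

namespace Groth.Agent.S8530

/-- Let F be a constructible abelian sheaf on the small etale site of a scheme X, x a point of X and ξ a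
geometric point of X located at x. Then F is finite locally constant on some open neighbourhood of x
if and only if, for every geometric point ξ' of X and every morphism of points of the etale site
from ξ' to ξ (a specialization arrow, ξ' a generization of ξ), the induced specialization map F_ξ →
F_ξ' is an isomorphism. -/
theorem result {X : Scheme.{u}} (F : EtCoh.Ab X)
    (hF : EtPBC.IsConstructible F) (x : X) {Ω : Type u} [Field Ω] [IsSepClosed Ω]
    (ξ : Spec (CommRingCat.of Ω) ⟶ X) (hξ : Set.range ξ.base = {x}) :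
    (∃ U : X.Opens, x ∈ U ∧ EtCoh.IsFiniteLocallyConstant ((EtCoh.pull U.ι).obj F)) ↔
      ∀ (Ω' : Type u) [Field Ω'] [IsSepClosed Ω'] (ξ' : Spec (CommRingCat.of Ω') ⟶ X)
        (φ : Scheme.pointSmallEtale ξ' ⟶ Scheme.pointSmallEtale ξ),
        IsIso ((GrothendieckTopology.Point.Hom.sheafFiber (A := AddCommGrpCat.{u + 1}) φ).app F) := by
  have hcons := (Groth.Agent.EtShLib.isConstructible_iff F).1 hF
  have hx : ξ.base default = x := hξ.subset ⟨default, rfl⟩
  constructor
  · rintro ⟨U, hxU, hU⟩ Ω' _ _ ξ' φ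
    obtain ⟨θ⟩ := Groth.Agent.EtShLib.nonempty_pull_iso_restrAlong U.ι F
    have hl := ((Groth.Agent.EtShLib.isFLC_iff _).1 hU).of_stalk_iso θ.hom
    obtain ⟨W, y, M, η, hy, -, hη⟩ := hl ⟨x, hxU⟩
    let V : X.Etale := (EtShriek.compEtale U.ι).obj W
    obtain ⟨a⟩ := Groth.Agent.EtShLib.exists_fib_of_range ξ (U := V)
      ⟨y, (congrArg U.ι.base hy).trans hx.symm⟩
    refine Groth.Agent.EtShLib.isIso_spec_of_isCst (V := V) (η := η) (fun Ω₂ _ _ ξ₂ b => ?_) φ a
    obtain ⟨u, hu⟩ : ∃ u : Spec (CommRingCat.of Ω₂) ⟶ U.toScheme, u = b.hom ≫ W.hom := ⟨_, rfl⟩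
    obtain rfl : u ≫ U.ι = ξ₂ := by rw [hu, Category.assoc]; exact b.w
    let v : Groth.Agent.EtShLib.Fib u W := Groth.Agent.EtShLib.Fib.mk b.hom hu.symm
    haveI := hη Ω₂ u v
    haveI := Groth.Agent.EtShLib.isIso_restrStalk U.ι F (u ≫ U.ι) ⟨u, rfl⟩
    have e := Groth.Agent.EtShLib.germ_restrStalk U.ι F (u ≫ U.ι) ⟨u, rfl⟩ W v
    have hb : b = (Groth.Agent.EtShLib.fibComp U.ι (ξ := u ≫ U.ι) ⟨u, rfl⟩).app W v :=
      Groth.Agent.EtShLib.Fib.ext rfl
    rw [hb]
    haveI : IsIso ((η ≫ Groth.Agent.EtShLib.germ u ((EtShriek.restrAlong U.ι).obj F) W v) ≫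
        Groth.Agent.EtShLib.restrStalk U.ι F (u ≫ U.ι) ⟨u, rfl⟩) := inferInstance
    rw [Category.assoc, e] at this
    exact this
  · intro h
    haveI := Groth.Agent.EtShLib.finite_stalk_Ab hcons ξ
    obtain ⟨W, η, hxW, hη⟩ := Groth.Agent.EtShLib.exists_cst_of_isIso_spec hcons ξ h
    refine ⟨⟨Set.range W.hom.base, Groth.Agent.EtShLib.isOpen_range_etale W⟩, hx ▸ hxW,
      (Groth.Agent.EtShLib.isFLC_iff _).2 fun z => ?_⟩
    obtain ⟨y, hy⟩ := z.2
    obtain ⟨q, -, hq⟩ := Scheme.Pullback.exists_preimage_pullback (f := Groth.Agent.EtShLib.str W)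
      (g := Scheme.Opens.ι (⟨Set.range W.hom.base, Groth.Agent.EtShLib.isOpen_range_etale W⟩ : X.Opens)) y z hy
    exact ⟨_, q, _, _, hq, inferInstance, hη.pull⟩

end Groth.Agent.S8530
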