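import Groth.Statements.S8535
import Groth.Agent.RDerLib.Universal
-- import your own Groth.Agent.* helpers here

set_option autoImplicit false
set_option linter.style.haveILetI false
universe v v' u u'
open CategoryTheory CategoryTheory.Limits
open DeltaF

namespace Groth.Agent.S8535

/-- Let A and B be abelian categories, T and T' cohomological delta-functors from A to B in degrees ≥ 0
whose degree-0 components are left exact (they vanish in negative degrees), such that T^i is
effaceable for every i > 0, and let φ : T → T' be a morphism of delta-functors and n a natural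
number. Then the following are equivalent: (a) φ^i is an isomorphism for i ≤ n and a monomorphism
for i = n + 1; (b) φ^0 is a monomorphism and φ^i is an epimorphism for every i ≤ n; (c) φ^0 is an
isomorphism and, for 0 < i ≤ n, T'^i is effaceable (every object X admits a monomorphism X → Y
killed by T'^i). -/
theorem result {A : Type u} [Category.{v} A] [Abelian A]
    {B : Type u'} [Category.{v'} B] [Abelian B] (T T' : DeltaF.CohDeltaFunctor A B ℕ)
    (h0 : T.ZeroMono) (h0' : T'.ZeroMono) (hT : T.IsEffaceable) (φ : T ⟶ T') (n : ℕ) :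
    ((∀ i : ℕ, i ≤ n → IsIso (φ.app i)) ∧ Mono (φ.app (n + 1)) ↔
      (Mono (φ.app 0) ∧ ∀ i : ℕ, i ≤ n → Epi (φ.app i))) ∧
    ((∀ i : ℕ, i ≤ n → IsIso (φ.app i)) ∧ Mono (φ.app (n + 1)) ↔
      (IsIso (φ.app 0) ∧ ∀ i : ℕ, 0 < i → i ≤ n → ∀ X : A, ∃ (Y : A) (u : X ⟶ Y), Mono u ∧ (T'.F i).map u = 0)) := by
  have ha : ∀ i, IsIso (φ.app i) → Mono (φ.app (i + 1)) := fun i _ =>
    Groth.Agent.RDerLib.mono_succ hT φ i
  refine ⟨⟨fun h => ⟨haveI := h.1 0 (Nat.zero_le _); inferInstance,
    fun i hi => haveI := h.1 i hi; inferInstance⟩, fun h => ?_⟩, ⟨fun h => ?_, fun h => ?_⟩⟩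
  · have hiso : ∀ i, i ≤ n → IsIso (φ.app i) := by
      intro i hi
      induction i with
      | zero =>
        haveI := h.1
        haveI := h.2 0 hi
        exact isIso_of_mono_of_epi _
      | succ k ih =>
        haveI := ha k (ih (by omega))
        haveI := h.2 (k + 1) hi
        exact isIso_of_mono_of_epi _
    exact ⟨hiso, ha n (hiso n le_rfl)⟩
  · refine ⟨h.1 0 (Nat.zero_le _), fun i h0i hin X => ?_⟩
    obtain ⟨k, rfl⟩ : ∃ k, i = k + 1 := ⟨i - 1, by omega⟩
    obtain ⟨Y, u, hu, hTu⟩ := hT k X
    haveI := h.1 (k + 1) hin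
    refine ⟨Y, u, hu, ?_⟩
    rw [← cancel_epi ((φ.app (k + 1)).app X), ← (φ.app (k + 1)).naturality, hTu,
      Limits.zero_comp, Limits.comp_zero]
  · have hiso : ∀ i, i ≤ n → IsIso (φ.app i) := by
      intro i hi
      induction i with
      | zero => exact h.1
      | succ k ih =>
        haveI := ih (by omega)
        haveI := ha k (ih (by omega))
        haveI := Groth.Agent.RDerLib.epi_succ φ k (h.2 (k + 1) (Nat.succ_pos _) hi)
        exact isIso_of_mono_of_epi _
    exact ⟨hiso, ha n (hiso n le_rfl)⟩

end Groth.Agent.S8535
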