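import Groth.Statements.S8538
import Groth.Agent.DeltaDimLib.Basic
import Groth.Agent.CatDimFunLib.Basic
import Groth.Agent.MiscFlat6.LCPoint
import Groth.Agent.JacDimLib.Main
import Groth.Agent.CatLib.More
-- import your own Groth.Agent.* helpers here

set_option autoImplicit false
set_option maxHeartbeats 2000000
set_option backward.isDefEq.respectTransparency false
universe u
open CategoryTheory CategoryTheory.Limits AlgebraicGeometry Opposite
open EtCd

namespace Groth.Agent.S8538

theorem isUniversallyCatenary_stalk_spec {A : Type u} [CommRing A] (hA : CAlg.IsUniversallyCatenary A)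
    (q : PrimeSpectrum A) : CAlg.IsUniversallyCatenary ((Spec (CommRingCat.of A)).presheaf.stalk (q : ↥(Spec (CommRingCat.of A)))) := by
  letI : Algebra A ((Spec (CommRingCat.of A)).presheaf.stalk (q : ↥(Spec (CommRingCat.of A)))) :=
    StructureSheaf.stalkAlgebra (CommRingCat.of A) q
  haveI : IsLocalization.AtPrime ((Spec (CommRingCat.of A)).presheaf.stalk (q : ↥(Spec (CommRingCat.of A)))) q.asIdeal :=
    StructureSheaf.IsLocalization.to_stalk (CommRingCat.of A) q
  exact CatLib.isUniversallyCatenary_of_isLocalization q.asIdeal.primeCompl _ hA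

theorem specializes_closedPoint {A : Type u} [CommRing A] [IsLocalRing A] (q : Spec (CommRingCat.of A)) :
    q ⤳ ((IsLocalRing.closedPoint A : PrimeSpectrum A) : ↥(Spec (CommRingCat.of A))) :=
  (CatDimFunLib.specializes_iff q _).mpr (CatDimFunLib.le_closedPoint _)

theorem dimBetween_closedPoint {A : Type u} [CommRing A] [IsLocalRing A] (q : Spec (CommRingCat.of A)) :
    EquidimLib.dimBetween q ((IsLocalRing.closedPoint A : PrimeSpectrum A) : ↥(Spec (CommRingCat.of A))) =
      ringKrullDim (A ⧸ q.asIdeal) := by
  refine (EquidimLib.dim_eq_of_range (X := Spec (CommRingCat.of A))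
    (i := fun r => (PrimeSpectrum.comap (Ideal.Quotient.mk q.asIdeal) r : PrimeSpectrum A)) ?_ ?_).symm
  · exact (PrimeSpectrum.isClosedEmbedding_comap_of_surjective _ _ Ideal.Quotient.mk_surjective).isInducing
  · refine (EquidimLib.comap_mk_range q.asIdeal).trans ?_
    ext r
    exact ⟨fun h => ⟨(CatDimFunLib.specializes_iff q r).mpr h, specializes_closedPoint _⟩,
      fun h => (CatDimFunLib.specializes_iff q r).mp h.1⟩


/-- Let A be a Noetherian universally catenary local ring, f : X → Spec A a morphism of finite type, x a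
point of X with image y, and X₀ the closed fibre of f. Put δ(x) = dim closure(y) + trdeg(κ(x)/κ(y))
= dim(A/p_y) + trdeg(κ(x)/κ(y)) and d(x) = dim closure(x) (topological Krull dimension of the
closure of x in X). Then d(x) = δ(x) when the closure of x meets X₀, and d(x) + 1 = δ(x) when it
does not. -/
theorem result (A : Type u) [CommRing A] [IsNoetherianRing A] [IsLocalRing A]
    (hA : CAlg.IsUniversallyCatenary A) {X : Scheme.{u}} (f : X ⟶ Spec (CommRingCat.of A)) [LocallyOfFiniteType f]
    [QuasiCompact f] (x : X) (a b d : ℕ) (ha : ringKrullDim (A ⧸ (f.base x).asIdeal) = a)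
    (hb : letI := (f.residueFieldMap x).hom.toAlgebra;
      Algebra.trdeg ((Spec (CommRingCat.of A)).residueField (f.base x)) (X.residueField x) = b)
    (hd : topologicalKrullDim ↥(closure ({x} : Set X)) = d) :
    ((closure ({x} : Set X) ∩ f.base ⁻¹' {((IsLocalRing.closedPoint A : PrimeSpectrum A) : ↥(Spec (CommRingCat.of A)))}).Nonempty →
        d = a + b) ∧
    (closure ({x} : Set X) ∩ f.base ⁻¹' {((IsLocalRing.closedPoint A : PrimeSpectrum A) : ↥(Spec (CommRingCat.of A)))} = ∅ →
        d + 1 = a + b) := by
  haveI : IsLocallyNoetherian (Spec (CommRingCat.of A)) := inferInstance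
  haveI : IsLocallyNoetherian X := LocallyOfFiniteType.isLocallyNoetherian f
  haveI : LocallyOfFinitePresentation f := LocallyOfFinitePresentation.iff_locallyOfFiniteType.2 inferInstance
  haveI : CompactSpace X := QuasiCompact.compactSpace_of_compactSpace f
  haveI : IsNoetherian X := {}
  let S := Spec (CommRingCat.of A)
  let m : S := (IsLocalRing.closedPoint A : PrimeSpectrum A)
  let y : S := f.base x
  have hym : EquidimLib.dimBetween y m = a := (dimBetween_closedPoint y).trans ha
  -- the value at a closed point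
  have key : ∀ z : X, IsClosed ({z} : Set X) → x ⤳ z → ∃ n : ℕ, EquidimLib.dimBetween x z = n ∧
      (f z = m → n = a + b) ∧ (f z ≠ m → n + 1 = a + b) := by
    intro z hz hxz
    obtain ⟨n, hn⟩ := EquidimLib.exists_dimBetween_eq_nat hxz
    obtain ⟨c, hc⟩ := EquidimLib.exists_dimBetween_eq_nat (hxz.map f.continuous)
    have htz : Cardinal.toENat (Dual3.resTrdeg f z) = ((0 : ℕ) : ℕ∞) := by
      have := JacDimLib.fibreClosureDim_of_closed f hz
      rw [AlgSpLib.fibreClosureDim_eq_resTrdeg] at this
      exact_mod_cast this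
    have htx : Cardinal.toENat (Dual3.resTrdeg f x) = (b : ℕ∞) := by
      rw [show Dual3.resTrdeg f x = b from hb, Cardinal.toENat_nat]
    have e := DeltaDimLib.dimBetween_add_trdeg f hxz (isUniversallyCatenary_stalk_spec hA _) hn hc htz htx
    refine ⟨n, hn, fun h => ?_, fun h => ?_⟩
    · rw [h] at hc
      have : c = a := by
        have := hc.symm.trans hym
        exact_mod_cast this
      omega
    · have hlc : IsLocallyClosed ({f z} : Set S) := by
        obtain ⟨w, hw, hwl⟩ := MiscFlat6.exists_locallyClosed_point_of_isLocallyConstructible (X := S) (f '' {z})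
          (f.isLocallyConstructible_image (Topology.IsConstructible.isLocallyConstructible
            (Topology.isConstructible_compl.1 ((TopologicalSpace.NoetherianSpace.isCompact _).isConstructible hz.isOpen_compl)))) ⟨f z, z, rfl, rfl⟩
        obtain ⟨z', hz', rfl⟩ := hw
        rwa [Set.mem_singleton_iff.1 hz'] at hwl
      have h1 : EquidimLib.dimBetween (f z) m ≤ 1 :=
        (DeltaDimLib.dimBetween_le_closure _ _).trans (MiscFlat6.dim_closure_le_one hlc)
      have h2 := EquidimLib.one_le_dimBetween (specializes_closedPoint (f z)) h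
      have h3 : EquidimLib.dimBetween (f z) m = ((1 : ℕ) : WithBot ℕ∞) := by
        exact_mod_cast le_antisymm h1 h2
      have h4 := JacDimLib.dimBetween_add_eq (hxz.map f.continuous) (specializes_closedPoint (f z))
        (isUniversallyCatenary_stalk_spec hA _)
      rw [hym, hc, h3] at h4
      have h5 : a = c + 1 := by exact_mod_cast h4
      omega
  have hcl : ∀ z, x ⤳ z → z ∈ closure ({x} : Set X) := fun z hz => specializes_iff_mem_closure.1 hz
  refine ⟨fun ⟨w, hwx, hwm⟩ => ?_, fun hempty => ?_⟩
  · have hfc : IsClosed (f.base ⁻¹' {m}) :=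
      (IsLocalRing.isClosed_singleton_closedPoint A).preimage f.continuous
    obtain ⟨z, hzmem, hzc⟩ := (isClosed_closure.inter hfc).exists_closed_singleton ⟨w, hwx, hwm⟩
    obtain ⟨n, hn, hn1, -⟩ := key z hzc (specializes_iff_mem_closure.2 hzmem.1)
    have hn' := hn1 hzmem.2
    have h1 : ((n : ℕ) : WithBot ℕ∞) ≤ d := hn ▸ hd ▸ DeltaDimLib.dimBetween_le_closure x z
    have h2 : (d : WithBot ℕ∞) ≤ ((a + b : ℕ) : WithBot ℕ∞) := by
      rw [← hd]
      refine DeltaDimLib.topologicalKrullDim_closure_le x _ fun z' hz' hxz' => ?_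
      obtain ⟨n', hn'', h1', h2'⟩ := key z' hz' hxz'
      rw [hn'']
      have : n' ≤ a + b := by
        by_cases h : f z' = m
        · exact (h1' h).le
        · have := h2' h; omega
      exact_mod_cast this
    have h1' : n ≤ d := by exact_mod_cast h1
    have h2' : d ≤ a + b := by exact_mod_cast h2
    omega
  · have hne : ∀ z, x ⤳ z → f z ≠ m := fun z hz h => hempty.le ⟨hcl z hz, h⟩
    obtain ⟨z, hzmem, hzc⟩ := (isClosed_closure (s := ({x} : Set X))).exists_closed_singleton ⟨x, subset_closure rfl⟩
    obtain ⟨n, hn, -, hn1⟩ := key z hzc (specializes_iff_mem_closure.2 hzmem)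
    have hn' := hn1 (hne z (specializes_iff_mem_closure.2 hzmem))
    have h1 : ((n : ℕ) : WithBot ℕ∞) ≤ d := hn ▸ hd ▸ DeltaDimLib.dimBetween_le_closure x z
    have h2 : (d : WithBot ℕ∞) ≤ ((n : ℕ) : WithBot ℕ∞) := by
      rw [← hd]
      refine DeltaDimLib.topologicalKrullDim_closure_le x _ fun z' hz' hxz' => ?_
      obtain ⟨n', hn'', -, h2'⟩ := key z' hz' hxz'
      rw [hn'']
      have : n' ≤ n := by have := h2' (hne z' hxz'); omega
      exact_mod_cast this
    have h1' : n ≤ d := by exact_mod_cast h1
    have h2' : d ≤ n := by exact_mod_cast h2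
    omega

end Groth.Agent.S8538
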