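import Groth.Statements.S8545
import Groth.Agent.EtArtinLib.Local
import Groth.Agent.TensorBranchLib.SHQuot
-- import your own Groth.Agent.* helpers here

set_option autoImplicit false
universe u
open CategoryTheory CategoryTheory.Limits AlgebraicGeometry Opposite
open EtCd

namespace Groth.Agent.S8545
open CategoryTheory.Limits
/-- The opposite bound for the residue degree on a branch. -/
theorem add_le_resTrdeg {k : Type u} [Field k] {Y : Scheme.{u}} (g : Y ⟶ Spec (CommRingCat.of k))
    [LocallyOfFiniteType g] (y : Y) (R : Type u) [CommRing R] [IsLocalRing R] [Algebra (Y.presheaf.stalk y) R]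
    [IsLocalHom (algebraMap (Y.presheaf.stalk y) R)] [Hensel.IsStrictHenselization (Y.presheaf.stalk y) R]
    (P : Spec (CommRingCat.of R)) (s a c : ℕ) (hs : topologicalKrullDim (closure ({y} : Set Y)) = s)
    (ha : ringKrullDim (R ⧸ P.asIdeal) = a)
    (hc : topologicalKrullDim (closure ({Hens2.specOf Y y R P} : Set Y)) = c) : a + s ≤ c := by
  haveI : IsLocallyNoetherian Y := LocallyOfFiniteType.isLocallyNoetherian g
  let A := Y.presheaf.stalk y
  let Q : Spec A := Spec.map (CommRingCat.ofHom (algebraMap A R)) P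
  have hη : Hens2.specOf Y y R P = Y.fromSpecStalk y Q := rfl
  have hsp : Hens2.specOf Y y R P ⤳ y := by
    have h2 := (IsLocalRing.specializes_closedPoint (P : PrimeSpectrum R)).map (Hens2.specOf Y y R).continuous
    rwa [EtStrictAcycLib.specOf_closedPoint] at h2
  have hprime : CycDivLib.primeOf hsp = (Q : PrimeSpectrum A) := by
    refine (Y.fromSpecStalk y).isEmbedding.injective ?_
    exact (CycDivLib.stalkPt_primeOf hsp).trans hη
  have hadd := CdFieldLib.delta_eq_add g (Hens2.specOf Y y R P) y hsp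
  rw [← CdFieldLib.delta_spec g, ← CdFieldLib.delta_spec g, hc, hs, ← CycDivLib.dim_quotient hsp, hprime] at hadd
  let p : Ideal A := (Q : PrimeSpectrum A).asIdeal
  let J := p.map (algebraMap A R)
  have hJP : J ≤ P.asIdeal := Ideal.map_le_iff_le_comap.2 le_rfl
  haveI : Nontrivial (A ⧸ p) := Ideal.Quotient.nontrivial_iff.2 (Q : PrimeSpectrum A).2.ne_top
  haveI : Nontrivial (R ⧸ J) := Ideal.Quotient.nontrivial_iff.2 (ne_top_of_le_ne_top P.2.ne_top hJP)
  haveI : IsLocalRing (A ⧸ p) := IsLocalRing.of_surjective' _ Ideal.Quotient.mk_surjective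
  haveI : IsLocalRing (R ⧸ J) := IsLocalRing.of_surjective' _ Ideal.Quotient.mk_surjective
  haveI : IsLocalHom (algebraMap (A ⧸ p) (R ⧸ J)) := ⟨fun a ha => by
    obtain ⟨a, rfl⟩ := Ideal.Quotient.mk_surjective a
    haveI : IsLocalHom (Ideal.Quotient.mk J) := IsLocalHom.of_surjective _ Ideal.Quotient.mk_surjective
    have h1 : IsUnit (Ideal.Quotient.mk J (algebraMap A R a)) := ha
    exact ((IsUnit.of_map (algebraMap A R) a (IsUnit.of_map (Ideal.Quotient.mk J) _ h1)).map (Ideal.Quotient.mk p))⟩
  haveI := TensorBranchLib.isStrictHenselization_quotient (A := A) (S := R) p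
  have hle : (a : WithBot ℕ∞) ≤ ringKrullDim (A ⧸ p) := by
    rw [← Groth.Agent.S0541.result (A ⧸ p) (R ⧸ J), ← ha]
    exact ringKrullDim_le_of_surjective (Ideal.Quotient.factor hJP) (Ideal.Quotient.factor_surjective hJP)
  have h : (a : WithBot ℕ∞) + (s : WithBot ℕ∞) ≤ (c : WithBot ℕ∞) := by
    rw [hadd, add_comm (a : WithBot ℕ∞)]
    exact add_le_add le_rfl hle
  exact_mod_cast h



/-- Let f : X → Y be a morphism of schemes of finite type over a field k, x a point of X with image y,
y₀ a specialization of y in Y, R a strict henselization of the local ring of Y at y₀ with Y' = Spec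
R → Y the strict localization and X' = X ×_Y Y' with projection f' : X' → Y', and let x' be a point
of X' lying over x, with image y' in Y'. Writing δ(x') = dim closure(y') + trdeg(κ(x')/κ(y'))
(closure in Y' = Spec R, so dim closure(y') = dim R/p_{y'}) and d for the dimension of the closure
of a point in X or Y, one has δ(x') = d(x) - d(y₀); stated as δ(x') + d(y₀) = d(x). -/
theorem result (k : Type u) [Field k] {X Y : Scheme.{u}}
    (aX : X ⟶ Spec (CommRingCat.of k)) (aY : Y ⟶ Spec (CommRingCat.of k)) [LocallyOfFiniteType aX] [QuasiCompact aX]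
    [LocallyOfFiniteType aY] [QuasiCompact aY] (f : X ⟶ Y) (w : f ≫ aY = aX) (x : X) (y₀ : Y) (hsp : f.base x ⤳ y₀)
    (R : Type u) [CommRing R] [IsLocalRing R] [Algebra (Y.presheaf.stalk y₀) R]
    [IsLocalHom (algebraMap (Y.presheaf.stalk y₀) R)] [Hensel.IsStrictHenselization (Y.presheaf.stalk y₀) R]
    (x' : ↥(pullback f (Hens2.specOf Y y₀ R))) (hx' : (pullback.fst f (Hens2.specOf Y y₀ R)).base x' = x)
    (a b dx dy : ℕ)
    (ha : ringKrullDim (R ⧸ ((pullback.snd f (Hens2.specOf Y y₀ R)).base x').asIdeal) = a)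
    (hb : letI := ((pullback.snd f (Hens2.specOf Y y₀ R)).residueFieldMap x').hom.toAlgebra;
      Algebra.trdeg ((Spec (CommRingCat.of R)).residueField ((pullback.snd f (Hens2.specOf Y y₀ R)).base x'))
        ((pullback f (Hens2.specOf Y y₀ R)).residueField x') = b)
    (hdx : topologicalKrullDim ↥(closure ({x} : Set X)) = dx)
    (hdy : topologicalKrullDim ↥(closure ({y₀} : Set Y)) = dy) :
    a + b + dy = dx := by
  let gS := Hens2.specOf Y y₀ R
  let P := (pullback.snd f gS).base x'
  obtain ⟨c, hc, hc'⟩ := EtArtinLib.exists_closureDim aY (gS P)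
  obtain ⟨s, hs, hs'⟩ := EtArtinLib.exists_closureDim aY y₀
  have hds : dy = s := by rw [hs] at hdy; exact_mod_cast hdy.symm
  have h1 : (a + s ≤ c) := add_le_resTrdeg aY y₀ R P s a c hs ha hc
  have h2 : c ≤ s + a := by
    have h := EtArtinLib.resTrdeg_le_add aY y₀ R P s a hs' ha.le
    rw [hc'] at h
    exact_mod_cast h
  have hb' : Dual3.resTrdeg (pullback.snd f gS) x' = b := hb
  have h0 : Dual3.resTrdeg (pullback.fst f gS) x' = 0 := by
    have h := FlatDimLib.resTrdeg_snd_le ((pullbackSymmetry f gS).hom x')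
    rw [EtArtinLib.resTrdeg_specOf, nonpos_iff_eq_zero] at h
    rw [show pullback.fst f gS = (pullbackSymmetry f gS).hom ≫ pullback.snd gS f from
      (pullbackSymmetry_hom_comp_snd f gS).symm, AlgSpLib.resTrdeg_comp,
      CycPushLib.trdeg_preimmersion_left (pullbackSymmetry f gS).hom, h, add_zero]
  have e : pullback.fst f gS ≫ aX = pullback.snd f gS ≫ gS ≫ aY := by
    rw [← w]; exact pullback.condition_assoc _
  have h3 : Dual3.resTrdeg (pullback.fst f gS ≫ aX) x' = Dual3.resTrdeg aX x := by
    rw [AlgSpLib.resTrdeg_comp, h0, add_zero, hx']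
  rw [e, AlgSpLib.resTrdeg_comp (pullback.snd f gS) (gS ≫ aY), AlgSpLib.resTrdeg_comp gS aY,
    EtArtinLib.resTrdeg_specOf, add_zero, hb'] at h3
  obtain ⟨e', he, he'⟩ := EtArtinLib.exists_closureDim aX x
  rw [he] at hdx
  have h4 : (c : Cardinal.{u}) + (b : Cardinal.{u}) = (e' : Cardinal.{u}) := by rw [← hc', ← he']; exact h3
  have h5 : c + b = e' := by exact_mod_cast h4
  have h6 : e' = dx := by exact_mod_cast hdx
  omega


end Groth.Agent.S8545
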