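import Groth.Statements.S8554
import Groth.Agent.NonAbGodementLib.Basic
import Mathlib
-- import your own Groth.Agent.* helpers here

set_option autoImplicit false
universe u
open CategoryTheory CategoryTheory.Limits AlgebraicGeometry Opposite
open NonAbH1

namespace Groth.Agent.S8554

/-- Every sheaf of groups F on the small etale site of a scheme X embeds into a sheaf of groups G with
vanishing first non-abelian cohomology on every etale X-scheme: there are G and a morphism u : F ⟶
G, injective on sections over every object of the site, such that for every etale X-scheme U every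
torsor under the restriction of G to the induced site over U is trivial, i.e. H¹(U, G) is reduced to
its base point. (The published statement adds that the first higher direct images of G along any
morphism of schemes then vanish as pointed sheaves; that clause follows from this one and is not
stated here.) -/
theorem result {X : Scheme.{u}}
    (F : Sheaf X.smallEtaleTopology GrpCat.{u + 1}) :
    ∃ (G : Sheaf X.smallEtaleTopology GrpCat.{u + 1}) (φ : F ⟶ G),
      (∀ U : X.Etaleᵒᵖ, Function.Injective (φ.hom.app U)) ∧
      ∀ (U : X.Etale) (P : NonAbH1.Torsor (G.over U)), P.IsTrivial := by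
  let pts : X → GrothendieckTopology.Point.{u} (Scheme.smallEtaleTopology X) := fun s =>
    Scheme.pointSmallEtale ((Scheme.SpecToEquivOfField (SeparableClosure (X.residueField s)) _).2
      ⟨s, CommRingCat.ofHom (algebraMap (X.residueField s) _)⟩)
  have hP : (ObjectProperty.ofObj pts).IsConservativeFamilyOfPoints :=
    Scheme.isConservativeFamilyOfPoints_pointSmallEtale' X
  refine ⟨Groth.Agent.NonAbGodementLib.god pts F, Groth.Agent.NonAbGodementLib.toGod pts F,
    Groth.Agent.NonAbGodementLib.toGod_injective pts F ?_, fun U P =>
      Groth.Agent.NonAbGodementLib.torsor_isTrivial pts F U P⟩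
  intro Y S hS
  obtain ⟨α, V, f, rfl⟩ := S.exists_eq_ofArrows
  rw [hP.jointly_reflect_ofArrows_mem_of_small]
  rintro ⟨_, ⟨s⟩⟩ y
  obtain ⟨W, g, hg, w, hw⟩ := hS s y
  obtain ⟨W', a, _, ⟨j⟩, rfl⟩ := hg
  exact ⟨j, (pts s).fiber.map a w, by rw [← hw, Functor.map_comp]; rfl⟩

end Groth.Agent.S8554
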