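import Groth.Statements.S8562
import Mathlib.AlgebraicGeometry.Sites.Etale

set_option autoImplicit false
set_option linter.style.haveILetI false
set_option backward.isDefEq.respectTransparency false
set_option backward.isDefEq.respectTransparency.types false

set_option autoImplicit false
universe u
open CategoryTheory CategoryTheory.Limits AlgebraicGeometry Opposite
open CategoryTheory.Limits Opposite
open NonAbH1

namespace Groth.Agent.S8562

/-- Exactness of the sequence 0 → H¹(Y, f_*F) → H¹(X, F) → H⁰(Y, R¹f_*F) at its middle term, in terms of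
torsors: let f : X ⟶ Y be a morphism of schemes, F a sheaf of groups on the small etale site of X,
f_*F its direct image on Y (sections over an etale Y-scheme V are the sections of F over X ×_Y V),
and Q an F-torsor. Then Q is the image of a class in H¹(Y, f_*F), in the sense that there are an
f_*F-torsor P on Y and a morphism of sheaves of sets from P to the direct image of the sheaf
underlying Q which is equivariant for the actions of f_*F, if and only if the class of Q is locally
trivial over Y: there is a jointly surjective family of etale Y-schemes Y_i such that Q has a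
section over every X ×_Y Y_i. -/
theorem result {X Y : Scheme.{u}} (f : X ⟶ Y)
    [EtCoh.BCCont f] (F : Sheaf X.smallEtaleTopology GrpCat.{u + 1}) (Q : NonAbH1.Torsor F) :
    (∃ (P : NonAbH1.Torsor (((EtCoh.bc f).sheafPushforwardContinuous GrpCat.{u + 1}
        Y.smallEtaleTopology X.smallEtaleTopology).obj F))
      (φ : P.P ⟶ ((EtCoh.bc f).sheafPushforwardContinuous (Type (u + 1))
        Y.smallEtaleTopology X.smallEtaleTopology).obj Q.P),
      ∀ (V : Y.Etaleᵒᵖ) (g : F.obj.obj (op ((EtCoh.bc f).obj V.unop))) (s : P.P.obj.obj V),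
        φ.hom.app V (P.smul g s) = Q.smul g (φ.hom.app V s)) ↔
    ∃ (ι : Type u) (V : ι → Y.Etale), EtCoh.Covers V ∧
      ∀ i, Nonempty (Q.P.obj.obj (op ((EtCoh.bc f).obj (V i)))) := by
  constructor
  · rintro ⟨P, φ, -⟩
    obtain ⟨S, hS, hSf⟩ := P.isTorsor.2 (EtCoh.top Y)
    obtain ⟨α, T, g, rfl⟩ := S.exists_eq_ofArrows
    rw [Scheme.ofArrows_mem_smallEtaleTopology_iff] at hS
    have hex : ∀ y : Y, ∃ a : α, ∃ t : (T a).left, (g a).left t = y := fun y => by
      have := Set.mem_univ (show (EtCoh.top Y).left from y)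
      rw [← hS, Set.mem_iUnion] at this
      exact this
    choose a t ht using hex
    refine ⟨Y, fun y => T (a y), fun y => ⟨y, t y, ?_⟩, fun y => ?_⟩
    · have hw : (g (a y)).left ≫ 𝟙 Y = (T (a y)).hom := MorphismProperty.Over.w (g (a y))
      exact (congrArg (fun m => m (t y)) (hw.symm.trans (Category.comp_id _))).trans (ht y)
    · obtain ⟨s⟩ := hSf (g (a y)) (Sieve.ofArrows_mk _ _ _)
      exact ⟨φ.hom.app _ s⟩
  · rintro ⟨ι, V, hV, hne⟩
    let P : NonAbH1.GSheaf (((EtCoh.bc f).sheafPushforwardContinuous GrpCat.{u + 1}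
        Y.smallEtaleTopology X.smallEtaleTopology).obj F) :=
      { P := ((EtCoh.bc f).sheafPushforwardContinuous (Type (u + 1)) Y.smallEtaleTopology X.smallEtaleTopology).obj Q.P
        smul := fun {U} g p => Q.smul (U := op ((EtCoh.bc f).obj U.unop)) g p
        one_smul := fun p => Q.one_smul p
        mul_smul := fun g h p => Q.mul_smul g h p
        map_smul := fun m g p => Q.map_smul ((EtCoh.bc f).map m.unop).op g p }
    refine ⟨⟨P, fun U p q => Q.isTorsor.1 (op ((EtCoh.bc f).obj U.unop)) p q, fun U => ?_⟩, 𝟙 _, fun V g s => rfl⟩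
    let Z : ι → Y.Etale := fun i =>
      Scheme.Etale.mk (pullback.fst U.hom (V i).hom ≫ U.hom)
    let p₁ : ∀ i, Z i ⟶ U := fun i => MorphismProperty.Over.homMk (pullback.fst U.hom (V i).hom) rfl
    let p₂ : ∀ i, Z i ⟶ V i := fun i => MorphismProperty.Over.homMk (pullback.snd U.hom (V i).hom)
      pullback.condition.symm
    refine ⟨Sieve.ofArrows Z p₁, (Scheme.ofArrows_mem_smallEtaleTopology_iff p₁).2 ?_, ?_⟩
    · refine Set.eq_univ_of_forall fun w => ?_
      obtain ⟨i, v, hv⟩ := hV (U.hom w)
      obtain ⟨z, hz, -⟩ := Scheme.Pullback.exists_preimage_pullback (f := U.hom) (g := (V i).hom) w v hv.symm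
      exact Set.mem_iUnion.2 ⟨i, z, hz⟩
    · rintro W m ⟨_, q, _, ⟨i⟩, rfl⟩
      obtain ⟨s⟩ := hne i
      exact ⟨Q.P.obj.map ((EtCoh.bc f).map (q ≫ p₂ i)).op s⟩

end Groth.Agent.S8562
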