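import Groth.Statements.S8567
import Groth.Agent.CohTopLib.GermFam
-- import your own Groth.Agent.* helpers here

set_option autoImplicit false
open CategoryTheory TopologicalSpace Opposite
universe u
open CohTop

namespace Groth.Agent.S8567

/-- Let X be a topological space, K ⊆ X a compact subset such that any two distinct points of K have
disjoint neighbourhoods in X, and F a flasque abelian sheaf on X. Then the inverse image F|K of F on
the subspace K is a soft sheaf: for every closed subset A of K, every section of (F|K)|A over A is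
the restriction of a section of F|K over K (the restriction map is the unit of the inverse image /
direct image adjunction for the inclusion A → K, taken on global sections). -/
theorem result {X : TopCat.{u}} {K : Set X} (hK : IsCompact K)
    (hsep : ∀ x ∈ K, ∀ y ∈ K, x ≠ y → ∃ U V : Set X, IsOpen U ∧ IsOpen V ∧ x ∈ U ∧ y ∈ V ∧ Disjoint U V)
    (F : CohTop.Ab X) [TopCat.Sheaf.IsFlasque F] {A : Set K} (hA : IsClosed A) :
    Function.Surjective
      ((((TopCat.Sheaf.pullbackPushforwardAdjunction AddCommGrpCat.{u}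
        (TopCat.ofHom ⟨((↑) : A → K), continuous_subtype_val⟩ : TopCat.of A ⟶ TopCat.of K)).unit.app
        ((CohTop.pull (TopCat.ofHom ⟨((↑) : K → X), continuous_subtype_val⟩ : TopCat.of K ⟶ X)).obj F)).hom.app
        (op ⊤)).hom) := by
  classical
  let i : TopCat.of K ⟶ X := TopCat.ofHom ⟨((↑) : K → X), continuous_subtype_val⟩
  let f : TopCat.of A ⟶ TopCat.of K := TopCat.ofHom ⟨((↑) : A → K), continuous_subtype_val⟩
  have he : Topology.IsEmbedding i := Topology.IsEmbedding.subtypeVal
  haveI : CompactSpace (TopCat.of K) := isCompact_iff_compactSpace.mp hK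
  have hsep' : CohTopLib.GermFam.Sep (Set.range i) := by
    rintro _ ⟨a, rfl⟩ _ ⟨b, rfl⟩ hne
    exact hsep _ a.2 _ b.2 hne
  haveI : T2Space (TopCat.of K) := CohTopLib.GermFam.t2Space_of_sep i he hsep'
  intro s
  let G := (CohTop.pull i).obj F
  let φ := CohTopLib.GermFam.down f G
    (fun a => CohTopLib.GermFam.germ ((CohTop.pull f).obj G) ⊤ a trivial s)
  have hφ : CohTopLib.GermFam.IsFam f G Set.univ φ :=
    CohTopLib.GermFam.isFam_down f G Topology.IsInducing.subtypeVal
      fun a _ => ⟨⊤, trivial, s, fun b _ _ => rfl⟩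
  let ψ : ∀ z : TopCat.of K, CohTopLib.GermFam.Stk G z := fun z =>
    if h : z ∈ A then φ ⟨z, h⟩ else 0
  have hψ0 : ∀ a : TopCat.of A, ψ (f a) = φ a := fun a => dif_pos a.2
  have hψ : CohTopLib.GermFam.IsFam (𝟙 (TopCat.of K)) G A ψ := by
    intro z hz
    obtain ⟨W, hW, t, ht⟩ := hφ ⟨z, hz⟩ trivial
    exact ⟨W, hW, t, fun y hy hyW => (ht ⟨y, hy⟩ trivial hyW).trans (hψ0 ⟨y, hy⟩).symm⟩
  obtain ⟨T, hT⟩ := CohTopLib.GermFam.isSoft_pull i F he hsep' A hA ψ hψ
  refine ⟨T, TopCat.Presheaf.section_ext ((CohTop.pull f).obj G : TopCat.Sheaf AddCommGrpCat _) ⊤ _ _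
    fun a _ => ?_⟩
  refine ((CohTopLib.GermFam.pullStalk_germ f G a ⊤ trivial T).symm).trans ?_
  refine (congrArg (CohTopLib.GermFam.pullStalk f G a) ((hT a.1 a.2).trans (hψ0 a))).trans ?_
  exact CohTopLib.GermFam.pullStalk_down f G _ a


end Groth.Agent.S8567
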