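import Groth.Statements.S8569
import Groth.Agent.TopLib.GiraudRep
import Groth.Agent.TopLib.SheafGiraud
import Groth.Agent.TopLib.Access
import Groth.Agent.TopLib.JointAxioms
import Mathlib.CategoryTheory.Adjunction.Evaluation
-- import your own Groth.Agent.* helpers here

set_option autoImplicit false
set_option linter.style.haveILetI false
open CategoryTheory
universe v u
open SGA4

namespace Groth.Agent.S8569

/-- Let E be a topos (a category equivalent to the category of sheaves of sets on a small site, for the
universe u) and D a u-small category. Then the category of functors D ⥤ E, which is the category of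
sections of the constant D-topos with value E, is a topos. (The published statement is for an
arbitrary D-topos, i.e. a category bifibred in topoi over D; this row is the case of a constant
one.) -/
theorem result {E : Type v} [Category.{u} E] (hE : SGA4.IsTopos E)
    (D : Type u) [SmallCategory D] : SGA4.IsTopos (D ⥤ E) := by
  obtain ⟨C, _, J, ⟨e⟩⟩ := hE
  obtain ⟨g₀⟩ := TopLib.sheaf_gen J
  have ax : TopLib.Axioms (D ⥤ Sheaf J (Type u)) :=
    TopLib.joint_axioms (fun d : D => (evaluation D (Sheaf J (Type u))).obj d)
      (fun m h => by
        haveI : ∀ d, IsIso (m.app d) := h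
        exact NatIso.isIso_of_isIso_app m)
      (TopLib.sheaf_axioms J)
  let gen : TopLib.Gen (D ⥤ Sheaf J (Type u)) :=
    { K := D × g₀.K
      obj := fun k => (evaluationLeftAdjoint (Sheaf J (Type u)) k.1).obj (g₀.obj k.2)
      det := fun {Z X} m _ h => by
        haveI : ∀ d, IsIso (m.app d) := fun d => g₀.det _ inferInstance fun k g => by
          obtain ⟨q, hq⟩ := h (d, k) (((evaluationAdjunctionRight (Sheaf J (Type u)) d).homEquiv _ _).symm g)
          refine ⟨(evaluationAdjunctionRight (Sheaf J (Type u)) d).homEquiv _ _ q, ?_⟩
          have := congrArg ((evaluationAdjunctionRight (Sheaf J (Type u)) d).homEquiv _ _) hq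
          rw [Equiv.apply_symm_apply, Adjunction.homEquiv_naturality_right] at this
          exact this
        exact NatIso.isIso_of_isIso_app m }
  obtain ⟨C', _, J', ⟨e'⟩⟩ := TopLib.isTopos_of_gen ax gen
  exact ⟨C', inferInstance, J', ⟨(Equivalence.congrRight e).trans e'⟩⟩

end Groth.Agent.S8569
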