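import Groth.Statements.S8570
import Groth.Agent.CohTopLib.ClosedCover
-- import your own Groth.Agent.* helpers here

set_option autoImplicit false
set_option backward.isDefEq.respectTransparency false
open CategoryTheory TopologicalSpace
universe u
open CohTop

namespace Groth.Agent.S8570

set_option maxHeartbeats 1600000 in
/-- Let (U_i), i in I, be a locally finite covering of a topological space X by closed subsets and F an
abelian sheaf on X. The disjoint union of the U_i is then of cohomological descent over X, and the
descent spectral sequence reads, in existence form: there is a bounded spectral sequence of abelian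
groups starting at page one, with E_1^{p,q} isomorphic for p, q ≥ 0 to the product, over all ordered
(p+1)-tuples of indices (i_0, ..., i_p), of the groups H^q(U_{i_0} ∩ ... ∩ U_{i_p}, F|(U_{i_0} ∩ ...
∩ U_{i_p})) (inverse image of F on the closed subspace) and zero otherwise, together with abutment
data whose filtrations are finite on H^n(X, F) for n ≥ 0 (zero for n < 0). (The E_1 identifications
and the abutment isomorphisms are asserted to exist only; the first differential, which is the
alternating sum of the restriction maps, is not part of this statement.) -/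
theorem result {X : TopCat.{u}} {I : Type u} (U : I → Set X)
    (hU : ∀ i, IsClosed (U i)) (hlf : LocallyFinite U) (hcov : ⋃ i, U i = Set.univ) (F : CohTop.Ab X) :
    ∃ (E : CohomologicalSpectralSequence AddCommGrpCat.{u} 1)
      (a : SpSeq.Abutment E (fun n : ℤ =>
        if 0 ≤ n then AddCommGrpCat.of (CohTop.H F n.toNat) else AddCommGrpCat.of PUnit.{u + 1})),
      (∀ n, a.IsFinite n) ∧ SpSeq.IsBounded E ∧
      ∀ p q : ℤ, Nonempty ((E.page 1 le_rfl).X (p, q) ≅
        (if 0 ≤ p ∧ 0 ≤ q then
          AddCommGrpCat.of (∀ σ : Fin (p.toNat + 1) → I,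
            CohTop.H ((CohTop.pull (TopCat.ofHom ⟨((↑) : (⋂ k, U (σ k) : Set X) → X), continuous_subtype_val⟩ :
              TopCat.of (⋂ k, U (σ k) : Set X) ⟶ X)).obj F) q.toNat)
         else AddCommGrpCat.of PUnit.{u + 1})) := by
  haveI := HasDerivedCategory.standard (CohTop.Ab X)
  haveI := CohTopLib.ClosedCover.quasiIso U hU hlf hcov F
  obtain ⟨E, a, h1, h2, h3, h4⟩ := CohTopLib.DescSS.exists_descent_of_exact (CohTopLib.ClosedCover.K U) F
  refine ⟨E, a, h1, h2, fun p q => ?_⟩
  let T : ℤ → ℤ → AddCommGrpCat.{u} := fun p q =>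
    AddCommGrpCat.of (∀ σ : Fin (p.toNat + 1) → I,
      CohTop.H ((CohTop.pull (TopCat.ofHom ⟨((↑) : (⋂ k, U (σ k) : Set X) → X), continuous_subtype_val⟩ :
        TopCat.of (⋂ k, U (σ k) : Set X) ⟶ X)).obj F) q.toNat)
  have hT : ∀ p q : ℕ, Nonempty ((E.page 1 le_rfl).X ((p : ℤ), (q : ℤ)) ≅ T p q) := fun p q => by
    obtain ⟨e⟩ := h3 p q
    obtain ⟨e'⟩ := CohTopLib.ClosedCover.nonempty_term_iso U hU hlf F p q
    refine ⟨e ≪≫ e' ≪≫ eqToIso ?_⟩
    simp only [T, Int.toNat_natCast]
  exact CohTopLib.DescSS.nonempty_page_iso T hT h4 p q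

end Groth.Agent.S8570
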