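import Groth.Statements.S8581
import Groth.Agent.EtRegAcycLib.PurityOne

set_option autoImplicit false
universe u
open CategoryTheory CategoryTheory.Limits AlgebraicGeometry Opposite
open EtDl

namespace Groth.Agent.S8581

/-- Let A be an excellent regular strictly henselian local ring containing Q, x an element of the
maximal ideal of A that is not in its square (a member of a regular system of parameters), U = Spec
A[1/x], and n ≥ 1. Then H^q(U_et, μ_n) = 0 for every q ≥ 2. (In degrees 0 and 1 the groups are
μ_n(A) and Z/n for every regular strictly local A. The published statement is for excellent regular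
strictly local rings of equal characteristic and n prime to the characteristic, and its proof
assumes resolution of singularities for excellent schemes, available in characteristic zero; hence
the restriction to Q-algebras, where every n ≥ 1 is allowed.) -/
theorem result (A : Type u) [CommRing A] [IsRegularLocalRing A]
    [Algebra ℚ A] (hA : EGA4.IsExcellent A) (hsh : EtCoh.IsStrictlyHenselianLocalRing A)
    (x : A) (hx : x ∈ IsLocalRing.maximalIdeal A) (hx2 : x ∉ (IsLocalRing.maximalIdeal A) ^ 2)
    (n : ℕ) (hn : 0 < n) (q : ℕ) (hq : 2 ≤ q) :
    Subsingleton (EtCoh.H (Spec (CommRingCat.of (Localization.Away x)))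
      (EtCoh.mu (Spec (CommRingCat.of (Localization.Away x))) n) q) := by
  obtain ⟨hh, hs⟩ := hsh
  haveI := hh
  haveI : IsSepClosed (IsLocalRing.ResidueField A) := hs
  exact EtRegAcycLib.subsingleton_H_punctured A x hx hx2 n hn q hq

end Groth.Agent.S8581
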