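import Groth.Statements.S8585
import Groth.Agent.EtRegAcycLib.Main
import Groth.Agent.EtULABCLib.Main

set_option autoImplicit false
universe u
open CategoryTheory CategoryTheory.Limits AlgebraicGeometry Opposite
open EtDl

namespace Groth.Agent.S8585

/-- Base change by a regular morphism: in characteristic zero: let f : X -> Y be a quasi-compact
quasi-separated morphism, g : Y' -> Y a regular morphism (every local homomorphism O_{Y,g y'} ->
O_{Y',y'} flat with Noetherian geometrically regular fibre rings) with Y and Y' locally Noetherian
schemes over Q all of whose affine opens have excellent coordinate rings, and X' = X x_Y Y' with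
projections g' : X' -> X and f' : X' -> Y'. Then for every torsion abelian sheaf F on X_et and every
q ≥ 0 the base change map g^* R^q f_* F -> R^q f'_* g'^* F is an isomorphism. (The exactness of g'^*
is carried as an instance hypothesis, the prelude's standing convention. The published statement is
for excellent schemes of equal characteristic and torsion prime to the characteristic, and its proof
assumes resolution of singularities for excellent schemes, available in characteristic zero; hence
the restriction to Q-schemes.) -/
theorem result {X Y X' Y' : Scheme.{u}} [IsLocallyNoetherian Y] [IsLocallyNoetherian Y']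
    (qY : Y ⟶ Spec (CommRingCat.of (ULift.{u} ℚ)))
    (hexc : ∀ V : Y.affineOpens, EGA4.IsExcellent Γ(Y, V.1))
    (hexc' : ∀ V : Y'.affineOpens, EGA4.IsExcellent Γ(Y', V.1))
    (f : X ⟶ Y) [QuasiCompact f] [QuasiSeparated f] (g : Y' ⟶ Y) (hg : EtDepth.IsRegularMor g)
    (f' : X' ⟶ Y') (g' : X' ⟶ X) (h : IsPullback g' f' f g)
    [PreservesFiniteLimits (EtCoh.pull g')]
    (F : EtCoh.Ab X) (hF : EtCoh.IsTorsion F) (q : ℕ) :
    IsIso (EtBC.bcQ f g f' g' h.w q F) := by
  have hL : ∀ p : ℕ, p.Prime → p ∈ EtAcyc.primesInvertibleOn Y := fun p hp =>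
    EtLimSmoothLib.primesInvertibleOn_subset qY (by
      rw [EtLimSmoothLib.primesInvertibleOn_field]
      exact ⟨hp, fun hc => hp.ne_zero (hc.trans (ringChar.eq_iff.2 inferInstance))⟩)
  refine EtULABCLib.isIso_bcQ_of_uloc (n := q) f g f' g' h
    (EtRegAcycLib.isULocAcyclic_of_isRegularMor qY hg q) F (fun U s x => ?_) q le_rfl
  obtain ⟨V, a, hv, hfin⟩ := hF U s x
  exact ⟨V, a, addOrderOf (F.obj.map a.op s), hv, ⟨hfin.addOrderOf_pos, fun p hp _ => hL p hp⟩,
    addOrderOf_nsmul_eq_zero _⟩

end Groth.Agent.S8585
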