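import Groth.Statements.S8586
import Mathlib.RingTheory.Ideal.KrullsHeightTheorem
import Mathlib.RingTheory.Ideal.MinimalPrime.Noetherian
-- import your own Groth.Agent.* helpers here

set_option autoImplicit false
universe u
open CAlg

namespace Groth.Agent.S8586

section
open IsLocalRing

variable {A : Type u} [CommRing A] [IsLocalRing A] [IsNoetherianRing A] {d : ℕ}

/-- A system of parameters. -/
def IsSOP (u : Fin d → A) : Prop :=
  (∀ i, u i ∈ maximalIdeal A) ∧ maximalIdeal A ≤ (Ideal.span (Set.range u)).radical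

/-- Altering one coordinate. -/
def Step (u v : Fin d → A) : Prop := IsSOP v ∧ ∃ i : Fin d, ∀ i' : Fin d, i' ≠ i → u i' = v i'

open Classical in
/-- The ideal of all coordinates but one. -/
noncomputable def others (u : Fin d → A) (j : Fin d) : Ideal A := Ideal.span ↑((Finset.univ.erase j).image u)

theorem minimalPrime_ne_maximal (hd : ringKrullDim A = d) (u : Fin d → A) (j : Fin d) {P : Ideal A}
    (hP : P ∈ (others u j).minimalPrimes) : P ≠ maximalIdeal A := by
  classical
  intro he
  have h1 : P.height ≤ (d - 1 : ℕ) := by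
    refine (Ideal.height_le_spanRank_toENat_of_mem_minimalPrimes _ P hP).trans ?_
    refine (Cardinal.toENat.monotone' (Submodule.spanRank_span_le_card _)).trans ?_
    show (↑((Finset.univ.erase j).image u) : Set A).encard ≤ _
    rw [Set.encard_coe_eq_coe_finsetCard, Nat.cast_le]
    exact Finset.card_image_le.trans (by simp)
  have h2 : (d : WithBot ℕ∞) ≤ ((d - 1 : ℕ) : ℕ∞) := by
    rw [← hd, ← IsLocalRing.maximalIdeal_height_eq_ringKrullDim, ← he]
    exact_mod_cast h1
  have := j.pos
  have h3 : d ≤ d - 1 := by exact_mod_cast h2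
  omega

theorem isSOP_update {u : Fin d → A} (hu : IsSOP u) (j : Fin d) {w : A} (hw : w ∈ maximalIdeal A)
    (hwP : ∀ P ∈ (others u j).minimalPrimes, w ∉ P) : IsSOP (Function.update u j w) := by
  classical
  constructor
  · intro i
    rcases eq_or_ne i j with rfl | h
    · rwa [Function.update_self]
    · rw [Function.update_of_ne h]; exact hu.1 i
  rw [Ideal.radical_eq_sInf]
  refine le_sInf fun Q ⟨hQ, hQp⟩ => ?_
  haveI := hQp
  have hwQ : w ∈ Q := hQ (Ideal.subset_span ⟨j, Function.update_self ..⟩)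
  have hoQ : others u j ≤ Q := by
    rw [others, Ideal.span_le]
    intro x hx
    obtain ⟨i, hi, rfl⟩ := Finset.mem_image.1 (Finset.mem_coe.1 hx)
    exact hQ (Ideal.subset_span ⟨i, Function.update_of_ne (Finset.ne_of_mem_erase hi) ..⟩)
  by_contra hne
  obtain ⟨P, hP, hPQ⟩ := Ideal.exists_minimalPrimes_le hoQ
  haveI := hP.1.1
  have hlt : P < Q := lt_of_le_of_ne hPQ fun he => hwP P hP (he.symm ▸ hwQ)
  have hQm : Q < maximalIdeal A := lt_of_le_of_ne (le_maximalIdeal hQp.ne_top) fun he => hne he.ge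
  have hm : maximalIdeal A ∈ (P ⊔ Ideal.span {u j}).minimalPrimes := by
    refine ⟨⟨inferInstance, sup_le (le_maximalIdeal hP.1.1.ne_top) ((Ideal.span_singleton_le_iff_mem _).2 (hu.1 j))⟩,
      fun R' ⟨hR', hle⟩ _ => ?_⟩
    refine hu.2.trans ((Ideal.IsPrime.radical_le_iff hR').2 (Ideal.span_le.2 ?_))
    rintro _ ⟨i, rfl⟩
    rcases eq_or_ne i j with rfl | h
    · exact hle (Ideal.mem_sup_right (Ideal.mem_span_singleton_self _))
    · exact hle (Ideal.mem_sup_left (hP.1.2 (Ideal.subset_span
        (Finset.mem_coe.2 (Finset.mem_image_of_mem u (Finset.mem_erase.2 ⟨h, Finset.mem_univ _⟩))))))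
  have h1 := Ideal.map_height_le_one_of_mem_minimalPrimes hm
  let f := Ideal.Quotient.mk P
  haveI : (Q.map f).IsPrime := Ideal.map_isPrime_of_surjective Ideal.Quotient.mk_surjective (by
    rw [Ideal.mk_ker]; exact hPQ)
  haveI : (⊥ : Ideal (A ⧸ P)).IsPrime := Ideal.isPrime_bot
  haveI : ((maximalIdeal A).map f).IsPrime := Ideal.map_isPrime_of_surjective Ideal.Quotient.mk_surjective (by
    rw [Ideal.mk_ker]; exact le_maximalIdeal hP.1.1.ne_top)
  have hcm : ∀ K : Ideal A, P ≤ K → (K.map f).comap f = K := fun K hK => by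
    rw [Ideal.comap_map_of_surjective f Ideal.Quotient.mk_surjective]
    refine sup_eq_left.2 ?_
    rw [← RingHom.ker_eq_comap_bot, Ideal.mk_ker]
    exact hK
  have e1 : (⊥ : Ideal (A ⧸ P)) < Q.map f := by
    refine bot_lt_iff_ne_bot.2 fun h0 => hlt.ne ?_
    rw [← hcm Q hPQ, h0, ← RingHom.ker_eq_comap_bot, Ideal.mk_ker]
  have e2 : Q.map f < (maximalIdeal A).map f := by
    refine lt_of_le_of_ne (Ideal.map_mono hQm.le) fun h0 => hQm.ne ?_
    rw [← hcm Q hPQ, h0, hcm _ (le_maximalIdeal hP.1.1.ne_top)]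
  have g1 := Order.add_one_le_of_lt (Ideal.height_strict_mono_of_isPrime_of_isPrime e1)
  have g2 := Order.add_one_le_of_lt (Ideal.height_strict_mono_of_isPrime_of_isPrime e2)
  have g3 : ((Q.map f).height + 1 : ℕ∞) ≤ 0 + 1 := by rw [zero_add]; exact g2.trans h1
  have g4 : (Q.map f).height ≤ 0 := (ENat.add_le_add_iff_right (by simp : (1 : ℕ∞) ≠ ⊤)).1 g3
  have g5 : (1 : ℕ∞) ≤ 0 := (le_add_self.trans g1).trans g4
  simp at g5

theorem exists_chain (hd : ringKrullDim A = d) : ∀ (k : ℕ) (u v : Fin d → A), IsSOP u → IsSOP v →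
    (∀ i : Fin d, k ≤ i.1 → u i = v i) → Relation.ReflTransGen Step u v := by
  classical
  intro k
  induction k with
  | zero =>
    intro u v _ _ h
    rw [show u = v from funext fun i => h i (Nat.zero_le _)]
  | succ k ih =>
    intro u v hu hv h
    rcases lt_or_ge k d with hk | hk
    swap
    · exact ih u v hu hv fun i hi => absurd i.2 (by omega)
    let j : Fin d := ⟨k, hk⟩
    have hfin : ((others u j).minimalPrimes ∪ (others v j).minimalPrimes).Finite :=
      (Ideal.finite_minimalPrimes_of_isNoetherianRing A _).union (Ideal.finite_minimalPrimes_of_isNoetherianRing A _)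
    obtain ⟨w, hw, hwP⟩ : ∃ w ∈ maximalIdeal A,
        ∀ P ∈ (others u j).minimalPrimes ∪ (others v j).minimalPrimes, w ∉ P := by
      by_contra hcon
      push_neg at hcon
      have hsub : (maximalIdeal A : Set A) ⊆ ⋃ P ∈ hfin.toFinset, (P : Set A) := fun x hx => by
        obtain ⟨P, hP, hxP⟩ := hcon x hx
        exact Set.mem_biUnion (hfin.mem_toFinset.2 hP) hxP
      obtain ⟨P, hP, hmP⟩ := (Ideal.subset_union_prime ⊥ ⊥ (fun i hi _ _ => by
        rcases hfin.mem_toFinset.1 hi with h' | h' <;> exact h'.1.1)).1 hsub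
      rcases hfin.mem_toFinset.1 hP with h' | h'
      · exact minimalPrime_ne_maximal hd u j h' (le_antisymm (le_maximalIdeal h'.1.1.ne_top) hmP)
      · exact minimalPrime_ne_maximal hd v j h' (le_antisymm (le_maximalIdeal h'.1.1.ne_top) hmP)
    have hu1 := isSOP_update hu j hw fun P hP => hwP P (Or.inl hP)
    have hv1 := isSOP_update hv j hw fun P hP => hwP P (Or.inr hP)
    refine (Relation.ReflTransGen.head ⟨hu1, j, fun i hi => (Function.update_of_ne hi ..).symm⟩
      (ih _ _ hu1 hv1 fun i hi => ?_)).tail ⟨hv, j, fun i hi => Function.update_of_ne hi ..⟩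
    rcases eq_or_ne i j with rfl | hij
    · rw [Function.update_self, Function.update_self]
    · rw [Function.update_of_ne hij, Function.update_of_ne hij]
      exact h i (by have : i.1 ≠ k := fun h' => hij (Fin.ext h'); omega)

theorem exists_fn {u v : Fin d → A} (h : Relation.ReflTransGen Step u v) (hu : IsSOP u) :
    ∃ (m : ℕ) (w : Fin (m + 1) → Fin d → A), w 0 = u ∧ w (Fin.last m) = v ∧ (∀ k, IsSOP (w k)) ∧
      ∀ k : Fin m, ∃ i : Fin d, ∀ i' : Fin d, i' ≠ i → w k.castSucc i' = w k.succ i' := by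
  induction h with
  | refl => exact ⟨0, fun _ => u, rfl, rfl, fun _ => hu, fun k => k.elim0⟩
  | tail _ hstep ih =>
    obtain ⟨m, w, h0, hl, hs, hc⟩ := ih
    rename_i b c _
    refine ⟨m + 1, Fin.snoc w c, ?_, Fin.snoc_last _ _, fun k => ?_, fun k => ?_⟩
    · rw [← Fin.castSucc_zero, Fin.snoc_castSucc, h0]
    · induction k using Fin.lastCases with
      | last => rw [Fin.snoc_last]; exact hstep.1
      | cast k => rw [Fin.snoc_castSucc]; exact hs k
    · induction k using Fin.lastCases with
      | last =>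
        obtain ⟨i, hi⟩ := hstep.2
        refine ⟨i, fun i' hi' => ?_⟩
        rw [Fin.snoc_castSucc, hl, Fin.succ_last, Fin.snoc_last]
        exact hi i' hi'
      | cast k =>
        obtain ⟨i, hi⟩ := hc k
        refine ⟨i, fun i' hi' => ?_⟩
        rw [Fin.snoc_castSucc, Fin.succ_castSucc, Fin.snoc_castSucc]
        exact hi i' hi'

end

/-- Suppose A is a Cohen–Macaulay local ring whose Krull dimension is d, and consider two systems of
parameters u = (u_1, ..., u_d) and v = (v_1, ..., v_d) of A (that is, d-tuples of elements of the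
maximal ideal m such that the ideal they generate has radical m). Then one can find a finite
sequence w_0 = u, w_1, ..., w_m = v, each term a system of parameters of A, where w_{k+1} arises
from w_k by altering just one coordinate. -/
theorem result (A : Type u) [CommRing A] [LocCoh.IsCohenMacaulayLocalRing A]
    (d : ℕ) (hd : ringKrullDim A = d) (u v : Fin d → A)
    (hu : ∀ i, u i ∈ IsLocalRing.maximalIdeal A) (hu' : IsLocalRing.maximalIdeal A ≤ (Ideal.span (Set.range u)).radical)
    (hv : ∀ i, v i ∈ IsLocalRing.maximalIdeal A) (hv' : IsLocalRing.maximalIdeal A ≤ (Ideal.span (Set.range v)).radical) :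
    ∃ (m : ℕ) (w : Fin (m + 1) → Fin d → A), w 0 = u ∧ w (Fin.last m) = v ∧
      (∀ k : Fin (m + 1), (∀ i, w k i ∈ IsLocalRing.maximalIdeal A) ∧
        IsLocalRing.maximalIdeal A ≤ (Ideal.span (Set.range (w k))).radical) ∧
      (∀ k : Fin m, ∃ i : Fin d, ∀ i' : Fin d, i' ≠ i → w k.castSucc i' = w k.succ i') := by
  exact exists_fn (exists_chain hd d u v ⟨hu, hu'⟩ ⟨hv, hv'⟩ fun i hi => absurd i.2 (by omega)) ⟨hu, hu'⟩

end Groth.Agent.S8586
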