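import Groth.Statements.S8589
import Groth.Agent.EtRegAcycLib.PurityParams

set_option autoImplicit false
universe u
open CategoryTheory CategoryTheory.Limits AlgebraicGeometry Opposite
open EtDl

namespace Groth.Agent.S8589

/-- In all degrees, in characteristic zero: let φ : A -> A' be a local homomorphism of excellent regular
strictly henselian local rings containing Q, and x_1, ..., x_r elements of A that form part of a
regular system of parameters of A (A/(x_1, ..., x_r) regular of dimension dim A - r) and whose
images form part of a regular system of parameters of A'. Put U = Spec A[1/(x_1⋯x_r)] and U' = Spec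
A'[1/φ(x_1⋯x_r)]. Then for every n ≥ 1 and every q the pullback map H^q(U_et, μ_n) -> H^q(U'_et,
μ_n) along the induced morphism U' -> U is bijective. (The exactness of the pullback functor is
carried as an instance hypothesis, the prelude's convention. The published lemma is stated in
degrees q ≤ N under an inductive hypothesis — the purity computation for one regular parameter in
degrees ≤ N — for rings of equal characteristic and n prime to the characteristic; once that
computation is established in all degrees the lemma holds in all degrees, and the proof of the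
latter assumes resolution of singularities for excellent schemes, available in characteristic zero;
hence the restriction to Q-algebras.) -/
theorem result
    (A A' : Type u) [CommRing A] [CommRing A'] [IsRegularLocalRing A] [IsRegularLocalRing A']
    [Algebra ℚ A] (hA : EGA4.IsExcellent A) (hA' : EGA4.IsExcellent A')
    (hsh : EtCoh.IsStrictlyHenselianLocalRing A) (hsh' : EtCoh.IsStrictlyHenselianLocalRing A')
    (φ : A →+* A') [IsLocalHom φ] (r : ℕ) (x : Fin r → A)
    (hx : IsRegularLocalRing (A ⧸ Ideal.span (Set.range x)))
    (hxd : ringKrullDim (A ⧸ Ideal.span (Set.range x)) + r = ringKrullDim A)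
    (hx' : IsRegularLocalRing (A' ⧸ Ideal.span (Set.range (fun i => φ (x i)))))
    (hxd' : ringKrullDim (A' ⧸ Ideal.span (Set.range (fun i => φ (x i)))) + r = ringKrullDim A')
    (n : ℕ) (hn : 0 < n) (q : ℕ)
    [PreservesFiniteLimits (EtCoh.pull (Spec.map (CommRingCat.ofHom (Localization.awayMap φ (∏ i, x i)))))] :
    Function.Bijective (EtCore.Hpull (Spec.map (CommRingCat.ofHom (Localization.awayMap φ (∏ i, x i))))
      (EtCoh.mu (Spec (CommRingCat.of (Localization.Away (∏ i, x i)))) n) q) := by
  obtain ⟨hh, hs⟩ := hsh
  obtain ⟨hh', hs'⟩ := hsh'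
  haveI := hh
  haveI := hh'
  haveI : IsSepClosed (IsLocalRing.ResidueField A) := hs
  haveI : IsSepClosed (IsLocalRing.ResidueField A') := hs'
  have hmem : ∀ i, x i ∈ IsLocalRing.maximalIdeal A := fun i => by
    haveI := hx
    exact IsLocalRing.le_maximalIdeal (Ideal.Quotient.nontrivial_iff.1 inferInstance)
      (Ideal.subset_span (Set.mem_range_self i))
  obtain ⟨V, _, _, _, _, _, t, f, hmV, hdimV, hV, hfl, hft⟩ := EtRegAcycLib.exists_param_source A r x hmem
  have reg : ∀ (B : Type u) [CommRing B] [IsRegularLocalRing B] (g : V →+* B) [IsLocalHom g] (z : Fin r → B),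
      (∀ i, g (t i) = z i) → IsRegularLocalRing (B ⧸ Ideal.span (Set.range z)) →
      ringKrullDim (B ⧸ Ideal.span (Set.range z)) + r = ringKrullDim B →
      @CAlg.IsRegularHom V _ B _ g.toAlgebra := by
    intro B _ _ g hgl z hz h1 h2
    letI := g.toAlgebra
    haveI : IsLocalHom (algebraMap V B) := hgl
    have hI : (IsLocalRing.maximalIdeal V).map (algebraMap V B) = Ideal.span (Set.range z) := by
      rw [hmV, Ideal.map_span, ← Set.range_comp]
      exact congrArg (fun u => Ideal.span (Set.range u)) (funext hz)
    haveI := h1
    refine EtRegAcycLib.isRegularHom_of_params hV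
      (IsRegularLocalRing.of_ringEquiv (Ideal.quotEquivOfEq hI).symm) ?_
    rw [ringKrullDim_eq_of_ringEquiv (Ideal.quotEquivOfEq hI), hdimV, add_comm]
    exact h2.symm
  haveI := hfl
  haveI : IsLocalHom (φ.comp f) := RingHom.isLocalHom_comp φ f
  exact EtRegAcycLib.bijective_Hpull_away f (φ.comp f) (∏ i, t i) φ hfl inferInstance
    (reg A f x hft hx hxd) (reg A' (φ.comp f) (fun i => φ (x i)) (fun i => congrArg φ (hft i)) hx' hxd') rfl
    (∏ i, x i) ((map_prod f t Finset.univ).trans (Finset.prod_congr rfl fun i _ => hft i)) n hn q

end Groth.Agent.S8589
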