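import Groth.Statements.S8591
import Mathlib.LinearAlgebra.Matrix.Charpoly.Minpoly
import Mathlib.LinearAlgebra.Charpoly.ToMatrix
import Mathlib.RingTheory.AdjoinRoot
import Mathlib.RingTheory.Norm.Basic
import Mathlib.FieldTheory.IsAlgClosed.AlgebraicClosure
import Mathlib.RingTheory.Localization.FractionRing
import Mathlib.Algebra.MvPolynomial.CommRing

set_option autoImplicit false
universe u
open CAlg

namespace Groth.Agent.S8591

open Polynomial

/-- Companion matrix. -/
def cmp {R : Type*} [CommRing R] (d : ℕ) (f : R[X]) : Matrix (Fin d) (Fin d) R :=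
  Matrix.of fun i j => if (j : ℕ) + 1 = d then -f.coeff i else if (i : ℕ) = j + 1 then 1 else 0

theorem cmp_map {R S : Type*} [CommRing R] [CommRing S] (φ : R →+* S) (d : ℕ) (f : R[X]) :
    (cmp d f).map φ = cmp d (f.map φ) := by
  ext i j
  simp only [cmp, Matrix.map_apply, Matrix.of_apply, Polynomial.coeff_map]
  split_ifs <;> simp

theorem minpolyGen_powerBasis' {R : Type*} [CommRing R] [Nontrivial R] {f : R[X]} (hf : f.Monic) :
    (AdjoinRoot.powerBasis' hf).minpolyGen = f := by
  set pb := AdjoinRoot.powerBasis' hf with hpb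
  by_contra h
  have hd : pb.minpolyGen.natDegree = f.natDegree := by
    rw [pb.natDegree_minpolyGen]; rfl
  have hdeg : pb.minpolyGen.degree = f.degree := by
    rw [degree_eq_natDegree pb.minpolyGen_monic.ne_zero, degree_eq_natDegree hf.ne_zero, hd]
  have hlt : (pb.minpolyGen - f).degree < pb.minpolyGen.degree :=
    degree_sub_lt_left hdeg pb.minpolyGen_monic.ne_zero
      (by rw [pb.minpolyGen_monic.leadingCoeff, hf.leadingCoeff])
  have h0 : aeval pb.gen (pb.minpolyGen - f) = 0 := by
    rw [map_sub, pb.aeval_minpolyGen, zero_sub, neg_eq_zero, hpb, AdjoinRoot.powerBasis'_gen,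
      AdjoinRoot.aeval_eq, AdjoinRoot.mk_self]
  have := pb.dim_le_degree_of_root (sub_ne_zero.mpr h) h0
  rw [degree_eq_natDegree pb.minpolyGen_monic.ne_zero, pb.natDegree_minpolyGen] at hlt
  exact (lt_irrefl _) (lt_of_le_of_lt this hlt)

theorem leftMulMatrix_root {R : Type*} [CommRing R] [Nontrivial R] {f : R[X]} (hf : f.Monic) :
    Algebra.leftMulMatrix (AdjoinRoot.powerBasis' hf).basis (AdjoinRoot.powerBasis' hf).gen =
      cmp (AdjoinRoot.powerBasis' hf).dim f := by
  rw [(AdjoinRoot.powerBasis' hf).leftMulMatrix, minpolyGen_powerBasis' hf]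
  rfl

theorem charpoly_cmp {R : Type*} [CommRing R] [Nontrivial R] {f : R[X]} (hf : f.Monic) {d : ℕ}
    (hd : f.natDegree = d) : (cmp d f).charpoly = f := by
  subst hd
  have h := charpoly_leftMulMatrix (AdjoinRoot.powerBasis' hf)
  rw [leftMulMatrix_root hf, ← PowerBasis.minpolyGen_eq, minpolyGen_powerBasis' hf] at h
  exact h

theorem det_aeval_of_isAlgClosed {K : Type*} [Field K] [IsAlgClosed K] {n : Type*} [Fintype n]
    [DecidableEq n] (M : Matrix n n K) (P : K[X]) :
    (aeval M P).det = P.leadingCoeff ^ Fintype.card n *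
      (P.roots.map fun r => (-1 : K) ^ Fintype.card n * M.charpoly.eval r).prod := by
  conv_lhs => rw [(IsAlgClosed.splits P).eq_prod_roots]
  rw [map_mul, Matrix.det_mul, aeval_C, Algebra.algebraMap_eq_smul_one, Matrix.det_smul,
    Matrix.det_one, mul_one]
  congr 1
  induction P.roots using Multiset.induction_on with
  | empty => simp
  | cons r s ih =>
    simp only [Multiset.map_cons, Multiset.prod_cons, map_mul, Matrix.det_mul, ih]
    congr 1
    rw [map_sub, aeval_X, aeval_C, Matrix.eval_charpoly, ← Matrix.det_neg, neg_sub]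
    rfl

theorem map_aeval_matrix {R S : Type*} [CommRing R] [CommRing S] (φ : R →+* S) {n : Type*} [Fintype n]
    [DecidableEq n] (M : Matrix n n R) (P : R[X]) :
    (aeval M P).map φ = aeval (M.map φ) (P.map φ) := by
  rw [← RingHom.mapMatrix_apply, ← RingHom.mapMatrix_apply, aeval_def, aeval_def, hom_eval₂,
    eval₂_map]
  congr 1
  ext r i j
  by_cases h : i = j <;> simp [Matrix.algebraMap_matrix_apply, h]

theorem det_aeval_eq {R : Type*} [CommRing R] {n : Type*} [Fintype n] [DecidableEq n]
    (M : Matrix n n R) (P : R[X]) :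
    (aeval M P).det = (aeval (cmp (Fintype.card n) M.charpoly) P).det := by
  let σ : Type _ := (n × n) ⊕ Fin (P.natDegree + 1)
  let R₀ := MvPolynomial σ ℤ
  let M₀ : Matrix n n R₀ := Matrix.of fun i j => MvPolynomial.X (Sum.inl (i, j))
  let P₀ : R₀[X] := ∑ i : Fin (P.natDegree + 1), C (MvPolynomial.X (Sum.inr i)) * X ^ (i : ℕ)
  let φ : R₀ →+* R :=
    MvPolynomial.eval₂Hom (Int.castRingHom R) (Sum.elim (fun ij => M ij.1 ij.2) (fun i => P.coeff i))
  have hM : M₀.map φ = M := by ext i j; exact MvPolynomial.eval₂_X _ _ _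
  have hP : P₀.map φ = P := by
    conv_rhs => rw [P.as_sum_range_C_mul_X_pow, Finset.sum_range]
    rw [Polynomial.map_sum]
    refine Finset.sum_congr rfl fun i _ => ?_
    rw [Polynomial.map_mul, Polynomial.map_C, Polynomial.map_pow, Polynomial.map_X,
      show φ (MvPolynomial.X (Sum.inr i)) = P.coeff i from MvPolynomial.eval₂_X _ _ _]
  suffices h : (aeval M₀ P₀).det = (aeval (cmp (Fintype.card n) M₀.charpoly) P₀).det by
    have := congrArg φ h
    rwa [RingHom.map_det, RingHom.map_det, RingHom.mapMatrix_apply, RingHom.mapMatrix_apply,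
      map_aeval_matrix, map_aeval_matrix, hM, hP, cmp_map, ← Matrix.charpoly_map, hM] at this
  let K := AlgebraicClosure (FractionRing R₀)
  have hinj : Function.Injective (algebraMap R₀ K) := by
    rw [IsScalarTower.algebraMap_eq R₀ (FractionRing R₀) K]
    exact (algebraMap (FractionRing R₀) K).injective.comp (IsFractionRing.injective R₀ _)
  apply hinj
  rw [RingHom.map_det, RingHom.map_det, RingHom.mapMatrix_apply, RingHom.mapMatrix_apply,
    map_aeval_matrix, map_aeval_matrix, cmp_map, ← Matrix.charpoly_map, det_aeval_of_isAlgClosed,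
    det_aeval_of_isAlgClosed, Fintype.card_fin,
    charpoly_cmp (Matrix.charpoly_monic _) (Matrix.charpoly_natDegree_eq_dim _)]


/-- Let k be a commutative ring, M a finite free k-module, u an endomorphism of M with characteristic
polynomial χ, and P a polynomial over k. Then the norm, from the k-algebra k[T]/(χ) (free of rank
the rank of M) down to k, of the class of P(T) equals det(P(u)). (The published statement writes the
quotient by det(u - T), which generates the same ideal as χ(T) = det(T - u).) -/
theorem result (k : Type u) [CommRing k] (M : Type u) [AddCommGroup M] [Module k M]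
    [Module.Free k M] [Module.Finite k M] (u : M →ₗ[k] M) (P : Polynomial k) :
    Algebra.norm k (AdjoinRoot.mk u.charpoly P) = LinearMap.det (Polynomial.aeval u P) := by
  classical
  rcases subsingleton_or_nontrivial k with h | h
  · exact Subsingleton.elim _ _
  let b := Module.Free.chooseBasis k M
  have hmon := LinearMap.charpoly_monic u
  rw [← LinearMap.det_toMatrix b]
  show _ = (((LinearMap.toMatrixAlgEquiv b).toAlgHom : (M →ₗ[k] M) →ₐ[k] _) (Polynomial.aeval u P)).det
  rw [← Polynomial.aeval_algHom_apply]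
  rw [det_aeval_eq]
  show _ = (Polynomial.aeval (cmp _ (LinearMap.toMatrix b b u).charpoly) P).det
  rw [LinearMap.charpoly_toMatrix, ← Module.finrank_eq_card_basis b,
    Algebra.norm_eq_matrix_det (AdjoinRoot.powerBasis' hmon).basis]
  have hdim : (AdjoinRoot.powerBasis' hmon).dim = Module.finrank k M := LinearMap.charpoly_natDegree u
  rw [← hdim, ← leftMulMatrix_root hmon, Polynomial.aeval_algHom_apply, AdjoinRoot.powerBasis'_gen,
    AdjoinRoot.aeval_eq]

end Groth.Agent.S8591
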