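import Groth.Statements.S8592
import Groth.Agent.EtRegAcycLib.Strict

set_option autoImplicit false
universe u
open CategoryTheory CategoryTheory.Limits AlgebraicGeometry Opposite
open EtDl

namespace Groth.Agent.S8592

/-- Let A -> A' be a local regular homomorphism (flat with Noetherian geometrically regular fibre rings)
of excellent strictly henselian local rings containing Q, f : X -> Spec A a quasi-compact
quasi-separated morphism, X' = X x_{Spec A} Spec A' with projection g' : X' -> X, and F a torsion
abelian sheaf on X_et. Then the pullback map H^q(X_et, F) -> H^q(X'_et, g'^* F) is bijective for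
every q. (The exactness of g'^* is carried as an instance hypothesis, the prelude's convention. The
published statement allows an arbitrary morphism f, does not require the homomorphism A -> A' to be
local, and is for rings of equal characteristic with torsion prime to the characteristic. Without
locality it fails: for A a strictly henselian excellent discrete valuation ring containing Q, A' an
algebraic closure of its fraction field (a field, hence strictly henselian and excellent, and
regular over A) and X the closed point of Spec A, the base change X' is empty while H^0(X_et, Z/n) =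
Z/n for n ≥ 2; the published proof passes through the strict localizations at the closed points,
i.e. proves the local case, so locality is required here. Its proof also assumes resolution of
singularities for excellent schemes, available in characteristic zero; hence the restriction to
Q-algebras.) -/
theorem result
    (A A' : Type u) [CommRing A] [CommRing A'] [IsLocalRing A] [IsLocalRing A'] [Algebra ℚ A] [Algebra A A']
    [IsLocalHom (algebraMap A A')]
    (hA : EGA4.IsExcellent A) (hA' : EGA4.IsExcellent A')
    (hsh : EtCoh.IsStrictlyHenselianLocalRing A) (hsh' : EtCoh.IsStrictlyHenselianLocalRing A')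
    (hreg : CAlg.IsRegularHom A A')
    {X : Scheme.{u}} (f : X ⟶ Spec (CommRingCat.of A)) [QuasiCompact f] [QuasiSeparated f]
    (F : EtCoh.Ab X) (hF : EtCoh.IsTorsion F) (q : ℕ)
    [PreservesFiniteLimits (EtCoh.pull (pullback.fst f (Spec.map (CommRingCat.ofHom (algebraMap A A')))))] :
    Function.Bijective (EtCore.Hpull (pullback.fst f (Spec.map (CommRingCat.ofHom (algebraMap A A')))) F q) := by
  obtain ⟨hh, hs⟩ := hsh
  obtain ⟨hh', hs'⟩ := hsh'
  haveI := hh
  haveI := hh'
  haveI : IsSepClosed (IsLocalRing.ResidueField A) := hs
  haveI : IsSepClosed (IsLocalRing.ResidueField A') := hs'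
  haveI := hA.1
  haveI := hA'.1
  let qA : Spec (CommRingCat.of A) ⟶ Spec (CommRingCat.of (ULift.{u} ℚ)) :=
    Spec.map (CommRingCat.ofHom ((algebraMap ℚ A).comp ULift.ringEquiv.toRingHom))
  have hL : ∀ p : ℕ, p.Prime → p ∈ EtAcyc.primesInvertibleOn (Spec (CommRingCat.of A)) := fun p hp =>
    EtLimSmoothLib.primesInvertibleOn_subset qA (by
      rw [EtLimSmoothLib.primesInvertibleOn_field]
      exact ⟨hp, fun hc => hp.ne_zero (hc.trans (ringChar.eq_iff.2 inferInstance))⟩)
  refine ((EtRegAcycLib.compN_indSmooth (TransLib.indSmooth_of_isRegularHom hreg) f _ (pullback.snd f _)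
    (IsPullback.of_hasPullback f _) q) F (fun U s x => ?_)).1 q le_rfl
  obtain ⟨V, a, hv, hfin⟩ := hF U s x
  exact ⟨V, a, addOrderOf (F.obj.map a.op s), hv, ⟨hfin.addOrderOf_pos, fun p hp _ => hL p hp⟩,
    addOrderOf_nsmul_eq_zero _⟩

end Groth.Agent.S8592
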