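import Groth.Statements.S8596
import Mathlib
import Groth.Agent.RichLib.PointwiseTor

set_option autoImplicit false
universe u
open CategoryTheory CategoryTheory.Limits
open CAlg

namespace Groth.Agent.S8596

/-- Case of a complex reduced to a single module in degree 0: let A be a commutative Noetherian ring, M
an A-module (not necessarily finitely generated) and n ≥ 0. Then M has tor-dimension at most n —
Tor_i^A(N, M) = 0 for every A-module N and every i > n, the Tor being the left derived functors of N
⊗ - evaluated at M — if and only if Tor_i^A(k(x), M) = 0 for every prime ideal x of A, with residue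
field k(x), and every i > n. (The published statement gives the equivalence for bounded-above
complexes K and the derived tensor product K ⊗^L k(x); this is the case K = M[0].) -/
theorem result (A : Type u) [CommRing A] [IsNoetherianRing A]
    (M : ModuleCat.{u} A) (n : ℕ) :
    (∀ (N : ModuleCat.{u} A) (i : ℕ), n < i → IsZero (((Tor (ModuleCat.{u} A) i).obj N).obj M)) ↔
    (∀ (x : Ideal A) [x.IsPrime] (i : ℕ), n < i →
      IsZero (((Tor (ModuleCat.{u} A) i).obj (ModuleCat.of A x.ResidueField)).obj M)) := by
  let P := projectiveResolution M
  haveI : ∀ i, Module.Flat A (P.complex.X i) := fun i => by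
    have : Module.Projective A (P.complex.X i) := (IsProjective.iff_projective _).2 (P.projective i)
    infer_instance
  let d : ∀ i, P.complex.X (i + 1) →ₗ[A] P.complex.X i := fun i => (P.complex.d (i + 1) i).hom
  have hdd : ∀ i, d i ∘ₗ d (i + 1) = 0 := fun i =>
    congrArg ModuleCat.Hom.hom (P.complex.d_comp_d (i + 1 + 1) (i + 1) i)
  have key : ∀ (N : ModuleCat.{u} A) (p : ℕ),
      IsZero (((Tor (ModuleCat.{u} A) (p + 1)).obj N).obj M) ↔
        Function.Exact ((d (p + 1)).lTensor N) ((d p).lTensor N) := by
    intro N p
    let F := (MonoidalCategory.tensoringLeft (ModuleCat.{u} A)).obj N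
    let K := (F.mapHomologicalComplex (ComplexShape.down ℕ)).obj P.complex
    have h1 : IsZero (((Tor (ModuleCat.{u} A) (p + 1)).obj N).obj M) ↔ K.ExactAt (p + 1) := by
      rw [K.exactAt_iff_isZero_homology]
      exact (P.isoLeftDerivedObj F (p + 1)).isZero_iff
    rw [h1, K.exactAt_iff' (p + 2) (p + 1) p (by simp only [ChainComplex.prev]; rfl) (by simp)]
    exact ShortComplex.ShortExact.moduleCat_exact_iff_function_exact _
  constructor
  · exact fun h x _ i hi => h _ i hi
  · intro h N i hi
    obtain ⟨p, rfl⟩ : ∃ p, i = p + 1 := ⟨i - 1, by omega⟩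
    rw [key]
    refine RichLib.PointwiseTor.good_of_residueField (X := fun i => P.complex.X i) (d := d) hdd
      (n := n) (fun x _ j hj => ?_) N p (by omega)
    exact (key (ModuleCat.of A x.ResidueField) j).1 (h x (j + 1) (by omega))

end Groth.Agent.S8596
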