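import Groth.Statements.S8597
import Mathlib
import Groth.Agent.RichLib.TorConeIso

set_option autoImplicit false
universe u
open CategoryTheory CategoryTheory.Limits
open CAlg

namespace Groth.Agent.S8597

/-- Case of modules placed in degree 0: let A be a commutative Noetherian ring and u : M -> N a
homomorphism of A-modules such that for every prime ideal x of A, with residue field k(x), and every
i ≥ 0, the induced map Tor_i^A(k(x), M) -> Tor_i^A(k(x), N) (left derived functors of k(x) ⊗ -) is
an isomorphism. Then u is an isomorphism. (The published statement is for a morphism of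
bounded-above complexes and the derived tensor products with k(x); this is the case of two modules.) -/
theorem result (A : Type u) [CommRing A] [IsNoetherianRing A]
    {M N : ModuleCat.{u} A} (u : M ⟶ N)
    (h : ∀ (x : Ideal A) [x.IsPrime] (i : ℕ),
      IsIso (((Tor (ModuleCat.{u} A) i).obj (ModuleCat.of A x.ResidueField)).map u)) :
    IsIso u := by
  let P := projectiveResolution M
  let P' := projectiveResolution N
  let Φ := ProjectiveResolution.lift u P P'
  let X : ℕ → ModuleCat.{u} A := fun i => P.complex.X i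
  let X' : ℕ → ModuleCat.{u} A := fun i => P'.complex.X i
  let d : ∀ i, X (i + 1) →ₗ[A] X i := fun i => (P.complex.d (i + 1) i).hom
  let d' : ∀ i, X' (i + 1) →ₗ[A] X' i := fun i => (P'.complex.d (i + 1) i).hom
  let φ : ∀ i, X i →ₗ[A] X' i := fun i => (Φ.f i).hom
  have hd : ∀ i, d i ∘ₗ d (i + 1) = 0 := fun i =>
    congrArg ModuleCat.Hom.hom (P.complex.d_comp_d (i + 1 + 1) (i + 1) i)
  have hd' : ∀ i, d' i ∘ₗ d' (i + 1) = 0 := fun i =>
    congrArg ModuleCat.Hom.hom (P'.complex.d_comp_d (i + 1 + 1) (i + 1) i)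
  have hc : ∀ i, φ i ∘ₗ d i = d' i ∘ₗ φ (i + 1) := fun i =>
    congrArg ModuleCat.Hom.hom (Φ.comm (i + 1) i).symm
  haveI hflat : ∀ i, Module.Flat A (RichLib.TorConeIso.Y X X' i) := by
    haveI : ∀ i, Module.Projective A (X i) := fun i => (IsProjective.iff_projective _).2 (P.projective i)
    haveI : ∀ i, Module.Projective A (X' i) := fun i => (IsProjective.iff_projective _).2 (P'.projective i)
    intro i
    match i with
    | 0 => exact (inferInstance : Module.Flat A PUnit.{u + 1})
    | 1 => exact (inferInstance : Module.Flat A (X' 0))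
    | j + 2 => exact (inferInstance : Module.Flat A (X j × X' (j + 1)))
  have hDD := RichLib.TorConeIso.D_D d d' φ hd hd' hc
  have hgood : ∀ x : Ideal A, ∀ [x.IsPrime],
      RichLib.PointwiseTor.Good (fun i => RichLib.TorConeIso.Y X X' i)
        (RichLib.TorConeIso.D d d' φ) 0 x.ResidueField := by
    intro x _
    let F := (MonoidalCategory.tensoringLeft (ModuleCat.{u} A)).obj (ModuleCat.of A x.ResidueField)
    let G := F.mapHomologicalComplex (ComplexShape.down ℕ)
    have hq : ∀ i, QuasiIsoAt (G.map Φ) i := by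
      intro i
      rw [quasiIsoAt_iff_isIso_homologyMap]
      haveI : IsIso ((F.leftDerived i).map u) := h x i
      have e := ProjectiveResolution.isoLeftDerivedObj_hom_naturality u P P' Φ
        (ProjectiveResolution.lift_commutes_zero u P P') F i
      have h2 : IsIso ((P.isoLeftDerivedObj F i).hom ≫ HomologicalComplex.homologyMap (G.map Φ) i) := by
        show IsIso ((P.isoLeftDerivedObj F i).hom ≫
          (F.mapHomologicalComplex _ ⋙ HomologicalComplex.homologyFunctor _ _ i).map Φ)
        rw [← e]; infer_instance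
      exact IsIso.of_isIso_comp_left (P.isoLeftDerivedObj F i).hom _
    have hq0 := (quasiIsoAt_iff' (G.map Φ) 1 0 0 (by simp only [ChainComplex.prev]; rfl)
      (by simp)).1 (hq 0)
    have hqs := fun i => (quasiIsoAt_iff' (G.map Φ) (i + 2) (i + 1) i
      (by simp only [ChainComplex.prev]; rfl) (by simp)).1 (hq (i + 1))
    obtain ⟨h0i, h0s⟩ := @RichLib.TorConeIso.quasiIso_elements _ _ _ _ _ hq0
    have hg0 : ∀ (K : ChainComplex (ModuleCat.{u} A) ℕ) (z : K.X 0), (K.d 0 0).hom z = 0 := fun K z => by
      rw [K.shape 0 0 (by simp)]; rfl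
    refine RichLib.TorConeIso.cone_exact d d' φ hc _ hDD (fun y => ?_) (fun a b hab => ?_)
      (fun i y hy => (@RichLib.TorConeIso.quasiIso_elements _ _ _ _ _ (hqs i)).2 y hy)
      (fun i a b ha hab => (@RichLib.TorConeIso.quasiIso_elements _ _ _ _ _ (hqs i)).1 a b ha hab)
    · obtain ⟨a, b, -, hab⟩ := h0s y (hg0 (G.obj P'.complex) y)
      exact ⟨a, b, hab⟩
    · exact h0i a b (hg0 (G.obj P.complex) a) hab
  have hA : ∀ i, Function.Exact (RichLib.TorConeIso.D d d' φ (i + 1)) (RichLib.TorConeIso.D d d' φ i) := by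
    intro i
    exact (Function.Exact.iff_of_ladder_linearEquiv (e₁ := TensorProduct.lid A _)
      (e₂ := TensorProduct.lid A _) (e₃ := TensorProduct.lid A _)
      (by ext z; simp) (by ext z; simp)).mpr
      (RichLib.PointwiseTor.good_of_residueField hDD hgood A i (Nat.zero_le i))
  have hεs : Function.Surjective (P.π.f 0).hom := (ModuleCat.epi_iff_surjective _).1 inferInstance
  have hεs' : Function.Surjective (P'.π.f 0).hom := (ModuleCat.epi_iff_surjective _).1 inferInstance
  have hu : ∀ a, (P'.π.f 0).hom (φ 0 a) = u.hom ((P.π.f 0).hom a) := fun a =>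
    ConcreteCategory.congr_hom (ProjectiveResolution.lift_commutes_zero u P P') a
  have hεd : ∀ a, (P.π.f 0).hom (d 0 a) = 0 := fun a =>
    ConcreteCategory.congr_hom P.complex_d_comp_π_f_zero a
  have hεd' : ∀ a, (P'.π.f 0).hom (d' 0 a) = 0 := fun a =>
    ConcreteCategory.congr_hom P'.complex_d_comp_π_f_zero a
  rw [ConcreteCategory.isIso_iff_bijective]
  refine ⟨(injective_iff_map_eq_zero _).2 fun m hm => ?_, fun n => ?_⟩
  · obtain ⟨a, rfl⟩ := hεs m
    have h1 : (P'.π.f 0).hom (φ 0 a) = 0 := (hu a).trans hm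
    obtain ⟨b, hb⟩ := ((ShortComplex.ShortExact.moduleCat_exact_iff_function_exact _).1
      (ProjectiveResolution.exact₀ P') (φ 0 a)).1 h1
    obtain ⟨⟨a', b'⟩, hab⟩ := (hA 1 ((a, -b) : X 0 × X' 1)).1 (by
      show φ 0 a + d' 0 (-b) = 0
      rw [map_neg, ← hb]; exact add_neg_cancel _)
    have h2 : -(d 0 a') = a := congrArg Prod.fst hab
    show (P.π.f 0).hom a = 0
    rw [← h2, map_neg, hεd, neg_zero]
  · obtain ⟨y, rfl⟩ := hεs' n
    obtain ⟨⟨a, b⟩, hab⟩ := (hA 0 y).1 rfl
    refine ⟨(P.π.f 0).hom a, ?_⟩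
    show u.hom _ = _
    rw [← hu, show y = φ 0 a + d' 0 b from hab.symm]
    show (P'.π.f 0).hom (φ 0 a) = _
    rw [map_add, hεd', add_zero]

end Groth.Agent.S8597
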