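import Groth.Statements.S8599
import Groth.Agent.ShriekBCLib.Main
-- import your own Groth.Agent.* helpers here

set_option autoImplicit false
universe u
open CategoryTheory CategoryTheory.Limits AlgebraicGeometry Opposite
open EtDl

namespace Groth.Agent.S8599

open Groth.Agent.EtShLib in
theorem iso_comp_preι {X Y : Scheme.{u}} (f : X ⟶ Y) [LocallyOfFiniteType f] (F : EtCoh.Ab X) :
    (lowerShriekIso f).hom.app F ≫ (preι f).app F = EtShriek.lowerShriekToPush f F := by
  refine ((sheafificationAdjunction Y.smallEtaleTopology AddCommGrpCat.{u + 1}).counit.naturality ((preι f).app F)).symm.trans ?_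
  exact (Adjunction.homEquiv_counit _ _ _ _).symm

/-- Let f : X -> S be separated and locally of finite type, g : S' -> S any morphism, X' = X x_S S' with
projections g' : X' -> X and f' : X' -> S', and F an abelian sheaf on X_et. Then there is a base
change isomorphism g^* f_! F ≅ f'_! g'^* F (f_! = sections of f_* with proper support over the base)
compatible with the inclusions f_! -> f_*, f'_! -> f'_* and the base change map g^* f_* F -> f'_*
g'^* F: the square formed by these four maps commutes. (Since f'_! g'^* F -> f'_* g'^* F is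
injective, such an isomorphism is unique.) -/
theorem result {X S X' S' : Scheme.{u}} (f : X ⟶ S) [IsSeparated f]
    [LocallyOfFiniteType f] (g : S' ⟶ S) (f' : X' ⟶ S') (g' : X' ⟶ X) (h : IsPullback g' f' f g)
    (F : EtCoh.Ab X) :
    ∃ φ : (EtCoh.pull g).obj ((EtShriek.lowerShriek f).obj F) ≅ (EtShriek.lowerShriek f').obj ((EtCoh.pull g').obj F),
      φ.hom ≫ EtShriek.lowerShriekToPush f' ((EtCoh.pull g').obj F) =
        (EtCoh.pull g).map (EtShriek.lowerShriekToPush f F) ≫ EtCoh.baseChange0 f g f' g' h.w F := by
  haveI : LocallyOfFiniteType f' := MorphismProperty.of_isPullback h ‹_›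
  let u : F ⟶ (EtCoh.push g').obj ((EtCoh.pull g').obj F) := (EtCoh.pullPushAdj g').unit.app F
  haveI : IsIso (EtContLib.adjL g' u) := by
    rw [show EtContLib.adjL g' u = 𝟙 _ from (EtCoh.pullPushAdj g').left_triangle_components F]
    infer_instance
  haveI := ShriekBCLib.isIso_adjL_B h u ShriekBCLib.surj_of_separated
  refine ⟨(EtCoh.pull g).mapIso ((Groth.Agent.EtShLib.lowerShriekIso f).app F) ≪≫
    asIso (EtContLib.adjL g (ShriekBCLib.B h u)) ≪≫
    ((Groth.Agent.EtShLib.lowerShriekIso f').app _).symm, ?_⟩
  have e2 : EtContLib.adjL g (ShriekBCLib.B h u) ≫ (Groth.Agent.EtShLib.preι f').app _ =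
      (EtCoh.pull g).map ((Groth.Agent.EtShLib.preι f).app F) ≫ EtCoh.baseChange0 f g f' g' h.w F := by
    refine (Adjunction.homEquiv_naturality_right_symm _ _ _).symm.trans ?_
    refine (congrArg ((EtCoh.pullPushAdj g).homEquiv _ _).symm (ShriekBCLib.B_preι h u)).trans ?_
    exact Adjunction.homEquiv_naturality_left_symm _ _ _
  simp only [Iso.trans_hom, Functor.mapIso_hom, Iso.app_hom, asIso_hom, Iso.symm_hom, Iso.app_inv, Category.assoc]
  rw [← iso_comp_preι f', Iso.inv_hom_id_app_assoc, e2, ← iso_comp_preι f, Functor.map_comp, Category.assoc]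

end Groth.Agent.S8599
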