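import Groth.Statements.S8604
import Groth.Agent.IsocLib.Lang
import Mathlib

set_option autoImplicit false
universe u
open CAlg

namespace Groth.Agent.S8604

section
variable {k : Type u} [Field k] {V : Type u} [AddCommGroup V] [Module k V] [FiniteDimensional k V]

theorem inj_of_surj {ρ : k ≃+* k} (φ : V →ₛₗ[(ρ : k →+* k)] V) (h : Function.Surjective φ) :
    Function.Injective φ := by
  let b := Module.finBasis k V
  have hsp : ⊤ ≤ Submodule.span k (Set.range (φ ∘ b)) := by
    intro y _
    obtain ⟨x, rfl⟩ := h y
    rw [← b.sum_repr x, map_sum]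
    refine sum_mem fun i _ => ?_
    rw [LinearMap.map_smulₛₗ]
    exact Submodule.smul_mem _ _ (Submodule.subset_span ⟨i, rfl⟩)
  have hli := linearIndependent_of_top_le_span_of_card_eq_finrank hsp (Fintype.card_fin _)
  refine (injective_iff_map_eq_zero φ).2 fun x hx => ?_
  rw [← b.sum_repr x, map_sum] at hx
  simp_rw [LinearMap.map_smulₛₗ] at hx
  have h0 := Fintype.linearIndependent_iff.1 hli _ hx
  rw [← b.sum_repr x]
  exact Finset.sum_eq_zero fun i _ => by rw [(map_eq_zero (ρ : k →+* k)).1 (h0 i), zero_smul]

end

theorem fixed_scalar (p : ℕ) [Fact p.Prime] {k : Type u} [Field k] [CharP k p] {c : k} (h : c ^ p = c) :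
    ∃ z : ℤ, (z : k) = c :=
  (mem_bot_iff_intCast p k).1 ((Subfield.mem_bot_iff_pow_eq_self k p).2 h)


/-- Over an algebraically closed field: let k be an algebraically closed field of characteristic p > 0,
V a finite-dimensional k-vector space and F : V -> V a p-linear endomorphism (additive with F(a·v) =
a^p·F(v)). Let V^F be the set of vectors fixed by F (an F_p-subspace), V_0 the k-span of V^F and V_n
the k-span of the vectors killed by some iterate of F (these already form an F-stable subspace on
which F is nilpotent). Then V = V_0 ⊕ V_n, and V^F ⊗ k -> V_0 is bijective in the sense that any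
finitely many F-fixed vectors linearly independent over Z/p (every vanishing integer combination has
all coefficients divisible by p) are linearly independent over k. (The published statement asserts
this decomposition, with V^F ⊗ k ≅ V_0, for every PERFECT field k; that is false when k is not
separably closed — for k = Z/3, V = k and F = multiplication by 2 there are no nonzero fixed vectors
although F is bijective — and the decomposition is stated here over an algebraically closed field,
the case in which it holds.) -/
theorem result (p : ℕ) [Fact p.Prime] (k : Type u) [Field k]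
    [IsAlgClosed k] [CharP k p] (V : Type u) [AddCommGroup V] [Module k V] [FiniteDimensional k V]
    (F : V →+ V) (hF : ∀ (a : k) (v : V), F (a • v) = a ^ p • F v) :
    IsCompl (Submodule.span k {v : V | F v = v})
        (Submodule.span k {v : V | ∃ m : ℕ, (⇑F)^[m] v = 0}) ∧
      ∀ (s : Finset V), (∀ v ∈ s, F v = v) →
        (∀ c : s → ℤ, (∑ v : s, c v • (v : V)) = 0 → ∀ v : s, (p : ℤ) ∣ c v) →
          LinearIndependent k (fun v : s => (v : V)) := by
  classical
  let ρ : k ≃+* k := frobeniusEquiv k p
  haveI : RingHomSurjective (ρ : k →+* k) := ⟨ρ.surjective⟩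
  have hρ : IsocLib.FrobLike ρ := ⟨p, (Fact.out : p.Prime).one_lt, Or.inl fun x => frobeniusEquiv_def k p x⟩
  let φ : V →ₛₗ[(ρ : k →+* k)] V :=
    { toFun := F
      map_add' := map_add F
      map_smul' := fun a v => by rw [hF]; congr 1 }
  let R : ℕ → Submodule k V := fun n => Nat.rec (motive := fun _ => Submodule k V) ⊤ (fun _ (S : Submodule k V) => S.map φ) n
  have hRs : ∀ n, R (n + 1) = (R n).map φ := fun _ => rfl
  have hanti : Antitone R := antitone_nat_of_succ_le fun n => by
    induction n with
    | zero => exact le_top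
    | succ n ih => rw [hRs (n + 1), hRs n]; exact Submodule.map_mono ih
  obtain ⟨N, hN⟩ : ∃ N, R N ≤ R (N + 1) := by
    by_contra hc
    push Not at hc
    have hlt : ∀ n, Module.finrank k (R (n + 1)) < Module.finrank k (R n) := fun n =>
      Submodule.finrank_lt_finrank_of_lt (lt_of_le_not_ge (hanti (Nat.le_succ n)) (hc n))
    have : ∀ n, Module.finrank k (R n) + n ≤ Module.finrank k (R 0) := fun n => by
      induction n with
      | zero => rfl
      | succ n ih => have := hlt n; omega
    have := this (Module.finrank k (R 0) + 1)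
    omega
  let W := R N
  have hmem : ∀ x ∈ W, φ x ∈ W := fun x hx => hanti (Nat.le_succ N) ((hRs N).ge ⟨x, hx, rfl⟩)
  let φW := LinearMap.codRestrict W (φ.domRestrict W) (fun x => hmem x.1 x.2)
  have hsurj : Function.Surjective φW := fun y => by
    obtain ⟨x, hx, e⟩ := (hRs N).le (hN y.2)
    exact ⟨⟨x, hx⟩, Subtype.ext e⟩
  have hinj : Function.Injective φW := inj_of_surj φW hsurj
  have hit : ∀ (m : ℕ) (x : W), (⇑F)^[m] (x : V) = ((⇑φW)^[m] x : W) := fun m => by
    induction m with
    | zero => exact fun x => rfl
    | succ m ih => intro x; rw [Function.iterate_succ_apply', Function.iterate_succ_apply', ih]; rfl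
  have hR : ∀ (m : ℕ) (v : V), (⇑F)^[m] v ∈ R m := fun m => by
    induction m with
    | zero => exact fun v => trivial
    | succ m ih => intro v; rw [Function.iterate_succ_apply', hRs]; exact ⟨_, ih v, rfl⟩
  have hfix : ∀ v, F v = v → v ∈ W := fun v hv => by
    have h := hR N v
    rwa [Function.iterate_fixed hv] at h
  have hU : Submodule.span k {v : V | F v = v} = W := by
    refine le_antisymm (Submodule.span_le.2 hfix) fun x hx => ?_
    have h := hρ.span_fixed_eq_top φW ⟨hinj, hsurj⟩
    have hx' : (⟨x, hx⟩ : W) ∈ Submodule.span k {y | φW y = y} := h ▸ Submodule.mem_top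
    have hm := Submodule.apply_mem_span_image_of_mem_span W.subtype hx'
    refine Submodule.span_mono ?_ hm
    rintro _ ⟨y, hy, rfl⟩
    exact congrArg Subtype.val hy
  let Z : Submodule k V :=
    { carrier := {v : V | ∃ m : ℕ, (⇑F)^[m] v = 0}
      add_mem' := fun {a b} ha hb => by
        obtain ⟨m, hm⟩ := ha
        obtain ⟨n, hn⟩ := hb
        refine ⟨m + n, ?_⟩
        rw [iterate_map_add, Nat.add_comm m n, Function.iterate_add_apply, hm, Nat.add_comm n m,
          Function.iterate_add_apply, hn, iterate_map_zero, iterate_map_zero, add_zero]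
      zero_mem' := ⟨0, rfl⟩
      smul_mem' := fun a v ⟨m, hm⟩ => by
        refine ⟨m, ?_⟩
        have key : ∀ j, ∃ b : k, (⇑F)^[j] (a • v) = b • (⇑F)^[j] v := fun j => by
          induction j with
          | zero => exact ⟨a, rfl⟩
          | succ j ih =>
            obtain ⟨b, hb⟩ := ih
            exact ⟨b ^ p, by rw [Function.iterate_succ_apply', hb, hF, Function.iterate_succ_apply']⟩
        obtain ⟨b, hb⟩ := key m
        rw [hb, hm, smul_zero] }
  have hZ : Submodule.span k {v : V | ∃ m : ℕ, (⇑F)^[m] v = 0} = Z := Submodule.span_eq Z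
  rw [hU, hZ]
  refine ⟨⟨Submodule.disjoint_def.2 fun x hx ⟨m, hm⟩ => ?_, codisjoint_iff.2 (eq_top_iff.2 fun v _ => ?_)⟩, ?_⟩
  · rw [show x = ((⟨x, hx⟩ : W) : V) from rfl, hit] at hm
    have h0 : (⇑φW)^[m] (⟨x, hx⟩ : W) = (⇑φW)^[m] 0 := by
      rw [iterate_map_zero]; exact Subtype.ext hm
    exact congrArg Subtype.val (hinj.iterate m h0)
  · obtain ⟨w, hw⟩ := hsurj.iterate N ⟨_, hR N v⟩
    rw [← add_sub_cancel (w : V) v]
    refine Submodule.add_mem_sup w.2 ⟨N, ?_⟩
    rw [iterate_map_sub, hit, hw, sub_self]
  intro s hs hind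
  suffices H : ∀ t ⊆ s, LinearIndepOn k id (t : Set V) from H s subset_rfl
  intro t
  induction t using Finset.induction with
  | empty => exact fun _ => by simpa using linearIndepOn_empty k (id : V → V)
  | @insert v t hv ih =>
    intro hts
    rw [Finset.insert_subset_iff] at hts
    rw [Finset.coe_insert, linearIndepOn_id_insert (by simpa using hv)]
    refine ⟨ih hts.2, fun hvspan => ?_⟩
    obtain ⟨c, -, hcv⟩ := Submodule.mem_span_finset.1 hvspan
    have hcp : ∀ w ∈ t, c w ^ p = c w := by
      have h1 : ∑ w ∈ t, (c w ^ p - c w) • w = 0 := by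
        have h2 := congrArg F hcv
        rw [map_sum, hs v hts.1] at h2
        simp_rw [sub_smul, Finset.sum_sub_distrib]
        rw [hcv, sub_eq_zero, ← h2]
        exact Finset.sum_congr rfl fun w hw => by rw [hF, hs w (hts.2 hw)]
      exact fun w hw => sub_eq_zero.1 ((linearIndepOn_finset_iff.1 (ih hts.2)) _ h1 w hw)
    choose! z hz using fun w hw => fixed_scalar p (hcp w hw)
    let d : s → ℤ := fun w => if (w : V) = v then 1 else if (w : V) ∈ t then - z w else 0
    have hd : ∑ w : s, d w • (w : V) = 0 := by
      simp only [d]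
      rw [Finset.sum_coe_sort s (fun w => (if w = v then 1 else if w ∈ t then - z w else 0 : ℤ) • w),
        ← Finset.sum_subset (Finset.insert_subset_iff.2 hts) (fun w _ hw => by
          rw [Finset.mem_insert, not_or] at hw
          rw [if_neg hw.1, if_neg hw.2, zero_smul])]
      rw [Finset.sum_insert hv, if_pos rfl, one_smul]
      have e : ∀ w ∈ t, (if w = v then 1 else if w ∈ t then - z w else 0 : ℤ) • w = -(c w • w) := fun w hw => by
        rw [if_neg (fun e : w = v => hv (e ▸ hw)), if_pos hw, neg_smul, ← hz w hw, Int.cast_smul_eq_zsmul]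
      rw [Finset.sum_congr rfl e, Finset.sum_neg_distrib, hcv, add_neg_cancel]
    have hv1 := hind d hd ⟨v, hts.1⟩
    simp only [d, if_true] at hv1
    exact (Fact.out : p.Prime).not_dvd_one (by exact_mod_cast hv1)
end Groth.Agent.S8604
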