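import Groth.Statements.S8606
import Groth.Agent.EtPurEqLib.Local
import Groth.Agent.EtPurEqLib.Restr
import Groth.Agent.EtShLib.PushStalk

set_option backward.isDefEq.respectTransparency false
set_option backward.isDefEq.respectTransparency.types false
set_option synthInstance.maxHeartbeats 400000
set_option maxHeartbeats 1600000

set_option autoImplicit false
universe u
open CategoryTheory CategoryTheory.Limits AlgebraicGeometry Opposite
open EtDl

namespace Groth.Agent.S8606

/-- Cohomological purity: the local constancy assertion, in characteristic zero: let X be a locally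
Noetherian scheme over Q all of whose local rings are regular and all of whose affine opens have
excellent coordinate rings; let i : Y -> X be a closed immersion with Y regular, j : U -> X the open
immersion of the complement, and c ≥ 1 with dim O_{X,y} = dim O_{Y,y} + c at every point y of Y; let
n ≥ 1. Then the sheaf i^* H^{2c}_Y(X, Z/n) on Y_et is locally constant with value Z/n: there is a
jointly surjective family of etale Y-schemes (V_a) such that the restriction of i^* H^{2c}_Y(X, Z/n)
to each V_a is isomorphic to the constant sheaf Z/n. (The published statement allows any sheaf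
locally isomorphic to Z/n as coefficients, on excellent schemes of equal characteristic with n prime
to the characteristic, and its proof assumes resolution of singularities for excellent schemes,
available in characteristic zero; hence the restriction to Q-schemes.) -/
theorem result {X Y U : Scheme.{u}} [IsLocallyNoetherian X]
    (qX : X ⟶ Spec (CommRingCat.of (ULift.{u} ℚ)))
    (hreg : ∀ x : X, IsRegularLocalRing (X.presheaf.stalk x))
    (hexc : ∀ V : X.affineOpens, EGA4.IsExcellent Γ(X, V.1))
    (i : Y ⟶ X) [IsClosedImmersion i] [EtCoh.BCCont i] (hYreg : ∀ y : Y, IsRegularLocalRing (Y.presheaf.stalk y))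
    (j : U ⟶ X) [IsOpenImmersion j] [EtCoh.BCCont j] (hij : Set.range j.base = (Set.range i.base)ᶜ)
    (c : ℕ) (hc : 0 < c)
    (hcodim : ∀ y : Y, ringKrullDim (X.presheaf.stalk (i.base y)) = ringKrullDim (Y.presheaf.stalk y) + c)
    (n : ℕ) (hn : 0 < n) :
    ∃ (ι : Type u) (V : ι → Y.Etale), EtCoh.Covers V ∧ ∀ a : ι,
      Nonempty (EtCoh.restr ((EtCoh.pull i).obj ((EtDual.locCoh j (2 * c)).obj (EtCoh.const X (ZMod n)))) (V a) ≅
        (constantSheaf (Y.smallEtaleTopology.over (V a)) AddCommGrpCat.{u + 1}).obj
          (AddCommGrpCat.of (ULift.{u + 1} (ZMod n)))) := by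
  haveI : CharZero (ULift.{u} ℚ) := charZero_of_injective_algebraMap (R := ℚ) (ULift.up_injective)
  have hnk : (n : ULift.{u} ℚ) ≠ 0 := Nat.cast_ne_zero.2 hn.ne'
  choose X' g hg x' hx' e using EtPurEqLib.local_top (ULift.{u} ℚ) qX hreg (fun V => (hexc V).2.2.2) i hYreg j hij c
    hcodim n hnk
  let V : Y → X.Etale := fun y => MorphismProperty.Over.mk ⊤ (g (i.base y)) (hg (i.base y))
  refine ⟨Y, fun y => (EtCoh.bc i).obj (V y), fun y => ?_, fun y => ?_⟩
  · obtain ⟨w, -, hw⟩ := Scheme.Pullback.exists_preimage_pullback (f := (V y).hom) (g := i) (x' (i.base y)) y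
      (hx' (i.base y))
    exact ⟨y, w, hw⟩
  · obtain ⟨e₀⟩ := e (i.base y)
    let fst := pullback.fst (V y).hom i
    let snd := pullback.snd (V y).hom i
    haveI : AlgebraicGeometry.Etale (V y).hom := hg _
    haveI : AlgebraicGeometry.Etale ((EtCoh.bc i).obj (V y)).hom := ((EtCoh.bc i).obj (V y)).prop
    haveI := EtShLib.counit_isIso_of_closedImmersion i (EtCoh.const Y (ZMod n))
    have w : fst ≫ (V y).hom = snd ≫ i := pullback.condition
    let sw : EtCoh.pull i ⋙ EtCoh.pull snd ≅ EtCoh.pull (V y).hom ⋙ EtCoh.pull fst :=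
      (EtCore.pullComp snd i).symm ≪≫ EtCore.pullCongr w.symm ≪≫ EtCore.pullComp fst (V y).hom
    exact EtPurEqLib.nonempty_restr_const _ n ⟨sw.app _ ≪≫ (EtCoh.pull fst).mapIso e₀ ≪≫ sw.symm.app _ ≪≫
      (EtCoh.pull snd).mapIso (asIso ((EtCoh.pullPushAdj i).counit.app (EtCoh.const Y (ZMod n)))) ≪≫
        EtCore.pullConst snd (ZMod n)⟩

end Groth.Agent.S8606
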