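import Groth.Statements.S8607
import Groth.Agent.NagataCompLib.Tools

set_option autoImplicit false
universe u
open CategoryTheory CategoryTheory.Limits AlgebraicGeometry Opposite
open DEt

namespace Groth.Agent.S8607
open CategoryTheory CategoryTheory.Limits AlgebraicGeometry

/-- The equalizing half of 'the category of compactifications of f is cofiltering': let f : X -> Y be a
morphism of quasi-compact quasi-separated schemes, (Xbar_1, j_1, fbar_1) and (Xbar_2, j_2, fbar_2)
two compactifications of f, and r, s : Xbar_1 -> Xbar_2 two morphisms of compactifications (r ∘ j_1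
= j_2 = s ∘ j_1 and fbar_2 ∘ r = fbar_1 = fbar_2 ∘ s). Then there are a compactification (Xbar, j,
fbar) of f and a proper morphism t : Xbar -> Xbar_1 of compactifications (t ∘ j = j_1, fbar_1 ∘ t =
fbar) with r ∘ t = s ∘ t. -/
theorem result {X Y : Scheme.{u}} [CompactSpace ↥X] [QuasiSeparatedSpace ↥X]
    [CompactSpace ↥Y] [QuasiSeparatedSpace ↥Y] {f : X ⟶ Y} (c₁ c₂ : DEt.Compactification f)
    (r s : c₁.Xbar ⟶ c₂.Xbar) (hr : c₁.j ≫ r = c₂.j) (hs : c₁.j ≫ s = c₂.j)
    (hr' : r ≫ c₂.fbar = c₁.fbar) (hs' : s ≫ c₂.fbar = c₁.fbar) :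
    ∃ (c : DEt.Compactification f) (t : c.Xbar ⟶ c₁.Xbar), IsProper t ∧ c.j ≫ t = c₁.j ∧ t ≫ c₁.fbar = c.fbar ∧
      t ≫ r = t ≫ s := by
  haveI := c₁.isOpenImmersion
  haveI := c₁.isProper
  haveI := c₂.isProper
  let δ : c₁.Xbar ⟶ pullback c₂.fbar c₂.fbar := pullback.lift r s (hr'.trans hs'.symm)
  let t : pullback δ (pullback.diagonal c₂.fbar) ⟶ c₁.Xbar := pullback.fst _ _
  have hj : c₁.j ≫ δ = c₂.j ≫ pullback.diagonal c₂.fbar :=
    pullback.hom_ext (by rw [Category.assoc, Category.assoc, pullback.lift_fst, pullback.diagonal_fst, Category.comp_id, hr])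
      (by rw [Category.assoc, Category.assoc, pullback.lift_snd, pullback.diagonal_snd, Category.comp_id, hs])
  let l : X ⟶ pullback δ (pullback.diagonal c₂.fbar) := pullback.lift c₁.j c₂.j hj
  have hl : l ≫ t = c₁.j := pullback.lift_fst _ _ _
  haveI : IsOpenImmersion l :=
    MorphismProperty.of_isPullback (P := @IsOpenImmersion)
      (show IsPullback l (𝟙 X) t c₁.j from ⟨⟨by rw [Category.id_comp, hl]⟩, ⟨PullbackCone.IsLimit.mk _ (fun c => c.snd)
        (fun c => by rw [← cancel_mono t, Category.assoc, hl]; exact c.condition.symm)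
        (fun c => Category.comp_id _) (fun c m _ h2 => by simpa using h2)⟩⟩).flip ‹IsOpenImmersion c₁.j›
  haveI : IsProper (t ≫ c₁.fbar) := inferInstance
  refine ⟨⟨_, l, t ≫ c₁.fbar, inferInstance, inferInstance, by rw [← Category.assoc, hl, c₁.fac]⟩, t, inferInstance,
    hl, rfl, ?_⟩
  have h : t ≫ δ = pullback.snd δ (pullback.diagonal c₂.fbar) ≫ pullback.diagonal c₂.fbar := pullback.condition
  have h1 := congrArg (· ≫ pullback.fst c₂.fbar c₂.fbar) h
  have h2 := congrArg (· ≫ pullback.snd c₂.fbar c₂.fbar) h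
  simp only [δ, Category.assoc, pullback.lift_fst, pullback.lift_snd, pullback.diagonal_fst, pullback.diagonal_snd,
    Category.comp_id] at h1 h2
  rw [h1, h2]

end Groth.Agent.S8607
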