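import Groth.Statements.S8611
import Groth.Agent.DeltaIsoLib.Main

set_option autoImplicit false
universe w v u
open CategoryTheory CategoryTheory.Limits
open SGA4h

namespace Groth.Agent.S8611

/-- Let C be an abelian category, T and T' cohomological delta-functors on C in degrees ≥ 0 with values
in abelian groups, both left exact in degree 0, with T effaceable in every degree q > 0 (every
element of T^q(A) is killed by T^q(u) for some monomorphism u : A → M, depending on the element),
and φ : T → T' a morphism of delta-functors. Let E be a class of objects such that every object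
admits a monomorphism into a member of E. Then the following are equivalent: (i) φ^q(A) is bijective
for all q and all A; (ii) φ^0(M) is bijective and φ^q(M) is surjective for q > 0, for all M in E;
(iii) φ^0(A) is bijective for all A and T' is effaceable in every degree > 0 (in the same
element-wise sense). Stated as (i) ⇔ (ii) together with (i) ⇔ (iii). -/
theorem result {C : Type u} [Category.{v} C] [Abelian C]
    (T T' : DeltaF.CohDeltaFunctor C AddCommGrpCat.{w} ℕ) (hT0 : T.ZeroMono) (hT'0 : T'.ZeroMono)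
    (hT : ∀ (q : ℕ) (A : C) (α : (T.F (q + 1)).obj A),
      ∃ (M : C) (u : A ⟶ M), Mono u ∧ (T.F (q + 1)).map u α = 0)
    (φ : T ⟶ T') (E : ObjectProperty C)
    (hE : ∀ A : C, ∃ (M : C) (i : A ⟶ M), Mono i ∧ E M) :
    ((∀ (q : ℕ) (A : C), IsIso ((φ.app q).app A)) ↔
      ((∀ M : C, E M → IsIso ((φ.app 0).app M)) ∧
        ∀ (q : ℕ) (M : C), E M → Epi ((φ.app (q + 1)).app M))) ∧
    ((∀ (q : ℕ) (A : C), IsIso ((φ.app q).app A)) ↔
      ((∀ A : C, IsIso ((φ.app 0).app A)) ∧
        ∀ (q : ℕ) (A : C) (α : (T'.F (q + 1)).obj A),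
          ∃ (M : C) (u : A ⟶ M), Mono u ∧ (T'.F (q + 1)).map u α = 0)) := by
  have back : (∀ M : C, E M → Function.Bijective (DeltaIsoLib.t φ 0 M)) →
      (∀ (q : ℕ) (M : C), E M → Function.Surjective (DeltaIsoLib.t φ (q + 1) M)) →
      ∀ (q : ℕ) (A : C), IsIso ((φ.app q).app A) := fun h0 hs q A =>
    (DeltaIsoLib.isIso_iff φ).2 (DeltaIsoLib.bijective_of_effaceable φ hT0 hT'0 hT E hE h0 hs q A)
  refine ⟨⟨fun h => ⟨fun M _ => h 0 M, fun q M _ => have := h (q + 1) M; inferInstance⟩, fun h => back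
    (fun M hM => (DeltaIsoLib.isIso_iff φ).1 (h.1 M hM))
    fun q M hM => (AddCommGrpCat.epi_iff_surjective _).1 (h.2 q M hM)⟩, ⟨fun h => ⟨h 0, fun q A α => ?_⟩,
    fun h => ?_⟩⟩
  · obtain ⟨β, rfl⟩ := ((DeltaIsoLib.isIso_iff φ).1 (h (q + 1) A)).2 α
    obtain ⟨M, u, hu, hb⟩ := hT q A β
    exact ⟨M, u, hu, by rw [← DeltaIsoLib.t_map, hb, map_zero]⟩
  · have h0 : ∀ A, Function.Bijective (DeltaIsoLib.t φ 0 A) := fun A => (DeltaIsoLib.isIso_iff φ).1 (h.1 A)
    exact back (fun M _ => h0 M) fun q M _ => DeltaIsoLib.surjective_of_effaceable φ h0 h.2 (q + 1) M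

end Groth.Agent.S8611
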