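import Groth.Statements.S8614
import Groth.Agent.CovDevLib.Devissage
import Mathlib.AlgebraicGeometry.Noetherian

set_option autoImplicit false
universe u
open CategoryTheory CategoryTheory.Limits AlgebraicGeometry
open SGA4h

namespace Groth.Agent.S8614

/-- Let X be a Noetherian scheme and i : X₀ → X a subscheme (an immersion). Assume that for every
natural number n (n = 0 giving ℤ) and every finite morphism p : X' → X, with X'₀ = X' ×_X X₀, the
restriction map H^q(X', ℤ/n) → H^q(X'₀, ℤ/n) is bijective for q = 0 and surjective for q > 0. Then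
for every torsion abelian etale sheaf F on X and every q the restriction map H^q(X, F) → H^q(X₀,
i⁻¹F) is bijective. -/
theorem result {X X₀ : Scheme.{u}} [IsNoetherian X] (i : X₀ ⟶ X)
    [IsImmersion i]
    (h : ∀ (n : ℕ) (X' : Scheme.{u}) (p : X' ⟶ X) [IsFinite p]
      [PreservesFiniteLimits (EtCoh.pull (pullback.fst p i))],
      Function.Bijective (EtCore.Hpull (pullback.fst p i) (EtCoh.const X' (ZMod n)) 0) ∧
        ∀ q : ℕ, 0 < q → Function.Surjective (EtCore.Hpull (pullback.fst p i) (EtCoh.const X' (ZMod n)) q))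
    (F : EtCoh.Ab X) (hF : EtCoh.IsTorsion F) [PreservesFiniteLimits (EtCoh.pull i)] (q : ℕ) :
    Function.Bijective (EtCore.Hpull i F q) := by
  haveI : QuasiCompact i := ⟨fun U _ _ => i.isEmbedding.isCompact_iff.2 (TopologicalSpace.NoetherianSpace.isCompact _)⟩
  haveI : CompactSpace X₀ := QuasiCompact.compactSpace_of_compactSpace i
  haveI : QuasiSeparatedSpace X₀ := quasiSeparatedSpace_of_quasiSeparated i
  have H : CovDevLib.CovHyp i (fun d => 0 < d) q := fun X' p hp d _ _ => by
    haveI := hp
    haveI : PreservesFiniteLimits (EtCoh.pull (pullback.fst p i)) := EtSliceLib.pullExact _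
    refine ⟨(h d X' p).1.1, fun j _ => ?_⟩
    rcases Nat.eq_zero_or_pos j with rfl | hj
    · exact (h d X' p).1.2
    · exact (h d X' p).2 j hj
  refine (CovDevLib.range_torsion CovDevLib.moduli_pos H F (Groth.Agent.EtShLib.torsionBy_of_isTorsion hF) (fun m hm => ?_)).1 q le_rfl
  obtain rfl : m = 1 := by
    rcases Nat.eq_zero_or_pos m with rfl | h0
    · exact absurd (hm 2 two_pos) (by decide)
    · exact (Nat.coprime_self m).1 (hm m h0)
  rw [one_nsmul]
  infer_instance
end Groth.Agent.S8614
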