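import Groth.Statements.S8615
import Groth.Agent.SkySumLib.Cohom
-- import your own Groth.Agent.* helpers here

set_option autoImplicit false
open CategoryTheory CategoryTheory.Limits AlgebraicGeometry Opposite
universe u
open SGA4h
open CategoryTheory.Abelian

namespace Groth.Agent.S8615

/-- Let k be an algebraically closed field and X a connected smooth proper curve over k. For the family,
indexed by the closed points x of X, of direct images i_{x*} ℤ of the constant sheaf ℤ along i_x :
Spec κ(x) → X, any coproduct (given as a colimit cofan) has vanishing etale cohomology in every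
degree q > 0. -/
theorem result {k : Type u} [Field k] [IsAlgClosed k]
    {X : Scheme.{u}} (f : X ⟶ Spec (CommRingCat.of k)) [IsProper f] [SmoothOfRelativeDimension 1 f]
    [ConnectedSpace ↥X]
    (c : Cofan fun x : {x : X // IsClosed ({x} : Set X)} =>
      (EtCoh.push (X.fromSpecResidueField x.1)).obj (EtCoh.const (Spec (X.residueField x.1)) ℤ))
    (hc : IsColimit c) (q : ℕ) (hq : 0 < q) :
    Subsingleton (EtCoh.H X c.pt q) := by
  haveI : IsNoetherian X := by
    haveI : IsLocallyNoetherian X := LocallyOfFiniteType.isLocallyNoetherian f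
    haveI : CompactSpace X := QuasiCompact.compactSpace_of_compactSpace f
    exact ⟨⟩
  let F := fun x : SkySumLib.Pt X =>
    (EtCoh.push (X.fromSpecResidueField x.1)).obj (EtCoh.const (Spec (X.residueField x.1)) ℤ)
  let e : c.pt ≅ ∐ F := hc.coconePointUniqueUpToIso (coproductIsCoproduct F)
  refine subsingleton_of_forall_eq 0 fun z => ?_
  obtain ⟨S, w, hw⟩ := DivSeqLib.exists_sum_of_coprod F q
    (Ext.comp (z : EtCoh.H X c.pt q) (Ext.mk₀ e.hom) (add_zero q))
  have h0 : Ext.comp (z : EtCoh.H X c.pt q) (Ext.mk₀ e.hom) (add_zero q) = 0 := by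
    refine hw.trans (Finset.sum_eq_zero fun i _ => ?_)
    have hx := (w i).1.2
    haveI : IsClosedImmersion (SkySumLib.ix (w i).1) := isClosed_singleton_iff_isClosedImmersion.1 hx
    haveI := SkySumLib.isSepClosed_residueField f (w i).1.1 hx
    haveI := SkySumLib.isSepClosed_residueField_self (X.residueField (w i).1.1)
    haveI : Subsingleton (EtCoh.H (Spec (X.residueField (w i).1.1))
        (EtCoh.const (Spec (X.residueField (w i).1.1)) ℤ) q) :=
      Groth.Agent.S0073.result (X.residueField (w i).1.1) _ q hq
    haveI : Subsingleton (EtCoh.H X (F (w i).1) q) := ⟨fun a b =>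
      (Groth.Agent.S14451.result (SkySumLib.ix (w i).1) (EtCoh.const (Spec (X.residueField (w i).1.1)) ℤ)
        (fun p hp => EtShLib.isZero_rightDerived_push_finite (SkySumLib.ix (w i).1) _ p hp) q).1 (Subsingleton.elim _ _)⟩
    rw [Subsingleton.elim (w i).2 0, Ext.zero_comp]
  have h' := congrArg (fun t => Ext.comp t (Ext.mk₀ e.inv) (add_zero q)) h0
  rwa [Ext.comp_assoc_of_third_deg_zero, Ext.mk₀_comp_mk₀, Iso.hom_inv_id, Ext.comp_mk₀_id, Ext.zero_comp] at h'


end Groth.Agent.S8615
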