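import Groth.Statements.S8618
import Mathlib
import Groth.Agent.S8604
-- import your own Groth.Agent.* helpers here

set_option autoImplicit false
universe u
open SGA4h

namespace Groth.Agent.S8618

set_option maxHeartbeats 1600000

theorem finite_of_ind {P K M : Type u} [Field P] [Field K] [AddCommGroup M] [Module K M] [Module P M]
    [FiniteDimensional K M] (W : Submodule P M)
    (key : ∀ (s : Finset ↥W), LinearIndependent P (fun i : s => (i : ↥W)) →
      LinearIndependent K (fun i : s => ((i : ↥W) : M))) : Module.Finite P ↥W := by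
  refine Module.rank_lt_aleph0_iff.1 (lt_of_le_of_lt (rank_le (n := Module.finrank K M) fun s hs => ?_)
    Cardinal.natCast_lt_aleph0)
  simpa using (key s hs).fintype_card_le_finrank

theorem trace_span_eq {P K M : Type u} [Field P] [Field K] [AddCommGroup M] [Module K M] [Module P M] [Algebra P K]
    [IsScalarTower P K M] [FiniteDimensional K M] (W : Submodule P M) [Module.Finite P ↥W]
    (key : ∀ (s : Finset ↥W), LinearIndependent P (fun i : s => (i : ↥W)) →
      LinearIndependent K (fun i : s => ((i : ↥W) : M))) (V₀ : Submodule K M) (hV : Submodule.span K (W : Set M) = V₀)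
    (T : M →ₗ[K] M) (hT : ∀ y ∈ V₀, T y ∈ V₀) (G : ↥W →ₗ[P] ↥W) (hG : ∀ y : ↥W, (↑(G y) : M) = T ↑y) :
    LinearMap.trace K _ (T.restrict hT) = algebraMap P K (LinearMap.trace P ↥W G) := by
  classical
  let b := Module.Free.chooseBasis P ↥W
  have hb : LinearIndependent K (fun i => ((b i : ↥W) : M)) := by
    have h := key (Finset.univ.map ⟨b, b.injective⟩) ((((linearIndepOn_id_range_iff b.injective).2
      b.linearIndependent).linearIndependent).comp (fun (z : {x // x ∈ Finset.univ.map ⟨b, b.injective⟩}) => ⟨z.1, by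
        obtain ⟨i, -, hi⟩ := Finset.mem_map.1 z.2
        exact ⟨i, hi⟩⟩) fun z z' hz => Subtype.ext (congrArg (fun w => w.1) hz))
    exact h.comp (fun i => ⟨b i, Finset.mem_map_of_mem _ (Finset.mem_univ i)⟩)
      fun i j hij => b.injective (congrArg (fun z => z.1) hij)
  have hspanW : ∀ y : ↥W, (y : M) ∈ Submodule.span K (Set.range fun i => ((b i : ↥W) : M)) := by
    intro y
    rw [← b.sum_repr y, Submodule.coe_sum]
    refine Submodule.sum_mem _ fun i _ => ?_
    rw [Submodule.coe_smul, ← algebraMap_smul K (b.repr y i)]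
    exact Submodule.smul_mem _ _ (Submodule.subset_span ⟨i, rfl⟩)
  have hV₀eq : Submodule.span K (Set.range fun i => ((b i : ↥W) : M)) = V₀ :=
    hV ▸ le_antisymm (Submodule.span_mono (by rintro _ ⟨i, rfl⟩; exact (b i).2))
      (Submodule.span_le.2 fun y hy => hspanW ⟨y, hy⟩)
  let B : Module.Basis _ K ↥V₀ := (Module.Basis.span hb).map (LinearEquiv.ofEq _ _ hV₀eq)
  have hBv : ∀ i, ((B i : ↥V₀) : M) = ((b i : ↥W) : M) := fun i => by
    simp [B, Module.Basis.span_apply]
  rw [LinearMap.trace_eq_matrix_trace K B, LinearMap.trace_eq_matrix_trace P b, Matrix.trace, Matrix.trace, map_sum]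
  refine Finset.sum_congr rfl fun i _ => ?_
  have hB : T.restrict hT (B i) = ∑ j, algebraMap P K (b.repr (G (b i)) j) • B j := by
    refine Subtype.ext ?_
    rw [Submodule.coe_sum, LinearMap.restrict_apply]
    show T ((B i : ↥V₀) : M) = _
    rw [hBv, ← hG (b i)]
    conv_lhs => rw [← b.sum_repr (G (b i)), Submodule.coe_sum]
    refine Finset.sum_congr rfl fun j _ => ?_
    rw [Submodule.coe_smul, Submodule.coe_smul, hBv, algebraMap_smul]
  simp only [Matrix.diag_apply, LinearMap.toMatrix_apply]
  rw [hB, Module.Basis.repr_sum_self]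

theorem key_of_int {P K M : Type u} [Field P] [Field K] [AddCommGroup M] [Module K M] [Module P M] (p : ℕ) [CharP P p]
    (W : Submodule P M) (h : ∀ (s : Finset M), (∀ v ∈ s, v ∈ W) →
      (∀ c : s → ℤ, (∑ v : s, c v • (v : M)) = 0 → ∀ v : s, (p : ℤ) ∣ c v) →
        LinearIndependent K (fun v : s => (v : M)))
    (s : Finset ↥W) (hs : LinearIndependent P (fun i : s => (i : ↥W))) :
    LinearIndependent K (fun i : s => ((i : ↥W) : M)) := by
  classical
  let t : Finset M := s.map ⟨Subtype.val, Subtype.val_injective⟩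
  let e : s ≃ t := Equiv.ofBijective (fun i => ⟨((i : ↥W) : M), Finset.mem_map_of_mem _ i.2⟩)
    ⟨fun i j hij => Subtype.ext (Subtype.ext (congrArg (fun z => z.1) hij)), fun z => by
      obtain ⟨w, hw, hwz⟩ := Finset.mem_map.1 z.2
      exact ⟨⟨w, hw⟩, Subtype.ext hwz⟩⟩
  have h2 := h t (fun v hv => by
    obtain ⟨w, -, rfl⟩ := Finset.mem_map.1 hv
    exact w.2) fun c hc0 v => by
      have h1 : ∑ i : s, ((c (e i) : ℤ) : P) • (i : ↥W) = 0 := by
        refine Subtype.ext ?_
        rw [Submodule.coe_sum, Submodule.coe_zero, ← hc0, ← e.sum_comp]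
        refine Finset.sum_congr rfl fun i _ => ?_
        rw [Submodule.coe_smul, Int.cast_smul_eq_zsmul]
        rfl
      obtain ⟨i, rfl⟩ := e.surjective v
      exact (CharP.intCast_eq_zero_iff P p _).1 (Fintype.linearIndependent_iff.1 hs _ h1 i)
  exact h2.comp e e.injective

set_option backward.isDefEq.respectTransparency false in
open TensorProduct in
/-- Let k be a finite field with q = p^f elements, F₀ ⊂ k its prime field, K an algebraically closed
extension of k, V a finite-dimensional k-vector space and φ a p-linear endomorphism of V (φ(λx) =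
λ^p φ(x)); let F = φ^f, a k-linear endomorphism, F_K its K-linear extension to K ⊗_k V and φ_K the
p-linear extension of φ (φ_K(μ ⊗ v) = μ^p ⊗ φ(v)). Then F_K preserves the F₀-subspace W = Ker(φ_K -
1) of K ⊗_k V, W is finite-dimensional over F₀, and the trace of F_K on W (an element of F₀) equals
the trace of F on V. -/
theorem result {p : ℕ} [Fact p.Prime] (k : Type u) [Field k] [Fintype k]
    [CharP k p] (f : ℕ) (hq : Fintype.card k = p ^ f) (K : Type u) [Field K] [Algebra k K] [IsAlgClosed K]
    (V : Type u) [AddCommGroup V] [Module k V] [FiniteDimensional k V]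
    (φ : V →ₛₗ[frobenius k p] V) (F : V →ₗ[k] V) (hF : ∀ x, F x = (⇑φ)^[f] x)
    (φK : K ⊗[k] V →+ K ⊗[k] V) (hφK : ∀ (μ : K) (v : V), φK (μ ⊗ₜ[k] v) = (μ ^ p) ⊗ₜ[k] φ v)
    (W : Submodule (↥(⊥ : Subfield k)) (K ⊗[k] V)) (hW : ∀ y, y ∈ W ↔ φK y = y) :
    (∀ y, φK y = y → φK (F.baseChange K y) = F.baseChange K y) ∧
    Module.Finite (↥(⊥ : Subfield k)) ↥W ∧
    ∀ (G : ↥W →ₗ[↥(⊥ : Subfield k)] ↥W), (∀ y : ↥W, (↑(G y) : K ⊗[k] V) = F.baseChange K ↑y) →
      algebraMap k K (algebraMap (↥(⊥ : Subfield k)) k (LinearMap.trace (↥(⊥ : Subfield k)) ↥W G)) =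
        algebraMap k K (LinearMap.trace k V F) := by
  classical
  haveI hKp : CharP K p := charP_of_injective_algebraMap (algebraMap k K).injective p
  haveI : CharP (↥(⊥ : Subfield k)) p := RingHom.charP _ (algebraMap (↥(⊥ : Subfield k)) k).injective p
  have hsl : ∀ (a : K) (y : K ⊗[k] V), φK (a • y) = a ^ p • φK y := by
    intro a y
    induction y using TensorProduct.induction_on with
    | zero => simp
    | tmul μ v => rw [TensorProduct.smul_tmul', smul_eq_mul, hφK, hφK, TensorProduct.smul_tmul', smul_eq_mul, mul_pow]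
    | add x y hx hy => rw [smul_add, map_add, map_add, hx, hy, smul_add]
  have hFφ : ∀ v, φ (F v) = F (φ v) := fun v => by
    rw [hF, hF, ← Function.iterate_succ_apply' (⇑φ) f v, Function.iterate_succ_apply]
  have hcomm : ∀ y, φK (F.baseChange K y) = F.baseChange K (φK y) := by
    intro y
    induction y using TensorProduct.induction_on with
    | zero => simp
    | tmul μ v => rw [LinearMap.baseChange_tmul, hφK, hφK, LinearMap.baseChange_tmul, hFφ]
    | add x y hx hy => rw [map_add, map_add, hx, hy, map_add, map_add]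
  have hstab : ∀ y, φK y = y → φK (F.baseChange K y) = F.baseChange K y := fun y hy => by rw [hcomm, hy]
  obtain ⟨hc, hli⟩ := Groth.Agent.S8604.result p K (K ⊗[k] V) φK hsl
  set V₀ := Submodule.span K {y : K ⊗[k] V | φK y = y} with hV₀
  set Vn := Submodule.span K {y : K ⊗[k] V | ∃ m : ℕ, (⇑φK)^[m] y = 0} with hVn
  have key := key_of_int (K := K) p W fun s hs hc0 => hli s (fun v hv => (hW v).1 (hs v hv)) hc0
  haveI hfin : Module.Finite (↥(⊥ : Subfield k)) ↥W := finite_of_ind (K := K) W key
  refine ⟨hstab, hfin, fun G hG => ?_⟩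
  have h0 : ∀ y ∈ V₀, F.baseChange K y ∈ V₀ := fun y hy => by
    induction hy using Submodule.span_induction with
    | mem x hx => exact Submodule.subset_span (hstab x hx)
    | zero => simp
    | add x y _ _ hx hy => rw [map_add]; exact add_mem hx hy
    | smul a x _ hx => rw [map_smul]; exact Submodule.smul_mem _ a hx
  have hn : ∀ y ∈ Vn, F.baseChange K y ∈ Vn := fun y hy => by
    induction hy using Submodule.span_induction with
    | mem x hx =>
      obtain ⟨m, hm⟩ := hx
      refine Submodule.subset_span ⟨m, ?_⟩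
      have hit : (⇑φK)^[m] (F.baseChange K x) = F.baseChange K ((⇑φK)^[m] x) :=
        ((Function.Semiconj.iterate_right (fun z => (hcomm z).symm) m).eq x).symm
      rw [hit, hm, map_zero]
    | zero => simp
    | add x y _ _ hx hy => rw [map_add]; exact add_mem hx hy
    | smul a x _ hx => rw [map_smul]; exact Submodule.smul_mem _ a hx
  -- the coefficient Frobenius
  let σ : K →ₗ[k] K :=
    { toFun := fun μ => μ ^ (p ^ f)
      map_add' := fun x y => add_pow_char_pow ..
      map_smul' := fun a x => by
        rw [RingHom.id_apply, Algebra.smul_def, Algebra.smul_def, mul_pow, ← map_pow, ← hq, FiniteField.pow_card] }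
  have hσinj : Function.Injective (σ.rTensor V) :=
    Module.Flat.rTensor_preserves_injective_linearMap σ fun x y h => iterateFrobenius_inj K p f
      (by simpa [σ, iterateFrobenius_def] using h)
  have hiter : ∀ y, (⇑φK)^[f] y = σ.rTensor V (F.baseChange K y) := by
    intro y
    induction y using TensorProduct.induction_on with
    | zero => rw [iterate_map_zero, map_zero, map_zero]
    | tmul μ v =>
      have hp : ∀ n, (⇑φK)^[n] (μ ⊗ₜ[k] v) = (μ ^ p ^ n) ⊗ₜ[k] (⇑φ)^[n] v := fun n => by
        induction n with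
        | zero => simp
        | succ n ih => rw [Function.iterate_succ_apply', ih, hφK, Function.iterate_succ_apply', pow_succ, pow_mul]
      rw [hp, ← hF, LinearMap.baseChange_tmul, LinearMap.rTensor_tmul]
      rfl
    | add x y hx hy => rw [iterate_map_add, hx, hy, map_add, map_add]
  have hnil : ∀ y ∈ Vn, ∃ m : ℕ, ((F.baseChange K) ^ m) y = 0 := fun y hy => by
    induction hy using Submodule.span_induction with
    | mem x hx =>
      obtain ⟨m, hm⟩ := hx
      refine ⟨m, ?_⟩
      have hs : ∀ z, σ.rTensor V (F.baseChange K z) = F.baseChange K (σ.rTensor V z) := fun z => by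
        induction z using TensorProduct.induction_on with
        | zero => simp
        | tmul μ v => simp [LinearMap.baseChange_tmul]
        | add x y hx hy => rw [map_add, map_add, hx, hy, map_add, map_add]
      have h : ∀ n, (⇑φK)^[f * n] x = (⇑(σ.rTensor V))^[n] ((⇑(F.baseChange K))^[n] x) := fun n => by
        induction n with
        | zero => rfl
        | succ n ih =>
          rw [show f * (n + 1) = f + f * n from by ring, Function.iterate_add_apply, ih, hiter,
            Function.iterate_succ_apply' (⇑(σ.rTensor V)), Function.iterate_succ_apply' (⇑(F.baseChange K))]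
          congr 1
          exact ((Function.Semiconj.iterate_right (fun z => (hs z).symm) n).eq _)
      have h2 := h m
      have hfm : (⇑φK)^[f * m] x = 0 := by
        obtain ⟨d, hd⟩ : ∃ d, f * m = d + m := by
          have hf1 : 1 ≤ f := by
            by_contra hf0
            have := Fintype.one_lt_card (α := k)
            rw [hq, show f = 0 from by omega] at this
            simp at this
          exact ⟨f * m - m, (Nat.sub_add_cancel (Nat.le_mul_of_pos_left m hf1)).symm⟩
        rw [hd, Function.iterate_add_apply, hm, iterate_map_zero]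
      rw [hfm] at h2
      rw [Module.End.pow_apply]
      exact hσinj.iterate m (h2.symm.trans (iterate_map_zero _ _).symm)
    | zero => exact ⟨0, map_zero _⟩
    | add x y _ _ hx hy =>
      obtain ⟨m, hm⟩ := hx
      obtain ⟨n, hn⟩ := hy
      refine ⟨m + n, ?_⟩
      rw [map_add]
      conv_lhs => arg 1; rw [add_comm m n, pow_add, Module.End.mul_apply, hm, map_zero]
      rw [pow_add, Module.End.mul_apply, hn, map_zero, add_zero]
    | smul a x _ hx =>
      obtain ⟨m, hm⟩ := hx
      exact ⟨m, by rw [map_smul, hm, smul_zero]⟩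
  -- the two traces
  haveI hfrn : Module.Free K ↥Vn := Module.Free.of_divisionRing (K := K) (V := ↥Vn)
  haveI hfr0 : Module.Free K ↥V₀ := Module.Free.of_divisionRing (K := K) (V := ↥V₀)
  have hT : LinearMap.trace K (K ⊗[k] V) (F.baseChange K) =
      LinearMap.trace K _ ((F.baseChange K).restrict h0) + LinearMap.trace K _ ((F.baseChange K).restrict hn) := by
    let e := Submodule.prodEquivOfIsCompl V₀ Vn hc
    refine Eq.trans ?_ (LinearMap.trace_prodMap' (R := K) (M := ↥V₀) (N := ↥Vn) ((F.baseChange K).restrict h0) ((F.baseChange K).restrict hn))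
    refine Eq.trans ?_ (LinearMap.trace_conj' (R := K) (M := ↥V₀ × ↥Vn) (N := K ⊗[k] V) (((F.baseChange K).restrict h0).prodMap ((F.baseChange K).restrict hn)) e)
    congr 1
    refine LinearMap.ext fun z => ?_
    obtain ⟨⟨x, y⟩, rfl⟩ := e.surjective z
    rw [LinearEquiv.conj_apply_apply, LinearEquiv.symm_apply_apply]
    simp [e, map_add]
  have htn : LinearMap.trace K _ ((F.baseChange K).restrict hn) = 0 := by
    refine @IsNilpotent.eq_zero K _ _ _ _ (LinearMap.isNilpotent_trace_of_isNilpotent (R := K) (M := ↥Vn) ?_)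
    choose m hm using fun i => hnil _ (Module.finBasis K ↥Vn i).2
    refine ⟨∑ i, m i, (Module.finBasis K ↥Vn).ext fun i => Subtype.ext ?_⟩
    rw [Module.End.pow_restrict _ hn, LinearMap.restrict_apply, LinearMap.zero_apply]
    show ((F.baseChange K) ^ _) ((Module.finBasis K ↥Vn i : ↥Vn) : K ⊗[k] V) = 0
    rw [← Nat.sub_add_cancel (Finset.single_le_sum (f := m) (fun _ _ => Nat.zero_le _) (Finset.mem_univ i)), pow_add,
      Module.End.mul_apply, hm i, map_zero]
  have ht0 : LinearMap.trace K _ ((F.baseChange K).restrict h0) =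
      algebraMap k K (algebraMap (↥(⊥ : Subfield k)) k (LinearMap.trace (↥(⊥ : Subfield k)) ↥W G)) :=
    (trace_span_eq W key V₀ (congrArg (Submodule.span K) (Set.ext hW)) (F.baseChange K) h0 G hG).trans
      (IsScalarTower.algebraMap_apply (↥(⊥ : Subfield k)) k K _)
  rw [← ht0, ← add_zero (LinearMap.trace K _ ((F.baseChange K).restrict h0)), ← htn, ← hT, LinearMap.trace_baseChange]

end Groth.Agent.S8618
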