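import Groth.Statements.S8619
import Groth.Agent.ModGenLib.Resolution

set_option autoImplicit false
universe u
open CategoryTheory CategoryTheory.Limits AlgebraicGeometry
open SGA4h

namespace Groth.Agent.S8619

/-- Let X be a Noetherian scheme, Λ a commutative Noetherian ring and K a cochain complex of etale
sheaves of Λ-modules on X whose cohomology sheaves are constructible and vanish in large degrees.
Then there are a cochain complex K', zero in large degrees, whose components are constructible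
sheaves of Λ-modules with flat geometric stalks, and a quasi-isomorphism K' → K. (The published
statement allows a left-Noetherian, possibly non-commutative Λ.) -/
theorem result {Λ : Type (u + 1)} [CommRing Λ]
    [IsNoetherianRing Λ] {X : Scheme.{u}} [IsNoetherian X]
    (K : CochainComplex (EtModW.Mod Λ X) ℤ)
    (hK : ∀ i : ℤ, EtModW.IsConstructible Λ (K.homology i))
    (hb : ∃ m : ℤ, ∀ i : ℤ, m ≤ i → IsZero (K.homology i)) :
    ∃ (K' : CochainComplex (EtModW.Mod Λ X) ℤ) (φ : K' ⟶ K), QuasiIso φ ∧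
      (∃ m : ℤ, ∀ i : ℤ, m ≤ i → IsZero (K'.X i)) ∧
      (∀ i : ℤ, EtModW.IsConstructible Λ (K'.X i)) ∧
      ∀ (i : ℤ) (Ω : Type u) [Field Ω] [IsSepClosed Ω] (ξ : Spec (CommRingCat.of Ω) ⟶ X),
        Module.Flat Λ ((EtModW.stalk Λ ξ).obj (K'.X i)) := by
  obtain ⟨m, hm⟩ := hb
  obtain ⟨K', φ, hφ, hz, hK'⟩ := Groth.Agent.ModGenLib.exists_free_resolution K
    (fun i => (Groth.Agent.EtShLib.isConstructibleMod_iff _).1 (hK i)) (m - 1) (fun i hi => hm i (by omega))
  refine ⟨K', φ, hφ, ⟨m, fun i hi => hz i (by omega)⟩,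
    fun i => (Groth.Agent.EtShLib.isConstructibleMod_iff _).2 (hK' i).isCons, fun i Ω _ _ ξ => ?_⟩
  obtain ⟨a, U, hU, ⟨e⟩⟩ := hK' i
  haveI := CategoryTheory.Abelian.hasFiniteBiproducts (C := EtModW.Mod Λ X)
  haveI := Groth.Agent.ModGenLib.flat_stalk_biproduct (fun k => Groth.Agent.ModGenLib.freeSh Λ (U k)) ξ
    fun k => Groth.Agent.ModGenLib.flat_stalk Λ (U k) ξ
  exact Module.Flat.of_linearEquiv ((EtModW.stalk Λ ξ).mapIso e).toLinearEquiv

end Groth.Agent.S8619
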