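import Groth.Statements.S8621
import Groth.Agent.HenLineLib.Ring
import Groth.Agent.HenLineLib.Main
import Groth.Agent.S0511
-- import your own Groth.Agent.* helpers here

set_option autoImplicit false
universe u
open CategoryTheory CategoryTheory.Limits AlgebraicGeometry
open SGA4h

namespace Groth.Agent.S8621
open CategoryTheory.Limits


open Polynomial in
/-- Let A be a strictly henselian, normal, Noetherian local ring with maximal ideal m, P = (m, T) ⊂
A[T], R a henselization of A[T]_P, π : X = Spec R → Spec A the structure morphism and τ ∈ R the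
image of T. Let U be an open subset of Spec A whose complement has codimension ≥ 2 (every prime
outside U has height ≥ 2), V = π⁻¹(U), ι : Z = Spec R/(τ) → X the closed subscheme τ = 0 and V₀ =
ι⁻¹(V). If a finite etale cover W → V becomes trivial after restriction to V₀ (isomorphic over V₀ to
a finite disjoint union of copies of V₀), then W is trivial (isomorphic over V to a finite disjoint
union of copies of V). -/
theorem result
    (A : Type u) [CommRing A] [IsDomain A] [IsIntegrallyClosed A] [IsNoetherianRing A] [IsLocalRing A]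
    (hA : EtCoh.IsStrictlyHenselianLocalRing A) (P : Ideal A[X]) [P.IsMaximal]
    (hP : P = (IsLocalRing.maximalIdeal A).map (Polynomial.C : A →+* A[X]) ⊔ Ideal.span {Polynomial.X})
    (R : Type u) [CommRing R] [IsLocalRing R] [Algebra (Localization.AtPrime P) R]
    [IsLocalHom (algebraMap (Localization.AtPrime P) R)] [Hensel.IsHenselization (Localization.AtPrime P) R]
    (π : Spec (CommRingCat.of R) ⟶ Spec (CommRingCat.of A))
    (hπ : π = Spec.map (CommRingCat.ofHom ((algebraMap (Localization.AtPrime P) R).comp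
        ((algebraMap A[X] (Localization.AtPrime P)).comp Polynomial.C))))
    (τ : R) (hτ : τ = algebraMap (Localization.AtPrime P) R (algebraMap A[X] (Localization.AtPrime P) Polynomial.X))
    (U : (Spec (CommRingCat.of A)).Opens)
    (hU : ∀ p : PrimeSpectrum A, p ∉ U → (2 : WithBot ℕ∞) ≤ ringKrullDim (Localization.AtPrime p.asIdeal))
    (W : FEt.Cat (↑(π ⁻¹ᵁ U) : Scheme.{u}))
    (hW : ∃ (n : ℕ) (e : ((FEt.restrict ((Spec.map (CommRingCat.ofHom (Ideal.Quotient.mk (Ideal.span {τ})))).resLE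
          (π ⁻¹ᵁ U) ((Spec.map (CommRingCat.ofHom (Ideal.Quotient.mk (Ideal.span {τ})))) ⁻¹ᵁ (π ⁻¹ᵁ U))
          le_rfl)).obj W).left ≅
        ∐ fun _ : Fin n =>
          (↑((Spec.map (CommRingCat.ofHom (Ideal.Quotient.mk (Ideal.span {τ})))) ⁻¹ᵁ (π ⁻¹ᵁ U)) : Scheme.{u})),
        e.hom ≫ Sigma.desc (fun _ => 𝟙 _) =
          ((FEt.restrict ((Spec.map (CommRingCat.ofHom (Ideal.Quotient.mk (Ideal.span {τ})))).resLE
            (π ⁻¹ᵁ U) ((Spec.map (CommRingCat.ofHom (Ideal.Quotient.mk (Ideal.span {τ})))) ⁻¹ᵁ (π ⁻¹ᵁ U))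
            le_rfl)).obj W).hom) :
    ∃ (n : ℕ) (e : W.left ≅ ∐ fun _ : Fin n => (↑(π ⁻¹ᵁ U) : Scheme.{u})),
      e.hom ≫ Sigma.desc (fun _ => 𝟙 _) = W.hom := by
  classical
  obtain ⟨hH, hsep⟩ := hA
  haveI := hH
  haveI := hsep
  let L := Localization.AtPrime P
  haveI : IsNoetherianRing L := IsLocalization.isNoetherianRing P.primeCompl L inferInstance
  haveI : IsNoetherianRing R := (Groth.Agent.S0511.result L R).1 inferInstance
  haveI : HenselianLocalRing R := Hensel.IsHenselization.henselian (R := L)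
  let φ : A →+* R := (algebraMap L R).comp ((algebraMap A[X] L).comp Polynomial.C)
  subst hπ
  obtain ⟨ψ, hψφ, hψτ, hloc, hker, hff⟩ := HenLine.setup P hP R φ rfl τ hτ
  letI : Algebra R (PowerSeries A) := ψ.toAlgebra
  haveI : Module.FaithfullyFlat R (PowerSeries A) := hff
  let ρ : R →+* A := (PowerSeries.constantCoeff).comp ψ
  have hρφ : ∀ x, ρ (φ x) = x := fun x => by simp [ρ, hψφ]
  have hρτ : ρ τ = 0 := by simp [ρ, hψτ]
  have hρ : ∀ r, ρ r = 0 ↔ r ∈ Ideal.span {τ} := hker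
  haveI : IsSepClosed (IsLocalRing.ResidueField R) :=
    HenLine.isSepClosed_residue_of_surjective ρ fun x => ⟨φ x, hρφ x⟩
  obtain ⟨m, i₀, a, ha, hht, hle, hcov⟩ := HenLine.exists_cover U hU
  let V : (Spec (CommRingCat.of R)).Opens := Spec.map (CommRingCat.ofHom φ) ⁻¹ᵁ U
  have hσπ : Spec.map (CommRingCat.ofHom ρ) ≫ Spec.map (CommRingCat.ofHom φ) = 𝟙 _ := by
    rw [← Spec.map_comp, ← Spec.map_id]
    exact congrArg Spec.map (CommRingCat.hom_ext (RingHom.ext hρφ))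
  have hcompat : ∀ (j : (↑U : Scheme.{u}) ⟶ Spec (CommRingCat.of R)),
      j ≫ Spec.map (CommRingCat.ofHom φ) = U.ι → Set.range j ⊆ Set.range V.ι := fun j hj => by
    rintro _ ⟨x, rfl⟩
    rw [Scheme.Opens.range_ι]
    show (j ≫ Spec.map (CommRingCat.ofHom φ)) x ∈ U
    rw [hj]
    exact x.2
  let σU : (↑U : Scheme.{u}) ⟶ ↑V := IsOpenImmersion.lift V.ι (U.ι ≫ Spec.map (CommRingCat.ofHom ρ))
    (hcompat _ (by rw [Category.assoc, hσπ, Category.comp_id]))
  have hσU : σU ≫ V.ι = U.ι ≫ Spec.map (CommRingCat.ofHom ρ) := IsOpenImmersion.lift_fac _ _ _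
  -- a point over `τ = 0` factors through the section
  have hfac : ∀ (Q : Type u) [CommRing Q] (q : Spec (CommRingCat.of Q) ⟶ ↑V),
      HenLine.structHom (q ≫ V.ι) τ = 0 → ∃ q', q' ≫ σU = q := by
    intro Q _ q hq
    let f : R →+* Q := (Scheme.ΓSpecIso (CommRingCat.of Q)).hom.hom.comp (HenLine.structHom (q ≫ V.ι))
    have hf : q ≫ V.ι = Spec.map (CommRingCat.ofHom f) := by
      refine ext_of_isAffine ?_
      rw [← cancel_epi (Scheme.ΓSpecIso (CommRingCat.of R)).inv, ← Scheme.ΓSpecIso_inv_naturality]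
      refine CommRingCat.hom_ext (RingHom.ext fun r => ?_)
      exact ((Scheme.ΓSpecIso (CommRingCat.of Q)).commRingCatIsoToRingEquiv.symm_apply_apply
        (HenLine.structHom (q ≫ V.ι) r)).symm
    have hfρ : f = (f.comp φ).comp ρ := RingHom.ext fun r => by
      have h1 : f (r - φ (ρ r)) = 0 := by
        obtain ⟨c, hc⟩ := Ideal.mem_span_singleton.1 ((hρ (r - φ (ρ r))).1 (by rw [map_sub, hρφ, sub_self]))
        rw [hc, map_mul]
        rw [show f τ = 0 from (congrArg (Scheme.ΓSpecIso (CommRingCat.of Q)).hom.hom hq).trans (map_zero (Scheme.ΓSpecIso (CommRingCat.of Q)).hom.hom), zero_mul]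
      rw [map_sub, sub_eq_zero] at h1
      exact h1
    have hrange : Set.range (Spec.map (CommRingCat.ofHom (f.comp φ))) ⊆ Set.range U.ι := by
      rintro _ ⟨x, rfl⟩
      rw [Scheme.Opens.range_ι]
      have : Spec.map (CommRingCat.ofHom (f.comp φ)) = q ≫ V.ι ≫ Spec.map (CommRingCat.ofHom φ) := by
        rw [← Category.assoc, hf, ← Spec.map_comp]
        rfl
      rw [this]
      exact (q x).2
    refine ⟨IsOpenImmersion.lift U.ι (Spec.map (CommRingCat.ofHom (f.comp φ))) hrange, ?_⟩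
    rw [← cancel_mono V.ι, Category.assoc, hσU, IsOpenImmersion.lift_fac_assoc, hf, ← Spec.map_comp]
    exact congrArg Spec.map (CommRingCat.hom_ext hfρ.symm)
  -- sections of the cover of `τ = 0`
  obtain ⟨d, e, he⟩ := hW
  let J : Ideal R := Ideal.span {τ}
  let jc : Spec (CommRingCat.of (R ⧸ J)) ⟶ Spec (CommRingCat.of R) := Spec.map (CommRingCat.ofHom (Ideal.Quotient.mk J))
  let V₀ := jc ⁻¹ᵁ V
  let jV : (↑V₀ : Scheme.{u}) ⟶ ↑V := jc.resLE V V₀ le_rfl
  have hjV : jV ≫ V.ι = V₀.ι ≫ jc := Scheme.Hom.resLE_comp_ι _ _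
  let ρb : R ⧸ J →+* A := Ideal.Quotient.lift J ρ fun r hr => (hρ r).2 hr
  have hρb : jc = jc ∧ Spec.map (CommRingCat.ofHom ρb) ≫ jc = Spec.map (CommRingCat.ofHom ρ) := by
    refine ⟨rfl, ?_⟩
    rw [← Spec.map_comp]
    rfl
  let ν : (↑U : Scheme.{u}) ⟶ ↑V₀ := IsOpenImmersion.lift V₀.ι (U.ι ≫ Spec.map (CommRingCat.ofHom ρb)) (by
    rintro _ ⟨x, rfl⟩
    rw [Scheme.Opens.range_ι]
    show (U.ι ≫ Spec.map (CommRingCat.ofHom ρb) ≫ jc) x ∈ V
    rw [hρb.2, ← hσU]
    exact (σU x).2)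
  have hν : ν ≫ V₀.ι = U.ι ≫ Spec.map (CommRingCat.ofHom ρb) := IsOpenImmersion.lift_fac _ _ _
  have hνσ : ν ≫ jV = σU := by
    rw [← cancel_mono V.ι, Category.assoc, hjV, ← Category.assoc, hν, Category.assoc, hρb.2, hσU]
  let inv₀ : A →+* R ⧸ J := (Ideal.Quotient.mk J).comp φ
  let ν' : (↑V₀ : Scheme.{u}) ⟶ ↑U := IsOpenImmersion.lift U.ι (V₀.ι ≫ Spec.map (CommRingCat.ofHom inv₀)) (by
    rintro _ ⟨x, rfl⟩
    rw [Scheme.Opens.range_ι]
    exact x.2)
  have hν' : ν' ≫ ν = 𝟙 _ := by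
    rw [← cancel_mono V₀.ι, Category.assoc, hν, IsOpenImmersion.lift_fac_assoc, Category.assoc, ← Spec.map_comp, Category.id_comp]
    have hid : CommRingCat.ofHom ρb ≫ CommRingCat.ofHom inv₀ = 𝟙 _ := by
      refine CommRingCat.hom_ext (RingHom.ext fun z => ?_)
      obtain ⟨r, rfl⟩ := Ideal.Quotient.mk_surjective z
      show Ideal.Quotient.mk J (φ (ρ r)) = Ideal.Quotient.mk J r
      rw [Ideal.Quotient.eq, ← hρ, map_sub, hρφ, sub_self]
    rw [hid, Spec.map_id, Category.comp_id]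
  let w : W.left ⟶ ↑V := W.hom
  haveI : IsFinite w := W.prop.1
  haveI : Etale w := W.prop.2
  let pb : Scheme.{u} := pullback w jV
  let e' : pb ≅ ∐ fun _ : Fin d => (↑V₀ : Scheme.{u}) := e
  have he' : e'.inv ≫ pullback.snd w jV = Limits.Sigma.desc fun _ => 𝟙 _ := (Iso.inv_comp_eq e').2 he.symm
  let ι₀ : Fin d → ((↑V₀ : Scheme.{u}) ⟶ pb) := fun j => Sigma.ι (fun _ : Fin d => (↑V₀ : Scheme.{u})) j ≫ e'.inv
  have hι₀ : ∀ j, ι₀ j ≫ pullback.snd w jV = 𝟙 _ := fun j => by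
    rw [Category.assoc, he', Sigma.ι_desc]
  let t : Fin d → ((↑U : Scheme.{u}) ⟶ W.left) := fun j => ν ≫ ι₀ j ≫ pullback.fst w jV
  have htσ : ∀ j, t j ≫ w = σU := fun j => by
    simp only [t, Category.assoc]
    rw [pullback.condition, reassoc_of% hι₀ j, hνσ]
  obtain ⟨u₀, hu₀⟩ : ∃ u₀ : PrimeSpectrum A, u₀ ∈ U :=
    ⟨⟨⊥, Ideal.bot_prime⟩, hle i₀ (show a i₀ ∉ (⊥ : Ideal A) from fun h => ha i₀ h)⟩
  have hinj : Function.Injective t := by
    intro i j hij
    by_contra hne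
    have h1 : ι₀ i = ι₀ j := by
      apply pullback.hom_ext
      · have h2 := congrArg (ν' ≫ ·) hij
        simpa [t, reassoc_of% hν'] using h2
      · rw [hι₀, hι₀]
    have h2 : Sigma.ι (fun _ : Fin d => (↑V₀ : Scheme.{u})) i = Sigma.ι (fun _ : Fin d => (↑V₀ : Scheme.{u})) j := (cancel_mono e'.inv).1 (show Sigma.ι (fun _ : Fin d => (↑V₀ : Scheme.{u})) i ≫ e'.inv = Sigma.ι (fun _ : Fin d => (↑V₀ : Scheme.{u})) j ≫ e'.inv from h1)
    let v := ν ⟨u₀, hu₀⟩
    have h3 := (disjoint_opensRange_sigmaι (fun _ : Fin d => (↑V₀ : Scheme.{u})) i j hne).le_bot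
      (x := Sigma.ι (fun _ : Fin d => (↑V₀ : Scheme.{u})) i v) ⟨⟨v, rfl⟩, ⟨v, by rw [h2]⟩⟩
    exact h3
  obtain ⟨Φ, hΦ⟩ := HenLine.exists_tensor φ hψφ τ hψτ ρ (fun r => rfl) i₀ a ha hht U hle hcov w t
    (fun j => by rw [reassoc_of% htσ j, hσU]) hinj (by
      intro b hb Q _ q hq
      obtain ⟨q', hq'⟩ := hfac Q (q ≫ w) (by rw [Category.assoc]; exact hq)
      let p : Spec (CommRingCat.of Q) ⟶ pb := pullback.lift q (q' ≫ ν) (by rw [Category.assoc, hνσ, hq'])
      have hp : p ≫ pullback.fst w jV = q := pullback.lift_fst _ _ _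
      have hz : (e'.inv ≫ pullback.fst w jV).appTop b = 0 := HenLine.sigma_appTop_eq_zero _ fun j => by
        show (Sigma.ι (fun _ : Fin d => (↑V₀ : Scheme.{u})) j ≫ e'.inv ≫ pullback.fst w jV).appTop b = 0
        have h1 : Sigma.ι (fun _ : Fin d => (↑V₀ : Scheme.{u})) j ≫ e'.inv ≫ pullback.fst w jV = ν' ≫ t j := by
          simp only [t, ι₀, Category.assoc, reassoc_of% hν']
        rw [h1]
        show ν'.appTop ((t j).appTop b) = 0
        rw [hb j, map_zero]
      rw [← hp, show p ≫ pullback.fst w jV = (p ≫ e'.hom) ≫ e'.inv ≫ pullback.fst w jV by simp]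
      show (p ≫ e'.hom).appTop ((e'.inv ≫ pullback.fst w jV).appTop b) = 0
      rw [hz, map_zero])
  letI : Algebra R Γ(W.left, ⊤) := (HenLine.structHom (w ≫ V.ι)).toAlgebra
  obtain ⟨hfinB, hetB⟩ := HenLine.finite_etale_of_tensor Φ hΦ
  haveI := hfinB
  haveI := hetB
  obtain ⟨n, ⟨eB⟩⟩ := HenLine.exists_pi_equiv (R := R) (B := Γ(W.left, ⊤))
  have hV : Function.Bijective (HenLine.structHom V.ι) := by
    obtain ⟨Φ₁, hΦ₁⟩ := HenLine.exists_tensor φ hψφ τ hψτ ρ (fun r => rfl) i₀ a ha hht U hle hcov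
      (𝟙 (↑V : Scheme.{u})) (fun _ : Fin 1 => σU) (fun j => by rw [Category.id_comp, hσU])
      (fun i j _ => Subsingleton.elim i j) (by
        intro b hb Q _ q hq
        obtain ⟨q', hq'⟩ := hfac Q q (by rw [Category.id_comp] at hq; exact hq)
        rw [← hq']
        show q'.appTop (σU.appTop b) = 0
        rw [hb 0, map_zero])
    letI : Algebra R Γ((↑V : Scheme.{u}), ⊤) := (HenLine.structHom (𝟙 (↑V : Scheme.{u}) ≫ V.ι)).toAlgebra
    have := HenLine.bijective_algebraMap_of_tensor Φ₁ hΦ₁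
    rw [RingHom.algebraMap_toAlgebra] at this
    simpa only [Category.id_comp] using this
  obtain ⟨E, hE⟩ := HenLine.splits_of_pi_equiv hV w eB
  let r : (∐ fun _ : ULift.{u} (Fin n) => (↑V : Scheme.{u})) ≅ ∐ fun _ : Fin n => (↑V : Scheme.{u}) :=
    Sigma.reindex Equiv.ulift (fun _ : Fin n => (↑V : Scheme.{u}))
  refine ⟨n, E ≪≫ r, ?_⟩
  have hr : r.hom ≫ Limits.Sigma.desc (fun _ : Fin n => 𝟙 (↑V : Scheme.{u})) = Limits.Sigma.desc fun _ => 𝟙 _ :=
    Sigma.hom_ext _ _ fun j => by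
      rw [Sigma.ι_desc, ← Category.assoc]
      exact (congrArg (fun g => g ≫ Limits.Sigma.desc (fun _ : Fin n => 𝟙 (↑V : Scheme.{u})))
        (Sigma.ι_reindex_hom Equiv.ulift (fun _ : Fin n => (↑V : Scheme.{u})) j)).trans (Sigma.ι_desc _ _)
  rw [Iso.trans_hom, Category.assoc, hr]
  exact hE


end Groth.Agent.S8621
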