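import Groth.Statements.S8625
import Mathlib.Algebra.Group.Conj
import Mathlib.Tactic.Group

set_option autoImplicit false
universe u
open SGA4h

namespace Groth.Agent.S8625

/-- Let G be a group with an endomorphism F, and assume the Lang map g ↦ F(g)g⁻¹ is surjective (for
instance the geometric points of a connected algebraic group over F_q with its Frobenius, where the
surjectivity is the classical result of Lang; the other Lang map g ↦ g⁻¹F(g) is then surjective too,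
by g ↦ g⁻¹). Let G^F be the subgroup of fixed points of F. (i) If F(g)g⁻¹ is fixed by F then so is
g⁻¹F(g). (ii), (iii) There is a bijection of the set of conjugacy classes of G^F with itself
sending, for every g with F(g)g⁻¹ ∈ G^F, the class of F(g)g⁻¹ to the class of g⁻¹F(g) (in particular
the latter class depends only on the former). -/
theorem result {G : Type u} [Group G] (F : G →* G)
    (hL : Function.Surjective fun g : G => F g * g⁻¹) :
    (∀ g : G, F (F g * g⁻¹) = F g * g⁻¹ → F (g⁻¹ * F g) = g⁻¹ * F g) ∧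
    ∃ φ : ConjClasses ↥(F.eqLocus (MonoidHom.id G)) → ConjClasses ↥(F.eqLocus (MonoidHom.id G)),
      Function.Bijective φ ∧
      ∀ (g : G) (h : F (F g * g⁻¹) = F g * g⁻¹) (h' : F (g⁻¹ * F g) = g⁻¹ * F g),
        φ (ConjClasses.mk (⟨F g * g⁻¹, h⟩ : ↥(F.eqLocus (MonoidHom.id G)))) =
          ConjClasses.mk (⟨g⁻¹ * F g, h'⟩ : ↥(F.eqLocus (MonoidHom.id G))) := by
  classical
  let K := F.eqLocus (MonoidHom.id G)
  have hmem : ∀ x : G, x ∈ K ↔ F x = x := fun x => Iff.rfl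
  have hi : ∀ g : G, F (F g * g⁻¹) = F g * g⁻¹ → F (g⁻¹ * F g) = g⁻¹ * F g := fun g h => by
    have hFg : F (F g) = F g * g⁻¹ * F g := by
      conv_lhs => rw [show F g = (F g * g⁻¹) * g by group]
      rw [map_mul, h]
    rw [map_mul, map_inv, hFg]
    group
  have hi' : ∀ g : G, F (g⁻¹ * F g) = g⁻¹ * F g → F (F g * g⁻¹) = F g * g⁻¹ := fun g h => by
    have hFg : F (F g) = F g * (g⁻¹ * F g) := by
      conv_lhs => rw [show F g = g * (g⁻¹ * F g) by group]
      rw [map_mul, h]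
    rw [map_mul, map_inv, hFg]
    group
  refine ⟨hi, ?_⟩
  choose L hL' using hL
  have hfix : ∀ c : K, F (F (L (c : G)) * (L (c : G))⁻¹) = F (L (c : G)) * (L (c : G))⁻¹ := fun c => by
    have h := hL' (c : G)
    simp only at h
    rw [h]; exact (hmem _).1 c.2
  let φ₀ : K → ConjClasses K := fun c =>
    ConjClasses.mk ⟨(L (c : G))⁻¹ * F (L (c : G)), (hmem _).2 (hi _ (hfix c))⟩
  have key : ∀ (g g' : G) (h : F (g⁻¹ * F g) = g⁻¹ * F g) (h' : F (g'⁻¹ * F g') = g'⁻¹ * F g'),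
      F g * g⁻¹ = F g' * g'⁻¹ →
      ConjClasses.mk (⟨g⁻¹ * F g, (hmem _).2 h⟩ : K) = ConjClasses.mk ⟨g'⁻¹ * F g', (hmem _).2 h'⟩ := by
    intro g g' h h' he
    have hk : F (g'⁻¹ * g) = g'⁻¹ * g := by
      have h1 : F g = F g' * g'⁻¹ * g := by rw [← he]; group
      rw [map_mul, map_inv, h1]; group
    rw [ConjClasses.mk_eq_mk_iff_isConj, isConj_iff]
    refine ⟨⟨g'⁻¹ * g, (hmem _).2 hk⟩, Subtype.ext ?_⟩
    show g'⁻¹ * g * (g⁻¹ * F g) * (g'⁻¹ * g)⁻¹ = g'⁻¹ * F g'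
    have h1 : F g = F g' * g'⁻¹ * g := by rw [← he]; group
    rw [h1]; group
  have hwd : ∀ c c' : K, IsConj c c' → φ₀ c = φ₀ c' := by
    intro c c' hcc
    obtain ⟨t, ht⟩ := isConj_iff.1 hcc
    have htG : (t : G) * (c : G) * (t : G)⁻¹ = c' := congrArg Subtype.val ht
    have hFt : F (t : G) = t := (hmem _).1 t.2
    have h1 := hL' (c : G)
    have h2 := hL' (c' : G)
    simp only at h1 h2
    have h3 : ((t : G) * L c)⁻¹ * F ((t : G) * L c) = (L (c : G))⁻¹ * F (L (c : G)) := by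
      rw [map_mul, hFt]; group
    have h4 := key ((t : G) * L c) (L (c' : G)) (by rw [h3]; exact hi _ (hfix c)) (hi _ (hfix c')) (by
      rw [h2, ← htG, map_mul, hFt]
      generalize hg : L (c : G) = g at h1 ⊢
      rw [← h1]; group)
    exact (congrArg ConjClasses.mk (Subtype.ext h3.symm)).trans h4
  let φ : ConjClasses K → ConjClasses K := Quotient.lift φ₀ hwd
  have hspec : ∀ (g : G) (h : F (F g * g⁻¹) = F g * g⁻¹) (h' : F (g⁻¹ * F g) = g⁻¹ * F g),
      φ (ConjClasses.mk (⟨F g * g⁻¹, h⟩ : K)) = ConjClasses.mk (⟨g⁻¹ * F g, h'⟩ : K) := by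
    intro g h h'
    exact key _ g (hi _ (hfix ⟨_, h⟩)) h' (hL' (F g * g⁻¹))
  refine ⟨φ, ⟨?_, ?_⟩, hspec⟩
  · intro a b hab
    obtain ⟨c, rfl⟩ := ConjClasses.mk_surjective a
    obtain ⟨c', rfl⟩ := ConjClasses.mk_surjective b
    have h1 := hL' (c : G)
    have h2 := hL' (c' : G)
    simp only at h1 h2
    obtain ⟨t, ht⟩ := isConj_iff.1 (ConjClasses.mk_eq_mk_iff_isConj.1 hab)
    have htG : (t : G) * ((L (c : G))⁻¹ * F (L (c : G))) * (t : G)⁻¹ = (L (c' : G))⁻¹ * F (L (c' : G)) :=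
      congrArg Subtype.val ht
    have hFt : F (t : G) = t := (hmem _).1 t.2
    -- `u` is fixed and conjugates `c` to `c'`
    have hF' : F (L (c' : G)) = L (c' : G) * t * (L (c : G))⁻¹ * F (L (c : G)) * (t : G)⁻¹ := by
      rw [show L (c' : G) * t * (L (c : G))⁻¹ * F (L (c : G)) * (t : G)⁻¹ =
        L (c' : G) * ((t : G) * ((L (c : G))⁻¹ * F (L (c : G))) * (t : G)⁻¹) by group, htG]
      group
    have hu : F (L (c' : G) * t * (L (c : G))⁻¹) = L (c' : G) * t * (L (c : G))⁻¹ := by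
      rw [map_mul, map_mul, map_inv, hFt, hF']; group
    rw [ConjClasses.mk_eq_mk_iff_isConj, isConj_iff]
    refine ⟨⟨_, (hmem _).2 hu⟩, Subtype.ext ?_⟩
    show L (c' : G) * t * (L (c : G))⁻¹ * (c : G) * (L (c' : G) * t * (L (c : G))⁻¹)⁻¹ = c'
    generalize hg : L (c : G) = g at h1 hF' ⊢
    generalize hg' : L (c' : G) = g' at h2 hF' ⊢
    rw [← h1, ← h2, hF']; group
  · intro a
    obtain ⟨d, rfl⟩ := ConjClasses.mk_surjective a
    obtain ⟨x, hx⟩ : ∃ x, x⁻¹ * F x = (d : G) := by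
      have h := hL' ((d : G)⁻¹)
      simp only at h
      refine ⟨(L ((d : G)⁻¹))⁻¹, ?_⟩
      generalize hy : L ((d : G)⁻¹) = y at h ⊢
      rw [map_inv, ← inv_inj, ← h]; group
    have h' : F (x⁻¹ * F x) = x⁻¹ * F x := by rw [hx]; exact (hmem _).1 d.2
    refine ⟨ConjClasses.mk ⟨F x * x⁻¹, (hmem _).2 (hi' x h')⟩, ?_⟩
    rw [hspec x (hi' x h') h']
    exact congrArg _ (Subtype.ext hx)

end Groth.Agent.S8625
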