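import Groth.Statements.S8627
import Groth.Agent.LocAcycPointLib.Main

set_option autoImplicit false
universe u
open CategoryTheory CategoryTheory.Limits AlgebraicGeometry
open SGA4h

namespace Groth.Agent.S8627

/-- Let f : X → S be a locally acyclic morphism of quasi-compact quasi-separated schemes
(vanishing-cycle varieties have the ℤ/n-cohomology of a point for n prime to the residue
characteristics), n a natural number invertible on S, and ε : t = Spec Ω → S a geometric point (Ω
separably closed), with cartesian square X_t = X ×_S t, ε' : X_t → X, f_t : X_t → t. Then the base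
change map f⁻¹ ε_* (ℤ/n) → ε'_* f_t⁻¹(ℤ/n) (= ε'_* ℤ/n) is an isomorphism and R^q ε'_* (ℤ/n) = 0 for
every q > 0. (The published statement takes the geometric point t with an algebraically closed
field; this row allows any separably closed field Ω.) -/
theorem result {X S : Scheme.{u}}
    [CompactSpace ↥X] [QuasiSeparatedSpace ↥X] [CompactSpace ↥S] [QuasiSeparatedSpace ↥S]
    (f : X ⟶ S) (hf : EtRest.IsLocallyAcyclic f) (n : ℕ) (hn : IsUnit (n : Γ(S, ⊤)))
    {Ω : Type u} [Field Ω] [IsSepClosed Ω] (t : Spec (CommRingCat.of Ω) ⟶ S) :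
    IsIso (EtCoh.baseChange0 t f (pullback.fst f t) (pullback.snd f t) (pullback.condition).symm
      (EtCoh.const (Spec (CommRingCat.of Ω)) (ZMod n))) ∧
    ∀ q : ℕ, 0 < q →
      IsZero ((EtCoh.Rpush (pullback.fst f t) q).obj (EtCoh.const (pullback f t) (ZMod n))) := by
  haveI := EtSliceLib.pullExact (pullback.snd f t)
  haveI : QuasiCompact t := inferInstance
  haveI : QuasiSeparated t := inferInstance
  have c : IsPullback (pullback.snd f t) (pullback.fst f t) t f := (IsPullback.of_hasPullback f t).flip
  let F := EtCoh.const (Spec (CommRingCat.of Ω)) (ZMod n)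
  have hiso : ∀ q : ℕ, IsIso (EtBC.bcQ t f (pullback.fst f t) (pullback.snd f t) c.w q F) := fun q => by
    rcases Nat.lt_or_ge 1 n with hn1 | hn1
    · refine (EtBcQLib.isIso_bcQ_iff f t (pullback.fst f t) (pullback.snd f t) c F q).1 ?_
      intro x RS _ _ _ _ hS RX _ _ _ _ hX ψ _ hψ PS PX aS bS sqS aX bX sqX m w hm _
      letI : Algebra RS RX := ψ.toAlgebra
      haveI : IsLocalHom (algebraMap RS RX) := ‹IsLocalHom ψ›
      haveI : WeaklyEtale (Hens2.specOf S (f.base x) RS) := Groth.Agent.S0754.result S (f.base x) RS
      haveI : WeaklyEtale aS := MorphismProperty.of_isPullback sqS.flip ‹_›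
      have hw : Spec.map (CommRingCat.ofHom ψ) ≫ Hens2.specOf S (f.base x) RS = Hens2.specOf X x RX ≫ f :=
        EtBcQLib.specOf_comp f x RS RX ψ hψ
      have sqm : IsPullback m bX bS (Spec.map (CommRingCat.ofHom ψ)) :=
        IsPullback.of_right (by rw [w, hw]; exact sqX) hm sqS
      haveI : IsAffineHom m := MorphismProperty.of_isPullback sqm.flip inferInstance
      have hfib : ∀ k, EtAcyc.GeomFibresAcyclicN (LocAcycPointLib.primesOf n) k m := fun k y K _ _ _ _ => by
        let ω := EtAcyc.geomPt PS y K
        have h0 : EtAcyc.IsAcyclicSchemeN (LocAcycPointLib.primesOf n) k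
            (pullback (Spec.map (CommRingCat.ofHom (algebraMap RS RX))) (ω ≫ bS)) :=
          LocAcycPointLib.acyclicScheme_fibre hf x RS RX hψ hn1
            (LocAcycPointLib.natCast_residueField_ne_zero f hn x) k (ω ≫ bS)
        exact LocAcycPointLib.isAcyclicSchemeN_of_iso
          (((IsPullback.of_hasPullback m ω).flip.paste_vert sqm).flip.isoPullback).symm h0
      haveI : CompactSpace ↥PS := by
        haveI : QuasiCompact bS := MorphismProperty.of_isPullback sqS ‹QuasiCompact t›
        exact QuasiCompact.compactSpace_of_compactSpace bS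
      have hac := LocAcycPointLib.bijective_Hpull_of_acyclic m hn1
        (fun j => LocAcycPointLib.isLocAcyclicN_of_zeroDim m (LocAcycPointLib.zeroDim_of_weaklyEtale aS)
          (LocAcycPointLib.exists_prime hn1) j) hfib q
      have hF : EtAcyc.IsLTorsion (LocAcycPointLib.primesOf n) ((EtCoh.pull aS).obj F) :=
        EtAcycLib.isLTorsion_pull_any aS (LocAcycPointLib.isLTorsion_const (LocAcycPointLib.primesIn_self (by omega)))
      exact (ConcreteCategory.bijective_of_isIso ((EtCoh.HF PX q).map
        (((EtCore.pullComp m aS).symm ≪≫ EtCore.pullCongr w).app F).hom)).comp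
          (((EtAcycFibLib.compN_of_acyclicN hac) _ hF).1 q le_rfl)
    · rcases Nat.le_one_iff_eq_zero_or_eq_one.1 hn1 with rfl | rfl
      · exfalso
        haveI : Nontrivial Ω := inferInstance
        have h := (hn.map t.appTop.hom).map (Scheme.ΓSpecIso (CommRingCat.of Ω)).hom.hom
        simp at h
      · have hz : IsZero F := by
          refine (ConstHLib.cS _).map_isZero ?_
          haveI : Subsingleton (ZMod 1) := inferInstance
          exact AddCommGrpCat.isZero_of_subsingleton _
        exact EtBcBridgeLib.isIso_bcQ_of_isZero _ _ _ _ _ hz q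
  refine ⟨?_, fun q hq => ?_⟩
  · haveI := hiso 0
    haveI : PreservesLimitsOfSize.{0, 0} (EtCoh.push t) := (EtCoh.pullPushAdj t).rightAdjoint_preservesLimits
    haveI : PreservesFiniteLimits (EtCoh.push t) := PreservesLimitsOfSize.preservesFiniteLimits _
    haveI : PreservesLimitsOfSize.{0, 0} (EtCoh.push (pullback.fst f t)) :=
      (EtCoh.pullPushAdj (pullback.fst f t)).rightAdjoint_preservesLimits
    haveI : PreservesFiniteLimits (EtCoh.push (pullback.fst f t)) := PreservesLimitsOfSize.preservesFiniteLimits _
    haveI : IsIso ((EtCoh.push t).toRightDerivedZero.app F) := inferInstance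
    haveI : IsIso ((EtCoh.push (pullback.fst f t)).toRightDerivedZero.app ((EtCoh.pull (pullback.snd f t)).obj F)) :=
      inferInstance
    haveI : IsIso (EtCoh.baseChange0 t f (pullback.fst f t) (pullback.snd f t) c.w F ≫
        (EtCoh.push (pullback.fst f t)).toRightDerivedZero.app ((EtCoh.pull (pullback.snd f t)).obj F)) := by
      rw [← EtBC.bcQ_zero_compat]
      infer_instance
    exact IsIso.of_isIso_comp_right _
      ((EtCoh.push (pullback.fst f t)).toRightDerivedZero.app ((EtCoh.pull (pullback.snd f t)).obj F))
  · obtain ⟨k, rfl⟩ : ∃ k, q = k + 1 := ⟨q - 1, by omega⟩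
    haveI : (EtCoh.pull f).Additive := (EtCoh.pullPushAdj f).left_adjoint_additive
    haveI := hiso (k + 1)
    have h := ((EtCoh.pull f).map_isZero (LocAcycPointLib.isZero_Rpush_point t F k)).of_iso
      (asIso (EtBC.bcQ t f (pullback.fst f t) (pullback.snd f t) c.w (k + 1) F)).symm
    exact h.of_iso ((EtCoh.Rpush (pullback.fst f t) (k + 1)).mapIso
      (EtCore.pullConst (pullback.snd f t) (ZMod n)).symm)

end Groth.Agent.S8627
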