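import Groth.Statements.S8629
import Groth.Agent.EtProperConsLib.Spec
import Groth.Agent.LocAcycPointLib.Main
import Groth.Agent.EtBcBridgeLib.Criterion

set_option autoImplicit false
set_option backward.isDefEq.respectTransparency false
set_option backward.isDefEq.respectTransparency.types false
set_option maxHeartbeats 1000000
set_option synthInstance.maxHeartbeats 400000
universe u
open CategoryTheory CategoryTheory.Limits AlgebraicGeometry
open SGA4h

namespace Groth.Agent.S8629

/-- Let S be a Noetherian scheme, f : X → S a proper and locally acyclic morphism (for instance proper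
and smooth) and n a natural number invertible on S. Then every higher direct image R^q f_* (ℤ/n) is
a finite locally constant (locally constant constructible) sheaf on S. (The published statement has
no Noetherian hypothesis on S; the cospecialisation assertion is not included.) -/
theorem result {X S : Scheme.{u}}
    [IsNoetherian S] (f : X ⟶ S) [IsProper f] (hf : EtRest.IsLocallyAcyclic f)
    (n : ℕ) (hn : IsUnit (n : Γ(S, ⊤))) (q : ℕ) :
    EtCoh.IsFiniteLocallyConstant ((EtCoh.Rpush f q).obj (EtCoh.const X (ZMod n))) := by
  rcases Nat.eq_zero_or_pos n with rfl | hn0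
  · refine (EtShLib.isFLC_iff _).2 fun x => absurd ?_ (LocAcycPointLib.natCast_residueField_ne_zero (𝟙 S) hn x)
    exact Nat.cast_zero
  haveI : NeZero n := ⟨hn0.ne'⟩
  haveI : LocallyOfFinitePresentation f := inferInstance
  have hlc : EtCoh.IsFiniteLocallyConstant (EtCoh.const X (ZMod n)) :=
    (EtShLib.isFLC_iff _).2 (EtCurveConsLib.lc_const X n)
  rcases eq_or_ne n 1 with rfl | hn1
  · exact EtProperConsLib.isFLC_Rpush f ∅ q
      (EtBcBridgeLib.isLocAcyclicN_of_no_prime f (fun ⟨ℓ, h, _⟩ => h) q) _
      (LocAcycPointLib.isLTorsion_const ⟨one_pos, fun p hp hd => absurd (Nat.dvd_one.1 hd) hp.one_lt.ne'⟩) hlc q le_rfl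
  · exact EtProperConsLib.isFLC_Rpush f (LocAcycPointLib.primesOf n) q
      (LocAcycPointLib.isLocAcyclicN_of_isLocallyAcyclic hf (by omega)
        (LocAcycPointLib.natCast_residueField_ne_zero f hn) q) _
      (LocAcycPointLib.isLTorsion_const (LocAcycPointLib.primesIn_self hn0)) hlc q le_rfl

end Groth.Agent.S8629
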