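import Groth.Statements.S8630
import Mathlib


-- import your own Groth.Agent.* helpers here

set_option autoImplicit false
open Zeta

namespace Groth.Agent.S8630

/-- Fatou's lemma: let P, Q ∈ ℚ[T] be coprime with constant coefficient 1, and suppose the power series
P/Q has integer coefficients, i.e. P = Q·Z in ℚ⟦T⟧ for a power series Z with coefficients in ℤ. Then
P and Q have integer coefficients. -/
theorem result (P Q : Polynomial ℚ)
    (hPQ : IsCoprime P Q) (hP : P.coeff 0 = 1) (hQ : Q.coeff 0 = 1) (Z : PowerSeries ℤ)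
    (hZ : (P : PowerSeries ℚ) = (Q : PowerSeries ℚ) * PowerSeries.map (Int.castRingHom ℚ) Z) :
    (∃ P₀ : Polynomial ℤ, P₀.map (Int.castRingHom ℚ) = P) ∧
      ∃ Q₀ : Polynomial ℤ, Q₀.map (Int.castRingHom ℚ) = Q := by
  classical
  set ι := Int.castRingHom ℚ with hι
  have hinj : Function.Injective ι := Int.cast_injective
  have clear_den : ∀ F : Polynomial ℚ, ∃ (F₀ : Polynomial ℤ) (d : ℤ), d ≠ 0 ∧ F₀.map ι = Polynomial.C (d : ℚ) * F := by
    intro F
    obtain ⟨d, hd⟩ := IsLocalization.integerNormalization_map_to_map (nonZeroDivisors ℤ) (S := ℚ) F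
    refine ⟨IsLocalization.integerNormalization (nonZeroDivisors ℤ) F, d, nonZeroDivisors.ne_zero d.2, ?_⟩
    rw [show ι = algebraMap ℤ ℚ from (algebraMap_int_eq ℚ).symm, hd, ← Polynomial.smul_eq_C_mul]
    ext n; simp [Submonoid.smul_def]
  obtain ⟨Q₁, d, hd, hQ₁⟩ := clear_den Q
  have hQne : Q ≠ 0 := fun h => by simp [h] at hQ
  have hQ₁0 : Q₁ ≠ 0 := by
    rintro rfl
    simp [hd, hQne] at hQ₁
  set Q₀ := Q₁.primPart with hQ₀
  have hc0 : Q₁.content ≠ 0 := by simp [Polynomial.content_eq_zero_iff, hQ₁0]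
  obtain ⟨c, hc, hQc⟩ : ∃ c : ℚ, c ≠ 0 ∧ Q₀.map ι = Polynomial.C c * Q := by
    refine ⟨(d : ℚ) / (Q₁.content : ℚ), div_ne_zero (by exact_mod_cast hd) (by exact_mod_cast hc0), ?_⟩
    have h := hQ₁
    rw [Q₁.eq_C_content_mul_primPart, Polynomial.map_mul, Polynomial.map_C] at h
    have hne : (Polynomial.C (Q₁.content : ℚ)) ≠ 0 := by simpa using hc0
    refine mul_left_cancel₀ hne ?_
    rw [← mul_assoc, ← map_mul, mul_div_cancel₀ _ (by exact_mod_cast hc0)]
    exact h
  set S : PowerSeries ℤ := (Q₀ : PowerSeries ℤ) * Z with hS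
  have hSmap : PowerSeries.map ι S = (Polynomial.C c * P : Polynomial ℚ) := by
    rw [hS, map_mul, ← Polynomial.polynomial_map_coe, hQc, Polynomial.coe_mul, Polynomial.coe_mul, mul_assoc, ← hZ]
  obtain ⟨P₀, hP₀⟩ : ∃ P₀ : Polynomial ℤ, (P₀ : PowerSeries ℤ) = S := by
    refine ⟨S.trunc (P.natDegree + 1), PowerSeries.ext fun n => ?_⟩
    rw [Polynomial.coeff_coe, PowerSeries.coeff_trunc]
    split_ifs with hn
    · rfl
    · refine (hinj ?_).symm
      have := congrArg (PowerSeries.coeff n) hSmap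
      rw [PowerSeries.coeff_map, Polynomial.coeff_coe, Polynomial.coeff_C_mul,
        Polynomial.coeff_eq_zero_of_natDegree_lt (by omega), mul_zero] at this
      rw [this, map_zero]
  have hPc : P₀.map ι = Polynomial.C c * P := by
    apply Polynomial.coe_injective ℚ
    rw [Polynomial.polynomial_map_coe, hP₀, hSmap]
  obtain ⟨u, v, huv⟩ := hPQ
  obtain ⟨u₁, e₁, he₁, hu₁⟩ := clear_den u
  obtain ⟨v₁, e₂, he₂, hv₁⟩ := clear_den v
  set R₀ := Polynomial.C e₂ * u₁ * P₀ + Polynomial.C e₁ * v₁ * Q₀ with hR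
  have hRmap : R₀.map ι = Polynomial.C ((e₁ : ℚ) * e₂ * c) := by
    rw [hR, Polynomial.map_add, Polynomial.map_mul, Polynomial.map_mul, Polynomial.map_mul, Polynomial.map_mul,
      Polynomial.map_C, Polynomial.map_C, hu₁, hv₁, hPc, hQc, map_mul, map_mul]
    simp only [hι, eq_intCast]
    linear_combination (Polynomial.C (e₁ : ℚ) * Polynomial.C (e₂ : ℚ) * Polynomial.C c) * huv
  set m := R₀.coeff 0 with hm
  have hmv : (m : ℚ) = (e₁ : ℚ) * e₂ * c := by
    have h := congrArg (Polynomial.coeff · 0) hRmap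
    simpa [Polynomial.coeff_map, hι] using h
  have hm0 : m ≠ 0 := by
    intro h
    rw [h, Int.cast_zero] at hmv
    exact mul_ne_zero (mul_ne_zero (Int.cast_ne_zero.mpr he₁) (Int.cast_ne_zero.mpr he₂)) hc hmv.symm
  have hRC : R₀ = Polynomial.C m := Polynomial.map_injective ι hinj (by rw [hRmap, Polynomial.map_C, hι, eq_intCast, hmv])
  have key : ∀ (k : ℕ) (m : ℤ) (G : PowerSeries ℤ), m.natAbs = k → m ≠ 0 →
      (Q₀ : PowerSeries ℤ) * G = PowerSeries.C m → IsUnit (PowerSeries.constantCoeff (Q₀ : PowerSeries ℤ)) := by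
    intro k
    induction k using Nat.strong_induction_on with
    | _ k ih =>
      intro m G hk hm hG
      by_cases h1 : m.natAbs = 1
      · have h := congrArg PowerSeries.constantCoeff hG
        rw [map_mul, PowerSeries.constantCoeff_C] at h
        exact isUnit_of_mul_isUnit_left (h ▸ Int.isUnit_iff_natAbs_eq.mpr h1)
      · obtain ⟨q, hq, hqm⟩ := Nat.exists_prime_and_dvd h1
        haveI : Fact q.Prime := ⟨hq⟩
        obtain ⟨m', rfl⟩ : (q : ℤ) ∣ m := Int.natCast_dvd.mpr hqm
        let π := PowerSeries.map (Int.castRingHom (ZMod q))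
        have h := congrArg π hG
        rw [map_mul, show π (PowerSeries.C ((q : ℤ) * m')) = 0 by
          rw [PowerSeries.map_C]; simp] at h
        have hQne0 : π (Q₀ : PowerSeries ℤ) ≠ 0 := by
          intro h0
          have hdvd : Polynomial.C (q : ℤ) ∣ Q₀ := by
            rw [Polynomial.C_dvd_iff_dvd_coeff]
            intro i
            have := congrArg (PowerSeries.coeff i) h0
            simpa [π, ZMod.intCast_zmod_eq_zero_iff_dvd] using this
          have hu : IsUnit (q : ℤ) := (Polynomial.isPrimitive_primPart Q₁) _ hdvd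
          rw [Int.isUnit_iff_natAbs_eq] at hu
          exact hq.ne_one hu
        have hG0 := (mul_eq_zero.mp h).resolve_left hQne0
        have hdiv : ∀ i, (q : ℤ) ∣ PowerSeries.coeff i G := fun i => by
          have := congrArg (PowerSeries.coeff i) hG0
          simpa [π, ZMod.intCast_zmod_eq_zero_iff_dvd] using this
        choose g hg using hdiv
        have hGq : G = PowerSeries.C (q : ℤ) * PowerSeries.mk g := by
          refine PowerSeries.ext fun i => ?_
          rw [PowerSeries.coeff_C_mul, PowerSeries.coeff_mk, hg]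
        refine ih m'.natAbs ?_ m' (PowerSeries.mk g) rfl (right_ne_zero_of_mul hm) ?_
        · rw [← hk, Int.natAbs_mul]
          exact (lt_mul_iff_one_lt_left (by simpa using right_ne_zero_of_mul hm |> Int.natAbs_pos.mpr)).mpr hq.one_lt
        · rw [hGq, map_mul, ← mul_left_comm] at hG
          have hq0 : (PowerSeries.C (q : ℤ)) ≠ 0 := fun h => hq.ne_zero (by
            have := congrArg PowerSeries.constantCoeff h
            simpa using this)
          exact mul_left_cancel₀ hq0 hG
  have hu := key _ m ((Polynomial.C e₂ * u₁ : Polynomial ℤ) * Z + (Polynomial.C e₁ * v₁ : Polynomial ℤ)) rfl hm0 (by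
    rw [← Polynomial.coe_C, ← hRC, hR]
    simp only [Polynomial.coe_add, Polynomial.coe_mul, hP₀]
    rw [hS]
    ring)
  rw [← PowerSeries.coeff_zero_eq_constantCoeff_apply, Polynomial.coeff_coe] at hu
  have hc1 : c = (Q₀.coeff 0 : ℚ) := by
    have h := congrArg (Polynomial.coeff · 0) hQc
    simpa [Polynomial.coeff_map, hι, hQ] using h.symm
  obtain ⟨w, hw⟩ := hu
  have hwc : ((↑w⁻¹ : ℤ) : ℚ) * c = 1 := by
    rw [hc1, ← hw]
    exact_mod_cast w.inv_mul
  have fin : ∀ (F : Polynomial ℚ) (F₀ : Polynomial ℤ), F₀.map ι = Polynomial.C c * F →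
      (Polynomial.C (↑w⁻¹ : ℤ) * F₀).map ι = F := by
    intro F F₀ h
    rw [Polynomial.map_mul, Polynomial.map_C, h, ← mul_assoc, ← map_mul, hι, eq_intCast, hwc, map_one, one_mul]
  exact ⟨⟨_, fin P P₀ hPc⟩, ⟨_, fin Q Q₀ hQc⟩⟩

end Groth.Agent.S8630
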