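import Groth.Statements.S8637
import Groth.Agent.LangQLib.Field

set_option autoImplicit false
open Zeta

namespace Groth.Agent.S8637

/-- First assertion, for a finite family: let (f_i) be finitely many formal power series with real
coefficients, each with constant term 1 and all coefficients ≥ 0, and let f be their product. Then
for every i and every n the n-th coefficient of f_i is at most the n-th coefficient of f (so the
radius of absolute convergence of f_i is at least that of f). (Stated for a finite family; for an
infinite product whose factors f_i - 1 have orders tending to infinity each coefficient is that of a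
finite sub-product, so the same inequality holds.) -/
theorem result {ι : Type} (s : Finset ι) (f : ι → PowerSeries ℝ)
    (h0 : ∀ i ∈ s, PowerSeries.constantCoeff (f i) = 1)
    (hpos : ∀ i ∈ s, ∀ n : ℕ, 0 ≤ PowerSeries.coeff n (f i)) (i : ι) (hi : i ∈ s) (n : ℕ) :
    PowerSeries.coeff n (f i) ≤ PowerSeries.coeff n (∏ j ∈ s, f j) := by
  classical
  rw [← Finset.mul_prod_erase s f hi]
  set R := ∏ j ∈ s.erase i, f j
  have hR : PowerSeries.constantCoeff R = 1 := by
    rw [map_prod]; exact Finset.prod_eq_one fun j hj => h0 j (Finset.mem_of_mem_erase hj)
  have hRpos : ∀ m, 0 ≤ PowerSeries.coeff m R := by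
    refine Finset.prod_induction f (fun g => ∀ m, 0 ≤ PowerSeries.coeff m g) ?_ ?_ fun j hj => hpos j (Finset.mem_of_mem_erase hj)
    · intro a b ha hb m
      rw [PowerSeries.coeff_mul]
      exact Finset.sum_nonneg fun x _ => mul_nonneg (ha _) (hb _)
    · intro m
      rw [PowerSeries.coeff_one]
      split_ifs <;> norm_num
  rw [PowerSeries.coeff_mul]
  refine le_of_eq_of_le ?_ (Finset.single_le_sum (f := fun x => PowerSeries.coeff x.1 (f i) * PowerSeries.coeff x.2 R)
    (fun x _ => mul_nonneg (hpos i hi _) (hRpos _)) (Finset.HasAntidiagonal.mem_antidiagonal.2 (show (n, 0).1 + (n, 0).2 = n by simp)))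
  simp [hR]

end Groth.Agent.S8637
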