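import Groth.Statements.S8640
import Groth.Agent.EtConeLib.Line
-- import your own Groth.Agent.* helpers here

set_option autoImplicit false
universe u
open CategoryTheory CategoryTheory.Limits AlgebraicGeometry Opposite
open EtAcyc

namespace Groth.Agent.S8640
open CategoryTheory.Limits


/-- Part (1): let k be a field, f ∈ k[x_0, …, x_n] a homogeneous polynomial, Z = Spec k[x_0, …, x_n]/(f)
the affine cone defined by f = 0, and i₀ : Spec k ⟶ Z its vertex, i.e. the k-point of Z lying over
the origin of affine (n+1)-space. For every natural number r invertible in k and every i, the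
restriction map H^i(Z_et, Z/r) ⟶ H^i((Spec k)_et, i₀^{-1}(Z/r)) is bijective. (Pullback on
cohomology is the shared prelude's, with exactness of i₀^{-1} carried as an instance hypothesis; it
always holds.) -/
theorem result (k : Type u) [Field k] (n d : ℕ)
    (f : MvPolynomial (Fin (n + 1)) k) (hf : f.IsHomogeneous d) (r : ℕ) (hr : (r : k) ≠ 0)
    (i₀ : Spec (CommRingCat.of k) ⟶ Spec (CommRingCat.of (MvPolynomial (Fin (n + 1)) k ⧸ Ideal.span {f})))
    (hi₀ : i₀ ≫ Spec.map (CommRingCat.ofHom (Ideal.Quotient.mk (Ideal.span {f}))) =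
      Spec.map (CommRingCat.ofHom (MvPolynomial.eval (fun _ : Fin (n + 1) => (0 : k)))))
    [PreservesFiniteLimits (EtCoh.pull i₀)] (i : ℕ) :
    Function.Bijective (EtCore.Hpull i₀
      (EtCoh.const (Spec (CommRingCat.of (MvPolynomial (Fin (n + 1)) k ⧸ Ideal.span {f}))) (ZMod r)) i) := by
  exact EtConeLib.hypersurface k n d f hf (ZMod r) i i₀ hi₀
    (EtConeLib.lineInvariant_of_field k _ r hr i)


end Groth.Agent.S8640
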