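import Groth.Statements.S8650
import Groth.Agent.LambdaSpL.PosStr

set_option autoImplicit false
universe u
open Finset
open LambdaRing

namespace Groth.Agent.S8650

/-- Let K be a pre-λ-ring (λ^0 = 1, λ^1 = id, additive formula) in which λ^k(1) = 0 for all k ≥ 2. Then
for every x ∈ K and every n, λ^n(x + n − 1) = (−1)^n Σ_{i=0}^{n} (−1)^i λ^i(x + n). (The published
statement is for a λ-ring; its proof uses only additivity and λ_t(1) = 1 + t, the hypotheses taken
here.) -/
theorem result (K : Type u) [CommRing K] [LambdaRing.LambdaOps K]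
    (h1 : ∀ k : ℕ, 2 ≤ k → LambdaRing.LambdaOps.lam k (1 : K) = 0) (n : ℕ) (x : K) :
    LambdaRing.LambdaOps.lam n (x + (n : K) - 1) =
      (-1 : K) ^ n * ∑ i ∈ range (n + 1), (-1 : K) ^ i * LambdaRing.LambdaOps.lam i (x + (n : K)) := by
  rw [show x + (n : K) - 1 = (x + (n : K)) + ((-1 : ℤ) : K) by push_cast; ring,
    LambdaRing.LambdaOps.lam_add, mul_sum]
  refine sum_congr rfl fun i hi => ?_
  simp only [mem_range] at hi
  rw [LambdaSpLib.lam_intCast h1, ← mul_assoc, ← pow_add, mul_comm]
  congr 1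
  rw [Ring.choose_neg, Units.smul_def, smul_eq_mul, Int.cast_mul, Int.negOnePow_def, zpow_natCast,
    show (1 : ℤ) + ((n - i : ℕ) : ℤ) - 1 = ((n - i : ℕ) : ℤ) by ring, Ring.choose_natCast,
    Nat.choose_self]
  simp only [Units.val_pow_eq_pow_val, Units.val_neg, Units.val_one, Int.cast_pow, Int.cast_neg,
    Int.cast_one, Nat.cast_one, mul_one]
  rw [show n + i = n - i + 2 * i by omega, pow_add, pow_mul]
  simp

end Groth.Agent.S8650
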