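import Groth.Statements.S8653
import Groth.Agent.KRLib.ImmFlat

set_option autoImplicit false
universe u
open CategoryTheory CategoryTheory.Limits AlgebraicGeometry
open RegImm

namespace Groth.Agent.S8653

/-- Being a Koszul-regular immersion is local for the faithfully flat quasi-compact topology. Let i : Y
⟶ X be an immersion, g : X' ⟶ X flat, surjective and quasi-compact, and i' : Y' ⟶ X' the base change
of i along g (a cartesian square). If i' is a Koszul-regular immersion, then so is i. -/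
theorem result {X Y X' Y' : Scheme.{u}} (i : Y ⟶ X) [IsImmersion i]
    (g : X' ⟶ X) [Flat g] [Surjective g] [QuasiCompact g]
    (i' : Y' ⟶ X') (g' : Y' ⟶ Y) (hsq : IsPullback g' i' i g)
    (hi' : RegImm.IsRegularImmersion .koszul i') : RegImm.IsRegularImmersion .koszul i := by
  refine ⟨inferInstance, fun z => ?_⟩
  obtain ⟨U, hU, hzU, hUc⟩ := exists_isAffineOpen_mem_and_subset
    (show i z ∈ i.coborderRange from subset_coborder ⟨z, rfl⟩)
  obtain ⟨hUY, hs⟩ := KRLib.data_of_le_coborderRange i hU hUc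
  refine (KRLib.isRegularImmersionAt_koszul_iff i z).2
    (KRLib.exists_goodChart_of_locKR hU hUY hs ?_ z hzU)
  obtain ⟨t, htfin, htcov⟩ := (isCompact_iff_finite_and_eq_biUnion_affineOpens (U := g ⁻¹ᵁ U)).mp
    (QuasiCompact.isCompact_preimage (f := g) U U.isOpen hU.isCompact)
  have : Finite t := htfin
  have hWU : ∀ W : t, W.1.1 ≤ g ⁻¹ᵁ U := fun W => by
    rw [htcov]; exact le_iSup₂_of_le W.1 W.2 le_rfl
  letI : ∀ W : t, Algebra Γ(X, U) Γ(X', W.1.1) := fun W => (g.appLE U W.1.1 (hWU W)).hom.toAlgebra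
  haveI : ∀ W : t, Module.Flat Γ(X, U) Γ(X', W.1.1) := fun W => g.flat_appLE hU W.1.2 (hWU W)
  refine KRLib.LocKR.of_jointly (fun W : t => Γ(X', W.1.1)) ?_ ?_
  · intro p
    obtain ⟨s, hs⟩ := ‹Surjective g›.surj (hU.fromSpec p)
    have hsU : g s ∈ U := by
      rw [hs, ← SetLike.mem_coe, ← hU.range_fromSpec]
      exact ⟨p, rfl⟩
    have hsW : s ∈ g ⁻¹ᵁ U := hsU
    rw [htcov] at hsW
    simp only [TopologicalSpace.Opens.mem_iSup] at hsW
    obtain ⟨W, hWt, hsW⟩ := hsW
    obtain ⟨q, hq⟩ : ∃ q, W.2.fromSpec q = s := by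
      rw [← Set.mem_range, W.2.range_fromSpec]; exact hsW
    refine ⟨⟨W, hWt⟩, q, hU.fromSpec.isOpenEmbedding.injective ?_⟩
    have e := IsAffineOpen.SpecMap_appLE_fromSpec g hU W.2 (hWU ⟨W, hWt⟩)
    have h2 := congrArg (fun φ : Spec Γ(X', W.1) ⟶ X => φ q) e
    simp only [Scheme.Hom.comp_apply] at h2
    rw [hq, hs] at h2
    exact h2
  · intro W
    obtain ⟨h1, h2, h3⟩ := KRLib.baseChange_data hsq hU hUY hs W.1.2 (hWU W)
    have := KRLib.locKR_ker_of_forall hi'.2 W.1.2 h1 h2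
    rw [h3] at this
    exact this

end Groth.Agent.S8653
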