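import Groth.Statements.S8666
import Mathlib.RingTheory.LocalRing.Module
import Mathlib.RingTheory.PicardGroup


-- import your own Groth.Agent.* helpers here

set_option autoImplicit false
universe u
open CAlg

namespace Groth.Agent.S8666

/-- Let A be a Noetherian ring, M an invertible A-module and p_1, …, p_k finitely many primes of A
(points of Spec A). Then there is a single element s ∈ M whose image generates M_{p_i} as an
A_{p_i}-module for every i, i.e. s is a basis of the stalk of M at each of the given points. -/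
theorem result (A : Type u) [CommRing A] [IsNoetherianRing A]
    (M : Type u) [AddCommGroup M] [Module A M] [Module.Invertible A M] (ι : Type) [Finite ι] (p : ι → PrimeSpectrum A) :
    ∃ s : M, ∀ i : ι, Submodule.span (Localization.AtPrime (p i).asIdeal)
      {LocalizedModule.mkLinearMap (p i).asIdeal.primeCompl M s} = ⊤ := by
  classical
  have : Fintype ι := Fintype.ofFinite ι
  -- an isomorphism of each stalk with the local ring
  have he : ∀ q : PrimeSpectrum A, ∃ e : LocalizedModule q.asIdeal.primeCompl M ≃ₗ[Localization.AtPrime q.asIdeal]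
      Localization.AtPrime q.asIdeal, True := fun q =>
    ⟨(Module.Invertible.free_iff_linearEquiv.1 Module.free_of_flat_of_isLocalRing).some, trivial⟩
  choose e _ using he
  let g : (q : PrimeSpectrum A) → M →ₗ[A] Localization.AtPrime q.asIdeal := fun q =>
    (e q).toLinearMap.restrictScalars A ∘ₗ LocalizedModule.mkLinearMap q.asIdeal.primeCompl M
  let N : (q : PrimeSpectrum A) → Submodule A M := fun q =>
    ((IsLocalRing.maximalIdeal (Localization.AtPrime q.asIdeal)).restrictScalars A).comap (g q)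
  have hN : ∀ q, ∃ x : M, x ∉ N q := by
    intro q
    obtain ⟨⟨x, t⟩, hx⟩ := IsLocalizedModule.mk'_surjective q.asIdeal.primeCompl
      (LocalizedModule.mkLinearMap q.asIdeal.primeCompl M) ((e q).symm 1)
    refine ⟨x, fun hmem => (IsLocalRing.maximalIdeal.isMaximal (Localization.AtPrime q.asIdeal)).ne_top ((Ideal.eq_top_iff_one _).2 ?_)⟩
    rw [← (e q).apply_symm_apply 1, ← hx]
    have h1 : (algebraMap A (Localization.AtPrime q.asIdeal) t) • IsLocalizedModule.mk'
        (LocalizedModule.mkLinearMap q.asIdeal.primeCompl M) x t = LocalizedModule.mkLinearMap q.asIdeal.primeCompl M x := by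
      rw [algebraMap_smul, ← Submonoid.smul_def, IsLocalizedModule.mk'_cancel']
    have h2 : g q x = algebraMap A (Localization.AtPrime q.asIdeal) t *
        e q (IsLocalizedModule.mk' (LocalizedModule.mkLinearMap q.asIdeal.primeCompl M) x t) := by
      show e q _ = _
      rw [← h1, map_smul, smul_eq_mul]
    have h3 : g q x ∈ IsLocalRing.maximalIdeal (Localization.AtPrime q.asIdeal) := hmem
    rw [h2] at h3
    exact ((Ideal.IsPrime.mem_or_mem inferInstance h3).resolve_left fun h =>
      t.2 ((IsLocalization.AtPrime.to_map_mem_maximal_iff _ q.asIdeal t.1).1 h))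
  choose x hx using hN
  -- the distinct points which are maximal among the given ones
  let P : Finset (PrimeSpectrum A) := (Finset.univ.image p).filter fun q => ∀ i, q ≤ p i → p i = q
  have hP : ∀ i, ∃ q ∈ P, p i ≤ q := by
    intro i
    obtain ⟨q, hq, hqmax⟩ := (Finset.univ.image p).exists_le_maximal (Finset.mem_image_of_mem p (Finset.mem_univ i))
    exact ⟨q, Finset.mem_filter.2 ⟨hqmax.1, fun j hj => le_antisymm (hqmax.2 (Finset.mem_image_of_mem p (Finset.mem_univ j)) hj) hj⟩, hq⟩
  have ha : ∀ q ∈ P, ∃ a : A, a ∉ q.asIdeal ∧ ∀ q' ∈ P, q' ≠ q → a ∈ q'.asIdeal := by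
    intro q hq
    have : ∀ q' ∈ P.erase q, ∃ b, b ∈ q'.asIdeal ∧ b ∉ q.asIdeal := by
      intro q' hq'
      obtain ⟨hne, hq'⟩ := Finset.mem_erase.1 hq'
      refine SetLike.not_le_iff_exists.1 fun hle => hne ?_
      obtain ⟨hq'1, hq'2⟩ := Finset.mem_filter.1 hq'
      obtain ⟨i, _, hi⟩ := Finset.mem_image.1 (Finset.mem_filter.1 hq).1
      rw [← hi] at hle ⊢
      exact (hq'2 i hle).symm
    choose b hb hbq using this
    refine ⟨∏ q' ∈ (P.erase q).attach, b q'.1 q'.2, fun h => ?_, fun q' hq' hne => ?_⟩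
    · obtain ⟨q', _, h'⟩ := (q.2.prod_mem_iff).1 h
      exact hbq _ _ h'
    · exact Ideal.mem_of_dvd _ (Finset.dvd_prod_of_mem (fun z : (P.erase q : Finset _) => b z.1 z.2)
        (Finset.mem_attach _ ⟨q', Finset.mem_erase.2 ⟨hne, hq'⟩⟩)) (hb q' _)
  choose a ha1 ha2 using ha
  refine ⟨∑ q ∈ P.attach, a q.1 q.2 • x q.1, fun i => ?_⟩
  obtain ⟨q, hq, hiq⟩ := hP i
  set s := ∑ q ∈ P.attach, a q.1 q.2 • x q.1 with hs
  have hgq : g q s ∉ IsLocalRing.maximalIdeal (Localization.AtPrime q.asIdeal) := by
    intro h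
    rw [hs, map_sum, ← Finset.add_sum_erase _ _ (Finset.mem_attach P ⟨q, hq⟩)] at h
    have hrest : ∑ q' ∈ P.attach.erase ⟨q, hq⟩, g q (a q'.1 q'.2 • x q'.1) ∈
        IsLocalRing.maximalIdeal (Localization.AtPrime q.asIdeal) := by
      refine sum_mem fun q' hq' => ?_
      rw [map_smul, Algebra.smul_def]
      refine Ideal.mul_mem_right _ _ ((IsLocalization.AtPrime.to_map_mem_maximal_iff _ q.asIdeal _).2 ?_)
      exact ha2 q'.1 q'.2 q hq fun e => (Finset.mem_erase.1 hq').1 (Subtype.ext e.symm)
    have h' := (Submodule.add_mem_iff_left _ hrest).1 h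
    rw [map_smul, Algebra.smul_def] at h'
    exact ((Ideal.IsPrime.mem_or_mem inferInstance h').elim
      (fun h => ha1 q hq ((IsLocalization.AtPrime.to_map_mem_maximal_iff _ q.asIdeal _).1 h)) (hx q))
  have hu : IsUnit (g q s) := by
    by_contra hc
    exact hgq ((IsLocalRing.mem_maximalIdeal _).2 hc)
  -- generation at the larger prime gives generation at the smaller one
  have hgen : ∀ m : M, ∃ (c : A) (t : A), t ∉ q.asIdeal ∧ t • m = c • s := by
    intro m
    obtain ⟨r, hr⟩ := (hu.dvd : g q s ∣ g q m)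
    obtain ⟨⟨c, t⟩, hct⟩ := IsLocalization.surj q.asIdeal.primeCompl r
    have h1 : g q ((t : A) • m) = g q (c • s) := by
      rw [map_smul, map_smul, Algebra.smul_def, Algebra.smul_def, hr, ← hct]; ring
    obtain ⟨v, hv⟩ := (IsLocalizedModule.eq_iff_exists q.asIdeal.primeCompl
      (LocalizedModule.mkLinearMap q.asIdeal.primeCompl M)).1 ((e q).injective h1)
    rw [Submonoid.smul_def, Submonoid.smul_def, smul_smul, smul_smul] at hv
    exact ⟨v * c, v * t, q.asIdeal.primeCompl.mul_mem v.2 t.2, hv⟩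
  rw [eq_top_iff]
  intro z _
  obtain ⟨⟨m, t⟩, rfl⟩ := IsLocalizedModule.mk'_surjective (p i).asIdeal.primeCompl
    (LocalizedModule.mkLinearMap (p i).asIdeal.primeCompl M) z
  obtain ⟨c, t', ht', hm⟩ := hgen m
  have ht'' : t' ∉ (p i).asIdeal := fun h => ht' (hiq h)
  refine Submodule.mem_span_singleton.2 ⟨IsLocalization.mk' _ c (t * ⟨t', ht''⟩), ?_⟩
  rw [← IsLocalizedModule.mk'_one (p i).asIdeal.primeCompl, IsLocalizedModule.mk'_smul_mk', mul_one,
    Function.uncurry_apply_pair, ← hm, mul_comm t]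
  exact IsLocalizedModule.mk'_cancel_left _ _ _ _

end Groth.Agent.S8666
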