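import Groth.Statements.S8668
import Groth.Agent.FactIndepLib.Main

set_option autoImplicit false
universe u
open CategoryTheory CategoryTheory.Limits AlgebraicGeometry
attribute [local instance] HasDerivedCategory.standard
open Synt

namespace Groth.Agent.S8668

/-- Let f : X ⟶ Y be a local complete intersection morphism in the factorisation sense (around each
point, locally of finite type and factoring as a Koszul-regular immersion followed by a smooth
morphism), and let f = i ≫ g = i' ≫ g' be two factorisations with g : V ⟶ Y and g' : V' ⟶ Y smooth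
and i, i' closed immersions. Let d : O_V → Ω and d' : O_{V'} → Ω' be universal Y-derivations
(sheaves of relative differentials of V and V' over Y). Then i^*Ω, i'^*Ω' and the conormal sheaves
N_i, N_{i'} are finite locally free, and in K₀ of finite locally free O_X-modules one has [i^*Ω] −
[N_i] = [i'^*Ω'] − [N_{i'}]: the virtual cotangent class of f does not depend on the factorisation. -/
theorem result {X Y V V' : Scheme.{u}} (f : X ⟶ Y) (hf : ∀ x : X, Synt.IsKoszulAt f x)
    (g : V ⟶ Y) [Smooth g] (i : X ⟶ V) [IsClosedImmersion i] (hi : i ≫ g = f)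
    (g' : V' ⟶ Y) [Smooth g'] (i' : X ⟶ V') [IsClosedImmersion i'] (hi' : i' ≫ g' = f)
    (Ω : V.Modules) (d : OmegaSh.Der g Ω) (hd : OmegaSh.IsUniversal d)
    (Ω' : V'.Modules) (d' : OmegaSh.Der g' Ω') (hd' : OmegaSh.IsUniversal d') :
    FlatMod.IsFinLocFree ((Scheme.Modules.pullback i).obj Ω) ∧ FlatMod.IsFinLocFree (Omega.conormal i) ∧
    FlatMod.IsFinLocFree ((Scheme.Modules.pullback i').obj Ω') ∧ FlatMod.IsFinLocFree (Omega.conormal i') ∧
    KRR.cl X ((Scheme.Modules.pullback i).obj Ω) - KRR.cl X (Omega.conormal i) =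
      KRR.cl X ((Scheme.Modules.pullback i').obj Ω') - KRR.cl X (Omega.conormal i') := by
  obtain ⟨N, S, S', hN, hS, hS', h₁, h₂, h₃, h₁', h₂', h₃'⟩ :=
    FactIndepLib.exists_refinement f hf g i hi g' i' hi' Ω d hd Ω' d' hd'
  have hA := FactIndepLib.finLocFree_pullOmega g i hd
  have hA' := FactIndepLib.finLocFree_pullOmega g' i' hd'
  have hB := FactIndepLib.finLocFree_conormal f hf g i hi
  have hB' := FactIndepLib.finLocFree_conormal f hf g' i' hi'
  refine ⟨hA, hB, hA', hB', ?_⟩
  have e := (FactIndepLib.cl_eq_add hB hN hA' S hS h₁ h₂ h₃).symm.trans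
    (FactIndepLib.cl_eq_add hB' hN hA S' hS' h₁' h₂' h₃')
  rw [sub_eq_sub_iff_add_eq_add, add_comm, ← e, add_comm]

end Groth.Agent.S8668
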