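import Groth.Statements.S8676
import Groth.Agent.CohGenLib.Fibre
import Groth.Agent.VBResLib.Res

set_option autoImplicit false
universe v u
open CategoryTheory CategoryTheory.Limits AlgebraicGeometry
attribute [local instance] HasDerivedCategory.standard
open SGA6

namespace Groth.Agent.S8676

/-- For a finite family of classes of locally free modules: let f : X ⟶ S be a flat morphism of
Noetherian schemes and E_1, …, E_m finite locally free O_X-modules whose restrictions to every fibre
X_s have classes generating K₀(Coh X_s) as an abelian group. For each i the functor M ↦ E_i ⊗ f^*M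
is exact (instance hypotheses) and preserves coherence (hypothesis hco), so induces [E_i]·f^* :
K₀(Coh S) ⟶ K₀(Coh X); then (x_i) ↦ Σ_i [E_i]·f^*(x_i) from K₀(Coh S)^m to K₀(Coh X) is surjective.
(The published statement allows an arbitrary family of elements of K^•(X) acting on K₀(Coh X); this
row takes the classes of finitely many finite locally free modules.) -/
theorem result {X S : Scheme.{u}} [IsNoetherian X] [IsNoetherian S] (f : X ⟶ S) [Flat f]
    (m : ℕ) (E : Fin m → X.Modules) (hE : ∀ i, FlatMod.IsFinLocFree (E i))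
    [(Scheme.Modules.pullback f).Additive]
    [∀ i, PreservesFiniteLimits (Scheme.Modules.pullback f ⋙ (DCoh.tensorBi (X := X)).obj (E i))]
    [∀ i, PreservesFiniteColimits (Scheme.Modules.pullback f ⋙ (DCoh.tensorBi (X := X)).obj (E i))]
    (hco : ∀ (i : Fin m) (M : S.Modules), Coh.IsCoh M → Coh.IsCoh ((Scheme.Modules.pullback f ⋙ (DCoh.tensorBi (X := X)).obj (E i)).obj M))
    (hfib : ∀ s : S, AddSubgroup.closure (Set.range (fun i : Fin m =>
      KZero.clSub (fun M : (f.fiber s).Modules => Coh.IsCoh M) ((Scheme.Modules.pullback (f.fiberι s)).obj (E i)))) = ⊤) :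
    Function.Surjective (fun x : Fin m → SGA6.Kcoh S =>
      ∑ i : Fin m, SGA6.mapSub (Scheme.Modules.pullback f ⋙ (DCoh.tensorBi (X := X)).obj (E i))
        (fun M : S.Modules => Coh.IsCoh M) (fun M : X.Modules => Coh.IsCoh M) (hco i) (x i)) := by
  classical
  set Φ : Fin m → (SGA6.Kcoh S →+ SGA6.Kcoh X) := fun i =>
    SGA6.mapSub (Scheme.Modules.pullback f ⋙ (DCoh.tensorBi (X := X)).obj (E i))
      (fun M : S.Modules => Coh.IsCoh M) (fun M : X.Modules => Coh.IsCoh M) (hco i) with hΦ
  let Ψ : (Fin m → SGA6.Kcoh S) →+ SGA6.Kcoh X :=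
    ∑ i, (Φ i).comp (Pi.evalAddMonoidHom (fun _ : Fin m => SGA6.Kcoh S) i)
  have hΨ : ∀ y, Ψ y = ∑ i, Φ i (y i) := fun y => by simp [Ψ, AddMonoidHom.finsetSum_apply]
  have key : ∀ (T : TopologicalSpace.Closeds S) (x : X), closure ({f x} : Set S) = (T : Set S) →
      CohGenLib.cl (Cyc.closureStructureSheaf x) ∈ Ψ.range := by
    intro T
    induction T using WellFoundedLT.induction with
    | _ T ih =>
    intro x hT
    refine CohGenLib.cl_mem_of_fibre f E (fun i => VBResLib.isCoh_of_vb (hE i)) (f x) (hfib (f x)) Ψ.range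
      (fun i => ?_) (fun y hy hne => ?_) x rfl
    · have hs : Coh.IsCoh (Cyc.closureStructureSheaf (f x)) :=
        (CohGenLib.closure_mem (D := fun _ : S => True) (fun _ _ _ _ => trivial) trivial).coh
      refine ⟨Pi.single i (CohGenLib.cl (Cyc.closureStructureSheaf (f x))), ?_⟩
      rw [hΨ, Finset.sum_eq_single i (fun j _ hj => by rw [Pi.single_eq_of_ne hj, map_zero]) (by simp),
        Pi.single_eq_same]
      exact VBResLib.mapSub_clSub _ _ _ (hco i) hs
    · refine ih ⟨_, isClosed_closure⟩ (lt_of_le_of_ne ?_ fun e => hne ?_) y rfl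
      · exact fun v hv => hT.le (closure_minimal (Set.singleton_subset_iff.2 hy) isClosed_closure hv)
      · have h1 : f x ∈ closure ({f y} : Set S) := by
          rw [show closure ({f y} : Set S) = (T : Set S) from congrArg SetLike.coe e, ← hT]
          exact subset_closure rfl
        exact ((specializes_iff_mem_closure.2 hy).antisymm (specializes_iff_mem_closure.2 h1)).eq.symm
  intro a
  suffices h : a ∈ Ψ.range by
    obtain ⟨y, hy⟩ := h
    exact ⟨y, (hΨ y).symm.trans hy⟩
  obtain ⟨F, G, hF, hG, rfl⟩ := CohGenLib.exists_diff a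
  refine sub_mem ?_ ?_
  · refine (AddSubgroup.closure_le _).2 ?_ (CohGenLib.cl_mem_closures hF)
    rintro _ ⟨x, -, rfl⟩
    exact key ⟨_, isClosed_closure⟩ x rfl
  · refine (AddSubgroup.closure_le _).2 ?_ (CohGenLib.cl_mem_closures hG)
    rintro _ ⟨x, -, rfl⟩
    exact key ⟨_, isClosed_closure⟩ x rfl

end Groth.Agent.S8676
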