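import Groth.Statements.S8683
import Groth.Agent.FactIndepLib.Main
import Groth.Agent.S9372
import Groth.Agent.S8661

set_option autoImplicit false
universe u
open CategoryTheory CategoryTheory.Limits AlgebraicGeometry
open Synt

namespace Groth.Agent.S8683

open CategoryTheory CategoryTheory.Limits AlgebraicGeometry TopologicalSpace

/-- A rank given near the image is the rank of the pullback nearby. -/
theorem exists_free_pullback {X Y : Scheme.{u}} (f : X ⟶ Y) {M : Y.Modules} {U : Y.Opens} {a : ℕ} {x : X}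
    (hx : f x ∈ U) (h : FlatMod.IsFinLocFreeOfRank a ((Scheme.Modules.restrictFunctor U.ι).obj M)) :
    ∃ O : X.Opens, x ∈ O ∧ Nonempty (((Scheme.Modules.pullback f).obj M).restrict O.ι ≅ FlatMod.freeMod (↑O) a) := by
  obtain ⟨O, hxO, ⟨e⟩⟩ := FactIndepLib.exists_free_of_rank hx h
  exact ⟨f ⁻¹ᵁ O, hxO, ⟨(KFlatLib.restrictPullIso f O).app M ≪≫
    (Scheme.Modules.pullback (f ∣_ O)).mapIso e ≪≫ KFlatLib.pullFreeIso (f ∣_ O) a⟩⟩

theorem result_aux {X Y Z V W T : Scheme.{u}} (f : X ⟶ Y) (g : Y ⟶ Z)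
    (hf : ∀ x : X, Synt.IsKoszulAt f x) (hg : ∀ y : Y, Synt.IsKoszulAt g y)
    (gf : V ⟶ Y) [Smooth gf] (jf : X ⟶ V) [IsClosedImmersion jf] (hjf : jf ≫ gf = f)
    (gg : W ⟶ Z) [Smooth gg] (jg : Y ⟶ W) [IsClosedImmersion jg] (hjg : jg ≫ gg = g)
    (gh : T ⟶ Z) [Smooth gh] (jh : X ⟶ T) [IsClosedImmersion jh] (hjh : jh ≫ gh = f ≫ g)
    (Ωf : V.Modules) (df : OmegaSh.Der gf Ωf) (hdf : OmegaSh.IsUniversal df)
    (Ωg : W.Modules) (dg : OmegaSh.Der gg Ωg) (hdg : OmegaSh.IsUniversal dg)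
    (Ωh : T.Modules) (dh : OmegaSh.Der gh Ωh) (hdh : OmegaSh.IsUniversal dh)
    (x : X) (af bf ag bg ah bh : ℕ) (U₁ U₂ U₃ U₄ : X.Opens) (U₅ U₆ : Y.Opens)
    (h₁ : x ∈ U₁) (h₂ : x ∈ U₂) (h₃ : x ∈ U₃) (h₄ : x ∈ U₄) (h₅ : f x ∈ U₅) (h₆ : f x ∈ U₆)
    (haf : FlatMod.IsFinLocFreeOfRank af ((Scheme.Modules.restrictFunctor U₁.ι).obj ((Scheme.Modules.pullback jf).obj Ωf)))
    (hbf : FlatMod.IsFinLocFreeOfRank bf ((Scheme.Modules.restrictFunctor U₂.ι).obj (Omega.conormal jf)))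
    (hah : FlatMod.IsFinLocFreeOfRank ah ((Scheme.Modules.restrictFunctor U₃.ι).obj ((Scheme.Modules.pullback jh).obj Ωh)))
    (hbh : FlatMod.IsFinLocFreeOfRank bh ((Scheme.Modules.restrictFunctor U₄.ι).obj (Omega.conormal jh)))
    (hag : FlatMod.IsFinLocFreeOfRank ag ((Scheme.Modules.restrictFunctor U₅.ι).obj ((Scheme.Modules.pullback jg).obj Ωg)))
    (hbg : FlatMod.IsFinLocFreeOfRank bg ((Scheme.Modules.restrictFunctor U₆.ι).obj (Omega.conormal jg))) :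
    (ah : ℤ) - bh = ((af : ℤ) - bf) + ((ag : ℤ) - bg) := by
  have HQ : IsPullback (pullback.fst gh gg) (pullback.snd gh gg) gh gg := IsPullback.of_hasPullback gh gg
  let q₁ := pullback.fst gh gg
  let q₂ := pullback.snd gh gg
  have HP : IsPullback (pullback.fst q₂ jg) (pullback.snd q₂ jg) q₂ jg := IsPullback.of_hasPullback q₂ jg
  let u := pullback.fst q₂ jg
  let v := pullback.snd q₂ jg
  have H' : IsPullback (u ≫ q₁) v gh g := by
    rw [← hjg]; exact HP.paste_horiz HQ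
  haveI : Smooth q₁ := inferInstanceAs (Smooth (pullback.fst gh gg))
  haveI : Smooth q₂ := inferInstanceAs (Smooth (pullback.snd gh gg))
  haveI : Smooth v := inferInstanceAs (Smooth (pullback.snd q₂ jg))
  haveI : IsClosedImmersion u := inferInstanceAs (IsClosedImmersion (pullback.fst q₂ jg))
  have hw : jh ≫ gh = (f ≫ jg) ≫ gg := by rw [hjh, Category.assoc, hjg]
  let κ₀ : X ⟶ pullback gh gg := pullback.lift jh (f ≫ jg) hw
  let k₀ : X ⟶ pullback q₂ jg := pullback.lift κ₀ f (pullback.lift_snd _ _ _)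
  haveI : IsImmersion κ₀ := by
    haveI : IsImmersion (κ₀ ≫ q₁) := by rw [pullback.lift_fst]; infer_instance
    exact IsImmersion.of_comp κ₀ q₁
  let O := κ₀.coborderRange
  let kO : X ⟶ (O : Scheme.{u}) := κ₀.liftCoborder
  let P' := u ⁻¹ᵁ O
  have hk₀u : k₀ ≫ u = κ₀ := pullback.lift_fst _ _ _
  have hr : Set.range k₀ ⊆ Set.range P'.ι := by
    rintro _ ⟨y, rfl⟩
    rw [Scheme.Opens.range_ι]
    show (k₀ ≫ u) y ∈ O
    rw [hk₀u]
    exact subset_coborder ⟨y, rfl⟩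
  let k : X ⟶ (P' : Scheme.{u}) := IsOpenImmersion.lift P'.ι k₀ hr
  have hkι : k ≫ P'.ι = k₀ := IsOpenImmersion.lift_fac _ _ _
  let uO : (P' : Scheme.{u}) ⟶ (O : Scheme.{u}) := u ∣_ O
  haveI : IsClosedImmersion uO := IsZariskiLocalAtTarget.restrict ‹IsClosedImmersion u› O
  have hkO : k ≫ uO = kO := by
    rw [← cancel_mono O.ι, Category.assoc, morphismRestrict_ι, reassoc_of% hkι, hk₀u,
      Scheme.Hom.liftCoborder_ι]
  haveI : IsClosedImmersion k := by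
    haveI : IsClosedImmersion (k ≫ uO) := by rw [hkO]; infer_instance
    exact IsClosedImmersion.of_comp k uO
  -- the three factorisations
  have hkf : k ≫ P'.ι ≫ v = f := by rw [reassoc_of% hkι]; exact pullback.lift_snd _ _ _
  have hkh : k ≫ P'.ι ≫ u ≫ q₁ = jh := by
    rw [reassoc_of% hkι, reassoc_of% hk₀u]; exact pullback.lift_fst _ _ _
  have hO₁ : kO ≫ O.ι ≫ q₁ = jh := by
    rw [← Category.assoc, Scheme.Hom.liftCoborder_ι]; exact pullback.lift_fst _ _ _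
  have hO₂ : kO ≫ O.ι ≫ q₂ = f ≫ jg := by
    rw [← Category.assoc, Scheme.Hom.liftCoborder_ι]; exact pullback.lift_snd _ _ _
  have hfg := Groth.Agent.S8661.result f g hf hg
  -- first sequence
  obtain ⟨S₁, hS₁, ⟨s₁⟩, ⟨s₂⟩, ⟨s₃⟩⟩ :=
    FactIndepLib.exists_ses gh jh gg (f ≫ jg) HQ.flip O kO hO₁ hO₂ Ωg dg hdg
  -- second sequence
  obtain ⟨a, ha, -⟩ := Groth.Agent.S9371.result (k ≫ uO) uO (𝟙 _) k (Category.comp_id _).symm
  obtain ⟨b, hb, -⟩ := Groth.Agent.S9371.result k (k ≫ uO) uO (𝟙 X) (Category.id_comp _)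
  have hkreg := Groth.Agent.S8656.result f hf (P'.ι ≫ v) k hkf
  have hk1 : RegImm.IsRegularImmersion RegImm.Kind.h1 k := ⟨hkreg.1, fun z => by
    obtain ⟨U, hz, hc, rs, hrs, hk⟩ := hkreg.2 z
    exact ⟨U, hz, hc, rs, RegImmKindLib.seq_h1_of_koszul hrs, hk⟩⟩
  obtain ⟨w₂, hS₂, -⟩ := Groth.Agent.S8919.result k uO a ha b hb hk1
  have Hsq : IsPullback uO (P'.ι ≫ v) (O.ι ≫ q₂) jg := (isPullback_morphismRestrict u O).paste_vert HP
  obtain ⟨φ, hφ, -⟩ := Groth.Agent.S9371.result uO jg (O.ι ≫ q₂) (P'.ι ≫ v) Hsq.w.symm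
  haveI : Smooth (O.ι ≫ q₂) := inferInstance
  haveI : IsIso φ := (Groth.Agent.S9372.result uO jg (O.ι ≫ q₂) (P'.ι ≫ v) Hsq φ hφ).2 inferInstance
  let eg : (Scheme.Modules.pullback k).obj (Omega.conormal uO) ≅
      (Scheme.Modules.pullback f).obj (Omega.conormal jg) :=
    (Scheme.Modules.pullback k).mapIso (asIso φ).symm ≪≫
      (Scheme.Modules.pullbackComp k (P'.ι ≫ v)).app (Omega.conormal jg) ≪≫
      (Scheme.Modules.pullbackCongr hkf).app (Omega.conormal jg)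
  -- third comparison
  obtain ⟨ΩP, dP, hdP⟩ := OmegaExistsLib.exists_isUniversal (P'.ι ≫ v)
  obtain ⟨eh⟩ := FactIndepLib.nonempty_pullOmega_iso g gh H' P' k hkh Ωh dh hdh ΩP dP hdP
  obtain ⟨N, S₃, S₄, hN, hS₃, hS₄, ⟨t₁⟩, ⟨t₂⟩, ⟨t₃⟩, ⟨t₄⟩, ⟨t₅⟩, ⟨t₆⟩⟩ :=
    FactIndepLib.exists_refinement f hf gf jf hjf (P'.ι ≫ v) k hkf Ωf df hdf ΩP dP hdP
  -- ranks
  obtain ⟨O₁, x₁, ⟨eaf⟩⟩ := FactIndepLib.exists_free_of_rank h₁ haf
  obtain ⟨O₂, x₂, ⟨ebf⟩⟩ := FactIndepLib.exists_free_of_rank h₂ hbf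
  obtain ⟨O₃, x₃, ⟨eah⟩⟩ := FactIndepLib.exists_free_of_rank h₃ hah
  obtain ⟨O₄, x₄, ⟨ebh⟩⟩ := FactIndepLib.exists_free_of_rank h₄ hbh
  obtain ⟨O₅, x₅, ⟨eag⟩⟩ := exists_free_pullback f h₅ hag
  obtain ⟨O₆, x₆, ⟨ebg⟩⟩ := exists_free_pullback f h₆ hbg
  obtain ⟨O₇, bk, x₇, ⟨ek⟩⟩ := FactIndepLib.finLocFree_conormal f hf (P'.ι ≫ v) k hkf x
  obtain ⟨O₈, bO, x₈, ⟨eO⟩⟩ := FactIndepLib.finLocFree_conormal (f ≫ g) hfg ((O.ι ≫ q₁) ≫ gh) kO
    (by rw [Category.assoc, reassoc_of% hO₁, hjh]) x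
  obtain ⟨O₉, n, x₉, ⟨eN⟩⟩ := hN x
  let eag' := (Scheme.Modules.restrictFunctor O₅.ι).mapIso
    ((Scheme.Modules.pullbackComp f jg).app Ωg).symm ≪≫ eag
  have r₁ := Groth.Agent.S5021.rank_add hS₁ x₄ x₈ x₅
    ((Scheme.Modules.restrictFunctor O₄.ι).mapIso s₁ ≪≫ ebh) ((Scheme.Modules.restrictFunctor O₈.ι).mapIso s₂ ≪≫ eO)
    ((Scheme.Modules.restrictFunctor O₅.ι).mapIso s₃ ≪≫ eag')
  have r₂ := Groth.Agent.S5021.rank_add (hS₂ w₂) x₆ x₈ x₇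
    ((Scheme.Modules.restrictFunctor O₆.ι).mapIso eg ≪≫ ebg)
    ((Scheme.Modules.restrictFunctor O₈.ι).mapIso (eqToIso (congrArg (fun m => Omega.conormal m) hkO) : Omega.conormal (k ≫ uO) ≅ _) ≪≫ eO) ek
  have r₃ := Groth.Agent.S5021.rank_add hS₃ x₂ x₉ x₃
    ((Scheme.Modules.restrictFunctor O₂.ι).mapIso t₁ ≪≫ ebf) ((Scheme.Modules.restrictFunctor O₉.ι).mapIso t₂ ≪≫ eN)
    ((Scheme.Modules.restrictFunctor O₃.ι).mapIso (t₃ ≪≫ eh) ≪≫ eah)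
  have r₄ := Groth.Agent.S5021.rank_add hS₄ x₇ x₉ x₁
    ((Scheme.Modules.restrictFunctor O₇.ι).mapIso t₄ ≪≫ ek) ((Scheme.Modules.restrictFunctor O₉.ι).mapIso t₅ ≪≫ eN)
    ((Scheme.Modules.restrictFunctor O₁.ι).mapIso t₆ ≪≫ eaf)
  omega


/-- Let f : X ⟶ Y and g : Y ⟶ Z be local complete intersection morphisms in the factorisation sense,
with factorisations f = i_f ≫ g_f, g = i_g ≫ g_g and f ≫ g = i_h ≫ g_h through smooth morphisms g_f
: V ⟶ Y, g_g : W ⟶ Z, g_h : T ⟶ Z by closed immersions, universal derivations d_f, d_g, d_h (sheaves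
of differentials Ω_f, Ω_g, Ω_h of V/Y, W/Z, T/Z), and x ∈ X. Suppose that on open neighbourhoods of
x the modules i_f^*Ω_f, N_{i_f}, i_h^*Ω_h, N_{i_h} are free of ranks a_f, b_f, a_h, b_h and that on
open neighbourhoods of f(x) the modules i_g^*Ω_g, N_{i_g} are free of ranks a_g, b_g. Then a_h − b_h
= (a_f − b_f) + (a_g − b_g): virtual relative dimensions add under composition. (The published
statement allows local factorisations through arbitrary immersions; this row takes global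
closed-immersion factorisations.) -/
theorem result {X Y Z V W T : Scheme.{u}} (f : X ⟶ Y) (g : Y ⟶ Z)
    (hf : ∀ x : X, Synt.IsKoszulAt f x) (hg : ∀ y : Y, Synt.IsKoszulAt g y)
    (gf : V ⟶ Y) [Smooth gf] (jf : X ⟶ V) [IsClosedImmersion jf] (hjf : jf ≫ gf = f)
    (gg : W ⟶ Z) [Smooth gg] (jg : Y ⟶ W) [IsClosedImmersion jg] (hjg : jg ≫ gg = g)
    (gh : T ⟶ Z) [Smooth gh] (jh : X ⟶ T) [IsClosedImmersion jh] (hjh : jh ≫ gh = f ≫ g)
    (Ωf : V.Modules) (df : OmegaSh.Der gf Ωf) (hdf : OmegaSh.IsUniversal df)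
    (Ωg : W.Modules) (dg : OmegaSh.Der gg Ωg) (hdg : OmegaSh.IsUniversal dg)
    (Ωh : T.Modules) (dh : OmegaSh.Der gh Ωh) (hdh : OmegaSh.IsUniversal dh)
    (x : X) (af bf ag bg ah bh : ℕ) (U₁ U₂ U₃ U₄ : X.Opens) (U₅ U₆ : Y.Opens)
    (h₁ : x ∈ U₁) (h₂ : x ∈ U₂) (h₃ : x ∈ U₃) (h₄ : x ∈ U₄) (h₅ : f x ∈ U₅) (h₆ : f x ∈ U₆)
    (haf : FlatMod.IsFinLocFreeOfRank af ((Scheme.Modules.restrictFunctor U₁.ι).obj ((Scheme.Modules.pullback jf).obj Ωf)))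
    (hbf : FlatMod.IsFinLocFreeOfRank bf ((Scheme.Modules.restrictFunctor U₂.ι).obj (Omega.conormal jf)))
    (hah : FlatMod.IsFinLocFreeOfRank ah ((Scheme.Modules.restrictFunctor U₃.ι).obj ((Scheme.Modules.pullback jh).obj Ωh)))
    (hbh : FlatMod.IsFinLocFreeOfRank bh ((Scheme.Modules.restrictFunctor U₄.ι).obj (Omega.conormal jh)))
    (hag : FlatMod.IsFinLocFreeOfRank ag ((Scheme.Modules.restrictFunctor U₅.ι).obj ((Scheme.Modules.pullback jg).obj Ωg)))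
    (hbg : FlatMod.IsFinLocFreeOfRank bg ((Scheme.Modules.restrictFunctor U₆.ι).obj (Omega.conormal jg))) :
    (ah : ℤ) - bh = ((af : ℤ) - bf) + ((ag : ℤ) - bg) := by
  exact result_aux f g hf hg gf jf hjf gg jg hjg gh jh hjh Ωf df hdf Ωg dg hdg Ωh dh hdh x af bf ag bg ah bh
    U₁ U₂ U₃ U₄ U₅ U₆ h₁ h₂ h₃ h₄ h₅ h₆ haf hbf hah hbh hag hbg

end Groth.Agent.S8683
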