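import Groth.Statements.S8693
import Groth.Agent.AmpleNilLib.Basic
import Groth.Agent.KFlatLib.Stalk
import Groth.Agent.CurveVBLib.Basic

set_option autoImplicit false
universe v u
open CategoryTheory CategoryTheory.Limits AlgebraicGeometry
attribute [local instance] HasDerivedCategory.standard
open KRR

namespace Groth.Agent.S8693

/-- Let X be a connected quasi-compact scheme with an ample invertible O_X-module L, (K, P, φ) a model
of the λ-ring K(X) of finite locally free modules with its positive structure (augmentation ε =
rank), and E_1, …, E_k finite locally free O_X-modules. Let R ⊆ K(X) be the subring generated by the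
elements λ^j[E_i] for all i and j, which is the sub-λ-ring generated by the classes [E_i]. Then the
ideal R ∩ Ker ε of R is nilpotent: there is n such that every product of n elements of R of
augmentation zero vanishes; and R is finitely generated as an abelian group. (The published
statement allows X disconnected, with R a module of finite type over R ∩ H^0(X, ℤ), and also asserts
that the λ-ring filtration of R is discrete; this row takes X connected, as the model requires, and
states the nilpotency and the finite generation over the integers.) -/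
theorem result (X : Scheme.{u}) [ConnectedSpace ↥X] (L : X.Modules) (hL : CohB1.IsAmple L)
    (K : Type v) [CommRing K] [LambdaRing.LambdaOps K] (P : LambdaRing.PosStructure K) (φ : SGA6.Kvb X →+ K)
    (hK : KRR.IsModel X K P φ)
    (k : ℕ) (E : Fin k → X.Modules) (hE : ∀ i : Fin k, FlatMod.IsFinLocFree (E i)) :
    (∃ n : ℕ, ∀ f : Fin n → K,
      (∀ t : Fin n, f t ∈ Subring.closure {y : K | ∃ (i : Fin k) (j : ℕ), y = LambdaRing.LambdaOps.lam j (φ (KRR.cl X (E i)))} ∧ P.aug (f t) = 0) →
        ∏ t, f t = 0) ∧
    (Subring.closure {y : K | ∃ (i : Fin k) (j : ℕ), y = LambdaRing.LambdaOps.lam j (φ (KRR.cl X (E i)))}).toAddSubgroup.FG := by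
  haveI := AmpleNilLib.vbP_closed (X := X)
  haveI := AmpleNilLib.vbP_zero (X := X)
  let S := {y : K | ∃ (i : Fin k) (j : ℕ), y = LambdaRing.LambdaOps.lam j (φ (KRR.cl X (E i)))}
  have hfin : S.Finite := by
    choose r hr using fun i => VBResLib.exists_rank (hE i)
    have hvan : ∀ i j, r i < j → LambdaRing.LambdaOps.lam j (φ (KRR.cl X (E i))) = 0 := by
      intro i j hj
      rcases Nat.eq_zero_or_pos (r i) with h0 | h0
      · have hz : IsZero (E i) := by
          rw [KFlatLib.isZero_iff_forall_stalk]
          intro x
          obtain ⟨U, hxU, ⟨e⟩⟩ := hr i x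
          obtain ⟨a⟩ := CurveVBLib.nonempty_stalk_pi_on e hxU
          haveI : Subsingleton (Fin (r i) → X.presheaf.stalk x) := by rw [h0]; infer_instance
          exact @ModuleCat.isZero_of_subsingleton _ _ _ a.toEquiv.subsingleton
        rw [show φ (KRR.cl X (E i)) = 0 from
          (congrArg φ (Groth.Agent.KHeartLib.clSub_eq_zero (KRR.vbP X) (hE i) hz)).trans (map_zero φ)]
        exact LambdaSpLib.lam_zero_arg j (by omega)
      · refine P.lam_eq_zero _ ((hK.mem_pos_iff _).2 ⟨r i, E i, h0, hr i, rfl⟩) j ?_
        rw [hK.aug_cl _ _ (hr i)]; omega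
    refine Set.Finite.subset ((Set.finite_singleton (0 : K)).union (Set.finite_iUnion fun i : Fin k =>
      (Finset.range (r i + 1)).finite_toSet.image fun j => LambdaRing.LambdaOps.lam j (φ (KRR.cl X (E i))))) ?_
    rintro y ⟨i, j, rfl⟩
    rcases lt_or_ge (r i) j with h | h
    · exact Or.inl (hvan i j h)
    · exact Or.inr (Set.mem_iUnion.2 ⟨i, j, by simpa using Nat.lt_succ_of_le h, rfl⟩)
  have hnil : ∀ z : K, IsNilpotent (z - (P.aug z : K)) := fun z =>
    AmpleNilLib.isNilpotent_of_aug_eq_zero hK hL (by rw [map_sub, map_intCast, Int.cast_id, sub_self])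
  let J : Ideal K := Ideal.span ((fun z : K => z - (P.aug z : K)) '' S)
  have hJfg : J.FG := Submodule.fg_span (hfin.image _)
  obtain ⟨n, hn⟩ := Ideal.exists_pow_le_of_le_radical_of_fg (I := J) (J := ⊥) (Ideal.span_le.2 (by
    rintro _ ⟨z, -, rfl⟩
    obtain ⟨m, hm⟩ := hnil z
    exact ⟨m, by simpa using hm⟩)) hJfg
  refine ⟨⟨n, fun f hf => ?_⟩, ?_⟩
  · have hmem : ∀ z ∈ Subring.closure S, z - (P.aug z : K) ∈ J := by
      intro z hz
      induction hz using Subring.closure_induction with
      | mem z hz => exact Ideal.subset_span ⟨z, hz, rfl⟩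
      | zero => simp
      | one => simp
      | add a b _ _ ha hb => rw [map_add, Int.cast_add, add_sub_add_comm]; exact add_mem ha hb
      | neg a _ ha => rw [map_neg, Int.cast_neg, show -a - -((P.aug a : K)) = -(a - (P.aug a : K)) by ring]; exact neg_mem ha
      | mul a b _ _ ha hb =>
        rw [map_mul, Int.cast_mul, show a * b - (P.aug a : K) * (P.aug b : K) =
          (a - (P.aug a : K)) * b + (P.aug a : K) * (b - (P.aug b : K)) by ring]
        exact add_mem (Ideal.mul_mem_right _ _ ha) (Ideal.mul_mem_left _ _ hb)
    have h1 : ∀ (s : Finset (Fin n)), ∏ t ∈ s, f t ∈ J ^ s.card := by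
      intro s
      induction s using Finset.induction_on with
      | empty => simp
      | insert a s ha ih =>
        rw [Finset.prod_insert ha, Finset.card_insert_of_notMem ha, pow_succ']
        refine Ideal.mul_mem_mul ?_ ih
        have := hmem _ (hf a).1
        rwa [(hf a).2, Int.cast_zero, sub_zero] at this
    have h2 := h1 Finset.univ
    rw [Finset.card_univ, Fintype.card_fin] at h2
    simpa using hn h2
  · have hint : ∀ z ∈ S, IsIntegral ℤ z := by
      intro z _
      obtain ⟨m, hm⟩ := hnil z
      refine ⟨(Polynomial.X - Polynomial.C (P.aug z)) ^ m, (Polynomial.monic_X_sub_C _).pow m, ?_⟩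
      rw [Polynomial.eval₂_pow, Polynomial.eval₂_sub, Polynomial.eval₂_X, Polynomial.eval₂_C]
      simpa using hm
    have h := fg_adjoin_of_finite (R := ℤ) hfin hint
    rw [Algebra.adjoin_int] at h
    rw [Submodule.fg_iff_addSubgroup_fg] at h
    exact h

end Groth.Agent.S8693
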