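import Groth.Statements.S8702
import Groth.Agent.LambdaSpL.Special

set_option autoImplicit false
universe u
open LambdaRing

namespace Groth.Agent.S8702

/-- Let K be a commutative ring which is an algebra over the rationals, and let ψ^k : K → K, k ≥ 1, be
additive maps with ψ^1 the identity. Then there is one and only one pre-λ-structure on K whose Adams
operations (defined through the logarithmic derivative of λ_t) are the ψ^k for every k ≥ 1, namely
λ_t(x) = exp(Σ_{k ≥ 1} (−1)^{k−1} ψ^k(x) t^k / k): in characteristic zero, pre-λ-structures and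
families of additive operations ψ^k with ψ^1 = id determine each other. (The value of the family at
k = 0 is ignored.) -/
theorem result (K : Type u) [CommRing K] [Algebra ℚ K]
    (ψ : ℕ → K →+ K) (hψ : ψ 1 = AddMonoidHom.id K) :
    ∃! L : LambdaRing.LambdaOps K, ∀ k : ℕ, 1 ≤ k → ∀ x : K, @LambdaRing.adamsOp K _ L k x = ψ k x := by
  let L : LambdaRing.LambdaOps K :=
    { lam := fun n x => LambdaSpLib.fSeq (fun k => ψ k x) n
      lam_zero := fun x => by rw [LambdaSpLib.fSeq]
      lam_one := fun x => by
        simp [LambdaSpLib.fSeq, hψ]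
      lam_add := fun n x y => by
        have h : LambdaSpLib.NewtonRel
            (fun n => ∑ i ∈ Finset.range (n + 1),
              LambdaSpLib.fSeq (fun k => ψ k x) i * LambdaSpLib.fSeq (fun k => ψ k y) (n - i))
            ((fun k => ψ k x) + fun k => ψ k y) := by
          refine LambdaSpLib.newtonRel_mul (LambdaSpLib.newtonRel_fSeq _) (LambdaSpLib.newtonRel_fSeq _) ?_
          ext n
          rw [PowerSeries.coeff_mk, PowerSeries.coeff_mul,
            Finset.Nat.sum_antidiagonal_eq_sum_range_succ_mk]
          simp
        refine (LambdaSpLib.fSeq_congr fun k _ _ => ?_).trans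
          (LambdaSpLib.fSeq_eq (by simp [LambdaSpLib.fSeq]) h n).symm
        exact map_add (ψ k) x y }
  refine ⟨L, fun k hk x => ?_, fun L' hL' => ?_⟩
  · exact @LambdaSpLib.adamsOp_eq_of_newtonRel K _ L x (fun k => ψ k x) (LambdaSpLib.newtonRel_fSeq _) k hk
  · have h : L'.lam = L.lam := by
      funext n x
      exact (@LambdaSpLib.lam_eq_fSeq K _ L' _ n x).trans
        (LambdaSpLib.fSeq_congr fun k hk _ => hL' k hk x)
    cases L'
    cases h
    rfl

end Groth.Agent.S8702
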