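import Groth.Statements.S8703
import Groth.Agent.LambdaSpL.Special

set_option autoImplicit false
universe u
open LambdaRing

namespace Groth.Agent.S8703

/-- The Adams operations commute with λ-homomorphisms, and conversely, if K and K' are pre-λ-rings which
are algebras over the rationals, a ring homomorphism f : K → K' commuting with the ψ^k for all k ≥ 1
is a λ-homomorphism (commutes with all λ^i), the λ^i being expressible through the ψ^k in
characteristic zero. -/
theorem result (K K' : Type u) [CommRing K] [CommRing K']
    [LambdaRing.LambdaOps K] [LambdaRing.LambdaOps K'] [Algebra ℚ K] [Algebra ℚ K'] (f : K →+* K') :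
    LambdaRing.IsLambdaHom f ↔
      ∀ k : ℕ, 1 ≤ k → ∀ x : K, f (LambdaRing.adamsOp k x) = LambdaRing.adamsOp k (f x) := by
  constructor
  · intro h k hk x
    refine (LambdaSpLib.adamsOp_eq_of_newtonRel (p := fun k => f (LambdaRing.adamsOp k x)) ?_ k hk).symm
    exact ((LambdaSpLib.newtonRel_lam x).map f).congr (fun n => h n x) (fun _ _ => rfl)
  · intro h n x
    rw [LambdaSpLib.lam_eq_fSeq, LambdaSpLib.lam_eq_fSeq, LambdaSpLib.map_fSeq]
    exact LambdaSpLib.fSeq_congr fun k hk _ => h k hk x

end Groth.Agent.S8703
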