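import Groth.Statements.S8705
import Groth.Agent.SymCocLib.Basic

set_option autoImplicit false
universe u
open SGA7

namespace Groth.Agent.S8705

/-- In the case of the punctual topos (ordinary abelian groups): let P be an abelian group and consider
the complex of free abelian groups Z[P × P × P] ⊕ Z[P × P] → Z[P × P] → Z[P], augmented to P by [p]
↦ p, with d₀[p, q] = [p + q] − [p] − [q], with d₁ on the first summand given by [p, q, r] ↦ [p + q,
r] − [p, q + r] + [p, q] − [q, r] and on the second summand by [p, q] ↦ [p, q] − [q, p]. Then the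
augmentation is surjective with kernel the image of d₀ (so H₀ is P), and the kernel of d₀ is the sum
of the images of the two components of d₁ (so H₁ vanishes). (The published statement is for abelian
sheaves on an arbitrary topos; this row is its case of a one-point space.) -/
theorem result (P : Type u) [AddCommGroup P] :
    letI ε : (P →₀ ℤ) →ₗ[ℤ] P := Finsupp.linearCombination ℤ (fun p : P => p)
    letI d₀ : (P × P →₀ ℤ) →ₗ[ℤ] (P →₀ ℤ) := Finsupp.linearCombination ℤ
      (fun pq : P × P => Finsupp.single (pq.1 + pq.2) 1 - Finsupp.single pq.1 1 - Finsupp.single pq.2 1)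
    letI d₁ : (P × P × P →₀ ℤ) →ₗ[ℤ] (P × P →₀ ℤ) := Finsupp.linearCombination ℤ
      (fun t : P × P × P => Finsupp.single (t.1 + t.2.1, t.2.2) 1 - Finsupp.single (t.1, t.2.1 + t.2.2) 1
        + Finsupp.single (t.1, t.2.1) 1 - Finsupp.single (t.2.1, t.2.2) 1)
    letI d₁' : (P × P →₀ ℤ) →ₗ[ℤ] (P × P →₀ ℤ) := Finsupp.linearCombination ℤ
      (fun pq : P × P => Finsupp.single pq 1 - Finsupp.single (pq.2, pq.1) 1)
    Function.Surjective ε ∧ LinearMap.ker ε = LinearMap.range d₀ ∧
      LinearMap.ker d₀ = LinearMap.range d₁ ⊔ LinearMap.range d₁' := by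
  classical
  refine ⟨fun p => ⟨Finsupp.single p 1, by simp⟩, le_antisymm ?_ ?_, le_antisymm ?_ ?_⟩
  · intro x hx
    let q := (LinearMap.range (Finsupp.linearCombination ℤ
      (fun pq : P × P => Finsupp.single (pq.1 + pq.2) (1:ℤ) - Finsupp.single pq.1 1
        - Finsupp.single pq.2 1))).mkQ
    have hadd : ∀ a b : P, q (Finsupp.single (a + b) 1) =
        q (Finsupp.single a 1) + q (Finsupp.single b 1) := by
      intro a b
      rw [← map_add, Submodule.mkQ_apply, Submodule.mkQ_apply, Submodule.Quotient.eq]
      exact ⟨Finsupp.single (a, b) 1, by simp; abel⟩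
    let g : P →+ _ := AddMonoidHom.mk' (fun p => q (Finsupp.single p 1)) hadd
    have hg : g.toIntLinearMap.comp (Finsupp.linearCombination ℤ (fun p : P => p)) = q := by
      apply Finsupp.lhom_ext
      intro a b
      show g _ = _
      rw [Finsupp.linearCombination_single, map_zsmul]
      show b • q _ = _
      rw [← map_zsmul, Finsupp.smul_single, smul_eq_mul, mul_one]
    have : q x = 0 := by
      rw [← hg]
      show g _ = 0
      rw [LinearMap.mem_ker.1 hx, map_zero]
    exact (Submodule.Quotient.mk_eq_zero _).1 this
  · rintro _ ⟨y, rfl⟩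
    rw [LinearMap.mem_ker, ← LinearMap.comp_apply]
    induction y using Finsupp.induction_linear with
    | zero => simp
    | add f g hf hg => rw [map_add, hf, hg, add_zero]
    | single a b => simp
  · intro x hx
    let S := LinearMap.range (Finsupp.linearCombination ℤ
        (fun t : P × P × P => Finsupp.single (t.1 + t.2.1, t.2.2) (1:ℤ)
          - Finsupp.single (t.1, t.2.1 + t.2.2) 1
          + Finsupp.single (t.1, t.2.1) 1 - Finsupp.single (t.2.1, t.2.2) 1)) ⊔
      LinearMap.range (Finsupp.linearCombination ℤ
        (fun pq : P × P => Finsupp.single pq (1:ℤ) - Finsupp.single (pq.2, pq.1) 1))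
    let c : SymCocLib.Cocycle P ((P × P →₀ ℤ) ⧸ S) :=
      { toFun := fun p q => S.mkQ (Finsupp.single (p, q) 1)
        symm := fun p q => (Submodule.Quotient.eq _).2
          (Submodule.mem_sup_right ⟨Finsupp.single (p, q) 1, by simp⟩)
        cocycle := fun p q r => by
          rw [← map_add, ← map_add]
          exact (Submodule.Quotient.eq _).2
            (Submodule.mem_sup_left ⟨Finsupp.single (p, q, r) 1, by simp; abel⟩) }
    let Φ := Finsupp.linearCombination ℤ (SymCocLib.sec c)
    have hΦ : Φ.comp (Finsupp.linearCombination ℤ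
        (fun pq : P × P => Finsupp.single (pq.1 + pq.2) (1:ℤ) - Finsupp.single pq.1 1
          - Finsupp.single pq.2 1)) = -((SymCocLib.incl c).toIntLinearMap.comp S.mkQ) := by
      apply Finsupp.lhom_ext'
      rintro ⟨p, q⟩
      apply LinearMap.ext_ring
      simp only [LinearMap.comp_apply, Finsupp.lsingle_apply, Finsupp.linearCombination_single,
        one_smul, map_sub, Φ, LinearMap.neg_apply, AddMonoidHom.coe_toIntLinearMap]
      rw [sub_sub, SymCocLib.sec_add]
      show _ = -(SymCocLib.incl c (c.toFun p q))
      abel
    have h0 : (SymCocLib.incl c) (S.mkQ x) = 0 := by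
      have := LinearMap.congr_fun hΦ x
      rw [LinearMap.comp_apply, LinearMap.mem_ker.1 hx, map_zero] at this
      exact neg_eq_zero.1 this.symm
    exact (Submodule.Quotient.mk_eq_zero _).1
      (SymCocLib.incl_injective c (h0.trans (map_zero _).symm))
  · rw [sup_le_iff]
    constructor <;> rintro _ ⟨y, rfl⟩ <;>
      rw [LinearMap.mem_ker, ← LinearMap.comp_apply] <;>
      induction y using Finsupp.induction_linear with
      | zero => simp
      | add f g hf hg => rw [map_add, hf, hg, add_zero]
      | single a b =>
        simp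
        refine Or.inl ?_
        first
          | (rw [add_assoc]; abel)
          | (rw [add_comm a.2 a.1]; abel)

end Groth.Agent.S8705
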