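import Groth.Statements.S8708
import Groth.Agent.ExtDescLib.Const
import Groth.Agent.GrpFieldLib.Identity
import Groth.Agent.GrpHomLib.Image
import Groth.Agent.WeightLib.EtaleQF

set_option autoImplicit false
set_option backward.isDefEq.respectTransparency false
set_option maxHeartbeats 1000000
universe u
open CategoryTheory CategoryTheory.Limits MonoidalCategory CartesianMonoidalCategory MonObj AlgebraicGeometry
open SGA7

open MonoidalCategory CartesianMonoidalCategory CategoryTheory.Limits
namespace Groth.Agent.S8708

/-- Let k be a field, Z a group without non-trivial elements of finite order, P a connected k-group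
scheme locally of finite type, G the constant k-group scheme Z_k (through the isomorphism eG), and u
: G → E, v : E → P homomorphisms of k-group schemes forming a sequence 1 → G → E → P → 1 which is
exact for the fppf topology. Then the extension is rigid and trivial: every automorphism of the
k-group scheme E compatible with u and v is the identity, and there is a homomorphism of k-group
schemes s : P → E with s followed by v equal to the identity of P. (For P not connected the
published statement reduces extensions of P to extensions of its group of connected components; that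
part is not stated.) -/
theorem result (k : Type u) [Field k]
    (Z : Type u) [Group Z] (hZ : ∀ z : Z, IsOfFinOrder z → z = 1)
    (P E G : Over (Spec (CommRingCat.of k))) [GrpObj P] [GrpObj E] [GrpObj G]
    [LocallyOfFiniteType P.hom] [ConnectedSpace ↥P.left]
    (eG : G ≅ TwC.const (Spec (CommRingCat.of k)) Z) (hG : TwC.IsConstGrp Z G eG)
    (u : G ⟶ E) (v : E ⟶ P) (hex : NonAbH1.IsExactSeq Scheme.fppfPrecoverage u v) :
    (∀ φ : E ≅ E, IsMonHom φ.hom → u ≫ φ.hom = u → φ.hom ≫ v = v → φ.hom = 𝟙 E) ∧
      ∃ s : P ⟶ E, IsMonHom s ∧ s ≫ v = 𝟙 P := by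
  obtain ⟨hum, hvm, huv, hpb, hloc⟩ := hex
  haveI := hum; haveI := hvm
  constructor
  · intro φ hφm hφu hφv
    haveI := hφm
    have hq := ExtDescLib.hasCover_of_locallyTrivial v hloc
    have hinj : ∀ {T : Over (Spec (CommRingCat.of k))} (g g' : T ⟶ G), g ≫ u = g' ≫ u → g = g' := by
      intro T g g' h
      obtain ⟨g₀, -, huniq⟩ := ExtDescLib.exists_ker u v hpb (1 : T ⟶ E) (g ≫ u) (by
        rw [Category.assoc, huv, MonObj.comp_one, MonObj.one_comp])
      rw [huniq g (_root_.one_mul _), huniq g' ((_root_.one_mul _).trans h.symm)]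
    obtain ⟨δ, hδ, -⟩ := ExtDescLib.exists_ker u v hpb (1 : E ⟶ E) (φ.hom * (𝟙 E)⁻¹) (by
      rw [MonObj.one_comp, MonObj.mul_comp, GrpObj.inv_comp, Category.id_comp, hφv, mul_inv_cancel])
    rw [_root_.one_mul] at hδ
    have hδx : ∀ {T : Over (Spec (CommRingCat.of k))} (x : T ⟶ E), (x ≫ δ) ≫ u = (x ≫ φ.hom) * x⁻¹ := fun x => by
      rw [Category.assoc, hδ, MonObj.comp_mul, GrpObj.comp_inv, Category.comp_id]
    obtain ⟨c, hc⟩ := ExtDescLib.descend_cover v hq δ (fun T a b hab => by
      obtain ⟨g, hg, -⟩ := ExtDescLib.exists_ker u v hpb a b hab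
      refine hinj _ _ ?_
      rw [← hg, hδx, hδx, MonObj.mul_comp, Category.assoc g, hφu, mul_inv_rev, _root_.mul_assoc (a ≫ φ.hom),
        mul_inv_cancel_left])
    have hc1 : c = 1 := by
      have hηc : η[P] ≫ c = 1 := by
        have h : (η[E] : 𝟙_ _ ⟶ E) ≫ δ = 1 := hinj _ _ (by
          rw [hδx, IsMonHom.one_hom, mul_inv_cancel, MonObj.one_comp])
        rw [← IsMonHom.one_hom (f := v), Category.assoc, hc, h]
      have hr : Set.range c.left.base ⊆ Set.range (ExtDescLib.piece eG 1).left.base := by
        haveI : PreconnectedSpace P.left := ConnectedSpace.toPreconnectedSpace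
        let o : ↥(Spec (CommRingCat.of k)) := IsLocalRing.closedPoint k
        refine (isPreconnected_range c.left.continuous).subset_isClopen (ExtDescLib.isClopen_piece eG 1)
          ⟨c.left.base ((η[P] : 𝟙_ _ ⟶ P).left.base o), ⟨_, rfl⟩, ?_⟩
        rw [← Scheme.Hom.comp_apply, ← Over.comp_left, hηc, ExtDescLib.piece_one eG hG]
        exact ⟨_, rfl⟩
      rw [ExtDescLib.eq_piece eG c 1 hr, ExtDescLib.piece_one eG hG, MonObj.comp_one]
    have hd : δ = 1 := by rw [← hc, hc1, MonObj.comp_one]
    rw [hd, MonObj.one_comp] at hδ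
    exact mul_inv_eq_one.1 hδ.symm
  · haveI : Etale G.hom := ExtDescLib.etale_hom eG
    haveI hfst : Etale (fst E G).left := MorphismProperty.of_isPullback (TorsExtLib.isPullback_fst_snd E G).flip inferInstance
    have sqv : IsPullback (fst E G).left ((E ◁ u) ≫ μ[E]).left v.left v.left := hpb.map (Over.forget _)
    haveI : Etale v.left := by
      obtain ⟨T, π, t, hf, hs, hl, hπ⟩ := ExtDescLib.hasCover_of_locallyTrivial v hloc
      have h1 : Etale (pullback.fst t.left (fst E G).left) := MorphismProperty.pullback_fst _ _ hfst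
      have big := (IsPullback.of_hasPullback t.left (fst E G).left).flip.paste_horiz sqv.flip
      rw [show t.left ≫ v.left = π.left from congrArg Over.Hom.left hπ] at big
      exact MorphismProperty.of_isPullback_of_descendsAlong (P := @Etale)
        (Q := @Surjective ⊓ @Flat ⊓ @LocallyOfFinitePresentation) big.flip ⟨⟨hs, hf⟩, hl⟩ h1
    haveI : LocallyOfFiniteType E.hom := by rw [← Over.w v]; infer_instance
    obtain ⟨E₀, _, i, hi, hic, hif, hir, hgi, hcs⟩ := GrpField.exists_identity_component (G := E)
    haveI := hi; haveI := hic; haveI := hif; haveI := hgi; haveI := hcs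
    haveI : Mono i := Over.mono_of_mono_left i
    haveI : IsLocallyNoetherian E.left := LocallyOfFiniteType.isLocallyNoetherian E.hom
    haveI : LocallyOfFinitePresentation i.left := inferInstance
    haveI : IsOpenImmersion i.left := IsOpenImmersion.of_flat_of_mono i.left
    haveI : LocallyOfFiniteType E₀.hom := by rw [← Over.w i]; infer_instance
    haveI : Subsingleton ↥(Spec (CommRingCat.of k)) := inferInstanceAs (Subsingleton (PrimeSpectrum k))
    haveI : Subsingleton (𝟙_ (Over (Spec (CommRingCat.of k)))).left := inferInstanceAs (Subsingleton (PrimeSpectrum k))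
    haveI : IsSeparated P.hom := GrpField.isSeparated_grp (G := P)
    let w : E₀ ⟶ P := i ≫ v
    haveI : Etale w.left := by rw [Over.comp_left]; infer_instance
    haveI : QuasiCompact w.left := by
      haveI : QuasiCompact E₀.hom := HasAffineProperty.iff_of_isAffine.2 (inferInstance : CompactSpace E₀.left)
      haveI : QuasiCompact (w.left ≫ P.hom) := by rw [Over.w]; infer_instance
      exact QuasiCompact.of_comp w.left P.hom
    let o : ↥(Spec (CommRingCat.of k)) := IsLocalRing.closedPoint k
    haveI : Surjective w.left := by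
      haveI : PreconnectedSpace P.left := ConnectedSpace.toPreconnectedSpace
      have hcl : IsClopen (Set.range w.left.base) :=
        ⟨GrpHom.isClosed_range w, w.left.isOpenMap.isOpen_range⟩
      exact ⟨Set.range_eq_univ.1 (hcl.eq_univ ⟨_, (η[E₀] : 𝟙_ _ ⟶ E₀).left.base o, rfl⟩)⟩
    have hinj : ∀ {T : Over (Spec (CommRingCat.of k))} (g g' : T ⟶ G), g ≫ u = g' ≫ u → g = g' := by
      intro T g g' h
      obtain ⟨g₀, -, huniq⟩ := ExtDescLib.exists_ker u v hpb (1 : T ⟶ E) (g ≫ u) (by
        rw [Category.assoc, huv, MonObj.comp_one, MonObj.one_comp])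
      rw [huniq g (_root_.one_mul _), huniq g' ((_root_.one_mul _).trans h.symm)]
    have hker : ∀ n : Z, (u.left.base ((ExtDescLib.piece eG n).left.base o) ∈ Set.range i.left.base) → n = 1 := by
      intro n hn
      let H : Set Z := {m | ∃ l, l ≫ i = ExtDescLib.piece eG m ≫ u}
      have hnH : n ∈ H := by
        refine ⟨Over.homMk (IsOpenImmersion.lift i.left (ExtDescLib.piece eG n ≫ u).left ?_) ?_,
          Over.OverMorphism.ext (IsOpenImmersion.lift_fac _ _ _)⟩
        · rintro _ ⟨y, rfl⟩
          rw [Over.comp_left, Scheme.Hom.comp_apply, Subsingleton.elim y o]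
          exact hn
        · rw [← Over.w i, IsOpenImmersion.lift_fac_assoc, Over.w]
      have hmul : ∀ a ∈ H, ∀ b ∈ H, a * b ∈ H := fun a ⟨la, ha⟩ b ⟨lb, hb⟩ =>
        ⟨la * lb, by rw [MonObj.mul_comp, ha, hb, ← MonObj.mul_comp, ExtDescLib.piece_mul eG hG]⟩
      have hH1 : (1 : Z) ∈ H := ⟨1, by rw [ExtDescLib.piece_one eG hG, MonObj.one_comp, MonObj.one_comp]⟩
      choose l hl using fun m : H => m.2
      have hfib : ∀ m : H, w.left.base ((l m).left.base o) = (η[P] : 𝟙_ _ ⟶ P).left.base o := fun m => by
        rw [← Scheme.Hom.comp_apply, ← Over.comp_left, ← Category.assoc, hl, Category.assoc, huv, MonObj.comp_one,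
          ← MonObj.one_eq_one]
      haveI : LocallyQuasiFinite w.left := WeightLib.locallyQuasiFinite_of_etale _
      have hfin := w.left.finite_preimage (Set.finite_singleton ((η[P] : 𝟙_ _ ⟶ P).left.base o))
      have hinjl : Function.Injective fun m : H => (l m).left.base o := fun m m' e => by
        have e' := congrArg i.left.base e
        rw [← Scheme.Hom.comp_apply, ← Scheme.Hom.comp_apply, ← Over.comp_left, ← Over.comp_left, hl, hl,
          Over.comp_left, Over.comp_left, Scheme.Hom.comp_apply, Scheme.Hom.comp_apply] at e'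
        have hcl : IsClosedImmersion u.left := by
          haveI : IsClosedImmersion (η[P] : 𝟙_ _ ⟶ P).left :=
            isClosedImmersion_of_comp_eq_id P.hom _ (Over.w (η[P] : 𝟙_ _ ⟶ P))
          have sqk : IsPullback u (toUnit G) v η[P] := by
            refine ⟨⟨by rw [huv, Hom.one_def]⟩, ⟨PullbackCone.IsLimit.mk _ (fun s =>
              (ExtDescLib.exists_ker u v hpb (1 : s.pt ⟶ E) s.fst
                (by rw [MonObj.one_comp, s.condition, Hom.one_def, toUnit_unique s.snd (toUnit _)])).choose) ?_
              (fun s => toUnit_unique _ _) ?_⟩⟩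
            · intro s
              exact (_root_.one_mul _).symm.trans (ExtDescLib.exists_ker u v hpb (1 : s.pt ⟶ E) s.fst
                (by rw [MonObj.one_comp, s.condition, Hom.one_def, toUnit_unique s.snd (toUnit _)])).choose_spec.1
            · intro s m h1 _
              exact (ExtDescLib.exists_ker u v hpb (1 : s.pt ⟶ E) s.fst
                (by rw [MonObj.one_comp, s.condition, Hom.one_def, toUnit_unique s.snd (toUnit _)])).choose_spec.2 m
                ((_root_.one_mul _).trans h1)
          exact MorphismProperty.of_isPullback (P := @IsClosedImmersion) (sqk.map (Over.forget _)).flip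
            ‹IsClosedImmersion (η[P] : 𝟙_ _ ⟶ P).left›
        haveI := hcl
        exact Subtype.ext (ExtDescLib.piece_unique eG ⟨o, rfl⟩ ⟨o, (u.left.isClosedEmbedding.injective e').symm⟩)
      have hHfin : H.Finite := by
        haveI := hfin.to_subtype
        exact Set.finite_coe_iff.1 (Finite.of_injective (fun m : H =>
          (⟨(l m).left.base o, hfib m⟩ : ↥(w.left.base ⁻¹' {(η[P] : 𝟙_ _ ⟶ P).left.base o})))
          fun m m' e => hinjl (congrArg Subtype.val e))
      refine hZ n (finite_powers.1 (hHfin.subset ?_))
      rintro _ ⟨a, rfl⟩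
      induction a with
      | zero => simpa using hH1
      | succ a ih => simpa [pow_succ] using hmul _ ih _ hnH
    haveI : Mono w := by
      refine ⟨fun {T} a b e => ?_⟩
      rw [← mul_inv_eq_one]
      have h1 : ((a * b⁻¹) ≫ i) ≫ v = 1 := by
        rw [Category.assoc, MonObj.mul_comp, GrpObj.inv_comp, e, mul_inv_cancel]
      obtain ⟨g, hg, -⟩ := ExtDescLib.exists_ker u v hpb (1 : T ⟶ E) ((a * b⁻¹) ≫ i) (by rw [h1, MonObj.one_comp])
      rw [_root_.one_mul] at hg
      have hg1 : g = 1 := by
        rw [ExtDescLib.eq_piece eG g 1 ?_, ExtDescLib.piece_one eG hG, MonObj.comp_one]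
        rintro _ ⟨y, rfl⟩
        obtain ⟨n, z, hz⟩ := ExtDescLib.exists_piece eG (g.left.base y)
        rw [Subsingleton.elim z o] at hz
        have hn1 := hker n ⟨(a * b⁻¹).left.base y, by
          rw [hz, ← Scheme.Hom.comp_apply, ← Scheme.Hom.comp_apply, ← Over.comp_left, ← Over.comp_left, hg]⟩
        exact ⟨o, hn1 ▸ hz⟩
      rw [hg1, MonObj.one_comp] at hg
      rw [← cancel_mono i, ← hg, MonObj.one_comp]
    haveI : Mono w.left := inferInstanceAs (Mono ((Over.forget _).map w))
    haveI := IsOpenImmersion.of_flat_of_mono w.left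
    haveI : Epi w.left.base := (TopCat.epi_iff_surjective _).2 w.left.surjective
    haveI : IsIso w.left := (isIso_iff_isOpenImmersion_and_epi_base _).2 ⟨inferInstance, inferInstance⟩
    haveI : IsIso ((Over.forget _).map w) := ‹IsIso w.left›
    haveI : IsIso w := isIso_of_reflects_iso w (Over.forget _)
    refine ⟨inv w ≫ i, ?_, by rw [Category.assoc, IsIso.inv_hom_id]⟩
    haveI : IsMonHom (inv w) := by
      refine { one_hom := ?_, mul_hom := ?_ }
      · rw [← cancel_mono w, Category.assoc, IsIso.inv_hom_id, Category.comp_id, IsMonHom.one_hom]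
      · rw [← cancel_mono w, Category.assoc, Category.assoc, IsIso.inv_hom_id, Category.comp_id, IsMonHom.mul_hom,
          tensorHom_comp_tensorHom_assoc, IsIso.inv_hom_id, id_tensorHom_id, Category.id_comp]
    infer_instance

end Groth.Agent.S8708
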