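import Groth.Statements.S8712
import Groth.Agent.ConstTorsLib.Ext

set_option autoImplicit false
set_option backward.isDefEq.respectTransparency false
set_option maxHeartbeats 1000000
set_option linter.style.haveILetI false
universe u
open CategoryTheory CategoryTheory.Limits MonoidalCategory CartesianMonoidalCategory MonObj AlgebraicGeometry
open SGA7

open MonoidalCategory CartesianMonoidalCategory CategoryTheory.Limits
namespace Groth.Agent.S8712

theorem torsionFree (r : ℕ) (z : ULift.{u} (Multiplicative (Fin r → ℤ))) (h : IsOfFinOrder z) : z = 1 := by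
  obtain ⟨n, hn, hz⟩ := isOfFinOrder_iff_pow_eq_one.1 h
  have h1 : n • Multiplicative.toAdd z.down = 0 := congrArg (fun y => Multiplicative.toAdd (ULift.down y)) hz
  refine ULift.ext _ _ (Multiplicative.toAdd.injective (funext fun i => ?_))
  have h2 := congrFun h1 i
  simp only [Pi.smul_apply, Pi.zero_apply, nsmul_eq_mul, mul_eq_zero, Nat.cast_eq_zero] at h2
  exact h2.resolve_left hn.ne'


/-- The vanishing of Ext¹(P, M) proved there: let S be a scheme, P a commutative S-group scheme which is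
smooth and of finite presentation over S (smooth, quasi-compact, quasi-separated) with geometrically
connected fibres, M a commutative S-group scheme which is a twisted constant group with fibres Z^r:
after a flat surjective base change S' → S which is an fpqc covering, Zariski-locally on S', M
becomes the constant group scheme of Z^r for some r (allowed to vary), and u : M → E, v : E → P
homomorphisms of commutative S-group schemes forming a sequence 1 → M → E → P → 1 exact for the fppf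
topology. Then every homomorphism P → M is trivial, and the extension E of P by M is trivial: there
is a homomorphism s : P → E with s followed by v equal to the identity of P. -/
theorem result (S : Scheme.{u})
    (P E M : Over S) [GrpObj P] [GrpObj E] [GrpObj M] [IsCommMonObj P] [IsCommMonObj E] [IsCommMonObj M]
    [Smooth P.hom] [QuasiCompact P.hom] [QuasiSeparated P.hom] [GeometricallyConnected P.hom]
    (hM : TwC.Locally S TwC.Topology.fpqc (fun S' f =>
      ∃ (r : ℕ) (e : Red.bc f M ≅ TwC.const S' (Multiplicative (Fin r → ℤ))),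
        TwC.IsConstGrp (Multiplicative (Fin r → ℤ)) (Red.bc f M) e))
    (u : M ⟶ E) (v : E ⟶ P) (hex : NonAbH1.IsExactSeq Scheme.fppfPrecoverage u v) :
    (∀ φ : P ⟶ M, IsMonHom φ → φ = 1) ∧ ∃ s : P ⟶ E, IsMonHom s ∧ s ≫ v = 𝟙 P := by
  obtain ⟨hum, hvm, huv, hpb, hloc⟩ := hex
  haveI := hum; haveI := hvm
  obtain ⟨S', f, hflat, hsurj, hcov, hlocM⟩ := hM
  haveI := hflat; haveI := hsurj
  choose U hsU r e₀ he₀ using hlocM
  haveI : DescLib.Fpqc f := ⟨Groth.Agent.DescHom.singleton_mem_fpqc f hcov⟩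
  obtain ⟨hMet, hMsep⟩ := ConstTorsLib.etale_and_isSeparated_twConst (M := M) f hcov U hsU
    (fun s' => ⟨_, ⟨e₀ s' ≪≫ ConstTorsLib.constULift _⟩⟩)
  haveI := hMet; haveI := hMsep
  obtain ⟨hvet, hvsep, hvsurj⟩ := ConstTorsLib.etale_and_isSeparated_quot u v hloc hpb hMet hMsep
  haveI := hvet; haveI := hvsep; haveI := hvsurj
  refine ⟨fun φ hφ => ?_, ?_⟩
  · haveI := hφ
    refine Over.OverMorphism.ext (ConstTorsLib.eq_of_section M.hom φ.left (1 : P ⟶ M).left
      ((Over.w φ).trans (Over.w (1 : P ⟶ M)).symm) P.hom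
      (fun s => (Scheme.Hom.isConnected_preimage_singleton P.hom s).isPreconnected) (η[P] : 𝟙_ _ ⟶ P).left
      (Over.w (η[P] : 𝟙_ _ ⟶ P)) ?_)
    rw [← Over.comp_left, ← Over.comp_left, IsMonHom.one_hom, MonObj.comp_one, MonObj.one_eq_one]
  · -- local splittings
    choose σ hσv hσu using fun s' => ConstTorsLib.exists_section_piece u v ((U s').ι ≫ f)
      (e₀ s' ≪≫ ConstTorsLib.constULift _) (ConstTorsLib.isConstGrp_ulift _ (he₀ s')) (torsionFree (r s'))
      hum hvm huv hpb
    let F : Over S := Over.mk f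
    let Uo : ↥S' → Over S := fun s' => (Over.map ((U s').ι ≫ f)).obj (𝟙_ (Over (U s').toScheme))
    let jU : ∀ s', Uo s' ⟶ F := fun s' => Over.homMk (U s').ι (Category.id_comp _).symm
    -- the uniqueness
    have huniq : ∀ {T : Over S} (a b : P ⊗ T ⟶ E), a ≫ v = b ≫ v →
        lift (toUnit T ≫ η[P]) (𝟙 T) ≫ a = lift (toUnit T ≫ η[P]) (𝟙 T) ≫ b → a = b :=
      fun a b h hu => ConstTorsLib.ext_of_unit v a b h hu
    have hpull : ∀ {T T' : Over S} (l : T ⟶ T') (s : P ⊗ T' ⟶ E), s ≫ v = fst P T' →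
        lift (toUnit T' ≫ η[P]) (𝟙 T') ≫ s = toUnit T' ≫ η[E] →
        (P ◁ l) ≫ s ≫ v = fst P T ∧
          lift (toUnit T ≫ η[P]) (𝟙 T) ≫ (P ◁ l) ≫ s = toUnit T ≫ η[E] := by
      intro T T' l s h1 h2
      refine ⟨by rw [h1, whiskerLeft_fst], ?_⟩
      rw [lift_whiskerLeft_assoc, Category.id_comp,
        show lift (toUnit T ≫ η[P]) l = l ≫ lift (toUnit T' ≫ η[P]) (𝟙 T') by
          rw [comp_lift, Category.comp_id, ← Category.assoc, comp_toUnit],
        Category.assoc, h2, ← Category.assoc, comp_toUnit]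
    have hsame : ∀ {T T₁ T₂ : Over S} (l₁ : T ⟶ T₁) (l₂ : T ⟶ T₂) (s₁ : P ⊗ T₁ ⟶ E) (s₂ : P ⊗ T₂ ⟶ E),
        s₁ ≫ v = fst P T₁ → s₂ ≫ v = fst P T₂ → lift (toUnit T₁ ≫ η[P]) (𝟙 T₁) ≫ s₁ = toUnit T₁ ≫ η[E] →
        lift (toUnit T₂ ≫ η[P]) (𝟙 T₂) ≫ s₂ = toUnit T₂ ≫ η[E] → ∀ x : T ⟶ P,
        lift x l₁ ≫ s₁ = lift x l₂ ≫ s₂ := by
      intro T T₁ T₂ l₁ l₂ s₁ s₂ a1 a2 b1 b2 x
      obtain ⟨p1, q1⟩ := hpull l₁ s₁ a1 b1
      obtain ⟨p2, q2⟩ := hpull l₂ s₂ a2 b2
      have h := huniq ((P ◁ l₁) ≫ s₁) ((P ◁ l₂) ≫ s₂) (by rw [Category.assoc, Category.assoc, p1, p2])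
        (q1.trans q2.symm)
      have h' := congrArg (fun φ => lift x (𝟙 T) ≫ φ) h
      simpa only [lift_whiskerLeft_assoc, Category.id_comp] using h'
    -- glue over the cover
    have hsq : ∀ s', IsPullback (P ◁ jU s').left (snd P (Uo s')).left (snd P F).left (jU s').left := fun s' => by
      refine IsPullback.of_right ?_ (by rw [← Over.comp_left, ← Over.comp_left, whiskerLeft_snd])
        (TorsExtLib.isPullback_fst_snd P F)
      have h : (P ◁ jU s').left ≫ (fst P F).left = (fst P (Uo s')).left := by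
        rw [← Over.comp_left, whiskerLeft_fst]
      rw [h, Over.w (jU s')]
      exact TorsExtLib.isPullback_fst_snd P (Uo s')
    haveI hopen : ∀ s', IsOpenImmersion (P ◁ jU s').left := fun s' =>
      MorphismProperty.of_isPullback (P := @IsOpenImmersion) (hsq s').flip (inferInstanceAs (IsOpenImmersion (U s').ι))
    let 𝒰 : (P ⊗ F).left.OpenCover := Scheme.Cover.mkOfCovers S' (fun s' => (P ⊗ Uo s').left)
      (fun s' => (P ◁ jU s').left) (fun x => by
        let s' : ↥S' := (snd P F).left x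
        obtain ⟨y, hy, -⟩ := Scheme.exists_preimage_of_isPullback (hsq s') x
          (⟨s', hsU s'⟩ : (U s').toScheme) rfl
        exact ⟨s', y, hy⟩) (fun s' => hopen s')
    have hagree : ∀ a b : ↥S', pullback.fst (𝒰.f a) (𝒰.f b) ≫ (σ a).left =
        pullback.snd (𝒰.f a) (𝒰.f b) ≫ (σ b).left := fun a b => by
      let w₁ := pullback.fst (𝒰.f a) (𝒰.f b)
      let w₂ := pullback.snd (𝒰.f a) (𝒰.f b)
      let W : Over S := Over.mk (w₁ ≫ (P ⊗ Uo a).hom)
      let x₁ : W ⟶ P ⊗ Uo a := Over.homMk w₁ rfl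
      let x₂ : W ⟶ P ⊗ Uo b := Over.homMk w₂ (by
        have h := pullback.condition (f := 𝒰.f a) (g := 𝒰.f b)
        show w₂ ≫ (P ⊗ Uo b).hom = w₁ ≫ (P ⊗ Uo a).hom
        rw [← Over.w (P ◁ jU b), ← Over.w (P ◁ jU a)]
        exact (reassoc_of% h) (P ⊗ F).hom |>.symm)
      have hx : x₁ ≫ (P ◁ jU a) = x₂ ≫ (P ◁ jU b) := Over.OverMorphism.ext pullback.condition
      have hfst : x₁ ≫ fst P (Uo a) = x₂ ≫ fst P (Uo b) := by
        have := congrArg (· ≫ fst P F) hx
        simpa only [Category.assoc, whiskerLeft_fst] using this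
      have h := hsame (x₁ ≫ snd P (Uo a)) (x₂ ≫ snd P (Uo b)) (σ a) (σ b) (hσv a) (hσv b) (hσu a) (hσu b)
        (x₁ ≫ fst P (Uo a))
      rw [← comp_lift, lift_fst_snd, Category.comp_id, hfst, ← comp_lift, lift_fst_snd, Category.comp_id] at h
      exact congrArg Over.Hom.left h
    let τ₀ : (P ⊗ F).left ⟶ E.left := 𝒰.glueMorphisms (fun s' => (σ s').left) hagree
    have hτ₀ : ∀ s', (P ◁ jU s').left ≫ τ₀ = (σ s').left := fun s' => 𝒰.ι_glueMorphisms _ _ s'
    let τ : P ⊗ F ⟶ E := Over.homMk τ₀ (𝒰.hom_ext _ _ fun s' => by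
      show (P ◁ jU s').left ≫ τ₀ ≫ E.hom = (P ◁ jU s').left ≫ (P ⊗ F).hom
      rw [reassoc_of% (hτ₀ s'), Over.w, Over.w])
    have hτ : ∀ s', (P ◁ jU s') ≫ τ = σ s' := fun s' => Over.OverMorphism.ext (hτ₀ s')
    have hτv : τ ≫ v = fst P F := Over.OverMorphism.ext (𝒰.hom_ext _ _ fun s' => by
      show (P ◁ jU s').left ≫ (τ ≫ v).left = (P ◁ jU s').left ≫ (fst P F).left
      rw [← Over.comp_left, ← Over.comp_left, reassoc_of% (hτ s'), hσv, whiskerLeft_fst])
    have hτu : lift (toUnit F ≫ η[P]) (𝟙 F) ≫ τ = toUnit F ≫ η[E] := by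
      refine Over.OverMorphism.ext ((Scheme.openCoverOfIsOpenCover S' U ?_).hom_ext _ _ fun s' => ?_)
      · exact top_le_iff.mp fun s _ => TopologicalSpace.Opens.mem_iSup.mpr ⟨s, hsU s⟩
      · show (jU s').left ≫ (lift (toUnit F ≫ η[P]) (𝟙 F) ≫ τ).left = (jU s').left ≫ (toUnit F ≫ η[E]).left
        rw [← Over.comp_left, ← Over.comp_left, ← Category.assoc (jU s'), comp_lift, Category.comp_id,
          ← Category.assoc (jU s'), comp_toUnit,
          show lift (toUnit (Uo s') ≫ η[P]) (jU s') = lift (toUnit (Uo s') ≫ η[P]) (𝟙 _) ≫ (P ◁ jU s') by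
            rw [lift_whiskerLeft, Category.id_comp],
          Category.assoc, hτ, hσu, ← Category.assoc (jU s'), comp_toUnit]
    -- descend
    haveI hF : DescLib.Fpqc F.hom := ‹DescLib.Fpqc f›
    haveI : DescLib.Fpqc (fst P F).left := DescLib.Fpqc.of_isPullback (TorsExtLib.isPullback_fst_snd P F)
    have hl : ∀ {W : Scheme.{u}} (g₁ g₂ : W ⟶ (P ⊗ F).left), g₁ ≫ (fst P F).left = g₂ ≫ (fst P F).left →
        g₁ ≫ τ.left = g₂ ≫ τ.left := fun {W} g₁ g₂ h => by
      let V : Over S := Over.mk (g₁ ≫ (P ⊗ F).hom)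
      let a : V ⟶ P ⊗ F := Over.homMk g₁ rfl
      let b : V ⟶ P ⊗ F := Over.homMk g₂
        (show g₂ ≫ (P ⊗ F).hom = g₁ ≫ (P ⊗ F).hom by rw [← Over.w (fst P F), reassoc_of% h])
      have hab : a ≫ fst P F = b ≫ fst P F := Over.OverMorphism.ext h
      have h := hsame (a ≫ snd P F) (b ≫ snd P F) τ τ hτv hτv hτu hτu (a ≫ fst P F)
      rw [← comp_lift, lift_fst_snd, Category.comp_id, hab, ← comp_lift, lift_fst_snd, Category.comp_id] at h
      exact congrArg Over.Hom.left h
    let s₀ : P.left ⟶ E.left := EffectiveEpi.desc (fst P F).left τ.left hl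
    have hs₀ : (fst P F).left ≫ s₀ = τ.left := EffectiveEpi.fac _ _ _
    let s : P ⟶ E := Over.homMk s₀ (by
      rw [← cancel_epi (fst P F).left, reassoc_of% hs₀, Over.w, Over.w])
    have hs : fst P F ≫ s = τ := Over.OverMorphism.ext hs₀
    have hsv : s ≫ v = 𝟙 P := Over.OverMorphism.ext (by
      rw [← cancel_epi (fst P F).left, ← Over.comp_left, ← Over.comp_left, reassoc_of% hs, hτv, Category.comp_id])
    have hsη : η[P] ≫ s = η[E] := by
      haveI : DescLib.Fpqc (toUnit F).left := (‹DescLib.Fpqc f› : DescLib.Fpqc f)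
      refine Over.OverMorphism.ext ?_
      rw [← cancel_epi (toUnit F).left, ← Over.comp_left, ← Over.comp_left, ← hτu, ← hs, ← Category.assoc,
        ← Category.assoc, lift_fst]
    refine ⟨s, { one_hom := hsη, mul_hom := huniq _ _ ?_ ?_ }, hsv⟩
    · rw [Category.assoc, hsv, Category.comp_id, Category.assoc, IsMonHom.mul_hom, tensorHom_comp_tensorHom_assoc,
        hsv, id_tensorHom_id, Category.id_comp]
    · rw [lift_map_assoc, Category.id_comp, Category.assoc, hsη, ← Category.assoc (lift (toUnit P ≫ η[P]) (𝟙 P)),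
        ← Hom.mul_def, ← Hom.mul_def, ← Hom.one_def, ← Hom.one_def, _root_.one_mul, _root_.one_mul,
        Category.id_comp]

end Groth.Agent.S8712
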