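import Groth.Statements.S8716
import Groth.Agent.ExtDescLib.Const

set_option autoImplicit false
set_option backward.isDefEq.respectTransparency false
universe u
open CategoryTheory CategoryTheory.Limits MonoidalCategory CartesianMonoidalCategory MonObj AlgebraicGeometry
open SGA7

open MonoidalCategory CartesianMonoidalCategory CategoryTheory.Limits
namespace Groth.Agent.S8716

/-- Let k be a field, Z a commutative group without non-trivial elements of finite order, P a
commutative k-group scheme of finite type (so that its group of connected components is a finite,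
hence torsion, group), G the constant k-group scheme Z_k (through the isomorphism eG), and u : G →
E, v : E → P homomorphisms of commutative k-group schemes forming a sequence 1 → G → E → P → 1 exact
for the fppf topology. Then the extension is rigid: every automorphism of the k-group scheme E
compatible with u and v is the identity. (The published statement assumes only P locally of finite
type with torsion component group; this row takes P of finite type, the case it names.) -/
theorem result (k : Type u) [Field k]
    (Z : Type u) [CommGroup Z] (hZ : ∀ z : Z, IsOfFinOrder z → z = 1)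
    (P E G : Over (Spec (CommRingCat.of k))) [GrpObj P] [GrpObj E] [GrpObj G]
    [IsCommMonObj P] [IsCommMonObj E]
    [LocallyOfFiniteType P.hom] [QuasiCompact P.hom]
    (eG : G ≅ TwC.const (Spec (CommRingCat.of k)) Z) (hG : TwC.IsConstGrp Z G eG)
    (u : G ⟶ E) (v : E ⟶ P) (hex : NonAbH1.IsExactSeq Scheme.fppfPrecoverage u v)
    (φ : E ≅ E) [IsMonHom φ.hom] (hφu : u ≫ φ.hom = u) (hφv : φ.hom ≫ v = v) :
    φ.hom = 𝟙 E := by
  obtain ⟨hum, hvm, huv, hpb, hloc⟩ := hex
  haveI := hum; haveI := hvm
  haveI := ‹IsMonHom φ.hom›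
  have hq := ExtDescLib.hasCover_of_locallyTrivial v hloc
  have hinj : ∀ {T : Over (Spec (CommRingCat.of k))} (g g' : T ⟶ G), g ≫ u = g' ≫ u → g = g' := by
    intro T g g' h
    obtain ⟨g₀, -, huniq⟩ := ExtDescLib.exists_ker u v hpb (1 : T ⟶ E) (g ≫ u) (by
      rw [Category.assoc, huv, MonObj.comp_one, MonObj.one_comp])
    rw [huniq g (_root_.one_mul _), huniq g' ((_root_.one_mul _).trans h.symm)]
  obtain ⟨δ, hδ, -⟩ := ExtDescLib.exists_ker u v hpb (1 : E ⟶ E) (φ.hom * (𝟙 E)⁻¹) (by
    rw [MonObj.one_comp, MonObj.mul_comp, GrpObj.inv_comp, Category.id_comp, hφv, mul_inv_cancel])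
  rw [_root_.one_mul] at hδ
  have hδx : ∀ {T : Over (Spec (CommRingCat.of k))} (x : T ⟶ E), (x ≫ δ) ≫ u = (x ≫ φ.hom) * x⁻¹ := fun x => by
    rw [Category.assoc, hδ, MonObj.comp_mul, GrpObj.comp_inv, Category.comp_id]
  obtain ⟨c, hc⟩ := ExtDescLib.descend_cover v hq δ (fun T a b hab => by
    obtain ⟨g, hg, -⟩ := ExtDescLib.exists_ker u v hpb a b hab
    refine hinj _ _ ?_
    rw [← hg, hδx, hδx, MonObj.mul_comp, Category.assoc g, hφu, mul_inv_rev, _root_.mul_assoc (a ≫ φ.hom),
      mul_inv_cancel_left])
  have hchom : ∀ {T : Over (Spec (CommRingCat.of k))} (p p' : T ⟶ P), (p * p') ≫ c = (p ≫ c) * (p' ≫ c) := by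
    have hm : (fst P P * snd P P) ≫ c = (fst P P ≫ c) * (snd P P ≫ c) := by
      refine ExtDescLib.cancel_cover (v ⊗ₘ v) (ExtDescLib.hasCover_tensor v v hq hq) _ _ ?_
      rw [← Category.assoc, MonObj.comp_mul, MonObj.comp_mul, ← Category.assoc, ← Category.assoc, tensorHom_fst,
        tensorHom_snd, ← MonObj.mul_comp, Category.assoc, Category.assoc, Category.assoc, hc]
      refine hinj _ _ ?_
      rw [MonObj.mul_comp (fst E E ≫ δ) (snd E E ≫ δ) u, hδx, hδx, hδx, MonObj.mul_comp (fst E E) (snd E E) φ.hom,
        mul_inv]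
      ac_rfl
    intro T p p'
    have h := congrArg (lift p p' ≫ ·) hm
    simpa [MonObj.comp_mul, ← Category.assoc] using h
  haveI : CompactSpace P.left := QuasiCompact.compactSpace_of_compactSpace P.hom
  have hfin := ExtDescLib.finite_meeting eG c.left.base c.left.continuous
  have hone : ∀ x, c.left.base x ∈ Set.range (ExtDescLib.piece eG 1).left.base := by
    intro x
    obtain ⟨n, hn⟩ := ExtDescLib.exists_piece eG (c.left.base x)
    let T : Over (Spec (CommRingCat.of k)) := Over.mk (P.left.fromSpecResidueField x ≫ P.hom)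
    let p : T ⟶ P := Over.homMk (P.left.fromSpecResidueField x) rfl
    let t₀ : T.left := IsLocalRing.closedPoint (P.left.residueField x)
    have hp : p ≫ c = toUnit T ≫ ExtDescLib.piece eG n := by
      refine ExtDescLib.eq_piece eG _ n ?_
      rintro _ ⟨y, rfl⟩
      rw [Over.comp_left, Scheme.Hom.comp_apply]
      rw [show p.left.base y = x from Scheme.fromSpecResidueField_apply x y]
      exact hn
    have hpow : ∀ a : ℕ, (p ^ a) ≫ c = toUnit T ≫ ExtDescLib.piece eG (n ^ a) := by
      intro a
      induction a with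
      | zero =>
        have h1 : (1 : T ⟶ P) ≫ c = 1 := by
          have h := hchom (1 : T ⟶ P) 1
          rw [_root_.one_mul] at h
          exact mul_eq_left.1 h.symm
        rw [pow_zero, pow_zero, h1, ExtDescLib.piece_one eG hG, MonObj.comp_one]
      | succ a ih => rw [pow_succ, pow_succ, hchom, ih, hp, ← MonObj.comp_mul, ExtDescLib.piece_mul eG hG]
    have hall : ∀ a : ℕ, n ^ a ∈ {m : Z | ∃ x, c.left.base x ∈ Set.range (ExtDescLib.piece eG m).left.base} := fun a =>
      ⟨(p ^ a).left.base t₀, (toUnit T).left.base t₀, by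
        rw [← Scheme.Hom.comp_apply, ← Scheme.Hom.comp_apply, ← Over.comp_left, ← Over.comp_left, hpow]⟩
    have hfo : IsOfFinOrder n := by
      have : (Set.range fun a : ℕ => n ^ a).Finite := hfin.subset (by rintro _ ⟨a, rfl⟩; exact hall a)
      exact finite_powers.1 (by rw [Submonoid.coe_powers]; exact this)
    rw [hZ n hfo] at hn
    exact hn
  have hc1 : c = 1 := by
    rw [ExtDescLib.eq_piece eG c 1 (by rintro _ ⟨x, rfl⟩; exact hone x), ExtDescLib.piece_one eG hG, MonObj.comp_one]
  have hd : δ = 1 := by rw [← hc, hc1, MonObj.comp_one]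
  rw [hd, MonObj.one_comp] at hδ
  exact mul_inv_eq_one.1 hδ.symm

end Groth.Agent.S8716
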