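import Groth.Statements.S8717
import Groth.Agent.ConstTorsLib.Transport
import Groth.Agent.ConstTorsLib.ConstBC
import Groth.Agent.ConstTorsLib.Ext

set_option autoImplicit false
set_option backward.isDefEq.respectTransparency false
set_option maxHeartbeats 1000000
set_option linter.style.haveILetI false
universe u
open CategoryTheory CategoryTheory.Limits MonoidalCategory CartesianMonoidalCategory MonObj AlgebraicGeometry
open SGA7

open MonoidalCategory CartesianMonoidalCategory CategoryTheory.Limits
namespace Groth.Agent.S8717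

/-- Let S be an irreducible scheme all of whose local rings are geometrically unibranch, ξ its generic
point and i : Spec κ(ξ) → S the canonical morphism, Z a group without non-trivial elements of finite
order, G the constant S-group scheme Z_S (through eG), P a smooth S-group scheme, and u' : G_η → E',
v' : E' → P_η homomorphisms of group schemes over κ(ξ) forming a sequence 1 → G_η → E' → P_η → 1
exact for the fppf topology (G_η = G ×_S Spec κ(ξ), P_η likewise). Then the extension comes from S:
there are an S-group scheme E, homomorphisms u : G → E, v : E → P forming a sequence exact for the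
fppf topology, and an isomorphism of group schemes E_η ≅ E' carrying u_η to u' and v_η to v'. (The
published statement asserts that E ↦ E_η is an equivalence of categories of extensions; only
essential surjectivity is stated.) -/
theorem result (S : Scheme.{u}) [IrreducibleSpace ↥S]
    (hS : ∀ s : ↥S, CAlg2.IsGeomUnibranch ↑(S.presheaf.stalk s))
    (ξ : ↥S) (hξ : IsGenericPoint ξ (Set.univ : Set ↥S))
    (Z : Type u) [Group Z] (hZ : ∀ z : Z, IsOfFinOrder z → z = 1)
    (G P : Over S) [GrpObj G] [GrpObj P] (eG : G ≅ TwC.const S Z) (hG : TwC.IsConstGrp Z G eG) [Smooth P.hom]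
    (E' : Over (Spec (S.residueField ξ))) [GrpObj E']
    (u' : Red.bc (S.fromSpecResidueField ξ) G ⟶ E') (v' : E' ⟶ Red.bc (S.fromSpecResidueField ξ) P)
    (hex' : NonAbH1.IsExactSeq Scheme.fppfPrecoverage u' v') :
    ∃ (E : Over S) (_ : GrpObj E) (u : G ⟶ E) (v : E ⟶ P)
      (φ : Red.bc (S.fromSpecResidueField ξ) E ≅ E'),
      NonAbH1.IsExactSeq Scheme.fppfPrecoverage u v ∧ IsMonHom φ.hom ∧
        (Over.pullback (S.fromSpecResidueField ξ)).map u ≫ φ.hom = u' ∧
        φ.hom ≫ v' = (Over.pullback (S.fromSpecResidueField ξ)).map v := by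
  obtain ⟨hum, hvm, huv, hpb, hloc⟩ := hex'
  haveI := hum; haveI := hvm
  let i := S.fromSpecResidueField ξ
  obtain ⟨eη, hGη, -⟩ := ConstTorsLib.exists_const_bc i eG hG
  obtain ⟨hvet, hvsep, hvsurj⟩ := ConstTorsLib.etale_and_isSeparated_quot u' v' hloc hpb
    (ExtDescLib.etale_hom eη) (ConstTorsLib.isSeparated_hom eη)
  haveI := hvet; haveI := hvsep; haveI := hvsurj
  let Pη := Red.bc i P
  let act : Z → (E' ⟶ E') := fun z => 𝟙 E' * (toUnit E' ≫ ExtDescLib.piece eη z⁻¹ ≫ u')
  have hactv : ∀ z, act z ≫ v' = v' := fun z => by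
    simp only [act, MonObj.mul_comp, Category.assoc, huv, MonObj.comp_one, _root_.mul_one, Category.id_comp]
  have hactc : ∀ {T : Over _} (x : T ⟶ E') (z : Z), x ≫ act z = x * ((toUnit T ≫ ExtDescLib.piece eη z⁻¹) ≫ u') :=
    fun x z => by
      simp only [act, MonObj.comp_mul, Category.comp_id, ← Category.assoc, comp_toUnit]
  obtain ⟨A⟩ : Nonempty (ConstTorsLib.ZAct v'.left Z) := by
    refine ⟨{
      act := fun z => (act z).left
      act_pi := fun z => by rw [← Over.comp_left, hactv]
      act_one := ?_
      act_mul := fun z w => ?_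
      unique := ?_ }⟩
    · have h : act 1 = 𝟙 E' := by
        simp only [act, inv_one, ExtDescLib.piece_one eη hGη, MonObj.one_comp, MonObj.comp_one, _root_.mul_one]
      rw [h, Over.id_left]
    · have h : act (z * w) = act w ≫ act z := by
        rw [hactc]
        simp only [act, mul_inv_rev, ← ExtDescLib.piece_mul eη hGη, MonObj.mul_comp, MonObj.comp_mul,
          Category.assoc, _root_.mul_assoc]
      rw [h, Over.comp_left]
    · intro K _ a b hab
      let f : Spec (CommRingCat.of K) ⟶ Spec (S.residueField ξ) := a ≫ E'.hom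
      let a' : Over.mk f ⟶ E' := Over.homMk a rfl
      let b' : Over.mk f ⟶ E' := Over.homMk b (by
        show b ≫ E'.hom = a ≫ E'.hom
        rw [← Over.w v', reassoc_of% hab])
      have hab' : a' ≫ v' = b' ≫ v' := Over.OverMorphism.ext hab
      obtain ⟨g, hg, hguniq⟩ := ExtDescLib.exists_ker u' v' hpb a' b' hab'
      obtain ⟨n, hn⟩ := ConstTorsLib.exists_eq_piece eη f g
      refine ⟨n⁻¹, ?_, fun z hz => ?_⟩
      · have h : a' ≫ act n⁻¹ = b' := by rw [hactc, inv_inv, ← hn, hg]
        exact congrArg Over.Hom.left h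
      · have h : a' ≫ act z = b' := Over.OverMorphism.ext hz
        rw [hactc] at h
        have h2 := (hguniq _ h).trans hn
        exact inv_eq_iff_eq_inv.1 (ConstTorsLib.piece_injective eη f h2)
  haveI : Smooth Pη.hom := (MorphismProperty.pullback_snd _ _ inferInstance : Smooth (pullback.snd P.hom i))
  haveI : Smooth E'.hom := by rw [← Over.w v']; infer_instance
  haveI : IrreducibleSpace ↥(Spec (S.residueField ξ)) := inferInstanceAs (IrreducibleSpace (PrimeSpectrum (S.residueField ξ)))
  obtain ⟨g, hg⟩ := ConstTorsLib.exists_section_of_hasGen Pη.hom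
    (ConstTorsLib.exists_greatest_generization
      (ConstTorsLib.isDomain_stalk_of_smooth_valuationRing (V := S.residueField ξ) Pη.hom)) v'.left
    (ConstTorsLib.exists_greatest_generization
      (ConstTorsLib.isDomain_stalk_of_smooth_valuationRing (V := S.residueField ξ) E'.hom)) A hZ
  let s₀ : Pη ⟶ E' := Over.homMk g (by rw [← Over.w v', reassoc_of% hg])
  have hs₀ : s₀ ≫ v' = 𝟙 Pη := Over.OverMorphism.ext hg
  let s' : Pη ⟶ E' := s₀ * (toUnit Pη ≫ η[Pη] ≫ s₀)⁻¹
  have hs' : s' ≫ v' = 𝟙 Pη := by
    simp only [s', MonObj.mul_comp, GrpObj.inv_comp, Category.assoc, hs₀, Category.comp_id, ← Hom.one_def,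
      inv_one, _root_.mul_one]
  have hs1 : η[Pη] ≫ s' = η[E'] := by
    simp only [s', MonObj.comp_mul, GrpObj.comp_inv, ← Category.assoc, comp_toUnit, toUnit_unique (η[Pη] ≫ toUnit Pη) (𝟙 _),
      toUnit_unique (toUnit (𝟙_ (Over (Spec (S.residueField ξ))))) (𝟙 _), Category.id_comp, mul_inv_cancel]
    rw [MonObj.one_eq_one]
  exact ConstTorsLib.exists_extension hS hξ eG u' v' huv hpb s' hs' hs1

end Groth.Agent.S8717
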