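import Groth.Statements.S8718
import Groth.Agent.ExtDescLib.Basic

set_option autoImplicit false
set_option backward.isDefEq.respectTransparency false
universe u
open CategoryTheory CategoryTheory.Limits MonoidalCategory CartesianMonoidalCategory MonObj AlgebraicGeometry
open SGA7

open MonoidalCategory CartesianMonoidalCategory CategoryTheory.Limits
namespace Groth.Agent.S8718

/-- For group schemes over a base scheme S (the representable case on the fppf site): let P and G be
S-group schemes with G commutative, and u : G → E, v : E → P homomorphisms of S-group schemes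
forming a sequence 1 → G → E → P → 1 exact for the fppf topology. Suppose every morphism of
S-schemes P ×_S G → G whose restrictions to P × e_G and to e_P × G are trivial is trivial. Then u(G)
is central in E: for all points g of G and x of E with values in any S-scheme, u(g) x = x u(g). If
moreover P is commutative and every morphism of S-schemes P ×_S P → G trivial on P × e_P and on e_P
× P is trivial, then E is commutative. (The published statement is for sheaves of groups on an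
arbitrary topos; this row is its case of representable sheaves on the fppf site of S. Morphisms to G
form a group; trivial means equal to its unit.) -/
theorem result (S : Scheme.{u})
    (P G E : Over S) [GrpObj P] [GrpObj G] [GrpObj E] [IsCommMonObj G]
    (u : G ⟶ E) (v : E ⟶ P) (hex : NonAbH1.IsExactSeq Scheme.fppfPrecoverage u v)
    (hPG : ∀ f : P ⊗ G ⟶ G, lift (𝟙 P) (toUnit P ≫ η[G]) ≫ f = 1 → lift (toUnit G ≫ η[P]) (𝟙 G) ≫ f = 1 → f = 1) :
    (∀ (T : Over S) (g : T ⟶ G) (x : T ⟶ E), (g ≫ u) * x = x * (g ≫ u)) ∧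
      (IsCommMonObj P →
        (∀ f : P ⊗ P ⟶ G, lift (𝟙 P) (toUnit P ≫ η[P]) ≫ f = 1 → lift (toUnit P ≫ η[P]) (𝟙 P) ≫ f = 1 → f = 1) →
          IsCommMonObj E) := by
  obtain ⟨hum, hvm, huv, hpb, hloc⟩ := hex
  haveI := hum; haveI := hvm
  have hq := ExtDescLib.hasCover_of_locallyTrivial v hloc
  have hone : ∀ {T : Over S} (g : T ⟶ G), (g ≫ u) ≫ v = 1 := fun g => by
    rw [Category.assoc, huv, MonObj.comp_one]
  -- kernel elements
  have hk : ∀ {T : Over S} (b : T ⟶ E), b ≫ v = 1 → ∃ g : T ⟶ G, g ≫ u = b := by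
    intro T b hb
    obtain ⟨g, hg, -⟩ := ExtDescLib.exists_ker u v hpb 1 b (by rw [MonObj.one_comp, hb])
    exact ⟨g, (_root_.one_mul _).symm.trans hg⟩
  have hinj : ∀ {T : Over S} (g g' : T ⟶ G), g ≫ u = g' ≫ u → g = g' := by
    intro T g g' h
    obtain ⟨g₀, -, huniq⟩ := ExtDescLib.exists_ker u v hpb (1 : T ⟶ E) (g ≫ u) (by rw [hone, MonObj.one_comp])
    rw [huniq g (_root_.one_mul _), huniq g' ((_root_.one_mul _).trans h.symm)]
  have hright : ∀ {T : Over S} (a b : T ⟶ E), a ≫ v = b ≫ v → ∃ g : T ⟶ G, a * (g ≫ u) = b := fun a b h =>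
    (ExtDescLib.exists_ker u v hpb a b h).exists
  -- the conjugation defect
  let cj : E ⊗ G ⟶ E := fst E G * (snd E G ≫ u) * (fst E G)⁻¹ * (snd E G ≫ u)⁻¹
  obtain ⟨d₀, hd₀⟩ := hk cj (by
    simp only [cj, MonObj.mul_comp, GrpObj.inv_comp, hone, _root_.mul_one, inv_one, mul_inv_cancel])
  have hd : ∀ {T : Over S} (x : T ⟶ E) (g : T ⟶ G),
      (lift x g ≫ d₀) ≫ u = x * (g ≫ u) * x⁻¹ * (g ≫ u)⁻¹ := fun x g => by
    rw [Category.assoc, hd₀]
    simp only [cj, MonObj.comp_mul, GrpObj.comp_inv, lift_fst, ← Category.assoc, lift_snd]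
  have hGcomm : ∀ {T : Over S} (g g' : T ⟶ G), (g ≫ u) * (g' ≫ u) = (g' ≫ u) * (g ≫ u) := fun g g' => by
    rw [← MonObj.mul_comp, ← MonObj.mul_comp, _root_.mul_comm]
  obtain ⟨c, hc⟩ := ExtDescLib.descend_cover (v ⊗ₘ 𝟙 G) (ExtDescLib.hasCover_tensor v (𝟙 G) hq (ExtDescLib.hasCover_id G)) d₀
    (fun T a b hab => by
      have e1 : (a ≫ fst E G) ≫ v = (b ≫ fst E G) ≫ v := by simpa using congrArg (· ≫ fst P G) hab
      have e2 : a ≫ snd E G = b ≫ snd E G := by simpa using congrArg (· ≫ snd P G) hab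
      obtain ⟨g, hg⟩ := hright _ _ e1
      have hsplit : ∀ z : T ⟶ E ⊗ G, z = lift (z ≫ fst E G) (z ≫ snd E G) := fun z =>
        CartesianMonoidalCategory.hom_ext _ _ (by rw [lift_fst]) (by rw [lift_snd])
      rw [hsplit a, hsplit b, ← e2, ← hg]
      refine hinj _ _ ?_
      rw [hd, hd, mul_inv_rev, _root_.mul_assoc (a ≫ fst E G) (g ≫ u), hGcomm g]
      simp [_root_.mul_assoc])
  have hc1 : c = 1 := by
    refine hPG c ?_ ?_
    · refine ExtDescLib.cancel_cover v hq _ _ ?_
      rw [MonObj.comp_one, ← Category.assoc, comp_lift, Category.comp_id, ← Category.assoc, comp_toUnit,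
        show lift v (toUnit E ≫ η[G]) = lift (𝟙 E) (toUnit E ≫ η[G]) ≫ (v ⊗ₘ 𝟙 G) by
          rw [lift_map, Category.id_comp, Category.comp_id], Category.assoc, hc]
      refine hinj _ _ ?_
      rw [hd, ← Hom.one_def, MonObj.one_comp, inv_one, _root_.mul_one, _root_.mul_one, mul_inv_cancel]
    · rw [show lift (toUnit G ≫ η[P]) (𝟙 G) = lift (toUnit G ≫ η[E]) (𝟙 G) ≫ (v ⊗ₘ 𝟙 G) by
          rw [lift_map, Category.id_comp, Category.assoc, IsMonHom.one_hom], Category.assoc, hc]
      refine hinj _ _ ?_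
      rw [hd, ← Hom.one_def, MonObj.one_comp, inv_one, _root_.one_mul, _root_.mul_one, mul_inv_cancel]
  have hcent : ∀ (T : Over S) (g : T ⟶ G) (x : T ⟶ E), (g ≫ u) * x = x * (g ≫ u) := fun T g x => by
    have h := hd x g
    rw [← hc, hc1, MonObj.comp_one, MonObj.comp_one, MonObj.one_comp] at h
    exact (mul_inv_eq_iff_eq_mul.1 (mul_inv_eq_one.1 h.symm)).symm
  refine ⟨hcent, fun hP hPP => ?_⟩
  -- the commutator
  let cm : E ⊗ E ⟶ E := fst E E * snd E E * (fst E E)⁻¹ * (snd E E)⁻¹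
  obtain ⟨e₀, he₀⟩ := hk cm (by
    simp only [cm, MonObj.mul_comp, GrpObj.inv_comp]
    rw [_root_.mul_comm (fst E E ≫ v), mul_inv_cancel_right, mul_inv_cancel])
  have he : ∀ {T : Over S} (x y : T ⟶ E), (lift x y ≫ e₀) ≫ u = x * y * x⁻¹ * y⁻¹ := fun x y => by
    rw [Category.assoc, he₀]
    simp only [cm, MonObj.comp_mul, GrpObj.comp_inv, lift_fst, lift_snd]
  obtain ⟨c', hc'⟩ := ExtDescLib.descend_cover (v ⊗ₘ v) (ExtDescLib.hasCover_tensor v v hq hq) e₀
    (fun T a b hab => by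
      have e1 : (a ≫ fst E E) ≫ v = (b ≫ fst E E) ≫ v := by simpa using congrArg (· ≫ fst P P) hab
      have e2 : (a ≫ snd E E) ≫ v = (b ≫ snd E E) ≫ v := by simpa using congrArg (· ≫ snd P P) hab
      obtain ⟨g, hg⟩ := hright _ _ e1
      obtain ⟨g', hg'⟩ := hright _ _ e2
      have hsplit : ∀ z : T ⟶ E ⊗ E, z = lift (z ≫ fst E E) (z ≫ snd E E) := fun z =>
        CartesianMonoidalCategory.hom_ext _ _ (by rw [lift_fst]) (by rw [lift_snd])
      rw [hsplit a, hsplit b, ← hg, ← hg']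
      refine hinj _ _ ?_
      rw [he, he]
      set x := a ≫ fst E E
      set y := a ≫ snd E E
      have z1 : ∀ z : T ⟶ E, Commute (g ≫ u) z := fun z => hcent T g z
      have z2 : ∀ z : T ⟶ E, Commute (g' ≫ u) z := fun z => hcent T g' z
      rw [show x * (g ≫ u) * (y * (g' ≫ u)) = x * y * ((g ≫ u) * (g' ≫ u)) by
          rw [_root_.mul_assoc x, ← _root_.mul_assoc (g ≫ u) y, (z1 y).eq]; simp [_root_.mul_assoc],
        mul_inv_rev, mul_inv_rev]
      symm
      calc x * y * ((g ≫ u) * (g' ≫ u)) * ((g ≫ u)⁻¹ * x⁻¹) * ((g' ≫ u)⁻¹ * y⁻¹)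
          = x * y * ((g' ≫ u) * x⁻¹) * ((g' ≫ u)⁻¹ * y⁻¹) := by
            rw [(z1 (g' ≫ u)).eq]; simp [_root_.mul_assoc]
        _ = x * y * x⁻¹ * y⁻¹ := by
            rw [(z2 x⁻¹).eq]; simp [_root_.mul_assoc])
  have hc'1 : c' = 1 := by
    refine hPP c' ?_ ?_
    · refine ExtDescLib.cancel_cover v hq _ _ ?_
      rw [MonObj.comp_one, ← Category.assoc, comp_lift, Category.comp_id, ← Category.assoc, comp_toUnit,
        show lift v (toUnit E ≫ η[P]) = lift (𝟙 E) (toUnit E ≫ η[E]) ≫ (v ⊗ₘ v) by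
          rw [lift_map, Category.id_comp, Category.assoc, IsMonHom.one_hom], Category.assoc, hc']
      refine hinj _ _ ?_
      rw [he, ← Hom.one_def, MonObj.one_comp, inv_one, _root_.mul_one, _root_.mul_one, mul_inv_cancel]
    · refine ExtDescLib.cancel_cover v hq _ _ ?_
      rw [MonObj.comp_one, ← Category.assoc, comp_lift, Category.comp_id, ← Category.assoc, comp_toUnit,
        show lift (toUnit E ≫ η[P]) v = lift (toUnit E ≫ η[E]) (𝟙 E) ≫ (v ⊗ₘ v) by
          rw [lift_map, Category.id_comp, Category.assoc, IsMonHom.one_hom], Category.assoc, hc']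
      refine hinj _ _ ?_
      rw [he, ← Hom.one_def, MonObj.one_comp, inv_one, _root_.one_mul, _root_.mul_one, mul_inv_cancel]
  refine (isCommMonObj_iff_isMulCommutative E).2 fun T => ⟨⟨fun x y => ?_⟩⟩
  have h := he x y
  rw [← hc', hc'1, MonObj.comp_one, MonObj.comp_one, MonObj.one_comp] at h
  exact mul_inv_eq_iff_eq_mul.1 (mul_inv_eq_one.1 h.symm)

end Groth.Agent.S8718
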