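import Groth.Statements.S8720
import Groth.Agent.LangQLib.Field

set_option autoImplicit false
universe u
open VanCyc

namespace Groth.Agent.S8720

/-- The formal computation carried out in its proof: let k be a field of characteristic 2, m a natural
number, and f a power series over k in the variables x_0 and x_i, x_i' (i = 1, ..., m) whose terms
of degree less than 3 are exactly those of x_0^2 + x_1 x_1' + ... + x_m x_m'. Then the ideal
generated by f and all its partial derivatives is the ideal generated by x_0^2 and the x_i, x_i',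
and the quotient of the power series ring by this ideal is two-dimensional over k. (Characteristic 2
is what makes the derivative in x_0 lose its linear term.) -/
theorem result (k : Type u) [Field k] [CharP k 2] (m : ℕ)
    (f : MvPowerSeries (Option (Fin m ⊕ Fin m)) k)
    (hf : ∀ d : Option (Fin m ⊕ Fin m) →₀ ℕ, d.degree < 3 →
      MvPowerSeries.coeff d f = MvPowerSeries.coeff d
        (MvPowerSeries.X none ^ 2 +
          ∑ i : Fin m, MvPowerSeries.X (some (Sum.inl i)) * MvPowerSeries.X (some (Sum.inr i)))) :
    Ideal.span ({f} ∪ Set.range fun i : Option (Fin m ⊕ Fin m) => MvPowerSeries.pderiv k i f) =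
      Ideal.span ({MvPowerSeries.X none ^ 2} ∪
        Set.range fun j : Fin m ⊕ Fin m => (MvPowerSeries.X (some j) : MvPowerSeries (Option (Fin m ⊕ Fin m)) k)) ∧
    Module.finrank k (MvPowerSeries (Option (Fin m ⊕ Fin m)) k ⧸
      Ideal.span ({MvPowerSeries.X none ^ 2} ∪
        Set.range fun j : Fin m ⊕ Fin m => (MvPowerSeries.X (some j) : MvPowerSeries (Option (Fin m ⊕ Fin m)) k))) = 2 := by
  classical
  set z : (Option (Fin m ⊕ Fin m)) →₀ ℕ := Finsupp.single none 1
  let J : Ideal (MvPowerSeries (Option (Fin m ⊕ Fin m)) k) :=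
    Ideal.span ({MvPowerSeries.X none ^ 2} ∪ Set.range fun j : Fin m ⊕ Fin m => (MvPowerSeries.X (some j) : (MvPowerSeries (Option (Fin m ⊕ Fin m)) k)))
  let S : Ideal (MvPowerSeries (Option (Fin m ⊕ Fin m)) k) := Ideal.span ({f} ∪ Set.range fun i : (Option (Fin m ⊕ Fin m)) => MvPowerSeries.pderiv k i f)
  change S = J ∧ Module.finrank k ((MvPowerSeries (Option (Fin m ⊕ Fin m)) k) ⧸ J) = 2
  have hmax : ∀ g : (MvPowerSeries (Option (Fin m ⊕ Fin m)) k), MvPowerSeries.constantCoeff g = 0 → g ∈ IsLocalRing.maximalIdeal (MvPowerSeries (Option (Fin m ⊕ Fin m)) k) := fun g hg => by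
    rw [IsLocalRing.mem_maximalIdeal, mem_nonunits_iff, MvPowerSeries.isUnit_iff_constantCoeff,
      isUnit_iff_ne_zero, not_not]
    exact hg
  -- the quotient of a series by one variable, on a given support
  let D : (Option (Fin m ⊕ Fin m)) → (MvPowerSeries (Option (Fin m ⊕ Fin m)) k) → (MvPowerSeries (Option (Fin m ⊕ Fin m)) k) := fun s g e => MvPowerSeries.coeff (e + Finsupp.single s 1) g
  have hD : ∀ (s : (Option (Fin m ⊕ Fin m))) (g : (MvPowerSeries (Option (Fin m ⊕ Fin m)) k)) (e : (Option (Fin m ⊕ Fin m)) →₀ ℕ), MvPowerSeries.coeff e (MvPowerSeries.X s * D s g) =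
      if e s = 0 then 0 else MvPowerSeries.coeff e g := by
    intro s g e
    rw [MvPowerSeries.X_def, MvPowerSeries.coeff_monomial_mul, one_mul]
    by_cases h : e s = 0
    · rw [if_pos h, if_neg fun hle => by simpa [h] using hle s]
    · rw [if_neg h, if_pos (by simpa using Nat.one_le_iff_ne_zero.2 h)]
      show MvPowerSeries.coeff (e - _ + _) g = _
      rw [tsub_add_cancel_of_le (by simpa using Nat.one_le_iff_ne_zero.2 h)]
  have split : ∀ (K : Ideal (MvPowerSeries (Option (Fin m ⊕ Fin m)) k)) (T : Finset (Fin m ⊕ Fin m)) (g : (MvPowerSeries (Option (Fin m ⊕ Fin m)) k)),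
      (∀ e : (Option (Fin m ⊕ Fin m)) →₀ ℕ, (∀ j ∈ T, e (some j) = 0) → MvPowerSeries.coeff e g = 0) →
      (∀ (j) (D' : (MvPowerSeries (Option (Fin m ⊕ Fin m)) k)), MvPowerSeries.constantCoeff D' = MvPowerSeries.coeff (Finsupp.single (some j) 1) g →
        MvPowerSeries.X (some j) * D' ∈ K) → g ∈ K := by
    intro K T
    induction T using Finset.induction_on with
    | empty =>
      intro g h _
      rw [show g = 0 from MvPowerSeries.ext fun e => h e (by simp)]
      exact K.zero_mem
    | insert j T hj ih =>
      intro g h hK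
      have hd : MvPowerSeries.X (some j) * D (some j) g ∈ K := hK j _ (by
        rw [← MvPowerSeries.coeff_zero_eq_constantCoeff_apply]
        show MvPowerSeries.coeff (0 + _) g = _
        rw [zero_add])
      have hc : ∀ e : (Option (Fin m ⊕ Fin m)) →₀ ℕ, MvPowerSeries.coeff e (g - MvPowerSeries.X (some j) * D (some j) g) =
          if e (some j) = 0 then MvPowerSeries.coeff e g else 0 := fun e => by
        rw [map_sub, hD]
        split_ifs <;> simp
      rw [show g = MvPowerSeries.X (some j) * D (some j) g + (g - MvPowerSeries.X (some j) * D (some j) g) by ring]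
      refine K.add_mem hd (ih _ (fun e he => ?_) fun j' D' hD' => ?_)
      · rw [hc]
        split_ifs with h0
        · exact h e (Finset.forall_mem_insert _ _ _ |>.2 ⟨h0, he⟩)
        · rfl
      · by_cases hjj : j' = j
        · subst hjj
          rw [hc, if_neg (by simp)] at hD'
          have h1 := hK j' (D (some j') g + D') (by
            rw [map_add, hD', add_zero, ← MvPowerSeries.coeff_zero_eq_constantCoeff_apply]
            show MvPowerSeries.coeff (0 + _) g = _
            rw [zero_add])
          rw [mul_add] at h1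
          simpa using K.sub_mem h1 hd
        · refine hK j' D' ?_
          rw [hD', hc, if_pos (by rw [Finsupp.single_eq_of_ne]; simpa [eq_comm] using hjj)]
  -- decomposition
  have decomp : ∀ (K : Ideal (MvPowerSeries (Option (Fin m ⊕ Fin m)) k)) (g : (MvPowerSeries (Option (Fin m ⊕ Fin m)) k)), MvPowerSeries.constantCoeff g = 0 → MvPowerSeries.coeff z g = 0 →
      (∀ u : (MvPowerSeries (Option (Fin m ⊕ Fin m)) k), MvPowerSeries.constantCoeff u = MvPowerSeries.coeff (Finsupp.single none 2) g →
        MvPowerSeries.X none ^ 2 * u ∈ K) →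
      (∀ (j) (D' : (MvPowerSeries (Option (Fin m ⊕ Fin m)) k)), MvPowerSeries.constantCoeff D' = MvPowerSeries.coeff (Finsupp.single (some j) 1) g →
        MvPowerSeries.X (some j) * D' ∈ K) → g ∈ K := by
    intro K g h0 hz hK2 hKj
    let u : (MvPowerSeries (Option (Fin m ⊕ Fin m)) k) := fun e => if ∀ j, e (some j) = 0 then MvPowerSeries.coeff (e + Finsupp.single none 2) g else 0
    have hu : MvPowerSeries.constantCoeff u = MvPowerSeries.coeff (Finsupp.single none 2) g := by
      rw [← MvPowerSeries.coeff_zero_eq_constantCoeff_apply]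
      show (if _ then _ else _) = _
      rw [if_pos (by simp), zero_add]
    have h2 := hK2 u hu
    have hco : ∀ e : (Option (Fin m ⊕ Fin m)) →₀ ℕ, MvPowerSeries.coeff e (MvPowerSeries.X none ^ 2 * u) =
        if 2 ≤ e none ∧ ∀ j, e (some j) = 0 then MvPowerSeries.coeff e g else 0 := by
      intro e
      rw [MvPowerSeries.X_pow_eq, MvPowerSeries.coeff_monomial_mul, one_mul]
      by_cases h : 2 ≤ e none
      · have hle : Finsupp.single none 2 ≤ e := by simpa using h
        rw [if_pos hle]
        show (if _ then _ else _) = _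
        rw [tsub_add_cancel_of_le hle]
        exact if_congr ⟨fun hh => ⟨h, fun j => by simpa using hh j⟩, fun hh j => by simpa using hh.2 j⟩ rfl rfl
      · rw [if_neg (by simpa using h), if_neg fun hh => h hh.1]
    rw [show g = MvPowerSeries.X none ^ 2 * u + (g - MvPowerSeries.X none ^ 2 * u) by ring]
    refine K.add_mem h2 (split K Finset.univ _ (fun e he => ?_) fun j D' hD' => hKj j D' ?_)
    · have he' : ∀ j, e (some j) = 0 := fun j => he j (Finset.mem_univ j)
      rw [map_sub, hco]
      by_cases h : 2 ≤ e none
      · rw [if_pos ⟨h, he'⟩, sub_self]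
      · rw [if_neg fun hh => h hh.1, sub_zero]
        have hes : e = Finsupp.single none (e none) := Finsupp.ext fun i => by
          rcases i with _ | j
          · simp
          · simp [he' j]
        rcases (show e none = 0 ∨ e none = 1 by omega) with h1 | h1
        · rw [hes, h1, Finsupp.single_zero, MvPowerSeries.coeff_zero_eq_constantCoeff_apply]
          exact h0
        · rw [hes, h1]
          exact hz
    · rw [hD', map_sub, hco, if_neg (by simp), sub_zero]
  have hJm : ∀ j, (MvPowerSeries.X (some j) : (MvPowerSeries (Option (Fin m ⊕ Fin m)) k)) ∈ J := fun j => Ideal.subset_span (Or.inr ⟨j, rfl⟩)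
  have hJz : (MvPowerSeries.X none ^ 2 : (MvPowerSeries (Option (Fin m ⊕ Fin m)) k)) ∈ J := Ideal.subset_span (Or.inl rfl)
  have hJ : ∀ g : (MvPowerSeries (Option (Fin m ⊕ Fin m)) k), MvPowerSeries.constantCoeff g = 0 → MvPowerSeries.coeff z g = 0 → g ∈ J := fun g h0 h1 =>
    decomp J g h0 h1 (fun u _ => Ideal.mul_mem_right _ _ hJz) fun j D' _ => Ideal.mul_mem_right _ _ (hJm j)
  have hmJ : ∀ g : (MvPowerSeries (Option (Fin m ⊕ Fin m)) k), MvPowerSeries.constantCoeff g = 0 → MvPowerSeries.coeff z g = 0 →
      MvPowerSeries.coeff (Finsupp.single none 2) g = 0 →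
      (∀ j, MvPowerSeries.coeff (Finsupp.single (some j) 1) g = 0) → g ∈ IsLocalRing.maximalIdeal (MvPowerSeries (Option (Fin m ⊕ Fin m)) k) * J :=
    fun g h0 h1 h2 h3 => decomp _ g h0 h1
      (fun u hu => by rw [mul_comm (MvPowerSeries.X none ^ 2) u]; exact Ideal.mul_mem_mul (hmax _ (hu.trans h2)) hJz)
      fun j D' hD' => by rw [mul_comm (MvPowerSeries.X (some j)) D']; exact Ideal.mul_mem_mul (hmax _ (hD'.trans (h3 j))) (hJm j)
  have hJ0 : ∀ g ∈ J, MvPowerSeries.constantCoeff g = 0 ∧ MvPowerSeries.coeff z g = 0 := by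
    let K : Ideal (MvPowerSeries (Option (Fin m ⊕ Fin m)) k) :=
      { carrier := {g | MvPowerSeries.constantCoeff g = 0 ∧ MvPowerSeries.coeff z g = 0}
        zero_mem' := by simp
        add_mem' := fun ha hb => ⟨by simp [ha.1, hb.1], by simp [ha.2, hb.2]⟩
        smul_mem' := fun c g hg => ⟨by simp [hg.1], by
          show MvPowerSeries.coeff z (c * g) = 0
          rw [MvPowerSeries.coeff_mul]
          refine Finset.sum_eq_zero fun x hx => ?_
          rw [Finset.HasAntidiagonal.mem_antidiagonal] at hx
          have hle : x.2 ≤ z := hx ▸ le_add_self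
          have hs : x.2 = 0 ∨ x.2 = z := by
            have h0 := hle none
            have hsome : ∀ j, x.2 (some j) = 0 := fun j => by simpa [z] using hle (some j)
            rcases (show x.2 none = 0 ∨ x.2 none = 1 by simp [z] at h0; omega) with h | h
            · exact Or.inl (Finsupp.ext fun i => by rcases i with _ | j <;> simp [h, hsome])
            · exact Or.inr (Finsupp.ext fun i => by rcases i with _ | j <;> simp [z, h, hsome])
          rcases hs with h | h
          · rw [h, MvPowerSeries.coeff_zero_eq_constantCoeff_apply, hg.1, mul_zero]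
          · rw [h, hg.2, mul_zero]⟩ }
    intro g hg
    refine (Ideal.span_le (I := K)).2 ?_ hg
    rintro _ (rfl | ⟨j, rfl⟩)
    · refine ⟨by simp, ?_⟩
      rw [MvPowerSeries.coeff_X_pow, if_neg]
      intro h
      simpa [z] using DFunLike.congr_fun h none
    · refine ⟨MvPowerSeries.constantCoeff_X _, ?_⟩
      rw [MvPowerSeries.coeff_X, if_neg]
      intro h
      simpa [z] using DFunLike.congr_fun h none
  -- low coefficients of the series
  have hq : ∀ d : (Option (Fin m ⊕ Fin m)) →₀ ℕ, d.degree < 3 → MvPowerSeries.coeff d f =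
      (if d = Finsupp.single none 2 then 1 else 0) +
        ∑ i : Fin m, if d = Finsupp.single (some (Sum.inl i)) 1 + Finsupp.single (some (Sum.inr i)) 1 then 1 else 0 := by
    intro d hd
    rw [hf d hd, map_add, map_sum, MvPowerSeries.coeff_X_pow]
    refine congrArg _ (Finset.sum_congr rfl fun i _ => ?_)
    rw [MvPowerSeries.X_def, MvPowerSeries.X_def, MvPowerSeries.monomial_mul_monomial, mul_one, MvPowerSeries.coeff_monomial]
  have hf1 : ∀ s, MvPowerSeries.coeff (Finsupp.single s 1) f = 0 := by
    intro s
    rw [hq _ (by simp), if_neg, zero_add]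
    · refine Finset.sum_eq_zero fun i _ => if_neg fun h => ?_
      have := congrArg Finsupp.degree h
      simp at this
    · intro h
      have := congrArg Finsupp.degree h
      simp at this
  have hf0 : MvPowerSeries.constantCoeff f = 0 := by
    rw [← MvPowerSeries.coeff_zero_eq_constantCoeff_apply, hq 0 (by simp), if_neg, zero_add]
    · refine Finset.sum_eq_zero fun i _ => if_neg fun h => ?_
      have := congrArg Finsupp.degree h
      simp at this
    · intro h
      have := congrArg Finsupp.degree h
      simp at this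
  have hpair : ∀ (i : Fin m) (s t : (Option (Fin m ⊕ Fin m))), MvPowerSeries.coeff (Finsupp.single s 1 + Finsupp.single t 1) f =
      (if Finsupp.single s 1 + Finsupp.single t 1 = Finsupp.single none 2 then 1 else 0) +
        ∑ i : Fin m, if Finsupp.single s 1 + Finsupp.single t 1 =
          Finsupp.single (some (Sum.inl i)) 1 + Finsupp.single (some (Sum.inr i)) 1 then 1 else 0 :=
    fun _ s t => hq _ (by simp)
  have hd0 : ∀ s, MvPowerSeries.constantCoeff (MvPowerSeries.pderiv k s f) = 0 := fun s => by
    rw [← MvPowerSeries.coeff_zero_eq_constantCoeff_apply, MvPowerSeries.coeff_pderiv, zero_add, hf1, zero_mul]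
  have hdz : ∀ s, MvPowerSeries.coeff z (MvPowerSeries.pderiv k s f) = 0 := by
    intro s
    rw [MvPowerSeries.coeff_pderiv]
    rcases s with _ | j
    · simp [z, one_add_one_eq_two, CharTwo.two_eq_zero]
    · rw [hq _ (by simp [z]), if_neg, zero_add, Finset.sum_eq_zero, zero_mul]
      · intro i _
        refine if_neg fun h => ?_
        simpa [z] using DFunLike.congr_fun h none
      · intro h
        simpa [z] using DFunLike.congr_fun h (some j)
  have hSJ : S ≤ J := by
    refine Ideal.span_le.2 ?_
    rintro _ (rfl | ⟨s, rfl⟩)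
    · exact hJ _ hf0 (hf1 none)
    · exact hJ _ (hd0 s) (hdz s)
  let pr : Fin m ⊕ Fin m → Fin m ⊕ Fin m := Sum.swap
  have hlin : ∀ j l : Fin m ⊕ Fin m,
      MvPowerSeries.coeff (Finsupp.single (some l) 1) (MvPowerSeries.pderiv k (some (pr j)) f) = if j = l then 1 else 0 := by
    intro j l
    rw [MvPowerSeries.coeff_pderiv, hq _ (by simp), if_neg (fun h => by
      simpa using DFunLike.congr_fun h (some l)), zero_add]
    have key : ∀ i : Fin m, (Finsupp.single (some l) 1 + Finsupp.single (some (pr j)) 1 : (Option (Fin m ⊕ Fin m)) →₀ ℕ) =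
        Finsupp.single (some (Sum.inl i)) 1 + Finsupp.single (some (Sum.inr i)) 1 ↔
          (l = Sum.inl i ∧ j = Sum.inl i) ∨ (l = Sum.inr i ∧ j = Sum.inr i) := by
      intro i
      rw [Finsupp.single_add_single_eq_single_add_single one_ne_zero one_ne_zero]
      rcases l with l | l <;> rcases j with j | j <;> simp [pr]
    simp only [key]
    rcases l with l | l <;> rcases j with j | j <;> simp [pr, ite_and] <;> split_ifs <;> simp_all
  refine ⟨le_antisymm hSJ ?_, ?_⟩
  · refine Submodule.le_of_le_smul_of_le_jacobson_bot (Submodule.fg_span (Set.toFinite _))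
      (IsLocalRing.jacobson_eq_maximalIdeal ⊥ bot_ne_top).ge ?_
    rw [smul_eq_mul]
    refine Ideal.span_le.2 ?_
    have hz2 : MvPowerSeries.X none ^ 2 ∈ S ⊔ IsLocalRing.maximalIdeal (MvPowerSeries (Option (Fin m ⊕ Fin m)) k) * J := by
      refine Submodule.mem_sup.2 ⟨f, Ideal.subset_span (Or.inl rfl), MvPowerSeries.X none ^ 2 - f, ?_, add_sub_cancel _ _⟩
      refine hmJ _ ?_ ?_ ?_ fun j => ?_
      · simp [hf0]
      · rw [map_sub, hf1 none, sub_zero, MvPowerSeries.coeff_X_pow, if_neg]
        intro h
        simpa [z] using DFunLike.congr_fun h none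
      · rw [map_sub, hq _ (by simp), MvPowerSeries.coeff_X_pow, if_pos rfl, Finset.sum_eq_zero, add_zero, sub_self]
        intro i _
        exact if_neg fun h => by simpa using DFunLike.congr_fun h none
      · rw [map_sub, hf1, sub_zero, MvPowerSeries.coeff_X_pow, if_neg]
        intro h
        simpa using DFunLike.congr_fun h none
    rintro _ (rfl | ⟨j, rfl⟩)
    · exact hz2
    · set c := MvPowerSeries.coeff (Finsupp.single none 2) (MvPowerSeries.pderiv k (some (pr j)) f) with hc
      have h : (MvPowerSeries.X (some j) : (MvPowerSeries (Option (Fin m ⊕ Fin m)) k)) - MvPowerSeries.pderiv k (some (pr j)) f + MvPowerSeries.C c * MvPowerSeries.X none ^ 2 ∈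
          IsLocalRing.maximalIdeal (MvPowerSeries (Option (Fin m ⊕ Fin m)) k) * J := by
        refine hmJ _ ?_ ?_ ?_ fun l => ?_
        · simp [hd0]
        · rw [map_add, map_sub, hdz, sub_zero, MvPowerSeries.coeff_C_mul, MvPowerSeries.coeff_X, MvPowerSeries.coeff_X_pow,
            if_neg, if_neg, mul_zero, add_zero] <;>
          · intro h
            simpa [z] using DFunLike.congr_fun h none
        · rw [map_add, map_sub, ← hc, MvPowerSeries.coeff_C_mul, MvPowerSeries.coeff_X, MvPowerSeries.coeff_X_pow,
            if_neg (fun h => by simpa using DFunLike.congr_fun h none), if_pos rfl, mul_one]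
          ring
        · rw [map_add, map_sub, hlin, MvPowerSeries.coeff_C_mul, MvPowerSeries.coeff_X, MvPowerSeries.coeff_X_pow,
            if_neg (c := Finsupp.single (some l) 1 = Finsupp.single none 2) (fun h => by simpa using DFunLike.congr_fun h none),
            mul_zero, add_zero, sub_eq_zero]
          exact if_congr (by simp [Finsupp.single_left_inj, eq_comm]) rfl rfl
      show MvPowerSeries.X (some j) ∈ _
      rw [show (MvPowerSeries.X (some j) : (MvPowerSeries (Option (Fin m ⊕ Fin m)) k)) = MvPowerSeries.pderiv k (some (pr j)) f +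
        ((MvPowerSeries.X (some j) - MvPowerSeries.pderiv k (some (pr j)) f + MvPowerSeries.C c * MvPowerSeries.X none ^ 2) -
          MvPowerSeries.C c * MvPowerSeries.X none ^ 2) by ring]
      exact add_mem (Ideal.mem_sup_left (Ideal.subset_span (Or.inr ⟨_, rfl⟩)))
        (sub_mem (Ideal.mem_sup_right h) (Ideal.mul_mem_left _ _ hz2))
  · let L : (MvPowerSeries (Option (Fin m ⊕ Fin m)) k) →ₗ[k] k × k :=
      { toFun := fun g => (MvPowerSeries.constantCoeff g, MvPowerSeries.coeff z g)
        map_add' := fun a b => by simp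
        map_smul' := fun c a => by
          refine Prod.ext ?_ ?_
          · simp
          · exact map_smul (MvPowerSeries.coeff z) c a }
    have hL : Function.Surjective L := by
      rintro ⟨a, b⟩
      refine ⟨MvPowerSeries.C a + MvPowerSeries.C b * MvPowerSeries.X none, Prod.ext (by simp [L]) ?_⟩
      show MvPowerSeries.coeff z _ = b
      rw [map_add, MvPowerSeries.coeff_C, if_neg (by simp [z]), zero_add, MvPowerSeries.coeff_C_mul, MvPowerSeries.coeff_X,
        if_pos rfl, mul_one]
    have hker : LinearMap.ker L = J.restrictScalars k := by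
      ext g
      rw [LinearMap.mem_ker, Submodule.restrictScalars_mem]
      exact ⟨fun h => hJ g (congrArg Prod.fst h) (congrArg Prod.snd h), fun h => Prod.ext (hJ0 g h).1 (hJ0 g h).2⟩
    have e1 := ((Submodule.quotEquivOfEq _ _ hker.symm).trans (L.quotKerEquivOfSurjective hL)).finrank_eq
    rw [Module.finrank_prod, Module.finrank_self] at e1
    exact ((Submodule.Quotient.restrictScalarsEquiv k J).symm).finrank_eq.trans e1

end Groth.Agent.S8720
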