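import Groth.Statements.S8721
import Mathlib
import Mathlib
import Groth.Agent.QLinearLang
-- import your own Groth.Agent.* helpers here

set_option autoImplicit false
universe u v
open SGA7II

namespace Groth.Agent.S8721

/-- Let k be a separably closed field of characteristic p > 0, q = p^r with r >= 1, V a
finite-dimensional k-vector space and phi : V -> V additive with phi(c v) = c^q phi(v). Let V_ss be
the intersection, over n >= 1, of the k-subspaces spanned by the images of the iterates phi^n (the
semisimple part of V). Then V_ss has a k-basis consisting of phi-fixed vectors, and every phi-fixed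
vector of V is a linear combination of this basis with coefficients c satisfying c^q = c; that is,
V_ss is obtained from the F_q-space of fixed vectors by extension of scalars. -/
theorem result (k : Type u) [Field k] [IsSepClosed k] (p : ℕ)
    [Fact p.Prime] [CharP k p] (r : ℕ) (hr : 0 < r) (V : Type v) [AddCommGroup V] [Module k V]
    [FiniteDimensional k V] (φ : V →+ V) (hφ : ∀ (c : k) (v : V), φ (c • v) = c ^ (p ^ r) • φ v) :
    let Vss : Submodule k V := ⨅ n : ℕ, Submodule.span k (Set.range (φ^[n + 1]))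
    ∃ b : Module.Basis (Fin (Module.finrank k ↥Vss)) k ↥Vss, (∀ i, φ (b i : V) = (b i : V)) ∧
      ∀ v : V, φ v = v → ∃ c : Fin (Module.finrank k ↥Vss) → k,
        (∀ i, c i ^ (p ^ r) = c i) ∧ v = ∑ i, c i • (b i : V) := by
  classical
  intro Vss
  have hiter : ∀ (n : ℕ) (c : k) (v : V), φ^[n] (c • v) = c ^ (p ^ r) ^ n • φ^[n] v := by
    intro n
    induction n with
    | zero => intro c v; simp
    | succ n ih => intro c v; rw [Function.iterate_succ_apply', ih, hφ, Function.iterate_succ_apply', ← pow_mul, ← pow_succ]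
  let S : ℕ → Submodule k V := fun n => Submodule.span k (Set.range φ^[n + 1])
  have hanti : ∀ n, S (n + 1) ≤ S n := fun n => Submodule.span_mono (by rintro _ ⟨a, rfl⟩; exact ⟨φ a, rfl⟩)
  obtain ⟨N, hN⟩ := IsArtinian.monotone_stabilizes (R := k) (M := V)
    ⟨fun n => OrderDual.toDual (S n), monotone_nat_of_le_succ fun n => hanti n⟩
  have hN' : ∀ m, N ≤ m → S m = S N := fun m hm => (hN m hm).symm
  have hV : Vss = S N := by
    refine le_antisymm (iInf_le _ N) (le_iInf fun n => ?_)
    rcases le_total N n with h | h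
    · exact (hN' n h).ge
    · exact antitone_nat_of_succ_le hanti h
  have hmap : ∀ n, ∀ x ∈ S n, φ x ∈ S (n + 1) := fun n x hx => by
    induction hx using Submodule.span_induction with
    | mem y hy => obtain ⟨a, rfl⟩ := hy; exact Submodule.subset_span ⟨a, Function.iterate_succ_apply' φ (n + 1) a⟩
    | zero => simp
    | add x y _ _ hx hy => rw [map_add]; exact Submodule.add_mem _ hx hy
    | smul c x _ hx => rw [hφ]; exact Submodule.smul_mem _ _ hx
  have hW : ∀ x ∈ Vss, φ x ∈ Vss := fun x hx => by
    rw [hV] at hx ⊢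
    rw [← hN' (N + 1) (Nat.le_succ N)]
    exact hmap N x hx
  let ψ : Vss →+ Vss :=
    { toFun := fun x => ⟨φ x.1, hW x.1 x.2⟩
      map_zero' := Subtype.ext (map_zero φ)
      map_add' := fun a b => Subtype.ext (map_add φ _ _) }
  have hψ : ∀ (c : k) (x : Vss), ψ (c • x) = c ^ p ^ r • ψ x := fun c x => Subtype.ext (hφ c x.1)
  have hss : Submodule.span k (Set.range ψ) = ⊤ := by
    apply Submodule.map_injective_of_injective Vss.injective_subtype
    rw [Submodule.map_span, Submodule.map_top, Submodule.range_subtype]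
    refine le_antisymm (Submodule.span_le.2 ?_) ?_
    · rintro _ ⟨_, ⟨x, rfl⟩, rfl⟩; exact (ψ x).2
    · intro z hz
      have hz' : z ∈ S (N + 1) := by rw [hN' (N + 1) (Nat.le_succ N)]; exact hV.le hz
      revert hz'
      refine fun hz' => Submodule.span_le.2 ?_ hz'
      rintro _ ⟨a, rfl⟩
      refine Submodule.subset_span ⟨ψ ⟨φ^[N + 1] a, by rw [hV]; exact Submodule.subset_span ⟨a, rfl⟩⟩, ⟨_, rfl⟩, ?_⟩
      exact (Function.iterate_succ_apply' φ (N + 1) a).symm
  obtain ⟨b, hb⟩ := Groth.Agent.QLinearLang.exists_basis ψ hψ hr hss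
  refine ⟨b, fun i => congrArg Subtype.val (hb i), fun v hv => ?_⟩
  have hvV : v ∈ Vss := by
    rw [hV]
    exact Submodule.subset_span ⟨v, Function.iterate_fixed hv _⟩
  refine ⟨fun i => b.repr ⟨v, hvV⟩ i, fun i => ?_, ?_⟩
  · have h : ψ ⟨v, hvV⟩ = ∑ j, (b.repr ⟨v, hvV⟩ j) ^ p ^ r • b j := by
      conv_lhs => rw [← b.sum_repr ⟨v, hvV⟩]
      rw [map_sum]
      exact Finset.sum_congr rfl fun j _ => by rw [hψ, hb]
    have h2 : ψ ⟨v, hvV⟩ = ⟨v, hvV⟩ := Subtype.ext hv
    rw [h2] at h
    have h3 := congrArg (fun z => b.repr z i) h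
    simp only [b.repr_sum_self] at h3
    exact h3.symm
  · have h := congrArg Subtype.val (b.sum_repr ⟨v, hvV⟩)
    rw [AddSubmonoidClass.coe_finsetSum] at h
    simp only [Submodule.coe_smul] at h
    exact h.symm

end Groth.Agent.S8721
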