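import Groth.Statements.S8722
import Mathlib
import Mathlib
import Groth.Agent.QLinearLang
-- import your own Groth.Agent.* helpers here

set_option autoImplicit false
universe u v
open SGA7II

namespace Groth.Agent.S8722

/-- Let k be a separably closed field of characteristic p > 0, q = p^r with r >= 1, V a
finite-dimensional k-vector space and phi : V -> V additive with phi(c v) = c^q phi(v), semisimple
in the sense that its image spans V. Then for n >= 1 the fixed vectors of the n-th iterate of phi
are exactly the finite linear combinations of phi-fixed vectors with coefficients c satisfying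
c^(q^n) = c; that is, the fixed space of phi^n is obtained from the F_q-space of phi-fixed vectors
by extending scalars to F_{q^n}. -/
theorem result (k : Type u) [Field k] [IsSepClosed k] (p : ℕ)
    [Fact p.Prime] [CharP k p] (r : ℕ) (hr : 0 < r) (V : Type v) [AddCommGroup V] [Module k V]
    [FiniteDimensional k V] (φ : V →+ V) (hφ : ∀ (c : k) (v : V), φ (c • v) = c ^ (p ^ r) • φ v)
    (hss : Submodule.span k (Set.range φ) = ⊤) (n : ℕ) (hn : 0 < n) (v : V) :
    φ^[n] v = v ↔ ∃ (s : Finset V) (c : V → k), (∀ w ∈ s, φ w = w) ∧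
      (∀ w ∈ s, c w ^ ((p ^ r) ^ n) = c w) ∧ v = ∑ w ∈ s, c w • w := by
  classical
  have key : ∀ (m : ℕ) (c : k) (w : V), φ w = w → φ^[m] (c • w) = (c ^ (p ^ r) ^ m) • w := by
    intro m c w hw
    induction m with
    | zero => simp
    | succ m ih => rw [Function.iterate_succ_apply', ih, hφ, hw, ← pow_mul, ← pow_succ]
  constructor
  · intro hv
    obtain ⟨b, hb⟩ := Groth.Agent.QLinearLang.exists_basis φ hφ hr hss
    let e : V → k := fun w => if h : ∃ i, b i = w then b.repr v h.choose else 0
    have he : ∀ i, e (b i) = b.repr v i := fun i => by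
      have h : ∃ j, b j = b i := ⟨i, rfl⟩
      simp only [e, dif_pos h, b.injective h.choose_spec]
    have hiter : φ^[n] v = ∑ i, (b.repr v i ^ (p ^ r) ^ n) • b i := by
      conv_lhs => rw [← b.sum_repr v]
      refine (map_sum (AddMonoidHom.mk' (φ^[n]) (iterate_map_add φ n)) _ _).trans ?_
      refine Finset.sum_congr rfl fun i _ => ?_
      exact key n _ _ (hb i)
    refine ⟨Finset.univ.image b, e, ?_, ?_, ?_⟩
    · intro w hw; obtain ⟨i, -, rfl⟩ := Finset.mem_image.1 hw; exact hb i
    · intro w hw
      obtain ⟨i, -, rfl⟩ := Finset.mem_image.1 hw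
      rw [he]
      conv_rhs => rw [← hv, hiter, b.repr_sum_self]
    · rw [Finset.sum_image fun i _ j _ h => b.injective h]
      simp only [he, b.sum_repr]
  · rintro ⟨s, c, hs, hc, rfl⟩
    refine (map_sum (AddMonoidHom.mk' (φ^[n]) (iterate_map_add φ n)) _ _).trans ?_
    refine Finset.sum_congr rfl fun w hw => ?_
    show φ^[n] _ = _
    rw [key n _ _ (hs w hw), hc w hw]

end Groth.Agent.S8722
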