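import Groth.Statements.S8723
import Groth.Agent.VertChiLib.Geom
import Groth.Agent.VertChiLib.CompExists
import Groth.Agent.VertChiLib.Chain
import Groth.Agent.DiagTorLib.Mult
-- import your own Groth.Agent.* helpers here

set_option autoImplicit false
universe u
open CategoryTheory CategoryTheory.Limits AlgebraicGeometry
open ArSurf

set_option backward.isDefEq.respectTransparency false
set_option maxHeartbeats 800000

namespace Groth.Agent.S8723

/-- Length of a quotient by the kernel of a surjection. -/
theorem length_of_ker {A B : Type u} [CommRing A] [CommRing B] (φ : A →+* B) (hs : Function.Surjective φ) :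
    Module.length B B = Module.length A (A ⧸ RingHom.ker φ) := by
  letI := φ.toAlgebra
  rw [← Module.length_eq_of_surjective (R := B) (S := A) (M := B) hs]
  exact (Ideal.quotientKerAlgEquivOfSurjective (f := Algebra.ofId A B) hs).toLinearEquiv.length_eq.symm

/-- Multiplicities of components divide those of flat covers of the closed fibre. -/
theorem mult_dvd {R : Type u} [CommRing R] [IsDomain R] [IsDiscreteValuationRing R]
    {X : Over (Spec (CommRingCat.of R))} [IsProper X.hom] {n : ℕ} {Γ : Fin n → ArSurf.VertComp R X}
    (hΓ : Models.IsComponentList R X Γ) {P : Scheme.{u}} (ι : P ⟶ X.left) [IsClosedImmersion ι]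
    (hker : ι.ker = Models.specialFibreIdeal R X) {Q : Scheme.{u}} (π : Q ⟶ P) [Flat π] (x : Q)
    (hx : ∀ y, y ⤳ x → y = x) :
    ∃ i, Models.mult R X (Γ i) ∣ (Module.length (Q.presheaf.stalk x) (Q.presheaf.stalk x)).toNat := by
  have hmem : ∀ p : P, X.hom (ι p) = IsLocalRing.closedPoint R := fun p => by
    refine (VertIntLib.mem_support_fibre_iff (ι p)).1 ?_
    rw [← hker, ← SetLike.mem_coe, Scheme.Hom.support_ker]
    exact subset_closure ⟨p, rfl⟩
  have hg : VertIntLib.IsFibGen (ι (π x)) := fun w hw hsp => by
    have hw' : w ∈ Set.range ι := by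
      have h : w ∈ (ι.ker.support : Set X.left) := by
        rw [hker]; exact (VertIntLib.mem_support_fibre_iff w).2 hw
      rwa [Scheme.Hom.support_ker, ι.isClosedEmbedding.isClosed_range.closure_eq] at h
    obtain ⟨y, rfl⟩ := hw'
    obtain ⟨x', hx', rfl⟩ := (Flat.generalizingMap π) ((ι.isEmbedding.isInducing.specializes_iff).1 hsp)
    rw [hx x' hx']
  obtain ⟨i, hi⟩ := VertIntLib.eq_genPt_of_isFibGen hΓ (hmem (π x)) hg
  refine ⟨i, dvd_trans (dvd_of_eq ?_) (VertChiLib.toNat_dvd_of_flat π x)⟩
  obtain ⟨ϖ, hϖ'⟩ := IsDiscreteValuationRing.exists_irreducible R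
  have hk : RingHom.ker (ι.stalkMap (π x)).hom =
      Ideal.map (Models.stalkHom R X (ι (π x))) (IsLocalRing.maximalIdeal R) := by
    rw [← DiagTorLib.stalkIdeal_ker ι (π x), hker, VertIntLib.stalkIdeal_fibre _ hϖ'.maximalIdeal_eq,
      hϖ'.maximalIdeal_eq, Ideal.map_span, Set.image_singleton]
  have he : Module.length (P.presheaf.stalk (π x)) (P.presheaf.stalk (π x)) =
      Module.length (X.left.presheaf.stalk (ι (π x))) (X.left.presheaf.stalk (ι (π x)) ⧸
        Ideal.map (Models.stalkHom R X (ι (π x))) (IsLocalRing.maximalIdeal R)) := by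
    rw [← hk]
    exact length_of_ker (ι.stalkMap (π x)).hom (ι.stalkMap_surjective (π x))
  rw [he, Models.mult, hi]

/-- Let R be a discrete valuation ring with residue field k and X an integral regular scheme of Krull
dimension 2, proper and flat over Spec R by f (a regular proper flat model whose fibres are curves).
Write X_s for the special fibre and X_sbar for its base change to an algebraic closure of k. Assume
that X_s is geometrically connected (its base change to every field extension of k is connected) and
that the multiplicities of the irreducible components of X_sbar, i.e. the lengths of the local rings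
of X_sbar at its maximal points, have greatest common divisor 1 (no prime divides all of them). Then
the canonical map k -> H^0(X_s, O_{X_s}) is bijective (X is cohomologically flat over R in degree
0). -/
theorem result (R : Type u) [CommRing R] [IsDomain R]
    [IsDiscreteValuationRing R] {X : Scheme.{u}} (f : X ⟶ Spec (CommRingCat.of R)) [IsProper f] [Flat f]
    [IsIntegral X] (hreg : ∀ x : X, IsRegularLocalRing (X.presheaf.stalk x))
    (hdim : topologicalKrullDim X = 2)
    (hconn : ∀ (K : Type u) [Field K] [Algebra (IsLocalRing.ResidueField R) K],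
      ConnectedSpace ↥(pullback f (Spec.map (CommRingCat.ofHom
        ((algebraMap (IsLocalRing.ResidueField R) K).comp (IsLocalRing.residue R))))))
    (hd : letI Xb := pullback f (Spec.map (CommRingCat.ofHom
        ((algebraMap (IsLocalRing.ResidueField R) (AlgebraicClosure (IsLocalRing.ResidueField R))).comp
          (IsLocalRing.residue R))))
      ∀ ℓ : ℕ, ℓ.Prime → ∃ x : ↥Xb, (∀ y : ↥Xb, y ⤳ x → y = x) ∧
        ¬ (ℓ ∣ (Module.length (Xb.presheaf.stalk x) (Xb.presheaf.stalk x)).toNat)) :
    Function.Bijective
      (pullback.snd f (Spec.map (CommRingCat.ofHom (IsLocalRing.residue R)))).appTop.hom := by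
  classical
  let κ := IsLocalRing.ResidueField R
  let K := AlgebraicClosure κ
  let X' := Over.mk f
  haveI : IsProper X'.hom := ‹IsProper f›
  haveI : Flat X'.hom := ‹Flat f›
  haveI : IsIntegral X'.left := ‹IsIntegral X›
  haveI : IsLocallyNoetherian X'.left := LocallyOfFiniteType.isLocallyNoetherian X'.hom
  let r : Spec (CommRingCat.of κ) ⟶ Spec (CommRingCat.of R) := Spec.map (CommRingCat.ofHom (IsLocalRing.residue R))
  haveI : IsClosedImmersion r := IsClosedImmersion.spec_of_surjective _ IsLocalRing.residue_surjective
  let q := pullback.snd f r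
  have hker : (pullback.fst f r).ker = Models.specialFibreIdeal R X' := by
    rw [← VertChiLib.comap_ker, VertChiLib.ker_specMap, IsLocalRing.ker_residue]
    rfl
  haveI : ConnectedSpace ↥(pullback f r) := hconn κ
  have hpre : _root_.IsPreconnected (Models.specialFibreSet R X') := by
    have h : Set.range (pullback.fst f r) = Models.specialFibreSet R X' := by
      ext z
      show z ∈ Set.range (pullback.fst f r) ↔ X'.hom z = IsLocalRing.closedPoint R
      rw [← VertIntLib.mem_support_fibre_iff (X := X') z, ← hker, ← SetLike.mem_coe, Scheme.Hom.support_ker]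
      exact Set.ext_iff.1 (pullback.fst f r).isClosedEmbedding.isClosed_range.closure_eq.symm z
    rw [← h]
    exact _root_.isPreconnected_range (pullback.fst f r).continuous
  obtain ⟨n, Γ, hΓ⟩ := VertChiLib.exists_list_of_dim_two (X := X') hdim
  obtain ⟨i₀⟩ := VertChiLib.exists_index (X := X') hΓ
  let sK : Spec (CommRingCat.of K) ⟶ Spec (CommRingCat.of κ) := Spec.map (CommRingCat.ofHom (algebraMap κ K))
  let rK : Spec (CommRingCat.of K) ⟶ Spec (CommRingCat.of R) :=
    Spec.map (CommRingCat.ofHom ((algebraMap κ K).comp (IsLocalRing.residue R)))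
  have hrK : rK = sK ≫ r := by
    show Spec.map _ = Spec.map _ ≫ Spec.map _
    rw [← Spec.map_comp]; rfl
  haveI : ConnectedSpace ↥(pullback f rK) := hconn K
  let π : pullback f rK ⟶ pullback f r :=
    pullback.lift (pullback.fst f rK) (pullback.snd f rK ≫ sK) (by rw [Category.assoc, ← hrK]; exact pullback.condition)
  have hPb : IsPullback π (pullback.snd f rK) q sK := by
    refine IsPullback.of_right ?_ (pullback.lift_snd _ _ _) (IsPullback.of_hasPullback f r)
    rw [pullback.lift_fst, ← hrK]
    exact IsPullback.of_hasPullback f rK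
  haveI : Flat sK := inferInstance
  haveI : Flat π := MorphismProperty.of_isPullback (P := @Flat) hPb.flip inferInstance
  have hgcd : Models.multGcd R X' Γ = 1 := by
    by_contra hne
    obtain ⟨ℓ, hℓ, hdvd⟩ := Nat.exists_prime_and_dvd hne
    obtain ⟨x, hx, hxl⟩ := hd ℓ hℓ
    obtain ⟨i, hi⟩ := mult_dvd hΓ (pullback.fst f r) hker π x hx
    exact hxl (dvd_trans (dvd_trans hdvd (Finset.gcd_dvd (Finset.mem_univ i))) hi)
  have hK := VertChiLib.isField_Dv (X := X') hreg hΓ hpre i₀
  have hfin := VertChiLib.finite_gρ (X := X')
    (VertChiLib.fin1_J (VertChiLib.isEffCartier_list (X := X') hreg hΓ) (VertChiLib.Dv Γ))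
  have hDv : VertChiLib.J Γ (VertChiLib.Dv Γ) = (pullback.fst f r).ker := by
    rw [hker, VertIntLib.specialFibreIdeal_eq (X := X') hreg hΓ, VertChiLib.J]
    exact Finset.prod_congr rfl fun i _ => by rw [VertChiLib.Dv, hgcd, Nat.div_one]
  rw [hDv] at hK hfin
  let e := (asIso (pullback.fst f r).toImage.appTop).commRingCatIsoToRingEquiv
  have hK' : IsField Γ(pullback f r, ⊤) := e.symm.toMulEquiv.isField hK
  have hfin' : (VertIntLib.gρ q).Finite := by
    refine RingHom.Finite.of_comp_finite (f := IsLocalRing.residue R) ?_
    have he : (VertIntLib.gρ q).comp (IsLocalRing.residue R) =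
        e.toRingHom.comp (VertIntLib.gρ ((pullback.fst f r).ker.subschemeι ≫ X'.hom)) := by
      ext x
      have h1 : q ≫ r = (pullback.fst f r).toImage ≫ (pullback.fst f r).ker.subschemeι ≫ X'.hom := by
        rw [← Category.assoc]
        erw [Scheme.Hom.toImage_imageι]
        exact pullback.condition.symm
      refine (NodalLib.toGlobal_comp_specMap' q (CommRingCat.ofHom (IsLocalRing.residue R)) x).symm.trans ?_
      show VertIntLib.gρ (q ≫ r) x = _
      rw [h1, VertIntLib.gρ_comp]
      rfl
    rw [he]
    exact RingHom.Finite.comp (RingHom.Finite.of_surjective _ e.surjective) hfin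
  haveI : Nonempty ↥(pullback f r) := ConnectedSpace.toNonempty
  have hb := VertChiLib.bijective_of_geom_gcd q hK' hfin' hPb (fun ℓ hℓ => by
    obtain ⟨x, -, hx⟩ := hd ℓ hℓ
    exact ⟨x, hx⟩)
  let eS := (Scheme.ΓSpecIso (CommRingCat.of κ)).commRingCatIsoToRingEquiv
  have heq : ⇑q.appTop.hom = ⇑(VertIntLib.gρ q) ∘ ⇑eS := funext fun y => by
    show q.appTop.hom y = q.appTop.hom ((Scheme.ΓSpecIso (CommRingCat.of κ)).inv.hom
      ((Scheme.ΓSpecIso (CommRingCat.of κ)).hom.hom y))
    rw [CategoryTheory.Iso.hom_inv_id_apply]
  show Function.Bijective q.appTop.hom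
  rw [heq]
  exact hb.comp eS.bijective

end Groth.Agent.S8723
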