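import Groth.Statements.S8735
import Groth.Agent.HomotPullLib.Main
-- import your own Groth.Agent.* helpers here

set_option autoImplicit false
universe u
open CategoryTheory CategoryTheory.Limits AlgebraicGeometry
open VanCyc

namespace Groth.Agent.S8735
open CategoryTheory.Limits


/-- Let k be an algebraically closed field, U and V schemes over k, T a connected k-scheme of finite
type with two k-rational points t₀, t₁ (sections of T -> Spec k), and H : U ×_k T -> V a morphism;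
let f₀ = H ∘ s₀ and f₁ = H ∘ s₁ where s_e : U -> U ×_k T is the slice u ↦ (u, t_e). Then for every
prime ℓ invertible in k and all i, ν ≥ 0 the two pullback maps H^i(V_et, Z/ℓ^ν) -> H^i(U_et, Z/ℓ^ν)
along f₀ and f₁ are equal. (The published lemma allows arbitrary k-schemes U and a complex of
sheaves on V with a map to the pulled-back coefficients; this row takes U quasi-compact and
quasi-separated over k and constant coefficients Z/ℓ^ν. Exactness of the inverse image functors is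
supplied by the instance arguments.) -/
theorem result (k : Type u) [Field k] [IsAlgClosed k]
    {U V T : Scheme.{u}} (pU : U ⟶ Spec (CommRingCat.of k)) (pV : V ⟶ Spec (CommRingCat.of k))
    (pT : T ⟶ Spec (CommRingCat.of k)) [QuasiCompact pU] [QuasiSeparated pU]
    [LocallyOfFiniteType pT] [QuasiCompact pT] [ConnectedSpace ↥T]
    (t₀ t₁ : Spec (CommRingCat.of k) ⟶ T) (ht₀ : t₀ ≫ pT = 𝟙 _) (ht₁ : t₁ ≫ pT = 𝟙 _)
    (H : pullback pU pT ⟶ V) (hH : H ≫ pV = pullback.fst pU pT ≫ pU)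
    (s₀ s₁ : U ⟶ pullback pU pT)
    (hs₀ : s₀ ≫ pullback.fst pU pT = 𝟙 U) (hs₀' : s₀ ≫ pullback.snd pU pT = pU ≫ t₀)
    (hs₁ : s₁ ≫ pullback.fst pU pT = 𝟙 U) (hs₁' : s₁ ≫ pullback.snd pU pT = pU ≫ t₁)
    (ℓ : ℕ) [Fact ℓ.Prime] (hℓ : (ℓ : k) ≠ 0) (i ν : ℕ)
    [h₀ : PreservesFiniteLimits (EtCoh.pull (s₀ ≫ H))] [h₁ : PreservesFiniteLimits (EtCoh.pull (s₁ ≫ H))] :
    EtAdic.Hmap ℓ (s₀ ≫ H) h₀ i ν = EtAdic.Hmap ℓ (s₁ ≫ H) h₁ i ν := by
  haveI : IsLocallyNoetherian T := LocallyOfFiniteType.isLocallyNoetherian pT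
  haveI : CompactSpace T := QuasiCompact.compactSpace_of_compactSpace pT
  refine AddMonoidHom.ext fun x => ?_
  exact HomotPullLib.cPull_eq_of_homotopic pU pT hℓ ν H t₀ t₁ ht₀ ht₁ s₀ s₁ hs₀ hs₀' hs₁ hs₁' x


end Groth.Agent.S8735
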