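import Groth.Statements.S8738
import Mathlib

set_option autoImplicit false
universe u
open SGA7II

namespace Groth.Agent.S8738
open PowerSeries

section exp

variable {k : Type u} [Field k] [CharZero k] {A : Type u} [CommRing A] [Algebra k A] (D : Derivation k A A)

omit [CharZero k] in
/-- Apply the derivation to each coefficient. -/
noncomputable def delta (f : PowerSeries A) : PowerSeries A := PowerSeries.mk fun n => D (coeff n f)

omit [CharZero k] in
theorem delta_mul (f g : PowerSeries A) : delta D (f * g) = delta D f * g + f * delta D g := by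
  ext n
  simp only [delta, coeff_mk, map_add, coeff_mul, map_sum, ← Finset.sum_add_distrib]
  refine Finset.sum_congr rfl fun p _ => ?_
  rw [D.leibniz, smul_eq_mul, smul_eq_mul]
  ring

/-- The exponential of a derivation. -/
noncomputable def expD (a : A) : PowerSeries A :=
  PowerSeries.mk fun n => algebraMap k A ((n.factorial : k)⁻¹) * D^[n] a

theorem coeff_zero_expD (a : A) : coeff 0 (expD D a) = a := by simp [expD]

theorem coeff_succ_eq (f : PowerSeries A) (hf : delta D f = PowerSeries.derivative A f) (n : ℕ) :
    coeff (n + 1) f = algebraMap k A (((n + 1 : ℕ) : k)⁻¹) * D (coeff n f) := by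
  have h := congrArg (coeff n) hf
  rw [delta, coeff_mk, PowerSeries.coeff_derivative] at h
  have hone : algebraMap k A (((n + 1 : ℕ) : k)⁻¹) * ((n : A) + 1) = 1 := by
    rw [show ((n : A) + 1) = algebraMap k A ((n + 1 : ℕ) : k) by simp, ← map_mul,
      inv_mul_cancel₀ (Nat.cast_ne_zero.2 (Nat.succ_ne_zero n)), map_one]
  rw [h]
  linear_combination -(coeff (n + 1) f) * hone

theorem delta_expD (a : A) : delta D (expD D a) = PowerSeries.derivative A (expD D a) := by
  ext n
  rw [delta, coeff_mk, PowerSeries.coeff_derivative, expD, coeff_mk, coeff_mk, Function.iterate_succ_apply']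
  rw [D.leibniz, D.map_algebraMap, smul_zero, add_zero, smul_eq_mul]
  have hf : ((n.factorial : k)⁻¹) = ((n + 1).factorial : k)⁻¹ * ((n + 1 : ℕ) : k) := by
    rw [Nat.factorial_succ, Nat.cast_mul, mul_inv, mul_comm ((n + 1 : ℕ) : k)⁻¹, mul_assoc,
      inv_mul_cancel₀ (Nat.cast_ne_zero.2 (Nat.succ_ne_zero n)), mul_one]
  rw [hf, map_mul, map_natCast]
  push_cast
  ring

theorem eq_expD (f : PowerSeries A) (a : A) (hf : delta D f = PowerSeries.derivative A f)
    (h0 : coeff 0 f = a) : f = expD D a := by
  ext n
  induction n with
  | zero => rw [h0, coeff_zero_expD]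
  | succ n ih => rw [coeff_succ_eq D f hf, coeff_succ_eq D _ (delta_expD D a), ih]

theorem expD_mul (a b : A) : expD D (a * b) = expD D a * expD D b := by
  refine (eq_expD D _ _ ?_ ?_).symm
  · rw [delta_mul, delta_expD, delta_expD, Derivation.leibniz, smul_eq_mul, smul_eq_mul]
    ring
  · rw [coeff_zero_eq_constantCoeff_apply, map_mul]
    simp [expD]

theorem expD_one : expD D 1 = 1 := by
  refine (eq_expD D _ _ ?_ (by simp)).symm
  ext n
  rw [delta, coeff_mk, coeff_one, Derivation.map_one_eq_zero]
  split_ifs <;> simp

/-- The exponential as a ring map. -/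
noncomputable def expHom : A →+* PowerSeries A where
  toFun := expD D
  map_one' := expD_one D
  map_mul' := expD_mul D
  map_zero' := by ext n; simp [expD, iterate_map_zero]
  map_add' a b := by ext n; simp [expD, iterate_map_add, mul_add]

theorem expHom_algebraMap (c : k) : expHom D (algebraMap k A c) = PowerSeries.C (algebraMap k A c) := by
  refine (eq_expD D _ _ ?_ (by simp)).symm
  ext n
  simp only [delta, coeff_mk, coeff_C]
  rw [PowerSeries.coeff_derivative, coeff_C, if_neg (Nat.succ_ne_zero n), zero_mul]
  split_ifs <;> simp

end exp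

section almost

variable {A K : Type u} [CommRing A] [CommRing K] [Algebra A K]

/-- Powers with a common unit denominator. -/
theorem isIntegral_of_smul_pow [IsNoetherianRing A] (y : K) (u : A) (hu : IsUnit (algebraMap A K u))
    (h : ∀ n : ℕ, algebraMap A K u * y ^ n ∈ (algebraMap A K).range) : IsIntegral A y := by
  refine IsIntegral.of_mem_of_fg (Algebra.adjoin A {y}) ?_ y (Algebra.subset_adjoin rfl)
  have hle : Subalgebra.toSubmodule (Algebra.adjoin A {y}) ≤
      Submodule.span A {((hu.unit⁻¹ : Kˣ) : K)} := by
    rw [Algebra.adjoin_eq_span, Submonoid.closure_singleton_eq, MonoidHom.coe_mrange, Submodule.span_le]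
    rintro _ ⟨n, rfl⟩
    obtain ⟨r, hr⟩ := h (Multiplicative.toAdd n)
    refine Submodule.mem_span_singleton.2 ⟨r, ?_⟩
    show r • _ = y ^ (Multiplicative.toAdd n)
    rw [Algebra.smul_def, hr, mul_right_comm, IsUnit.mul_val_inv, one_mul]
  haveI : IsNoetherian A ↥(Submodule.span A {((hu.unit⁻¹ : Kˣ) : K)}) :=
    isNoetherian_of_fg_of_noetherian _ (Submodule.fg_span_singleton _)
  haveI : IsNoetherian A ↥(Subalgebra.toSubmodule (Algebra.adjoin A {y})) := isNoetherian_of_le hle
  exact Module.Finite.iff_fg.1 inferInstance

end almost


/-- Let k be a field of characteristic zero and A a reduced Noetherian local k-algebra of Krull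
dimension one, essentially of finite type over k (the local ring of a reduced curve over k at one of
its points), and let A' be the integral closure of A in its total ring of fractions (the
normalization). Then every k-derivation D of A extends to a k-derivation D' of A', i.e. D' agrees
with D on the image of A. -/
theorem result (k : Type u) [Field k] [CharZero k] (A : Type u) [CommRing A]
    [Algebra k A] [IsReduced A] [IsNoetherianRing A] [IsLocalRing A] [Algebra.EssFiniteType k A]
    (hdim : ringKrullDim A = 1) (D : Derivation k A A) :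
    ∃ D' : Derivation k ↥(integralClosure A (FractionRing A)) ↥(integralClosure A (FractionRing A)),
      ∀ a : A, (D' (algebraMap A ↥(integralClosure A (FractionRing A)) a) : FractionRing A) =
        algebraMap A (FractionRing A) (D a) := by
  classical
  let K := FractionRing A
  let ι : PowerSeries A →+* PowerSeries K := PowerSeries.map (algebraMap A K)
  let φ : A →+* PowerSeries K := ι.comp (expHom D)
  have hφ0 : ∀ a : A, constantCoeff (φ a) = algebraMap A K a := fun a => by
    show constantCoeff (PowerSeries.map (algebraMap A K) (expD D a)) = _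
    rw [← coeff_zero_eq_constantCoeff_apply, PowerSeries.coeff_map, coeff_zero_expD]
  have hunit : ∀ s : nonZeroDivisors A, IsUnit (φ s) := fun s => by
    rw [PowerSeries.isUnit_iff_constantCoeff, hφ0]
    exact IsLocalization.map_units K s
  let ψ : K →+* PowerSeries K := IsLocalization.lift hunit
  have hψA : ∀ a : A, ψ (algebraMap A K a) = φ a := fun a => IsLocalization.lift_eq hunit a
  have hψ0 : ∀ x : K, constantCoeff (ψ x) = x := fun x => by
    have : (constantCoeff (R := K)).comp ψ = RingHom.id K :=
      IsLocalization.ringHom_ext (nonZeroDivisors A) (RingHom.ext fun a => by simp [hψA, hφ0])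
    exact RingHom.congr_fun this x
  let DK : K → K := fun x => coeff 1 (ψ x)
  have hDK : ∀ a : A, DK (algebraMap A K a) = algebraMap A K (D a) := fun a => by
    show coeff 1 (ψ (algebraMap A K a)) = _
    rw [hψA]
    show coeff 1 (PowerSeries.map (algebraMap A K) (expD D a)) = _
    simp [PowerSeries.coeff_map, expD]
  have hint : ∀ x : K, IsIntegral A x → IsIntegral A (DK x) := by
    intro x hx
    obtain ⟨a, s, rfl⟩ := IsLocalization.exists_mk'_eq (nonZeroDivisors A) x
    obtain ⟨p, hp, hpx⟩ := hx
    set x := IsLocalization.mk' K a s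
    set m := p.natDegree
    let d : PowerSeries A := expHom D s ^ m
    have hlow : ∀ j ≤ m, ι d * ψ x ^ j ∈ ι.range := by
      intro j hj
      refine ⟨expHom D s ^ (m - j) * expHom D a ^ j, ?_⟩
      have e : ψ x * ι (expHom D s) = ι (expHom D a) := by
        show ψ x * φ s = φ a
        rw [← hψA, ← hψA, ← map_mul, IsLocalization.mk'_spec]
      rw [map_mul, map_pow, map_pow, ← e, mul_pow, map_pow, mul_comm (ψ x ^ j), ← mul_assoc, ← pow_add,
        Nat.sub_add_cancel hj]
    have hall : ∀ n, ι d * ψ x ^ n ∈ ι.range := by
      intro n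
      induction n using Nat.strong_induction_on with
      | _ n ih =>
        rcases le_or_gt n m with hn | hn
        · exact hlow n hn
        · have h0 := congrArg ψ hpx
          rw [map_zero, Polynomial.eval₂_eq_sum_range, map_sum, Finset.sum_range_succ, hp.coeff_natDegree, map_one,
            one_mul, map_pow] at h0
          have h1 : ψ x ^ n = - ∑ i ∈ Finset.range m, φ (p.coeff i) * ψ x ^ (i + (n - m)) := by
            have h2 : ψ x ^ n = ψ x ^ m * ψ x ^ (n - m) := by rw [← pow_add, Nat.add_sub_cancel' hn.le]
            rw [h2, eq_neg_of_add_eq_zero_right h0, neg_mul, Finset.sum_mul]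
            refine congrArg Neg.neg (Finset.sum_congr rfl fun i _ => ?_)
            rw [map_mul, map_pow, hψA, mul_assoc, ← pow_add]
          rw [h1, mul_neg, Finset.mul_sum]
          refine neg_mem (sum_mem fun i hi => ?_)
          rw [← mul_assoc, mul_comm (ι d), mul_assoc]
          exact mul_mem ⟨_, rfl⟩ (ih _ (by have := Finset.mem_range.1 hi; omega))
    let s' : A := (s : A) ^ m
    have hx0 : ∀ n, algebraMap A K s' * x ^ n ∈ (algebraMap A K).range := fun n => by
      obtain ⟨r, hr⟩ := hall n
      refine ⟨constantCoeff r, ?_⟩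
      have := congrArg (constantCoeff (R := K)) hr
      simp only [ι, d, map_mul, map_pow, hψ0] at this
      rw [← coeff_zero_eq_constantCoeff_apply, PowerSeries.coeff_map, coeff_zero_eq_constantCoeff_apply] at this
      refine this.trans ?_
      congr 1
      rw [map_pow]
      congr 1
      exact hφ0 s
    let h' : PowerSeries K := PowerSeries.mk fun i => coeff (i + 1) (ψ x)
    have hdec : ψ x = PowerSeries.C x + PowerSeries.X * h' := by
      conv_lhs => rw [eq_X_mul_shift_add_const (ψ x), hψ0]
      rw [add_comm]
    have hmem : ∀ n, ι (d * PowerSeries.C s') * (PowerSeries.X * h') ^ n ∈ ι.range := by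
      intro n
      rw [show PowerSeries.X * h' = ψ x + (-PowerSeries.C x) by rw [hdec]; ring, add_pow, Finset.mul_sum]
      refine sum_mem fun j _ => ?_
      rw [show ι (d * PowerSeries.C s') * (ψ x ^ j * (-PowerSeries.C x) ^ (n - j) * (n.choose j : PowerSeries K)) =
        (ι d * ψ x ^ j) * ((-1) ^ (n - j) * (PowerSeries.C (algebraMap A K s' * x ^ (n - j))) *
          (n.choose j : PowerSeries K)) by
          rw [map_mul, neg_pow (PowerSeries.C x), show ι (PowerSeries.C s') = PowerSeries.C (algebraMap A K s') from
            PowerSeries.map_C _ _, map_mul PowerSeries.C, map_pow PowerSeries.C]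
          ring]
      refine mul_mem (hall j) (mul_mem (mul_mem (pow_mem (neg_mem (one_mem _)) _) ?_) (natCast_mem _ _))
      obtain ⟨r, hr⟩ := hx0 (n - j)
      exact ⟨PowerSeries.C r, by rw [← hr]; exact PowerSeries.map_C _ _⟩
    refine isIntegral_of_smul_pow (DK x) (s' * s') ((map_mul (algebraMap A K) s' s').symm ▸ ?_) fun n => ?_
    · rw [map_pow]
      exact ((IsLocalization.map_units K s).pow m).mul ((IsLocalization.map_units K s).pow m)
    · obtain ⟨r, hr⟩ := hmem n
      refine ⟨coeff n r, ?_⟩
      have := congrArg (coeff n) hr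
      rw [PowerSeries.coeff_map, mul_pow, mul_left_comm, coeff_X_pow_mul', if_pos le_rfl, Nat.sub_self,
        coeff_zero_eq_constantCoeff_apply, map_mul, map_mul, map_mul, map_pow] at this
      refine this.trans ?_
      rw [map_mul]
      congr 1
      · congr 1
        · show constantCoeff (ι (expHom D s) ^ m) = algebraMap A K ((s : A) ^ m)
          rw [map_pow, map_pow]
          exact congrArg (· ^ m) (hφ0 s)
      · congr 1
        rw [← coeff_zero_eq_constantCoeff_apply]
        simp [h', DK]
  have hadd : ∀ x y, DK (x + y) = DK x + DK y := fun x y => by simp [DK]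
  have hleib : ∀ x y, DK (x * y) = x * DK y + y * DK x := fun x y => by
    show coeff 1 (ψ (x * y)) = x * coeff 1 (ψ y) + y * coeff 1 (ψ x)
    rw [map_mul, PowerSeries.coeff_one_mul, hψ0, hψ0]
    ring
  let L : ↥(integralClosure A K) →ₗ[k] ↥(integralClosure A K) :=
    { toFun := fun x => ⟨DK x, hint x x.2⟩
      map_add' := fun x y => Subtype.ext (hadd _ _)
      map_smul' := fun c x => Subtype.ext (by
        show DK (c • (x : K)) = c • DK x
        rw [Algebra.smul_def, hleib, IsScalarTower.algebraMap_apply k A K, hDK, D.map_algebraMap, map_zero, mul_zero,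
          add_zero, ← IsScalarTower.algebraMap_apply, ← Algebra.smul_def]) }
  exact ⟨Derivation.mk' L fun x y => Subtype.ext (hleib _ _), fun a => hDK a⟩
end Groth.Agent.S8738
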