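import Groth.Statements.S8747
import Groth.Agent.AdeqLib.Extension
-- import your own Groth.Agent.* helpers here

set_option autoImplicit false
universe u
open CategoryTheory Limits
open Adeq

namespace Groth.Agent.S8747

/-- A short exact sequence `0 → underline(M) → G → L → 0` of module-valued functors on `A`-algebras with
`L` linearly adequate splits, and `G` is adequate. -/
theorem result (A : Type u) [CommRing A]
    (S : ShortComplex (Adeq.MVF A)) (hS : S.ShortExact) (M : ModuleCat.{u + 1} A)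
    (e : S.X₁ ≅ (Adeq.underline A).obj M) (hL : Adeq.linAdequate A S.X₃) :
    Nonempty S.Splitting ∧ Adeq.adequate A S.X₂ := by
  obtain ⟨P, P', φ₀, hP, hP', hN, hN', ⟨e₃⟩⟩ := hL
  have hf := (AdeqLib.mono_iff S.f).1 hS.mono_f
  have hg := (AdeqLib.epi_iff S.g).1 hS.epi_g
  have hex := (AdeqLib.exact_iff S).1 hS.exact
  obtain ⟨l, hl⟩ := AdeqLib.exists_lift_of_finite φ₀ (e.inv ≫ S.f) S.g
    (fun B x y h => by
      have h1 := congrArg (AdeqLib.ap e.hom B) (hf B (show AdeqLib.ap S.f B (AdeqLib.ap e.inv B x) =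
        AdeqLib.ap S.f B (AdeqLib.ap e.inv B y) from h))
      rwa [← AdeqLib.ap_comp e.inv, ← AdeqLib.ap_comp e.inv, e.inv_hom_id] at h1)
    (fun B x => by rw [← AdeqLib.ap_comp, Category.assoc, S.zero, comp_zero, AdeqLib.ap_zero])
    (fun B x hx => by
      obtain ⟨y, rfl⟩ := hex B x hx
      refine ⟨AdeqLib.ap e.hom B y, ?_⟩
      rw [← AdeqLib.ap_comp e.hom, e.hom_inv_id_assoc])
    hg e₃.inv
  have := hS.mono_f
  let sp : S.Splitting := ShortComplex.Splitting.ofExactOfSection S hS.exact (e₃.hom ≫ l)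
    (by rw [Category.assoc, hl, e₃.hom_inv_id]) hS.mono_f
  refine ⟨⟨sp⟩, AdeqLib.adequate_of_split φ₀ (e.inv ≫ S.f) (S.g ≫ e₃.hom) (e₃.inv ≫ sp.s) (sp.r ≫ e.hom)
    ?_ ?_ ?_ ?_ ?_⟩
  · simp
  · simp
  · simp
  · simp
  · simp [sp.id]

end Groth.Agent.S8747
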