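import Groth.Statements.S8767
import Groth.Agent.AdeqModLib.Parasitic
-- import your own Groth.Agent.* helpers here

set_option autoImplicit false
universe u
open CategoryTheory Limits AlgebraicGeometry
open Adeq

namespace Groth.Agent.S8767

/-- For an adequate `O`-module `M` on the big fppf site of `S` the following are equivalent: `M` is
parasitic; `M` is parasitic for the fppf topology; `M(U) = 0` for every open `U ⊂ S`; `M(U_i) = 0`
for the members of some affine open covering `S = ⋃ U_i`. (The published statement has a fifth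
equivalent condition, the vanishing of the quasi-coherent module obtained by restriction to the
small Zariski site; it is not included here.) -/
theorem result (S : Scheme.{u}) (M : BigSite.Mod Scheme.fppfPrecoverage S)
    (hM : Adeq.adequateMod Scheme.fppfPrecoverage S M) :
    List.TFAE [Adeq.parasitic Scheme.fppfPrecoverage S M, Adeq.parasiticFor Scheme.fppfPrecoverage S M,
      ∀ U : S.Opens, Subsingleton (BigSite.sectMod Scheme.fppfPrecoverage M ((BigSite.zarIncl S).obj U)),
      ∃ (ι : Type u) (U : ι → S.Opens), (∀ i, IsAffineOpen (U i)) ∧ (⨆ i, U i) = ⊤ ∧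
        ∀ i, Subsingleton (BigSite.sectMod Scheme.fppfPrecoverage M ((BigSite.zarIncl S).obj (U i)))] := by
  tfae_have 1 → 2 := fun h P hP V g hg => h _ (hP.2 hg).1
  tfae_have 2 → 3 := fun h U => by
    let Yf : ULift.{u} Bool → Scheme.{u} := fun b => if b.down then (U : Scheme.{u}) else S
    let g : ∀ b, Yf b ⟶ S := fun b => match b with
      | ⟨true⟩ => U.ι
      | ⟨false⟩ => 𝟙 S
    have hP : Presieve.ofArrows Yf g ∈ Scheme.fppfPrecoverage.coverings S := by
      refine (Scheme.ofArrows_mem_precoverage_iff _).2 ⟨fun x => ⟨⟨false⟩, x, rfl⟩, ?_⟩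
      rintro ⟨_ | _⟩
      · exact ⟨inferInstanceAs (Flat (𝟙 S)), inferInstanceAs (LocallyOfFinitePresentation (𝟙 S))⟩
      · exact ⟨inferInstanceAs (Flat U.ι), inferInstanceAs (LocallyOfFinitePresentation U.ι)⟩
    exact h hP U.ι (Presieve.ofArrows.mk (Y := Yf) (f := g) ⟨true⟩)
  tfae_have 3 → 4 := fun h => ⟨S.affineOpens, fun V => V.1, fun V => V.2, iSup_affineOpens_eq_top S, fun V => h V.1⟩
  tfae_have 4 → 1 := fun ⟨ι, W, hW, hcov, h0⟩ => AdeqModLib.parasitic_of_affine_cover M hM W hW hcov h0
  tfae_finish

end Groth.Agent.S8767
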