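import Groth.Statements.S8795
import Groth.Agent.LcAlgLib.Main

set_option autoImplicit false
universe u
open CategoryTheory
attribute [local instance] HasDerivedCategory.standard
open LocCoh

namespace Groth.Agent.S8795

/-- Let (A, m) be a Noetherian local ring which is I-adically complete for an ideal I and has a
dualizing complex; let d be a natural with cd(A, I) ≤ d, M a finite A-module and s a natural. Assume
that every prime p ∉ V(I) with V(p) ∩ V(I) ≠ {m} satisfies depth(M_p) ≥ s or depth(M_p) + dim(A/p) >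
d + s, and that derived I-adic completion (left adjoint to the inclusion of derived complete
objects) exists on D(A). Then there is an ideal J₀ with V(J₀) ∩ V(I) = {m} such that for every ideal
J ⊆ J₀ with V(J) ∩ V(I) = {m} whose total right derived functor RΓ_J exists, the canonical map from
RΓ_J(M) to its derived I-adic completion induces a bijection on cohomology in every degree i ≤ s.
(The identification of that completion with the completion of RΓ_m(M) is not part of this
statement.) -/
theorem result (A : Type u) [CommRing A] [IsNoetherianRing A] [IsLocalRing A] (I : Ideal A) [IsAdicComplete I A] (hdc : ∃ ω : Dual.D A, Dual.IsDualizing A ω) [DRing.HasDerivedCompletion I] (d : ℕ) (hcd : LocCoh.CdLE A I d) (M : Type u) [AddCommGroup M] [Module A M] [Module.Finite A M] (s : ℕ) (h4 : ∀ p : PrimeSpectrum A, ¬ I ≤ p.asIdeal → (∃ r : PrimeSpectrum A, p ≤ r ∧ I ≤ r.asIdeal ∧ r.asIdeal ≠ IsLocalRing.maximalIdeal A) → (s : ℕ∞) ≤ LocCoh.depth (Localization.AtPrime p.asIdeal) (LocalizedModule p.asIdeal.primeCompl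 M) ∨ (((d + s : ℕ) : ℕ∞) : WithBot ℕ∞) < ((LocCoh.depth (Localization.AtPrime p.asIdeal) (LocalizedModule p.asIdeal.primeCompl M) : ℕ∞) : WithBot ℕ∞) + ringKrullDim (A ⧸ p.asIdeal)) : ∃ J₀ : Ideal A, PrimeSpectrum.zeroLocus ((J₀ : Ideal A) : Set A) ∩ PrimeSpectrum.zeroLocus ((I : Ideal A) : Set A) = {IsLocalRing.closedPoint A} ∧ ∀ (J : Ideal A) [DRing.HasRgammaI J], J ≤ J₀ → PrimeSpectrum.zeroLocus ((J : Ideal A) : Set A) ∩ PrimeSpectrum.zeroLocus ((I : Ideal A) : Set A) = {IsLocalRing.closedPoint A} → ∀ i : ℤ, i ≤ s → Function.Bijective ((DerivedCategory.homologyFunctor (ModuleCat.{u} A) i).map (DRing.toDerivedCompletion I ((DRing.RgammaI J).obj (Dual.inD A M)))).hom := by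
  haveI : DRing.HasRgammaI (IsLocalRing.maximalIdeal A) :=
    DerLib.KInjDerived.hasRightDerivedFunctor _ (DerLib.KInjDerived.enoughKInj _)
  let Y := (DRingLib.cF I).obj ((DRing.RgammaI (IsLocalRing.maximalIdeal A)).obj (Dual.inD A M))
  have hIm : I ≤ IsLocalRing.maximalIdeal A := by
    have := IsAdicComplete.le_jacobson_bot I
    rwa [IsLocalRing.jacobson_eq_maximalIdeal ⊥ bot_ne_top] at this
  refine ⟨LcAlgLib.torsIdeal (s : ℤ) Y ⊓ IsLocalRing.maximalIdeal A, ?_, ?_⟩
  · ext r
    constructor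
    · rintro ⟨h1, h2⟩
      refine PrimeSpectrum.ext ?_
      rcases (Ideal.IsPrime.inf_le r.isPrime).1 h1 with h | h
      · exact LcAlgLib.eq_maximalIdeal_of_torsIdeal_le hdc M s d hcd h4 r h2 h
      · exact ((IsLocalRing.maximalIdeal.isMaximal A).eq_of_le r.isPrime.ne_top h).symm
    · rintro rfl
      exact ⟨fun x hx => hx.2, hIm⟩
  intro J _ hJ hV i hi
  have hJm : J ≤ IsLocalRing.maximalIdeal A := hJ.trans inf_le_right
  have hrad : IsLocalRing.maximalIdeal A ≤ (J ⊔ I).radical := by
    rw [Ideal.radical_eq_sInf]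
    refine le_sInf fun q ⟨hq, hqp⟩ => le_of_eq ?_
    have := (Set.ext_iff.1 hV ⟨q, hqp⟩).1 ⟨le_sup_left.trans hq, le_sup_right.trans hq⟩
    exact (congrArg PrimeSpectrum.asIdeal this).symm
  obtain ⟨e⟩ := LcAlgLib.nonempty_completion_iso (I := I) J (IsLocalRing.maximalIdeal A)
    ((sup_le_sup_right hJm I).trans Ideal.le_radical)
    (sup_le hrad (le_sup_right.trans Ideal.le_radical)) (Dual.inD A M)
  obtain ⟨l, hl⟩ := DRingLib.exists_list_span' J
  refine LcAlgLib.bijective_hn_unit l (DRingLib.isCoref_RgammaIε l J hl (Dual.inD A M))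
    (DRingLib.isDerivedComplete_inD (I := I) M) (s : ℤ) (fun g hg j hj => ?_) i hi
  refine DRingLib.isTorsM_of_surjective ((DRingLib.hF A j).mapIso e).inv
    (((DRingLib.hF A j).mapIso e).symm.toLinearEquiv.surjective) ?_
  exact (LcAlgLib.mem_torsIdeal_iff (s : ℤ) Y g).1 (hJ (hl ▸ Ideal.subset_span hg)).1 j hj

end Groth.Agent.S8795
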