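import Groth.Statements.S8803
import Groth.Agent.LocCohLib.NonVanishing
import Mathlib.Algebra.Category.ModuleCat.Subobject

set_option autoImplicit false
universe u
open CategoryTheory CategoryTheory.Limits Opposite
open LocCoh

namespace Groth.Agent.S8803

theorem image_anti {C : Type*} [Category C] [Abelian C] {P Q D : C} (h : P ⟶ Q) (f : Q ⟶ D) (g : P ⟶ D)
    (e : g = h ≫ f) : imageSubobject g ≤ imageSubobject f := by
  subst e
  exact imageSubobject_comp_le h f

/-- Let (A, m) be a Noetherian local ring and (M_n) an inverse system of finite A-modules. Then for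
every i the inverse system H^i_m(M_n) of local cohomology modules satisfies the Mittag-Leffler
condition. -/
theorem result (A : Type u) [CommRing A] [IsNoetherianRing A] [IsLocalRing A] (Msys : ℕᵒᵖ ⥤ ModuleCat.{u} A) (hfin : ∀ n : ℕᵒᵖ, Module.Finite A (Msys.obj n)) (i : ℕ) : ARSys.IsML (Msys ⋙ localCohomology (IsLocalRing.maximalIdeal A) i) := by
  intro n
  haveI : HasImages (ModuleCat.{u} A) := inferInstance
  let X : ARSys.PS (ModuleCat.{u} A) := Msys ⋙ localCohomology (IsLocalRing.maximalIdeal A) i
  have hArt : IsArtinian A (X.obj (op n)) := by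
    haveI := hfin (op n)
    exact LocCohLib.isArtinian_H i (Msys.obj (op n))
  haveI hwf : WellFoundedLT (Submodule A (X.obj (op n))) := hArt
  haveI : WellFoundedLT (Subobject (X.obj (op n))) :=
    (ModuleCat.subobjectModule (X.obj (op n))).toOrderEmbedding.wellFoundedLT
  have hanti : ∀ r s : ℕ, r ≤ s →
      imageSubobject (ARSys.shiftMap X s n) ≤ imageSubobject (ARSys.shiftMap X r n) := by
    intro r s hrs
    have h : ARSys.shiftMap X s n = ARSys.tr X (Nat.add_le_add_left hrs n) ≫ ARSys.shiftMap X r n :=
      X.map_comp (homOfLE (Nat.add_le_add_left hrs n)).op (homOfLE (Nat.le_add_right n r)).op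
    exact image_anti _ _ _ h
  obtain ⟨T, ⟨r, rfl⟩, hmin⟩ := (wellFounded_lt (α := Subobject (X.obj (op n)))).has_min
    (Set.range fun r => imageSubobject (ARSys.shiftMap X r n)) ⟨_, 0, rfl⟩
  exact ⟨r, fun s hs => eq_of_le_of_not_lt (hanti r s hs) (hmin _ ⟨s, rfl⟩)⟩

end Groth.Agent.S8803
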