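import Groth.Statements.S8804
import Groth.Agent.AdicRingLib.RigClosed
import Mathlib.RingTheory.Finiteness.Ideal
import Mathlib.RingTheory.KrullDimension.PID

set_option autoImplicit false
universe u
open AdicRing

namespace Groth.Agent.S8804

theorem isAdicComplete_of_pow_eq_bot {R : Type u} [CommRing R] (K : Ideal R) {k : ℕ} (hk : K ^ k = ⊥) :
    IsAdicComplete K R where
  haus' x hx := by
    have := SModEq.sub_mem.1 (hx k)
    rwa [hk, Submodule.bot_smul, Submodule.mem_bot, sub_zero] at this
  prec' f hf := ⟨f k, fun n => by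
    rcases le_total n k with h | h
    · exact hf h
    · have := SModEq.sub_mem.1 (hf h)
      rw [hk, Submodule.bot_smul, Submodule.mem_bot, sub_eq_zero] at this
      rw [this]⟩

/-- Let A be a Noetherian ring which is complete for the adic topology of an ideal I, and let q be a
prime ideal of A. The following are equivalent: (1) I ⊄ q and q is maximal among the primes not
containing I; (5) dim(A/q) = 1 and I ⊄ q; (8) A/q is a one-dimensional complete local ring whose
maximal ideal is the radical of the image of I (stated as: the Krull dimension of A/q is 1, every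
maximal ideal of A/q equals the radical of I(A/q), and A/q is adically complete for that radical).
(The other equivalent forms, for other ideals of definition or for the induced topology, are not
stated.) -/
theorem result (A : Type u) [CommRing A] [IsNoetherianRing A] (I : Ideal A) [IsAdicComplete I A] (q : PrimeSpectrum A) : List.TFAE [¬ I ≤ q.asIdeal ∧ ∀ q' : PrimeSpectrum A, q ≤ q' → ¬ I ≤ q'.asIdeal → q' = q, ringKrullDim (A ⧸ q.asIdeal) = 1 ∧ ¬ I ≤ q.asIdeal, ringKrullDim (A ⧸ q.asIdeal) = 1 ∧ (∀ m : Ideal (A ⧸ q.asIdeal), m.IsMaximal → m = (I.map (Ideal.Quotient.mk q.asIdeal)).radical) ∧ IsAdicComplete (I.map (Ideal.Quotient.mk q.asIdeal)).radical (A ⧸ q.asIdeal)] := by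
  set S := A ⧸ q.asIdeal
  set J := I.map (Ideal.Quotient.mk q.asIdeal) with hJdef
  have hc : IsAdicComplete J S := AdicRingLib.RigClosed.isAdicComplete_quotient I q.asIdeal
  have hbot : J = ⊥ ↔ I ≤ q.asIdeal := by
    rw [hJdef, Ideal.map_eq_bot_iff_le_ker, Ideal.mk_ker]
  have key := AdicRingLib.RigClosed.forall_le_map_iff I q
  tfae_have 1 → 2 := by
    intro h
    obtain ⟨hJ, hall⟩ := key.1 h
    refine ⟨le_antisymm ?_ ?_, h.1⟩
    · have : Ring.KrullDimLE 1 S := Ring.krullDimLE_one_iff_of_isPrime_bot.2 fun P hP0 hP =>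
        AdicRingLib.RigClosed.isMaximal_of_forall_le hJ hall P hP0
      exact Ring.krullDimLE_iff.1 this
    · by_contra hlt
      have : Ring.KrullDimLE 0 S := Ring.krullDimLE_iff.2 (Order.le_of_lt_succ (not_le.1 hlt))
      refine hJ ?_
      obtain ⟨m, hm⟩ := Ideal.exists_maximal S
      have hbm : (⊥ : Ideal S).IsMaximal := Ideal.IsPrime.isMaximal' inferInstance
      exact le_bot_iff.1 (((IsAdicComplete.le_jacobson_bot J).trans (sInf_le ⟨bot_le, hm⟩)).trans
        (hbm.eq_of_le hm.ne_top bot_le).ge)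
  tfae_have 2 → 1 := by
    rintro ⟨hdim, hI⟩
    refine key.2 ⟨fun e => hI (hbot.1 e), fun P hP hP0 => ?_⟩
    have : Ring.KrullDimLE 1 S := Ring.krullDimLE_iff.2 hdim.le
    exact (IsAdicComplete.le_jacobson_bot J).trans
      (sInf_le ⟨bot_le, Ring.krullDimLE_one_iff_of_isPrime_bot.1 this P hP0 hP⟩)
  tfae_have 2 → 3 := by
    intro h
    obtain ⟨hJ, hall⟩ := key.1 (tfae_2_to_1 h)
    refine ⟨h.1, fun m hm => AdicRingLib.RigClosed.eq_radical_of_forall_le hJ hall m fun e => hJ (le_bot_iff.1
      (e ▸ (IsAdicComplete.le_jacobson_bot J).trans (sInf_le ⟨bot_le, hm⟩))), ?_⟩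
    obtain ⟨k, hk⟩ := J.exists_radical_pow_le_of_fg (IsNoetherian.noetherian _)
    have hnil : J.radical.map (Ideal.Quotient.mk J) ^ k = ⊥ := by
      rw [← Ideal.map_pow, Ideal.map_eq_bot_iff_le_ker, Ideal.mk_ker]; exact hk
    have : IsAdicComplete (J.radical.map (Ideal.Quotient.mk J)) (S ⧸ J) := isAdicComplete_of_pow_eq_bot _ hnil
    exact CompleteLib.isAdicComplete_of_quotient J J.radical
  tfae_have 3 → 2 := by
    rintro ⟨hdim, hmax, -⟩
    refine ⟨hdim, fun hI => ?_⟩
    obtain ⟨m, hm⟩ := Ideal.exists_maximal S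
    have h0 : m = ⊥ := by
      rw [hmax m hm, hbot.2 hI]
      exact Ideal.isPrime_bot.radical
    subst h0
    have := IsLocalRing.of_unique_max_ideal ⟨(⊥ : Ideal S), hm, fun M hM => (hm.eq_of_le hM.ne_top bot_le).symm⟩
    have hf : IsField S := IsLocalRing.isField_iff_maximalIdeal_eq.2 (IsLocalRing.eq_maximalIdeal hm).symm
    have := ringKrullDim_eq_zero_of_isField hf
    rw [hdim] at this
    exact one_ne_zero this
  tfae_finish

end Groth.Agent.S8804
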