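import Groth.Statements.S8806
import Groth.Agent.NLKillLib.Basic

set_option autoImplicit false
universe u
open CategoryTheory
attribute [local instance] HasDerivedCategory.standard
open LCI

namespace Groth.Agent.S8806

/-- Let A be a ring, m ≤ n, f_1, …, f_m ∈ A[x_1, …, x_n], B = A[x_1, …, x_n]/(f_1, …, f_m), and g ∈ B
the image of the determinant of the m × m matrix of partial derivatives ∂f_j/∂x_i with i, j ≤ m (the
first m variables). Then: (1) for every B-module N, g annihilates Ext^1_B(NL_{B/A}, N), i.e. every
morphism NL_{B/A} → N[1] in D(B) is killed by g; (2) if n = m then multiplication by g on NL_{B/A}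
is the zero endomorphism in D(B). -/
theorem result (A : Type u) [CommRing A] (n m : ℕ) (hmn : m ≤ n) (f : Fin m → MvPolynomial (Fin n) A) : (∀ (N : Type u) [AddCommGroup N] [Module (MvPolynomial (Fin n) A ⧸ Ideal.span (Set.range f)) N] (φ : LCI.NL A (MvPolynomial (Fin n) A ⧸ Ideal.span (Set.range f)) ⟶ (Dual.inD (MvPolynomial (Fin n) A ⧸ Ideal.span (Set.range f)) N)⟦(1 : ℤ)⟧), (Ideal.Quotient.mk (Ideal.span (Set.range f)) (Matrix.det (Matrix.of (fun i j : Fin m => MvPolynomial.pderiv (Fin.castLE hmn i) (f j))))) • φ = 0) ∧ (n = m → (Ideal.Quotient.mk (Ideal.span (Set.range f)) (Matrix.det (Matrix.of (fun i j : Fin m => MvPolynomial.pderiv (Fin.castLE hmn i) (f j))))) • 𝟙 (LCI.NL A (MvPolynomial (Fin n) A ⧸ Ideal.span (Set.range f))) = 0) := by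
  classical
  let P := MvPolynomial (Fin n) A
  let I : Ideal P := Ideal.span (Set.range f)
  let B := P ⧸ I
  let J : Matrix (Fin m) (Fin m) P :=
    Matrix.of (fun i j : Fin m => MvPolynomial.pderiv (Fin.castLE hmn i) (f j))
  let mk : P →+* B := Ideal.Quotient.mk I
  let g : B := mk J.det
  let G₀ : Algebra.Generators A B (Fin n) := Algebra.Generators.naive
  let G : Algebra.Generators A B B := Algebra.Generators.self A B
  let E₀ := G₀.toExtension
  let E := G.toExtension
  let e := G₀.cotangentSpaceBasis
  have haev : ∀ x : P, MvPolynomial.aeval G₀.val x = mk x := fun x => by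
    have : MvPolynomial.aeval G₀.val = (Ideal.Quotient.mkₐ A I : P →ₐ[A] B) :=
      MvPolynomial.algHom_ext fun i => by rw [MvPolynomial.aeval_X]; rfl
    rw [this]; rfl
  have hker : E₀.ker = I := by
    refine (G₀.ker_eq_ker_aeval_val).trans ?_
    ext x
    rw [RingHom.mem_ker, haev]
    exact Ideal.Quotient.eq_zero_iff_mem
  have hf : ∀ j, f j ∈ E₀.ker := fun j => hker.ge (Ideal.subset_span ⟨j, rfl⟩)
  let F : Fin m → E₀.Cotangent := fun j => Algebra.Extension.Cotangent.mk ⟨f j, hf j⟩
  let h₀ : E₀.CotangentSpace →ₗ[B] E₀.Cotangent := e.constr B fun i =>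
    if hi : (i : ℕ) < m then ∑ j : Fin m, mk (J.adjugate j ⟨i, hi⟩) • F j else 0
  have hh₀ : ∀ i : Fin m, h₀ (e (Fin.castLE hmn i)) = ∑ j : Fin m, mk (J.adjugate j i) • F j := by
    intro i
    rw [Module.Basis.constr_basis, dif_pos (show (Fin.castLE hmn i : ℕ) < m from i.2)]
    exact Finset.sum_congr rfl fun j _ => rfl
  have hh₀' : ∀ i : Fin n, ¬ (i : ℕ) < m → h₀ (e i) = 0 := fun i hi => by
    rw [Module.Basis.constr_basis, dif_neg hi]
  have hcc : ∀ k, E₀.cotangentComplex (F k) =
      ∑ i : Fin n, mk (MvPolynomial.pderiv i (f k)) • e i := fun k => by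
    conv_lhs => rw [← e.sum_repr (E₀.cotangentComplex (F k))]
    refine Finset.sum_congr rfl fun i _ => ?_
    congr 1
    rw [← haev]
    exact G₀.cotangentSpaceBasis_repr_one_tmul (f k) i
  -- `h₀ ∘ d = g`
  have key₁ : ∀ z, h₀ (E₀.cotangentComplex z) = g • z := by
    have hspan : ⊤ ≤ Submodule.span B (Set.range F) := by
      rintro z -
      obtain ⟨⟨x, hx⟩, rfl⟩ := Algebra.Extension.Cotangent.mk_surjective z
      obtain ⟨c, hc⟩ := (Submodule.mem_span_range_iff_exists_fun P (v := f) (x := (x : P))).1
        (show (x : P) ∈ I from hker.le hx)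
      let c' : Fin m → E₀.Ring := c
      have : (⟨x, hx⟩ : E₀.ker) = ∑ j, c' j • (⟨f j, hf j⟩ : E₀.ker) := by
        refine Subtype.ext ?_
        rw [Submodule.coe_sum]
        exact hc.symm
      rw [this, map_sum]
      refine Submodule.sum_mem _ fun j _ => ?_
      rw [map_smul]
      rw [← IsScalarTower.algebraMap_smul B (c' j)]
      exact Submodule.smul_mem _ _ (Submodule.subset_span ⟨j, rfl⟩)
    intro z
    induction hspan (Submodule.mem_top (x := z)) using Submodule.span_induction with
    | mem z hz =>
      obtain ⟨k, rfl⟩ := hz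
      rw [hcc, map_sum]
      rw [← Finset.sum_subset (Finset.subset_univ (Finset.univ.map (Fin.castLEEmb hmn))) (fun i _ hi => by
        rw [map_smul, hh₀' i (fun h => hi (Finset.mem_map.2 ⟨⟨i, h⟩, Finset.mem_univ _, rfl⟩)), smul_zero]),
        Finset.sum_map]
      simp only [map_smul, Fin.coe_castLEEmb, hh₀, Finset.smul_sum, smul_smul]
      rw [Finset.sum_comm]
      have hJ : ∀ j, ∑ i : Fin m, mk (MvPolynomial.pderiv (Fin.castLE hmn i) (f k)) * mk (J.adjugate j i) =
          if j = k then g else 0 := fun j => by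
        have h1 := congrFun (congrFun J.adjugate_mul j) k
        rw [Matrix.mul_apply] at h1
        have h2 : ∑ i : Fin m, mk (MvPolynomial.pderiv (Fin.castLE hmn i) (f k)) * mk (J.adjugate j i) =
            mk (∑ i : Fin m, J.adjugate j i * J i k) := by
          rw [map_sum]
          exact Finset.sum_congr rfl fun i _ => by rw [map_mul, mul_comm]; rfl
        rw [h2, h1, Matrix.smul_apply, Matrix.one_apply]
        split_ifs <;> simp [g]
      simp only [← Finset.sum_smul, hJ]
      rw [Finset.sum_eq_single k (fun j _ hj => by rw [if_neg hj]; exact zero_smul B (F j))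
        (fun h => absurd (Finset.mem_univ k) h), if_pos rfl]
    | zero => simp
    | add x y _ _ hx hy => rw [map_add, map_add, hx, hy, smul_add]
    | smul b x _ hx => rw [map_smul, map_smul, hx, smul_comm]
  -- transport to the presentation on all elements
  let φ := (Algebra.Generators.defaultHom G G₀).toExtensionHom
  let ψ := (Algebra.Generators.defaultHom G₀ G).toExtensionHom
  let s := (Algebra.Extension.Hom.id E).sub (ψ.comp φ)
  let h : E.CotangentSpace →ₗ[B] E.Cotangent :=
    (Algebra.Extension.Cotangent.map ψ) ∘ₗ h₀ ∘ₗ (Algebra.Extension.CotangentSpace.map φ) + g • s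
  let d : ModuleCat.of B E.Cotangent ⟶ ModuleCat.of B E.CotangentSpace :=
    ModuleCat.ofHom E.cotangentComplex
  let hc : ModuleCat.of B E.CotangentSpace ⟶ ModuleCat.of B E.Cotangent := ModuleCat.ofHom h
  have H₁ : d ≫ hc = g • 𝟙 _ := by
    refine ModuleCat.hom_ext (LinearMap.ext fun z => ?_)
    show h (E.cotangentComplex z) = g • z
    have hs := LinearMap.congr_fun
      (Algebra.Extension.Cotangent.map_sub_map (Algebra.Extension.Hom.id E) (ψ.comp φ)) z
    simp only [LinearMap.sub_apply, LinearMap.comp_apply, Algebra.Extension.Cotangent.map_id,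
      Algebra.Extension.Cotangent.map_comp, LinearMap.id_apply] at hs
    simp only [h, s, LinearMap.add_apply, LinearMap.smul_apply, LinearMap.comp_apply]
    rw [← hs, Algebra.Extension.CotangentSpace.map_cotangentComplex, key₁, map_smul, smul_sub]
    simp
  have hproj : Projective (ModuleCat.of B E.CotangentSpace) :=
    ModuleCat.projective_of_free G.cotangentSpaceBasis
  refine ⟨fun N _ _ φ' => NLKillLib.smul_eq_zero_of_projective d g hc H₁ N φ',
    fun hnm => NLKillLib.smul_id_eq_zero d g hc H₁ ?_⟩
  subst hnm
  have key₂ : ∀ z, E₀.cotangentComplex (h₀ z) = g • z := by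
    have : E₀.cotangentComplex ∘ₗ h₀ = g • LinearMap.id := e.ext fun i => by
      rw [LinearMap.comp_apply, show i = Fin.castLE hmn i from rfl, hh₀, map_sum]
      simp only [map_smul, hcc, Finset.smul_sum]
      rw [Finset.sum_comm]
      have hJ : ∀ l, ∑ j, mk (J.adjugate j i) * mk (MvPolynomial.pderiv l (f j)) =
          if l = i then g else 0 := fun l => by
        have h1 := congrFun (congrFun J.mul_adjugate l) i
        rw [Matrix.mul_apply] at h1
        have h2 : ∑ j, mk (J.adjugate j i) * mk (MvPolynomial.pderiv l (f j)) =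
            mk (∑ j, J l j * J.adjugate j i) := by
          rw [map_sum]
          exact Finset.sum_congr rfl fun j _ => by rw [map_mul, mul_comm]; rfl
        rw [h2, h1, Matrix.smul_apply, Matrix.one_apply]
        split_ifs <;> simp [g]
      have hrow : ∀ l, (∑ j, mk (J.adjugate j i) • mk (MvPolynomial.pderiv l (f j)) • e l) =
          (if l = i then g else 0) • e l := fun l => by
        rw [← hJ l]
        exact (Finset.sum_congr rfl fun j _ => smul_smul (mk (J.adjugate j i))
          (mk (MvPolynomial.pderiv l (f j))) (e l)).trans Finset.sum_smul.symm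
      refine (Finset.sum_congr rfl fun l _ => hrow l).trans ?_
      rw [Finset.sum_eq_single i (fun l _ hl => by rw [if_neg hl]; exact zero_smul B (e l))
        (fun h => absurd (Finset.mem_univ i) h), if_pos rfl]
      rfl
    exact LinearMap.congr_fun this
  refine ModuleCat.hom_ext (LinearMap.ext fun z => ?_)
  show E.cotangentComplex (h z) = g • z
  have hs := LinearMap.congr_fun
    (Algebra.Extension.CotangentSpace.map_sub_map (Algebra.Extension.Hom.id E) (ψ.comp φ)) z
  simp only [LinearMap.sub_apply, LinearMap.comp_apply, Algebra.Extension.CotangentSpace.map_id,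
    Algebra.Extension.CotangentSpace.map_comp, LinearMap.id_apply, LinearMap.restrictScalars_apply] at hs
  simp only [h, s, LinearMap.add_apply, LinearMap.smul_apply, LinearMap.comp_apply, map_add, map_smul]
  rw [← hs, ← Algebra.Extension.CotangentSpace.map_cotangentComplex, key₂, map_smul, smul_sub]
  simp

end Groth.Agent.S8806
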