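import Groth.Statements.S8812
import Mathlib
-- import your own Groth.Agent.* helpers here

set_option autoImplicit false
universe u
open CategoryTheory AlgebraicGeometry
open Algz

namespace Groth.Agent.S8812

open Algz in
theorem codimPt_congr {Y : Scheme.{u}} {w v w' v' : Y} (hw : w = w') (hv : v = v') (h : w ⤳ v) (h' : w' ⤳ v') :
    codimPt w v h = codimPt w' v' h' := by
  subst hw hv; rfl

open Algz in
theorem codimPt_self {Y : Scheme.{u}} (w : Y) (h : w ⤳ w) : codimPt w w h = 0 := by
  refine Order.height_eq_zero.2 fun a _ => ?_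
  exact a.2

open Algz in
theorem one_le_codimPt {Y : Scheme.{u}} {w v : Y} (h : w ⤳ v) (hne : w ≠ v) : 1 ≤ codimPt w v h := by
  refine Order.one_le_iff_ne_zero.2 fun h0 => hne ?_
  have hmin := Order.height_eq_zero.1 h0
  have hle := hmin (b := ⟨Specialization.toEquiv v, le_refl (Specialization.toEquiv v)⟩)
    (Specialization.toEquiv_le_toEquiv.mpr h)
  exact ((Specialization.toEquiv_le_toEquiv.mp hle).antisymm h).eq.symm

open Algz in
theorem codimPt_mono {Y : Scheme.{u}} {w v v' : Y} (h : w ⤳ v) (hv : v ⤳ v') :
    codimPt w v h ≤ codimPt w v' (h.trans hv) :=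
  Order.height_le_height_apply_of_strictMono
    (fun a : Set.Ici (Specialization.toEquiv v) =>
      (⟨a.1, le_trans (Specialization.toEquiv_le_toEquiv.mpr hv) a.2⟩ : Set.Ici (Specialization.toEquiv v')))
    (fun _ _ hab => hab) _

open Algz in
/-- Replace the last sets of a system whose last codimension vanishes. -/
theorem exists_system_replace {Y : Scheme.{u}} {Z : Set Y} {y y' : Y} {n : ℕ} (h : y ⤳ y')
    (S : DSystem Z y (n + 1)) (hc : S.v (Fin.last _) = y) :
    ∃ T : DSystem Z y' (n + 1), T.delta ≤ S.delta := by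
  classical
  have hne : ∀ i : Fin (n + 1), i.castSucc ≠ Fin.last (n + 1) := fun i => Fin.castSucc_ne_last i
  let T : DSystem Z y' (n + 1) :=
    { v := Function.update S.v (Fin.last _) y'
      w := Function.update S.w (Fin.last _) y'
      spec := fun i => by
        by_cases hi : i = Fin.last _
        · subst hi; simp [specializes_rfl]
        · rw [Function.update_of_ne hi, Function.update_of_ne hi]; exact S.spec i
      spec_succ := fun i => by
        rw [Function.update_of_ne (hne i)]
        by_cases hi : i.succ = Fin.last _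
        · rw [hi, Function.update_self]
          have hv' : S.v i.succ = y := by rw [hi]; exact hc
          have h3 := S.spec_succ i
          rw [hv'] at h3
          exact h3.trans h
        · rw [Function.update_of_ne hi]; exact S.spec_succ i
      start_mem := by
        rw [Function.update_of_ne (Fin.last_pos.ne)]; exact S.start_mem
      last_eq := Function.update_self _ _ _ }
  have hTc : ∀ j, T.c j ≤ S.c j := fun j => by
    by_cases hj : j = Fin.last _
    · subst hj
      have : T.c (Fin.last _) = 0 := by
        rw [show T.c (Fin.last _) = codimPt y' y' specializes_rfl from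
          codimPt_congr (show T.w (Fin.last _) = y' from Function.update_self _ _ _)
            (show T.v (Fin.last _) = y' from Function.update_self _ _ _) _ _, codimPt_self]
      rw [this]; exact zero_le
    · exact le_of_eq (codimPt_congr (Function.update_of_ne hj _ _) (Function.update_of_ne hj _ _) _ _)
  have hTb : ∀ j, S.b j ≤ T.b j := fun j => by
    by_cases hj : j.succ = Fin.last _
    · have hv : S.v j.succ = y := hj ▸ hc
      refine (codimPt_mono (S.spec_succ j) (v' := y') (by rw [hv]; exact h)).trans (le_of_eq ?_)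
      exact codimPt_congr (Function.update_of_ne (hne j) _ _).symm
        (show y' = T.v j.succ by show y' = Function.update S.v _ y' _; rw [hj, Function.update_self]) _ _
    · exact le_of_eq (codimPt_congr (Function.update_of_ne (hne j) _ _).symm
        (Function.update_of_ne hj _ _).symm _ _)
  refine ⟨T, add_le_add le_rfl (Finset.sup_mono_fun fun i _ => ?_)⟩
  exact tsub_le_tsub (Finset.sum_le_sum fun j _ => hTc j) (Finset.sum_le_sum fun j _ => hTb j)

open Algz in
/-- Append a point to a system with a nonzero maximal term. -/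
theorem exists_system_append {Y : Scheme.{u}} {Z : Set Y} {y y' : Y} {k : ℕ} (h : y ⤳ y') (hne : y ≠ y')
    (S : DSystem Z y k) (hM : S.delta ≠ (k : ℕ∞)) :
    ∃ T : DSystem Z y' (k + 1), T.delta ≤ S.delta := by
  classical
  let T : DSystem Z y' (k + 1) :=
    { v := Fin.snoc S.v y'
      w := Fin.snoc S.w y'
      spec := fun i => by
        induction i using Fin.lastCases with
        | last => simp [specializes_rfl]
        | cast i => simpa using S.spec i
      spec_succ := fun i => by
        induction i using Fin.lastCases with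
        | last => simpa [S.last_eq] using h
        | cast i => rw [Fin.succ_castSucc, Fin.snoc_castSucc, Fin.snoc_castSucc]; exact S.spec_succ i
      start_mem := by
        rw [← Fin.castSucc_zero, Fin.snoc_castSucc]; exact S.start_mem
      last_eq := Fin.snoc_last _ _ }
  have hc1 : ∀ j : Fin (k + 1), T.c j.castSucc = S.c j := fun j =>
    codimPt_congr (Fin.snoc_castSucc (α := fun _ => Y) _ _ _) (Fin.snoc_castSucc (α := fun _ => Y) _ _ _) _ _
  have hc2 : T.c (Fin.last _) = 0 := by
    rw [show T.c (Fin.last _) = codimPt y' y' specializes_rfl from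
      codimPt_congr (Fin.snoc_last (α := fun _ => Y) _ _) (Fin.snoc_last (α := fun _ => Y) _ _) _ _, codimPt_self]
  have hb1 : ∀ j : Fin k, T.b j.castSucc = S.b j := fun j =>
    codimPt_congr (Fin.snoc_castSucc (α := fun _ => Y) _ _ _)
      (show Fin.snoc (α := fun _ => Y) S.v y' j.castSucc.succ = _ by
        rw [Fin.succ_castSucc, Fin.snoc_castSucc]) _ _
  have hb2 : 1 ≤ T.b (Fin.last k) := by
    rw [show T.b (Fin.last k) = codimPt y y' h from codimPt_congr
      (show Fin.snoc (α := fun _ => Y) S.w y' (Fin.last k).castSucc = y by rw [Fin.snoc_castSucc, S.last_eq])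
      (show Fin.snoc (α := fun _ => Y) S.v y' (Fin.last k).succ = y' by rw [Fin.succ_last, Fin.snoc_last]) _ _]
    exact one_le_codimPt h hne
  let t : Fin (k + 1) → ℕ∞ := fun i =>
    (∑ j ∈ Finset.univ.filter (fun j : Fin (k + 1) => i ≤ j), S.c j) -
      ∑ j ∈ Finset.univ.filter (fun j : Fin k => i.val ≤ j.val), S.b j
  have hterm : ∀ i : Fin (k + 1),
      (∑ j ∈ Finset.univ.filter (fun j : Fin (k + 2) => i.castSucc ≤ j), T.c j) -
        ∑ j ∈ Finset.univ.filter (fun j : Fin (k + 1) => i.castSucc.val ≤ j.val), T.b j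
      = t i - T.b (Fin.last k) := fun i => by
    have h1 : ∑ j ∈ Finset.univ.filter (fun j : Fin (k + 2) => i.castSucc ≤ j), T.c j =
        ∑ j ∈ Finset.univ.filter (fun j : Fin (k + 1) => i ≤ j), S.c j := by
      simp only [Finset.sum_filter]
      rw [Fin.sum_univ_castSucc]
      simp [hc1, hc2]
    have h2 : ∑ j ∈ Finset.univ.filter (fun j : Fin (k + 1) => i.castSucc.val ≤ j.val), T.b j =
        (∑ j ∈ Finset.univ.filter (fun j : Fin k => i.val ≤ j.val), S.b j) + T.b (Fin.last k) := by
      simp only [Finset.sum_filter]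
      rw [Fin.sum_univ_castSucc]
      simp only [hb1, Fin.val_castSucc, Fin.val_last, Nat.le_of_lt_succ i.2, if_true]
    rw [h1, h2, tsub_add_eq_tsub_tsub]
  set M := Finset.univ.sup t with hMdef
  have hS : S.delta = (k : ℕ∞) + M := rfl
  have hM1 : 1 ≤ M := Order.one_le_iff_ne_zero.2 fun h0 => hM (by rw [hS, h0, add_zero])
  have hT : T.delta ≤ ((k + 1 : ℕ) : ℕ∞) + (M - 1) := by
    refine add_le_add le_rfl (Finset.sup_le fun i _ => ?_)
    induction i using Fin.lastCases with
    | last =>
      have : ∑ j ∈ Finset.univ.filter (fun j : Fin (k + 2) => Fin.last (k + 1) ≤ j), T.c j = 0 :=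
        Finset.sum_eq_zero fun j hj => by
          rw [le_antisymm (Fin.le_last j) (Finset.mem_filter.1 hj).2, hc2]
      rw [this, zero_tsub]; exact zero_le
    | cast i =>
      rw [hterm]
      exact tsub_le_tsub (Finset.le_sup (f := t) (Finset.mem_univ i)) hb2
  refine ⟨T, hT.trans ?_⟩
  rw [hS, Nat.cast_add, Nat.cast_one, add_assoc, add_tsub_cancel_of_le hM1]

open Algz in
theorem exists_system_le {Y : Scheme.{u}} {Z : Set Y} (hZ : IsClosed Z) {y y' : Y} (h : y ⤳ y') {k : ℕ}
    (S : DSystem Z y k) : deltaZ Z y' ≤ S.delta := by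
  by_cases hne : y = y'
  · subst hne; exact iInf₂_le k S
  by_cases hM : S.delta = (k : ℕ∞)
  swap
  · obtain ⟨T, hT⟩ := exists_system_append h hne S hM
    exact (iInf₂_le (k + 1) T).trans hT
  have hsup : ∀ i : Fin (k + 1), (∑ j ∈ Finset.univ.filter (fun j : Fin (k + 1) => i ≤ j), S.c j) -
      ∑ j ∈ Finset.univ.filter (fun j : Fin k => i.val ≤ j.val), S.b j = 0 := fun i => by
    have hle := Finset.le_sup (f := fun i : Fin (k + 1) =>
      (∑ j ∈ Finset.univ.filter (fun j : Fin (k + 1) => i ≤ j), S.c j) -
        ∑ j ∈ Finset.univ.filter (fun j : Fin k => i.val ≤ j.val), S.b j) (Finset.mem_univ i)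
    have h0 : ∀ M : ℕ∞, (k : ℕ∞) + M = k → M = 0 := fun M hM' =>
      (ENat.add_right_injective_of_ne_top (ENat.natCast_ne_top k)) (hM'.trans (add_zero _).symm)
    exact le_antisymm (hle.trans (h0 _ hM).le) (zero_le)
  have hck : S.c (Fin.last k) = 0 := by
    have h1 : ∑ j ∈ Finset.univ.filter (fun j : Fin (k + 1) => Fin.last k ≤ j), S.c j = S.c (Fin.last k) :=
      Finset.sum_eq_single _ (fun j hj hj' => absurd (le_antisymm (Fin.le_last j) (Finset.mem_filter.1 hj).2) hj')
        (fun hj => absurd (Finset.mem_filter.2 ⟨Finset.mem_univ _, le_rfl⟩) hj)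
    have h2 : ∑ j ∈ Finset.univ.filter (fun j : Fin k => (Fin.last k).val ≤ j.val), S.b j = 0 :=
      Finset.sum_eq_zero fun j hj => absurd (Finset.mem_filter.1 hj).2 (not_le.2 j.2)
    have := hsup (Fin.last k)
    rwa [h1, h2, tsub_zero] at this
  have hv : S.v (Fin.last k) = y := by
    by_contra hv
    have := one_le_codimPt (S.spec (Fin.last k)) (by rw [S.last_eq]; exact Ne.symm hv)
    rw [show codimPt _ _ (S.spec (Fin.last k)) = 0 from hck] at this
    exact absurd this (by simp)
  cases k with
  | zero =>
    let T : DSystem Z y' 0 :=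
      { v := fun _ => y'
        w := fun _ => y'
        spec := fun _ => specializes_rfl
        spec_succ := fun i => i.elim0
        start_mem := h.mem_closed hZ (hv ▸ S.start_mem)
        last_eq := rfl }
    have hT : T.delta = 0 := by
      simp [DSystem.delta, DSystem.c, codimPt_self, T]
    exact (iInf₂_le 0 T).trans (hT ▸ zero_le)
  | succ n =>
    obtain ⟨T, hT⟩ := exists_system_replace h S hv
    exact (iInf₂_le (n + 1) T).trans hT

/-- Let Y be a Noetherian scheme and Z ⊆ Y a closed subset. If y specializes to y' then δ_Z(y') ≤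
δ_Z(y); equivalently each set {y | δ_Z(y) ≤ k} is stable under specialization. -/
theorem result (Y : Scheme.{u}) [IsNoetherian Y] (Z : Set Y) (hZ : IsClosed Z) (y y' : Y) (h : y ⤳ y') : Algz.deltaZ Z y' ≤ Algz.deltaZ Z y := by
  refine le_iInf fun k => le_iInf fun S => ?_
  exact exists_system_le hZ h S

end Groth.Agent.S8812
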