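import Mathlib
import Groth.Statements.S8813

-- import your own Groth.Agent.* helpers here

set_option autoImplicit false
universe u
open CategoryTheory AlgebraicGeometry
open Algz

namespace Groth.Agent.S8813

/-- Let Y be a Noetherian scheme, Z ⊆ Y a closed subset, y a point of Y and z a point of Z lying in the
closure of y. Then δ_Z(y) is at most the dimension of the local ring at z of the closure of y with
its reduced structure, that is, the Krull dimension of O_{Y,z}/𝔭 where 𝔭 is the prime ideal of the
local ring O_{Y,z} given by the point of Spec O_{Y,z} that maps to y. -/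
theorem result (Y : Scheme.{u}) [IsNoetherian Y] (Z : Set Y) (hZ : IsClosed Z) (y z : Y) (h : y ⤳ z) (hz : z ∈ Z) (P : PrimeSpectrum (Y.presheaf.stalk z)) (hP : (Y.fromSpecStalk z).base P = y) : ((Algz.deltaZ Z y : ℕ∞) : WithBot ℕ∞) ≤ ringKrullDim (↥(Y.presheaf.stalk z) ⧸ P.asIdeal) := by
  let sys : Algz.DSystem Z y 0 :=
    { v := fun _ => z, w := fun _ => y, spec := fun _ => h, spec_succ := fun i => i.elim0,
      start_mem := hz, last_eq := rfl }
  have h1 : Algz.deltaZ Z y ≤ Algz.codimPt y z h := by
    refine (iInf₂_le 0 sys).trans (le_of_eq ?_)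
    have e : sys.c 0 = Algz.codimPt y z h := rfl
    simp [Algz.DSystem.delta, e]
  refine (WithBot.coe_le_coe.2 h1).trans ?_
  let R := (Y.presheaf.stalk z : CommRingCat.{u})
  let Q := ↥R ⧸ P.asIdeal
  have hmem : ∀ a : Set.Ici (Specialization.toEquiv z), ∃ q : PrimeSpectrum R,
      (Y.fromSpecStalk z).base q = Specialization.ofEquiv a.1 := by
    intro a
    have ha : Specialization.ofEquiv a.1 ⤳ z := a.2
    have hr := Scheme.range_fromSpecStalk (X := Y) (x := z)
    exact (Set.ext_iff.1 hr (Specialization.ofEquiv a.1)).2 ha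
  choose lift hlift using hmem
  have hind : Topology.IsInducing (Y.fromSpecStalk z).base := (Y.fromSpecStalk z).isEmbedding.isInducing
  have hmono : ∀ a b : Set.Ici (Specialization.toEquiv z), a ≤ b → lift b ≤ lift a := by
    intro a b hab
    rw [PrimeSpectrum.le_iff_specializes]
    refine hind.specializes_iff.1 ?_
    rw [hlift, hlift]
    exact hab
  have hinj : ∀ a b, lift a = lift b → a = b := fun a b hab => by
    have h2 := congrArg (Y.fromSpecStalk z).base hab
    rw [hlift, hlift] at h2
    exact Subtype.ext (Specialization.ofEquiv.injective h2)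
  let y₀ : Set.Ici (Specialization.toEquiv z) := ⟨Specialization.toEquiv y, Specialization.toEquiv_le_toEquiv.mpr h⟩
  have hy₀ : lift y₀ = P := (Y.fromSpecStalk z).isEmbedding.injective ((hlift y₀).trans hP.symm)
  have hP' : ∀ a ≤ y₀, P ≤ lift a := fun a ha => hy₀ ▸ hmono a y₀ ha
  have hker : ∀ a ≤ y₀, RingHom.ker (Ideal.Quotient.mk P.asIdeal) ≤ (lift a).asIdeal := fun a ha => by
    rw [Ideal.mk_ker]; exact hP' a ha
  let g : Set.Iic y₀ → (PrimeSpectrum Q)ᵒᵈ := fun a => OrderDual.toDual
    ⟨(lift a.1).asIdeal.map (Ideal.Quotient.mk P.asIdeal),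
      Ideal.map_isPrime_of_surjective Ideal.Quotient.mk_surjective (hker a.1 a.2)⟩
  have hcm : ∀ a : Set.Iic y₀, ((lift a.1).asIdeal.map (Ideal.Quotient.mk P.asIdeal)).comap
      (Ideal.Quotient.mk P.asIdeal) = (lift a.1).asIdeal := fun a => by
    rw [Ideal.comap_map_of_surjective _ Ideal.Quotient.mk_surjective]
    exact sup_eq_left.2 (hker a.1 a.2)
  have hg : StrictMono g := by
    intro a b hab
    refine lt_of_le_of_ne ?_ ?_
    · show (lift b.1).asIdeal.map _ ≤ (lift a.1).asIdeal.map _
      exact Ideal.map_mono (hmono a.1 b.1 hab.le)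
    · intro he
      have h2 : (lift a.1).asIdeal = (lift b.1).asIdeal := by
        rw [← hcm a, ← hcm b]
        exact congrArg (fun q : (PrimeSpectrum Q)ᵒᵈ => (OrderDual.ofDual q).asIdeal.comap (Ideal.Quotient.mk P.asIdeal)) he
      exact hab.ne (Subtype.ext (hinj _ _ (PrimeSpectrum.ext h2)))
  show ((Order.height y₀ : ℕ∞) : WithBot ℕ∞) ≤ ringKrullDim Q
  rw [Order.height_eq_krullDim_Iic]
  exact (Order.krullDim_le_of_strictMono g hg).trans_eq Order.krullDim_orderDual

end Groth.Agent.S8813
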