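import Groth.Statements.S8814


-- import your own Groth.Agent.* helpers here

set_option autoImplicit false
universe u
open CategoryTheory AlgebraicGeometry
open Algz

namespace Groth.Agent.S8814

/-- Let Y be a Noetherian scheme, Z ⊆ Y a closed subset and δ a dimension function on Y. If δ_Z(y) is a
natural number n, then δ(y) ≤ n + δ(z) for some z ∈ Z; in other words δ(y) ≤ δ_Z(y) + δ_max with
δ_max the maximum of δ on Z. -/
theorem result (Y : Scheme.{u}) [IsNoetherian Y] (Z : Set Y) (hZ : IsClosed Z) (δ : Y → ℤ) (hδ : Cyc.IsDimFun Y δ) (y : Y) (n : ℕ) (hn : Algz.deltaZ Z y = n) : ∃ z ∈ Z, δ y ≤ n + δ z := by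
  classical
  have hnn : ∀ a b : Y, a ⤳ b → δ b ≤ δ a := fun a b h => by
    by_cases hab : a = b
    · rw [hab]
    · exact (hδ a b h hab).1.le
  have hc : ∀ (w v : Y) (h : w ⤳ v), Algz.codimPt w v h = ((δ w - δ v).toNat : ℕ∞) := by
    suffices H : ∀ (d : ℕ) (w v : Y) (h : w ⤳ v), (δ w - δ v).toNat = d → Algz.codimPt w v h = (d : ℕ∞) from
      fun w v h => H _ w v h rfl
    intro d
    induction d using Nat.strong_induction_on with
    | _ d ih =>
      intro w v h hd
      unfold Algz.codimPt
      have hwv := hnn w v h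
      apply le_antisymm
      · rw [Order.height_eq_iSup_lt_height]
        refine iSup₂_le fun y hy => ?_
        obtain ⟨hy1, hy2⟩ := lt_iff_le_not_ge.1 hy
        have hs : w ⤳ Specialization.ofEquiv y.1 := Specialization.toEquiv_le_toEquiv.1 hy1
        have hvy : Specialization.ofEquiv y.1 ⤳ v := Specialization.toEquiv_le_toEquiv.1 y.2
        have hne : w ≠ Specialization.ofEquiv y.1 := fun e => hy2 (le_of_eq (Subtype.ext (congrArg Specialization.toEquiv e)))
        have h1 := (hδ _ _ hs hne).1
        have h2 := hnn _ _ hvy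
        have := ih ((δ (Specialization.ofEquiv y.1) - δ v).toNat) (by omega) _ v hvy rfl
        unfold Algz.codimPt at this
        refine le_trans (add_le_add (le_of_eq this) le_rfl) ?_
        norm_cast
        omega
      · rcases Nat.eq_zero_or_pos d with rfl | hpos
        · simp
        · let T : Set ℕ := {m | ∃ z : Y, w ⤳ z ∧ z ⤳ v ∧ z ≠ w ∧ (δ w - δ z).toNat = m}
          have hT : T.Nonempty := ⟨d, v, h, specializes_rfl, fun e => by rw [e] at hd; omega, hd⟩
          obtain ⟨z, hwz, hzv, hzw, hm⟩ := Nat.sInf_mem hT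
          have himm : ∀ z' : Y, w ⤳ z' → z' ⤳ z → z' = w ∨ z' = z := by
            intro z' h1 h2
            by_contra! hne
            have := Nat.sInf_le (show (δ w - δ z').toNat ∈ T from ⟨z', h1, h2.trans hzv, hne.1, rfl⟩)
            have := (hδ z' z h2 hne.2).1
            have := (hδ w z' h1 hne.1.symm).1
            omega
          have h1 := (hδ w z hwz hzw.symm).2 himm
          have h2 := hnn z v hzv
          have := ih ((δ z - δ v).toNat) (by omega) z v hzv rfl
          unfold Algz.codimPt at this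
          have hlt : (⟨Specialization.toEquiv z, Specialization.toEquiv_le_toEquiv.mpr hzv⟩ : Set.Ici (Specialization.toEquiv v)) <
              ⟨Specialization.toEquiv w, Specialization.toEquiv_le_toEquiv.mpr h⟩ := by
            refine lt_iff_le_not_ge.2 ⟨Specialization.toEquiv_le_toEquiv.mpr hwz, fun hle => ?_⟩
            have := hnn _ _ (Specialization.toEquiv_le_toEquiv.1 hle)
            omega
          refine le_trans ?_ (Order.height_add_one_le hlt)
          rw [this]
          norm_cast
          omega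
  have hex : ∃ (k : ℕ) (S : Algz.DSystem Z y k), S.delta = n := by
    have hne : Nonempty (Σ k, Algz.DSystem Z y k) := by
      by_contra hne
      have h0 : Algz.deltaZ Z y = ⊤ := by
        simp only [Algz.deltaZ, iInf_eq_top]
        exact fun k S => (hne ⟨⟨k, S⟩⟩).elim
      rw [hn] at h0
      exact ENat.natCast_ne_top n h0
    obtain ⟨p, hp⟩ := ciInf_mem fun p : Σ k, Algz.DSystem Z y k => p.2.delta
    refine ⟨p.1, p.2, hp.trans (le_antisymm ?_ ?_)⟩
    · rw [← hn]; exact le_iInf₂ fun k S => iInf_le _ (⟨k, S⟩ : Σ k, Algz.DSystem Z y k)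
    · rw [← hn]; exact le_iInf fun q => iInf₂_le q.1 q.2
  obtain ⟨k, S, hS⟩ := hex
  refine ⟨S.v 0, S.start_mem, ?_⟩
  let c : Fin (k + 1) → ℕ := fun i => (δ (S.w i) - δ (S.v i)).toNat
  let b : Fin k → ℕ := fun i => (δ (S.w i.castSucc) - δ (S.v i.succ)).toNat
  have hle : (((∑ j, c j) - ∑ j, b j : ℕ) : ℕ∞) ≤ n := by
    rw [← hS, Algz.DSystem.delta]
    refine le_trans ?_ le_add_self
    refine le_trans (le_of_eq ?_) (Finset.le_sup (Finset.mem_univ (0 : Fin (k + 1))))
    simp [c, b, Algz.DSystem.c, Algz.DSystem.b, hc]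
  have hle' : (∑ j, c j) - ∑ j, b j ≤ n := by exact_mod_cast hle
  have ec : ((∑ j, c j : ℕ) : ℤ) = ∑ j, δ (S.w j) - ∑ j, δ (S.v j) := by
    rw [Nat.cast_sum, ← Finset.sum_sub_distrib]
    exact Finset.sum_congr rfl fun j _ => Int.toNat_of_nonneg (by have := hnn _ _ (S.spec j); omega)
  have eb : ((∑ j, b j : ℕ) : ℤ) = ∑ j : Fin k, δ (S.w j.castSucc) - ∑ j : Fin k, δ (S.v j.succ) := by
    rw [Nat.cast_sum, ← Finset.sum_sub_distrib]
    exact Finset.sum_congr rfl fun j _ => Int.toNat_of_nonneg (by have := hnn _ _ (S.spec_succ j); omega)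
  rw [Fin.sum_univ_castSucc (fun j => δ (S.w j)), Fin.sum_univ_succ (fun j => δ (S.v j)), S.last_eq] at ec
  omega

end Groth.Agent.S8814
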