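import Groth.Statements.S8815
import Mathlib
import Groth.Agent.CatDimFunLib.Basic
import Groth.Agent.S8814
-- import your own Groth.Agent.* helpers here

set_option autoImplicit false
universe u
open CategoryTheory AlgebraicGeometry
open Algz

namespace Groth.Agent.S8815

/-- Let A be a catenary Noetherian local ring, Y = Spec A and Z the closed point. Then δ_Z(y) equals the
dimension of the closure of y, i.e. dim(A/p_y), for every point y. -/
theorem result (A : Type u) [CommRing A] [IsNoetherianRing A] [IsLocalRing A] (hA : CAlg.IsCatenary A) (y : Spec (CommRingCat.of A)) : ((Algz.deltaZ ({IsLocalRing.closedPoint A} : Set (Spec (CommRingCat.of A))) y : ℕ∞) : WithBot ℕ∞) = ringKrullDim (A ⧸ y.asIdeal) := by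
  let p : PrimeSpectrum A := CatDimFunLib.pr y
  let m : Spec (CommRingCat.of A) := IsLocalRing.closedPoint A
  obtain ⟨n, hn⟩ := CatDimFunLib.exists_coheight_eq hA p
  have hdim : ringKrullDim (A ⧸ y.asIdeal) = (n : WithBot ℕ∞) := by
    rw [ringKrullDim_quotient, ← WithBot.coe_natCast, ← hn, Order.coheight_eq_krullDim_Ici]
    refine (Order.krullDim_eq_of_orderIso (OrderIso.setCongr _ _ ?_))
    ext q
    exact Iff.rfl
  have hym : @Specializes (Spec (CommRingCat.of A)) _ y m :=
    (CatDimFunLib.specializes_iff y m).mpr (CatDimFunLib.le_closedPoint p)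
  let S : Algz.DSystem ({m} : Set (Spec (CommRingCat.of A))) y 0 :=
    { v := fun _ => m, w := fun _ => y, spec := fun _ => hym, spec_succ := fun i => i.elim0,
      start_mem := rfl, last_eq := rfl }
  have hcod : Algz.codimPt (y : Spec (CommRingCat.of A)) m hym ≤ (n : ℕ∞) := by
    unfold Algz.codimPt
    refine Order.height_le fun s hs => ?_
    rw [← hn]
    let f : Set.Ici (Specialization.toEquiv (α := (Spec (CommRingCat.of A))) m) → (PrimeSpectrum A)ᵒᵈ :=
      fun q => OrderDual.toDual (CatDimFunLib.pr (Specialization.ofEquiv q.1))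
    have hf : StrictMono f := fun a b hab => by
      refine lt_of_le_of_ne ((CatDimFunLib.specializes_iff _ _).mp hab.le) (fun h => hab.ne ?_)
      exact Subtype.ext (congrArg Specialization.toEquiv (OrderDual.toDual.injective h))
    have := Order.length_le_height_last (p := s.map f hf)
    rw [LTSeries.last_map, hs] at this
    exact this
  have hle : Algz.deltaZ ({m} : Set (Spec (CommRingCat.of A))) y ≤ (n : ℕ∞) := by
    refine (iInf₂_le (0 : ℕ) S).trans ?_
    unfold Algz.DSystem.delta
    simp only [Nat.cast_zero, zero_add, Finset.univ_eq_empty, Finset.filter_empty, Finset.sum_empty, tsub_zero]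
    refine Finset.sup_le fun i _ => ?_
    refine (Finset.sum_le_sum_of_subset (Finset.filter_subset _ _)).trans ?_
    rw [Fin.sum_univ_one]
    exact hcod
  obtain ⟨k, hk⟩ := ENat.ne_top_iff_exists.mp (ne_top_of_le_ne_top (ENat.natCast_ne_top n) hle)
  have hZ : IsClosed ({m} : Set (Spec (CommRingCat.of A))) := IsLocalRing.isClosed_singleton_closedPoint A
  obtain ⟨z, hz, hzle⟩ := Groth.Agent.S8814.result (Spec (CommRingCat.of A)) {m} hZ _
    (CatDimFunLib.isDimFun hA) y k hk.symm
  obtain rfl : z = m := hz
  have hm0 : Order.coheight (CatDimFunLib.pr m) = 0 := CatDimFunLib.coheight_closedPoint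
  rw [hn, hm0] at hzle
  simp at hzle
  have hkn : k ≤ n := by rw [← hk] at hle; exact_mod_cast hle
  rw [hdim, show Algz.deltaZ ({IsLocalRing.closedPoint A} : Set (Spec (CommRingCat.of A))) y = (k : ℕ∞) from hk.symm,
    show k = n by omega]
  rfl

end Groth.Agent.S8815
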