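import Groth.Statements.S8816
import Mathlib
-- import your own Groth.Agent.* helpers here

set_option autoImplicit false
universe u
open CategoryTheory AlgebraicGeometry
open Algz

namespace Groth.Agent.S8816

/-- Let Y be a Noetherian scheme and Z ⊆ Y closed. Given points y_0, …, y_k and y'_0, …, y'_{k-1} of Y
with y_0 ∈ Z such that each y'_i specializes to y_{i+1} with y'_i ≠ y_{i+1}, and each y'_i ⤳ y_i is
an immediate specialization (y'_i ≠ y_i and no point strictly between), one has δ_Z(y_k) ≤ k. (The
published statement also allows y'_i = y_{i+1}. In that generality the bound needs catenarity: for a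
Noetherian local domain of dimension 3 having a saturated chain of primes (0) ⊂ 𝔭 ⊂ 𝔪 of length 2,
with Z the closed point and the pattern y_0 = 𝔪, y'_0 = y_1 = 𝔭, y'_1 = y_2 = (0), one has k = 2 but
δ_Z((0)) = 3. The published proof handles nontrivial specializations y'_i ⤳ y_{i+1}, for which the
closures of the y_i and y'_i form a system of value k, and reduces to that case by shortening the
chain, which does not preserve immediacy; this row states the case the proof establishes.) -/
theorem result (Y : Scheme.{u}) [IsNoetherian Y] (Z : Set Y) (hZ : IsClosed Z) (k : ℕ) (y : Fin (k + 1) → Y) (y' : Fin k → Y) (h0 : y 0 ∈ Z) (hdown : ∀ i : Fin k, y' i ⤳ y i.castSucc ∧ y' i ≠ y i.castSucc ∧ ∀ z : Y, y' i ⤳ z → z ⤳ y i.castSucc → z = y' i ∨ z = y i.castSucc) (hup : ∀ i : Fin k, y' i ⤳ y i.succ ∧ y' i ≠ y i.succ) : Algz.deltaZ Z (y (Fin.last k)) ≤ k := by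
  classical
  have hself : ∀ (v : Y) (h : v ⤳ v), Algz.codimPt v v h = 0 := by
    intro v h
    unfold Algz.codimPt
    rw [Order.height_eq_zero]
    intro z _
    exact z.2
  have hle1 : ∀ (w v : Y) (h : w ⤳ v), (∀ z : Y, w ⤳ z → z ⤳ v → z = w ∨ z = v) →
      Algz.codimPt w v h ≤ 1 := by
    intro w v h himm
    unfold Algz.codimPt
    refine Order.height_le (fun p hp => ?_)
    by_contra hlen
    rw [not_le] at hlen
    have hlen' : 1 < p.length := by exact_mod_cast hlen
    have key : ∀ i : Fin (p.length + 1), i < Fin.last p.length → Specialization.ofEquiv (p i).1 = v := by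
      intro i hi
      have h1 := p.strictMono hi
      have hlast : p (Fin.last p.length) = p.last := rfl
      rw [hlast, hp] at h1
      rcases himm (Specialization.ofEquiv (p i).1) h1.le (p i).2 with h2 | h2
      · exfalso
        apply h1.ne
        apply Subtype.ext
        show (p i).1 = Specialization.toEquiv w
        rw [← h2]; rfl
      · exact h2
    have h3 := key ⟨0, by omega⟩ (by simp [Fin.lt_def]; omega)
    have h4 := key ⟨1, by omega⟩ (by simp [Fin.lt_def]; omega)
    have h5 := p.strictMono (show (⟨0, by omega⟩ : Fin (p.length + 1)) < ⟨1, by omega⟩ by simp [Fin.lt_def])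
    apply h5.ne
    apply Subtype.ext
    exact Specialization.ofEquiv.injective (h3.trans h4.symm)
  have hge1 : ∀ (w v : Y) (h : w ⤳ v), w ≠ v → 1 ≤ Algz.codimPt w v h := by
    intro w v h hne
    unfold Algz.codimPt
    rw [ENat.one_le_iff_ne_zero, Ne, Order.height_eq_zero]
    intro hmin
    apply hne
    have h1 : v ⤳ w := hmin (b := ⟨Specialization.toEquiv v, Set.self_mem_Ici⟩) (show Specialization.toEquiv v ≤ Specialization.toEquiv w from h)
    exact (h.antisymm h1).eq
  let w : Fin (k + 1) → Y := Fin.lastCases (y (Fin.last k)) y'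
  have hwc : ∀ i : Fin k, w i.castSucc = y' i := fun i => Fin.lastCases_castSucc i
  have hwl : w (Fin.last k) = y (Fin.last k) := Fin.lastCases_last
  have hspec : ∀ i, w i ⤳ y i := by
    intro i
    induction i using Fin.lastCases with
    | last => rw [hwl]
    | cast i => rw [hwc]; exact (hdown i).1
  let S : Algz.DSystem Z (y (Fin.last k)) k :=
    { v := y, w := w, spec := hspec
      spec_succ := fun i => by rw [hwc]; exact (hup i).1
      start_mem := h0, last_eq := hwl }
  have hcongr : ∀ (w1 w2 v : Y) (e : w1 = w2) (h1 : w1 ⤳ v) (h2 : w2 ⤳ v),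
      Algz.codimPt w1 v h1 = Algz.codimPt w2 v h2 := by
    intro w1 w2 v e h1 h2; subst e; rfl
  refine iInf₂_le_of_le k S ?_
  unfold Algz.DSystem.delta
  refine le_of_le_of_eq (add_le_add_right (Finset.sup_le (a := 0) fun i _ => ?_) _) (add_zero _)
  rw [tsub_le_iff_right, zero_add, Finset.sum_filter, Finset.sum_filter, Fin.sum_univ_castSucc]
  have hl : (if i ≤ Fin.last k then S.c (Fin.last k) else 0) = 0 := by
    rw [if_pos (Fin.le_last i)]
    unfold Algz.DSystem.c
    rw [hcongr (S.w (Fin.last k)) (y (Fin.last k)) _ hwl _ (specializes_refl _)]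
    exact hself _ _
  rw [hl, add_zero]
  refine Finset.sum_le_sum fun j _ => ?_
  have hiff : i ≤ j.castSucc ↔ i.val ≤ j.val := Iff.rfl
  by_cases hij : i.val ≤ j.val
  · rw [if_pos (hiff.mpr hij), if_pos hij]
    unfold Algz.DSystem.c Algz.DSystem.b
    rw [hcongr (S.w j.castSucc) (y' j) _ (hwc j) _ (hdown j).1, hcongr (S.w j.castSucc) (y' j) _ (hwc j) _ (hup j).1]
    exact (hle1 _ _ _ (hdown j).2.2).trans (hge1 _ _ _ (hup j).2)
  · rw [if_neg (fun h => hij (hiff.mp h)), if_neg hij]

end Groth.Agent.S8816
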