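import Groth.Statements.S8817
import Mathlib
-- import your own Groth.Agent.* helpers here

set_option autoImplicit false
universe u
open CategoryTheory AlgebraicGeometry
open Algz

namespace Groth.Agent.S8817

/-- Let Y be a Noetherian scheme, Z ⊆ Y a closed subset and Y' ⊆ Y an open subscheme. For a point y' of
Y' the distance function of Y' relative to Y' ∩ Z at y' is at least the distance function of Y
relative to Z at y'. -/
theorem result (Y : Scheme.{u}) [IsNoetherian Y] (Z : Set Y) (hZ : IsClosed Z) (Y' : Y.Opens) (y' : (↑Y' : Scheme.{u})) : Algz.deltaZ Z (Y'.ι.base y') ≤ Algz.deltaZ ((fun x : (↑Y' : Scheme.{u}) => Y'.ι.base x) ⁻¹' Z) y' := by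
  refine le_iInf fun k => le_iInf fun S => iInf_le_of_le k ?_
  have hopen : ∀ {a b : Y}, a ⤳ b → b ∈ Y' → a ∈ Y' := fun h hb => h.mem_open Y'.2 hb
  let S' : Algz.DSystem Z (Y'.ι.base y') k :=
    { v := fun i => Y'.ι.base (S.v i)
      w := fun i => Y'.ι.base (S.w i)
      spec := fun i => (S.spec i).map Y'.ι.continuous
      spec_succ := fun i => (S.spec_succ i).map Y'.ι.continuous
      start_mem := S.start_mem
      last_eq := congrArg _ S.last_eq }
  refine iInf_le_of_le S' ?_
  have hind := Y'.ι.isEmbedding.isInducing
  have hcod : ∀ (w v : (↑Y' : Scheme.{u})) (h : w ⤳ v) (h' : Y'.ι.base w ⤳ Y'.ι.base v),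
      Algz.codimPt (Y'.ι.base w) (Y'.ι.base v) h' = Algz.codimPt w v h := by
    intro w v h h'
    let e : Set.Ici (Specialization.toEquiv v) ≃o Set.Ici (Specialization.toEquiv (Y'.ι.base v)) :=
      { toFun := fun x => ⟨Specialization.toEquiv (Y'.ι.base (Specialization.ofEquiv x.1)),
          Specialization.toEquiv_le_toEquiv.mpr ((Specialization.toEquiv_le_toEquiv.mp x.2).map Y'.ι.continuous)⟩
        invFun := fun x => ⟨Specialization.toEquiv (⟨Specialization.ofEquiv x.1,
            hopen (Specialization.toEquiv_le_toEquiv.mp x.2) v.2⟩ : (↑Y' : Scheme.{u})),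
          Specialization.toEquiv_le_toEquiv.mpr (hind.specializes_iff.1
            (Specialization.toEquiv_le_toEquiv.mp x.2))⟩
        left_inv := fun x => rfl
        right_inv := fun x => rfl
        map_rel_iff' := fun {a b} => by
          constructor
          · intro hab
            exact Specialization.toEquiv_le_toEquiv.mpr (hind.specializes_iff.1
              (Specialization.toEquiv_le_toEquiv.mp hab))
          · intro hab
            exact Specialization.toEquiv_le_toEquiv.mpr
              ((Specialization.toEquiv_le_toEquiv.mp (Subtype.coe_le_coe.2 hab)).map Y'.ι.continuous) }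
    exact Order.height_orderIso e ⟨Specialization.toEquiv w, Specialization.toEquiv_le_toEquiv.mpr h⟩
  have hc : ∀ i, S'.c i = S.c i := fun i => hcod _ _ (S.spec i) _
  have hb : ∀ i, S'.b i = S.b i := fun i => hcod _ _ (S.spec_succ i) _
  simp only [Algz.DSystem.delta, hc, hb, le_refl]

end Groth.Agent.S8817
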