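import Groth.Statements.S8819
import Groth.Agent.IdealTransLib.CdOne

set_option autoImplicit false
universe u
open scoped BigOperators
open LocCoh

namespace Groth.Agent.S8819

/-- Let A be a Noetherian ring, f_1, …, f_r ∈ A and I = (f_1, …, f_r) with cd(A, I) = 1; let c ≥ 1 and
let φ_j : I^c → A be A-linear maps with x = Σ_j f_j φ_j(x) for all x ∈ I^c. Under these assumptions,
exactly one homomorphism of graded A-algebras, from ⊕_{n ≥ 0} I^{nc} into the polynomial ring A[T_1,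
…, T_r], exists that sends each g ∈ I^c to Σ_j φ_j(g) T_j; call it Φ. Here Φ is encoded by functions
Φ_n : A → A[T_1, …, T_r] whose values on I^{nc} are A-linear, homogeneous of degree n,
multiplicative (Φ_{n+m}(gh) = Φ_n(g)Φ_m(h)), with Φ_0 the structure map and Φ_1 as prescribed;
uniqueness is asserted for the values on the I^{nc}. Moreover substituting T_j ↦ f_j in Φ_n(g) gives
back g for every g ∈ I^{nc}. -/
theorem result (A : Type u) [CommRing A] [IsNoetherianRing A] (r : ℕ) (f : Fin r → A) (I : Ideal A) (hI : I = Ideal.span (Set.range f)) (h1 : LocCoh.CdLE A I 1) (h0 : ¬ LocCoh.CdLE A I 0) (c : ℕ) (hc : 1 ≤ c) (φ : Fin r → (↥(I ^ c) →ₗ[A] A)) (hφ : ∀ x : ↥(I ^ c), (x : A) = ∑ j, f j * φ j x) : ∃ Φ : ℕ → A → MvPolynomial (Fin r) A, (((∀ n : ℕ, ∀ g ∈ I ^ (n * c), ∀ h ∈ I ^ (n * c), Φ n (g + h) = Φ n g + Φ n h) ∧ (∀ (n : ℕ) (a : A), ∀ g ∈ I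 ^ (n * c), Φ n (a * g) = a • Φ n g) ∧ (∀ n : ℕ, ∀ g ∈ I ^ (n * c), (Φ n g).IsHomogeneous n) ∧ (∀ n m : ℕ, ∀ g ∈ I ^ (n * c), ∀ h ∈ I ^ (m * c), Φ (n + m) (g * h) = Φ n g * Φ m h) ∧ (∀ a : A, Φ 0 a = MvPolynomial.C a) ∧ (∀ (g : A) (hg : g ∈ I ^ c), Φ 1 g = ∑ j, MvPolynomial.C (φ j ⟨g, hg⟩) * MvPolynomial.X j)) ∧ ∀ n : ℕ, ∀ g ∈ I ^ (n * c), MvPolynomial.aeval f (Φ n g) = g) ∧ ∀ Ψ : ℕ → A → MvPolynomial (Fin r) A, ((∀ n : ℕ, ∀ g ∈ I ^ (n * c), ∀ h ∈ I ^ (n * c), Ψ n (g + h) = Ψ n g + Ψ n h) ∧ (∀ (n : ℕ) (a : A), ∀ g ∈ I ^ (n * c), Ψ n (a * g) = a • Ψ n g) ∧ (∀ n : ℕ, ∀ g ∈ I ^ (n * c), (Ψ n g).IsHomogeneous n) ∧ (∀ n m : ℕ, ∀ g ∈ I ^ (n * c), ∀ h ∈ I ^ (m * c), Ψ (n + m) (g * h) = Ψ n g * Ψ m h) ∧ (∀ a : A, Ψ 0 a = MvPolynomial.C a) ∧ (∀ (g : A) (hg : g ∈ I ^ c), Ψ 1 g = ∑ j, MvPolynomial.C (φ j ⟨g, hg⟩) * MvPolynomial.X j)) → ∀ n : ℕ, ∀ g ∈ I ^ (n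 * c), Ψ n g = Φ n g := by
  open IdealTransLib in
  classical
  refine ⟨fun n g => if h : g ∈ I ^ (n * c) then P φ n ⟨g, h⟩ else 0, ⟨⟨?_, ?_, ?_, ?_, ?_, ?_⟩, ?_⟩, fun Ψ hΨ n g hg => ?_⟩
  · intro n g hg h hh
    simp only [dif_pos hg, dif_pos hh, dif_pos (add_mem hg hh)]
    exact map_add (P φ n) ⟨g, hg⟩ ⟨h, hh⟩
  · intro n a g hg
    simp only [dif_pos hg, dif_pos (Ideal.mul_mem_left _ a hg)]
    exact (P φ n).map_smul a ⟨g, hg⟩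
  · intro n g hg
    simp only [dif_pos hg]
    exact P_homogeneous φ n _
  · intro n m g hg h hh
    have hgh : g * h ∈ I ^ ((n + m) * c) := by rw [add_mul, pow_add]; exact Ideal.mul_mem_mul hg hh
    simp only [dif_pos hg, dif_pos hh, dif_pos hgh]
    exact P_mul φ n m g h hg hh hgh
  · intro a
    have h0 : a ∈ I ^ (0 * c) := by rw [Nat.zero_mul, pow_zero, Ideal.one_eq_top]; trivial
    simp only [dif_pos h0]
    rfl
  · intro g hg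
    have h1 : g ∈ I ^ ((0 + 1) * c) := by rwa [Nat.zero_add, Nat.one_mul]
    show (if h : g ∈ I ^ ((0 + 1) * c) then P φ (0 + 1) ⟨g, h⟩ else 0) = _
    rw [dif_pos h1, P_succ]
    refine Finset.sum_congr rfl fun j _ => ?_
    show MvPolynomial.X j * MvPolynomial.C (φ j ⟨g, _⟩) = _
    exact mul_comm _ _
  · intro n g hg
    simp only [dif_pos hg]
    exact aeval_P φ f hφ n _
  · simp only [dif_pos hg]
    exact eq_P φ ⟨hΨ.1, hΨ.2.1, hΨ.2.2.2.1, hΨ.2.2.2.2.1, hΨ.2.2.2.2.2⟩ n g hg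

end Groth.Agent.S8819
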