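import Groth.Statements.S8820
import Groth.Agent.DeltaDimLib.Basic
-- import your own Groth.Agent.* helpers here

set_option autoImplicit false
set_option maxHeartbeats 2000000
set_option backward.isDefEq.respectTransparency false
universe u
open CategoryTheory AlgebraicGeometry Limits
open Algz

namespace Groth.Agent.S8820

open Finset in
/-- Telescoping of a system of relations between partial alternating sums. -/
theorem telescope {k : ℕ} (c' b' : ℕ → ℕ) (c b : ℕ → ℕ) (s t : ℕ → ℕ)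
    (hc : ∀ j ≤ k, c' j + s j = c j + t j) (hb : ∀ j < k, b' j + s (j + 1) = b j + t j) :
    ∀ d ≤ k, (∑ j ∈ Icc (k - d) k, c' j) + (∑ j ∈ Ico (k - d) k, b j) + s (k - d) =
      (∑ j ∈ Icc (k - d) k, c j) + (∑ j ∈ Ico (k - d) k, b' j) + t k := by
  intro d
  induction d with
  | zero => intro _; simpa using hc k le_rfl
  | succ d ih =>
    intro hd
    have := ih (by omega)
    have e : k - d = k - (d + 1) + 1 := by omega
    rw [e] at this
    rw [Finset.Icc_eq_cons_Ioc (show k - (d + 1) ≤ k by omega), Finset.sum_cons, Finset.sum_cons,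
      ← Finset.Icc_add_one_left_eq_Ioc, Finset.sum_eq_sum_Ico_succ_bot (show k - (d + 1) < k by omega),
      Finset.sum_eq_sum_Ico_succ_bot (show k - (d + 1) < k by omega)]
    have h1 := hc (k - (d + 1)) (by omega)
    have h2 := hb (k - (d + 1)) (by omega)
    omega

theorem sum_filter_c (k : ℕ) (i : Fin (k + 1)) (g : ℕ → ℕ) :
    ∑ j ∈ Finset.univ.filter (fun j : Fin (k + 1) => i ≤ j), ((g j : ℕ) : ℕ∞) =
      ((∑ j ∈ Finset.Icc i.val k, g j : ℕ) : ℕ∞) := by
  push_cast
  refine Finset.sum_bij (fun j _ => j.val) ?_ ?_ ?_ ?_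
  · intro j hj
    simp only [Finset.mem_filter, Finset.mem_univ, true_and, Fin.le_def] at hj
    simp only [Finset.mem_Icc]
    omega
  · intro a _ b _ h; exact Fin.ext h
  · intro n hn
    simp only [Finset.mem_Icc] at hn
    exact ⟨⟨n, by omega⟩, Finset.mem_filter.2 ⟨Finset.mem_univ _, hn.1⟩, rfl⟩
  · intro j _; rfl

theorem sum_filter_b (k : ℕ) (i : Fin (k + 1)) (g : ℕ → ℕ) :
    ∑ j ∈ Finset.univ.filter (fun j : Fin k => i.val ≤ j.val), ((g j : ℕ) : ℕ∞) =
      ((∑ j ∈ Finset.Ico i.val k, g j : ℕ) : ℕ∞) := by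
  push_cast
  refine Finset.sum_bij (fun j _ => j.val) ?_ ?_ ?_ ?_
  · intro j hj
    simp only [Finset.mem_filter, Finset.mem_univ, true_and] at hj
    simp only [Finset.mem_Ico]
    omega
  · intro a _ b _ h; exact Fin.ext h
  · intro n hn
    simp only [Finset.mem_Ico] at hn
    exact ⟨⟨n, hn.2⟩, Finset.mem_filter.2 ⟨Finset.mem_univ _, hn.1⟩, rfl⟩
  · intro j _; rfl


/-- Let Y be a universally catenary Noetherian scheme (every local ring universally catenary), Z ⊆ Y a
closed subset, f : Y' → Y a morphism of finite type from a Noetherian scheme all of whose fibres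
have dimension at most e, and Z' = f⁻¹(Z). Then for every point y' of Y' with image y, if the
residue field extension κ(y')/κ(y) has transcendence degree t, one has δ_Z(y) + t ≤ δ_{Z'}(y') + e
(equivalently δ_Z(y) ≤ δ_{Z'}(y') + e − t; written without subtraction). -/
theorem result (Y Y' : Scheme.{u}) [IsNoetherian Y] [IsNoetherian Y'] (hY : ∀ y : Y, CAlg.IsUniversallyCatenary (Y.presheaf.stalk y)) (Z : Set Y) (hZ : IsClosed Z) (f : Y' ⟶ Y) [LocallyOfFiniteType f] (e : ℕ) (hfib : ∀ y : Y, topologicalKrullDim ↑(pullback f (Y.fromSpecResidueField y)) ≤ (e : WithBot ℕ∞)) (y' : Y') (t : ℕ) (ht : @Algebra.trdeg (Y.residueField (f.base y')) (Y'.residueField y') _ _ (f.residueFieldMap y').hom.toAlgebra = t) : Algz.deltaZ Z (f.base y') + t ≤ Algz.deltaZ (f.base ⁻¹' Z) y' + e := by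
  have hT : ∀ a : Y', ∃ n : ℕ, Cardinal.toENat (Dual3.resTrdeg f a) = n ∧ n ≤ e := fun a => by
    have h := DeltaDimLib.toENat_resTrdeg_le f a (e := e) (hfib (f a))
    obtain ⟨n, hn⟩ := ENat.ne_top_iff_exists.1 (ne_top_of_le_ne_top (ENat.natCast_ne_top e) h)
    exact ⟨n, hn.symm, by rw [← hn] at h; exact_mod_cast h⟩
  choose T hT hTe using hT
  have hty : T y' = t := by
    have h := hT y'
    rw [show Dual3.resTrdeg f y' = t from ht, Cardinal.toENat_nat] at h
    exact_mod_cast h.symm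
  show Algz.deltaZ Z (f y') + (t : ℕ∞) ≤ _
  simp only [Algz.deltaZ, ENat.iInf_add]
  refine le_iInf fun k => le_iInf fun S => ?_
  let S' : Algz.DSystem Z (f y') k :=
    { v := fun i => f (S.v i), w := fun i => f (S.w i), spec := fun i => (S.spec i).map f.continuous,
      spec_succ := fun i => (S.spec_succ i).map f.continuous, start_mem := S.start_mem,
      last_eq := congrArg (fun z => f z) S.last_eq }
  refine le_trans (iInf₂_le k S') ?_
  choose c' hc' hdc' using fun i => DeltaDimLib.exists_codimPt_eq_nat (S.spec i)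
  choose b' hb' hdb' using fun i => DeltaDimLib.exists_codimPt_eq_nat (S.spec_succ i)
  choose c hc hdc using fun i => DeltaDimLib.exists_codimPt_eq_nat (S'.spec i)
  choose b hb hdb using fun i => DeltaDimLib.exists_codimPt_eq_nat (S'.spec_succ i)
  let C (g : Fin (k + 1) → ℕ) (j : ℕ) : ℕ := if h : j < k + 1 then g ⟨j, h⟩ else 0
  let B (g : Fin k → ℕ) (j : ℕ) : ℕ := if h : j < k then g ⟨j, h⟩ else 0
  have htel := telescope (k := k) (C c') (B b') (C c) (B b) (C fun i => T (S.v i)) (C fun i => T (S.w i))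
    (fun j hj => by
      simp only [C, dif_pos (Nat.lt_succ_of_le hj)]
      exact DeltaDimLib.dimBetween_add_trdeg f (S.spec _) (hY _) (hdc' _) (hdc _) (hT _) (hT _))
    (fun j hj => by
      simp only [C, B, dif_pos hj, dif_pos (show j + 1 < k + 1 by omega), dif_pos (show j < k + 1 by omega)]
      exact DeltaDimLib.dimBetween_add_trdeg f (S.spec_succ ⟨j, hj⟩) (hY _) (hdb' _) (hdb _) (hT _) (hT _))
  have hk : C (fun i => T (S.w i)) k = t := by
    show dite _ _ _ = _
    rw [dif_pos (Nat.lt_succ_self k)]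
    show T (S.w (Fin.last k)) = t
    rw [S.last_eq, hty]
  have hsum : ∀ (i : Fin (k + 1)) (Y₀ : Type u) [TopologicalSpace Y₀] (Z₀ : Set Y₀) (y₀ : Y₀) (S₀ : Algz.DSystem Z₀ y₀ k)
      (g : Fin (k + 1) → ℕ) (h : Fin k → ℕ), (∀ i, S₀.c i = g i) → (∀ i, S₀.b i = h i) →
      (∑ j ∈ Finset.univ.filter (fun j : Fin (k + 1) => i ≤ j), S₀.c j) -
        (∑ j ∈ Finset.univ.filter (fun j : Fin k => i.val ≤ j.val), S₀.b j) =
      (((∑ j ∈ Finset.Icc i.val k, C g j) - (∑ j ∈ Finset.Ico i.val k, B h j) : ℕ) : ℕ∞) := by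
    intro i Y₀ _ Z₀ y₀ S₀ g h hg hh
    rw [ENat.natCast_sub, ← sum_filter_c, ← sum_filter_b]
    congr 1
    · exact Finset.sum_congr rfl fun j _ => by simp only [C, dif_pos j.isLt, hg]
    · exact Finset.sum_congr rfl fun j _ => by simp only [B, dif_pos j.isLt, hh]
  let D : Fin (k + 1) → ℕ := fun i => (∑ j ∈ Finset.Icc i.val k, C c j) - (∑ j ∈ Finset.Ico i.val k, B b j)
  let D' : Fin (k + 1) → ℕ := fun i => (∑ j ∈ Finset.Icc i.val k, C c' j) - (∑ j ∈ Finset.Ico i.val k, B b' j)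
  have hdS : ∀ (Y₀ : Type u) [TopologicalSpace Y₀] (Z₀ : Set Y₀) (y₀ : Y₀) (S₀ : Algz.DSystem Z₀ y₀ k) (g : Fin (k + 1) → ℕ)
      (h : Fin k → ℕ), (∀ i, S₀.c i = g i) → (∀ i, S₀.b i = h i) → S₀.delta = ((k + Finset.univ.sup fun i : Fin (k + 1) =>
        (∑ j ∈ Finset.Icc i.val k, C g j) - (∑ j ∈ Finset.Ico i.val k, B h j) : ℕ) : ℕ∞) := by
    intro Y₀ _ Z₀ y₀ S₀ g h hg hh
    rw [Algz.DSystem.delta, Nat.cast_add, Finset.apply_sup_eq_sup_comp ((↑) : ℕ → ℕ∞) (fun a b => (Nat.mono_cast (α := ℕ∞)).map_max) Nat.cast_zero]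
    congr 1
    exact Finset.sup_congr rfl fun i _ => hsum i Y₀ Z₀ y₀ S₀ g h hg hh
  rw [hdS _ _ _ S' c b hc hb, hdS _ _ _ S c' b' hc' hb']
  norm_cast
  show k + Finset.univ.sup D + t ≤ k + Finset.univ.sup D' + e
  obtain ⟨i, -, hi⟩ := Finset.exists_mem_eq_sup Finset.univ Finset.univ_nonempty D
  rw [hi]
  have h1 := Finset.le_sup (f := D') (Finset.mem_univ i)
  have h2 := htel (k - i.val) (by omega)
  rw [show k - (k - i.val) = i.val by omega, hk] at h2
  have h3 : C (fun i => T (S.v i)) i.val ≤ e := by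
    simp only [C, dif_pos i.isLt]; exact hTe _
  have h4 := htel 0 (Nat.zero_le k)
  have hlast := Finset.le_sup (f := D') (Finset.mem_univ (Fin.last k))
  have h5 : C (fun i => T (S.v i)) k ≤ e := by
    simp only [C, dif_pos (Nat.lt_succ_self k)]; exact hTe _
  rw [Nat.sub_zero, hk] at h4
  simp only [D, D', Fin.val_last] at h1 hlast ⊢
  simp only [Finset.Ico_self, Finset.sum_empty, Nat.sub_zero, add_zero] at hlast h4
  omega

end Groth.Agent.S8820
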