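import Groth.Statements.S8823
import Groth.Agent.ApproxLib.EtaleLift
import Groth.Agent.TransLib.Popescu
import Groth.Agent.AdicRingLib.Completion
import Groth.Agent.S0600
import Groth.Agent.S0599

set_option autoImplicit false
universe u
open AdicRing
open scoped TensorProduct

namespace Groth.Agent.S8823

/-- Let A be a Noetherian G-ring and I an ideal of A. Let B and C be A-algebras of finite type, φ an
A-algebra map from the IB-adic completion of B to the IC-adic completion of C, and N ≥ 1. Then one
can find an etale C-algebra C' for which the induced map C/IC → C'/IC' is a bijection, together with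
a homomorphism of A-algebras ψ : B → C' that approximates φ to order N: given any b ∈ B, some c ∈ C
satisfies ψ(b) − c ∈ I^N C', while the image of φ(b) in C/I^N C (the N-th truncation of the
completion) coincides with the class of c. -/
theorem result (A : Type u) [CommRing A] (hA : CAlg.IsGRing A) (I : Ideal A) (B C : Type u) [CommRing B] [Algebra A B] [Algebra.FiniteType A B] [CommRing C] [Algebra A C] [Algebra.FiniteType A C] (φ : (AdicCompletion (I.map (algebraMap A B)) B) →ₐ[A] (AdicCompletion (I.map (algebraMap A C)) C)) (N : ℕ) (hN : 1 ≤ N) : ∃ (C' : Type u) (_ : CommRing C') (_ : Algebra C C') (_ : Algebra A C') (_ : IsScalarTower A C C') (_ : Algebra.Etale C C') (ψ : B →ₐ[A] C'), ((∀ c' : C', ∃ c : C, algebraMap C C' c - c' ∈ I.map (algebraMap A C')) ∧ ∀ c : C, algebraMap C C' c ∈ I.map (algebraMap A C') → c ∈ I.map (algebraMap A C)) ∧ ∀ b : B, ∃ c : C, ψ b - algebraMap C C' c ∈ (I.map (algebraMap A C')) ^ N ∧ AdicCompletion.eval (I.map (algebraMap A C)) C N (φ (AdicCompletion.of (I.map (algebraMap A B)) B b)) = Submodule.Quotient.mk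 c := by
  have hAn : IsNoetherianRing A := hA.1
  have hC : CAlg.IsGRing C := Groth.Agent.S0599.result A hA C
  have hCn : IsNoetherianRing C := hC.1
  let J : Ideal C := I.map (algebraMap A C)
  let T := AdicCompletion J C
  have : IsNoetherianRing T := AdicRingLib.isNoetherianRing_adicCompletion J
  have : Algebra.FinitePresentation A B := Algebra.FinitePresentation.of_finiteType.1 inferInstance
  let K := I.map (algebraMap A B)
  let f₀ : B →ₐ[A] T := φ.comp (IsScalarTower.toAlgHom A B (AdicCompletion K B))
  let f : C ⊗[A] B →ₐ[C] T := Algebra.TensorProduct.lift (Algebra.ofId C T) f₀ fun _ _ => Commute.all _ _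
  obtain ⟨S, _, _, hS, g, h, hgh⟩ :=
    TransLib.indSmooth_of_isRegularHom (Groth.Agent.S0600.result C hC J) (C ⊗[A] B) inferInstance f
  let σ : S →ₐ[C] C ⧸ J ^ N := (AdicCompletion.evalₐ J N).comp h
  obtain ⟨C', _, _, hC', hsurj, hinj, ρ, hρ⟩ := ApproxLib.exists_etale_lift J hN σ
  letI : Algebra A C' := ((algebraMap C C').comp (algebraMap A C)).toAlgebra
  haveI : IsScalarTower A C C' := IsScalarTower.of_algebraMap_eq fun _ => rfl
  have hI : I.map (algebraMap A C') = J.map (algebraMap C C') := by
    rw [IsScalarTower.algebraMap_eq A C C', ← Ideal.map_map]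
  refine ⟨C', inferInstance, inferInstance, inferInstance, inferInstance, hC',
    ((ρ.comp g).restrictScalars A).comp Algebra.TensorProduct.includeRight, ⟨fun x => ?_, fun c hc => ?_⟩, fun b => ?_⟩
  · obtain ⟨c, hc⟩ := hsurj x
    refine ⟨c, ?_⟩
    rw [hI, ← neg_sub]
    exact neg_mem hc
  · rw [hI] at hc
    exact hinj c hc
  · obtain ⟨c, hc⟩ := Submodule.Quotient.mk_surjective _ (AdicCompletion.eval J C N (φ (AdicCompletion.of K B b)))
    refine ⟨c, ?_, hc.symm⟩
    rw [hI]
    refine hρ (g ((1 : C) ⊗ₜ[A] b)) c ?_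
    show Ideal.Quotient.mk (J ^ N) c = AdicCompletion.evalₐ J N (h (g ((1 : C) ⊗ₜ[A] b)))
    have h1 : h (g ((1 : C) ⊗ₜ[A] b)) = φ (AdicCompletion.of K B b) := by
      refine (DFunLike.congr_fun hgh _).trans ?_
      show Algebra.TensorProduct.lift (Algebra.ofId C T) f₀ _ ((1 : C) ⊗ₜ[A] b) = _
      rw [Algebra.TensorProduct.lift_tmul, map_one, one_mul]
      rfl
    rw [h1, ← AdicCompletion.factor_eval_eq_evalₐ J (φ (AdicCompletion.of K B b)) Ideal.mul_le_left, ← hc]
    rfl

end Groth.Agent.S8823
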