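import Groth.Statements.S8831
import Groth.Agent.KoszLcLib.CohPunctured

set_option autoImplicit false
universe u
open CategoryTheory AlgebraicGeometry Opposite
open LocCoh

namespace Groth.Agent.S8831

theorem smulAb_comm {X : Scheme.{u}} {M N : X.Modules} (φ : M ⟶ N) (r : Coh.Γtop X) :
    Coh.smulAb M r ≫ (SheafOfModules.toSheaf _).map φ = (SheafOfModules.toSheaf _).map φ ≫ Coh.smulAb N r := by
  ext U m
  exact φ.app_smul (Coh.resTop X U r) m

theorem main (A : Type u) [CommRing A] (X : Scheme.{u}) [X.Over (Spec (CommRingCat.of A))]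
    (G : ℕᵒᵖ ⥤ X.Modules) (i n : ℕ) [IsArtinian A (Coh.HH X (G.obj (op n)) i)] :
    ∃ (r : ℕ) (hnr : n ≤ r), ∀ (s : ℕ) (hrs : r ≤ s),
      Set.range (Sheaf.H.map ((SheafOfModules.toSheaf _).map (G.map (homOfLE (hnr.trans hrs : n ≤ s)).op)) i) =
        Set.range (Sheaf.H.map ((SheafOfModules.toSheaf _).map (G.map (homOfLE (hnr : n ≤ r)).op)) i) := by
  let τ : ∀ (k : ℕ), Coh.toAb (G.obj (op (n + k))) ⟶ Coh.toAb (G.obj (op n)) := fun k =>
    (SheafOfModules.toSheaf _).map (G.map (homOfLE (Nat.le_add_right n k)).op)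
  let r : A →+* Coh.Γtop X := Coh.toGlobal (X ↘ Spec (CommRingCat.of A))
  have key : ∀ (k : ℕ) (a : A) (x : Coh.HH X (G.obj (op (n + k))) i),
      Sheaf.H.map (τ k) i (Sheaf.H.map (Coh.smulAb (G.obj (op (n + k))) (r a)) i x) =
        Sheaf.H.map (Coh.smulAb (G.obj (op n)) (r a)) i (Sheaf.H.map (τ k) i x) := fun k a x =>
    ((Sheaf.H.map_comp_apply _ _ _).symm.trans (congrArg (fun t => Sheaf.H.map t i x)
      (smulAb_comm (G.map (homOfLE (Nat.le_add_right n k)).op) (r a)))).trans (Sheaf.H.map_comp_apply _ _ _)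
  let L : ∀ (k : ℕ), Coh.HH X (G.obj (op (n + k))) i →ₗ[A] Coh.HH X (G.obj (op n)) i := fun k =>
    { toFun := Sheaf.H.map (τ k) i
      map_add' := map_add _
      map_smul' := key k }
  let R : ℕ →o (Submodule A (Coh.HH X (G.obj (op n)) i))ᵒᵈ :=
    ⟨fun k => OrderDual.toDual (LinearMap.range (L k)), fun k l hkl => by
      show LinearMap.range (L l) ≤ LinearMap.range (L k)
      rintro _ ⟨x, rfl⟩
      refine ⟨Sheaf.H.map ((SheafOfModules.toSheaf _).map (G.map (homOfLE (Nat.add_le_add_left hkl n)).op)) i x, ?_⟩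
      exact (Sheaf.H.map_comp_apply _ _ _).symm.trans (congrArg (fun t => Sheaf.H.map t i x)
        (((SheafOfModules.toSheaf _).map_comp _ _).symm.trans (congrArg (SheafOfModules.toSheaf _).map
          ((G.map_comp _ _).symm.trans rfl))))⟩
  obtain ⟨k, hk⟩ := IsArtinian.monotone_stabilizes R
  refine ⟨n + k, Nat.le_add_right n k, fun s hs => ?_⟩
  obtain ⟨l, rfl⟩ := Nat.exists_eq_add_of_le ((Nat.le_add_right n k).trans hs)
  exact congrArg (SetLike.coe (A := Submodule A (Coh.HH X (G.obj (op n)) i))) (hk l (Nat.le_of_add_le_add_left hs)).symm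

/-- Let (A, m) be a Noetherian local ring and U = Spec A ∖ {m} the punctured spectrum. Suppose we are
given a system (F_n), indexed inversely by n, of coherent modules on U. In each positive degree i,
the cohomology groups H^i(U, F_n) then form a Mittag-Leffler system; concretely, given any n one can
find r ≥ n such that for all s ≥ r the image of H^i(U, F_s) → H^i(U, F_n) equals the image of H^i(U,
F_r) → H^i(U, F_n). -/
theorem result (A : Type u) [CommRing A] [IsNoetherianRing A] [IsLocalRing A] (G : ℕᵒᵖ ⥤ (↑(LocCoh.puncturedOpen A (IsLocalRing.maximalIdeal A)) : Scheme.{u}).Modules) (hG : ∀ n : ℕᵒᵖ, Coh.IsCoh (G.obj n)) (i : ℕ) (hi : 0 < i) (n : ℕ) : ∃ (r : ℕ) (hnr : n ≤ r), ∀ (s : ℕ) (hrs : r ≤ s), Set.range (Sheaf.H.map ((SheafOfModules.toSheaf _).map (G.map (homOfLE (hnr.trans hrs : n ≤ s)).op)) i) = Set.range (Sheaf.H.map ((SheafOfModules.toSheaf _).map (G.map (homOfLE (hnr : n ≤ r)).op)) i) := by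
  obtain ⟨q, rfl⟩ := Nat.exists_eq_succ_of_ne_zero hi.ne'
  have := KoszLcLib.isArtinian_HH (G.obj (op n)) (hG _) q
  exact main A _ G (q + 1) n

end Groth.Agent.S8831
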