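import Groth.Statements.S8833
import Groth.Agent.IdealTransLib.CdOne

set_option autoImplicit false
universe u
open scoped BigOperators TensorProduct
open LocCoh

namespace Groth.Agent.S8833

/-- Let A be a Noetherian ring, f_1, …, f_r ∈ A and I = (f_1, …, f_r) with cd(A, I) = 1; let c ≥ 1 and
φ_j : I^c → A be A-linear maps with x = Σ_j f_j φ_j(x) for all x ∈ I^c. Let B be a Noetherian
A-algebra and N a finite B-module. Then there is c' ≥ c with the following property. Write φ_j again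
for the restrictions of the φ_j to I^{c'} and let Φ be a graded A-algebra homomorphism from ⊕_{n ≥
0} I^{nc'} to A[T_1, …, T_r] with Φ(g) = Σ_j φ_j(g) T_j for g ∈ I^{c'} (there is exactly one; it is
encoded by functions Φ_n : A → A[T_1, …, T_r] whose values on I^{nc'} are additive, A-homogeneous,
homogeneous of degree n and multiplicative across degrees, with Φ_0 the structure map and Φ_1 as
prescribed). Then for every n there is a unique B-linear map Ψ_n from the submodule I^{nc'}N of N to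
N[T_1, …, T_r] = B[T_1, …, T_r] ⊗_B N with Ψ_n(g x) = Φ_n(g) ⊗ x for g ∈ I^{nc'} and x ∈ N; that is,
the Ψ_n form the unique graded B-module map from ⊕_n I^{nc'}N to N[T_1, …, T_r] with this property.
Moreover substituting T_j ↦ f_j after Ψ_n gives back the inclusion of I^{nc'}N into N. -/
theorem result (A : Type u) [CommRing A] [IsNoetherianRing A] (r : ℕ) (f : Fin r → A) (I : Ideal A) (hI : I = Ideal.span (Set.range f)) (h1 : LocCoh.CdLE A I 1) (h0 : ¬ LocCoh.CdLE A I 0) (c : ℕ) (hc : 1 ≤ c) (φ : Fin r → (↥(I ^ c) →ₗ[A] A)) (hφ : ∀ x : ↥(I ^ c), (x : A) = ∑ j, f j * φ j x) (B : Type u) [CommRing B] [Algebra A B] [IsNoetherianRing B] (N : Type u) [AddCommGroup N] [Module B N] [Module.Finite B N] : ∃ c' : ℕ, ∃ hcc' : c ≤ c', ∀ Φ : ℕ → A → MvPolynomial (Fin r) A, ((∀ n : ℕ, ∀ g ∈ I ^ (n * c'), ∀ h ∈ I ^ (n * c'), Φ n (g + h) = Φ n g + Φ n h) ∧ (∀ (n : ℕ) (a : A), ∀ g ∈ I ^ (n * c'), Φ n (a *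 g) = a • Φ n g) ∧ (∀ n : ℕ, ∀ g ∈ I ^ (n * c'), (Φ n g).IsHomogeneous n) ∧ (∀ n m : ℕ, ∀ g ∈ I ^ (n * c'), ∀ h ∈ I ^ (m * c'), Φ (n + m) (g * h) = Φ n g * Φ m h) ∧ (∀ a : A, Φ 0 a = MvPolynomial.C a) ∧ (∀ (g : A) (hg : g ∈ I ^ c'), Φ 1 g = ∑ j, MvPolynomial.C (φ j ⟨g, Ideal.pow_le_pow_right hcc' hg⟩) * MvPolynomial.X j)) → ∀ n : ℕ, ∃ Ψ : ↥(Submodule.span B {y : N | ∃ g ∈ I ^ (n * c'), ∃ x : N, y = algebraMap A B g • x}) →ₗ[B] (MvPolynomial (Fin r) B ⊗[B] N), (∀ (g : A) (hg : g ∈ I ^ (n * c')) (x : N), Ψ ⟨algebraMap A B g • x, Submodule.subset_span ⟨g, hg, x, rfl⟩⟩ = MvPolynomial.map (algebraMap A B) (Φ n g) ⊗ₜ[B] x) ∧ (∀ y : ↥(Submodule.span B {y : N | ∃ g ∈ I ^ (n * c'), ∃ x : N, y = algebraMap A B g • x}), TensorProduct.lift ((LinearMap.lsmul B N).comp (MvPolynomial.aeval (fun j ↦ algebraMap A B (f j))).toLinearMap) (Ψ y) = (y : N)) ∧ (∀ Ψ' : ↥(Submodule.span B {y : N | ∃ g ∈ I ^ (n * c'),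 ∃ x : N, y = algebraMap A B g • x}) →ₗ[B] (MvPolynomial (Fin r) B ⊗[B] N), (∀ (g : A) (hg : g ∈ I ^ (n * c')) (x : N), Ψ' ⟨algebraMap A B g • x, Submodule.subset_span ⟨g, hg, x, rfl⟩⟩ = MvPolynomial.map (algebraMap A B) (Φ n g) ⊗ₜ[B] x) → Ψ' = Ψ) := by
  open IdealTransLib in
  classical
  choose e he using fun j => exists_psi (B := B) (N := N) φ j
  let E := Finset.univ.sup e
  refine ⟨c + E, Nat.le_add_right _ _, fun Φ hΦ n => ?_⟩
  choose h hh using fun j => he j E (Finset.le_sup (Finset.mem_univ j))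
  let φ' : Fin r → (↥(I ^ (c + E)) →ₗ[A] A) := fun j => φ j ∘ₗ Submodule.inclusion (Ideal.pow_le_pow_right (Nat.le_add_right c E))
  have hφ' : ∀ x : ↥(I ^ (c + E)), (x : A) = ∑ j, f j * φ' j x := fun x => hφ ⟨x.1, _⟩
  have hψ : ∀ (j : Fin r) (g : A) (hg : g ∈ I ^ (c + E)) (x : N) (hm : algebraMap A B g • x ∈ ext A B I ^ (c + E) • (⊤ : Submodule B N)),
      h j ⟨algebraMap A B g • x, hm⟩ = algebraMap A B (φ' j ⟨g, hg⟩) • x := fun j g hg x hm =>
    hh j g (Ideal.pow_le_pow_right (Nat.le_add_right c E) hg) hg x hm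
  have hP : ∀ (g : A) (hg : g ∈ I ^ (n * (c + E))), Φ n g = P φ' n ⟨g, hg⟩ :=
    eq_P φ' ⟨hΦ.1, hΦ.2.1, hΦ.2.2.2.1, hΦ.2.2.2.2.1, hΦ.2.2.2.2.2⟩ n
  have heq := span_set_eq (B := B) (N := N) (I := I) (n * (c + E))
  refine ⟨Psi (c + E) h n ∘ₗ (LinearEquiv.ofEq _ _ heq).toLinearMap, fun g hg x => ?_, fun y => ?_, fun Ψ' hΨ' => ?_⟩
  · rw [hP g hg]
    exact Psi_smul φ' h hψ n g hg x _
  · exact lift_Psi φ' f hφ' h hψ n y.1 _
  · refine LinearMap.ext fun ⟨y, hy⟩ => ?_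
    induction hy using Submodule.span_induction with
    | mem z hz =>
      obtain ⟨g, hg, x, rfl⟩ := hz
      rw [hΨ' g hg x, hP g hg]
      exact (Psi_smul φ' h hψ n g hg x _).symm
    | zero => exact (map_zero Ψ').trans (map_zero _).symm
    | add z w hz hw iz iw =>
      exact (map_add Ψ' ⟨z, hz⟩ ⟨w, hw⟩).trans ((congrArg₂ (· + ·) iz iw).trans (map_add (Psi (c + E) h n ∘ₗ (LinearEquiv.ofEq _ _ heq).toLinearMap) _ _).symm)
    | smul b z hz iz =>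
      exact (Ψ'.map_smul b ⟨z, hz⟩).trans ((congrArg (b • ·) iz).trans (LinearMap.map_smul (Psi (c + E) h n ∘ₗ (LinearEquiv.ofEq _ _ heq).toLinearMap) b _).symm)

end Groth.Agent.S8833
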