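import Groth.Statements.S8834
import Mathlib.RingTheory.FiniteType
import Mathlib.RingTheory.Noetherian.Basic
import Mathlib.RingTheory.Ideal.Quotient.Operations
import Mathlib.RingTheory.AdicCompletion.Basic
import Mathlib.RingTheory.Nilpotent.Lemmas
import Mathlib.RingTheory.Finiteness.Nilpotent
import Mathlib.RingTheory.Finiteness.Ideal

set_option autoImplicit false
universe u
open AdicRing

namespace Groth.Agent.S8834

/-- Let A be a Noetherian ring complete for the adic topology of an ideal I and B a Noetherian ring
complete for the adic topology of an ideal J, with an algebra map A → B sending I into the radical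
of J (a continuous homomorphism of adic Noetherian topological rings; the radicals of I and J are
the ideals of topologically nilpotent elements). Assume B/√J is of finite type over A, equivalently
over A/√I. Then B is topologically of finite type over A: there are b_1, …, b_s ∈ B such that the
A-algebra map A[x_1, …, x_s] → B with x_i ↦ b_i has dense image for the J-adic topology, that is,
for every y ∈ B and every n there is a polynomial whose value at b differs from y by an element of
J^n. -/
theorem result (A : Type u) [CommRing A] [IsNoetherianRing A] (I : Ideal A) [IsAdicComplete I A] (B : Type u) [CommRing B] [Algebra A B] [IsNoetherianRing B] (J : Ideal B) [IsAdicComplete J B] (hIJ : I.map (algebraMap A B) ≤ J.radical) (hft : Algebra.FiniteType A (B ⧸ J.radical)) : ∃ s : ℕ, ∃ b : Fin s → B, ∀ (y : B) (n : ℕ), ∃ p : MvPolynomial (Fin s) A, y - MvPolynomial.aeval b p ∈ J ^ n := by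
  classical
  obtain ⟨t, π, hπ⟩ := Algebra.FiniteType.iff_quotient_mvPolynomial''.mp hft
  choose b₀ hb₀ using fun i => Ideal.Quotient.mk_surjective (I := J.radical) (π (MvPolynomial.X i))
  obtain ⟨u, g, hg⟩ := Submodule.fg_iff_exists_fin_generating_family.mp
    (IsNoetherian.noetherian J.radical)
  refine ⟨t + u, Fin.append b₀ g, ?_⟩
  let Φ : MvPolynomial (Fin (t + u)) A →ₐ[A] B := MvPolynomial.aeval (Fin.append b₀ g)
  let R : Subalgebra A B := Φ.range
  have hgR : ∀ i, g i ∈ R := fun i => ⟨MvPolynomial.X (Fin.natAdd t i), by simp [Φ]⟩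
  have hb₀R : ∀ i, b₀ i ∈ R := fun i => ⟨MvPolynomial.X (Fin.castAdd u i), by simp [Φ]⟩
  have hgN : ∀ i, g i ∈ J.radical := fun i => hg ▸ Submodule.subset_span ⟨i, rfl⟩
  have key : ∀ m, ∀ w ∈ J.radical ^ m, ∃ r ∈ R, w - r ∈ J.radical ^ (m + 1) := by
    intro m
    induction m with
    | zero =>
      intro w _
      obtain ⟨P, hP⟩ := hπ (Ideal.Quotient.mk _ w)
      refine ⟨MvPolynomial.aeval b₀ P, ?_, ?_⟩
      · clear hP
        induction P using MvPolynomial.induction_on with
        | C a => rw [MvPolynomial.aeval_C]; exact R.algebraMap_mem a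
        | add p q hp hq => rw [map_add]; exact R.add_mem hp hq
        | mul_X p i hp => rw [map_mul, MvPolynomial.aeval_X]; exact R.mul_mem hp (hb₀R i)
      · have h2 : (Ideal.Quotient.mkₐ A J.radical).comp (MvPolynomial.aeval b₀) = π :=
          MvPolynomial.algHom_ext fun i => by simp [hb₀]
        rw [zero_add, pow_one, ← Ideal.Quotient.eq_zero_iff_mem, map_sub, ← hP, ← h2]
        simp
    | succ m ih =>
      intro w hw
      rw [pow_succ'] at hw
      refine Submodule.mul_induction_on hw (fun a ha c hc => ?_) (fun p q hp hq => ?_)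
      · rw [← hg, Submodule.mem_span_range_iff_exists_fun] at ha
        obtain ⟨d, rfl⟩ := ha
        choose r hr hrd using fun i => ih (d i * c) ((J.radical ^ m).mul_mem_left _ hc)
        refine ⟨∑ i, g i * r i, R.sum_mem fun i _ => R.mul_mem (hgR i) (hr i), ?_⟩
        rw [Finset.sum_mul, ← Finset.sum_sub_distrib]
        refine Submodule.sum_mem _ fun i _ => ?_
        rw [smul_eq_mul, show d i * g i * c - g i * r i = g i * (d i * c - r i) by ring, pow_succ' _ (m + 1)]
        exact Ideal.mul_mem_mul (hgN i) (hrd i)
      · obtain ⟨r, hr, hp⟩ := hp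
        obtain ⟨r', hr', hq⟩ := hq
        exact ⟨r + r', R.add_mem hr hr', by rw [add_sub_add_comm]; exact add_mem hp hq⟩
  intro y n
  have hall : ∀ m, ∃ r ∈ R, y - r ∈ J.radical ^ m := by
    intro m
    induction m with
    | zero => exact ⟨0, R.zero_mem, by simp⟩
    | succ m ih =>
      obtain ⟨r, hr, hm⟩ := ih
      obtain ⟨r', hr', hm'⟩ := key m _ hm
      exact ⟨r + r', R.add_mem hr hr', by rwa [← sub_sub]⟩
  obtain ⟨k, hk⟩ := Ideal.exists_radical_pow_le_of_fg J (IsNoetherian.noetherian _)
  obtain ⟨r, ⟨P, hP⟩, hr⟩ := hall (k * n)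
  refine ⟨P, ?_⟩
  rw [show MvPolynomial.aeval (Fin.append b₀ g) P = r from hP]
  rw [pow_mul] at hr
  exact Ideal.pow_right_mono hk n hr

end Groth.Agent.S8834
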