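import Groth.Statements.S8836
import Groth.Agent.AdicRingLib.RigClosedFinite
import Mathlib.RingTheory.Flat.Basic
import Mathlib.RingTheory.Ideal.MinimalPrime.Localization
import Mathlib.RingTheory.Localization.AtPrime.Basic
import Mathlib.LinearAlgebra.TensorProduct.Quotient
import Mathlib.RingTheory.TensorProduct.Quotient

set_option autoImplicit false
universe u
open AdicRing

namespace Groth.Agent.S8836

theorem isMaximal_comap_of_finite {A B : Type u} [CommRing A] [CommRing B] [Algebra A B] (m : Ideal B)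
    [m.IsMaximal] [Module.Finite A (B ⧸ m)] : (m.comap (algebraMap A B)).IsMaximal := by
  let := Ideal.Quotient.field m
  have h := Ideal.isMaximal_comap_of_isIntegral_of_isMaximal (R := A) (⊥ : Ideal (B ⧸ m))
    (hI := Ideal.bot_isMaximal)
  rwa [IsScalarTower.algebraMap_eq A B (B ⧸ m), ← Ideal.comap_comap, Ideal.Quotient.algebraMap_eq,
    ← RingHom.ker_eq_comap_bot, Ideal.mk_ker] at h

theorem isSMulRegular_quotient {A B : Type u} [CommRing A] [CommRing B] [Algebra A B] [Module.Flat A B]
    (p : Ideal A) [p.IsPrime] (a : A) (ha : a ∉ p) :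
    IsSMulRegular (B ⧸ p.map (algebraMap A B)) (algebraMap A B a) := by
  have reg : IsSMulRegular (A ⧸ p) a := isSMulRegular_iff_right_eq_zero_of_smul.2 fun x hx => by
    rw [Algebra.smul_def, Ideal.Quotient.algebraMap_eq] at hx
    exact (mul_eq_zero.1 hx).resolve_left fun h => ha (Ideal.Quotient.eq_zero_iff_mem.1 h)
  exact ((Algebra.TensorProduct.quotIdealMapEquivTensorQuot B p).toLinearEquiv.isSMulRegular_congr _).2
    (IsSMulRegular.of_flat_of_isBaseChange (TensorProduct.isBaseChange A (A ⧸ p) B) reg)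

theorem notMem_minimalPrimes_of_isSMulRegular {B : Type u} [CommRing B] {K P : Ideal B} {b : B}
    (hreg : IsSMulRegular (B ⧸ K) b) (hP : P ∈ K.minimalPrimes) : b ∉ P := by
  intro hb
  have hP' : P.map (Ideal.Quotient.mk K) ∈ minimalPrimes (B ⧸ K) := by
    show _ ∈ (⊥ : Ideal (B ⧸ K)).minimalPrimes
    rw [← Ideal.map_quotient_self K, Ideal.minimalPrimes_map_of_surjective
      Ideal.Quotient.mk_surjective K, Ideal.mk_ker, sup_idem]
    exact ⟨P, hP, rfl⟩
  refine Set.disjoint_left.1 (Ideal.disjoint_nonZeroDivisors_of_mem_minimalPrimes hP')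
    (Ideal.mem_map_of_mem _ hb) (mem_nonZeroDivisors_iff_right.2 fun x hx => ?_)
  refine (isSMulRegular_iff_right_eq_zero_of_smul.1 hreg) x ?_
  rw [Algebra.smul_def, Ideal.Quotient.algebraMap_eq, mul_comm]
  exact hx

theorem forall_le_of_maximal {B : Type u} [CommRing B] [IsNoetherianRing B] (J : Ideal B) [IsAdicComplete J B]
    (q m : Ideal B) [q.IsPrime] [hm : m.IsMaximal] (b : B) (hqm : q ≤ m) (hbJ : b ∈ J) (hbq : b ∉ q)
    (h : ∀ P : Ideal B, P.IsPrime → q ≤ P → P ≤ m → P ≠ q → b ∈ P) :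
    J.map (Ideal.Quotient.mk q) ≠ ⊥ ∧
      ∀ P : Ideal (B ⧸ q), P.IsPrime → P ≠ ⊥ → J.map (Ideal.Quotient.mk q) ≤ P := by
  let S := B ⧸ q
  have hc := AdicRingLib.RigClosed.isAdicComplete_quotient J q
  let M := m.map (Ideal.Quotient.mk q)
  have hM : M.IsMaximal :=
    Ideal.IsMaximal.map_of_surjective_of_ker_le Ideal.Quotient.mk_surjective (by rwa [Ideal.mk_ker])
  let x := Ideal.Quotient.mk q b
  have hx : x ≠ 0 := fun e => hbq (Ideal.Quotient.eq_zero_iff_mem.1 e)
  have hJ : J.map (Ideal.Quotient.mk q) ≠ ⊥ := fun e =>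
    hx (Ideal.mem_bot.1 (e ▸ Ideal.mem_map_of_mem _ hbJ))
  have hle : ∀ P : Ideal S, P.IsPrime → P ≤ M → P ≠ ⊥ → x ∈ P := by
    intro P hP hPM hP0
    have hcM : M.comap (Ideal.Quotient.mk q) = m := by
      rw [Ideal.comap_map_of_surjective _ Ideal.Quotient.mk_surjective, ← RingHom.ker_eq_comap_bot,
        Ideal.mk_ker, sup_eq_left.2 hqm]
    refine h (P.comap (Ideal.Quotient.mk q)) inferInstance (fun y hy => ?_) (hcM ▸ Ideal.comap_mono hPM) fun e => hP0 ?_
    · rw [Ideal.mem_comap, Ideal.Quotient.eq_zero_iff_mem.2 hy]; exact P.zero_mem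
    · rw [← Ideal.map_comap_of_surjective _ Ideal.Quotient.mk_surjective P]
      exact (congrArg _ e).trans (Ideal.map_quotient_self q)
  -- in the localisation at `M` all nonzero primes are maximal
  let L := Localization.AtPrime M
  have hLx : Ideal.span {algebraMap S L x} ≠ ⊥ := by
    rw [Ne, Ideal.span_singleton_eq_bot]
    exact fun e => hx (IsLocalization.injective L M.primeCompl_le_nonZeroDivisors (e.trans (map_zero _).symm))
  have hL : ∀ P : Ideal L, P.IsPrime → P ≠ ⊥ → Ideal.span {algebraMap S L x} ≤ P := by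
    intro P hP hP0
    rw [Ideal.span_singleton_le_iff_mem]
    have hd := ((IsLocalization.isPrime_iff_isPrime_disjoint M.primeCompl L P).1 hP).2
    refine hle (P.comap (algebraMap S L)) inferInstance (fun y hy => ?_) fun e => hP0 ?_
    · exact not_not.1 fun hyM => Set.disjoint_left.1 hd hyM hy
    · rw [← IsLocalization.map_under M.primeCompl L P]
      exact (congrArg _ e).trans Ideal.map_bot
  have hPM : ∀ P : Ideal S, P.IsPrime → P ≤ M → P ≠ ⊥ → P = M := by
    intro P hP hPM hP0
    have hdisj : Disjoint (M.primeCompl : Set S) (P : Set S) := Set.disjoint_left.2 fun y hy hyP => hy (hPM hyP)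
    have hP' := IsLocalization.isPrime_of_isPrime_disjoint M.primeCompl L P hP hdisj
    have hc' := IsLocalization.under_map_of_isPrime_disjoint M.primeCompl L hP hdisj
    have hmax := AdicRingLib.RigClosed.isMaximal_of_forall_le hLx hL (P.map (algebraMap S L)) fun e => hP0 (by
      rw [← hc', e]
      exact (RingHom.ker_eq_comap_bot _).symm.trans
        ((RingHom.injective_iff_ker_eq_bot _).1 (IsLocalization.injective L M.primeCompl_le_nonZeroDivisors)))
    rw [← hc', IsLocalRing.eq_maximalIdeal hmax]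
    exact IsLocalization.AtPrime.under_maximalIdeal L M
  have hMmin : M ∈ (J.map (Ideal.Quotient.mk q)).minimalPrimes := by
    refine ⟨⟨hM.isPrime, (IsAdicComplete.le_jacobson_bot _).trans (sInf_le ⟨bot_le, hM⟩)⟩, fun Q hQ hQM => ?_⟩
    exact (hPM Q hQ.1 hQM fun e => hJ (le_bot_iff.1 (e ▸ hQ.2))).ge
  refine ⟨hJ, fun P hP hP0 => ?_⟩
  obtain ⟨M', hM', hPM'⟩ := Ideal.exists_le_maximal P hP.ne_top
  rw [AdicRingLib.RigClosed.eq_of_isMaximal_of_mem_minimalPrimes (J := J.map (Ideal.Quotient.mk q)) hMmin (M := M')] at hPM'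
  exact (hPM P hP hPM' hP0) ▸ hMmin.1.2

/-- Let A be a Noetherian ring complete for the adic topology of an ideal I, and B a Noetherian
A-algebra complete for the IB-adic topology, flat over A, with B/IB of finite type over A (a flat
adic morphism, topologically of finite type, of adic Noetherian topological rings). Let p be a prime
of A which is rig-closed (I ⊄ p and p maximal among the primes not containing I). The following are
equivalent: (1) the maximal ideal of the local ring A/p lies in the image of Spec(B/√(IB)) →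
Spec(A/√I), stated as: some prime Q of B containing IB lies over a maximal ideal of A containing p;
(2) there is a rig-closed prime q of B (IB ⊄ q, q maximal among the primes not containing IB) whose
inverse image in A is p. (The published statement adds that, when these hold, A/p ⊆ B/q is a finite
extension of rings and the residue field of the local ring B/q is finite over A/√I; this is not
restated here.) -/
theorem result (A : Type u) [CommRing A] [IsNoetherianRing A] (I : Ideal A) [IsAdicComplete I A] (B : Type u) [CommRing B] [Algebra A B] [IsNoetherianRing B] [IsAdicComplete (I.map (algebraMap A B)) B] (hft : Algebra.FiniteType A (B ⧸ (I.map (algebraMap A B)))) [Module.Flat A B] (p : PrimeSpectrum A) (hp : (¬ I ≤ p.asIdeal ∧ ∀ y : PrimeSpectrum A, p ≤ y → ¬ I ≤ y.asIdeal → y = p)) : (∃ Q : PrimeSpectrum B, (I.map (algebraMap A B)) ≤ Q.asIdeal ∧ p.asIdeal ≤ (PrimeSpectrum.comap (algebraMap A B) Q).asIdeal ∧ (PrimeSpectrum.comap (algebraMap A B) Q).asIdeal.IsMaximal) ↔ (∃ q : PrimeSpectrum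 B, (¬ (I.map (algebraMap A B)) ≤ q.asIdeal ∧ ∀ y : PrimeSpectrum B, q ≤ y → ¬ (I.map (algebraMap A B)) ≤ y.asIdeal → y = q) ∧ PrimeSpectrum.comap (algebraMap A B) q = p) := by
  constructor
  · rintro ⟨Q₀, hJQ₀, hpQ₀, hQ₀max⟩
    obtain ⟨m, hm, hQm⟩ := Ideal.exists_le_maximal Q₀.asIdeal Q₀.2.ne_top
    obtain ⟨a, haI, hap⟩ := SetLike.not_le_iff_exists.1 hp.1
    have hpm : p.asIdeal ≤ m.comap (algebraMap A B) := hpQ₀.trans (Ideal.comap_mono hQm)
    have hreg := isSMulRegular_quotient (B := B) p.asIdeal a hap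
    obtain ⟨P₀, hP₀, hP₀m⟩ := Ideal.exists_minimalPrimes_le
      (show p.asIdeal.map (algebraMap A B) ≤ m from Ideal.map_le_iff_le_comap.2 hpm)
    have haP₀ : algebraMap A B a ∉ P₀ := notMem_minimalPrimes_of_isSMulRegular hreg hP₀
    let T : Set (Ideal B) := {q | q.IsPrime ∧ p.asIdeal.map (algebraMap A B) ≤ q ∧ q ≤ m ∧ algebraMap A B a ∉ q}
    obtain ⟨q, ⟨hqp, hpq, hqm, haq⟩, hqmax⟩ :=
      set_has_maximal_iff_noetherian.2 (inferInstance : IsNoetherian B B) T
        ⟨P₀, hP₀.1.1, hP₀.1.2, hP₀m, haP₀⟩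
    have hIq : ¬ I.map (algebraMap A B) ≤ q := fun h => haq (h (Ideal.mem_map_of_mem _ haI))
    have hc := AdicRingLib.RigClosed.isAdicComplete_quotient (I.map (algebraMap A B)) q
    have hall := forall_le_of_maximal (I.map (algebraMap A B)) q m (algebraMap A B a) hqm
      (Ideal.mem_map_of_mem _ haI) haq fun P hP hqP hPm hne => by
        by_contra haP
        exact hqmax P ⟨hP, hpq.trans hqP, hPm, haP⟩ (lt_of_le_of_ne hqP (Ne.symm hne))
    refine ⟨⟨q, hqp⟩, (AdicRingLib.RigClosed.forall_le_map_iff _ ⟨q, hqp⟩).2 hall, ?_⟩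
    exact hp.2 _ (Ideal.map_le_iff_le_comap.1 hpq) fun h => hIq (Ideal.map_le_iff_le_comap.2 h)
  · rintro ⟨q, hq, hqp⟩
    obtain ⟨m, hm, hqm⟩ := Ideal.exists_le_maximal q.asIdeal q.2.ne_top
    refine ⟨⟨m, hm.isPrime⟩, (IsAdicComplete.le_jacobson_bot _).trans (sInf_le ⟨bot_le, hm⟩),
      hqp ▸ Ideal.comap_mono hqm, ?_⟩
    have := AdicRingLib.RigClosed.finite_residue_of_rigClosed_comap I hft q (hqp ▸ hp) m hqm
    exact isMaximal_comap_of_finite m

end Groth.Agent.S8836
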