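import Groth.Statements.S8837
import Groth.Agent.CompleteLib.Basic
import Groth.Agent.CompleteLib.CompletionHom
import Mathlib.RingTheory.AdicCompletion.AsTensorProduct
import Mathlib.RingTheory.Localization.Submodule

set_option autoImplicit false
universe u
open AdicRing

namespace Groth.Agent.S8837

/-- An element of the completion of a noetherian ring all of whose components lie in `P` lies in
the extension of `P`. -/
theorem mem_map_of_val_mem {C : Type u} [CommRing C] [IsNoetherianRing C] (K P : Ideal C)
    (x : AdicCompletion K C)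
    (h : ∀ n, ∃ c ∈ P, x.val n = Submodule.Quotient.mk c) :
    x ∈ P.map (algebraMap C (AdicCompletion K C)) := by
  have h0 : AdicCompletion.map K (Submodule.mkQ (P : Submodule C C)) x = 0 := by
    ext n
    obtain ⟨c, hc, hxc⟩ := h n
    rw [AdicCompletion.map_val_apply, hxc, AdicCompletion.val_zero_apply]
    show Submodule.Quotient.mk (Submodule.mkQ (P : Submodule C C) c) = 0
    rw [Submodule.mkQ_apply, (Submodule.Quotient.mk_eq_zero _).mpr hc]
    rfl
  obtain ⟨y, rfl⟩ := (AdicCompletion.map_exact (I := K) (Submodule.subtype_injective P)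
    (LinearMap.exact_subtype_mkQ P) (Submodule.mkQ_surjective _) x).mp h0
  obtain ⟨t, rfl⟩ := AdicCompletion.ofTensorProduct_surjective_of_finite K P y
  clear h h0
  induction t using TensorProduct.induction_on with
  | zero => simp
  | add a b ha hb => rw [map_add, map_add]; exact add_mem ha hb
  | tmul r c =>
    rw [AdicCompletion.ofTensorProduct_tmul, map_smul, AdicCompletion.map_of]
    exact Ideal.mul_mem_left _ r (Ideal.mem_map_of_mem _ c.2)


/-- Let A be a Noetherian ring complete for the adic topology of an ideal I (an adic Noetherian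
topological ring), p a prime ideal of A, and f ∈ A an element mapping to a unit in A/p. Let A_{f}
denote the completed principal localization, i.e. the I-adic completion of A_f = A[1/f]. Then the
ideal p A_{f} generated by p is prime, and the canonical map A/p → A_{f}/p A_{f} is bijective (so p
A_{f} = p ⊗_A A_{f} is the completion of p_f, with quotient A/p). -/
theorem result (A : Type u) [CommRing A] [IsNoetherianRing A] (I : Ideal A) [IsAdicComplete I A] (p : Ideal A) [p.IsPrime] (f : A) (hf : IsUnit (Ideal.Quotient.mk p f)) : (p.map (algebraMap A (AdicCompletion (I.map (algebraMap A (Localization.Away f))) (Localization.Away f)))).IsPrime ∧ Function.Bijective (Ideal.quotientMap (p.map (algebraMap A (AdicCompletion (I.map (algebraMap A (Localization.Away f))) (Localization.Away f)))) (algebraMap A (AdicCompletion (I.map (algebraMap A (Localization.Away f))) (Localization.Away f))) Ideal.le_comap_map) := by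
  set C := Localization.Away f
  set K := I.map (algebraMap A C) with hK
  set B := AdicCompletion K C
  have : IsNoetherianRing C := IsLocalization.isNoetherianRing (Submonoid.powers f) C inferInstance
  haveI hT : IsScalarTower A C B := inferInstance
  let J : Ideal (A ⧸ p) := I.map (algebraMap A (A ⧸ p))
  haveI : IsAdicComplete I (A ⧸ p) := CompleteLib.isAdicComplete_of_finite
  haveI : IsAdicComplete J (A ⧸ p) := (IsAdicComplete.map_algebraMap_iff _ _).mpr inferInstance
  let θ : C →+* A ⧸ p := IsLocalization.Away.lift f (g := algebraMap A (A ⧸ p)) hf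
  have hθ : ∀ a, θ (algebraMap A C a) = Ideal.Quotient.mk p a := fun a =>
    IsLocalization.Away.lift_eq f hf a
  have hθ' : θ.comp (algebraMap A C) = algebraMap A (A ⧸ p) := RingHom.ext hθ
  have hKJ : K.map θ ≤ J := by rw [hK, Ideal.map_map, hθ']
  have hker : RingHom.ker θ ≤ p.map (algebraMap A C) := by
    intro c hc
    obtain ⟨⟨a, s⟩, rfl⟩ := IsLocalization.mk'_surjective (Submonoid.powers f) c
    have h1 : θ (algebraMap A C a) = 0 := by
      rw [← IsLocalization.mk'_spec C a s, map_mul, RingHom.mem_ker.mp hc, zero_mul]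
    rw [hθ, Ideal.Quotient.eq_zero_iff_mem] at h1
    exact IsLocalization.mk'_mem_map_algebraMap_iff (Submonoid.powers f) C p a s |>.mpr
      ⟨1, one_mem _, by simpa using h1⟩
  let ψ : B →+* A ⧸ p := CompleteLib.completionLift K J θ hKJ
  have hψ : ∀ a, ψ (algebraMap A B a) = Ideal.Quotient.mk p a := fun a => by
    rw [IsScalarTower.algebraMap_apply A C B, ← hθ]
    exact CompleteLib.completionLift_algebraMap K J θ hKJ _
  have hP : p.map (algebraMap A B) = (p.map (algebraMap A C)).map (algebraMap C B) := by
    rw [Ideal.map_map, ← IsScalarTower.algebraMap_eq]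
  have hψP : (p.map (algebraMap A B)).map ψ = ⊥ := by
    rw [Ideal.map_map, show ψ.comp (algebraMap A B) = Ideal.Quotient.mk p from RingHom.ext hψ,
      Ideal.map_quotient_self]
  have hKfg : K.FG := IsNoetherian.noetherian K
  have hmain : ∀ x : B, ψ x = 0 → x ∈ p.map (algebraMap A B) := by
    intro x hx
    rw [hP]
    refine mem_map_of_val_mem K _ x fun n => ?_
    obtain ⟨c, hc⟩ := Submodule.Quotient.mk_surjective (K ^ n • ⊤ : Submodule C C) (x.val n)
    have hmem : x - algebraMap C B c ∈ (K ^ n • ⊤ : Submodule C B) := by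
      rw [AdicCompletion.pow_smul_top_eq_ker_eval hKfg, LinearMap.mem_ker, map_sub, sub_eq_zero,
        AdicCompletion.eval_apply, AdicCompletion.eval_apply, ← hc]
      rfl
    rw [Ideal.smul_top_eq_map] at hmem
    have h2 := Ideal.mem_map_of_mem ψ (show x - algebraMap C B c ∈ (K ^ n).map (algebraMap C B) from hmem)
    rw [Ideal.map_map, map_sub, hx, zero_sub,
      show ψ.comp (algebraMap C B) = θ from
        RingHom.ext (CompleteLib.completionLift_algebraMap K J θ hKJ),
      CompleteLib.completionLift_algebraMap K J θ hKJ, hK, ← Ideal.map_pow, Ideal.map_map, hθ',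
      neg_mem_iff] at h2
    obtain ⟨i, hi, hie⟩ := (Ideal.mem_map_iff_of_surjective _ Ideal.Quotient.mk_surjective).mp h2
    refine ⟨c - algebraMap A C i, hker ?_, ?_⟩
    · rw [RingHom.mem_ker, map_sub, hθ, sub_eq_zero]
      exact hie.symm
    · rw [← hc, Submodule.Quotient.eq, sub_sub_cancel, smul_eq_mul, Ideal.mul_top, hK,
        ← Ideal.map_pow]
      exact Ideal.mem_map_of_mem _ hi
  set qmap := Ideal.quotientMap (p.map (algebraMap A B)) (algebraMap A B) Ideal.le_comap_map
  have hinj : Function.Injective qmap := by
    refine (injective_iff_map_eq_zero _).mpr fun z hz => ?_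
    obtain ⟨a, rfl⟩ := Ideal.Quotient.mk_surjective z
    rw [Ideal.quotientMap_mk, Ideal.Quotient.eq_zero_iff_mem] at hz
    have h3 := Ideal.mem_map_of_mem ψ hz
    rw [hψP, Ideal.mem_bot, hψ] at h3
    exact h3
  have hsurj : Function.Surjective qmap := by
    intro z
    obtain ⟨x, rfl⟩ := Ideal.Quotient.mk_surjective z
    obtain ⟨a, ha⟩ := Ideal.Quotient.mk_surjective (ψ x)
    refine ⟨Ideal.Quotient.mk p a, ?_⟩
    rw [Ideal.quotientMap_mk, eq_comm, Ideal.Quotient.mk_eq_mk_iff_sub_mem]
    exact hmain _ (by rw [map_sub, hψ, ha, sub_self])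
  refine ⟨?_, hinj, hsurj⟩
  rw [← Ideal.Quotient.isDomain_iff_prime]
  exact (RingEquiv.ofBijective qmap ⟨hinj, hsurj⟩).toMulEquiv.symm.isDomain

end Groth.Agent.S8837
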