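import Groth.Statements.S8838
import Groth.Agent.AdicRingLib.RigClosedFinite
import Mathlib.RingTheory.Unramified.Field
import Mathlib.RingTheory.Unramified.Basic
import Mathlib.RingTheory.LocalRing.ResidueField.Ideal
import Mathlib.RingTheory.Etale.Basic

set_option autoImplicit false
universe u
open AdicRing

namespace Groth.Agent.S8838

theorem finite_quotient_map_maximal {A C : Type u} [CommRing A] [CommRing C] [Algebra A C] (n : Ideal A)
    [n.IsMaximal] [Algebra.FormallyUnramified A (C ⧸ n.map (algebraMap A C))]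
    [Algebra.FiniteType A (C ⧸ n.map (algebraMap A C))] : Module.Finite A (C ⧸ n.map (algebraMap A C)) := by
  let := Ideal.Quotient.field n
  have : Algebra.FormallyUnramified (A ⧸ n) (C ⧸ n.map (algebraMap A C)) :=
    Algebra.FormallyUnramified.of_restrictScalars A _ _
  have : Algebra.FiniteType (A ⧸ n) (C ⧸ n.map (algebraMap A C)) :=
    Algebra.FiniteType.of_restrictScalars_finiteType A _ _
  have := Algebra.FormallyUnramified.finite_of_free (A ⧸ n) (C ⧸ n.map (algebraMap A C))
  exact Module.Finite.trans (A ⧸ n) _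

theorem formallyUnramified_of_quotient {A C : Type u} [CommRing A] [CommRing C] [Algebra A C]
    [Module.Finite A C] {n : Ideal A} (N : Ideal C) (hN : N = n.map (algebraMap A C))
    (hjac : N ≤ (⊥ : Ideal C).jacobson) [Algebra.FormallyUnramified A (C ⧸ N)] :
    Algebra.FormallyUnramified A C := by
  suffices h : (⊤ : Submodule C (Ω[C⁄A])) ≤ N • ⊤ by
    have := Submodule.eq_bot_of_le_smul_of_le_jacobson_bot N (⊤ : Submodule C (Ω[C⁄A]))
      Module.Finite.fg_top h hjac
    exact ⟨(Submodule.subsingleton_iff C).1 (subsingleton_of_bot_eq_top this.symm)⟩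
  subst hN
  set N := n.map (algebraMap A C)
  set S : Submodule C (Ω[C⁄A]) := N • ⊤
  let d : C →ₗ[A] (Ω[C⁄A]) ⧸ S := (S.mkQ.restrictScalars A).comp (KaehlerDifferential.D A C).toLinearMap
  have hd : ∀ x ∈ N, d x = 0 := by
    intro x hx
    induction hx using Submodule.span_induction with
    | mem y hy =>
      obtain ⟨a, -, rfl⟩ := hy
      simp [d]
    | zero => exact map_zero _
    | add y z _ _ h1 h2 => rw [map_add, h1, h2, add_zero]
    | smul c y hy h1 =>
      show S.mkQ (KaehlerDifferential.D A C (c * y)) = 0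
      rw [Derivation.leibniz, map_add, map_smul, show S.mkQ (KaehlerDifferential.D A C y) = 0 from h1,
        smul_zero, zero_add, Submodule.mkQ_apply, Submodule.Quotient.mk_eq_zero]
      exact Submodule.smul_mem_smul hy Submodule.mem_top
  have hann : Module.IsTorsionBySet C ((Ω[C⁄A]) ⧸ S) (N : Set C) := fun x ⟨c, hc⟩ => by
    obtain ⟨y, rfl⟩ := S.mkQ_surjective x
    show c • S.mkQ y = 0
    rw [← map_smul, Submodule.mkQ_apply, Submodule.Quotient.mk_eq_zero]
    exact Submodule.smul_mem_smul hc Submodule.mem_top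
  let : Module (C ⧸ N) ((Ω[C⁄A]) ⧸ S) := hann.module
  have : IsScalarTower A (C ⧸ N) ((Ω[C⁄A]) ⧸ S) := hann.isScalarTower
  let l : (C ⧸ N) →ₗ[A] (Ω[C⁄A]) ⧸ S :=
    (Submodule.liftQ (N.restrictScalars A) d hd).comp (Submodule.Quotient.restrictScalarsEquiv A N).symm.toLinearMap
  have hl : ∀ c, l (Ideal.Quotient.mk N c) = d c := fun c => rfl
  let D' : Derivation A (C ⧸ N) ((Ω[C⁄A]) ⧸ S) :=
    { toLinearMap := l
      map_one_eq_zero' := by
        show l (Ideal.Quotient.mk N 1) = 0
        rw [hl]; simp [d]
      leibniz' := fun a b => by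
        obtain ⟨a, rfl⟩ := Ideal.Quotient.mk_surjective a
        obtain ⟨b, rfl⟩ := Ideal.Quotient.mk_surjective b
        rw [← map_mul, hl, hl, hl]
        show _ = a • d b + b • d a
        simp [d] }
  have hD' : D' = 0 := by
    rw [← D'.liftKaehlerDifferential_comp]
    ext x
    have h0 : KaehlerDifferential.D A (C ⧸ N) x = 0 := Subsingleton.elim _ _
    simp [h0]
  rw [← KaehlerDifferential.span_range_derivation, Submodule.span_le]
  rintro _ ⟨c, rfl⟩
  have := DFunLike.congr_fun hD' (Ideal.Quotient.mk N c)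
  exact (Submodule.Quotient.mk_eq_zero S).1 ((hl c).symm.trans this)

theorem maximalIdeal_eq_bot {A C : Type u} [CommRing A] [CommRing C] [Algebra A C] [Module.Finite A C]
    [Algebra.FormallyUnramified A C] (Q : Ideal C) [Q.IsPrime] (p : Ideal A) [p.IsPrime]
    (hp : Q.comap (algebraMap A C) = p) (h0 : ∀ a ∈ p, algebraMap A C a = 0) :
    IsLocalRing.maximalIdeal (Localization.AtPrime Q) = ⊥ := by
  let L := Localization.AtPrime Q
  have hf₁ : p ≤ RingHom.ker (algebraMap A L) := fun a ha => by
    rw [RingHom.mem_ker, IsScalarTower.algebraMap_apply A C L, h0 a ha, map_zero]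
  have hf₂ : p.primeCompl ≤ (IsUnit.submonoid L).comap (algebraMap A L) := fun a ha => by
    show IsUnit (algebraMap A L a)
    rw [IsScalarTower.algebraMap_apply A C L]
    exact IsLocalization.map_units L (⟨algebraMap A C a, fun h => ha (hp ▸ h)⟩ : Q.primeCompl)
  let := (Ideal.ResidueField.lift p (algebraMap A L) hf₁ hf₂).toAlgebra
  have : IsScalarTower A p.ResidueField L :=
    IsScalarTower.of_algebraMap_eq fun a => (Ideal.ResidueField.lift_algebraMap p _ hf₁ hf₂ a).symm
  have : Algebra.FormallyUnramified C L := Algebra.FormallyUnramified.of_isLocalization Q.primeCompl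
  have : Algebra.FormallyUnramified A L := Algebra.FormallyUnramified.comp A C L
  have : Algebra.FormallyUnramified p.ResidueField L := Algebra.FormallyUnramified.of_restrictScalars A _ _
  have : Algebra.EssFiniteType C L := Algebra.EssFiniteType.of_isLocalization L Q.primeCompl
  have : Algebra.EssFiniteType A L := Algebra.EssFiniteType.comp A C L
  have : Algebra.EssFiniteType p.ResidueField L := Algebra.EssFiniteType.of_comp A _ _
  have := Algebra.FormallyUnramified.finite_of_free p.ResidueField L
  have := Algebra.FormallyUnramified.isReduced_of_field p.ResidueField L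
  have : IsArtinianRing L := IsArtinianRing.of_finite p.ResidueField L
  exact IsLocalRing.isField_iff_maximalIdeal_eq.1 (IsArtinianRing.isField_of_isReduced_of_isLocalRing L)

/-- Suppose A is a Noetherian ring that is I-adically complete for an ideal I, and B is a Noetherian
A-algebra that is complete with respect to the IB-adic topology, with B/IB of finite type over A (so
A → B is an adic morphism of adic Noetherian topological rings that is topologically of finite
type). Assume further that A → B is flat and that the induced map A/I → B/IB is étale (with I as the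
chosen ideal of definition). Consider a prime q of B that is rig-closed (q does not contain IB, and
q is maximal among primes of B not containing IB), and suppose its preimage p in A is rig-closed as
well (p does not contain I, and p is maximal among primes of A not containing I). Then the extension
of p to the localization B_q equals its maximal ideal, that is, p B_q = q B_q. -/
theorem result (A : Type u) [CommRing A] [IsNoetherianRing A] (I : Ideal A) [IsAdicComplete I A] (B : Type u) [CommRing B] [Algebra A B] [IsNoetherianRing B] [IsAdicComplete (I.map (algebraMap A B)) B] (hft : Algebra.FiniteType A (B ⧸ (I.map (algebraMap A B)))) [Module.Flat A B] [Algebra.Etale (A ⧸ I) (B ⧸ (I.map (algebraMap A B)))] (q : PrimeSpectrum B) (hq : (¬ (I.map (algebraMap A B)) ≤ q.asIdeal ∧ ∀ y : PrimeSpectrum B, q ≤ y → ¬ (I.map (algebraMap A B)) ≤ y.asIdeal → y = q)) (hp : (¬ I ≤ (PrimeSpectrum.comap (algebraMap A B) q).asIdeal ∧ ∀ y : PrimeSpectrum A, (PrimeSpectrum.comap (algebraMap A B) q) ≤ y → ¬ I ≤ y.asIdeal → y = (PrimeSpectrum.comap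 (algebraMap A B) q))) : ((PrimeSpectrum.comap (algebraMap A B) q).asIdeal.map (algebraMap A B)).map (algebraMap B (Localization.AtPrime q.asIdeal)) = IsLocalRing.maximalIdeal (Localization.AtPrime q.asIdeal) := by
  set p := PrimeSpectrum.comap (algebraMap A B) q with hpdef
  have := AdicRingLib.RigClosed.isLocalRing_quotient I p hp
  let n := (IsLocalRing.maximalIdeal (A ⧸ p.asIdeal)).comap (Ideal.Quotient.mk p.asIdeal)
  have hn : n.IsMaximal := Ideal.comap_isMaximal_of_surjective _ Ideal.Quotient.mk_surjective
  have hpn : p.asIdeal ≤ n := fun x hx => by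
    rw [Ideal.mem_comap, Ideal.Quotient.eq_zero_iff_mem.2 hx]; exact zero_mem _
  have hIn : I ≤ n := by
    refine (IsAdicComplete.le_jacobson_bot I).trans ?_
    exact sInf_le ⟨bot_le, hn⟩
  set J := I.map (algebraMap A B)
  set K := p.asIdeal.map (algebraMap A B) with hKdef
  have : IsScalarTower A (A ⧸ I) (B ⧸ J) := inferInstance
  have : Algebra.FormallyUnramified A (B ⧸ J) := Algebra.FormallyUnramified.comp A (A ⧸ I) (B ⧸ J)
  let C := B ⧸ K
  let N := n.map (algebraMap A C)
  have hJN : J ≤ (N.comap (Ideal.Quotient.mk K)) := Ideal.map_le_iff_le_comap.2 fun a ha =>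
    Ideal.mem_map_of_mem _ (hIn ha)
  let π : (B ⧸ J) →ₐ[A] C ⧸ N := Ideal.Quotient.liftₐ J ((Ideal.Quotient.mkₐ A N).comp (Ideal.Quotient.mkₐ A K))
    fun b hb => Ideal.Quotient.eq_zero_iff_mem.2 (hJN hb)
  have hπ : Function.Surjective π := fun y => by
    obtain ⟨c, rfl⟩ := Ideal.Quotient.mk_surjective y
    obtain ⟨b, rfl⟩ := Ideal.Quotient.mk_surjective c
    exact ⟨Ideal.Quotient.mk J b, rfl⟩
  have : Algebra.FormallyUnramified A (C ⧸ N) := Algebra.FormallyUnramified.of_surjective π hπ
  have : Algebra.FiniteType A (C ⧸ N) := hft.of_surjective π hπ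
  have := finite_quotient_map_maximal n (C := C)
  have hrad : n ≤ (p.asIdeal ⊔ I).radical := by
    intro x hx
    obtain ⟨h1, h2⟩ := (AdicRingLib.RigClosed.forall_le_map_iff I p).1 hp
    have := AdicRingLib.RigClosed.isAdicComplete_quotient I p.asIdeal
    have hmax : IsLocalRing.maximalIdeal (A ⧸ p.asIdeal) = (I.map (Ideal.Quotient.mk p.asIdeal)).radical :=
      AdicRingLib.RigClosed.eq_radical_of_forall_le h1 h2 _ fun e => h1 (le_bot_iff.1
        (e ▸ (IsAdicComplete.le_jacobson_bot _).trans (sInf_le ⟨bot_le, IsLocalRing.maximalIdeal.isMaximal _⟩)))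
    rw [Ideal.mem_comap, hmax] at hx
    obtain ⟨k, hk⟩ := hx
    refine ⟨k, ?_⟩
    rw [← map_pow, ← Ideal.mem_comap, Ideal.comap_map_of_surjective _ Ideal.Quotient.mk_surjective,
      ← RingHom.ker_eq_comap_bot, Ideal.mk_ker, sup_comm] at hk
    exact hk
  have hc := AdicRingLib.RigClosed.isAdicComplete_quotient J K
  have hmap : J.map (Ideal.Quotient.mk K) = I.map (algebraMap A C) := by rw [Ideal.map_map]; rfl
  have : IsAdicComplete (I.map (algebraMap A C)) C := hmap ▸ hc
  have : Module.Finite A C := AdicRingLib.RigClosed.finite_of_radical_eq I N <| by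
    refine (Ideal.map_mono hrad).trans ((Ideal.map_radical_le _).trans (le_of_eq ?_))
    rw [Ideal.map_sup, (Ideal.map_eq_bot_iff_le_ker _).2 (show p.asIdeal ≤ RingHom.ker (algebraMap A C) from
      fun a ha => Ideal.Quotient.eq_zero_iff_mem.2 (Ideal.mem_map_of_mem _ ha)), bot_sup_eq]
  have hnjac : N ≤ (⊥ : Ideal C).jacobson := le_sInf fun M hM => Ideal.map_le_iff_le_comap.2 <| by
    have := hM.2
    have h1 := Ideal.isMaximal_comap_of_isIntegral_of_isMaximal (R := A) M
    have hpM : p.asIdeal ≤ M.comap (algebraMap A C) := fun a ha => by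
      rw [Ideal.mem_comap, show algebraMap A C a = 0 from
        Ideal.Quotient.eq_zero_iff_mem.2 (Ideal.mem_map_of_mem _ ha)]
      exact zero_mem _
    have h2 : ((M.comap (algebraMap A C)).map (Ideal.Quotient.mk p.asIdeal)).IsMaximal :=
      Ideal.IsMaximal.map_of_surjective_of_ker_le Ideal.Quotient.mk_surjective (by rwa [Ideal.mk_ker])
    show (IsLocalRing.maximalIdeal (A ⧸ p.asIdeal)).comap (Ideal.Quotient.mk p.asIdeal) ≤ _
    rw [← IsLocalRing.eq_maximalIdeal h2, Ideal.comap_map_of_surjective _ Ideal.Quotient.mk_surjective,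
      ← RingHom.ker_eq_comap_bot, Ideal.mk_ker, sup_eq_left.2 hpM]
  have : Algebra.FormallyUnramified A C := formallyUnramified_of_quotient N rfl hnjac
  let qC := q.asIdeal.map (Ideal.Quotient.mk K)
  have hKq : RingHom.ker (Ideal.Quotient.mk K) ≤ q.asIdeal := by
    rw [Ideal.mk_ker]; exact Ideal.map_le_iff_le_comap.2 le_rfl
  have : qC.IsPrime := Ideal.map_isPrime_of_surjective Ideal.Quotient.mk_surjective hKq
  have hqC : qC.comap (Ideal.Quotient.mk K) = q.asIdeal := by
    rw [Ideal.comap_map_of_surjective _ Ideal.Quotient.mk_surjective, ← RingHom.ker_eq_comap_bot]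
    exact sup_eq_left.2 hKq
  have hcomap : qC.comap (algebraMap A C) = p.asIdeal :=
    (Ideal.comap_comap (algebraMap A B) (Ideal.Quotient.mk K)).symm.trans
      (congrArg (Ideal.comap (algebraMap A B)) hqC)
  have hfield := maximalIdeal_eq_bot qC p.asIdeal hcomap fun a ha =>
    Ideal.Quotient.eq_zero_iff_mem.2 (Ideal.mem_map_of_mem _ ha)
  refine le_antisymm ?_ ?_
  · rw [← Localization.AtPrime.map_eq_maximalIdeal]
    exact Ideal.map_mono (Ideal.map_le_iff_le_comap.2 le_rfl)
  · rw [← Localization.AtPrime.map_eq_maximalIdeal, Ideal.map_le_iff_le_comap]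
    intro x hx
    have h0 : algebraMap C (Localization.AtPrime qC) (Ideal.Quotient.mk K x) = 0 := by
      rw [← Ideal.mem_bot, ← hfield, ← Localization.AtPrime.map_eq_maximalIdeal]
      exact Ideal.mem_map_of_mem _ (Ideal.mem_map_of_mem _ hx)
    obtain ⟨⟨s, hs⟩, hsx⟩ := (IsLocalization.map_eq_zero_iff qC.primeCompl _ _).1 h0
    obtain ⟨t, rfl⟩ := Ideal.Quotient.mk_surjective s
    rw [← map_mul, Ideal.Quotient.eq_zero_iff_mem] at hsx
    rw [Ideal.mem_comap]
    have ht : t ∉ q.asIdeal := fun h => hs (Ideal.mem_map_of_mem _ h)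
    have := Ideal.mem_map_of_mem (algebraMap B (Localization.AtPrime q.asIdeal)) hsx
    rw [map_mul] at this
    exact (Ideal.unit_mul_mem_iff_mem _ (IsLocalization.map_units (Localization.AtPrime q.asIdeal)
      (⟨t, ht⟩ : q.asIdeal.primeCompl))).1 this

end Groth.Agent.S8838
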