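import Groth.Statements.S8840
import Groth.Agent.AdicRingLib.RigClosedFinite
import Groth.Agent.AdicRingLib.Completion
import Groth.Agent.S8837
import Mathlib.RingTheory.Localization.Integral
import Mathlib.Algebra.Polynomial.Lifts

set_option autoImplicit false
universe u
open AdicRing

namespace Groth.Agent.S8840

open Polynomial in
/-- For a residue field of a finite type algebra, some denominator makes it finite. -/
theorem exists_denominator {A B : Type u} [CommRing A] [CommRing B] [Algebra A B] (J : Ideal B)
    (hft : Algebra.FiniteType A (B ⧸ J)) (m : Ideal B) [m.IsMaximal] (hJm : J ≤ m) :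
    ∃ f : A, algebraMap A B f ∉ m ∧ ∀ (R : Type u) [CommRing R] [Algebra A R] [Algebra R (B ⧸ m)]
      [IsScalarTower A R (B ⧸ m)], IsUnit (algebraMap A R f) → Module.Finite R (B ⧸ m) := by
  classical
  let := Ideal.Quotient.field m
  let n := m.comap (algebraMap A B)
  let := (Ideal.quotientMap m (algebraMap A B) (le_refl n)).toAlgebra
  have : IsScalarTower A (A ⧸ n) (B ⧸ m) := IsScalarTower.of_algebraMap_eq fun a => rfl
  have hinj : Function.Injective (algebraMap (A ⧸ n) (B ⧸ m)) := Ideal.quotientMap_injective
  have : FaithfulSMul (A ⧸ n) (B ⧸ m) := (faithfulSMul_iff_algebraMap_injective _ _).2 hinj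
  have hft' : Algebra.FiniteType A (B ⧸ m) :=
    hft.of_surjective (Ideal.Quotient.factorₐ A hJm) (Ideal.Quotient.factor_surjective hJm)
  let K := FractionRing (A ⧸ n)
  let := FractionRing.liftAlgebra (A ⧸ n) (B ⧸ m)
  have : Algebra.FiniteType (A ⧸ n) (B ⧸ m) := Algebra.FiniteType.of_restrictScalars_finiteType A _ _
  have : Algebra.FiniteType K (B ⧸ m) := Algebra.FiniteType.of_restrictScalars_finiteType (A ⧸ n) _ _
  have := finite_of_finite_type_of_isJacobsonRing K (B ⧸ m)
  have halg : Algebra.IsAlgebraic (A ⧸ n) (B ⧸ m) :=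
    (IsFractionRing.comap_isAlgebraic_iff (A := A ⧸ n) (K := K) (C := B ⧸ m)).2 inferInstance
  obtain ⟨s, hs⟩ := (hft'.out : (⊤ : Subalgebra A (B ⧸ m)).FG)
  have hlead : ∀ x : B ⧸ m, ∃ P : A[X], aeval x P = 0 ∧ P.leadingCoeff ∉ n := fun x => by
    obtain ⟨P, hP0, hPx⟩ := halg.isAlgebraic x
    obtain ⟨P₀, hP₀, hdeg⟩ := Polynomial.exists_degree_eq_of_mem_lifts
      (Polynomial.mem_lifts_of_surjective (Ideal.Quotient.mk_surjective (I := n)) P)
    refine ⟨P₀, ?_, fun h => hP0 ?_⟩
    · rwa [← hP₀, ← Ideal.Quotient.algebraMap_eq, Polynomial.aeval_map_algebraMap] at hPx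
    · rw [← Polynomial.leadingCoeff_eq_zero, Polynomial.leadingCoeff, Polynomial.natDegree, ← hdeg, ← hP₀,
        Polynomial.coeff_map]
      exact Ideal.Quotient.eq_zero_iff_mem.2 h
  choose P hPx hPlead using hlead
  refine ⟨∏ x ∈ s, (P x).leadingCoeff, fun h => ?_, fun R _ _ _ _ hu => ?_⟩
  · rw [map_prod, Ideal.IsPrime.prod_mem_iff] at h
    obtain ⟨x, -, hx⟩ := h
    exact hPlead x hx
  · rw [map_prod, IsUnit.prod_iff] at hu
    have hint : ∀ x ∈ (s : Set (B ⧸ m)), IsIntegral R x := fun x hx => by
      have hne : P x ≠ 0 := fun e => hPlead x (by rw [e, leadingCoeff_zero]; exact n.zero_mem)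
      obtain ⟨v, hv⟩ := hu x hx
      rcases subsingleton_or_nontrivial R with hR | hR
      · exact absurd (congrArg (algebraMap R (B ⧸ m)) (Subsingleton.elim (1 : R) 0))
          (by rw [map_one, map_zero]; exact one_ne_zero)
      have hlc : ((P x).map (algebraMap A R)).leadingCoeff = v := by
        rw [hv, leadingCoeff_map_of_leadingCoeff_ne_zero]
        exact hv ▸ v.ne_zero
      refine ⟨C (↑v⁻¹ : R) * (P x).map (algebraMap A R),
        monic_C_mul_of_mul_leadingCoeff_eq_one (by rw [hlc, Units.inv_mul]), ?_⟩
      rw [← aeval_def, map_mul, aeval_map_algebraMap, hPx, mul_zero]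
    have htop : Algebra.adjoin R (s : Set (B ⧸ m)) = ⊤ := by
      refine eq_top_iff.2 fun y _ => ?_
      have hy : y ∈ Algebra.adjoin A (s : Set (B ⧸ m)) := hs ▸ Algebra.mem_top
      exact Algebra.adjoin_le (A := B ⧸ m) (S := (Algebra.adjoin R (s : Set (B ⧸ m))).restrictScalars A)
        Algebra.subset_adjoin hy
    have := fg_adjoin_of_finite s.finite_toSet hint
    rw [htop, Algebra.top_toSubmodule] at this
    exact ⟨this⟩

theorem rigClosed_ker {A B : Type u} [CommRing A] [IsNoetherianRing A] [CommRing B] [Algebra A B]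
    [IsNoetherianRing B] (I : Ideal A) [IsAdicComplete (I.map (algebraMap A B)) B] (q : PrimeSpectrum B)
    (hq : ¬ I.map (algebraMap A B) ≤ q.asIdeal ∧
      ∀ y : PrimeSpectrum B, q ≤ y → ¬ I.map (algebraMap A B) ≤ y.asIdeal → y = q)
    (f : A) (m : Ideal B) [m.IsMaximal] (hqm : q.asIdeal ≤ m)
    (hfin : ∀ (R : Type u) [CommRing R] [Algebra A R] [Algebra R (B ⧸ m)] [IsScalarTower A R (B ⧸ m)],
      IsUnit (algebraMap A R f) → Module.Finite R (B ⧸ m))
    (φ : AdicCompletion (I.map (algebraMap A (Localization.Away f))) (Localization.Away f) →+* B ⧸ q.asIdeal)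
    (hφ : ∀ a : A, φ (algebraMap A _ a) = algebraMap A (B ⧸ q.asIdeal) a) :
    (RingHom.ker φ).IsPrime ∧
      ¬ I.map (algebraMap A (AdicCompletion (I.map (algebraMap A (Localization.Away f))) (Localization.Away f))) ≤
        RingHom.ker φ ∧
      ∀ y : PrimeSpectrum (AdicCompletion (I.map (algebraMap A (Localization.Away f))) (Localization.Away f)),
        RingHom.ker φ ≤ y.asIdeal →
        ¬ I.map (algebraMap A (AdicCompletion (I.map (algebraMap A (Localization.Away f))) (Localization.Away f))) ≤
          y.asIdeal → y.asIdeal = RingHom.ker φ := by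
  let R := AdicCompletion (I.map (algebraMap A (Localization.Away f))) (Localization.Away f)
  have hK : (I.map (algebraMap A (Localization.Away f))).FG := (show I.FG from IsNoetherian.noetherian I).map _
  let I' := I.map (algebraMap A R)
  have hI' : IsAdicComplete I' R := by
    show IsAdicComplete (I.map (algebraMap A R)) R
    rw [IsScalarTower.algebraMap_eq A (Localization.Away f) R, ← Ideal.map_map]
    exact AdicRingLib.isAdicComplete_map hK
  let D := B ⧸ q.asIdeal
  let := φ.toAlgebra
  have : IsScalarTower A R D := IsScalarTower.of_algebraMap_eq fun a => (hφ a).symm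
  let J := (I.map (algebraMap A B)).map (Ideal.Quotient.mk q.asIdeal)
  have hJ : I'.map (algebraMap R D) = J := by
    show (I.map (algebraMap A R)).map _ = (I.map (algebraMap A B)).map _
    rw [Ideal.map_map, Ideal.map_map, ← IsScalarTower.algebraMap_eq]
    rfl
  obtain ⟨hJ0, hall⟩ := (AdicRingLib.RigClosed.forall_le_map_iff _ q).1 hq
  have hc := AdicRingLib.RigClosed.isAdicComplete_quotient (I.map (algebraMap A B)) q.asIdeal
  let M := m.map (Ideal.Quotient.mk q.asIdeal)
  have hM : M.IsMaximal :=
    Ideal.IsMaximal.map_of_surjective_of_ker_le Ideal.Quotient.mk_surjective (by rwa [Ideal.mk_ker])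
  have hMrad : M = J.radical := AdicRingLib.RigClosed.eq_radical_of_forall_le hJ0 hall M fun e =>
    hJ0 (le_bot_iff.1 (e ▸ (IsAdicComplete.le_jacobson_bot _).trans (sInf_le ⟨bot_le, hM⟩)))
  let eM : (D ⧸ M) ≃ₐ[A] B ⧸ m := DoubleQuot.quotQuotEquivQuotOfLEₐ A hqm
  let := (eM.toRingHom.comp (algebraMap R (D ⧸ M))).toAlgebra
  have : IsScalarTower A R (B ⧸ m) := IsScalarTower.of_algebraMap_eq fun a => by
    show _ = eM (algebraMap R (D ⧸ M) (algebraMap A R a))
    rw [← IsScalarTower.algebraMap_apply, eM.commutes]
  have := hfin R (by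
    rw [IsScalarTower.algebraMap_apply A (Localization.Away f) R]
    exact (IsLocalization.Away.algebraMap_isUnit f).map _)
  let eR : (B ⧸ m) ≃ₐ[R] D ⧸ M :=
    AlgEquiv.ofRingEquiv (f := eM.symm.toRingEquiv) fun r => eM.symm_apply_apply _
  have : Module.Finite R (D ⧸ M) := Module.Finite.equiv eR.toLinearEquiv
  have : IsAdicComplete (I'.map (algebraMap R D)) D := hJ ▸ hc
  have : Module.Finite R D := AdicRingLib.RigClosed.finite_of_radical_eq I' M (hJ ▸ hMrad.le)
  have : Module.Finite R (D ⧸ (⊥ : Ideal D)) := Module.Finite.equiv (AlgEquiv.quotientBot R D).symm.toLinearEquiv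
  have h := AdicRingLib.RigClosed.comap_rigClosed_of_finite I' (⟨⊥, Ideal.isPrime_bot⟩ : PrimeSpectrum D)
    ⟨fun h => hJ0 (le_bot_iff.1 ((le_of_eq hJ.symm).trans h)), fun y _ hy => PrimeSpectrum.ext (by
      by_contra hne
      exact hy ((le_of_eq hJ).trans (hall y.asIdeal y.2 hne)))⟩
  refine ⟨RingHom.ker_isPrime φ, ?_, fun y hy hIy => ?_⟩
  · intro hle
    exact h.1 (hle.trans (le_of_eq (RingHom.ker_eq_comap_bot φ)))
  · have := congrArg PrimeSpectrum.asIdeal (h.2 y ((le_of_eq (RingHom.ker_eq_comap_bot φ).symm).trans hy) hIy)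
    exact this.trans (RingHom.ker_eq_comap_bot φ).symm

/-- Let A be a Noetherian ring complete for the adic topology of an ideal I, and B a Noetherian
A-algebra complete for the IB-adic topology with B/IB of finite type over A (an adic morphism,
topologically of finite type, of adic Noetherian topological rings). Let q be a prime of B which is
rig-closed (IB ⊄ q and q maximal among the primes not containing IB). Then there exists f ∈ A which
maps to a unit in B/q such that the following holds. Let A_{f} and B_{f} be the completed principal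
localizations (the I-adic completions of A_f and B_f) and ψ : A_{f} → B_{f} the canonical map,
characterised here as any ring map compatible with A_f → B_f (there is exactly one). Then the
inverse image p' under ψ of the ideal q' = q B_{f} is a rig-closed prime of A_{f}: p' is prime, I
A_{f} ⊄ p', and p' is maximal among the primes of A_{f} not containing I A_{f}. (That q B_{f} is
itself prime with quotient B/q holds because f is a unit modulo q; it is not restated.) -/
theorem result (A : Type u) [CommRing A] [IsNoetherianRing A] (I : Ideal A) [IsAdicComplete I A] (B : Type u) [CommRing B] [Algebra A B] [IsNoetherianRing B] [IsAdicComplete (I.map (algebraMap A B)) B] (hft : Algebra.FiniteType A (B ⧸ (I.map (algebraMap A B)))) (q : PrimeSpectrum B) (hq : (¬ (I.map (algebraMap A B)) ≤ q.asIdeal ∧ ∀ y : PrimeSpectrum B, q ≤ y → ¬ (I.map (algebraMap A B)) ≤ y.asIdeal → y = q)) : ∃ f : A, IsUnit (Ideal.Quotient.mk q.asIdeal (algebraMap A B f)) ∧ ∀ ψ : (AdicCompletion (I.map (algebraMap A (Localization.Away f))) (Localization.Away f)) →+* (AdicCompletion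 ((I.map (algebraMap A B)).map (algebraMap B (Localization.Away (algebraMap A B f)))) (Localization.Away (algebraMap A B f))), ψ.comp (algebraMap (Localization.Away f) (AdicCompletion (I.map (algebraMap A (Localization.Away f))) (Localization.Away f))) = (algebraMap (Localization.Away (algebraMap A B f)) (AdicCompletion ((I.map (algebraMap A B)).map (algebraMap B (Localization.Away (algebraMap A B f)))) (Localization.Away (algebraMap A B f)))).comp (Localization.awayMap (algebraMap A B) f) → (((q.asIdeal.map (algebraMap B (AdicCompletion ((I.map (algebraMap A B)).map (algebraMap B (Localization.Away (algebraMap A B f)))) (Localization.Away (algebraMap A B f))))).comap ψ).IsPrime ∧ ¬ (I.map (algebraMap A (AdicCompletion (I.map (algebraMap A (Localization.Away f))) (Localization.Away f)))) ≤ ((q.asIdeal.map (algebraMap B (AdicCompletion ((I.map (algebraMap A B)).map (algebraMap B (Localization.Away (algebraMap A B f)))) (Localization.Away (algebraMap A B f))))).comap ψ) ∧ ∀ y : PrimeSpectrum (AdicCompletion (I.map (algebraMap A (Localization.Away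 f))) (Localization.Away f)), ((q.asIdeal.map (algebraMap B (AdicCompletion ((I.map (algebraMap A B)).map (algebraMap B (Localization.Away (algebraMap A B f)))) (Localization.Away (algebraMap A B f))))).comap ψ) ≤ y.asIdeal → ¬ (I.map (algebraMap A (AdicCompletion (I.map (algebraMap A (Localization.Away f))) (Localization.Away f)))) ≤ y.asIdeal → y.asIdeal = ((q.asIdeal.map (algebraMap B (AdicCompletion ((I.map (algebraMap A B)).map (algebraMap B (Localization.Away (algebraMap A B f)))) (Localization.Away (algebraMap A B f))))).comap ψ)) := by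
  obtain ⟨m, hm, hqm⟩ := Ideal.exists_le_maximal q.asIdeal q.2.ne_top
  have hJm : I.map (algebraMap A B) ≤ m := (IsAdicComplete.le_jacobson_bot _).trans (sInf_le ⟨bot_le, hm⟩)
  obtain ⟨f, hfm, hfin⟩ := exists_denominator _ hft m hJm
  have := AdicRingLib.RigClosed.isLocalRing_quotient _ q hq
  have hMmax : (m.map (Ideal.Quotient.mk q.asIdeal)).IsMaximal :=
    Ideal.IsMaximal.map_of_surjective_of_ker_le Ideal.Quotient.mk_surjective (by rwa [Ideal.mk_ker])
  have hu : IsUnit (Ideal.Quotient.mk q.asIdeal (algebraMap A B f)) := by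
    by_contra hu
    rw [← mem_nonunits_iff, ← IsLocalRing.mem_maximalIdeal, ← IsLocalRing.eq_maximalIdeal hMmax] at hu
    have h2 : algebraMap A B f ∈ (m.map (Ideal.Quotient.mk q.asIdeal)).comap (Ideal.Quotient.mk q.asIdeal) := hu
    rw [Ideal.comap_map_of_surjective _ Ideal.Quotient.mk_surjective, ← RingHom.ker_eq_comap_bot,
      Ideal.mk_ker, sup_eq_left.2 hqm] at h2
    exact hfm h2
  obtain ⟨hprime, hbij⟩ := Groth.Agent.S8837.result B (I.map (algebraMap A B)) q.asIdeal (algebraMap A B f) hu
  refine ⟨f, hu, ?_⟩
  set g := algebraMap A B f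
  intro ψ hψ
  let e := RingEquiv.ofBijective _ hbij
  let φ : AdicCompletion (I.map (algebraMap A (Localization.Away f))) (Localization.Away f) →+* B ⧸ q.asIdeal :=
    e.symm.toRingHom.comp ((Ideal.Quotient.mk _).comp ψ)
  have hker : RingHom.ker φ = (q.asIdeal.map (algebraMap B (AdicCompletion ((I.map (algebraMap A B)).map
      (algebraMap B (Localization.Away g))) (Localization.Away g)))).comap ψ := by
    ext x
    rw [RingHom.mem_ker, Ideal.mem_comap, ← Ideal.Quotient.eq_zero_iff_mem]
    exact e.symm.map_eq_zero_iff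
  have hφ : ∀ a : A, φ (algebraMap A _ a) = algebraMap A (B ⧸ q.asIdeal) a := fun a => by
    have h1 : ψ (algebraMap A _ a) =
        algebraMap B (AdicCompletion ((I.map (algebraMap A B)).map (algebraMap B (Localization.Away g)))
          (Localization.Away g)) (algebraMap A B a) := by
      refine (congrArg ψ (IsScalarTower.algebraMap_apply A (Localization.Away f) _ a)).trans ?_
      refine (RingHom.congr_fun hψ (algebraMap A (Localization.Away f) a)).trans ?_
      refine Eq.trans (congrArg (algebraMap (Localization.Away g) (AdicCompletion ((I.map (algebraMap A B)).map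
        (algebraMap B (Localization.Away g))) (Localization.Away g))) ?_)
        (IsScalarTower.algebraMap_apply B (Localization.Away g) _ (algebraMap A B a)).symm
      exact IsLocalization.map_eq _ a
    show e.symm (Ideal.Quotient.mk _ (ψ _)) = _
    rw [h1]
    exact (e.symm_apply_eq).2 rfl
  have h := rigClosed_ker I q hq f m hqm hfin φ hφ
  rw [hker] at h
  exact h

end Groth.Agent.S8840
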