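import Groth.Statements.S8841
import Groth.Agent.AdicRingLib.RigChart
import Groth.Agent.S8837

set_option autoImplicit false
universe u
open AdicRing

namespace Groth.Agent.S8841

open AdicRingLib

/-- Let A be a Noetherian ring complete for the adic topology of an ideal I, and B a Noetherian
A-algebra complete for the IB-adic topology with B/IB of finite type over A (an adic morphism,
topologically of finite type, of adic Noetherian topological rings), and assume A/I is a Jacobson
ring. Suppose A → B is naively rig-flat: whenever q is a rig-closed prime of B (IB ⊄ q and q maximal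
among the primes not containing IB), the localization B_q is an A-flat ring. Then A → B is rig-flat:
for every f ∈ A, letting A_{f} and B_{f} be the completed principal localizations (the I-adic
completions of A_f and B_f) and ψ : A_{f} → B_{f} the canonical map, characterised here as any ring
map compatible with A_f → B_f (there is exactly one), the local ring (B_{f})_{q'} is flat over A_{f}
via ψ for every rig-closed prime q' of B_{f} (I B_{f} ⊄ q' and q' maximal among the primes not
containing I B_{f}). (That A_{f} → B_{f} is again adic and topologically of finite type is not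
restated.) -/
theorem result (A : Type u) [CommRing A] [IsNoetherianRing A] (I : Ideal A) [IsAdicComplete I A] (B : Type u) [CommRing B] [Algebra A B] [IsNoetherianRing B] [IsAdicComplete (I.map (algebraMap A B)) B] (hft : Algebra.FiniteType A (B ⧸ (I.map (algebraMap A B)))) (hJ : IsJacobsonRing (A ⧸ I)) (hnaive : ∀ q : PrimeSpectrum B, (¬ (I.map (algebraMap A B)) ≤ q.asIdeal ∧ ∀ y : PrimeSpectrum B, q ≤ y → ¬ (I.map (algebraMap A B)) ≤ y.asIdeal → y = q) → (algebraMap A (Localization.AtPrime q.asIdeal)).Flat) (f : A) (ψ : (AdicCompletion (I.map (algebraMap A (Localization.Away f))) (Localization.Away f)) →+* (AdicCompletion ((I.map (algebraMap A B)).map (algebraMap B (Localization.Away (algebraMap A B f)))) (Localization.Away (algebraMap A B f)))) (hψ : ψ.comp (algebraMap (Localization.Away f) (AdicCompletion (I.map (algebraMap A (Localization.Away f))) (Localization.Away f))) = (algebraMap (Localization.Away (algebraMap A B f)) (AdicCompletion ((I.map (algebraMap A B)).map (algebraMap B (Localization.Away (algebraMap A B f)))) (Localization.Away (algebraMap A B f)))).comp (Localization.awayMap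 (algebraMap A B) f)) (q' : PrimeSpectrum (AdicCompletion ((I.map (algebraMap A B)).map (algebraMap B (Localization.Away (algebraMap A B f)))) (Localization.Away (algebraMap A B f)))) (hq' : (¬ ((((I.map (algebraMap A B))).map (algebraMap B (Localization.Away (algebraMap A B f)))).map (algebraMap (Localization.Away (algebraMap A B f)) (AdicCompletion ((I.map (algebraMap A B)).map (algebraMap B (Localization.Away (algebraMap A B f)))) (Localization.Away (algebraMap A B f))))) ≤ q'.asIdeal ∧ ∀ y : PrimeSpectrum (AdicCompletion ((I.map (algebraMap A B)).map (algebraMap B (Localization.Away (algebraMap A B f)))) (Localization.Away (algebraMap A B f))), q' ≤ y → ¬ ((((I.map (algebraMap A B))).map (algebraMap B (Localization.Away (algebraMap A B f)))).map (algebraMap (Localization.Away (algebraMap A B f)) (AdicCompletion ((I.map (algebraMap A B)).map (algebraMap B (Localization.Away (algebraMap A B f)))) (Localization.Away (algebraMap A B f))))) ≤ y.asIdeal → y = q')) : ((algebraMap (AdicCompletion ((I.map (algebraMap A B)).map (algebraMap B (Localization.Away (algebraMap A B f)))) (Localization.Away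 (algebraMap A B f))) (Localization.AtPrime q'.asIdeal)).comp ψ).Flat := by
  let KB := I.map (algebraMap A B)
  let fB := algebraMap A B f
  let X := CL I f
  let Y := CL KB fB
  have := CL.isNoetherianRing KB fB
  have := CL.isNoetherianRing I f
  have hKBfg : KB.FG := IsNoetherian.noetherian KB
  have hmapY : I.map (algebraMap A Y) = KB.map (algebraMap B Y) := CL.map_base I fB
  have hYc : IsAdicComplete (I.map (algebraMap A Y)) Y := hmapY ▸ CL.isAdicComplete KB fB hKBfg
  have hftY : Algebra.FiniteType A (Y ⧸ I.map (algebraMap A Y)) :=
    hmapY ▸ CL.finiteType_quotient KB fB hKBfg hft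
  have hqY : ¬ I.map (algebraMap A Y) ≤ q'.asIdeal ∧
      ∀ y : PrimeSpectrum Y, q' ≤ y → ¬ I.map (algebraMap A Y) ≤ y.asIdeal → y = q' := by
    rw [hmapY, CL.map_algebraMap]; exact hq'
  have hfin : Module.Finite A (Y ⧸ q'.asIdeal) := by
    refine RigClosed.finite_of_finite_residue I q' hqY fun m hm hqm => ?_
    have hIm : I.map (algebraMap A Y) ≤ m := (IsAdicComplete.le_jacobson_bot _).trans (sInf_le ⟨bot_le, hm⟩)
    exact RigClosed.finite_residueField _ hftY m hIm I (Ideal.map_le_iff_le_comap.1 hIm)
  let D := Y ⧸ q'.asIdeal
  have : q'.asIdeal.IsPrime := q'.2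
  let φB : B →+* D := (Ideal.Quotient.mk q'.asIdeal).comp (algebraMap B Y)
  have hφB : ∀ a, φB (algebraMap A B a) = algebraMap A D a := fun a => by
    show Ideal.Quotient.mk q'.asIdeal (algebraMap B Y (algebraMap A B a)) = _
    rw [← IsScalarTower.algebraMap_apply A B Y a]; rfl
  have hφBfin : φB.Finite := RingHom.Finite.of_comp_finite (f := algebraMap A B) (by
    rw [show φB.comp (algebraMap A B) = algebraMap A D from RingHom.ext hφB]; exact RingHom.finite_algebraMap.2 hfin)
  have hq := RigClosed.rigClosed_point I q' hqY φB hφB hφBfin (PrimeSpectrum.comap (algebraMap B Y) q')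
    (by rw [PrimeSpectrum.comap_asIdeal, ← RingHom.comap_ker, Ideal.mk_ker])
  have h1 := hnaive _ hq
  have h2 : ((algebraMap Y (Localization.AtPrime q'.asIdeal)).comp (algebraMap B Y)).Flat :=
    (CL.flat KB fB).comp (RingHom.flat_algebraMap_iff.2 (IsLocalization.flat _ q'.asIdeal.primeCompl))
  rw [IsScalarTower.algebraMap_eq A B (Localization.AtPrime (PrimeSpectrum.comap (algebraMap B Y) q').asIdeal)] at h1
  have h3 := FlatPoint.flat_comp (algebraMap A B) (algebraMap B Y) q'.asIdeal h1 h2
  have hψA : ψ.comp (algebraMap A X) = (algebraMap B Y).comp (algebraMap A B) :=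
    RingHom.ext (CL.apply_of_comp_eq hψ)
  rw [← hψA] at h3
  refine FlatPoint.flat_of_map_eq (algebraMap A X) ψ q'.asIdeal ?_ h3
  let p := (q'.asIdeal.comap ψ).comap (algebraMap A X)
  have : p.IsPrime := Ideal.IsPrime.comap _
  let ι : (A ⧸ p) →+* D := Ideal.quotientMap q'.asIdeal (ψ.comp (algebraMap A X)) (le_of_eq (Ideal.comap_comap _ _))
  have hι : ι.IsIntegral := by
    have h0 : (ι.comp (Ideal.Quotient.mk p)).IsIntegral := by
      rw [show ι.comp (Ideal.Quotient.mk p) = algebraMap A D from RingHom.ext fun a => by
        show Ideal.Quotient.mk q'.asIdeal (ψ (algebraMap A X a)) = _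
        rw [CL.apply_of_comp_eq hψ]; exact hφB a]
      exact algebraMap_isIntegral_iff.2 inferInstance
    exact h0.tower_top _ _
  have : IsLocalHom ι := hι.isLocalHom (Ideal.quotientMap_injective' (le_of_eq (Ideal.comap_comap _ _).symm))
  have hu : IsUnit (Ideal.Quotient.mk p f) := by
    refine isUnit_of_map_unit ι _ ?_
    show IsUnit (Ideal.Quotient.mk q'.asIdeal (ψ (algebraMap A X f)))
    exact ((CL.isUnit I f).map ψ).map _
  obtain ⟨hprime, hbij⟩ := Groth.Agent.S8837.result A I p f hu
  have hP : q'.asIdeal.comap ψ = p.map (algebraMap A X) := by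
    refine le_antisymm (fun x hx => ?_) Ideal.map_comap_le
    obtain ⟨y, hy⟩ := hbij.2 (Ideal.Quotient.mk _ x)
    obtain ⟨a, rfl⟩ := Ideal.Quotient.mk_surjective y
    rw [Ideal.quotientMap_mk, Ideal.Quotient.eq] at hy
    have ha : a ∈ p := by
      show algebraMap A X a ∈ q'.asIdeal.comap ψ
      have := add_mem ((Ideal.map_comap_le : p.map (algebraMap A X) ≤ _) hy) hx
      rwa [sub_add_cancel] at this
    have hx' := sub_mem (Ideal.mem_map_of_mem (algebraMap A X) ha) hy
    rwa [sub_sub_cancel] at hx'
  exact (Ideal.map_map (algebraMap A X) _).symm.trans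
    ((congrArg _ hP.symm).trans Localization.AtPrime.map_eq_maximalIdeal)

end Groth.Agent.S8841
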