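import Groth.Statements.S8843
import Groth.Agent.AdicRingLib.RigChart

set_option autoImplicit false
universe u
open AdicRing

namespace Groth.Agent.S8843

open AdicRingLib

theorem flat_congr {R S : Type u} [CommRing R] [CommRing S] (f : R →+* S) {Q Q' : PrimeSpectrum S} (h : Q = Q')
    (hQ : ((algebraMap S (Localization.AtPrime Q.asIdeal)).comp f).Flat) :
    ((algebraMap S (Localization.AtPrime Q'.asIdeal)).comp f).Flat := by
  subst h; exact hQ

/-- Let A be a Noetherian ring complete for the adic topology of an ideal I, B a Noetherian A-algebra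
complete for the IB-adic topology with B/IB of finite type over A, and C a Noetherian B-algebra,
compatibly an A-algebra, complete for the IC-adic topology with C/IC of finite type over B (so A → B
→ C are adic morphisms of adic Noetherian topological rings, topologically of finite type). Assume A
→ B and B → C are rig-flat, in the following form: for every f ∈ A and the canonical map ψ : A_{f} →
B_{f} of completed principal localizations (the I-adic completions of A_f → B_f; ψ is characterised
as any ring map compatible with A_f → B_f, and there is exactly one), the local ring (B_{f})_q is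
flat over A_{f} via ψ for every rig-closed prime q of B_{f} (I B_{f} ⊄ q and q maximal among the
primes not containing I B_{f}); and likewise for B → C with g ∈ B and rig-closed primes of C_{g}.
Then A → C is rig-flat in the same form: for every f ∈ A, every ring map A_{f} → C_{f} compatible
with A_f → C_f, and every rig-closed prime q of C_{f}, the local ring (C_{f})_q is flat over A_{f}.
(That A → C is again adic and topologically of finite type is not restated.) -/
theorem result (A : Type u) [CommRing A] [IsNoetherianRing A] (I : Ideal A) [IsAdicComplete I A] (B : Type u) [CommRing B] [Algebra A B] [IsNoetherianRing B] [IsAdicComplete (I.map (algebraMap A B)) B] (hftB : Algebra.FiniteType A (B ⧸ (I.map (algebraMap A B)))) (C : Type u) [CommRing C] [Algebra A C] [Algebra B C] [IsScalarTower A B C] [IsNoetherianRing C] [IsAdicComplete (I.map (algebraMap A C)) C] (hftC : Algebra.FiniteType B (C ⧸ (I.map (algebraMap A C)))) (hAB : (∀ f : A, ∀ ψf : (AdicCompletion (I.map (algebraMap A (Localization.Away f))) (Localization.Away f)) →+* (AdicCompletion ((I.map (algebraMap A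 B)).map (algebraMap B (Localization.Away (algebraMap A B f)))) (Localization.Away (algebraMap A B f))), ψf.comp (algebraMap (Localization.Away f) (AdicCompletion (I.map (algebraMap A (Localization.Away f))) (Localization.Away f))) = (algebraMap (Localization.Away (algebraMap A B f)) (AdicCompletion ((I.map (algebraMap A B)).map (algebraMap B (Localization.Away (algebraMap A B f)))) (Localization.Away (algebraMap A B f)))).comp (Localization.awayMap (algebraMap A B) f) → ∀ qf : PrimeSpectrum (AdicCompletion ((I.map (algebraMap A B)).map (algebraMap B (Localization.Away (algebraMap A B f)))) (Localization.Away (algebraMap A B f))), (¬ (((I.map (algebraMap A B)).map (algebraMap B (Localization.Away (algebraMap A B f)))).map (algebraMap (Localization.Away (algebraMap A B f)) (AdicCompletion ((I.map (algebraMap A B)).map (algebraMap B (Localization.Away (algebraMap A B f)))) (Localization.Away (algebraMap A B f))))) ≤ qf.asIdeal ∧ ∀ y : PrimeSpectrum (AdicCompletion ((I.map (algebraMap A B)).map (algebraMap B (Localization.Away (algebraMap A B f)))) (Localization.Away (algebraMap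 A B f))), qf ≤ y → ¬ (((I.map (algebraMap A B)).map (algebraMap B (Localization.Away (algebraMap A B f)))).map (algebraMap (Localization.Away (algebraMap A B f)) (AdicCompletion ((I.map (algebraMap A B)).map (algebraMap B (Localization.Away (algebraMap A B f)))) (Localization.Away (algebraMap A B f))))) ≤ y.asIdeal → y = qf) → ((algebraMap (AdicCompletion ((I.map (algebraMap A B)).map (algebraMap B (Localization.Away (algebraMap A B f)))) (Localization.Away (algebraMap A B f))) (Localization.AtPrime qf.asIdeal)).comp ψf).Flat)) (hBC : (∀ g : B, ∀ ψg : (AdicCompletion ((I.map (algebraMap A B)).map (algebraMap B (Localization.Away g))) (Localization.Away g)) →+* (AdicCompletion (((I.map (algebraMap A B)).map (algebraMap B C)).map (algebraMap C (Localization.Away (algebraMap B C g)))) (Localization.Away (algebraMap B C g))), ψg.comp (algebraMap (Localization.Away g) (AdicCompletion ((I.map (algebraMap A B)).map (algebraMap B (Localization.Away g))) (Localization.Away g))) = (algebraMap (Localization.Away (algebraMap B C g)) (AdicCompletion (((I.map (algebraMap A B)).map (algebraMap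 B C)).map (algebraMap C (Localization.Away (algebraMap B C g)))) (Localization.Away (algebraMap B C g)))).comp (Localization.awayMap (algebraMap B C) g) → ∀ qg : PrimeSpectrum (AdicCompletion (((I.map (algebraMap A B)).map (algebraMap B C)).map (algebraMap C (Localization.Away (algebraMap B C g)))) (Localization.Away (algebraMap B C g))), (¬ ((((I.map (algebraMap A B)).map (algebraMap B C)).map (algebraMap C (Localization.Away (algebraMap B C g)))).map (algebraMap (Localization.Away (algebraMap B C g)) (AdicCompletion (((I.map (algebraMap A B)).map (algebraMap B C)).map (algebraMap C (Localization.Away (algebraMap B C g)))) (Localization.Away (algebraMap B C g))))) ≤ qg.asIdeal ∧ ∀ y : PrimeSpectrum (AdicCompletion (((I.map (algebraMap A B)).map (algebraMap B C)).map (algebraMap C (Localization.Away (algebraMap B C g)))) (Localization.Away (algebraMap B C g))), qg ≤ y → ¬ ((((I.map (algebraMap A B)).map (algebraMap B C)).map (algebraMap C (Localization.Away (algebraMap B C g)))).map (algebraMap (Localization.Away (algebraMap B C g)) (AdicCompletion (((I.map (algebraMap A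 B)).map (algebraMap B C)).map (algebraMap C (Localization.Away (algebraMap B C g)))) (Localization.Away (algebraMap B C g))))) ≤ y.asIdeal → y = qg) → ((algebraMap (AdicCompletion (((I.map (algebraMap A B)).map (algebraMap B C)).map (algebraMap C (Localization.Away (algebraMap B C g)))) (Localization.Away (algebraMap B C g))) (Localization.AtPrime qg.asIdeal)).comp ψg).Flat)) : (∀ e : A, ∀ ψe : (AdicCompletion (I.map (algebraMap A (Localization.Away e))) (Localization.Away e)) →+* (AdicCompletion ((I.map (algebraMap A C)).map (algebraMap C (Localization.Away (algebraMap A C e)))) (Localization.Away (algebraMap A C e))), ψe.comp (algebraMap (Localization.Away e) (AdicCompletion (I.map (algebraMap A (Localization.Away e))) (Localization.Away e))) = (algebraMap (Localization.Away (algebraMap A C e)) (AdicCompletion ((I.map (algebraMap A C)).map (algebraMap C (Localization.Away (algebraMap A C e)))) (Localization.Away (algebraMap A C e)))).comp (Localization.awayMap (algebraMap A C) e) → ∀ qe : PrimeSpectrum (AdicCompletion ((I.map (algebraMap A C)).map (algebraMap C (Localization.Away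 (algebraMap A C e)))) (Localization.Away (algebraMap A C e))), (¬ (((I.map (algebraMap A C)).map (algebraMap C (Localization.Away (algebraMap A C e)))).map (algebraMap (Localization.Away (algebraMap A C e)) (AdicCompletion ((I.map (algebraMap A C)).map (algebraMap C (Localization.Away (algebraMap A C e)))) (Localization.Away (algebraMap A C e))))) ≤ qe.asIdeal ∧ ∀ y : PrimeSpectrum (AdicCompletion ((I.map (algebraMap A C)).map (algebraMap C (Localization.Away (algebraMap A C e)))) (Localization.Away (algebraMap A C e))), qe ≤ y → ¬ (((I.map (algebraMap A C)).map (algebraMap C (Localization.Away (algebraMap A C e)))).map (algebraMap (Localization.Away (algebraMap A C e)) (AdicCompletion ((I.map (algebraMap A C)).map (algebraMap C (Localization.Away (algebraMap A C e)))) (Localization.Away (algebraMap A C e))))) ≤ y.asIdeal → y = qe) → ((algebraMap (AdicCompletion ((I.map (algebraMap A C)).map (algebraMap C (Localization.Away (algebraMap A C e)))) (Localization.Away (algebraMap A C e))) (Localization.AtPrime qe.asIdeal)).comp ψe).Flat) := by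
  intro e ψe hψe qe hqe
  have hq' : ¬ I.map (algebraMap A (CL (I.map (algebraMap A C)) (algebraMap A C e))) ≤ qe.asIdeal ∧
      ∀ y : PrimeSpectrum (CL (I.map (algebraMap A C)) (algebraMap A C e)), qe ≤ y →
        ¬ I.map (algebraMap A (CL (I.map (algebraMap A C)) (algebraMap A C e))) ≤ y.asIdeal → y = qe := by
    rw [CL.map_base, CL.map_algebraMap]; exact hqe
  have hK₂ : (I.map (algebraMap A B)).map (algebraMap B C) = I.map (algebraMap A C) := by
    rw [Ideal.map_map, ← IsScalarTower.algebraMap_eq]
  have hft : Algebra.FiniteType A (C ⧸ I.map (algebraMap A C)) :=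
    RigClosed.finiteType_trans_quotient _ _ hK₂.le hftB hftC
  obtain ⟨f, hef, hu, φ, hφ, hfin⟩ := RigClosed.exists_chart I e hft qe hq'
  let D := CL (I.map (algebraMap A C)) (algebraMap A C e) ⧸ qe.asIdeal
  let gB := algebraMap A B f
  let gC := algebraMap B C gB
  let K₂ := (I.map (algebraMap A B)).map (algebraMap B C)
  have hgC : gC = algebraMap A C f := (IsScalarTower.algebraMap_apply A B C f).symm
  have hIfg : I.FG := IsNoetherian.noetherian I
  have hK₂fg : K₂.FG := IsNoetherian.noetherian K₂
  have hIK₂ : I.map (algebraMap A C) ≤ K₂ := hK₂.ge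
  obtain ⟨ψ₁, hψ₁⟩ := CL.exists_map I (I.map (algebraMap A B)) (IsNoetherian.noetherian _) gB f (algebraMap A B)
    le_rfl (CL.isUnit _ _)
  obtain ⟨ψ₂, hψ₂⟩ := CL.exists_map (I.map (algebraMap A B)) K₂ hK₂fg gC gB (algebraMap B C)
    le_rfl (CL.isUnit _ _)
  have := CL.isNoetherianRing (I.map (algebraMap A C)) (algebraMap A C e)
  have hC'c : IsAdicComplete (I.map (algebraMap A (CL (I.map (algebraMap A C)) (algebraMap A C e))))
      (CL (I.map (algebraMap A C)) (algebraMap A C e)) :=
    (CL.map_base I (algebraMap A C e)).symm ▸ CL.isAdicComplete _ _ (IsNoetherian.noetherian _)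
  have hDc := RigClosed.isAdicComplete_point I (C := CL (I.map (algebraMap A C)) (algebraMap A C e)) qe.asIdeal
  have hCD : ∀ a, algebraMap C D (algebraMap A C a) = algebraMap A D a := fun a =>
    (IsScalarTower.algebraMap_apply A C D a).symm
  have hmapD : (I.map (algebraMap A C)).map (algebraMap C D) = I.map (algebraMap A D) :=
    (Ideal.map_map _ _).trans (congrArg (fun h => I.map h) (IsScalarTower.algebraMap_eq A C D).symm)
  obtain ⟨φC, hφC⟩ := CL.exists_hom (K := I.map (algebraMap A D)) K₂ gC (algebraMap C D)
    (by
      show ((I.map (algebraMap A B)).map (algebraMap B C)).map _ ≤ _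
      exact ((congrArg (Ideal.map (algebraMap C D)) hK₂).trans hmapD).le)
    (by rw [hgC, hCD]; exact hu)
  let qf : PrimeSpectrum (CL K₂ gC) := ⟨RingHom.ker φC, RingHom.ker_isPrime _⟩
  have : qf.asIdeal.IsPrime := qf.2
  have hψ₂' : ∀ a, ψ₂ (ψ₁ (algebraMap A _ a)) = algebraMap C _ (algebraMap A C a) := fun a => by
    rw [hψ₁, hψ₂, ← IsScalarTower.algebraMap_apply A B C]
  have hφ₂₁ : (φC.comp ψ₂).comp ψ₁ = φ := by
    refine CL.hom_ext (K := I.map (algebraMap A D)) I f hIfg _ _ ?_ fun a => ?_
    · rw [show ((φC.comp ψ₂).comp ψ₁).comp (algebraMap A _) = algebraMap A D from RingHom.ext fun a => by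
        show φC (ψ₂ (ψ₁ _)) = _
        rw [hψ₂', hφC, hCD]]
    · show φC (ψ₂ (ψ₁ _)) = _
      rw [hψ₂', hφC, hCD, hφ]
  have hAC : ∀ a, φC (algebraMap A (CL K₂ gC) a) = algebraMap A D a := fun a =>
    (congrArg φC (IsScalarTower.algebraMap_apply A C (CL K₂ gC) a)).trans ((hφC _).trans (hCD a))
  have hAB' : ∀ a, (φC.comp ψ₂) (algebraMap A (CL (I.map (algebraMap A B)) gB) a) = algebraMap A D a := fun a => by
    show φC (ψ₂ _) = _
    rw [IsScalarTower.algebraMap_apply A B (CL (I.map (algebraMap A B)) gB) a, ← hψ₁, hψ₂', hφC, hCD]
  have hqf := RigClosed.rigClosed_of_chart I qe hq' (ψ₂.comp ψ₁) φ hfin φC hAC hφ₂₁ qf rfl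
  have hqb := RigClosed.rigClosed_of_chart I qe hq' ψ₁ φ hfin (φC.comp ψ₂) hAB' hφ₂₁
    (PrimeSpectrum.comap ψ₂ qf) (RingHom.comap_ker φC ψ₂)
  rw [CL.map_base, CL.map_algebraMap] at hqb
  have hI2 : I.map (algebraMap A (CL K₂ gC)) =
      (K₂.map (algebraMap C (Localization.Away gC))).map (algebraMap (Localization.Away gC) (CL K₂ gC)) :=
    (congrArg (fun h => I.map h) (IsScalarTower.algebraMap_eq A C (CL K₂ gC))).trans
      ((Ideal.map_map (algebraMap A C) _).symm.trans
        ((congrArg (Ideal.map (algebraMap C (CL K₂ gC))) hK₂.symm).trans (CL.map_algebraMap K₂ gC)))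
  rw [hI2] at hqf
  have h1 := hAB f ψ₁ (CL.comp_eq_of_apply hψ₁) _ hqb
  have h2 := hBC gB ψ₂ (CL.comp_eq_of_apply hψ₂) qf hqf
  have h3 := FlatPoint.flat_comp ψ₁ ψ₂ qf.asIdeal h1 h2
  obtain ⟨ρA, hρA⟩ := CL.exists_map I I hIfg f e (RingHom.id A) (Ideal.map_id I).le
    (isUnit_of_dvd_unit ((map_dvd _) hef) (CL.isUnit I f))
  obtain ⟨ρC, hρC⟩ := CL.exists_map (I.map (algebraMap A C)) K₂ hK₂fg gC (algebraMap A C e) (RingHom.id C)
    ((Ideal.map_id _).trans_le hIK₂)
    (isUnit_of_dvd_unit ((map_dvd _) (hgC ▸ (map_dvd _) hef : algebraMap A C e ∣ gC)) (CL.isUnit K₂ gC))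
  have hρAf : ρA.Flat := CL.flat_map I I f (RingHom.Flat.of_bijective Function.bijective_id) (Ideal.map_id I).le ρA hρA
  have hρCf : ρC.Flat := CL.flat_map _ K₂ gC (RingHom.Flat.of_bijective Function.bijective_id)
    ((Ideal.map_id _).trans_le hIK₂) ρC hρC
  have hsq : ρC.comp ψe = (ψ₂.comp ψ₁).comp ρA := by
    have := CL.isAdicComplete K₂ gC hK₂fg
    refine CL.hom_ext (K := K₂.map (algebraMap C (CL K₂ gC))) I e hIfg _ _ ?_ fun a => ?_
    · rw [show (ρC.comp ψe).comp (algebraMap A _) = (algebraMap C (CL K₂ gC)).comp (algebraMap A C) from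
        RingHom.ext fun a => by
          show ρC (ψe _) = _
          rw [CL.apply_of_comp_eq hψe, hρC]; rfl, ← Ideal.map_map]
      exact Ideal.map_mono hIK₂
    · show ρC (ψe _) = ψ₂ (ψ₁ (ρA _))
      rw [CL.apply_of_comp_eq hψe, hρC, hρA, RingHom.id_apply, RingHom.id_apply, hψ₂']
  have h4 := hρAf.comp h3
  rw [RingHom.comp_assoc, ← hsq] at h4
  have h5 := FlatPoint.flat_descend ψe ρC qf.asIdeal hρCf h4
  have hcomap : qe = PrimeSpectrum.comap ρC qf := by
    refine PrimeSpectrum.ext ?_
    have hcomp : φC.comp ρC = Ideal.Quotient.mk qe.asIdeal := by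
      refine CL.hom_ext (K := I.map (algebraMap A D)) (I.map (algebraMap A C)) _ (IsNoetherian.noetherian _) _ _
        ?_ fun c => ?_
      · rw [show (φC.comp ρC).comp (algebraMap C _) = algebraMap C D from RingHom.ext fun c => by
          show φC (ρC _) = _
          rw [hρC, RingHom.id_apply, hφC]]
        exact hmapD.le
      · show φC (ρC _) = _
        rw [hρC, RingHom.id_apply, hφC]
        rfl
    exact Ideal.mk_ker.symm.trans ((congrArg RingHom.ker hcomp.symm).trans (RingHom.comap_ker φC ρC).symm)
  exact flat_congr ψe hcomap.symm h5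

end Groth.Agent.S8843
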