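import Groth.Statements.S8844
import Groth.Agent.AdicRingLib.RigChart
import Groth.Agent.S8836

set_option autoImplicit false
universe u
open AdicRing

namespace Groth.Agent.S8844

open AdicRingLib

/-- Consider a commutative square of adic Noetherian topological rings with all maps adic and
topologically of finite type: A a Noetherian ring complete for the adic topology of an ideal I; B,
A' and B' Noetherian algebras complete for the IB-, IA'- and IB'-adic topologies, B' an algebra over
B and over A' compatibly with A, with B/IB and A'/IA' of finite type over A and B'/IB' of finite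
type over B and over A'. Assume A → A' is flat and B → B' is faithfully flat. If A' → B' is rig-flat
— for every f' ∈ A', every ring map A'_{f'} → B'_{f'} of completed principal localizations
compatible with the map of ordinary localizations A'[1/f'] → B'[1/f'] (there is exactly one), and
every rig-closed prime q of B'_{f'} (I B'_{f'} ⊄ q and q maximal among the primes not containing I
B'_{f'}), the local ring (B'_{f'})_q is flat over A'_{f'} — then A → B is rig-flat in the same form:
for every f ∈ A, every ring map A_{f} → B_{f} of completed principal localizations compatible with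
the map of ordinary localizations A[1/f] → B[1/f], and every rig-closed prime q of B_{f}, the local
ring (B_{f})_q is flat over A_{f}. -/
theorem result (A : Type u) [CommRing A] [IsNoetherianRing A] (I : Ideal A) [IsAdicComplete I A] (B : Type u) [CommRing B] [Algebra A B] [IsNoetherianRing B] [IsAdicComplete (I.map (algebraMap A B)) B] (hftB : Algebra.FiniteType A (B ⧸ (I.map (algebraMap A B)))) (A' : Type u) [CommRing A'] [Algebra A A'] [IsNoetherianRing A'] [IsAdicComplete (I.map (algebraMap A A')) A'] (hftA' : Algebra.FiniteType A (A' ⧸ (I.map (algebraMap A A')))) (B' : Type u) [CommRing B'] [Algebra A B'] [Algebra B B'] [Algebra A' B'] [IsScalarTower A B B'] [IsScalarTower A A' B'] [IsNoetherianRing B'] [IsAdicComplete (I.map (algebraMap A B')) B'] (hftB'B : Algebra.FiniteType B (B' ⧸ (I.map (algebraMap A B')))) (hftB'A' : Algebra.FiniteType A' (B' ⧸ (I.map (algebraMap A B')))) [Module.Flat A A'] [Module.FaithfullyFlat B B'] (hA'B' : (∀ f' : A', ∀ ψf' : (AdicCompletion ((I.map (algebraMap A A')).map (algebraMap A' (Localization.Away f'))) (Localization.Away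 f')) →+* (AdicCompletion (((I.map (algebraMap A A')).map (algebraMap A' B')).map (algebraMap B' (Localization.Away (algebraMap A' B' f')))) (Localization.Away (algebraMap A' B' f'))), ψf'.comp (algebraMap (Localization.Away f') (AdicCompletion ((I.map (algebraMap A A')).map (algebraMap A' (Localization.Away f'))) (Localization.Away f'))) = (algebraMap (Localization.Away (algebraMap A' B' f')) (AdicCompletion (((I.map (algebraMap A A')).map (algebraMap A' B')).map (algebraMap B' (Localization.Away (algebraMap A' B' f')))) (Localization.Away (algebraMap A' B' f')))).comp (Localization.awayMap (algebraMap A' B') f') → ∀ qf' : PrimeSpectrum (AdicCompletion (((I.map (algebraMap A A')).map (algebraMap A' B')).map (algebraMap B' (Localization.Away (algebraMap A' B' f')))) (Localization.Away (algebraMap A' B' f'))), (¬ ((((I.map (algebraMap A A')).map (algebraMap A' B')).map (algebraMap B' (Localization.Away (algebraMap A' B' f')))).map (algebraMap (Localization.Away (algebraMap A' B' f')) (AdicCompletion (((I.map (algebraMap A A')).map (algebraMap A' B')).map (algebraMap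 B' (Localization.Away (algebraMap A' B' f')))) (Localization.Away (algebraMap A' B' f'))))) ≤ qf'.asIdeal ∧ ∀ y : PrimeSpectrum (AdicCompletion (((I.map (algebraMap A A')).map (algebraMap A' B')).map (algebraMap B' (Localization.Away (algebraMap A' B' f')))) (Localization.Away (algebraMap A' B' f'))), qf' ≤ y → ¬ ((((I.map (algebraMap A A')).map (algebraMap A' B')).map (algebraMap B' (Localization.Away (algebraMap A' B' f')))).map (algebraMap (Localization.Away (algebraMap A' B' f')) (AdicCompletion (((I.map (algebraMap A A')).map (algebraMap A' B')).map (algebraMap B' (Localization.Away (algebraMap A' B' f')))) (Localization.Away (algebraMap A' B' f'))))) ≤ y.asIdeal → y = qf') → ((algebraMap (AdicCompletion (((I.map (algebraMap A A')).map (algebraMap A' B')).map (algebraMap B' (Localization.Away (algebraMap A' B' f')))) (Localization.Away (algebraMap A' B' f'))) (Localization.AtPrime qf'.asIdeal)).comp ψf').Flat)) : (∀ f : A, ∀ ψf : (AdicCompletion (I.map (algebraMap A (Localization.Away f))) (Localization.Away f)) →+* (AdicCompletion ((I.map (algebraMap A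 B)).map (algebraMap B (Localization.Away (algebraMap A B f)))) (Localization.Away (algebraMap A B f))), ψf.comp (algebraMap (Localization.Away f) (AdicCompletion (I.map (algebraMap A (Localization.Away f))) (Localization.Away f))) = (algebraMap (Localization.Away (algebraMap A B f)) (AdicCompletion ((I.map (algebraMap A B)).map (algebraMap B (Localization.Away (algebraMap A B f)))) (Localization.Away (algebraMap A B f)))).comp (Localization.awayMap (algebraMap A B) f) → ∀ qf : PrimeSpectrum (AdicCompletion ((I.map (algebraMap A B)).map (algebraMap B (Localization.Away (algebraMap A B f)))) (Localization.Away (algebraMap A B f))), (¬ (((I.map (algebraMap A B)).map (algebraMap B (Localization.Away (algebraMap A B f)))).map (algebraMap (Localization.Away (algebraMap A B f)) (AdicCompletion ((I.map (algebraMap A B)).map (algebraMap B (Localization.Away (algebraMap A B f)))) (Localization.Away (algebraMap A B f))))) ≤ qf.asIdeal ∧ ∀ y : PrimeSpectrum (AdicCompletion ((I.map (algebraMap A B)).map (algebraMap B (Localization.Away (algebraMap A B f)))) (Localization.Away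 (algebraMap A B f))), qf ≤ y → ¬ (((I.map (algebraMap A B)).map (algebraMap B (Localization.Away (algebraMap A B f)))).map (algebraMap (Localization.Away (algebraMap A B f)) (AdicCompletion ((I.map (algebraMap A B)).map (algebraMap B (Localization.Away (algebraMap A B f)))) (Localization.Away (algebraMap A B f))))) ≤ y.asIdeal → y = qf) → ((algebraMap (AdicCompletion ((I.map (algebraMap A B)).map (algebraMap B (Localization.Away (algebraMap A B f)))) (Localization.Away (algebraMap A B f))) (Localization.AtPrime qf.asIdeal)).comp ψf).Flat) := by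
  intro e ψe hψe q hq
  let KB := I.map (algebraMap A B)
  let KA' := I.map (algebraMap A A')
  let KB' := KA'.map (algebraMap A' B')
  have hKB' : KB' = I.map (algebraMap A B') := by
    show (I.map (algebraMap A A')).map (algebraMap A' B') = _
    rw [Ideal.map_map, ← IsScalarTower.algebraMap_eq]
  let eB := algebraMap A B e
  let eA' := algebraMap A A' e
  let eB' := algebraMap A' B' eA'
  have heB' : algebraMap B B' eB = eB' :=
    (IsScalarTower.algebraMap_apply A B B' e).symm.trans (IsScalarTower.algebraMap_apply A A' B' e)
  have hKBB' : KB.map (algebraMap B B') = KB' := by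
    rw [hKB', Ideal.map_map, ← IsScalarTower.algebraMap_eq]
  have hKB'fg : KB'.FG := IsNoetherian.noetherian _
  have hKBfg : KB.FG := IsNoetherian.noetherian _
  have hKA'fg : KA'.FG := IsNoetherian.noetherian _
  obtain ⟨ρ, hρ⟩ := CL.exists_map KB KB' hKB'fg eB' eB (algebraMap B B') hKBB'.le
    (heB' ▸ CL.isUnit KB' eB')
  obtain ⟨ρA, hρA⟩ := CL.exists_map I KA' hKA'fg eA' e (algebraMap A A') le_rfl (CL.isUnit _ _)
  obtain ⟨ψ', hψ'⟩ := CL.exists_map KA' KB' hKB'fg eB' eA' (algebraMap A' B') le_rfl (CL.isUnit _ _)
  have hρf : ρ.Flat := CL.flat_map KB KB' eB' (RingHom.flat_algebraMap_iff.2 inferInstance) hKBB'.le ρ hρ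
  have hρAf : ρA.Flat := CL.flat_map I KA' eA' (RingHom.flat_algebraMap_iff.2 inferInstance) le_rfl ρA hρA
  have := CL.isNoetherianRing KB eB
  have := CL.isNoetherianRing KB' eB'
  let X := CL KB eB
  let Y := CL KB' eB'
  let J := KB.map (algebraMap B X)
  let := ρ.toAlgebra
  have : IsScalarTower B X Y := IsScalarTower.of_algebraMap_eq fun b =>
    (IsScalarTower.algebraMap_apply B B' Y b).trans (hρ b).symm
  have : Module.Flat X Y := hρf
  have hJY : J.map (algebraMap X Y) = KB'.map (algebraMap B' Y) := by
    have h0 : (algebraMap X Y).comp (algebraMap B X) = (algebraMap B' Y).comp (algebraMap B B') :=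
      (IsScalarTower.algebraMap_eq B X Y).symm.trans (IsScalarTower.algebraMap_eq B B' Y)
    exact (Ideal.map_map _ _).trans ((congrArg (fun h => KB.map h) h0).trans
      ((Ideal.map_map _ _).symm.trans (congrArg (Ideal.map (algebraMap B' Y)) hKBB')))
  have : IsAdicComplete J X := CL.isAdicComplete KB eB hKBfg
  have : IsAdicComplete (J.map (algebraMap X Y)) Y := hJY ▸ CL.isAdicComplete KB' eB' hKB'fg
  have hft : Algebra.FiniteType X (Y ⧸ J.map (algebraMap X Y)) := by
    have h1 : Algebra.FiniteType B (B' ⧸ KB') := hKB' ▸ hftB'B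
    have h2 : Algebra.FiniteType B (Y ⧸ KB'.map (algebraMap B' Y)) := CL.finiteType_quotient KB' eB' hKB'fg h1
    rw [← hJY] at h2
    exact Algebra.FiniteType.of_restrictScalars_finiteType B X _
  have hqX : ¬ J ≤ q.asIdeal ∧ ∀ y : PrimeSpectrum X, q ≤ y → ¬ J ≤ y.asIdeal → y = q := by
    show ¬ KB.map (algebraMap B X) ≤ q.asIdeal ∧ ∀ y : PrimeSpectrum X, q ≤ y → ¬ KB.map (algebraMap B X) ≤ y.asIdeal → y = q
    rw [CL.map_algebraMap]; exact hq
  obtain ⟨m, hm, hqm⟩ := Ideal.exists_le_maximal q.asIdeal q.2.ne_top
  have hJm : J ≤ m := (IsAdicComplete.le_jacobson_bot _).trans (sInf_le ⟨bot_le, hm⟩)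
  let m₀ : PrimeSpectrum B := ⟨m.comap (algebraMap B X), inferInstance⟩
  obtain ⟨P', hP'⟩ := PrimeSpectrum.comap_surjective_of_faithfullyFlat (A := B) (B := B') m₀
  have hP'm : P'.asIdeal.comap (algebraMap B B') = m.comap (algebraMap B X) :=
    congrArg PrimeSpectrum.asIdeal hP'
  let κ := P'.asIdeal.ResidueField
  have hKB'P' : KB' ≤ P'.asIdeal := by
    rw [← hKBB', Ideal.map_le_iff_le_comap, hP'm, ← Ideal.map_le_iff_le_comap]
    exact hJm
  have he' : IsUnit (algebraMap B' κ eB') := by
    rw [isUnit_iff_ne_zero, Ne, Ideal.algebraMap_residueField_eq_zero]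
    intro h
    have h2 : eB ∈ P'.asIdeal.comap (algebraMap B B') := by rw [Ideal.mem_comap, heB']; exact h
    rw [hP'm, Ideal.mem_comap] at h2
    exact hm.ne_top (Ideal.eq_top_of_isUnit_mem _ h2 (CL.isUnit KB eB))
  obtain ⟨χ, hχ⟩ := CL.exists_hom (K := (⊥ : Ideal κ)) KB' eB' (algebraMap B' κ)
    (by rw [Ideal.map_le_iff_le_comap]; exact fun b hb => Ideal.algebraMap_residueField_eq_zero.2 (hKB'P' hb)) he'
  let Q : PrimeSpectrum Y := ⟨RingHom.ker χ, RingHom.ker_isPrime _⟩
  have hQJ : J.map (algebraMap X Y) ≤ Q.asIdeal := by
    rw [hJY, Ideal.map_le_iff_le_comap]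
    intro b hb
    show χ _ = 0
    rw [hχ, Ideal.algebraMap_residueField_eq_zero]
    exact hKB'P' hb
  have : Q.asIdeal.IsPrime := Q.2
  have hQm : Q.asIdeal.comap (algebraMap X Y) = m := by
    refine CL.eq_of_comap_eq KB eB hKBfg _ m (Ideal.map_le_iff_le_comap.1 hQJ) hJm ?_
    rw [← hP'm, Ideal.comap_comap, ← IsScalarTower.algebraMap_eq]
    ext b
    show χ (algebraMap B Y b) = 0 ↔ algebraMap B B' b ∈ P'.asIdeal
    rw [IsScalarTower.algebraMap_apply B B' Y, hχ, Ideal.algebraMap_residueField_eq_zero]
  obtain ⟨q', hq', hq'q⟩ := (Groth.Agent.S8836.result X J Y hft q hqX).1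
    ⟨Q, hQJ, hqm.trans hQm.ge, by rw [PrimeSpectrum.comap_asIdeal, hQm]; exact hm⟩
  rw [hJY, CL.map_algebraMap] at hq'
  have h1 := hA'B' eA' ψ' (CL.comp_eq_of_apply hψ') q' hq'
  have h2 := hρAf.comp h1
  have hsq : ψ'.comp ρA = ρ.comp ψe := by
    have := CL.isAdicComplete KB' eB' hKB'fg
    refine CL.hom_ext (K := KB'.map (algebraMap B' Y)) I e (IsNoetherian.noetherian I) _ _ ?_ fun a => ?_
    · rw [show (ψ'.comp ρA).comp (algebraMap A _) = (algebraMap B' Y).comp (algebraMap A B') from
        RingHom.ext fun a => by
          show ψ' (ρA _) = _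
          rw [hρA, hψ', ← IsScalarTower.algebraMap_apply A A' B']; rfl, ← Ideal.map_map]
      exact Ideal.map_mono hKB'.ge
    · show ψ' (ρA _) = ρ (ψe _)
      rw [CL.apply_of_comp_eq hψe, hρA, hψ', hρ, ← IsScalarTower.algebraMap_apply A A' B',
        ← IsScalarTower.algebraMap_apply A B B']
  rw [RingHom.comp_assoc, hsq] at h2
  have : q'.asIdeal.IsPrime := q'.2
  exact FlatPoint.flat_congr ψe hq'q (FlatPoint.flat_descend ψe ρ q'.asIdeal hρf h2)

end Groth.Agent.S8844
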