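import Groth.Statements.S8845
import Groth.Agent.AdicRingLib.RigChart
import Groth.Agent.AdicRingLib.RigUnramified

set_option autoImplicit false
universe u
open AdicRing

namespace Groth.Agent.S8845

open AdicRingLib

/-- Consider a commutative square of adic Noetherian topological rings with all maps adic and
topologically of finite type: A a Noetherian ring complete for the adic topology of an ideal I (the
ideal of definition used below); B, A' and B' Noetherian algebras complete for the IB-, IA'- and
IB'-adic topologies, B' an algebra over B and over A' compatibly with A, with B/IB and A'/IA' of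
finite type over A and B'/IB' of finite type over B and over A'. Assume A → A' and B → B' are flat
and A/I → A'/IA' is étale. If A → B is rig-flat — for every f ∈ A, every ring map ψ : A_{f} → B_{f}
of completed principal localizations compatible with the map of ordinary localizations A[1/f] →
B[1/f] (there is exactly one), and every rig-closed prime q of B_{f} (I B_{f} ⊄ q and q maximal
among the primes not containing I B_{f}), the local ring (B_{f})_q is flat over A_{f} via ψ — then
A' → B' is rig-flat in the same form: for every f' ∈ A', every ring map A'_{f'} → B'_{f'} of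
completed principal localizations compatible with the map of ordinary localizations A'[1/f'] →
B'[1/f'], and every rig-closed prime q' of B'_{f'}, the local ring (B'_{f'})_{q'} is flat over
A'_{f'}. -/
theorem result (A : Type u) [CommRing A] [IsNoetherianRing A] (I : Ideal A) [IsAdicComplete I A] (B : Type u) [CommRing B] [Algebra A B] [IsNoetherianRing B] [IsAdicComplete (I.map (algebraMap A B)) B] (hftB : Algebra.FiniteType A (B ⧸ (I.map (algebraMap A B)))) (A' : Type u) [CommRing A'] [Algebra A A'] [IsNoetherianRing A'] [IsAdicComplete (I.map (algebraMap A A')) A'] (hftA' : Algebra.FiniteType A (A' ⧸ (I.map (algebraMap A A')))) (B' : Type u) [CommRing B'] [Algebra A B'] [Algebra B B'] [Algebra A' B'] [IsScalarTower A B B'] [IsScalarTower A A' B'] [IsNoetherianRing B'] [IsAdicComplete (I.map (algebraMap A B')) B'] (hftB'B : Algebra.FiniteType B (B' ⧸ (I.map (algebraMap A B')))) (hftB'A' : Algebra.FiniteType A' (B' ⧸ (I.map (algebraMap A B')))) [Module.Flat A A'] [Module.Flat B B'] [Algebra.Etale (A ⧸ I) (A' ⧸ (I.map (algebraMap A A')))] (hAB : (∀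 f : A, ∀ ψf : (AdicCompletion (I.map (algebraMap A (Localization.Away f))) (Localization.Away f)) →+* (AdicCompletion ((I.map (algebraMap A B)).map (algebraMap B (Localization.Away (algebraMap A B f)))) (Localization.Away (algebraMap A B f))), ψf.comp (algebraMap (Localization.Away f) (AdicCompletion (I.map (algebraMap A (Localization.Away f))) (Localization.Away f))) = (algebraMap (Localization.Away (algebraMap A B f)) (AdicCompletion ((I.map (algebraMap A B)).map (algebraMap B (Localization.Away (algebraMap A B f)))) (Localization.Away (algebraMap A B f)))).comp (Localization.awayMap (algebraMap A B) f) → ∀ qf : PrimeSpectrum (AdicCompletion ((I.map (algebraMap A B)).map (algebraMap B (Localization.Away (algebraMap A B f)))) (Localization.Away (algebraMap A B f))), (¬ (((I.map (algebraMap A B)).map (algebraMap B (Localization.Away (algebraMap A B f)))).map (algebraMap (Localization.Away (algebraMap A B f)) (AdicCompletion ((I.map (algebraMap A B)).map (algebraMap B (Localization.Away (algebraMap A B f)))) (Localization.Away (algebraMap A B f)))))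 ≤ qf.asIdeal ∧ ∀ y : PrimeSpectrum (AdicCompletion ((I.map (algebraMap A B)).map (algebraMap B (Localization.Away (algebraMap A B f)))) (Localization.Away (algebraMap A B f))), qf ≤ y → ¬ (((I.map (algebraMap A B)).map (algebraMap B (Localization.Away (algebraMap A B f)))).map (algebraMap (Localization.Away (algebraMap A B f)) (AdicCompletion ((I.map (algebraMap A B)).map (algebraMap B (Localization.Away (algebraMap A B f)))) (Localization.Away (algebraMap A B f))))) ≤ y.asIdeal → y = qf) → ((algebraMap (AdicCompletion ((I.map (algebraMap A B)).map (algebraMap B (Localization.Away (algebraMap A B f)))) (Localization.Away (algebraMap A B f))) (Localization.AtPrime qf.asIdeal)).comp ψf).Flat)) : (∀ f' : A', ∀ ψf' : (AdicCompletion ((I.map (algebraMap A A')).map (algebraMap A' (Localization.Away f'))) (Localization.Away f')) →+* (AdicCompletion (((I.map (algebraMap A A')).map (algebraMap A' B')).map (algebraMap B' (Localization.Away (algebraMap A' B' f')))) (Localization.Away (algebraMap A' B' f'))), ψf'.comp (algebraMap (Localization.Away f') (AdicCompletion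 ((I.map (algebraMap A A')).map (algebraMap A' (Localization.Away f'))) (Localization.Away f'))) = (algebraMap (Localization.Away (algebraMap A' B' f')) (AdicCompletion (((I.map (algebraMap A A')).map (algebraMap A' B')).map (algebraMap B' (Localization.Away (algebraMap A' B' f')))) (Localization.Away (algebraMap A' B' f')))).comp (Localization.awayMap (algebraMap A' B') f') → ∀ qf' : PrimeSpectrum (AdicCompletion (((I.map (algebraMap A A')).map (algebraMap A' B')).map (algebraMap B' (Localization.Away (algebraMap A' B' f')))) (Localization.Away (algebraMap A' B' f'))), (¬ ((((I.map (algebraMap A A')).map (algebraMap A' B')).map (algebraMap B' (Localization.Away (algebraMap A' B' f')))).map (algebraMap (Localization.Away (algebraMap A' B' f')) (AdicCompletion (((I.map (algebraMap A A')).map (algebraMap A' B')).map (algebraMap B' (Localization.Away (algebraMap A' B' f')))) (Localization.Away (algebraMap A' B' f'))))) ≤ qf'.asIdeal ∧ ∀ y : PrimeSpectrum (AdicCompletion (((I.map (algebraMap A A')).map (algebraMap A' B')).map (algebraMap B' (Localization.Away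 (algebraMap A' B' f')))) (Localization.Away (algebraMap A' B' f'))), qf' ≤ y → ¬ ((((I.map (algebraMap A A')).map (algebraMap A' B')).map (algebraMap B' (Localization.Away (algebraMap A' B' f')))).map (algebraMap (Localization.Away (algebraMap A' B' f')) (AdicCompletion (((I.map (algebraMap A A')).map (algebraMap A' B')).map (algebraMap B' (Localization.Away (algebraMap A' B' f')))) (Localization.Away (algebraMap A' B' f'))))) ≤ y.asIdeal → y = qf') → ((algebraMap (AdicCompletion (((I.map (algebraMap A A')).map (algebraMap A' B')).map (algebraMap B' (Localization.Away (algebraMap A' B' f')))) (Localization.Away (algebraMap A' B' f'))) (Localization.AtPrime qf'.asIdeal)).comp ψf').Flat) := by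
  intro e ψe hψe q hq
  let KB := I.map (algebraMap A B)
  let KA' := I.map (algebraMap A A')
  let KB' := KA'.map (algebraMap A' B')
  have hKB' : KB' = I.map (algebraMap A B') := by
    show (I.map (algebraMap A A')).map (algebraMap A' B') = _
    rw [Ideal.map_map, ← IsScalarTower.algebraMap_eq]
  have hKBB' : KB.map (algebraMap B B') = KB' := by
    rw [hKB', Ideal.map_map, ← IsScalarTower.algebraMap_eq]
  have hKB'fg : KB'.FG := IsNoetherian.noetherian _
  have hKBfg : KB.FG := IsNoetherian.noetherian _
  have hKA'fg : KA'.FG := IsNoetherian.noetherian _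
  let Y0 := CL KB' (algebraMap A' B' e)
  have := CL.isNoetherianRing KB' (algebraMap A' B' e)
  have hmapY : I.map (algebraMap A Y0) = KB'.map (algebraMap B' Y0) :=
    (CL.map_base' I hKB' _).trans (CL.map_algebraMap KB' _).symm
  have hYc : IsAdicComplete (I.map (algebraMap A Y0)) Y0 := hmapY ▸ CL.isAdicComplete KB' _ hKB'fg
  have hft0 : Algebra.FiniteType A (B' ⧸ KB') :=
    RigClosed.finiteType_trans_quotient KB KB' hKBB'.le hftB (hKB' ▸ hftB'B)
  have hftY : Algebra.FiniteType A (Y0 ⧸ I.map (algebraMap A Y0)) :=
    hmapY ▸ CL.finiteType_quotient KB' _ hKB'fg hft0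
  have hqY : ¬ I.map (algebraMap A Y0) ≤ q.asIdeal ∧
      ∀ y : PrimeSpectrum Y0, q ≤ y → ¬ I.map (algebraMap A Y0) ≤ y.asIdeal → y = q := by
    rw [hmapY, CL.map_algebraMap]; exact hq
  obtain ⟨f, hu, hfin⟩ := RigClosed.exists_point I (C := Y0) hftY q hqY
  have : q.asIdeal.IsPrime := q.2
  let D := Y0 ⧸ q.asIdeal
  have hDc := RigClosed.isAdicComplete_point I (C := Y0) q.asIdeal
  let δ : B' →+* D := (Ideal.Quotient.mk q.asIdeal).comp (algebraMap B' Y0)
  have hδ : ∀ a, δ (algebraMap A B' a) = algebraMap A D a := fun a => by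
    show Ideal.Quotient.mk q.asIdeal (algebraMap B' Y0 (algebraMap A B' a)) = _
    rw [← IsScalarTower.algebraMap_apply A B' Y0 a]; rfl
  let g := e * algebraMap A A' f
  let gB' := algebraMap A' B' g
  let fB := algebraMap A B f
  have hfg : algebraMap A B' f ∣ gB' := by
    rw [IsScalarTower.algebraMap_apply A A' B']
    exact (map_dvd _) ⟨e, mul_comm _ _⟩
  have hfg' : algebraMap B B' fB ∣ gB' := by
    rw [← IsScalarTower.algebraMap_apply A B B']; exact hfg
  obtain ⟨φA, hφA⟩ := CL.exists_hom (K := I.map (algebraMap A D)) I f (algebraMap A D) le_rfl hu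
  let := φA.toAlgebra
  have : IsScalarTower A (CL I f) D := IsScalarTower.of_algebraMap_eq fun a => (hφA a).symm
  have hAc := CL.isAdicComplete I f (IsNoetherian.noetherian I)
  have hφAfin : φA.Finite := hfin _ (CL.isUnit I f)
  have hmapδ : KB'.map δ = I.map (algebraMap A D) :=
    (congrArg (Ideal.map δ) hKB').trans ((Ideal.map_map _ _).trans (congrArg (fun h => I.map h)
      (RingHom.ext hδ : δ.comp (algebraMap A B') = algebraMap A D)))
  obtain ⟨φY, hφY⟩ := CL.exists_hom (K := I.map (algebraMap A D)) KB' gB' δ
    hmapδ.le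
    (by
      show IsUnit (δ (algebraMap A' B' (e * algebraMap A A' f)))
      rw [map_mul, map_mul]
      refine IsUnit.mul ((CL.isUnit KB' (algebraMap A' B' e)).map (Ideal.Quotient.mk q.asIdeal)) ?_
      rw [← IsScalarTower.algebraMap_apply A A' B', hδ]; exact hu)
  obtain ⟨ψ₁, hψ₁⟩ := CL.exists_map I KB hKBfg fB f (algebraMap A B) le_rfl (CL.isUnit _ _)
  obtain ⟨ρB, hρB⟩ := CL.exists_map KB KB' hKB'fg gB' fB (algebraMap B B') hKBB'.le
    (isUnit_of_dvd_unit ((map_dvd _) hfg') (CL.isUnit KB' gB'))
  obtain ⟨ρ₁, hρ₁⟩ := CL.exists_map I KA' hKA'fg g f (algebraMap A A') le_rfl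
    (isUnit_of_dvd_unit ((map_dvd _) ⟨e, mul_comm _ _⟩) (CL.isUnit KA' g))
  obtain ⟨ψg, hψg⟩ := CL.exists_map KA' KB' hKB'fg gB' g (algebraMap A' B') le_rfl (CL.isUnit _ _)
  have hρBf : ρB.Flat := CL.flat_map KB KB' gB' (RingHom.flat_algebraMap_iff.2 inferInstance) hKBB'.le ρB hρB
  have hcB : ∀ a, ρB (ψ₁ (algebraMap A _ a)) = algebraMap B' _ (algebraMap A B' a) := fun a => by
    rw [hψ₁, hρB, ← IsScalarTower.algebraMap_apply A B B']
  have hcA : ∀ a, ψg (ρ₁ (algebraMap A _ a)) = algebraMap B' _ (algebraMap A B' a) := fun a => by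
    rw [hρ₁, hψg, ← IsScalarTower.algebraMap_apply A A' B']
  have hBc := CL.isAdicComplete KB' gB' hKB'fg
  have hsq : ψg.comp ρ₁ = ρB.comp ψ₁ := by
    refine CL.hom_ext (K := KB'.map (algebraMap B' (CL KB' gB'))) I f (IsNoetherian.noetherian I) _ _ ?_ fun a => ?_
    · rw [show (ψg.comp ρ₁).comp (algebraMap A _) = (algebraMap B' (CL KB' gB')).comp (algebraMap A B') from
        RingHom.ext hcA, ← Ideal.map_map]
      exact Ideal.map_mono hKB'.ge
    · exact (hcA a).trans (hcB a).symm
  have hφcomp : (φY.comp ρB).comp ψ₁ = φA := by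
    refine CL.hom_ext (K := I.map (algebraMap A D)) I f (IsNoetherian.noetherian I) _ _ ?_ fun a => ?_
    · rw [show ((φY.comp ρB).comp ψ₁).comp (algebraMap A _) = algebraMap A D from RingHom.ext fun a => by
        show φY (ρB (ψ₁ _)) = _
        rw [hcB, hφY, hδ]]
    · show φY (ρB (ψ₁ _)) = _
      rw [hcB, hφY, hδ, hφA]
  let qY : PrimeSpectrum (CL KB' gB') := ⟨RingHom.ker φY, RingHom.ker_isPrime _⟩
  have : qY.asIdeal.IsPrime := qY.2
  have hAY : ∀ a, φY (algebraMap A (CL KB' gB') a) = algebraMap A D a := fun a =>
    (congrArg φY (IsScalarTower.algebraMap_apply A B' (CL KB' gB') a)).trans ((hφY _).trans (hδ a))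
  have hAB' : ∀ a, (φY.comp ρB) (algebraMap A (CL KB fB) a) = algebraMap A D a := fun a => by
    show φY (ρB _) = _
    rw [IsScalarTower.algebraMap_apply A B (CL KB fB) a, ← hψ₁, hcB, hφY, hδ]
  have hqb := RigClosed.rigClosed_of_chart I q hqY ψ₁ φA hφAfin (φY.comp ρB) hAB' hφcomp
    (PrimeSpectrum.comap ρB qY) (RingHom.comap_ker φY ρB)
  rw [CL.map_base, CL.map_algebraMap] at hqb
  have h1 := hAB f ψ₁ (CL.comp_eq_of_apply hψ₁) _ hqb
  have h2 := FlatPoint.flat_comp ψ₁ ρB qY.asIdeal h1
    (hρBf.comp (RingHom.flat_algebraMap_iff.2 (IsLocalization.flat _ qY.asIdeal.primeCompl)))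
  rw [← hsq] at h2
  have := CL.isNoetherianRing KB' gB'
  have := CL.isNoetherianRing KA' g
  have := CL.isNoetherianRing I f
  have h3 := FlatPoint.flat_of_map_eq ρ₁ ψg qY.asIdeal ?_ h2
  · obtain ⟨ρA', hρA'⟩ := CL.exists_map KA' KA' hKA'fg g e (RingHom.id A') (Ideal.map_id _).le
      (isUnit_of_dvd_unit ((map_dvd _) ⟨algebraMap A A' f, rfl⟩) (CL.isUnit KA' g))
    obtain ⟨ρY, hρY⟩ := CL.exists_map KB' KB' hKB'fg gB' (algebraMap A' B' e) (RingHom.id B') (Ideal.map_id _).le
      (isUnit_of_dvd_unit ((map_dvd _) ((map_dvd (algebraMap A' B')) (⟨algebraMap A A' f, rfl⟩ : e ∣ g))) (CL.isUnit KB' gB'))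
    have hρA'f : ρA'.Flat := CL.flat_map KA' KA' g (RingHom.Flat.of_bijective Function.bijective_id)
      (Ideal.map_id _).le ρA' hρA'
    have hρYf : ρY.Flat := CL.flat_map KB' KB' gB' (RingHom.Flat.of_bijective Function.bijective_id)
      (Ideal.map_id _).le ρY hρY
    have hsq2 : ψg.comp ρA' = ρY.comp ψe := by
      refine CL.hom_ext (K := KB'.map (algebraMap B' (CL KB' gB'))) KA' e hKA'fg _ _ ?_ fun a => ?_
      · rw [show (ψg.comp ρA').comp (algebraMap A' _) = (algebraMap B' (CL KB' gB')).comp (algebraMap A' B') from
          RingHom.ext fun a => by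
            show ψg (ρA' _) = _
            rw [hρA', hψg]; rfl, ← Ideal.map_map]
      · show ψg (ρA' _) = ρY (ψe _)
        rw [CL.apply_of_comp_eq hψe, hρA', hψg, hρY]; rfl
    have h4 := hρA'f.comp h3
    rw [RingHom.comp_assoc, hsq2] at h4
    have hcomap : PrimeSpectrum.comap ρY qY = q := by
      refine PrimeSpectrum.ext ?_
      have hcomp : φY.comp ρY = Ideal.Quotient.mk q.asIdeal := by
        refine CL.hom_ext (K := I.map (algebraMap A D)) KB' _ hKB'fg _ _ ?_ fun c => ?_
        · rw [show (φY.comp ρY).comp (algebraMap B' _) = δ from RingHom.ext fun c => by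
            show φY (ρY _) = _
            rw [hρY, RingHom.id_apply, hφY]]
          exact hmapδ.le
        · show φY (ρY _) = _
          rw [hρY, RingHom.id_apply, hφY]
          rfl
      exact (RingHom.comap_ker φY ρY).trans ((congrArg RingHom.ker hcomp).trans Ideal.mk_ker)
    exact FlatPoint.flat_congr ψe hcomap (FlatPoint.flat_descend ψe ρY qY.asIdeal hρYf h4)
  · -- the maximal ideal at the point of `A'` comes from `A`
    let R := CL I f
    let S := CL KA' g
    let := ρ₁.toAlgebra
    have : IsScalarTower A R S := IsScalarTower.of_algebraMap_eq fun a =>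
      (IsScalarTower.algebraMap_apply A A' S a).trans (hρ₁ a).symm
    let J := I.map (algebraMap A R)
    have hJS : J.map (algebraMap R S) = KA'.map (algebraMap A' S) :=
      (Ideal.map_map _ _).trans ((congrArg (fun h => I.map h) ((IsScalarTower.algebraMap_eq A R S).symm.trans
        (IsScalarTower.algebraMap_eq A A' S))).trans (Ideal.map_map _ _).symm)
    have : IsAdicComplete J R := hAc
    have : IsAdicComplete (J.map (algebraMap R S)) S := hJS ▸ CL.isAdicComplete KA' g hKA'fg
    have hftS : Algebra.FiniteType R (S ⧸ J.map (algebraMap R S)) := by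
      have h1 : Algebra.FiniteType A (S ⧸ KA'.map (algebraMap A' S)) := CL.finiteType_quotient KA' g hKA'fg hftA'
      rw [← hJS] at h1
      exact Algebra.FiniteType.of_restrictScalars_finiteType A R _
    have : Algebra.FormallyUnramified A (A' ⧸ KA') := Algebra.FormallyUnramified.comp A (A ⧸ I) (A' ⧸ KA')
    have h5 : Algebra.FormallyUnramified A (S ⧸ KA'.map (algebraMap A' S)) :=
      CL.formallyUnramified_quotient KA' g hKA'fg
    rw [← hJS] at h5
    have : Algebra.FormallyUnramified R (S ⧸ J.map (algebraMap R S)) :=
      Algebra.FormallyUnramified.of_restrictScalars A R _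
    let P : PrimeSpectrum S := PrimeSpectrum.comap ψg qY
    have hp := RigClosed.rigClosed_point I q hqY φA hφA hφAfin (PrimeSpectrum.comap (algebraMap R S) P)
      (by
        show (qY.asIdeal.comap ψg).comap ρ₁ = _
        rw [Ideal.comap_comap, hsq]
        exact (RingHom.comap_ker φY (ρB.comp ψ₁)).trans (congrArg RingHom.ker hφcomp))
    have h6 := RigClosed.map_comap_eq_maximalIdeal J S hftS P hp
    exact (Ideal.map_map _ _).symm.trans h6

end Groth.Agent.S8845
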