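import Groth.Statements.S8849
import Groth.Agent.SDivLib.FlatDiv

set_option autoImplicit false
universe u
open CategoryTheory CategoryTheory.Limits AlgebraicGeometry TopologicalSpace
open SDiv

namespace Groth.Agent.S8849

/-- Let f : X ⟶ S be a morphism of schemes and 𝓘 the ideal sheaf of an effective Cartier divisor D ⊆ X
with D flat over S (a relative effective Cartier divisor). If f is flat at every point of X not in
D, then f is flat. -/
theorem result {X S : Scheme.{u}} (f : X ⟶ S) (𝓘 : X.IdealSheafData)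
    (hD : BlowUp.IsEffCartierIdeal 𝓘 ∧ Flat (𝓘.subschemeι ≫ f))
    (hflat : ∀ x : ↥X, x ∉ 𝓘.support → (f.stalkMap x).hom.Flat) : Flat f := by
  rw [HasRingHomProperty.iff_exists_appLE (P := @Flat)
    (RingHom.Flat.stableUnderComposition.stableUnderCompositionWithLocalizationAway
      RingHom.Flat.holdsForLocalizationAway).left]
  intro x
  obtain ⟨V, U, hxU, e, a, -, ha, -, hIa, -⟩ := SDivLib.exists_chart f hD.1 hD.1 x
  refine ⟨V, U, hxU, e, ?_⟩
  have hq := SDivLib.flat_quot f 𝓘 hD.2 V.2 U e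
  rw [hIa] at hq
  let W : X.Opens := 𝓘.support.compl
  have hW : Flat (W.ι ≫ f) := by
    refine HasRingHomProperty.of_stalkMap (P := @Flat) RingHom.Flat.ofLocalizationPrime fun w => ?_
    rw [Scheme.Hom.stalkMap_comp]
    show ((W.ι.stalkMap w).hom.comp (f.stalkMap (W.ι w)).hom).Flat
    refine RingHom.Flat.comp (hflat _ w.2) ?_
    exact RingHom.Flat.of_bijective (ConcreteCategory.bijective_of_isIso (W.ι.stalkMap w))
  have hle : X.basicOpen a ≤ W := fun y hy hyI => by
    have hyU : y ∈ U.1 := X.basicOpen_le a hy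
    exact (SDivLib.mem_prm_iff U hyU a).1 ((SDivLib.mem_support_iff_le 𝓘 U hyU).1 hyI
      (hIa ▸ Ideal.mem_span_singleton_self a)) ((X.mem_basicOpen a y hyU).1 hy)
  have he : X.basicOpen a ≤ f ⁻¹ᵁ V.1 := (X.basicOpen_le a).trans e
  have haff : IsAffineOpen (W.ι ⁻¹ᵁ X.basicOpen a) :=
    (U.2.basicOpen a).preimage_of_isOpenImmersion W.ι (by rw [Scheme.Opens.opensRange_ι]; exact hle)
  have hfl : (f.appLE V.1 (X.basicOpen a) he).hom.Flat := by
    have h := hW.flat_appLE V.2 haff (fun _ hy => he hy)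
    rw [← Scheme.Hom.appLE_comp_appLE W.ι f V.1 (X.basicOpen a) (W.ι ⁻¹ᵁ X.basicOpen a) he le_rfl,
      CommRingCat.hom_comp] at h
    have hiso : IsIso (W.ι.appLE (X.basicOpen a) (W.ι ⁻¹ᵁ X.basicOpen a) le_rfl) := by
      rw [← Scheme.Hom.app_eq_appLE]
      exact Scheme.Hom.isIso_app W.ι _ (by rw [Scheme.Opens.opensRange_ι]; exact hle)
    let ψ := (asIso (W.ι.appLE (X.basicOpen a) (W.ι ⁻¹ᵁ X.basicOpen a) le_rfl)).commRingCatIsoToRingEquiv
    have h2 := RingHom.Flat.respectsIso.1 _ ψ.symm h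
    have h3 : ψ.symm.toRingHom.comp ((W.ι.appLE (X.basicOpen a) (W.ι ⁻¹ᵁ X.basicOpen a) le_rfl).hom.comp
        (f.appLE V.1 (X.basicOpen a) he).hom) = (f.appLE V.1 (X.basicOpen a) he).hom :=
      RingHom.ext fun _ => ψ.symm_apply_apply _
    rwa [h3] at h2
  algebraize [(f.appLE V.1 U.1 e).hom]
  letI := (X.presheaf.map (homOfLE (X.basicOpen_le a)).op).hom.toAlgebra
  letI := (f.appLE V.1 (X.basicOpen a) he).hom.toAlgebra
  haveI : IsScalarTower Γ(S, V.1) Γ(X, U.1) Γ(X, X.basicOpen a) := IsScalarTower.of_algebraMap_eq' (by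
    show (f.appLE V.1 (X.basicOpen a) he).hom = (X.presheaf.map _).hom.comp (f.appLE V.1 U.1 e).hom
    rw [← CommRingCat.hom_comp, Scheme.Hom.appLE_map])
  haveI : IsLocalization.Away a Γ(X, X.basicOpen a) := U.2.isLocalization_basicOpen a
  haveI : Module.Flat Γ(S, V.1) Γ(X, X.basicOpen a) := hfl
  haveI : Module.Flat Γ(S, V.1) (Γ(X, U.1) ⧸ Ideal.span {a}) := hq
  exact SDivLib.flat_of_flat_quot_of_away ha Γ(X, X.basicOpen a)

end Groth.Agent.S8849
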