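import Groth.Statements.S8850
import Mathlib.AlgebraicGeometry.Morphisms.Immersion
import Mathlib.AlgebraicGeometry.Morphisms.Proper
import Mathlib.AlgebraicGeometry.Morphisms.ClosedImmersion
-- import your own Groth.Agent.* helpers here

set_option autoImplicit false
set_option backward.isDefEq.respectTransparency false
set_option linter.all false
universe u
open CategoryTheory CategoryTheory.Limits AlgebraicGeometry TopologicalSpace
open SDiv

namespace Groth.Agent.S8850

/-- Let S be a scheme, X a Noetherian S-scheme, Y a proper S-scheme, U ⊆ X an open subscheme and f : U ⟶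
Y a morphism compatible with the structure morphisms to S. Then there are a proper morphism p : X' ⟶
X restricting to an isomorphism over U and an S-morphism f' : X' ⟶ Y whose restriction to p⁻¹(U) is
f composed with p. The published statement takes U dense, so that f is an S-rational map; this row
allows any open U, which its proof does not need. -/
theorem result {X Y S : Scheme.{u}} [IsNoetherian X] (a : X ⟶ S) (b : Y ⟶ S)
    [IsProper b] (U : X.Opens) (f : (U : Scheme.{u}) ⟶ Y) (hf : f ≫ b = U.ι ≫ a) :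
    ∃ (X' : Scheme.{u}) (p : X' ⟶ X) (f' : X' ⟶ Y), IsProper p ∧ IsIso (p ∣_ U) ∧ f' ≫ b = p ≫ a ∧
      (p ⁻¹ᵁ U).ι ≫ f' = (p ∣_ U) ≫ f := by
  classical
  open Limits in
  let Γ₀ : (U : Scheme.{u}) ⟶ pullback a b := pullback.lift U.ι f hf.symm
  open Limits in
  let q : pullback a b ⟶ X := pullback.fst a b
  have hΓq : Γ₀ ≫ q = U.ι := Limits.pullback.lift_fst _ _ _
  haveI : IsImmersion (Γ₀ ≫ q) := by rw [hΓq]; infer_instance
  haveI : IsImmersion Γ₀ := IsImmersion.of_comp Γ₀ q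
  haveI : QuasiCompact (Γ₀ ≫ q) := by rw [hΓq]; infer_instance
  haveI : IsProper q := MorphismProperty.pullback_fst _ _ ‹_›
  haveI : QuasiCompact Γ₀ := QuasiCompact.of_comp Γ₀ q
  let p : Γ₀.image ⟶ X := Γ₀.imageι ≫ q
  have htp : Γ₀.toImage ≫ p = U.ι := by rw [Scheme.Hom.toImage_imageι_assoc]; exact hΓq
  have hrange : Set.range Γ₀.toImage ⊆ Set.range (p ⁻¹ᵁ U).ι := by
    rw [Scheme.Opens.range_ι]
    rintro _ ⟨w, rfl⟩
    show p (Γ₀.toImage w) ∈ U
    rw [← Scheme.Hom.comp_apply, htp]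
    exact w.2
  let u : (U : Scheme.{u}) ⟶ (p ⁻¹ᵁ U : Scheme.{u}) := IsOpenImmersion.lift (p ⁻¹ᵁ U).ι Γ₀.toImage hrange
  have hu : u ≫ (p ⁻¹ᵁ U).ι = Γ₀.toImage := IsOpenImmersion.lift_fac _ _ _
  haveI : IsOpenImmersion (u ≫ (p ⁻¹ᵁ U).ι) := by rw [hu]; infer_instance
  haveI : IsOpenImmersion u := IsOpenImmersion.of_comp u (p ⁻¹ᵁ U).ι
  have hup : u ≫ (p ∣_ U) = 𝟙 _ := by
    rw [← cancel_mono U.ι, Category.assoc, morphismRestrict_ι, ← Category.assoc, hu, htp, Category.id_comp]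
  have hr2 : Set.range Γ₀ ⊆ Set.range (q ⁻¹ᵁ U).ι := by
    rw [Scheme.Opens.range_ι]
    rintro _ ⟨w, rfl⟩
    show q (Γ₀ w) ∈ U
    rw [← Scheme.Hom.comp_apply, hΓq]
    exact w.2
  let g := IsOpenImmersion.lift (q ⁻¹ᵁ U).ι Γ₀ hr2
  have hg : g ≫ (q ∣_ U) = 𝟙 _ := by
    rw [← cancel_mono U.ι, Category.assoc, morphismRestrict_ι, ← Category.assoc, IsOpenImmersion.lift_fac, hΓq,
      Category.id_comp]
  haveI : IsClosedImmersion (g ≫ (q ∣_ U)) := by rw [hg]; infer_instance
  haveI : IsClosedImmersion g := IsClosedImmersion.of_comp g (q ∣_ U)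
  haveI : Surjective u := ⟨fun z => by
    have hz : Γ₀.imageι z.1 ∈ closure (Set.range Γ₀) := by
      have := Set.mem_range_self (f := Γ₀.ker.subschemeι) z.1
      rw [Scheme.IdealSheafData.range_subschemeι, Scheme.Hom.support_ker] at this
      exact this
    have hzU : Γ₀.imageι z.1 ∈ q ⁻¹ᵁ U := z.2
    have hcl : (⟨Γ₀.imageι z.1, hzU⟩ : ↥(q ⁻¹ᵁ U)) ∈ closure (Set.range g) := by
      rw [closure_subtype]
      refine closure_mono ?_ hz
      rintro _ ⟨w, rfl⟩
      exact ⟨g w, Set.mem_range_self _, by rw [← Scheme.Opens.ι_apply, ← Scheme.Hom.comp_apply, IsOpenImmersion.lift_fac]⟩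
    rw [g.isClosedEmbedding.isClosed_range.closure_eq] at hcl
    obtain ⟨w, hw⟩ := hcl
    refine ⟨w, (p ⁻¹ᵁ U).ι.isOpenEmbedding.injective (Γ₀.imageι.isEmbedding.injective ?_)⟩
    have e1 : u ≫ (p ⁻¹ᵁ U).ι ≫ Γ₀.imageι = g ≫ (q ⁻¹ᵁ U).ι := by
      rw [reassoc_of% hu, Scheme.Hom.toImage_imageι, IsOpenImmersion.lift_fac]
    refine (congrArg (fun m : (U : Scheme.{u}) ⟶ Limits.pullback a b => m w) e1).trans ?_
    exact congrArg Subtype.val hw⟩
  haveI : IsIso u := (isIso_iff_isOpenImmersion_and_epi_base u).2 ⟨inferInstance, (TopCat.epi_iff_surjective _).2 u.surjective⟩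
  haveI : IsIso (p ∣_ U) := by
    have : p ∣_ U = inv u := (IsIso.eq_inv_of_hom_inv_id hup)
    rw [this]; infer_instance
  refine ⟨Γ₀.image, p, Γ₀.imageι ≫ Limits.pullback.snd a b, inferInstance, inferInstance, ?_, ?_⟩
  · simp [p, q, Limits.pullback.condition]
  · rw [← cancel_epi u, reassoc_of% hu, Scheme.Hom.toImage_imageι_assoc, reassoc_of% hup]
    exact Limits.pullback.lift_snd _ _ _


end Groth.Agent.S8850
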