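import Groth.Statements.S8852


-- import your own Groth.Agent.* helpers here

set_option autoImplicit false
universe u
open CategoryTheory CategoryTheory.Limits AlgebraicGeometry TopologicalSpace
open SDiv

namespace Groth.Agent.S8852

/-- Let 𝓘, 𝓙 be quasi-coherent ideal sheaves on a scheme X (closed subschemes Z, Y). If the product 𝓘𝓙
is the ideal sheaf of an effective Cartier divisor D, then 𝓘 and 𝓙 are ideal sheaves of effective
Cartier divisors (and D is their sum, D having ideal 𝓘𝓙 by assumption). -/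
theorem result {X : Scheme.{u}} (𝓘 𝓙 : X.IdealSheafData)
    (h : BlowUp.IsEffCartierIdeal (𝓘 * 𝓙)) : BlowUp.IsEffCartierIdeal 𝓘 ∧ BlowUp.IsEffCartierIdeal 𝓙 := by
  suffices key : ∀ (I J : X.IdealSheafData), BlowUp.IsEffCartierIdeal (I * J) → BlowUp.IsEffCartierIdeal I by
    refine ⟨key 𝓘 𝓙 h, key 𝓙 𝓘 ?_⟩
    intro x
    obtain ⟨U, hx, f, hf, e⟩ := h x
    refine ⟨U, hx, f, hf, ?_⟩
    rw [Scheme.IdealSheafData.ideal_mul, Pi.mul_apply, mul_comm, ← e, Scheme.IdealSheafData.ideal_mul, Pi.mul_apply]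
  intro I J h x
  obtain ⟨U, hx, f, hf, e⟩ := h x
  rw [Scheme.IdealSheafData.ideal_mul, Pi.mul_apply] at e
  let G : Set Γ(X, U.1) := {c | ∃ a ∈ I.ideal U, ∃ b ∈ J.ideal U, a * b = c * f}
  have h1 : (1 : Γ(X, U.1)) ∈ Ideal.span G := by
    have hz : ∀ z ∈ I.ideal U * J.ideal U, ∃ c ∈ Ideal.span G, z = c * f := by
      intro z hz
      induction hz using Submodule.mul_induction_on' with
      | mem_mul_mem a ha b hb =>
        obtain ⟨c, hc⟩ := Ideal.mem_span_singleton'.1 (e ▸ Ideal.mul_mem_mul ha hb)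
        exact ⟨c, Ideal.subset_span ⟨a, ha, b, hb, hc.symm⟩, hc.symm⟩
      | add y _ z _ hy hz =>
        obtain ⟨c, hc, rfl⟩ := hy
        obtain ⟨d, hd, rfl⟩ := hz
        exact ⟨c + d, Ideal.add_mem _ hc hd, (add_mul c d f).symm⟩
    obtain ⟨c, hc, hcf⟩ := hz f (e ▸ Ideal.mem_span_singleton_self f)
    have : c = 1 := by
      have h0 : (c - 1) * f = 0 := by rw [sub_mul, one_mul, ← hcf, sub_self]
      exact sub_eq_zero.1 ((mem_nonZeroDivisors_iff_right.1 hf) _ h0)
    exact this ▸ hc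
  obtain ⟨c, ⟨a, ha, b, hb, hab⟩, hxc⟩ : ∃ c ∈ G, x ∈ X.basicOpen c := by
    by_contra hno
    push Not at hno
    have : Ideal.span G ≤ (IsLocalRing.maximalIdeal (X.presheaf.stalk x)).comap (X.presheaf.germ U.1 x hx).hom := by
      refine Ideal.span_le.2 fun c hc => ?_
      rw [SetLike.mem_coe, Ideal.mem_comap, IsLocalRing.mem_maximalIdeal]
      exact fun hu => hno c hc ((X.mem_basicOpen c x hx).2 hu)
    have h2 := this h1
    rw [Ideal.mem_comap, map_one, IsLocalRing.mem_maximalIdeal] at h2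
    exact h2 isUnit_one
  let V := X.affineBasicOpen c
  letI := (X.presheaf.map (homOfLE (X.basicOpen_le c)).op).hom.toAlgebra
  haveI : IsLocalization.Away c Γ(X, X.basicOpen c) := U.2.isLocalization_basicOpen c
  let r := algebraMap Γ(X, U.1) Γ(X, X.basicOpen c)
  have hcu : IsUnit (r c) := IsLocalization.Away.algebraMap_isUnit c
  have hfn : r f ∈ nonZeroDivisors Γ(X, X.basicOpen c) :=
    IsLocalization.map_nonZeroDivisors_le (Submonoid.powers c) _ (Submonoid.mem_map_of_mem _ hf)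
  have han : r a ∈ nonZeroDivisors Γ(X, X.basicOpen c) := by
    have : r a * r b ∈ nonZeroDivisors Γ(X, X.basicOpen c) := by
      rw [← map_mul, hab, map_mul]
      exact mul_mem hcu.mem_nonZeroDivisors hfn
    exact (mul_mem_nonZeroDivisors.1 this).1
  refine ⟨V, hxc, r a, han, ?_⟩
  rw [← I.map_ideal (show V ≤ U from X.basicOpen_le c)]
  refine le_antisymm ?_ ?_
  · rw [Ideal.map_le_iff_le_comap]
    intro a' ha'
    obtain ⟨d, hd⟩ := Ideal.mem_span_singleton'.1 (e ▸ Ideal.mul_mem_mul ha' hb)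
    have h2 : a' * c = d * a := by
      refine sub_eq_zero.1 ((mem_nonZeroDivisors_iff_right.1 hf) _ ?_)
      linear_combination (-a) * hd - a' * hab
    have h3 : r a' * r c = r d * r a := by rw [← map_mul, ← map_mul, h2]
    rw [Ideal.mem_comap, Ideal.mem_span_singleton']
    obtain ⟨u, hu⟩ := hcu
    refine ⟨(r d * ↑u⁻¹ : Γ(X, X.basicOpen c)), ?_⟩
    change (r d * ↑u⁻¹ * r a : Γ(X, X.basicOpen c)) = r a'
    rw [mul_right_comm, ← h3, ← hu, mul_assoc, Units.mul_inv, mul_one]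
  · rw [Ideal.span_le, Set.singleton_subset_iff]
    exact Ideal.mem_map_of_mem _ ha

end Groth.Agent.S8852
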