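import Groth.Statements.S8854
import Mathlib.RingTheory.Ideal.UFD
import Mathlib.RingTheory.Ideal.AssociatedPrime.Basic
import Mathlib.RingTheory.UniqueFactorizationDomain.Basic
-- import your own Groth.Agent.* helpers here

set_option autoImplicit false
universe u
open SDiv

namespace Groth.Agent.S8854

/-- Let R be a Noetherian unique factorisation domain and I ⊆ R an ideal such that every associated
prime of R/I is minimal over I (R/I has no embedded primes) and every prime minimal over I has
height 1. Then I is principal: it is generated by one element. -/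
theorem result (R : Type u) [CommRing R] [IsDomain R] [IsNoetherianRing R]
    [UniqueFactorizationMonoid R] (I : Ideal R)
    (h1 : ∀ p : Ideal R, p ∈ associatedPrimes R (R ⧸ I) → p ∈ I.minimalPrimes)
    (h2 : ∀ p : Ideal R, p ∈ I.minimalPrimes → p.height = 1) :
    ∃ f : R, I = Ideal.span {f} := by
  classical
  by_cases hI : I = ⊥
  · exact ⟨0, by simp [hI]⟩
  obtain ⟨a, haI, ha0⟩ := Submodule.exists_mem_ne_zero_of_ne_bot hI
  let S : Set R := {g | ∃ f : R, a = f * g ∧ I ≤ Ideal.span {f}}
  have hS : S.Nonempty := ⟨a, 1, (one_mul a).symm, by simp [Ideal.span_singleton_one]⟩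
  obtain ⟨g, ⟨f, hfg, hIf⟩, hmin⟩ := (wellFounded_dvdNotUnit (α := R)).has_min S hS
  refine ⟨f, le_antisymm hIf ?_⟩
  have hf0 : f ≠ 0 := fun h => ha0 (by rw [hfg, h, zero_mul])
  let J : Ideal R :=
    { carrier := {r | r * f ∈ I}
      zero_mem' := by simp
      add_mem' := fun {x y} hx hy => by
        show (x + y) * f ∈ I
        rw [add_mul]; exact I.add_mem hx hy
      smul_mem' := fun c x hx => by
        show c • x * f ∈ I
        rw [smul_eq_mul, mul_assoc]; exact I.mul_mem_left c hx }
  by_contra hne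
  have hJ : J ≠ ⊤ := by
    intro h
    apply hne
    rw [Ideal.span_singleton_le_iff_mem]
    have h1 : (1 : R) * f ∈ I := (Ideal.eq_top_iff_one J).mp h
    rwa [one_mul] at h1
  haveI : Nontrivial (R ⧸ J) := Ideal.Quotient.nontrivial_iff.mpr hJ
  obtain ⟨P, hP⟩ := associatedPrimes.nonempty R (R ⧸ J)
  let m : R →ₗ[R] R ⧸ I := Submodule.mkQ I ∘ₗ LinearMap.mulRight R f
  have hker : LinearMap.ker m = (J : Submodule R R) := by
    ext r
    simp only [m, LinearMap.mem_ker, LinearMap.comp_apply, Submodule.mkQ_apply, Submodule.Quotient.mk_eq_zero]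
    rfl
  let m' : (R ⧸ J) →ₗ[R] R ⧸ I := Submodule.liftQ J m hker.ge
  have hm' : Function.Injective m' := by
    rw [← LinearMap.ker_eq_bot]
    exact Submodule.ker_liftQ_eq_bot _ _ _ hker.le
  have hPI : P ∈ associatedPrimes R (R ⧸ I) := associatedPrimes.subset_of_injective hm' hP
  haveI : P.IsPrime := IsAssociatedPrime.isPrime hP
  obtain ⟨π, hπ⟩ := (UniqueFactorizationMonoid.isPrincipal_of_height_eq_one (h2 P (h1 P hPI))).principal
  have hπP : ¬ IsUnit π := fun h => Ideal.IsPrime.ne_top (inferInstance : P.IsPrime) (by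
    rw [hπ]; exact Ideal.span_singleton_eq_top.mpr h)
  have hJP : J ≤ P := by
    intro r hr
    refine IsAssociatedPrime.annihilator_le hP ?_
    rw [Submodule.mem_annihilator]
    intro z _
    obtain ⟨w, rfl⟩ := Submodule.Quotient.mk_surjective J z
    rw [← Submodule.Quotient.mk_smul, Submodule.Quotient.mk_eq_zero, smul_eq_mul]
    exact J.mul_mem_right w hr
  have hIπ : I ≤ Ideal.span {f * π} := by
    intro x hx
    obtain ⟨r, rfl⟩ := Ideal.mem_span_singleton.mp (hIf hx)
    have hr : r ∈ P := hJP (show r * f ∈ I by rwa [mul_comm])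
    rw [hπ] at hr
    exact Ideal.mem_span_singleton.mpr (mul_dvd_mul_left f (Ideal.mem_span_singleton.mp hr))
  obtain ⟨g', hg'⟩ := Ideal.mem_span_singleton.mp (hIπ haI)
  have hgg : g = π * g' := mul_left_cancel₀ hf0 (by rw [← hfg, hg', mul_assoc])
  refine hmin g' ⟨f * π, hg', hIπ⟩ ⟨?_, π, hπP, by rw [hgg, mul_comm]⟩
  intro h
  exact ha0 (by rw [hg', h, mul_zero])

end Groth.Agent.S8854
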