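import Groth.Statements.S8856
import Groth.Agent.KoszGenLib.Alg
import Groth.Agent.KRLib.ImmFlat

set_option autoImplicit false
set_option backward.isDefEq.respectTransparency false
set_option backward.isDefEq.respectTransparency.types false
universe u
open CategoryTheory CategoryTheory.Limits AlgebraicGeometry TopologicalSpace
open SDiv

namespace Groth.Agent.S8856


/-- The chart data. -/
theorem exists_piece {Z X : Scheme.{u}} (i : Z ⟶ X) (z : Z)
    (hz : RegImm.IsRegularImmersionAt RegImm.Kind.koszul i z) :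
    ∃ (U : X.Opens) (hU : IsAffineOpen U) (σ : Type) (_ : Finite σ) (l : List (MvPolynomial σ Γ(X, U))),
      i z ∈ U ∧ IsAffineOpen (i ⁻¹ᵁ U) ∧ Function.Surjective (i.app U) ∧ KoszGenLib.WR _ l ∧
      Ideal.ofList l = (RingHom.ker (i.app U).hom).map (MvPolynomial.C : Γ(X, U) →+* MvPolynomial σ Γ(X, U)) := by
  obtain ⟨U, hzU, h⟩ := (KRLib.isRegularImmersionAt_koszul_iff i z).1 hz
  obtain ⟨n, f, hf, hspan⟩ := h.krGen
  obtain ⟨σ, hσ, l, hl, hl'⟩ := KoszGenLib.exists_regular n Γ(X, U) f hf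
  exact ⟨U, h.isAffine, σ, hσ, l, hzU, h.isAffine_pre, h.surjective, hl, by rw [hl', hspan]⟩

/-- Sections on the image of a chart. -/
theorem chart_hom {X X' : Scheme.{u}} (g : X' ⟶ X) {U : X.Opens} (hU : IsAffineOpen U) {P : CommRingCat.{u}}
    (φ : Γ(X, U) ⟶ P) (ι : Spec P ⟶ X') [IsOpenImmersion ι] (hι : ι ≫ g = Spec.map φ ≫ hU.fromSpec)
    (e : ι ''ᵁ ⊤ ≤ g ⁻¹ᵁ U) :
    g.appLE U (ι ''ᵁ ⊤) e ≫ ((ι.appIso ⊤).hom ≫ (Scheme.ΓSpecIso P).hom) = φ := by
  have key : ∀ (h : Spec P ⟶ X) (_ : h = Spec.map φ ≫ hU.fromSpec) (e' : ⊤ ≤ h ⁻¹ᵁ U),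
      h.appLE U ⊤ e' ≫ (Scheme.ΓSpecIso P).hom = φ := by
    rintro h rfl e'
    rw [← Scheme.Hom.appLE_comp_appLE (Spec.map φ) hU.fromSpec U ⊤ ⊤ (hU.fromSpec_preimage_self.ge) le_top]
    have e1 : hU.fromSpec.appLE U ⊤ hU.fromSpec_preimage_self.ge = (Scheme.ΓSpecIso Γ(X, U)).inv := by
      rw [Scheme.Hom.appLE, hU.fromSpec_app_self, Category.assoc, ← Functor.map_comp]
      erw [CategoryTheory.Functor.map_id]
      rw [Category.comp_id]
    rw [e1, Category.assoc]
    have e2 : (Spec.map φ).appLE ⊤ ⊤ le_top = (Spec.map φ).appTop := by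
      simp [Scheme.Hom.appLE]
    rw [e2]
    erw [Scheme.ΓSpecIso_naturality]
    exact Iso.inv_hom_id_assoc _ _
  rw [Scheme.Hom.appIso_hom', ← Category.assoc, Scheme.Hom.appLE_comp_appLE]
  exact key _ hι _

/-- For a Koszul-regular closed immersion i : Z ⟶ X, some surjective smooth morphism g : X' ⟶ X makes
the base change Z ×_X X' ⟶ X' of i along g a regular immersion. -/
theorem result {Z X : Scheme.{u}} (i : Z ⟶ X) [IsClosedImmersion i]
    (hi : RegImm.IsRegularImmersion RegImm.Kind.koszul i) :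
    ∃ (X' : Scheme.{u}) (g : X' ⟶ X), Smooth g ∧ Surjective g ∧
      RegImm.IsRegularImmersion RegImm.Kind.regular (pullback.snd i g) := by
  classical
  choose U hU σ hσ l hzU hpre hsurj hWR hl using fun z => exists_piece i z (hi.2 z)
  let P : Z → CommRingCat.{u} := fun z => CommRingCat.of (MvPolynomial (σ z) Γ(X, U z))
  let φ : ∀ z, Γ(X, U z) ⟶ P z := fun z => CommRingCat.ofHom MvPolynomial.C
  let C₀ : X.Opens := ⟨(Set.range i)ᶜ, i.isClosedEmbedding.isClosed_range.isOpen_compl⟩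
  let obj : Option Z → Scheme.{u} := fun o => Option.rec (C₀ : Scheme.{u}) (fun z => Spec (P z)) o
  let mor : ∀ o : Option Z, obj o ⟶ X := fun o => match o with
    | none => C₀.ι
    | some z => Spec.map (φ z) ≫ (hU z).fromSpec
  have hsm : ∀ o, Smooth (mor o) := by
    rintro (_ | z)
    · exact inferInstanceAs (Smooth C₀.ι)
    · haveI := hσ z
      haveI : Smooth (Spec.map (φ z)) := (HasRingHomProperty.Spec_iff (P := @Smooth)).2
        (RingHom.smooth_algebraMap.2 (⟨inferInstance, inferInstance⟩ : Algebra.Smooth Γ(X, U z) (MvPolynomial (σ z) Γ(X, U z))))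
      exact inferInstanceAs (Smooth (Spec.map (φ z) ≫ (hU z).fromSpec))
  let g : (∐ obj) ⟶ X := Limits.Sigma.desc mor
  refine ⟨∐ obj, g, IsZariskiLocalAtSource.sigmaDesc hsm, ⟨fun x => ?_⟩,
    inferInstance, fun w => ?_⟩
  · by_cases hx : x ∈ Set.range i
    · obtain ⟨z, rfl⟩ := hx
      obtain ⟨p, hp⟩ : ∃ p, (hU z).fromSpec p = i z := by
        rw [← Set.mem_range, (hU z).range_fromSpec]; exact hzU z
      refine ⟨Limits.Sigma.ι obj (some z) ((Spec.map (CommRingCat.ofHom MvPolynomial.constantCoeff)) p), ?_⟩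
      rw [← Scheme.Hom.comp_apply, Limits.Sigma.ι_desc]
      show ((Spec.map (φ z) ≫ (hU z).fromSpec)) ((Spec.map (CommRingCat.ofHom MvPolynomial.constantCoeff)) p) = _
      rw [← Scheme.Hom.comp_apply, ← Spec.map_comp_assoc]
      have e : φ z ≫ CommRingCat.ofHom MvPolynomial.constantCoeff = 𝟙 _ := by
        ext a; exact MvPolynomial.constantCoeff_C (σ z) a
      rw [e, Spec.map_id, Category.id_comp, hp]
    · refine ⟨Limits.Sigma.ι obj none ⟨x, hx⟩, ?_⟩
      rw [← Scheme.Hom.comp_apply, Limits.Sigma.ι_desc]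
      rfl
  · obtain ⟨o, y, hy⟩ := (sigmaOpenCover obj).exists_eq (pullback.snd i g w)
    have hgy : i (pullback.fst i g w) = (mor o).base y := by
      rw [← Scheme.Hom.comp_apply, pullback.condition, Scheme.Hom.comp_apply, ← hy]
      show g ((Limits.Sigma.ι obj o).base y) = _
      rw [← Scheme.Hom.comp_apply, Limits.Sigma.ι_desc]
    cases o with
    | none => exact absurd ⟨_, hgy⟩ (show (mor none).base y ∈ (Set.range i)ᶜ from y.2)
    | some z =>
      let ι : Spec (P z) ⟶ ∐ obj := Limits.Sigma.ι obj (some z)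
      have hι : ι ≫ g = Spec.map (φ z) ≫ (hU z).fromSpec := Limits.Sigma.ι_desc _ _
      let W : (∐ obj).Opens := ι ''ᵁ ⊤
      have hW : IsAffineOpen W := (isAffineOpen_top (Spec (P z))).image_of_isOpenImmersion ι
      have hWU : W ≤ g ⁻¹ᵁ U z := by
        rintro _ ⟨p, -, rfl⟩
        show g (ι p) ∈ U z
        rw [← Scheme.Hom.comp_apply, hι, Scheme.Hom.comp_apply]
        have h := Set.mem_range_self (f := (hU z).fromSpec) ((Spec.map (φ z)) p)
        rwa [(hU z).range_fromSpec] at h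
      have hwW : pullback.snd i g w ∈ W := ⟨y, trivial, hy⟩
      obtain ⟨haff, hs', hker⟩ := KRLib.baseChange_data (IsPullback.of_hasPullback i g) (hU z) (hpre z) (hsurj z) hW hWU
      let eW : Γ(∐ obj, W) ≅ P z := ι.appIso ⊤ ≪≫ Scheme.ΓSpecIso (P z)
      let eR : Γ(∐ obj, W) ≃+* MvPolynomial (σ z) Γ(X, U z) := eW.commRingCatIsoToRingEquiv
      have he : ∀ a, eR ((g.appLE (U z) W hWU).hom a) = MvPolynomial.C a := fun a =>
        congrArg (fun ψ : Γ(X, U z) ⟶ P z => ψ.hom a) (chart_hom g (hU z) (φ z) ι hι hWU)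
      have hspan : RingHom.ker ((pullback.snd i g).app W).hom = Ideal.ofList ((l z).map eR.symm) := by
        rw [hker]
        show _ = Ideal.ofList ((l z).map eR.symm.toRingHom)
        rw [← KoszGenLib.ofList_map eR.symm.toRingHom, hl z, Ideal.map_map]
        exact congrArg (fun ψ => (RingHom.ker (i.app (U z)).hom).map ψ)
          (RingHom.ext fun a => (eR.eq_symm_apply).2 (he a))
      refine ⟨⟨W, hW⟩, hwW, (KRLib.isClosedImmersion_restrict_iff _ hW).2 ⟨haff, hs'⟩, (l z).map eR.symm,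
        ⟨((hWR z).map_equiv eR.symm).isWeaklyRegular, ?_⟩, hspan⟩
      rw [smul_eq_mul, Ideal.mul_top, ← hspan]
      intro htop
      have h1 : (1 : Γ(∐ obj, W)) ∈ RingHom.ker ((pullback.snd i g).app W).hom := by rw [← htop]; trivial
      rw [RingHom.mem_ker, map_one] at h1
      have h2 := congrArg ((pullback i g).presheaf.germ ((pullback.snd i g) ⁻¹ᵁ W) w hwW).hom h1
      rw [map_one, map_zero] at h2
      exact one_ne_zero h2

end Groth.Agent.S8856
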