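import Groth.Statements.S8880
import Groth.Agent.NormDescLib.Ample

set_option autoImplicit false
universe u
open CategoryTheory CategoryTheory.Limits AlgebraicGeometry TopologicalSpace
open SDiv

namespace Groth.Agent.S8880

/-- Let π : X ⟶ Y be a finite morphism of schemes such that a norm of degree d exists for π, and assume
X is quasi-affine. Then Y is quasi-affine. -/
theorem result {X Y : Scheme.{u}} (π : X ⟶ Y) [IsFinite π] (d : ℕ) (hN : Nrm.HasNorm π d)
    (hX : X.IsQuasiAffine) : Y.IsQuasiAffine := by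
  obtain ⟨N⟩ := hN
  haveI := NormDescLib.surjective N
  haveI := hX
  haveI : CompactSpace Y := π.surjective.compactSpace π.continuous
  have hO : PicF.IsInvertible (Coh.structureModule X) :=
    TwistLib.isInvertible_of_genOn (fun _ : Unit => (⊤ : X.Opens)) (fun x => ⟨(), trivial⟩)
      (fun _ => show Γ(Coh.structureModule X, ⊤) from (1 : Γ(X, ⊤))) fun _ => AmpleLib.one_genOn ⊤
  refine Scheme.IsQuasiAffine.of_forall_exists_mem_basicOpen Y fun y => ?_
  obtain ⟨n, V, -, hyV, hV, hloc⟩ :=
    NormDescLib.exists_saturated_locus π (AmpleThLib.isAmple_of_isQuasiAffine hO) y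
  obtain ⟨f, hf⟩ := AmpleThLib.IsLocus.exists_basicOpen (g := show Γ(Coh.structureModule X, ⊤) from (1 : Γ(X, ⊤))) (AmpleLib.one_genOn ⊤) hloc
  have h := NormDescLib.basicOpen_norm N (U := ⊤) le_top f hf
  exact ⟨N.norm ⊤ f, h.symm ▸ hV, h.symm ▸ hyV⟩

end Groth.Agent.S8880
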