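import Groth.Statements.S8860
import Groth.Agent.S9716
import Groth.Agent.S8880
import Groth.Agent.S8881
import Groth.Agent.NormDescLib.Push
import Groth.Agent.AmpleDevLib.Components
-- import your own Groth.Agent.* helpers here

set_option autoImplicit false
universe u
open CategoryTheory CategoryTheory.Limits AlgebraicGeometry TopologicalSpace
open SDiv

namespace Groth.Agent.S8860

/-- Let π : X ⟶ Y be a finite surjective morphism of schemes with X quasi-affine. If either π is finite
locally free (finite, flat and locally of finite presentation), or Y is integral with all local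
rings integrally closed domains (normal), then Y is quasi-affine. -/
theorem result {X Y : Scheme.{u}} (π : X ⟶ Y) [IsFinite π] [Surjective π]
    (hX : X.IsQuasiAffine) (h : Mor2.IsFinLocFree π ∨ (IsIntegral Y ∧ Pi1.IsNormalScheme Y)) :
    Y.IsQuasiAffine := by
  haveI := hX
  rcases h with h | ⟨hY, hn⟩
  · haveI : CompactSpace Y := π.surjective.compactSpace π.continuous
    obtain ⟨d, hN⟩ := NormDescLib.exists_norm_of_push π ((Groth.Agent.S9716.result π).2 h).2
    exact Groth.Agent.S8880.result π d hN hX
  · haveI := hY
    obtain ⟨ξ, hξ⟩ := π.surjective (genericPoint Y)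
    let Z : Closeds X := ⟨closure {ξ}, isClosed_closure⟩
    let i := (Scheme.IdealSheafData.vanishingIdeal Z).subschemeι
    haveI : IsIntegral (Scheme.IdealSheafData.vanishingIdeal Z).subscheme :=
      AmpleDevLib.isIntegral_vanishingIdeal Z isIrreducible_singleton.closure
    haveI : IsFinite (i ≫ π) := inferInstance
    have hr : Set.range i = closure {ξ} := by
      rw [Scheme.IdealSheafData.range_subschemeι]
      simp [Scheme.IdealSheafData.coe_support_vanishingIdeal, Z]
    haveI : Surjective (i ≫ π) := by
      refine ⟨fun y => ?_⟩
      have hg : genericPoint Y ∈ Set.range (i ≫ π) := by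
        obtain ⟨z, hz⟩ : ξ ∈ Set.range i := by rw [hr]; exact subset_closure rfl
        exact ⟨z, by rw [Scheme.Hom.comp_apply, hz, hξ]⟩
      have hcl : IsClosed (Set.range (i ≫ π)) := (i ≫ π).isClosedMap.isClosed_range
      exact ((genericPoint_spec Y).mem_closed_set_iff hcl).mp hg |>.ge (Set.mem_univ y)
    haveI : (Scheme.IdealSheafData.vanishingIdeal Z).subscheme.IsQuasiAffine :=
      Scheme.IsQuasiAffine.of_isAffineHom i
    obtain ⟨d, hN⟩ := Groth.Agent.S8881.result (i ≫ π) hn
    exact Groth.Agent.S8880.result (i ≫ π) d hN inferInstance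

end Groth.Agent.S8860
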