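import Groth.Statements.S8861
import Groth.Agent.ModPairLib.Basic
import Groth.Agent.ProjFormLib.Frame
-- import your own Groth.Agent.* helpers here

set_option autoImplicit false
universe u
open CategoryTheory CategoryTheory.Limits AlgebraicGeometry TopologicalSpace
open SDiv

namespace Groth.Agent.S8861

theorem isWeakAssPoint_fromSpec {X : Scheme.{u}} {V : X.Opens} (hV : IsAffineOpen V) (z : Γ(X, V))
    {p : Ideal Γ(X, V)}
    (hp : p ∈ Ideal.minimalPrimes (LinearMap.ker (LinearMap.toSpanSingleton Γ(X, V) Γ(X, V) z) : Ideal Γ(X, V))) [p.IsPrime] :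
    Curv2.IsWeakAssPoint (Coh.structureModule X) (hV.fromSpec (⟨p, inferInstance⟩ : PrimeSpectrum Γ(X, V))) := by
  set P : PrimeSpectrum Γ(X, V) := ⟨p, inferInstance⟩
  set ξ := hV.fromSpec P
  have hξ : ξ ∈ V := hV.range_fromSpec.subset (Set.mem_range_self P)
  have hP : hV.primeIdealOf ⟨ξ, hξ⟩ = P :=
    hV.fromSpec.isOpenEmbedding.injective (hV.fromSpec_primeIdealOf ⟨ξ, hξ⟩)
  letI : Algebra Γ(X, V) (X.presheaf.stalk ξ) := (X.presheaf.germ V ξ hξ).hom.toAlgebra
  haveI : IsLocalization.AtPrime (X.presheaf.stalk ξ) p := by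
    have := hV.isLocalization_stalk ⟨ξ, hξ⟩
    simp only [hP] at this
    exact this
  let S := X.presheaf.stalk ξ
  refine ⟨(Coh.structureModule X).presheaf.germ V ξ hξ (show Γ(Coh.structureModule X, V) from z), ?_⟩
  set J := LinearMap.ker (LinearMap.toSpanSingleton S ((Coh.structureModule X).presheaf.stalk ξ)
    ((Coh.structureModule X).presheaf.germ V ξ hξ (show Γ(Coh.structureModule X, V) from z))) with hJ
  have hmem : ∀ a : Γ(X, V), a * z = 0 → algebraMap Γ(X, V) S a ∈ J := fun a ha => by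
    rw [LinearMap.mem_ker, LinearMap.toSpanSingleton_apply, RingHom.algebraMap_toAlgebra]
    refine (ProjFormLib.ger_smul (Coh.structureModule X) ξ hξ a (show Γ(Coh.structureModule X, V) from z)).symm.trans ?_
    exact (congrArg ((Coh.structureModule X).presheaf.germ V ξ hξ) (show _ = (0 : Γ(Coh.structureModule X, V)) from ha)).trans (map_zero _)
  have hne : J ≠ ⊤ := fun h => by
    have h1 : (1 : S) ∈ J := h ▸ Submodule.mem_top
    rw [LinearMap.mem_ker, LinearMap.toSpanSingleton_apply, one_smul] at h1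
    obtain ⟨W, hW, i₁, i₂, e⟩ := (Coh.structureModule X).presheaf.germ_eq ξ hξ hξ _ _
      (h1.trans (map_zero ((Coh.structureModule X).presheaf.germ V ξ hξ).hom).symm)
    rw [map_zero] at e
    have h2 : algebraMap Γ(X, V) S z = algebraMap Γ(X, V) S 0 := by
      rw [map_zero, RingHom.algebraMap_toAlgebra, ← TopCat.Presheaf.germ_res_apply X.presheaf i₁ ξ hW z]
      exact (congrArg (X.presheaf.germ W ξ hW) e).trans (map_zero _)
    obtain ⟨c, hc⟩ := (IsLocalization.eq_iff_exists p.primeCompl S).mp h2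
    exact c.2 (hp.1.2 (by
      rw [LinearMap.mem_ker, LinearMap.toSpanSingleton_apply, smul_eq_mul]
      simpa using hc))
  refine le_antisymm ((Ideal.IsPrime.radical_le_iff (IsLocalRing.maximalIdeal.isMaximal S).isPrime).mpr
    (IsLocalRing.le_maximalIdeal hne)) ?_
  rw [Ideal.radical_eq_sInf]
  refine le_sInf fun q hq => ?_
  haveI : q.IsPrime := hq.2
  have h3 : q.comap (algebraMap Γ(X, V) S) ≤ p := fun a ha => by
    by_contra hap
    exact hq.2.ne_top (Ideal.eq_top_of_isUnit_mem _ ha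
      (IsLocalization.map_units S (⟨a, hap⟩ : p.primeCompl)))
  have h4 : p ≤ q.comap (algebraMap Γ(X, V) S) := hp.2 ⟨Ideal.IsPrime.comap _, fun a ha => hq.1 (hmem a (by
    rw [LinearMap.mem_ker, LinearMap.toSpanSingleton_apply, smul_eq_mul] at ha
    exact ha))⟩ h3
  intro x hx
  obtain ⟨a, t, rfl⟩ := IsLocalization.exists_mk'_eq p.primeCompl x
  have ha : a ∈ p := (IsLocalization.AtPrime.mk'_mem_maximal_iff S p a t).mp hx
  exact IsLocalization.mk'_eq_mul_mk'_one (M := p.primeCompl) (S := S) a t ▸ q.mul_mem_right _ (h4 ha)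

/-- Let f : X ⟶ Y be a morphism of schemes and 𝓘 the ideal sheaf of an effective Cartier divisor D ⊆ Y.
If f x ∉ D for every weakly associated point x of X (weakly associated point of the structure
sheaf), then the inverse image ideal sheaf of 𝓘 on X is the ideal of an effective Cartier divisor,
i.e. the pullback of D by f is defined. -/
theorem result {X Y : Scheme.{u}} (f : X ⟶ Y) (𝓘 : Y.IdealSheafData)
    (hD : BlowUp.IsEffCartierIdeal 𝓘)
    (h : ∀ x : ↥X, Curv2.IsWeakAssPoint (Coh.structureModule X) x → f x ∉ 𝓘.support) :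
    BlowUp.IsEffCartierIdeal (𝓘.comap f) := by
  intro x
  obtain ⟨U, hxU, a, -, hU, hb⟩ := ModPairLib.exists_gen_basicOpen hD (f x)
  obtain ⟨V, hxV, e⟩ := BlowUpLib.exists_affine x (W := f ⁻¹ᵁ U.1) hxU
  refine ⟨V, hxV, (f.appLE U.1 V.1 e).hom a, ?_, ?_⟩
  · refine mem_nonZeroDivisors_iff_right.mpr fun z hz => by_contra fun hz0 => ?_
    set g := (f.appLE U.1 V.1 e).hom a
    let I := LinearMap.ker (LinearMap.toSpanSingleton Γ(X, V.1) Γ(X, V.1) z)
    have hI : I ≠ ⊤ := fun h => hz0 (by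
      have h1 : (1 : Γ(X, V.1)) ∈ I := h ▸ Submodule.mem_top
      rwa [LinearMap.mem_ker, LinearMap.toSpanSingleton_apply, one_smul] at h1)
    obtain ⟨p, hp⟩ := Ideal.nonempty_minimalPrimes hI
    haveI : p.IsPrime := hp.1.1
    have hgp : g ∈ p := hp.1.2 (by
      rw [LinearMap.mem_ker, LinearMap.toSpanSingleton_apply, smul_eq_mul, mul_comm]
      exact hz)
    let P : PrimeSpectrum Γ(X, V.1) := ⟨p, inferInstance⟩
    have hξV : V.2.fromSpec P ∈ V.1 := V.2.range_fromSpec.subset (Set.mem_range_self P)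
    have hint : f (V.2.fromSpec P) ∈ Y.basicOpen a := by
      rw [← hb]
      exact ⟨h _ (isWeakAssPoint_fromSpec V.2 z hp), e hξV⟩
    have hξa : V.2.fromSpec P ∈ X.basicOpen g := by
      rw [Scheme.basicOpen_appLE]
      exact ⟨hξV, hint⟩
    have : P ∈ V.2.fromSpec ⁻¹ᵁ X.basicOpen g := hξa
    rw [V.2.fromSpec_preimage_basicOpen] at this
    exact this hgp
  · rw [Groth.Agent.S4666.ideal_comap_eq _ f U V e, hU, Ideal.map_span, Set.image_singleton]

end Groth.Agent.S8861
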