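import Groth.Statements.S8862
import Groth.Agent.ModPairLib.Basic
-- import your own Groth.Agent.* helpers here

set_option autoImplicit false
universe u
open CategoryTheory CategoryTheory.Limits AlgebraicGeometry TopologicalSpace
open SDiv

namespace Groth.Agent.S8862

/-- Let f : X ⟶ Y be a morphism of schemes with X reduced and 𝓘 the ideal sheaf of an effective Cartier
divisor D ⊆ Y. If f ξ ∉ D for every generic point ξ of an irreducible component of X (every point of
X with no proper generization), then the inverse image ideal sheaf of 𝓘 on X is the ideal of an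
effective Cartier divisor. -/
theorem result {X Y : Scheme.{u}} [IsReduced X] (f : X ⟶ Y) (𝓘 : Y.IdealSheafData)
    (hD : BlowUp.IsEffCartierIdeal 𝓘)
    (h : ∀ ξ : ↥X, (∀ y : ↥X, y ⤳ ξ → y = ξ) → f ξ ∉ 𝓘.support) :
    BlowUp.IsEffCartierIdeal (𝓘.comap f) := by
  intro x
  obtain ⟨U, hxU, a, -, hU, hb⟩ := ModPairLib.exists_gen_basicOpen hD (f x)
  obtain ⟨V, hxV, e⟩ := BlowUpLib.exists_affine x (W := f ⁻¹ᵁ U.1) hxU
  refine ⟨V, hxV, (f.appLE U.1 V.1 e).hom a, ?_, ?_⟩
  · refine mem_nonZeroDivisors_iff_right.mpr fun z hz => ?_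
    refine IsNilpotent.eq_zero ?_
    rw [← mem_nilradical, nilradical_eq_sInf, Submodule.mem_sInf]
    intro p hp
    haveI : Ideal.IsPrime (p : Ideal Γ(X, V.1)) := hp
    obtain ⟨q, hq, hqp⟩ := Ideal.exists_minimalPrimes_le (I := (⊥ : Ideal Γ(X, V.1))) (J := p) bot_le
    haveI : q.IsPrime := hq.1.1
    refine hqp ((Ideal.IsPrime.mem_or_mem inferInstance (show z * _ ∈ q by rw [hz]; exact q.zero_mem)).resolve_right
      fun hga => ?_)
    let P : PrimeSpectrum Γ(X, V.1) := ⟨q, inferInstance⟩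
    let ξ : X := V.2.fromSpec P
    have hξV : ξ ∈ V.1 := V.2.range_fromSpec.subset (Set.mem_range_self P)
    have hmin : ∀ y : X, y ⤳ ξ → y = ξ := fun y hy => by
      have hyV : y ∈ V.1 := hy.mem_open V.1.2 hξV
      obtain ⟨Q, rfl⟩ : ∃ Q : PrimeSpectrum Γ(X, V.1), V.2.fromSpec Q = y := V.2.range_fromSpec.superset hyV
      have hle : @LE.le (PrimeSpectrum Γ(X, V.1)) _ Q P := (PrimeSpectrum.le_iff_specializes Q P).mpr
        (V.2.fromSpec.isOpenEmbedding.isInducing.specializes_iff.mp hy)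
      have : @LE.le (PrimeSpectrum Γ(X, V.1)) _ P Q := hq.2 ⟨Q.isPrime, bot_le⟩ hle
      exact congrArg V.2.fromSpec (le_antisymm (α := PrimeSpectrum Γ(X, V.1)) hle this)
    have hint : f ξ ∈ Y.basicOpen a := by
      rw [← hb]
      exact ⟨h ξ hmin, e hξV⟩
    have hξa : ξ ∈ X.basicOpen ((f.appLE U.1 V.1 e).hom a) := by
      rw [Scheme.basicOpen_appLE]
      exact ⟨hξV, hint⟩
    have : P ∈ V.2.fromSpec ⁻¹ᵁ X.basicOpen ((f.appLE U.1 V.1 e).hom a) := hξa
    rw [V.2.fromSpec_preimage_basicOpen] at this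
    exact this hga
  · rw [Groth.Agent.S4666.ideal_comap_eq _ f U V e, hU, Ideal.map_span, Set.image_singleton]

end Groth.Agent.S8862
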