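import Groth.Statements.S8867
import Groth.Agent.MeroLib.RegExists

-- import your own Groth.Agent.* helpers here

set_option autoImplicit false
universe u
open CategoryTheory CategoryTheory.Limits AlgebraicGeometry TopologicalSpace
open SDiv

namespace Groth.Agent.S8867



/-- Let X be a locally Noetherian scheme with no embedded points, i.e. every associated point of O_X is
maximal among the associated points of O_X under specialization, and L an invertible O_X-module.
Then some meromorphic section of L is regular. -/
theorem result (X : Scheme.{u}) [IsLocallyNoetherian X]
    (hne : ∀ x : ↥X, Curv2.IsAssPoint (Coh.structureModule X) x →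
      ∀ y : ↥X, Curv2.IsAssPoint (Coh.structureModule X) y → y ⤳ x → y = x)
    (L : X.Modules) (hL : PicF.IsInvertible L) : Mero.HasRegularMero L := by
  exact MeroLib.hasRegularMero_of_incomparable MeroLib.finiteWeak_of_locallyNoetherian
    (fun x y hx hy hyx => hne x ((AssPointLib.assPoint_iff_weak _ x).2 hx) y ((AssPointLib.assPoint_iff_weak _ y).2 hy) hyx) hL


end Groth.Agent.S8867
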