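import Groth.Statements.S8882
import Groth.Agent.NormDescLib.Glue

set_option autoImplicit false
universe u
open CategoryTheory CategoryTheory.Limits AlgebraicGeometry TopologicalSpace
open SDiv

namespace Groth.Agent.S8882

theorem pow_eq_of_isNilpotent_sub {A : Type u} [CommRing A] {p : ℕ} (hp : p.Prime) (h0 : (p : A) = 0) {e : ℕ}
    (hq : ∀ a : A, IsNilpotent a → a ^ p ^ e = 0) {a b : A} (h : IsNilpotent (a - b)) : a ^ p ^ e = b ^ p ^ e := by
  rcases subsingleton_or_nontrivial A with hs | hs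
  · exact Subsingleton.elim _ _
  haveI : CharP A p := (CharP.charP_iff_prime_eq_zero hp).mpr h0
  haveI : Fact p.Prime := ⟨hp⟩
  rw [← sub_eq_zero, ← sub_pow_char_pow, hq _ h]

/-- An affine open with nilpotents killed by the `q`-th power. -/
def Good (X : Scheme.{u}) (q : ℕ) (D : X.Opens) : Prop :=
  IsAffineOpen D ∧ ∀ a : Γ(X, D), IsNilpotent a → a ^ q = 0

theorem good_basic {X : Scheme.{u}} {q : ℕ} {D : X.Opens} (h : Good X q D) (f : Γ(X, D)) :
    Good X q (X.basicOpen f) := by
  refine ⟨h.1.basicOpen f, fun b hb => ?_⟩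
  haveI := h.1.isLocalization_basicOpen f
  obtain ⟨⟨a, ⟨_, k, rfl⟩⟩, hab⟩ := IsLocalization.surj (Submonoid.powers f) b
  obtain ⟨n, hn⟩ := hb
  have h1 : algebraMap Γ(X, D) Γ(X, X.basicOpen f) (a ^ n) = algebraMap Γ(X, D) Γ(X, X.basicOpen f) 0 := by
    rw [map_pow, map_zero, ← hab, mul_pow, hn, zero_mul]
  obtain ⟨⟨_, m, rfl⟩, hm⟩ := (IsLocalization.eq_iff_exists (Submonoid.powers f) _).mp h1
  have hnil : IsNilpotent (f ^ m * a) := ⟨n + 1, by
    have : (f ^ m * a) ^ (n + 1) = (f ^ m) ^ n * a * (f ^ m * a ^ n) := by ring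
    rw [this, show f ^ m * a ^ n = 0 by simpa using hm, mul_zero]⟩
  have h2 := congrArg (algebraMap Γ(X, D) Γ(X, X.basicOpen f)) (h.2 _ hnil)
  rw [map_pow, map_mul, map_zero, ← hab, mul_pow, mul_pow] at h2
  have hu : IsUnit (algebraMap Γ(X, D) Γ(X, X.basicOpen f) f) :=
    IsLocalization.map_units (M := Submonoid.powers f) Γ(X, X.basicOpen f) ⟨f, 1, pow_one f⟩
  rw [map_pow] at h2
  have h3 := ((hu.pow m).pow q).mul_right_eq_zero.mp h2
  simp only [map_pow] at h3
  exact ((hu.pow k).pow q).mul_left_eq_zero.mp h3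

theorem app_surj {X : Scheme.{u}} {D : X.Opens} (hD : IsAffineOpen D) :
    Function.Surjective (X.nilradical.subschemeι.app D) :=
  X.nilradical.subschemeι_app_surjective ⟨D, hD⟩

theorem isNilpotent_sub {X : Scheme.{u}} {D : X.Opens} (hD : IsAffineOpen D) {a b : Γ(X, D)}
    (h : X.nilradical.subschemeι.app D a = X.nilradical.subschemeι.app D b) : IsNilpotent (a - b) := by
  have h1 : a - b ∈ RingHom.ker (X.nilradical.subschemeι.app D).hom :=
    (RingHom.sub_mem_ker_iff _).mpr h
  rw [X.nilradical.ker_subschemeι_app ⟨D, hD⟩] at h1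
  exact h1

theorem exists_exponent (X : Scheme.{u}) [IsNoetherian X] :
    ∃ m : ℕ, ∀ x : X, ∃ D : X.Opens, x ∈ D ∧ ∀ q, m ≤ q → Good X q D := by
  classical
  obtain ⟨t, ht⟩ := isCompact_univ.elim_finite_subcover (fun U : X.affineOpens => (U.1 : Set X)) (fun U => U.1.2)
    fun x _ => by
      obtain ⟨U, hU, hxU, -⟩ := exists_isAffineOpen_mem_and_subset (x := x) (U := (⊤ : X.Opens)) trivial
      exact Set.mem_iUnion.mpr ⟨⟨U, hU⟩, hxU⟩
  have hnil : ∀ U : X.affineOpens, ∃ m : ℕ, ∀ a : Γ(X, U.1), IsNilpotent a → a ^ m = 0 := fun U => by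
    haveI := IsLocallyNoetherian.component_noetherian (X := X) U
    obtain ⟨m, hm⟩ := IsNoetherianRing.isNilpotent_nilradical Γ(X, U.1)
    refine ⟨m, fun a ha => ?_⟩
    have : a ^ m ∈ nilradical Γ(X, U.1) ^ m := Ideal.pow_mem_pow ha m
    rw [hm] at this
    exact this
  choose m hm using hnil
  refine ⟨t.sup m, fun x => ?_⟩
  obtain ⟨U, hU, hx⟩ := Set.mem_iUnion₂.mp (ht (Set.mem_univ x))
  refine ⟨U.1, hx, fun q hq => ⟨U.2, fun a ha => ?_⟩⟩
  obtain ⟨k, rfl⟩ : ∃ k, q = m U + k := ⟨q - m U, by have := Finset.le_sup (f := m) hU; omega⟩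
  rw [pow_add, hm U a ha, zero_mul]

/-- Let X be a Noetherian scheme on which a prime number p is zero (p·O_X = 0). Then the closed
immersion X_red ⟶ X cut out by the nilradical carries a norm whose degree is p^e for some e > 0. -/
theorem result (X : Scheme.{u}) [IsNoetherian X] (p : ℕ) (hp : p.Prime)
    (hpX : (p : Γ(X, ⊤)) = 0) : ∃ e : ℕ, 0 < e ∧ Nrm.HasNorm X.nilradical.subschemeι (p ^ e) := by
  classical
  obtain ⟨m, hm⟩ := exists_exponent X
  let e := m + 1
  have hme : m ≤ p ^ e := ((Nat.le_succ m).trans (Nat.lt_pow_self hp.one_lt).le)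
  have hp0 : ∀ D : X.Opens, (p : Γ(X, D)) = 0 := fun D => by
    rw [← map_natCast (X.presheaf.map (homOfLE (le_top : D ≤ ⊤)).op).hom, hpX, map_zero]
  let π := X.nilradical.subschemeι
  choose lift hlift using fun (D : X.Opens) (hD : Good X (p ^ e) D) => app_surj hD.1
  have key : ∀ (D : X.Opens) (hD : Good X (p ^ e) D) (s) (a : Γ(X, D)), π.app D a = s →
      lift D hD s ^ p ^ e = a ^ p ^ e := fun D hD s a ha =>
    pow_eq_of_isNilpotent_sub hp (hp0 D) hD.2 (isNilpotent_sub hD.1 ((hlift D hD s).trans ha.symm))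
  refine ⟨e, m.succ_pos, ⟨NormDescLib.LocalNorm.toNorm (π := π)
    { one_le := Nat.one_le_pow _ _ hp.pos
      good := Good X (p ^ e)
      affine := fun D hD => hD.1
      cover := fun x => by
        obtain ⟨D, hxD, hD⟩ := hm x
        exact ⟨D, hD _ hme, hxD⟩
      good_basic := fun D hD f => good_basic hD f
      nrm := fun D hD =>
        { toFun := fun s => lift D hD s ^ p ^ e
          map_one' := by rw [key D hD 1 1 (map_one _), one_pow]
          map_mul' := fun s t => by
            rw [← mul_pow]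
            exact key D hD _ _ (by rw [map_mul, hlift D hD s, hlift D hD t]) }
      nrm_basic := fun D hD f hf s => by
        show NormDescLib.rs _ (lift D hD s ^ p ^ e) = lift _ hf _ ^ p ^ e
        rw [NormDescLib.rs_pow]
        refine (key _ hf _ _ ?_).symm
        rw [NormDescLib.app_rs, hlift D hD s]
      nrm_app := fun D hD g => key D hD _ g rfl
      nrm_unit := fun D hD s hs => by
        have h := ((isUnit_pow_iff (Nat.pos_iff_ne_zero.mp (Nat.pow_pos hp.pos))).mp hs).map (π.app D).hom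
        rwa [hlift D hD s] at h }⟩⟩

end Groth.Agent.S8882
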