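import Groth.Statements.S8885
import Groth.Agent.AssTensLib.Main
import Groth.Agent.AlgSpLib.HasAtMore
import Groth.Agent.AlgSpLib.CodimZero

set_option autoImplicit false
set_option backward.isDefEq.respectTransparency false
universe u
open CategoryTheory CategoryTheory.Limits AlgebraicGeometry TopologicalSpace
open SDiv

namespace Groth.Agent.S8885

theorem maximalIdeal_assoc_of_dim_zero (A : Type u) [CommRing A] [IsLocalRing A] [IsNoetherianRing A]
    (h : ringKrullDim A = 0) : IsAssociatedPrime (IsLocalRing.maximalIdeal A) A := by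
  obtain ⟨P, hP⟩ := associatedPrimes.nonempty A A
  have hP' : P.IsPrime := IsAssociatedPrime.isPrime hP
  haveI : Ring.KrullDimLE 0 A := Ring.krullDimLE_iff.2 h.le
  have hPm : P = IsLocalRing.maximalIdeal A := IsLocalRing.eq_maximalIdeal hP'.isMaximal'
  exact hPm ▸ hP

/-- Without embedded points, the associated points are the generic points of the components. -/
theorem ass_structure_iff_maximal {T : Scheme.{u}} [∀ t : T, IsNoetherianRing (T.presheaf.stalk t)]
    (hne : AssSch.NoEmbedded (Coh.structureModule T)) (t : T) :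
    t ∈ AssSch.Ass (Coh.structureModule T) ↔ ∀ w : T, w ⤳ t → w = t := by
  have hmax : ∀ ξ : T, (∀ w : T, w ⤳ ξ → w = ξ) → ξ ∈ AssSch.Ass (Coh.structureModule T) := fun ξ hξ =>
    (AssTensLib.ass_structure_iff ξ).2
      (maximalIdeal_assoc_of_dim_zero _ (AlgSpLib.stalkDim_eq_zero_of_maximal ξ hξ))
  refine ⟨fun ht w hw => ?_, hmax t⟩
  obtain ⟨ξ, hξw, hξ⟩ := AlgSpLib.exists_maximal_generization w
  obtain rfl := hne t ht ξ (hmax ξ hξ) (hξw.trans hw)
  exact hξ w hw

theorem noetherian_stalk_fiber {A B : Scheme.{u}} (h : A ⟶ B) [LocallyOfFiniteType h] (b : B) (z : h.fiber b) :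
    IsNoetherianRing ((h.fiber b).presheaf.stalk z) := by
  haveI : LocallyOfFiniteType (h.fiberToSpecResidueField b) := UOpenLib.lft_fiberToSpec h _
  haveI : IsLocallyNoetherian (h.fiber b) :=
    LocallyOfFiniteType.isLocallyNoetherian (h.fiberToSpecResidueField b)
  infer_instance

theorem assPoint_fiber_congr {X S : Scheme.{u}} (f : X ⟶ S) (F : X.Modules) (s : S) (z : f.fiber s) (x : X)
    (hz : f.fiberι s z = x) :
    Curv2.IsAssPoint ((Scheme.Modules.pullback (f.fiberι s)).obj F) z ↔
      Curv2.IsAssPoint ((Scheme.Modules.pullback (f.fiberι (f x))).obj F) (f.asFiber x) := by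
  have hs : f x = s := by
    have h : f.fiberι s z ∈ Set.range (f.fiberι s) := ⟨z, rfl⟩
    rw [f.range_fiberι, hz] at h
    exact h
  subst hs
  obtain rfl : z = f.asFiber x := (f.fiberι (f x)).isEmbedding.injective (by rw [hz, f.fiberι_asFiber])
  exact Iff.rfl

/-- Let f : X ⟶ S be locally of finite type, g : S' ⟶ S a morphism, X' = X ×_S S' with projections g' :
X' ⟶ X and f' : X' ⟶ S', F a quasi-coherent O_X-module and F' = g'^*F. For a point x' of X' with
images x in X and s' in S': x' lies in the relative assassin Ass_{X'/S'}(F') (x' is an associated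
point of the pullback of F' to the fibre X'_{s'}) if and only if x lies in Ass_{X/S}(F) and x' is
maximal under generization among the points of X' mapping to x and to s' (that is, x' is the generic
point of some irreducible component of Spec(κ(s') ⊗_{κ(s)} κ(x))). -/
theorem result {X S S' : Scheme.{u}} (f : X ⟶ S) [LocallyOfFiniteType f] (g : S' ⟶ S)
    (F : X.Modules) (hF : Coh.IsQCoh F) (x' : ↥(pullback f g)) :
    Curv2.IsAssPoint
        ((Scheme.Modules.pullback ((pullback.snd f g).fiberι ((pullback.snd f g) x'))).obj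
          ((Scheme.Modules.pullback (pullback.fst f g)).obj F))
        ((pullback.snd f g).asFiber x') ↔
      Curv2.IsAssPoint ((Scheme.Modules.pullback (f.fiberι (f ((pullback.fst f g) x')))).obj F)
          (f.asFiber ((pullback.fst f g) x')) ∧
        ∀ x'' : ↥(pullback f g), (pullback.snd f g) x'' = (pullback.snd f g) x' →
          (pullback.fst f g) x'' = (pullback.fst f g) x' → x'' ⤳ x' → x'' = x' := by
  let p := pullback.snd f g
  let q := pullback.fst f g
  let s' := p x'
  let j := p.fiberι s'
  let a := S'.fromSpecResidueField s'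
  let r := Spec.map (g.residueFieldMap s')
  let y := p.asFiber x'
  have hyx : j y = x' := p.fiberι_asFiber x'
  haveI : Flat r := by
    rw [HasRingHomProperty.Spec_iff (P := @Flat)]
    letI := (g.residueFieldMap s').hom.toAlgebra
    exact (inferInstance : Module.Flat (S.residueField (g s')) (S'.residueField s'))
  have sqQ : IsPullback (j ≫ q) (p.fiberToSpecResidueField s') f (a ≫ g) :=
    (IsPullback.of_hasPullback p a).paste_horiz (IsPullback.of_hasPullback f g)
  have sqY : IsPullback (f.fiberι (g s')) (f.fiberToSpecResidueField (g s')) f (S.fromSpecResidueField (g s')) :=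
    IsPullback.of_hasPullback f _
  have hr : r ≫ S.fromSpecResidueField (g s') = a ≫ g := Scheme.Hom.SpecMap_residueFieldMap_fromSpecResidueField g s'
  let π : p.fiber s' ⟶ f.fiber (g s') := sqY.lift (j ≫ q) (p.fiberToSpecResidueField s' ≫ r)
    (by rw [Category.assoc _ r, hr]; exact sqQ.w)
  have hπ : π ≫ f.fiberι (g s') = j ≫ q := sqY.lift_fst _ _ _
  have sqπ : IsPullback π (p.fiberToSpecResidueField s') (f.fiberToSpecResidueField (g s')) r :=
    IsPullback.of_right (by rw [hπ, hr]; exact sqQ) (sqY.lift_snd _ _ _) sqY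
  haveI : Flat π := MorphismProperty.of_isPullback sqπ.flip inferInstance
  haveI hNQ : ∀ w : p.fiber s', IsNoetherianRing ((p.fiber s').presheaf.stalk w) := noetherian_stalk_fiber p s'
  haveI hNY : ∀ v : f.fiber (g s'), IsNoetherianRing ((f.fiber (g s')).presheaf.stalk v) :=
    noetherian_stalk_fiber f (g s')
  let e : (Scheme.Modules.pullback π).obj ((Scheme.Modules.pullback (f.fiberι (g s'))).obj F) ≅
      (Scheme.Modules.pullback j).obj ((Scheme.Modules.pullback q).obj F) :=
    (Scheme.Modules.pullbackComp π (f.fiberι (g s'))).app F ≪≫ (Scheme.Modules.pullbackCongr hπ).app F ≪≫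
      ((Scheme.Modules.pullbackComp j q).app F).symm
  have he : y ∈ AssSch.Ass ((Scheme.Modules.pullback j).obj ((Scheme.Modules.pullback q).obj F)) ↔
      y ∈ AssSch.Ass ((Scheme.Modules.pullback π).obj ((Scheme.Modules.pullback (f.fiberι (g s'))).obj F)) :=
    Set.ext_iff.1 (LinearEquiv.AssociatedPrimes.eq ((DerSch.stalkFunctor _ y).mapIso e.symm).toLinearEquiv) _
  have hπy : f.fiberι (g s') (π y) = q x' := by
    rw [← Scheme.Hom.comp_apply, hπ, Scheme.Hom.comp_apply, hyx]
  refine he.trans ((AssTensLib.mem_ass_pullback_iff π _ y).trans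
    (and_congr (assPoint_fiber_congr f F (g s') (π y) (q x') hπy) ?_))
  rw [AssTensLib.ringAss_comp_iff (f.fiberι (g s')) π y (Groth.Agent.S9501.result f (g s') (π y)).1,
    AssTensLib.ringAss_congr hπ y]
  let xx := (j ≫ q) y
  have hxx : xx = q x' := by rw [show xx = q (j y) from rfl, hyx]
  let u := (j ≫ q).asFiber y
  have hu : (j ≫ q).fiberι xx u = y := (j ≫ q).fiberι_asFiber y
  let b := X.fromSpecResidueField xx
  have sqR : IsPullback ((j ≫ q).fiberι xx ≫ p.fiberToSpecResidueField s') ((j ≫ q).fiberToSpecResidueField xx)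
      (a ≫ g) (b ≫ f) :=
    ((IsPullback.of_hasPullback (j ≫ q) b).flip.paste_vert sqQ).flip
  haveI hNΦ : ∀ w : (j ≫ q).fiber xx, IsNoetherianRing (((j ≫ q).fiber xx).presheaf.stalk w) := fun w =>
    isNoetherianRing_of_surjective _ _ _ (Groth.Agent.S9501.result (j ≫ q) xx w).1
  have hne : AssSch.NoEmbedded (Coh.structureModule ((j ≫ q).fiber xx)) := by
    intro t ht t' ht' hsp
    let eT := sqR.isoPullback
    exact (Scheme.homeoOfIso eT).injective (AssTensLib.noEmbedded_residue g f s' xx _
      ((AssTensLib.ass_structure_iso eT t).1 ht) _ ((AssTensLib.ass_structure_iso eT t').1 ht')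
      (hsp.map eT.hom.continuous))
  have hring := AssTensLib.mem_ass_fiber_structure_iff (j ≫ q) xx u
  rw [hu] at hring
  rw [← hring, ass_structure_iff_maximal hne]
  constructor
  · intro h x'' hs hx hsp
    obtain ⟨w₁, rfl⟩ : x'' ∈ Set.range j := by rw [p.range_fiberι]; exact hs
    obtain ⟨w, rfl⟩ : w₁ ∈ Set.range ((j ≫ q).fiberι xx) := by
      rw [(j ≫ q).range_fiberι]; exact hx.trans hxx.symm
    have hw : w = u := h w (((j ≫ q).fiberι xx).isEmbedding.isInducing.specializes_iff.1
      (j.isEmbedding.isInducing.specializes_iff.1 (by rw [hu, hyx]; exact hsp)))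
    rw [hw, hu, hyx]
  · intro h w hw
    refine ((j ≫ q).fiberι xx).isEmbedding.injective (j.isEmbedding.injective ?_)
    rw [hu, hyx]
    have hw1 : j ((j ≫ q).fiberι xx w) ∈ Set.range j := ⟨_, rfl⟩
    have hw2 : (j ≫ q).fiberι xx w ∈ Set.range ((j ≫ q).fiberι xx) := ⟨_, rfl⟩
    rw [p.range_fiberι] at hw1
    rw [(j ≫ q).range_fiberι] at hw2
    refine h _ hw1 (Eq.trans hw2 hxx) ?_
    have h3 := (hw.map ((j ≫ q).fiberι xx).continuous).map j.continuous
    rwa [hu, hyx] at h3

end Groth.Agent.S8885
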