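import Groth.Statements.S8887
import Groth.Agent.CohCmpLib.HomFrame
import Groth.Agent.MiscFlat6.FreeStalks
-- import your own Groth.Agent.* helpers here

set_option autoImplicit false
universe u
open CategoryTheory CategoryTheory.Limits AlgebraicGeometry TopologicalSpace
open SDiv
open scoped TensorProduct
open ProjFormLib (ger res ger_res ger_smul exists_ger IsFrame)

namespace Groth.Agent.S8887

/-- Let X be an integral scheme and F a quasi-coherent O_X-module of finite type, of rank r (r being the
finite dimension of the generic stalk of F as a vector space over the function field of X). Then one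
can find an open subset U of X, not empty, on which the restriction of F is isomorphic to the free
module of rank r. -/
theorem result (X : Scheme.{u}) [IsIntegral X] (F : X.Modules) (hF : Coh.IsQCoh F)
    (hft : CohB1.IsFT F) :
    ∃ U : X.Opens, (U : Set ↥X).Nonempty ∧
      Nonempty (F.restrict U.ι ≅ FlatMod.freeMod (↑U)
        (Module.finrank ↑(X.presheaf.stalk (genericPoint ↥X)) ↑(F.presheaf.stalk (genericPoint ↥X)))) := by
  classical
  haveI : Coh.IsQCoh F := hF
  let η := genericPoint X
  obtain ⟨U, n, e, hη, hn, hsurj⟩ := MiscFlat6.exists_spanning_nhd hft η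
  haveI hfree : Module.Free (X.presheaf.stalk η) (F.presheaf.stalk η) :=
    Module.Free.of_divisionRing X.functionField _
  haveI : Module.Free (X.presheaf.stalk η) ((DerSch.stalkFunctor X η).obj F) := hfree
  have hnr : n = Module.finrank (X.presheaf.stalk η) ((DerSch.stalkFunctor X η).obj F) :=
    hn.trans MiscFlat6.finrank_fibre
  haveI := MiscFlat6.finite_stalk (hsurj η hη)
  have hb : Function.Injective (Fintype.linearCombination (X.presheaf.stalk η) fun i => ger F η hη (e i)) := by
    let ee := (Module.finBasisOfFinrankEq (X.presheaf.stalk η) _ hnr.symm).equivFun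
    have := OrzechProperty.injective_of_surjective_endomorphism
      (ee.toLinearMap.comp (Fintype.linearCombination (X.presheaf.stalk η) fun i => ger F η hη (e i)))
      (ee.surjective.comp (hsurj η hη))
    exact fun a a' h => this (congrArg ee h)
  have hfr : IsFrame F e := fun y hy => by
    refine ⟨?_, hsurj y hy⟩
    rw [injective_iff_map_eq_zero]
    intro c hc
    choose W hW r hr using fun i => X.presheaf.exists_germ_eq (x := y) (c i)
    obtain ⟨W₀, hyW₀, hle⟩ := CohCmpLib.exists_nhd_le W hW
    let T := W₀ ⊓ U
    let m : Γ(F, T) := ∑ i, X.presheaf.map (homOfLE ((inf_le_left : T ≤ W₀).trans (hle i))).op (r i) •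
      res F (inf_le_right : T ≤ U) (e i)
    have hT : y ∈ T := ⟨hyW₀, hy⟩
    have hm : ger F y hT m = ger F y hT (0 : Γ(F, T)) := by
      rw [CohCmpLib.ger_sum, CohCmpLib.ger_zero, ← hc, Fintype.linearCombination_apply]
      exact Finset.sum_congr rfl fun i _ => by rw [ger_smul, ger_res, TopCat.Presheaf.germ_res_apply, hr]
    obtain ⟨T', hyT', i₁, i₂, h0⟩ := F.presheaf.germ_eq y hT hT _ _ hm
    have hηT' : η ∈ T' := ((genericPoint_spec X).mem_open_set_iff T'.2).mpr ⟨y, trivial, hyT'⟩
    have h1 : ger F η (i₁.le hηT') m = 0 := by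
      rw [← ger_res F i₁.le η hηT' m]
      exact (congrArg (ger F η hηT') (h0.trans (map_zero _))).trans (CohCmpLib.ger_zero F η hηT')
    rw [CohCmpLib.ger_sum] at h1
    have h2 := (injective_iff_map_eq_zero _).mp hb
      (fun i => X.presheaf.germ (W i) η (hle i (i₁.le hηT').1) (r i)) (by
        refine Eq.trans ?_ h1
        rw [Fintype.linearCombination_apply]
        exact Finset.sum_congr rfl fun i _ => by rw [ger_smul, ger_res, TopCat.Presheaf.germ_res_apply])
    funext i
    haveI : Nonempty ↥(W i) := ⟨⟨y, hW i⟩⟩
    have h3 : r i = 0 := germ_injective_of_isIntegral X η (hle i (i₁.le hηT').1)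
      ((congrFun h2 i).trans (map_zero _).symm)
    rw [← hr i, h3, map_zero]
    rfl
  obtain ⟨φ⟩ := CohCmpLib.exists_iso_freeMod_of_frame
    (CohCmpLib.isFrame_puSecLE U.ι hfr (V := (⊤ : (U : Scheme.{u}).Opens)) (fun z _ => z.2))
  refine ⟨U, ⟨η, hη⟩, ?_⟩
  change Nonempty (F.restrict U.ι ≅ FlatMod.freeMod (↑U)
    (Module.finrank (X.presheaf.stalk η) ((DerSch.stalkFunctor X η).obj F)))
  rw [← hnr]
  exact ⟨(Scheme.Modules.restrictFunctorIsoPullback U.ι).app F ≪≫ φ⟩

end Groth.Agent.S8887
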