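import Groth.Statements.S8888
import Groth.Agent.CohCmpLib.FrameTools
-- import your own Groth.Agent.* helpers here

set_option autoImplicit false
universe u
open CategoryTheory CategoryTheory.Limits AlgebraicGeometry TopologicalSpace
open SDiv
open scoped TensorProduct

namespace Groth.Agent.S8888

theorem rank_stalk_pullback {X Y : Scheme.{u}} (f : X ⟶ Y) (G : Y.Modules) (x : X)
    (h : Module.Free (Y.presheaf.stalk (f x)) (G.presheaf.stalk (f x))) :
    Module.rank (X.presheaf.stalk x) (((Scheme.Modules.pullback f).obj G).presheaf.stalk x) =
      Module.rank (Y.presheaf.stalk (f x)) (G.presheaf.stalk (f x)) := by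
  letI := (f.stalkMap x).hom.toAlgebra
  haveI : Module.Free (Y.presheaf.stalk (f x)) (CohCmpLib.stk G (f x)) := h
  obtain ⟨e, -⟩ := CohCmpLib.exists_stalkPullEquiv f G x
  refine e.rank_eq.symm.trans ((Module.rank_baseChange (R := X.presheaf.stalk x)).trans ?_)
  exact Cardinal.lift_id _

/-- Let f : X ⟶ Y be a dominant morphism of integral schemes and G a quasi-coherent O_Y-module. Then the
rank of f^*G on X, the dimension of its stalk at the generic point of X over the function field of
X, equals the rank of G on Y. -/
theorem result {X Y : Scheme.{u}} [IsIntegral X] [IsIntegral Y] (f : X ⟶ Y) [IsDominant f]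
    (G : Y.Modules) (hG : Coh.IsQCoh G) :
    Module.rank ↑(X.presheaf.stalk (genericPoint ↥X)) ↑(((Scheme.Modules.pullback f).obj G).presheaf.stalk (genericPoint ↥X)) =
      Module.rank ↑(Y.presheaf.stalk (genericPoint ↥Y)) ↑(G.presheaf.stalk (genericPoint ↥Y)) := by
  have e : f (genericPoint X) = genericPoint Y := by
    refine ((genericPoint_spec X).image f.continuous).eq ?_
    convert genericPoint_spec Y using 1
    rw [Set.image_univ]
    exact f.denseRange.closure_range
  have hfree : Module.Free (Y.presheaf.stalk (genericPoint Y)) (G.presheaf.stalk (genericPoint Y)) :=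
    Module.Free.of_divisionRing (Y.functionField) _
  have key : ∀ y, f (genericPoint X) = y → Module.Free (Y.presheaf.stalk y) (G.presheaf.stalk y) →
      Module.rank (X.presheaf.stalk (genericPoint X))
        (((Scheme.Modules.pullback f).obj G).presheaf.stalk (genericPoint X)) =
      Module.rank (Y.presheaf.stalk y) (G.presheaf.stalk y) := fun y hy hf => by
    subst hy
    exact rank_stalk_pullback f G _ hf
  exact key _ e hfree

end Groth.Agent.S8888
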