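import Groth.Statements.S8889
import Groth.Agent.ZClosLib.Criterion
import Groth.Agent.AssPointLib.Basic
import Groth.Agent.RefHullLib.Hartogs

-- import your own Groth.Agent.* helpers here

set_option autoImplicit false
universe u
open CategoryTheory CategoryTheory.Limits AlgebraicGeometry TopologicalSpace
open SDiv

namespace Groth.Agent.S8889

theorem stalkMap_eq {X : Scheme.{u}} {F G : X.Modules} (φ : F ⟶ G) (x : X) :
    ((TopCat.Presheaf.stalkFunctor AddCommGrpCat.{u} x).map (Scheme.Modules.Hom.mapPresheaf φ) : _ → _) =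
      RefHull.stalkMapₗ φ x := rfl


/-- Let X be a scheme and φ : F ⟶ G a morphism of quasi-coherent O_X-modules. Assume that for every
point x of X either the stalk map F_x → G_x is injective or x is not a weakly associated point of F.
Then φ is injective. -/
theorem result (X : Scheme.{u}) {F G : X.Modules} (φ : F ⟶ G) (hF : Coh.IsQCoh F)
    (hG : Coh.IsQCoh G)
    (h : ∀ x : ↥X, Function.Injective ((TopCat.Presheaf.stalkFunctor AddCommGrpCat.{u} x).map (Scheme.Modules.Hom.mapPresheaf φ)) ∨ ¬ Curv2.IsWeakAssPoint F x) :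
    Mono φ := by
  haveI := hF
  refine ZClosLib.mono_of_app_injective φ fun W => (injective_iff_map_eq_zero _).2 fun s hs => ?_
  refine ProjFormLib.section_ext _ 0 fun x hx => ?_
  show F.presheaf.germ W x hx s = F.presheaf.germ W x hx 0
  rw [map_zero]
  by_contra hne
  obtain ⟨U, hU, hxU, hUW⟩ := exists_isAffineOpen_mem_and_subset (x := x) (U := W) hx
  obtain ⟨y, hyU, -, hy, hne'⟩ := AssPointLib.exists_weak_specializes (M := F) hU hxU (F.presheaf.map (homOfLE hUW).op s) (by
    intro h1
    exact hne ((TopCat.Presheaf.germ_res_apply F.presheaf (homOfLE hUW) x hxU s).symm.trans h1))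
  rcases h y with h1 | h1
  · refine hne' (h1 ?_)
    rw [stalkMap_eq]
    refine Eq.trans ?_ (map_zero _).symm
    refine (congrArg _ (TopCat.Presheaf.germ_res_apply F.presheaf (homOfLE hUW) y hyU s)).trans ?_
    rw [RefHull.stalkMapₗ_germ, hs, map_zero]
    rfl
  · exact h1 hy


end Groth.Agent.S8889
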