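import Groth.Statements.S8890
import Groth.Agent.RefHullLib.Hartogs

set_option autoImplicit false
universe u
open CategoryTheory CategoryTheory.Limits AlgebraicGeometry TopologicalSpace
open SDiv

namespace Groth.Agent.S8890

/-- Let X be a locally Noetherian scheme and φ : F ⟶ G a morphism of quasi-coherent O_X-modules with F
coherent. Assume that for every point x of X either the stalk map F_x → G_x is an isomorphism, or
depth(F_x) ≥ 2 and x is not an associated point of G. Then φ is an isomorphism. -/
theorem result (X : Scheme.{u}) [IsLocallyNoetherian X] {F G : X.Modules} (φ : F ⟶ G)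
    (hF : Coh.IsCoh F) (hG : Coh.IsQCoh G)
    (h : ∀ x : ↥X, Function.Bijective ((TopCat.Presheaf.stalkFunctor AddCommGrpCat.{u} x).map (Scheme.Modules.Hom.mapPresheaf φ)) ∨
      ((2 : ℕ∞) ≤ LocCoh.depth (X.presheaf.stalk x) (F.presheaf.stalk x) ∧ ¬ Curv2.IsAssPoint G x)) :
    IsIso φ := by
  haveI := hF.1
  haveI : Coh.IsQCoh G := hG
  let Z : Set X := {x | ¬ Function.Bijective (RefHull.stalkMapₗ φ x)}
  have hZ : StableUnderSpecialization Z := fun x y hxy hx hy =>
    hx (RefHullLib.bijective_of_specializes φ hxy hy)
  refine RefHullLib.isIso_of_off hZ φ ?_ ?_ fun x hx => not_not.1 hx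
  · exact RefHullLib.isZClosed_of_depth hZ hF fun x hx => ((h x).resolve_left hx).1
  · exact RefHullLib.injZ_of_not_ass fun x hx hw =>
      ((h x).resolve_left hx).2 ((AssPointLib.assPoint_iff_weak G x).2 hw)

end Groth.Agent.S8890
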