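import Groth.Statements.S8891
import Groth.Agent.RefHullLib.NormalHull

-- import your own Groth.Agent.* helpers here

set_option autoImplicit false
universe u
open CategoryTheory CategoryTheory.Limits AlgebraicGeometry TopologicalSpace
open SDiv

namespace Groth.Agent.S8891

theorem stalkMap_eq {X : Scheme.{u}} {F G : X.Modules} (φ : F ⟶ G) (x : X) :
    ((TopCat.Presheaf.stalkFunctor AddCommGrpCat.{u} x).map (Scheme.Modules.Hom.mapPresheaf φ) : _ → _) =
      RefHull.stalkMapₗ φ x := rfl

theorem eq_generic_of_weak {X : Scheme.{u}} [IsIntegral X] [IsLocallyNoetherian X] {G : X.Modules} {x : X}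
    [NoZeroSMulDivisors (X.presheaf.stalk x) (G.presheaf.stalk x)] (h : Curv2.IsWeakAssPoint G x) :
    x = genericPoint X := by
  obtain ⟨m, hm⟩ := h
  have hm0 : m ≠ 0 := fun h0 => (IsLocalRing.maximalIdeal.isMaximal (X.presheaf.stalk x)).ne_top
    (hm.symm.trans (by rw [h0]; simp [LinearMap.toSpanSingleton_zero, Ideal.radical_top]))
  have hker : LinearMap.ker (LinearMap.toSpanSingleton (X.presheaf.stalk x) (G.presheaf.stalk x) m) = ⊥ :=
    LinearMap.ker_eq_bot'.2 fun r hr => (smul_eq_zero.1 hr).resolve_right hm0
  rw [hker] at hm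
  have h2 : IsLocalRing.maximalIdeal (X.presheaf.stalk x) = ⊥ :=
    hm.symm.trans Ideal.radical_bot_of_noZeroDivisors
  exact RefHullLib.eq_generic_of_dim_zero
    (ringKrullDim_eq_zero_of_isField ((IsLocalRing.isField_iff_maximalIdeal_eq).2 h2))


/-- Let X be an integral locally Noetherian scheme and φ : F ⟶ G a morphism of quasi-coherent
O_X-modules with F coherent and G torsion free. Assume that for every point x either the stalk map
F_x → G_x is an isomorphism, or depth(F_x) ≥ 2 and x is not the generic point of X. Then φ is an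
isomorphism. (The published statement allows the second alternative at the generic point as well;
since the zero module has infinite depth, F = 0 and G = O_X then satisfy every hypothesis while 0 →
O_X is not an isomorphism. The general criterion this is a special case of requires x not to be
associated to G, which for torsion-free G ≠ 0 fails exactly at the generic point; so the generic
point is excluded from the second alternative here.) -/
theorem result (X : Scheme.{u}) [IsIntegral X] [IsLocallyNoetherian X] {F G : X.Modules}
    (φ : F ⟶ G) (hF : Coh.IsCoh F) (hG : Coh.IsQCoh G)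
    (htf : ∀ x : ↥X, NoZeroSMulDivisors ↑(X.presheaf.stalk x) ↑(G.presheaf.stalk x))
    (h : ∀ x : ↥X, Function.Bijective ((TopCat.Presheaf.stalkFunctor AddCommGrpCat.{u} x).map (Scheme.Modules.Hom.mapPresheaf φ)) ∨
      ((2 : ℕ∞) ≤ LocCoh.depth (X.presheaf.stalk x) (F.presheaf.stalk x) ∧ x ≠ genericPoint ↥X)) :
    IsIso φ := by
  haveI := hF.1
  haveI := hG
  let Z : Set X := {x | ¬ Function.Bijective (RefHull.stalkMapₗ φ x)}
  have hZ : StableUnderSpecialization Z := fun y x hyx hy hb =>
    hy (RefHullLib.bijective_of_specializes φ hyx hb)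
  have hd : ∀ x ∈ Z, (2 : ℕ∞) ≤ LocCoh.depth (X.presheaf.stalk x) (F.presheaf.stalk x) ∧ x ≠ genericPoint X :=
    fun x hx => (h x).resolve_left fun hb => hx (stalkMap_eq φ x ▸ hb)
  refine RefHullLib.isIso_of_off hZ φ (RefHullLib.isZClosed_of_depth hZ hF fun x hx => (hd x hx).1)
    (RefHullLib.injZ_of_not_ass fun x hx hw => ?_) fun x hx => not_not.1 hx
  haveI := htf x
  exact (hd x hx).2 (eq_generic_of_weak hw)


end Groth.Agent.S8891
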