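import Groth.Statements.S8895
import Groth.Agent.RelQRegLib.Scheme

set_option autoImplicit false
universe u
open CategoryTheory CategoryTheory.Limits AlgebraicGeometry TopologicalSpace
open SDiv

namespace Groth.Agent.S8895

/-- Let f : X ⟶ S be locally of finite presentation and i : Z ⟶ X a relative H_1-regular immersion. Then
(1) there is an open subscheme U ⊆ X containing the image of Z such that U ⟶ S is flat, and (2) i is
a regular immersion and remains one after any base change S' ⟶ S. -/
theorem result {Z X S : Scheme.{u}} (f : X ⟶ S) [LocallyOfFinitePresentation f] (i : Z ⟶ X)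
    (hi : RegImm.IsRelRegularImmersion RegImm.Kind.h1 f i) :
    (∃ U : X.Opens, Set.range (fun z : ↥Z => i z) ⊆ (U : Set ↥X) ∧ Flat (U.ι ≫ f)) ∧
      RegImm.IsRegularImmersion RegImm.Kind.regular i ∧
      ∀ (S' : Scheme.{u}) (g : S' ⟶ S), RegImm.IsRegularImmersion RegImm.Kind.regular (pullback.snd i (pullback.fst f g)) := by
  exact ⟨RelQRegLib.exists_flat_open f i (RelQRegLib.flat_stalkMap_of_h1 f i hi),
    ⟨hi.1.1, fun z => RelQRegLib.regular_of_quasi f i (RelQRegLib.isRelRegularImmersion_quasi_of_h1 f i hi) z
      (RelQRegLib.flat_stalkMap_of_h1 f i hi z)⟩,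
    fun S' g => RelQRegLib.regular_baseChange_of_quasi f i (RelQRegLib.isRelRegularImmersion_quasi_of_h1 f i hi)
      (RelQRegLib.flat_stalkMap_of_h1 f i hi) S' g⟩

end Groth.Agent.S8895
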