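import Groth.Statements.S8897
import Groth.Agent.SmoothDescRegLib.Ring
import Groth.Agent.KoszAtLib.Basic

set_option autoImplicit false
universe u
open CategoryTheory CategoryTheory.Limits AlgebraicGeometry TopologicalSpace
open SDiv

namespace Groth.Agent.S8897

theorem app_congr {Y S : Scheme.{u}} (j : Y ⟶ S) (W : S.Opens) (U : Y.Opens) (e : U = j ⁻¹ᵁ W)
    (hs : Function.Surjective (j.app W)) :
    Function.Surjective (j.appLE W U e.le).hom ∧
      RingHom.ker (j.appLE W U e.le).hom = RingHom.ker (j.app W).hom := by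
  subst e
  rw [← Scheme.Hom.app_eq_appLE]
  exact ⟨hs, rfl⟩

theorem at_point {Y X S : Scheme.{u}} (p : X ⟶ S) [Smooth p] (i : Y ⟶ X) [IsImmersion i]
    [IsImmersion (i ≫ p)] (k : RegImm.Kind) (hk : k ≠ RegImm.Kind.regular)
    (hi : RegImm.IsRegularImmersion k i) (y : Y) : RegImm.IsRegularImmersionAt k (i ≫ p) y := by
  obtain ⟨W, hW, hyW, hWc⟩ := exists_isAffineOpen_mem_and_subset (x := (i ≫ p) y)
    (U := (i ≫ p).coborderRange) (subset_coborder ⟨y, rfl⟩)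
  obtain ⟨V, hV, hyV, hVW⟩ := exists_isAffineOpen_mem_and_subset (x := i y)
    (U := p ⁻¹ᵁ W ⊓ i.coborderRange) ⟨hyW, subset_coborder ⟨y, rfl⟩⟩
  have hVp : V ≤ p ⁻¹ᵁ W := le_trans hVW inf_le_left
  obtain ⟨O, hO, hOV⟩ := (i ≫ p).isEmbedding.isInducing.isOpen_iff.1 (i ⁻¹ᵁ V).2
  obtain ⟨r, hrle, hyr⟩ := hW.exists_basicOpen_le (V := ⟨O, hO⟩) ⟨(i ≫ p) y, hOV.symm.subset hyV⟩ hyW
  let W' := S.basicOpen r
  have hW' : IsAffineOpen W' := hW.basicOpen r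
  have hW'c : W' ≤ (i ≫ p).coborderRange := le_trans (S.basicOpen_le r) hWc
  let r' : Γ(X, V) := (p.appLE W V hVp).hom r
  let V' := X.basicOpen r'
  have hV' : IsAffineOpen V' := hV.basicOpen r'
  have hV'eq : V' = V ⊓ p ⁻¹ᵁ W' := by
    show X.basicOpen ((p.appLE W V hVp).hom r) = _
    rw [Scheme.basicOpen_appLE, Scheme.preimage_basicOpen]
  have hV'W : V' ≤ p ⁻¹ᵁ W' := hV'eq.trans_le inf_le_right
  have hV'c : V' ≤ i.coborderRange := le_trans (X.basicOpen_le r') (le_trans hVW inf_le_right)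
  obtain ⟨hV'Y, hsi⟩ := KRLib.data_of_le_coborderRange i hV' hV'c
  obtain ⟨hW'Y, hsj⟩ := KRLib.data_of_le_coborderRange (i ≫ p) hW' hW'c
  have heq : i ⁻¹ᵁ V' = (i ≫ p) ⁻¹ᵁ W' := by
    refine le_antisymm (fun z hz => hV'W hz) (fun z hz => ?_)
    show i z ∈ V'
    rw [hV'eq]
    exact ⟨hOV.subset (hrle hz), hz⟩
  obtain ⟨hsA, hkA⟩ := app_congr (i ≫ p) W' (i ⁻¹ᵁ V') heq hsj
  refine RegImmKindLib.isRegularImmersionAt_of_locK hk hW' hW'Y hsj ?_ y hyr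
  rw [← hkA]
  have hcomp := congrArg CommRingCat.Hom.hom (Scheme.Hom.appLE_comp_appLE i p W' V' (i ⁻¹ᵁ V') hV'W le_rfl)
  rw [CommRingCat.hom_comp] at hcomp
  rw [← hcomp] at hsA ⊢
  letI := (p.appLE W' V' hV'W).hom.toAlgebra
  haveI : Algebra.Smooth Γ(S, W') Γ(X, V') :=
    HasRingHomProperty.appLE (P := @Smooth) p inferInstance ⟨W', hW'⟩ ⟨V', hV'⟩ hV'W
  letI := ((i.appLE V' (i ⁻¹ᵁ V') le_rfl).hom.comp (p.appLE W' V' hV'W).hom).toAlgebra
  let π : Γ(X, V') →ₐ[Γ(S, W')] Γ(Y, i ⁻¹ᵁ V') :=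
    { (i.appLE V' (i ⁻¹ᵁ V') le_rfl).hom with commutes' := fun _ => rfl }
  refine SmoothDescRegLib.locK_ker_of_smooth π hsA hk ?_
  show RegImmKindLib.LocK k (RingHom.ker (i.appLE V' (i ⁻¹ᵁ V') le_rfl).hom)
  rw [← Scheme.Hom.app_eq_appLE]
  exact RegImmKindLib.locK_ker_of_forall hk hi.2 hV' hV'Y hsi

/-- Let p : X ⟶ S be smooth and let i : Y ⟶ X and j : Y ⟶ S be immersions with i ≫ p = j. If i is a
Koszul-regular (resp. H_1-regular, resp. quasi-regular) immersion, then so is j. -/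
theorem result {Y X S : Scheme.{u}} (p : X ⟶ S) [Smooth p] (i : Y ⟶ X) (j : Y ⟶ S)
    [IsImmersion i] [IsImmersion j] (h : i ≫ p = j) (k : RegImm.Kind) (hk : k ≠ RegImm.Kind.regular)
    (hi : RegImm.IsRegularImmersion k i) : RegImm.IsRegularImmersion k j := by
  subst h
  exact ⟨inferInstance, at_point p i k hk hi⟩

end Groth.Agent.S8897
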