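import Groth.Statements.S8898
import Groth.Agent.MeroLib.Weak
import Groth.Agent.BlowUpLib.Props

-- import your own Groth.Agent.* helpers here

set_option autoImplicit false
universe u
open CategoryTheory CategoryTheory.Limits AlgebraicGeometry TopologicalSpace
open SDiv

namespace Groth.Agent.S8898



/-- Let X be a scheme, 𝓘 a quasi-coherent ideal sheaf and b : X' ⟶ X a blowing up of X in 𝓘. Then the
pullback b⁻¹D is defined for every effective Cartier divisor D ⊆ X (the inverse image ideal of the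
ideal of D is again the ideal of an effective Cartier divisor), and pullbacks of meromorphic
functions are defined for b (b carries regular sections of O_X, i.e. sections whose germs are
nonzerodivisors, to regular sections of O_{X'}). -/
theorem result {X X' : Scheme.{u}} (𝓘 : X.IdealSheafData) (b : X' ⟶ X) (hb : BlowUp.IsBlowUp b 𝓘) :
    (∀ 𝓓 : X.IdealSheafData, BlowUp.IsEffCartierIdeal 𝓓 → BlowUp.IsEffCartierIdeal (𝓓.comap b)) ∧
      ∀ (U : X.Opens) (s : Γ(X, U)), s ∈ Mero.regSub X U → b.app U s ∈ Mero.regSub X' (b ⁻¹ᵁ U) := by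
  refine ⟨fun 𝓓 h => BlowUpLib.isEffCartier_comap hb h, fun U s hs x => ?_⟩
  obtain ⟨V, hV, hxV, hVU⟩ := exists_isAffineOpen_mem_and_subset (x := b x.1) (U := U) x.2
  let t : Γ(X, V) := X.presheaf.map (homOfLE (show V ≤ U from hVU)).op s
  have ht : t ∈ nonZeroDivisors Γ(X, V) :=
    (MeroLib.regSub_eq hV) ▸ Mero.regSub_res (homOfLE (show V ≤ U from hVU)) hs
  obtain ⟨a, -, c, hc, hx, hcb⟩ := BlowUpLib.exists_chart hb ⟨V, hV⟩ x.1 hxV
  obtain ⟨q, hq⟩ := hx
  obtain ⟨x, hxmem⟩ := x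
  subst hq
  have e1 : X'.presheaf.germ (b ⁻¹ᵁ U) (c q) hxmem (b.app U s) =
      X'.presheaf.germ (b ⁻¹ᵁ V) (c q) hxV (b.app V t) := by
    rw [show b.app V t = X'.presheaf.map (homOfLE (b.preimage_mono (show V ≤ U from hVU))).op (b.app U s) from
      congr($(b.naturality (homOfLE (show V ≤ U from hVU)).op) s)]
    exact (TopCat.Presheaf.germ_res_apply X'.presheaf _ _ hxV _).symm
  let B := CommRingCat.of (BlowUp.affineAlgebra Γ(X, V) (𝓘.ideal ⟨V, hV⟩) a)
  let σ : Γ(Spec B, ⊤) := (Scheme.ΓSpecIso B).inv (algebraMap Γ(X, V) _ t)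
  have hσ : σ ∈ Mero.regSub (Spec B) ⊤ := by
    rw [MeroLib.regSub_eq (isAffineOpen_top _)]
    refine mem_nonZeroDivisors_iff_right.2 fun z hz => ?_
    have h1 : (Scheme.ΓSpecIso B).hom z * algebraMap Γ(X, V) _ t = 0 := by
      have h := congrArg (Scheme.ΓSpecIso B).hom hz
      simp only [map_mul, map_zero, σ, Iso.inv_hom_id_apply] at h
      exact h
    have h2 : (Scheme.ΓSpecIso B).hom z = 0 := Subtype.ext (mem_nonZeroDivisors_iff_right.mp
      (IsLocalization.map_nonZeroDivisors_le (Submonoid.powers a) (Localization.Away a)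
        (Submonoid.mem_map_of_mem _ ht)) _ (congrArg Subtype.val h1))
    exact (ConcreteCategory.bijective_of_isIso (Scheme.ΓSpecIso B).hom).1 (h2.trans (map_zero _).symm)
  have hle : (⊤ : (Spec B).Opens) ≤ (Spec.map (CommRingCat.ofHom (algebraMap Γ(X, V) B)) ≫ hV.fromSpec) ⁻¹ᵁ V := by
    rw [Scheme.Hom.comp_preimage, hV.fromSpec_preimage_self]
    exact le_top
  have e2 : (Spec.map (CommRingCat.ofHom (algebraMap Γ(X, V) B)) ≫ hV.fromSpec).appLE V ⊤ hle t = σ := by
    have hP : (⊤ : (Spec Γ(X, V)).Opens) ≤ hV.fromSpec ⁻¹ᵁ V := hV.fromSpec_preimage_self.ge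
    have key : (Spec.map (CommRingCat.ofHom (algebraMap Γ(X, V) B)) ≫ hV.fromSpec).appLE V ⊤ hle =
        CommRingCat.ofHom (algebraMap Γ(X, V) B) ≫ (Scheme.ΓSpecIso B).inv := by
      rw [← Scheme.Hom.appLE_comp_appLE _ hV.fromSpec V ⊤ ⊤ hP le_top, Scheme.ΓSpecIso_inv_naturality]
      simp [Scheme.Hom.appLE, hV.fromSpec_app_self, Scheme.Hom.appTop, ← Functor.map_comp_assoc]
      try rfl
    exact congr($(key) t)
  have e3 : c.stalkMap q (X'.presheaf.germ (b ⁻¹ᵁ V) (c q) hxV (b.app V t)) =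
      (Spec B).presheaf.germ ⊤ q trivial σ := by
    rw [c.germ_stalkMap_apply (b ⁻¹ᵁ V) q hxV, ← e2]
    simp only [← hcb]
    rw [← TopCat.Presheaf.germ_res_apply (Spec B).presheaf (homOfLE (hle.trans_eq (by rw [← hcb]; rfl))) q trivial]
    rfl
  have hn := hσ ⟨q, trivial⟩
  rw [← e3, ← e1] at hn
  refine mem_nonZeroDivisors_iff_right.2 fun z hz => ?_
  have hinj := (ConcreteCategory.bijective_of_isIso (c.stalkMap q)).1
  refine hinj ((mem_nonZeroDivisors_iff_right.1 hn _ ?_).trans (map_zero _).symm)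
  rw [← map_mul, hz, map_zero]


end Groth.Agent.S8898
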