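import Groth.Statements.S8899
import Groth.Agent.AssPointLib.Basic
import Groth.Agent.KFlatLib.AffinePull

-- import your own Groth.Agent.* helpers here

set_option autoImplicit false
universe u
open CategoryTheory CategoryTheory.Limits AlgebraicGeometry TopologicalSpace
open SDiv
open scoped TensorProduct

namespace Groth.Agent.S8899



/-- Let f : X ⟶ S be a morphism of schemes, G a quasi-coherent O_S-module and x a point of X over s = f
x such that f is flat at x, no point of f⁻¹(s) other than x specialises to x (x is the generic point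
of some irreducible component of the fibre X_s), and s is weakly associated to G. Then x is weakly
associated to f^*G. -/
theorem result {X S : Scheme.{u}} (f : X ⟶ S) (G : S.Modules) (hG : Coh.IsQCoh G)
    (x : ↥X) (hfl : (f.stalkMap x).hom.Flat) (hgen : ∀ y : ↥X, f y = f x → y ⤳ x → y = x)
    (hs : Curv2.IsWeakAssPoint G (f x)) : Curv2.IsWeakAssPoint ((Scheme.Modules.pullback f).obj G) x := by
  obtain ⟨m, hm⟩ := (AssPointLib.weak_def G (f x)).mp hs
  letI := (f.stalkMap x).hom.toAlgebra
  haveI : Module.Flat (S.presheaf.stalk (f x)) (X.presheaf.stalk x) := hfl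
  let e : (X.presheaf.stalk x) ⊗[S.presheaf.stalk (f x)] ((DevissLib.St (f x)).obj G) ≃ₗ[X.presheaf.stalk x]
      (DevissLib.St x).obj ((Scheme.Modules.pullback f).obj G) :=
    ((KFlatLib.stalkPullIso f x).symm.app G).toLinearEquiv
  refine (AssPointLib.weak_def _ x).mpr ⟨e ((1 : X.presheaf.stalk x) ⊗ₜ m), ?_⟩
  let φ : S.presheaf.stalk (f x) →ₗ[S.presheaf.stalk (f x)] (DevissLib.St (f x)).obj G :=
    LinearMap.toSpanSingleton _ _ m
  have hker : ∀ b : X.presheaf.stalk x,
      b ∈ AssPointLib.ann (X.presheaf.stalk x) (e ((1 : X.presheaf.stalk x) ⊗ₜ[S.presheaf.stalk (f x)] m)) →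
      b ∈ Ideal.map (algebraMap (S.presheaf.stalk (f x)) (X.presheaf.stalk x)) (LinearMap.ker φ) := by
    intro b hb
    have hb0 : b ⊗ₜ[S.presheaf.stalk (f x)] m = 0 := by
      have h1 : b • e ((1 : X.presheaf.stalk x) ⊗ₜ[S.presheaf.stalk (f x)] m) = 0 := hb
      rw [← map_smul, e.map_eq_zero_iff, TensorProduct.smul_tmul', smul_eq_mul, mul_one] at h1
      exact h1
    have hex := Module.Flat.lTensor_exact (X.presheaf.stalk x) (LinearMap.exact_subtype_ker_map φ)
    obtain ⟨z, hz⟩ := (hex (b ⊗ₜ (1 : S.presheaf.stalk (f x)))).1 (by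
      rw [LinearMap.lTensor_tmul]
      simpa [φ] using hb0)
    have key : ∀ z : (X.presheaf.stalk x) ⊗[S.presheaf.stalk (f x)] (LinearMap.ker φ),
        TensorProduct.rid (S.presheaf.stalk (f x)) (X.presheaf.stalk x)
          ((LinearMap.ker φ).subtype.lTensor (X.presheaf.stalk x) z) ∈
        Ideal.map (algebraMap (S.presheaf.stalk (f x)) (X.presheaf.stalk x)) (LinearMap.ker φ) := by
      intro z
      induction z using TensorProduct.induction_on with
      | zero => simp
      | tmul c i =>
        rw [LinearMap.lTensor_tmul, TensorProduct.rid_tmul, Algebra.smul_def]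
        exact Ideal.mul_mem_right _ _ (Ideal.mem_map_of_mem _ i.2)
      | add a c ha hc => rw [map_add, map_add]; exact add_mem ha hc
    have h2 := key z
    rw [hz, TensorProduct.rid_tmul, one_smul] at h2
    exact h2
  refine le_antisymm ?_ ?_
  · refine (IsLocalRing.maximalIdeal.isMaximal (X.presheaf.stalk x)).isPrime.radical_le_iff.2 fun b hb => ?_
    refine Ideal.map_le_iff_le_comap.2 ?_ (hker b hb)
    intro a ha
    have ha' : a ∈ IsLocalRing.maximalIdeal (S.presheaf.stalk (f x)) := hm ▸ Ideal.le_radical ha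
    exact map_nonunit (f.stalkMap x).hom a ha'
  · rw [Ideal.radical_eq_sInf]
    refine le_sInf fun q hq => ?_
    obtain ⟨hle, hqp⟩ := hq
    have hI : LinearMap.ker φ ≤ q.comap (algebraMap (S.presheaf.stalk (f x)) (X.presheaf.stalk x)) := by
      intro a ha
      refine hle ?_
      show algebraMap _ (X.presheaf.stalk x) a • e ((1 : X.presheaf.stalk x) ⊗ₜ[S.presheaf.stalk (f x)] m) = 0
      rw [← map_smul, algebraMap_smul, ← TensorProduct.tmul_smul,
        show a • m = 0 from ha, TensorProduct.tmul_zero, map_zero]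
    have hmq : IsLocalRing.maximalIdeal (S.presheaf.stalk (f x)) ≤
        q.comap (algebraMap (S.presheaf.stalk (f x)) (X.presheaf.stalk x)) := by
      rw [← hm]
      exact (hqp.comap _).radical_le_iff.2 hI
    let Q : Spec (X.presheaf.stalk x) := (⟨q, hqp⟩ : PrimeSpectrum (X.presheaf.stalk x))
    have hclosed : Spec.map (f.stalkMap x) Q = IsLocalRing.closedPoint (S.presheaf.stalk (f x)) :=
      PrimeSpectrum.ext ((IsLocalRing.maximalIdeal.isMaximal _).eq_of_le (hqp.comap _).ne_top hmq).symm
    have hfQ : f (X.fromSpecStalk x Q) = f x := by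
      rw [← Scheme.Hom.comp_apply, ← Scheme.SpecMap_stalkMap_fromSpecStalk, Scheme.Hom.comp_apply,
        hclosed, Scheme.fromSpecStalk_closedPoint]
    have hsp : X.fromSpecStalk x Q ⤳ x := Scheme.range_fromSpecStalk.subset ⟨Q, rfl⟩
    have hQ : Q = IsLocalRing.closedPoint (X.presheaf.stalk x) :=
      (X.fromSpecStalk x).isEmbedding.injective ((hgen _ hfQ hsp).trans Scheme.fromSpecStalk_closedPoint.symm)
    exact le_of_eq (congrArg PrimeSpectrum.asIdeal hQ).symm


end Groth.Agent.S8899
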