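import Groth.Statements.S8900
import Groth.Agent.WeakFieldExtLib.Module
import Groth.Agent.AssPointLib.Push
import Groth.Agent.KFlatLib.AffinePull
import Groth.Agent.AlgSpLib.QAffDescent

set_option autoImplicit false
universe u
open CategoryTheory CategoryTheory.Limits AlgebraicGeometry TopologicalSpace
open SDiv

namespace Groth.Agent.S8900

/-- Let K/k be an extension of fields, X a scheme over k, F a quasi-coherent O_X-module, and y a point
of X_K = X ×_k Spec K with image x in X. If y is weakly associated to the pullback of F to X_K, then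
x is weakly associated to F. -/
theorem result (k : Type u) [Field k] (K : Type u) [Field K] [Algebra k K] (X : Scheme.{u})
    [X.Over (Spec (CommRingCat.of k))] (F : X.Modules) (hF : Coh.IsQCoh F) (y : ↥(Curv2.bc k X K))
    (hy : Curv2.IsWeakAssPoint ((Scheme.Modules.pullback (Curv2.bcFst k X K)).obj F) y) :
    Curv2.IsWeakAssPoint F (Curv2.bcFst k X K y) := by
  classical
  haveI := hF
  let g : Curv2.bc k X K ⟶ X := Curv2.bcFst k X K
  obtain ⟨U, hU, hyU⟩ := QCohLib.exists_affine_nhd (g y)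
  haveI : IsAffineHom g := MorphismProperty.pullback_fst _ _ inferInstance
  have hV : IsAffineOpen (g ⁻¹ᵁ U) := hU.preimage g
  haveI : IsAffine (U : Scheme.{u}) := hU
  have sq := (isPullback_morphismRestrict g U).paste_vert
    (IsPullback.of_hasPullback (X ↘ Spec (CommRingCat.of k))
      (Spec.map (CommRingCat.ofHom (algebraMap k K))))
  let a : CommRingCat.of k ⟶ Γ(X, U) := (Scheme.ΓSpecIso (CommRingCat.of k)).inv ≫
    (U.ι ≫ (X ↘ Spec (CommRingCat.of k))).appTop ≫ U.topIso.hom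
  let d : CommRingCat.of K ⟶ Γ(Curv2.bc k X K, g ⁻¹ᵁ U) := (Scheme.ΓSpecIso (CommRingCat.of K)).inv ≫
    ((g ⁻¹ᵁ U).ι ≫ Curv2.bcSnd k X K).appTop ≫ (g ⁻¹ᵁ U).topIso.hom
  have hpo : IsPushout a (CommRingCat.ofHom (algebraMap k K)) (g.app U) d := by
    refine (isPushout_appTop_of_isPullback sq).of_iso (Scheme.ΓSpecIso (CommRingCat.of k)) U.topIso
      (Scheme.ΓSpecIso (CommRingCat.of K)) (g ⁻¹ᵁ U).topIso ?_ ?_ ?_ ?_
    · simp [a]
    · exact Scheme.ΓSpecIso_naturality _
    · rw [morphismRestrict_appTop, Scheme.Opens.topIso_hom, Scheme.Opens.topIso_hom]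
      refine (Category.assoc _ _ _).trans (Eq.trans ?_ (g.naturality _).symm)
      exact congrArg (g.app (U.ι ''ᵁ ⊤) ≫ ·)
        ((((Curv2.bc k X K).presheaf.map_comp _ _).symm).trans (congrArg _ (Subsingleton.elim _ _)))
    · simp [d]
  letI : Algebra k Γ(X, U) := a.hom.toAlgebra
  obtain ⟨e, he⟩ := AlgSpLib.exists_tensor_equiv hpo.flip rfl rfl
  letI : Algebra Γ(X, U) Γ(Curv2.bc k X K, g ⁻¹ᵁ U) := (g.app U).hom.toAlgebra
  let N := Γ(KFlatLib.pb g F, g ⁻¹ᵁ U)
  letI : Module Γ(X, U) N := Module.compHom N (g.app U).hom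
  haveI : IsScalarTower Γ(X, U) Γ(Curv2.bc k X K, g ⁻¹ᵁ U) N :=
    IsScalarTower.of_algebraMap_smul fun _ _ => rfl
  let ψ : Γ(F, U) →ₗ[Γ(X, U)] N :=
    { toFun := KFlatLib.puSecLE g F (le_refl (g ⁻¹ᵁ U))
      map_add' := map_add _
      map_smul' := fun r m => by
        rw [KFlatLib.puSecLE_smul, Scheme.Hom.appLE_eq_app]
        rfl }
  have hbase : IsBaseChange Γ(Curv2.bc k X K, g ⁻¹ᵁ U) ψ :=
    KFlatLib.isBaseChange_puSec g F hU hV le_rfl (fun r => by rw [Scheme.Hom.appLE_eq_app]; rfl)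
      ψ (fun _ => rfl)
  haveI : Coh.IsQCoh (KFlatLib.pb g F) := KFlatLib.isQCoh_pullback g F
  obtain ⟨s, hs⟩ := (AssPointLib.weak_iff hV (show y ∈ g ⁻¹ᵁ U from hyU)).mp hy
  obtain ⟨m, hm⟩ := WeakFieldExtLib.exists_minimal_module K e
    (fun r => by
      refine (he 1 r).trans ?_
      rw [map_one, one_mul]
      rfl) ψ hbase hs
  refine (AssPointLib.weak_iff hU hyU).mpr ⟨m, ?_⟩
  have hc := congr_arg PrimeSpectrum.asIdeal (AssPointLib.comap_primeIdealOf g hU hyU)
  rw [← hc]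
  exact hm

end Groth.Agent.S8900
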