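import Groth.Statements.S8901
import Groth.Agent.MeroLib.Weak

-- import your own Groth.Agent.* helpers here

set_option autoImplicit false
universe u
open CategoryTheory CategoryTheory.Limits AlgebraicGeometry TopologicalSpace
open SDiv

namespace Groth.Agent.S8901

theorem isUnit_of_maximal {Y : Scheme.{u}} {y : Y} (hmax : ∀ z : Y, z ⤳ y → z = y)
    (g : Y.presheaf.stalk y) (hg : g ∈ nonZeroDivisors (Y.presheaf.stalk y)) : IsUnit g := by
  have h0 : ringKrullDim (Y.presheaf.stalk y) = 0 := by
    rw [ringKrullDim_stalk_eq_coheight]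
    refine WithBot.coe_eq_zero.2 (Order.coheight_eq_zero.2 fun z hz => ?_)
    exact (hmax z (Scheme.le_iff_specializes.1 hz)) ▸ le_rfl
  haveI : Ring.KrullDimLE 0 (Y.presheaf.stalk y) := Ring.krullDimLE_iff.2 h0.le
  by_contra hu
  obtain ⟨n, hn⟩ := Ring.KrullDimLE.isNilpotent_iff_mem_maximalIdeal.2 ((IsLocalRing.mem_maximalIdeal _).2 hu)
  exact zero_notMem_nonZeroDivisors (hn ▸ pow_mem hg n)


/-- Let f : X ⟶ Y be a morphism of schemes under which each weakly associated point of X (of O_X) goes
to a point of Y with no proper generization (the generic point of some irreducible component of Y).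
Then pullbacks of meromorphic functions are defined for f: for every open U ⊆ Y and every regular
section s of O_Y over U, the pulled-back section of O_X over f⁻¹U is regular. -/
theorem result {X Y : Scheme.{u}} (f : X ⟶ Y)
    (h : ∀ x : ↥X, Curv2.IsWeakAssPoint (Coh.structureModule X) x → ∀ y : ↥Y, y ⤳ f x → y = f x)
    (U : Y.Opens) (s : Γ(Y, U)) (hs : s ∈ Mero.regSub Y U) : f.app U s ∈ Mero.regSub X (f ⁻¹ᵁ U) := by
  refine MeroLib.mem_regSub_of_weak _ fun x hx hw => ?_
  rw [← Scheme.Hom.germ_stalkMap_apply f U x hx s]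
  exact (isUnit_of_maximal (h x hw) _ (hs ⟨f x, hx⟩)).map _


end Groth.Agent.S8901
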