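import Groth.Statements.S8902
import Mathlib.RingTheory.Flat.TorsionFree
import Mathlib.AlgebraicGeometry.Morphisms.Flat


-- import your own Groth.Agent.* helpers here

set_option autoImplicit false
universe u
open CategoryTheory CategoryTheory.Limits AlgebraicGeometry TopologicalSpace
open SDiv

namespace Groth.Agent.S8902

/-- Let f : X ⟶ Y be a flat morphism of schemes. Then pullbacks of meromorphic functions are defined for
f: for every open U ⊆ Y and every regular section s of O_Y over U, the pulled-back section of O_X
over f⁻¹U is regular. -/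
theorem result {X Y : Scheme.{u}} (f : X ⟶ Y) [Flat f] (U : Y.Opens) (s : Γ(Y, U))
    (hs : s ∈ Mero.regSub Y U) : f.app U s ∈ Mero.regSub X (f ⁻¹ᵁ U) := by
  intro x
  rw [← Scheme.Hom.germ_stalkMap_apply f U x.1 x.2 s]
  have hflat := Flat.stalkMap f x.1
  let := (f.stalkMap x.1).hom.toAlgebra
  have : Module.Flat (Y.presheaf.stalk (f.base x.1)) (X.presheaf.stalk x.1) := hflat
  have h1 := hs ⟨f.base x.1, x.2⟩
  have h2 : IsSMulRegular (X.presheaf.stalk x.1) (Y.presheaf.germ U (f.base x.1) x.2 s) :=
    Module.Flat.isSMulRegular_of_isRegular (isRegular_iff_mem_nonZeroDivisors.2 h1)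
  rw [← isRegular_iff_mem_nonZeroDivisors]
  exact (Commute.isRegular_iff (Commute.all _)).2 fun a b hab => h2 hab

end Groth.Agent.S8902
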