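import Groth.Statements.S8903
import Groth.Agent.MeroLib.Denom
import Groth.Agent.MeroLib.RegExists

-- import your own Groth.Agent.* helpers here

set_option autoImplicit false
universe u
open CategoryTheory CategoryTheory.Limits AlgebraicGeometry TopologicalSpace
open SDiv

namespace Groth.Agent.S8903



/-- Suppose X is a scheme, L is an O_X-module that is invertible, and s is a meromorphic section of L
which is regular. Then the ideal of denominators of s, U ↦ {f ∈ O_X(U) | f·s ∈ L(U)}, is a
quasi-coherent ideal sheaf: there is a quasi-coherent ideal sheaf I whose ideal on every affine open
U is the ideal of denominators over U; and the closed subset of X cut out by I (the support of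
O_X/I) is nowhere dense. The published statement also asserts that the cokernel of the map I → L
given by s is supported on a closed nowhere dense subset; this row does not state that part. -/
theorem result (X : Scheme.{u}) (L : X.Modules) (hL : PicF.IsInvertible L)
    (s : Γ(Mero.merMod L, ⊤)) (hs : Mero.IsRegularMero L s) :
    ∃ I : X.IdealSheafData, (∀ U : X.affineOpens, I.ideal U = Mero.denomIdeal L s U.1) ∧
      interior (I.support : Set ↥X) = ∅ := by
  refine ⟨MeroLib.denomSheaf hL s, fun U => rfl, Set.eq_empty_of_forall_notMem fun x hx => ?_⟩
  refine MeroLib.notMem_of_no_weak (U := ⟨interior ((MeroLib.denomSheaf hL s).support : Set X), isOpen_interior⟩) (fun y hy hw => ?_) x hx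
  exact MeroLib.notMem_support hL s (fun W b hyW => hw.isUnit_germ b.2 hyW) (interior_subset hy)


end Groth.Agent.S8903
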