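import Groth.Statements.S8909
import Groth.Agent.SDivLib.Divisor

set_option autoImplicit false
universe u
open CategoryTheory CategoryTheory.Limits AlgebraicGeometry TopologicalSpace
open SDiv

namespace Groth.Agent.S8909

/-- Let X be a Noetherian scheme and Z ⊆ X a closed subscheme with ideal sheaf 𝓩. Suppose given a family
of integral effective Cartier divisors D_i ⊆ X (ideal sheaves 𝓓_i, i ∈ I) and a closed subset Z' ⊆ X
whose irreducible components all have codimension at least 2 in X (the local ring of X at each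
maximal point of Z' has dimension ≥ 2), such that Z ⊆ Z' ∪ ⋃ D_i set-theoretically. Then there are
integers a_i ≥ 0, almost all zero, such that the effective Cartier divisor D = Σ a_i D_i (with ideal
sheaf the product of the 𝓓_i^{a_i}) is contained in Z as a closed subscheme and the inclusion D → Z
is an isomorphism outside codimension 2: for some open U ⊆ X the ideal sheaves of D and Z agree on U
and every irreducible component of Z ∖ U has codimension ≥ 2 in X. The published statement also
asserts that such D_i and Z' exist when Z is nowhere dense in X and either every local ring of X at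
a point of Z is factorial or X is regular; this row does not. -/
theorem result (X : Scheme.{u}) [IsNoetherian X] (𝓩 : X.IdealSheafData)
    {I : Type u} (𝓓 : I → X.IdealSheafData) (hD : ∀ i, BlowUp.IsEffCartierIdeal (𝓓 i)) (hDint : ∀ i, IsIntegral (𝓓 i).subscheme)
    (Z' : Set ↥X) (hZ' : IsClosed Z')
    (hcodim : ∀ z ∈ Z', (∀ y ∈ Z', y ⤳ z → y = z) → (2 : WithBot ℕ∞) ≤ ringKrullDim ↑(X.presheaf.stalk z))
    (hcover : (𝓩.support : Set ↥X) ⊆ Z' ∪ ⋃ i, ((𝓓 i).support : Set ↥X)) :
    ∃ a : I →₀ ℕ, 𝓩 ≤ a.prod (fun i n => 𝓓 i ^ n) ∧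
      ∃ U : X.Opens, (a.prod (fun i n => 𝓓 i ^ n)).comap U.ι = 𝓩.comap U.ι ∧
        ∀ z ∈ (𝓩.support : Set ↥X) \ (U : Set ↥X), (∀ y ∈ (𝓩.support : Set ↥X) \ (U : Set ↥X), y ⤳ z → y = z) →
          (2 : WithBot ℕ∞) ≤ ringKrullDim ↑(X.presheaf.stalk z) := by
  classical
  obtain ⟨a, hle, heq⟩ := SDivLib.exists_divisorial 𝓓 𝓩 hD Z' hZ' hcodim hcover hDint
  set D := a.prod (fun i n => 𝓓 i ^ n) with hDdef
  let U : X.Opens := ⨆ W : {W : X.affineOpens // D.ideal W = 𝓩.ideal W}, (W.1 : X.Opens)
  refine ⟨a, hle, U, ?_, fun z hz _ => ?_⟩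
  · refine Scheme.IdealSheafData.ext_of_iSup_eq_top (fun W : {W : X.affineOpens // D.ideal W = 𝓩.ideal W} =>
      (⟨U.ι ⁻¹ᵁ W.1.1, W.1.2.preimage_of_isOpenImmersion U.ι (by
        rw [Scheme.Opens.opensRange_ι]
        exact le_iSup (fun W : {W : X.affineOpens // D.ideal W = 𝓩.ideal W} => (W.1 : X.Opens)) W)⟩ :
        U.toScheme.affineOpens)) ?_ (fun W => ?_)
    · rw [eq_top_iff]
      rintro ⟨x, hx⟩ -
      obtain ⟨W, hW⟩ := TopologicalSpace.Opens.mem_iSup.1 hx
      exact TopologicalSpace.Opens.mem_iSup.2 ⟨W, hW⟩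
    · have e : (⟨U.ι ''ᵁ (U.ι ⁻¹ᵁ W.1.1), (W.1.2.preimage_of_isOpenImmersion U.ι (by
          rw [Scheme.Opens.opensRange_ι]
          exact le_iSup (fun W : {W : X.affineOpens // D.ideal W = 𝓩.ideal W} => (W.1 : X.Opens)) W)).image_of_isOpenImmersion _⟩ :
          X.affineOpens) = W.1 := by
        refine Subtype.ext ?_
        simp only [Scheme.Hom.image_preimage_eq_opensRange_inf, Scheme.Opens.opensRange_ι, inf_eq_right]
        exact le_iSup (fun W : {W : X.affineOpens // D.ideal W = 𝓩.ideal W} => (W.1 : X.Opens)) W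
      have key : ∀ J J' : X.IdealSheafData,
          (∀ V, V = W.1 → J.ideal V = J'.ideal V) → ∀ W', W'.1 = U.ι ⁻¹ᵁ W.1.1 → (J.comap U.ι).ideal W' = (J'.comap U.ι).ideal W' := by
        intro J J' h W' hW'
        have H : ∀ K : X.IdealSheafData, IsPullback (pullback.fst U.ι K.subschemeι) (pullback.snd U.ι K.subschemeι) U.ι K.subschemeι :=
          fun K => IsPullback.of_hasPullback U.ι K.subschemeι
        rw [show (J.comap U.ι) = (pullback.fst U.ι J.subschemeι).ker from rfl,
          show (J'.comap U.ι) = (pullback.fst U.ι J'.subschemeι).ker from rfl,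
          Scheme.ker_ideal_of_isPullback_of_isOpenImmersion _ _ _ _ (H J) W',
          Scheme.ker_ideal_of_isPullback_of_isOpenImmersion _ _ _ _ (H J') W',
          Scheme.IdealSheafData.ker_subschemeι, Scheme.IdealSheafData.ker_subschemeι]
        rw [h _ (Subtype.ext (by
          show U.ι ''ᵁ W'.1 = _
          rw [hW']
          exact congrArg Subtype.val e))]
      exact key D 𝓩 (fun V hV => hV ▸ W.2) _ rfl
  · by_contra hlt
    obtain ⟨W, hzW, hW⟩ := SDivLib.exists_affine_nhd_eq (heq z hz.1 (by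
      obtain ⟨V, hzV⟩ := SDivLib.exists_affine z
      rw [SDivLib.ringKrullDim_stalk V hzV] at hlt ⊢
      have h2 : ¬ (2 : ℕ∞) ≤ (SDivLib.prm V hzV).height := fun h => hlt (WithBot.coe_le_coe.2 h)
      exact WithBot.coe_le_coe.2 (ENat.lt_coe_add_one_iff.1 (show (SDivLib.prm V hzV).height < ((1 : ℕ) : ℕ∞) + 1 by
        rw [Nat.cast_one, one_add_one_eq_two]; exact not_le.1 h2))))
    exact hz.2 (TopologicalSpace.Opens.mem_iSup.2 ⟨⟨W, hW⟩, hzW⟩)

end Groth.Agent.S8909
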