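import Groth.Statements.S8913
import Groth.Agent.StrictModLib.FittFree
import Groth.Agent.MiscFlat6.FreeStalks
import Groth.Agent.RichLib.ModFlatGlobal
import Groth.Agent.FinLFAnnLib.Main
import Groth.Agent.S4887
import Groth.Agent.KFlatLib.PerfectPull

set_option autoImplicit false
universe u
open CategoryTheory CategoryTheory.Limits AlgebraicGeometry TopologicalSpace
open SDiv

namespace Groth.Agent.S8913

/-- Let X be a scheme, F a finitely presented O_X-module and U ⊆ X an open subscheme which is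
scheme-theoretically dense and over which F is locally free of constant finite rank r. Then: (1)
Fit_r(F) is of finite type with support disjoint from U, so a blowing up b : X' ⟶ X of X in Fit_r(F)
is U-admissible; (2) the strict transform G of F along such b is locally free of rank r; (3) the
kernel of the surjection b^*F ⟶ G is finitely presented and restricts to zero over b⁻¹U. This row
does not assert that b^*F and the kernel are perfect of tor dimension at most one. -/
theorem result (X : Scheme.{u}) (F : X.Modules) (hF : CohB1.IsFP F)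
    (U : X.Opens) (hU : CInt.IsSchematicallyDense U) (r : ℕ) (hfree : FlatMod.IsFinLocFreeOfRank r (F.restrict U.ι)) :
    BlowUp.IsAdmissibleFor U (Fitt.sheafIdeal F r) ∧
      ∀ (X' : Scheme.{u}) (b : X' ⟶ X), BlowUp.IsBlowUp b (Fitt.sheafIdeal F r) →
        ∀ (G : X'.Modules) (π : (Scheme.Modules.pullback b).obj F ⟶ G), BlowUp.IsStrictTransform b (Fitt.sheafIdeal F r) F G π →
          FlatMod.IsFinLocFreeOfRank r G ∧ CohB1.IsFP (kernel π) ∧ IsZero ((kernel π).restrict (b ⁻¹ᵁ U).ι) := by
  haveI := hF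
  haveI : Coh.IsQCoh F := inferInstance
  have hft : CohB1.IsFT F := inferInstance
  haveI hqU : Coh.IsQCoh (F.restrict U.ι) := inferInstance
  haveI : Coh.IsQCoh ((Scheme.Modules.pullback U.ι).obj F) := KFlatLib.isQCoh_pullback U.ι F
  have hft₀ := ConsLib.isFT_pullback U.ι F hft
  let iso := (Scheme.Modules.restrictFunctorIsoPullback U.ι).app F
  have hft₁ : CohB1.IsFT (F.restrict U.ι) := QCohLib.isFT_of_iso iso.symm hft₀
  obtain ⟨hlow, hhigh⟩ := (FittLib.isFinLocFreeOfRank_iff _ hft₁ r).mp hfree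
  have hcomap : ∀ j, (Fitt.sheafIdeal F j).comap U.ι = Fitt.sheafIdeal (F.restrict U.ι) j := fun j => by
    rw [FittLib.sheafIdeal_comap U.ι F hft j, FittLib.sheafIdeal_congr iso hft₁ hft₀ j]
  have hdisj : Disjoint ((Fitt.sheafIdeal F r).support : Set X) (U : Set X) := by
    rw [Set.disjoint_left]
    intro x hx hxU
    have h : (⟨x, hxU⟩ : (U : Scheme.{u})) ∈ ((Fitt.sheafIdeal F r).comap U.ι).support := by
      rw [Scheme.IdealSheafData.support_comap]
      exact hx
    rw [hcomap r, hhigh r le_rfl, Scheme.IdealSheafData.support_top] at h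
    exact h
  have hbot : ∀ (O : X.affineOpens) (j : ℕ), j < r → (Fitt.sheafIdeal F j).ideal O = ⊥ := fun O j hj => by
    refine eq_bot_iff.mpr fun a ha => Ideal.mem_bot.mpr (hU O.1 ?_)
    refine Eq.trans ?_ (map_zero _).symm
    refine TopCat.Presheaf.section_ext X.sheaf _ _ 0 fun y hy => ?_
    show X.presheaf.germ _ y hy _ = X.presheaf.germ _ y hy 0
    obtain ⟨W, hW, hyW, hWU⟩ := Opens.isBasis_iff_nbhd.mp X.isBasis_affineOpens hy
    have h0 : (Fitt.sheafIdeal F j).ideal ⟨W, hW⟩ = ⊥ := by
      refine StrictModLib.ideal_eq_bot_of_comap _ ⟨W, hW⟩ ?_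
      rw [← Scheme.homOfLE_ι X (hWU.trans inf_le_right), Scheme.IdealSheafData.comap_comp, hcomap j, hlow j hj,
        Scheme.IdealSheafData.comap_bot]
    have h1 : (X.presheaf.map (homOfLE (hWU.trans inf_le_left)).op).hom a = 0 := Ideal.mem_bot.mp (h0 ▸
      ((Fitt.sheafIdeal F j).map_ideal (U := ⟨W, hW⟩) (V := O) (hWU.trans inf_le_left)).le (Ideal.mem_map_of_mem _ ha))
    rw [map_zero, TopCat.Presheaf.germ_res_apply,
      ← TopCat.Presheaf.germ_res_apply X.presheaf (homOfLE (hWU.trans inf_le_left)) y hyW]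
    exact (congrArg _ h1).trans (map_zero _)
  refine ⟨⟨fun V => ?_, hdisj⟩, fun X' b hb G π hG => ?_⟩
  · rw [FittLib.sheafIdeal_ideal F hft r V]
    haveI := FittLib.finitePresentation_affine F hF V.2
    exact FittLib.ideal_fg r
  haveI := hG.1
  haveI : Coh.IsQCoh ((Scheme.Modules.pullback b).obj F) := KFlatLib.isQCoh_pullback b F
  have hbot' : ∀ O : X'.Opens, IsAffineOpen O → ∀ j < r,
      Fitt.ideal Γ(X', O) Γ((Scheme.Modules.pullback b).obj F, O) j = ⊥ := fun O hO j hj => by
    rw [← FittLib.sheafIdeal_ideal _ (ConsLib.isFT_pullback b F hft) j ⟨O, hO⟩, ← FittLib.sheafIdeal_comap b F hft j,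
      show Fitt.sheafIdeal F j = ⊥ from Scheme.IdealSheafData.ext (funext fun V => hbot V j hj),
      Scheme.IdealSheafData.comap_bot]
    rfl
  have hGfree : FlatMod.IsFinLocFreeOfRank r G :=
    StrictModLib.isFinLocFreeOfRank_strict (ConsLib.isFT_pullback b F hft) π
      (BlowUp.exceptional b (Fitt.sheafIdeal F r)) hb.1 r (FittLib.sheafIdeal_comap b F hft r).symm hG.2
      fun O hO _ => hbot' O hO
  have hGfin : FlatMod.IsFinLocFree G := fun x => ⟨(hGfree x).choose, r, (hGfree x).choose_spec⟩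
  refine ⟨hGfree, ?_, ?_⟩
  · haveI : Coh.IsQCoh G := FinLFAnn.isQCoh_of_isFinLocFree hGfin
    refine Groth.Agent.S4887.result (𝟙 X') _ G (RichLib.ModFlat.isFP_pullback b hF)
      ((MiscFlat6.isFlat_and_isFP_iff).mpr hGfin).2 (fun x => ?_) π
    have h := KFlatLib.isFlat_of_isFinLocFree hGfin x
    change Module.Flat _ _ at h
    show @Module.Flat _ _ _ _ (Module.compHom _ ((𝟙 X' : X' ⟶ X').stalkMap x).hom)
    rw [Scheme.Hom.stalkMap_id]
    exact h
  · rw [IsZero.iff_id_eq_zero]
    refine Scheme.Modules.hom_ext _ _ fun W => ConcreteCategory.hom_ext _ _ fun s => ?_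
    let W' := (b ⁻¹ᵁ U).ι ''ᵁ W
    refine GrModLib6.eq_zero_of_locally (F := kernel π) (V := W') s fun x hx => ?_
    obtain ⟨O, hO, hxO, hOW⟩ := Opens.isBasis_iff_nbhd.mp X'.isBasis_affineOpens hx
    refine ⟨O, hOW, hxO, QCohLib.app_injective_of_mono (kernel.ι π) O ?_⟩
    rw [map_zero]
    let m := (kernel.ι π).app O ((kernel π).presheaf.map (homOfLE hOW).op s)
    obtain ⟨n, hn⟩ := (hG.2 ⟨O, hO⟩ m).mp (congrArg (fun θ : kernel π ⟶ G =>
      θ.app O ((kernel π).presheaf.map (homOfLE hOW).op s)) (kernel.condition π))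
    refine TopCat.Presheaf.section_ext ((QCohLib.toAbF X').obj _ : TopCat.Sheaf AddCommGrpCat _) O m 0 fun y hy => ?_
    show ((Scheme.Modules.pullback b).obj F).presheaf.germ O y hy m =
      ((Scheme.Modules.pullback b).obj F).presheaf.germ O y hy 0
    rw [map_zero]
    have hyE : y ∉ (BlowUp.exceptional b (Fitt.sheafIdeal F r)).support := fun hyE => by
      rw [Scheme.IdealSheafData.support_comap] at hyE
      obtain ⟨z, -, hz⟩ := hOW hy
      exact Set.disjoint_left.mp hdisj hyE (show b y ∈ U by rw [← hz]; exact z.2)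
    rw [Scheme.IdealSheafData.mem_support_iff_of_mem (U := ⟨O, hO⟩) hy, Scheme.mem_zeroLocus_iff] at hyE
    push Not at hyE
    obtain ⟨a, ha, hya⟩ := hyE
    have h : X'.presheaf.germ O y hy (a ^ n) • ((Scheme.Modules.pullback b).obj F).presheaf.germ O y hy m = 0 := by
      rw [← FlatLib.germ_smul_mod, hn (a ^ n) ?_, map_zero]
      rw [Scheme.IdealSheafData.ideal_pow, Pi.pow_apply]
      exact Ideal.pow_mem_pow ha n
    rw [map_pow] at h
    rw [Scheme.mem_basicOpen _ _ y hy] at hya
    exact (hya.pow n).smul_left_cancel.mp (h.trans (smul_zero _).symm)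

end Groth.Agent.S8913
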