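import Groth.Statements.S8918
import Groth.Agent.MeroLib.Denom
import Groth.Agent.SecDivLib.Zero
import Groth.Agent.LichtLib.Ample
import Groth.Agent.TwistLib.HomGlue
import Groth.Agent.EffCartLib.Basic
import Groth.Agent.GrModLib6.Rel
import Groth.Agent.CubeConsLib.IsoCls
import Groth.Agent.AmpleDevLib.Pull

set_option autoImplicit false
universe u
open CategoryTheory CategoryTheory.Limits AlgebraicGeometry TopologicalSpace
open SDiv

open AmpleLib (GenAt GenOn res)
open KFlatLib (pb puSec puSecLE)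
open CubeConsLib (cl cl_eq_iff cl_tensor)
open MeroLib (mval gen1)

noncomputable section

namespace Groth.Agent.S8918

set_option linter.style.haveILetI false
set_option backward.isDefEq.respectTransparency false
set_option backward.isDefEq.respectTransparency.types false
set_option maxHeartbeats 1000000

theorem germ_appLE {X' X : Scheme.{u}} (b : X' ⟶ X) {U : X.Opens} {V : X'.Opens} (h : V ≤ b ⁻¹ᵁ U)
    (a : Γ(X, U)) (y : X') (hy : y ∈ V) :
    X'.presheaf.germ V y hy ((b.appLE U V h).hom a) = b.stalkMap y (X.presheaf.germ U (b y) (h hy) a) := by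
  rw [Scheme.Hom.appLE, CommRingCat.comp_apply, Scheme.Hom.germ_stalkMap_apply]
  exact TopCat.Presheaf.germ_res_apply X'.presheaf _ y hy _

theorem puSecLE_res {X' X : Scheme.{u}} (b : X' ⟶ X) (L : X.Modules) {U U' : X.Opens} (hU : U' ≤ U)
    {V : X'.Opens} (h : V ≤ b ⁻¹ᵁ U') (m : Γ(L, U)) :
    puSecLE b L h (res L hU m) = puSecLE b L (h.trans (b.preimage_mono hU)) m := by
  rw [KFlatLib.puSecLE_apply, KFlatLib.puSecLE_apply]
  refine Eq.trans (congrArg (res (pb b L) h)
    (QCohLib.app_map ((Scheme.Modules.pullbackPushforwardAdjunction b).unit.app L) (homOfLE hU) m)) ?_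
  exact AmpleLib.res_res _ _ _ _

theorem res_puSecLE {X' X : Scheme.{u}} (b : X' ⟶ X) (L : X.Modules) {U : X.Opens}
    {V V' : X'.Opens} (h : V ≤ b ⁻¹ᵁ U) (hV : V' ≤ V) (m : Γ(L, U)) :
    res (pb b L) hV (puSecLE b L h m) = puSecLE b L (hV.trans h) m := by
  rw [KFlatLib.puSecLE_apply, KFlatLib.puSecLE_apply]
  exact AmpleLib.res_res _ _ _ _

theorem res_appLE {X' X : Scheme.{u}} (b : X' ⟶ X) {U : X.Opens} {V V' : X'.Opens} (h : V ≤ b ⁻¹ᵁ U)
    (hV : V' ≤ V) (a : Γ(X, U)) :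
    X'.presheaf.map (homOfLE hV).op ((b.appLE U V h).hom a) = (b.appLE U V' (hV.trans h)).hom a :=
  MeroLib.sec_ext _ _ fun y hy => by rw [MeroLib.germ_res, germ_appLE, germ_appLE]

theorem appLE_res {X' X : Scheme.{u}} (b : X' ⟶ X) {U U' : X.Opens} (hU : U' ≤ U) {V : X'.Opens}
    (h : V ≤ b ⁻¹ᵁ U') (a : Γ(X, U)) :
    (b.appLE U' V h).hom (X.presheaf.map (homOfLE hU).op a) =
      (b.appLE U V (h.trans (b.preimage_mono hU))).hom a :=
  MeroLib.sec_ext _ _ fun y hy => by rw [germ_appLE, germ_appLE, MeroLib.germ_res]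

theorem mono_tensor {X : Scheme.{u}} {A P Q : X.Modules} (hA : PicF.IsInvertible A) (φ : P ⟶ Q) [Mono φ] :
    ∃ ψ : CohB1.tensorMod A P ⟶ CohB1.tensorMod A Q, Mono ψ := by
  let S : ShortComplex X.Modules := ShortComplex.mk φ (cokernel.π φ) (cokernel.condition φ)
  have hS : S.ShortExact :=
    { exact := ShortComplex.exact_cokernel φ, mono_f := inferInstanceAs (Mono φ)
      epi_g := inferInstanceAs (Epi (cokernel.π φ)) }
  exact ⟨(S.map (CurvLib.tensorLeft' A)).f, (HilbPolyLib.shortExact_tensor hA hS).mono_f⟩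

theorem support_iff {X : Scheme.{u}} {L : X.Modules} (s : Γ(Mero.merMod L, ⊤)) (I : X.IdealSheafData)
    (hI : ∀ V : X.affineOpens, I.ideal V = Mero.denomIdeal L s V.1) (x : X) :
    x ∉ (I.support : Set X) ↔ x ∈ Mero.domain L s := by
  constructor
  · intro hx
    obtain ⟨U, hU, hxU, -⟩ := exists_isAffineOpen_mem_and_subset (x := x) (U := (⊤ : X.Opens)) trivial
    rw [SetLike.mem_coe, Scheme.IdealSheafData.mem_support_iff_of_mem (U := ⟨U, hU⟩) hxU, Scheme.mem_zeroLocus_iff] at hx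
    push Not at hx
    obtain ⟨f, hf, hxf⟩ := hx
    rw [SetLike.mem_coe, hI] at hf
    obtain ⟨m, hm⟩ := MeroLib.denom_iff.1 hf
    let v : Γ(X, X.basicOpen f) := X.presheaf.map (homOfLE (X.basicOpen_le f)).op f
    obtain ⟨u, hu⟩ : IsUnit v := RingedSpace.isUnit_res_basicOpen X.toRingedSpace f
    refine ⟨X.basicOpen f, hxf, (↑u⁻¹ : Γ(X, X.basicOpen f)) • res L (X.basicOpen_le f) m, fun y => ?_⟩
    show mval s y.1 _ = gen1 _ y.1 y.2
    rw [MeroLib.gen1_smul, MeroLib.gen1_res, ← hm y.1 (X.basicOpen_le f y.2), smul_smul, ← map_mul]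
    rw [← MeroLib.germ_res (X.basicOpen_le f) f y.1 y.2, ← map_mul]
    rw [show X.presheaf.map (homOfLE (X.basicOpen_le f)).op f = (u : Γ(X, X.basicOpen f)) from hu.symm, Units.inv_mul]
    rw [map_one, map_one, one_smul]
  · rintro ⟨V, hxV, m, hm⟩ hx
    obtain ⟨U, hU, hxU, hUV⟩ := exists_isAffineOpen_mem_and_subset hxV
    rw [SetLike.mem_coe, Scheme.IdealSheafData.mem_support_iff_of_mem (U := ⟨U, hU⟩) hxU, Scheme.mem_zeroLocus_iff] at hx
    refine hx 1 ?_ (by rw [Scheme.basicOpen_one]; exact hxU)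
    rw [SetLike.mem_coe, hI]
    refine MeroLib.denom_iff.2 ⟨res L hUV m, fun y hy => ?_⟩
    rw [map_one, map_one, one_smul, MeroLib.gen1_res]
    exact hm ⟨y, hUV hy⟩

variable {X X' : Scheme.{u}} {L : X.Modules}

/-- A chart of the blow-up: a local equation of the exceptional divisor coming from a denominator `a`, and `m = a s`. -/
structure Piece (s : Γ(Mero.merMod L, ⊤)) (I : X.IdealSheafData) (b : X' ⟶ X) where
  U : X.affineOpens
  W : X'.Opens
  hW : W ≤ b ⁻¹ᵁ U.1
  a : Γ(X, U.1)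
  ha : a ∈ I.ideal U
  m : Γ(L, U.1)
  hm : ∀ x (hx : x ∈ U.1), algebraMap _ (Mero.KStalk X x) (X.presheaf.germ U.1 x hx a) •
    mval s x (Opens.mem_top x) = gen1 m x hx
  t : Γ(ClSub.idealMod (I.comap b), W)
  ht : GenOn (ClSub.idealMod (I.comap b)) t
  hta : LichtLib.ideFn (I.comap b) t = (b.appLE U.1 W hW).hom a

/-- The multiplication by `s`, as a morphism from the ideal of the exceptional divisor to `b^*L`. -/
theorem exists_mul (hL : PicF.IsInvertible L) (s : Γ(Mero.merMod L, ⊤)) (hs : Mero.IsRegularMero L s)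
    (I : X.IdealSheafData) (hI : ∀ V : X.affineOpens, I.ideal V = Mero.denomIdeal L s V.1)
    (b : X' ⟶ X) (hb : BlowUp.IsBlowUp b I) :
    ∃ μ : ClSub.idealMod (I.comap b) ⟶ pb b L, Mono μ := by
  have hcov : ∀ y : X', ∃ P : Piece s I b, y ∈ P.W := fun y => by
    obtain ⟨U, hU, hyU, -⟩ := exists_isAffineOpen_mem_and_subset (x := b y) (U := (⊤ : X.Opens)) trivial
    obtain ⟨a, ha, W, hW, hyW, hnzd, hEW, -⟩ := LichtLib.exists_chart_open hb ⟨U, hU⟩ y hyU
    obtain ⟨t, ht⟩ := GenFlatStrat.exists_idealMod_section (I.comap b) W _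
      (hEW ▸ Ideal.mem_span_singleton_self _)
    have hgen := LichtLib.genOn_of_prinPiece (I.comap b) ⟨W, _, hnzd, hEW⟩ (O := W.1) le_rfl t (by simpa using ht)
    rw [AmpleLib.res_refl] at hgen
    have ha' := ha
    rw [hI] at ha'
    obtain ⟨m, hm⟩ := MeroLib.denom_iff.1 ha'
    exact ⟨⟨⟨U, hU⟩, W.1, hW, a, ha, m, hm, t, hgen, ht⟩, hyW⟩
  -- the equations are regular
  have hreg : ∀ (P : Piece s I b) (V : X'.Opens) (hV : V ≤ P.W) (r : Γ(X', V)),
      r * (b.appLE P.U.1 V (hV.trans P.hW)).hom P.a = 0 → r = 0 := fun P V hV r hr => by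
    refine (P.ht V hV).1 (LichtLib.ideFn_injective _ V ?_)
    show LichtLib.ideFn _ (r • res _ hV P.t) = LichtLib.ideFn _ ((0 : Γ(X', V)) • res _ hV P.t)
    rw [LichtLib.ideFn_smul, LichtLib.ideFn_smul, LichtLib.ideFn_res, P.hta, res_appLE, hr, zero_mul]
  -- the compatibility of the local definitions
  have cross : ∀ (P Q : Piece s I b) (V : X'.Opens) (hP : V ≤ b ⁻¹ᵁ P.U.1) (hQ : V ≤ b ⁻¹ᵁ Q.U.1),
      (b.appLE P.U.1 V hP).hom P.a • puSecLE b L hQ Q.m = (b.appLE Q.U.1 V hQ).hom Q.a • puSecLE b L hP P.m := by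
    intro P Q V hP hQ
    let U₀ : X.Opens := P.U.1 ⊓ Q.U.1
    have h₁ : U₀ ≤ P.U.1 := inf_le_left
    have h₂ : U₀ ≤ Q.U.1 := inf_le_right
    have hV : V ≤ b ⁻¹ᵁ U₀ := fun y hy => ⟨hP hy, hQ hy⟩
    have h : X.presheaf.map (homOfLE h₁).op P.a • res L h₂ Q.m = X.presheaf.map (homOfLE h₂).op Q.a • res L h₁ P.m := by
      refine TopCat.Presheaf.section_ext (⟨L.presheaf, L.isSheaf⟩ : TopCat.Sheaf AddCommGrpCat _) _ _ _ fun x hx => ?_
      refine MeroLib.germ_eq_of_gen1 hL _ _ hx hx ?_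
      rw [MeroLib.gen1_smul, MeroLib.gen1_smul, MeroLib.germ_res, MeroLib.germ_res, MeroLib.gen1_res,
        MeroLib.gen1_res, ← P.hm x (h₁ hx), ← Q.hm x (h₂ hx), smul_smul, smul_smul, mul_comm]
    have h' := congrArg (puSecLE b L hV) h
    rwa [KFlatLib.puSecLE_smul, KFlatLib.puSecLE_smul, puSecLE_res, puSecLE_res, appLE_res, appLE_res] at h'
  have cancel : ∀ (P : Piece s I b) (V : X'.Opens) (hV : V ≤ P.W) (u v : Γ(pb b L, V)),
      (b.appLE P.U.1 V (hV.trans P.hW)).hom P.a • u = (b.appLE P.U.1 V (hV.trans P.hW)).hom P.a • v → u = v := by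
    intro P V hV u v h
    refine ModGlueLib.eq_of_locally u v fun y hy => ?_
    obtain ⟨T, e, hyT, he⟩ := TwistLib.exists_genOn (AmpleDevLib.isInvertible_pb b hL) y
    refine ⟨V ⊓ T, inf_le_left, ⟨hy, hyT⟩, ?_⟩
    obtain ⟨cu, hcu⟩ := (he (V ⊓ T) inf_le_right).2 (res _ inf_le_left u)
    obtain ⟨cv, hcv⟩ := (he (V ⊓ T) inf_le_right).2 (res _ inf_le_left v)
    dsimp only at hcu hcv
    have h1 := congrArg (res (pb b L) (inf_le_left : V ⊓ T ≤ V)) h
    rw [AmpleLib.res_smul, AmpleLib.res_smul, res_appLE, ← hcu, ← hcv, smul_smul, smul_smul] at h1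
    have h2 := (he (V ⊓ T) inf_le_right).1 h1
    have h3 := hreg P (V ⊓ T) (inf_le_left.trans hV) (cu - cv) (by rw [mul_comm, mul_sub, h2, sub_self])
    show res _ _ u = res _ _ v
    rw [← hcu, ← hcv, sub_eq_zero.1 h3]
  obtain ⟨μ, hμ⟩ := TwistLib.exists_hom_of_gens (M := ClSub.idealMod (I.comap b)) (N := pb b L)
    (fun P : Piece s I b => P.W) (fun P => P.t) (fun P => puSecLE b L P.hW P.m) hcov (fun P => P.ht)
    (fun P Q V hP hQ c hc => by
      have hc' := congrArg (LichtLib.ideFn (I.comap b)) hc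
      rw [LichtLib.ideFn_smul, LichtLib.ideFn_res, LichtLib.ideFn_res, P.hta, Q.hta, res_appLE, res_appLE] at hc'
      rw [res_puSecLE, res_puSecLE]
      refine cancel P V hP _ _ ?_
      rw [cross P Q V (hP.trans P.hW) (hQ.trans Q.hW), smul_smul, mul_comm, hc'])
  refine ⟨μ, GrModLib6.mono_of_app_injective μ fun V => (injective_iff_map_eq_zero (μ.app V).hom).2 fun z hz => ?_⟩
  refine GrModLib6.eq_zero_of_locally z fun y hy => ?_
  obtain ⟨P, hyP⟩ := hcov y
  let O : X'.Opens := V ⊓ P.W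
  have hOV : O ≤ V := inf_le_left
  have hOP : O ≤ P.W := inf_le_right
  refine ⟨O, hOV, ⟨hy, hyP⟩, ?_⟩
  obtain ⟨r, hr⟩ := (P.ht O hOP).2 (res _ hOV z)
  dsimp only at hr
  have hr0 : r • puSecLE b L (hOP.trans P.hW) P.m = 0 := by
    have h1 : μ.app O (res _ hOV z) = 0 :=
      (QCohLib.app_map μ (homOfLE hOV) z).trans (by
        erw [hz]; exact map_zero _)
    rw [← hr, QCohLib.app_smul] at h1
    erw [QCohLib.app_map μ (homOfLE hOP) P.t, hμ P] at h1
    exact (congrArg (r • ·) (res_puSecLE b L P.hW hOP P.m)).symm.trans h1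
  suffices hr1 : r = 0 by exact hr.symm.trans (by rw [hr1, zero_smul])
  -- off the exceptional divisor, `b` is an isomorphism and `a s` is regular
  let e : Γ(X', O) := (b.appLE P.U.1 O (hOP.trans P.hW)).hom P.a
  have hoff : X'.presheaf.map (homOfLE (X'.basicOpen_le e)).op r = 0 := by
    refine MeroLib.sec_ext _ _ fun y' hy' => ?_
    have hyO := X'.basicOpen_le e hy'
    rw [map_zero, MeroLib.germ_res]
    have hxU : b y' ∈ P.U.1 := P.hW (hOP hyO)
    have heu : IsUnit (X'.presheaf.germ O y' hyO e) := (X'.mem_basicOpen e y' hyO).1 hy'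
    rw [germ_appLE] at heu
    have hau : IsUnit (X.presheaf.germ P.U.1 (b y') hxU P.a) := (isUnit_map_iff (b.stalkMap y').hom _).1 heu
    have hx : b y' ∈ I.support.compl := fun hsup => by
      rw [SetLike.mem_coe, Scheme.IdealSheafData.mem_support_iff_of_mem hxU, Scheme.mem_zeroLocus_iff] at hsup
      exact hsup P.a P.ha ((X.mem_basicOpen _ _ hxU).2 hau)
    haveI := EffCartLib.isIso_off_center I b hb I.support.compl le_rfl
    haveI hiso : IsIso (b.stalkMap y') :=
      ((MorphismProperty.isomorphisms CommRingCat).arrow_mk_iso_iff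
        (morphismRestrictStalkMap b I.support.compl ⟨y', hx⟩)).1
        (inferInstanceAs (IsIso ((b ∣_ I.support.compl).stalkMap ⟨y', hx⟩)))
    obtain ⟨T, g, hxT, hg⟩ := TwistLib.exists_genOn hL (b y')
    let U₁ : X.Opens := P.U.1 ⊓ T
    have hU₁ : U₁ ≤ P.U.1 := inf_le_left
    have hU₁T : U₁ ≤ T := inf_le_right
    have hx₁ : b y' ∈ U₁ := ⟨hxU, hxT⟩
    obtain ⟨c, hc⟩ := (hg U₁ hU₁T).2 (res L hU₁ P.m)
    dsimp only at hc
    have hcreg : ∀ w : X.presheaf.stalk (b y'), w * X.presheaf.germ U₁ (b y') hx₁ c = 0 → w = 0 := fun w hw => by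
      have h1 : algebraMap _ (Mero.KStalk X (b y')) (w * X.presheaf.germ P.U.1 (b y') hxU P.a) •
          mval s (b y') (Opens.mem_top _) = 0 := by
        rw [map_mul, mul_smul, P.hm _ hxU, ← MeroLib.gen1_res hU₁ P.m _ hx₁, ← hc, MeroLib.gen1_smul, smul_smul,
          ← map_mul, hw, map_zero, zero_smul]
      have h2 := Mero.algebraMap_KStalk_injective (b y') ((hs _ _ h1).trans (map_zero _).symm)
      exact (hau.mul_left_eq_zero).1 h2
    -- transport to `y'`
    let O₁ : X'.Opens := O ⊓ b ⁻¹ᵁ U₁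
    have hO₁ : O₁ ≤ b ⁻¹ᵁ U₁ := inf_le_right
    have hyO₁ : y' ∈ O₁ := ⟨hyO, hx₁⟩
    have h3 := congrArg (res (pb b L) (inf_le_left : O₁ ≤ O)) hr0
    rw [AmpleLib.res_smul, res_puSecLE, ← puSecLE_res b L hU₁ hO₁, ← hc, KFlatLib.puSecLE_smul, smul_smul] at h3
    have hgen : GenOn (pb b L) (puSecLE b L hO₁ (res L hU₁T g)) := CubeLib.genOn_puSecLE b (hg.res _) hO₁
    have hinj := (hgen O₁ le_rfl).1
    have h4 := hinj (a₁ := X'.presheaf.map (homOfLE (inf_le_left : O₁ ≤ O)).op r * (b.appLE U₁ O₁ hO₁).hom c)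
      (a₂ := 0) (by
        show _ • res _ le_rfl _ = (0 : Γ(X', O₁)) • res _ le_rfl _
        rw [AmpleLib.res_refl, zero_smul]
        exact h3.trans (map_zero _))
    have h5 := congrArg (X'.presheaf.germ O₁ y' hyO₁) h4
    rw [map_mul, map_zero, MeroLib.germ_res, germ_appLE] at h5
    obtain ⟨w, hw⟩ := (ConcreteCategory.bijective_of_isIso (b.stalkMap y')).2 (X'.presheaf.germ O y' hyO r)
    rw [← hw] at h5 ⊢
    rw [← map_mul, map_eq_zero_iff _ (ConcreteCategory.bijective_of_isIso (b.stalkMap y')).1] at h5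
    rw [hcreg w h5, map_zero]
  refine MeroLib.sec_ext r 0 fun y' hy' => ?_
  obtain ⟨T, hT, hyT, hTO⟩ := exists_isAffineOpen_mem_and_subset hy'
  let rT : Γ(X', T) := X'.presheaf.map (homOfLE hTO).op r
  let eT : Γ(X', T) := (b.appLE P.U.1 T ((show T ≤ O from hTO).trans (hOP.trans P.hW))).hom P.a
  have hTe : X'.basicOpen eT ≤ X'.basicOpen e := by
    rw [show eT = X'.presheaf.map (homOfLE hTO).op e from (res_appLE b _ _ P.a).symm, Scheme.basicOpen_res]
    exact inf_le_right
  haveI := hT.isLocalization_basicOpen eT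
  have hz0 : algebraMap Γ(X', T) Γ(X', X'.basicOpen eT) rT = 0 := by
    refine MeroLib.sec_ext _ _ fun y'' hy'' => ?_
    show X'.presheaf.germ _ y'' hy'' (X'.presheaf.map (homOfLE (X'.basicOpen_le eT)).op rT) = _
    have h := congrArg (X'.presheaf.germ _ y'' (hTe hy'')) hoff
    rw [map_zero, MeroLib.germ_res] at h
    rw [map_zero, MeroLib.germ_res]
    exact (MeroLib.germ_res hTO r y'' (X'.basicOpen_le eT hy'')).trans h
  obtain ⟨⟨_, n, rfl⟩, hn⟩ := (IsLocalization.map_eq_zero_iff (Submonoid.powers eT) _ rT).1 hz0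
  dsimp only at hn
  have hrT : rT = 0 := by
    have key : ∀ k (w : Γ(X', T)), eT ^ k * w = 0 → w = 0 := by
      intro k
      induction k with
      | zero => intro w hw; simpa using hw
      | succ k ih =>
        intro w hw
        refine ih w (hreg P T ((show T ≤ O from hTO).trans hOP) (eT ^ k * w) ?_)
        show eT ^ k * w * eT = 0
        rw [← hw, pow_succ]; ring
    exact key n rT hn
  rw [← MeroLib.germ_res hTO r y' hyT, map_zero]
  exact (congrArg (X'.presheaf.germ T y' hyT) hrT).trans (map_zero _)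

/-- Suppose X is locally Noetherian, L is an invertible O_X-module carrying a regular meromorphic
section s, and I is a quasi-coherent ideal sheaf whose value on every affine open is the ideal of
denominators of s. Then I is of finite type and the open complement U of the support of O_X/I is
exactly the set of points near which s is a section of L, so that a blowing up b : X' ⟶ X in I is
U-admissible for this U; and for every such b there is an effective Cartier divisor D ⊆ X' with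
ideal sheaf 𝓓 such that b^*L ⊗ 𝓓 is isomorphic to the ideal sheaf of the exceptional divisor E, i.e.
b^*L ≅ O_{X'}(D - E) (existence of an isomorphism only). This row does not identify the pulled-back
section b^*s with the canonical section 1_D ⊗ 1_E⁻¹ of O_{X'}(D - E). -/
theorem result (X : Scheme.{u}) [IsLocallyNoetherian X] (L : X.Modules) (hL : PicF.IsInvertible L)
    (s : Γ(Mero.merMod L, ⊤)) (hs : Mero.IsRegularMero L s) (I : X.IdealSheafData)
    (hI : ∀ V : X.affineOpens, I.ideal V = Mero.denomIdeal L s V.1) :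
    (BlowUp.IsFiniteTypeIdeal I ∧ ((I.support.compl : X.Opens) : Set X) = Mero.domain L s) ∧
      ∀ (X' : Scheme.{u}) (b : X' ⟶ X), BlowUp.IsBlowUp b I →
        ∃ 𝓓 : X'.IdealSheafData, BlowUp.IsEffCartierIdeal 𝓓 ∧
          Nonempty (CohB1.tensorMod ((Scheme.Modules.pullback b).obj L) (ClSub.idealMod 𝓓) ≅ ClSub.idealMod (I.comap b)) := by
  refine ⟨⟨fun U => ?_, Set.ext fun x => support_iff s I hI x⟩, fun X' b hb => ?_⟩
  · haveI : IsNoetherianRing Γ(X, U.1) := IsLocallyNoetherian.component_noetherian U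
    exact IsNoetherian.noetherian _
  obtain ⟨μ, _⟩ := exists_mul hL s hs I hI b hb
  have hE := IntMultLib.isInvertible_idealMod _ hb.1
  obtain ⟨eE⟩ := MiscFlat6.nonempty_dualIso hE
  have hN := MiscFlat6.dual_isInvertible hE
  obtain ⟨ψ, _⟩ := mono_tensor hN μ
  let σ : Coh.structureModule X' ⟶ CohB1.tensorMod (MiscFlat6.dual (ClSub.idealMod (I.comap b))) (pb b L) :=
    eE.inv ≫ (HilbPolyLib.swapIso _ _).hom ≫ ψ
  haveI : Mono σ := by infer_instance
  have hM := HilbPolyLib.isInvertible_tensor hN (AmpleDevLib.isInvertible_pb b hL)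
  refine ⟨PicF2.zeroScheme _ σ, AmpleFinGenLib.isEffCartier_zeroScheme hM σ, ?_⟩
  have h1 := cl_eq_iff.2 (AmpleFinGenLib.idealMod_tensor_iso hM σ)
  have h2 := cl_eq_iff.2 ⟨eE⟩
  refine cl_eq_iff.1 ?_
  rw [cl_tensor, cl_tensor] at h1
  rw [cl_tensor] at h2 ⊢
  rw [show cl (Coh.structureModule X') = (1 : CubeConsLib.IsoCls X') from rfl] at h1 h2
  calc cl ((Scheme.Modules.pullback b).obj L) * cl (ClSub.idealMod (PicF2.zeroScheme _ σ))
      = cl (ClSub.idealMod (I.comap b)) * cl (MiscFlat6.dual (ClSub.idealMod (I.comap b))) *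
        (cl (pb b L) * cl (ClSub.idealMod (PicF2.zeroScheme _ σ))) := by rw [h2, one_mul]
    _ = cl (ClSub.idealMod (I.comap b)) * (cl (ClSub.idealMod (PicF2.zeroScheme _ σ)) *
        (cl (MiscFlat6.dual (ClSub.idealMod (I.comap b))) * cl (pb b L))) := by ac_rfl
    _ = _ := by rw [h1, mul_one]

end Groth.Agent.S8918

end
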