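import Groth.Statements.S8921
import Groth.Agent.SplitRegLib.Main
import Groth.Agent.RegImmKindLib.Apps
import Groth.Agent.RegImmKindLib.Mor
import Groth.Agent.PerfDualLib.Props
import Groth.Agent.AmpleThLib.Locus
import Groth.Agent.S17860
import Groth.Agent.S5974
import Groth.Agent.PerfLib.Strict

set_option autoImplicit false
universe u
open CategoryTheory CategoryTheory.Limits AlgebraicGeometry TopologicalSpace
open SDiv

namespace Groth.Agent.S8921

open CategoryTheory CategoryTheory.Limits AlgebraicGeometry TopologicalSpace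

theorem regularAt_iff {Z X : Scheme.{u}} (i : Z ⟶ X) [IsImmersion i] [IsLocallyNoetherian X] (z : Z) :
    RegImm.IsRegularImmersionAt RegImm.Kind.regular i z ↔ CInt.IsRegularIdeal (RingHom.ker (i.stalkMap z).hom) :=
  (RegImmKindLib.isRegularImmersionAt_iff i _ z).trans
    ⟨fun ⟨rs, h, e⟩ => ⟨rs, h, e.symm⟩, fun ⟨rs, h, e⟩ => ⟨rs, h, e.symm⟩⟩

theorem h1_at {Z X : Scheme.{u}} (i : Z ⟶ X) (z : Z) (h : RegImm.IsRegularImmersionAt RegImm.Kind.regular i z) :
    ∃ U₀ : X.affineOpens, i z ∈ U₀.1 ∧ IsClosedImmersion (i ∣_ U₀.1) ∧ ∃ rs : List Γ(X, U₀.1),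
      RegImm.Kind.h1.Seq Γ(X, U₀.1) rs ∧ RingHom.ker (i.app U₀.1).hom = Ideal.ofList rs := by
  obtain ⟨U, hz, hcl, rs, hrs, hk⟩ := h
  exact ⟨U, hz, hcl, rs, RegImmKindLib.seq_h1_of_koszul (RegImmKindLib.seq_koszul_of_regular hrs), hk⟩

theorem restrict_injective {Z : Scheme.{u}} {M N : Z.Modules} (a : M ⟶ N) (U : Z.Opens) (V : (U : Scheme.{u}).Opens)
    {Ω : Z.Opens} (e : U.ι ''ᵁ V = Ω) (h : Function.Injective (a.app Ω)) :
    Function.Injective (((Scheme.Modules.restrictFunctor U.ι).map a).app V) := by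
  subst e
  exact h

theorem restrict_surjective {Z : Scheme.{u}} {M N : Z.Modules} (a : M ⟶ N) (U : Z.Opens) (V : (U : Scheme.{u}).Opens)
    {Ω : Z.Opens} (e : U.ι ''ᵁ V = Ω) (h : Function.Surjective (a.app Ω)) :
    Function.Surjective (((Scheme.Modules.restrictFunctor U.ι).map a).app V) := by
  subst e
  exact h

/-- Split near a point of regularity. -/
theorem split_near {Z Y X : Scheme.{u}} (i : Z ⟶ Y) (j : Y ⟶ X) [IsImmersion i] [IsImmersion j]
    [QuasiCompact i] [QuasiCompact j]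
    (a : (Scheme.Modules.pullback i).obj (Omega.conormal j) ⟶ Omega.conormal (i ≫ j))
    (ha : OmegaSh.IsConormalMap (i ≫ j) j (𝟙 X) i a)
    (b : (Scheme.Modules.pullback (𝟙 Z)).obj (Omega.conormal (i ≫ j)) ⟶ Omega.conormal i)
    (hb : OmegaSh.IsConormalMap i (i ≫ j) j (𝟙 Z) b)
    (z : Z) (hi : RegImm.IsRegularImmersionAt RegImm.Kind.regular i z) :
    ∃ U : Z.Opens, z ∈ U ∧
      ∀ w : (Scheme.Modules.restrictFunctor U.ι).map a ≫ (Scheme.Modules.restrictFunctor U.ι).map ((Scheme.Modules.pullbackId Z).inv.app (Omega.conormal (i ≫ j)) ≫ b) = 0,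
        Nonempty (ShortComplex.mk ((Scheme.Modules.restrictFunctor U.ι).map a) ((Scheme.Modules.restrictFunctor U.ι).map ((Scheme.Modules.pullbackId Z).inv.app (Omega.conormal (i ≫ j)) ≫ b)) w).Splitting := by
  obtain ⟨hepi, him⟩ := Groth.Agent.S5974.result j i a ha b hb
  haveI := hepi
  haveI : Coh.IsQCoh (ClSub.idealMod j.ker) := SweepSix.ConormalSpec.isQCoh_idealMod _
  haveI : Coh.IsQCoh (ClSub.idealMod i.ker) := SweepSix.ConormalSpec.isQCoh_idealMod _
  haveI : Coh.IsQCoh (ClSub.idealMod (i ≫ j).ker) := SweepSix.ConormalSpec.isQCoh_idealMod _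
  haveI : Coh.IsQCoh (Omega.conormal j) := KFlatLib.isQCoh_pullback j (ClSub.idealMod j.ker)
  haveI : Coh.IsQCoh (Omega.conormal i) := KFlatLib.isQCoh_pullback i (ClSub.idealMod i.ker)
  haveI : Coh.IsQCoh (Omega.conormal (i ≫ j)) := KFlatLib.isQCoh_pullback (i ≫ j) (ClSub.idealMod (i ≫ j).ker)
  haveI : Coh.IsQCoh ((Scheme.Modules.pullback i).obj (Omega.conormal j)) :=
    KFlatLib.isQCoh_pullback i (Omega.conormal j)
  let g := (Scheme.Modules.pullbackId Z).inv.app (Omega.conormal (i ≫ j)) ≫ b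
  haveI : Epi g := epi_comp _ _
  have w₀ : a ≫ g = 0 := by
    rw [← imageSubobject_arrow_comp a, Category.assoc]
    have h : (imageSubobject a).arrow ≫ g = 0 := by rw [him, kernelSubobject_arrow_comp]
    rw [h, comp_zero]
  have hexact : (ShortComplex.mk a g w₀).Exact := (ShortComplex.exact_iff_image_eq_kernel _).2 him
  obtain ⟨U₀, hzU₀, hcl, rs, hrs, hk⟩ := h1_at i z hi
  have hat : ∀ w : Z, w ∈ i ⁻¹ᵁ U₀.1 → RegImm.IsRegularImmersionAt RegImm.Kind.h1 i w :=
    fun w hw => ⟨U₀, hw, hcl, rs, hrs, hk⟩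
  obtain ⟨O, c, hzO, ⟨e⟩⟩ := S8919.exists_free_conormal i z (hat z hzU₀)
  obtain ⟨U, hU, hzU, hUle⟩ := exists_isAffineOpen_mem_and_subset (X := Z) (x := z) (U := O ⊓ i ⁻¹ᵁ U₀.1) ⟨hzO, hzU₀⟩
  refine ⟨U, hzU, fun w => ?_⟩
  haveI : Coh.IsQCoh ((Scheme.Modules.restrictFunctor U.ι).obj ((Scheme.Modules.pullback i).obj (Omega.conormal j))) :=
    PerfDualLib.isQCoh_restrict _ U
  haveI : Coh.IsQCoh ((Scheme.Modules.restrictFunctor U.ι).obj (Omega.conormal (i ≫ j))) :=
    PerfDualLib.isQCoh_restrict _ U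
  haveI : Mono ((Scheme.Modules.restrictFunctor U.ι).map a) := by
    refine Groth.Agent.S13458.mono_of_injective_charts _ fun x => ?_
    obtain ⟨V, hV, hxV, hVU, hinj⟩ := S8919.injective_chart i j ha (U.ι x) (hat _ (hUle x.2).2) U x.2
    have e1 : U.ι ''ᵁ (U.ι ⁻¹ᵁ V) = V := by
      rw [Scheme.Hom.image_preimage_eq_opensRange_inf, Scheme.Opens.opensRange_ι, inf_eq_right.2 hVU]
    exact ⟨U.ι ⁻¹ᵁ V, hV.preimage_of_isOpenImmersion _ (by rw [Scheme.Opens.opensRange_ι]; exact hVU), hxV,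
      restrict_injective a U _ e1 hinj⟩
  obtain ⟨c', ⟨eU⟩⟩ := PerfLib.isFinFree_res_le (M := Omega.conormal i) (fun x hx => (hUle hx).1 : U ≤ O) ⟨c, ⟨e⟩⟩
  let π : (Scheme.Modules.restrictFunctor U.ι).obj (Omega.conormal (i ≫ j)) ⟶ FlatMod.freeMod (↑U) c' :=
    (Scheme.Modules.restrictFunctor U.ι).map g ≫ eU.hom
  have hπ : Function.Surjective (π.app ⊤) := fun t => by
    haveI : Coh.IsQCoh ((𝟭 Z.Modules).obj (Omega.conormal (i ≫ j))) := ‹Coh.IsQCoh (Omega.conormal (i ≫ j))›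
    obtain ⟨m, hm⟩ := restrict_surjective g U ⊤ U.ι_image_top (Groth.Agent.S17860.app_surjective g hU)
      (eU.inv.app ⊤ t)
    refine ⟨m, (congrArg (eU.hom.app ⊤) hm).trans ?_⟩
    exact congrArg (fun m => Scheme.Modules.Hom.app m ⊤ t) eU.inv_hom_id
  choose σ hσ using fun l => hπ (FittLib.stdSec _ c' ⊤ l)
  let s : FlatMod.freeMod (↑U) c' ⟶ (Scheme.Modules.restrictFunctor U.ι).obj (Omega.conormal (i ≫ j)) :=
    Sigma.desc fun l => QCohLib.unitHom _ (σ l)
  have hs : s ≫ π = 𝟙 _ := Sigma.hom_ext _ _ fun l => by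
    rw [Sigma.ι_desc_assoc, Category.comp_id, QCohLib.app_unitHom_app, hσ]
    exact (AmpleThLib.unitHom_eq _).symm
  refine ⟨ShortComplex.Splitting.ofExactOfSection _ ?_ (eU.hom ≫ s) ?_ inferInstance⟩
  · exact hexact.map (Scheme.Modules.restrictFunctor U.ι)
  · show (eU.hom ≫ s) ≫ (Scheme.Modules.restrictFunctor U.ι).map g = 𝟙 _
    rw [← cancel_mono eU.hom, Category.assoc, Category.assoc, Category.id_comp]
    show eU.hom ≫ s ≫ π = eU.hom
    rw [hs, Category.comp_id]

theorem result_aux {Z Y X : Scheme.{u}} (i : Z ⟶ Y) (j : Y ⟶ X) [IsImmersion i] [IsImmersion j]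
    [QuasiCompact i] [QuasiCompact j]
    (a : (Scheme.Modules.pullback i).obj (Omega.conormal j) ⟶ Omega.conormal (i ≫ j))
    (ha : OmegaSh.IsConormalMap (i ≫ j) j (𝟙 X) i a)
    (b : (Scheme.Modules.pullback (𝟙 Z)).obj (Omega.conormal (i ≫ j)) ⟶ Omega.conormal i)
    (hb : OmegaSh.IsConormalMap i (i ≫ j) j (𝟙 Z) b)
    [IsLocallyNoetherian X] (z : ↥Z) :
    ((RegImm.IsRegularImmersionAt RegImm.Kind.regular i z ∧ RegImm.IsRegularImmersionAt RegImm.Kind.regular j (i z)) ↔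
      (RegImm.IsRegularImmersionAt RegImm.Kind.regular i z ∧ RegImm.IsRegularImmersionAt RegImm.Kind.regular (i ≫ j) z)) ∧
    ((RegImm.IsRegularImmersionAt RegImm.Kind.regular i z ∧ RegImm.IsRegularImmersionAt RegImm.Kind.regular (i ≫ j) z) ↔
      (RegImm.IsRegularImmersionAt RegImm.Kind.regular (i ≫ j) z ∧
        ∃ U : Z.Opens, z ∈ U ∧
          ∀ w : (Scheme.Modules.restrictFunctor U.ι).map a ≫ (Scheme.Modules.restrictFunctor U.ι).map ((Scheme.Modules.pullbackId Z).inv.app (Omega.conormal (i ≫ j)) ≫ b) = 0,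
            Nonempty (ShortComplex.mk ((Scheme.Modules.restrictFunctor U.ι).map a) ((Scheme.Modules.restrictFunctor U.ι).map ((Scheme.Modules.pullbackId Z).inv.app (Omega.conormal (i ≫ j)) ≫ b)) w).Splitting)) := by
  haveI : IsLocallyNoetherian Y := LocallyOfFiniteType.isLocallyNoetherian j
  refine ⟨?_, ⟨fun h => ⟨h.2, split_near i j a ha b hb z h.1⟩, fun ⟨hij, U, hzU, hU⟩ => ⟨?_, hij⟩⟩⟩
  · rw [regularAt_iff i z, regularAt_iff j (i z), regularAt_iff (i ≫ j) z, Scheme.Hom.stalkMap_comp]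
    exact RegImmKindLib.comp_regular_iff (A := X.presheaf.stalk (j (i z))) _ _ (j.stalkMap_surjective (i z))
      (i.stalkMap_surjective z)
  · obtain ⟨hepi, him⟩ := Groth.Agent.S5974.result j i a ha b hb
    have w₀ : a ≫ ((Scheme.Modules.pullbackId Z).inv.app (Omega.conormal (i ≫ j)) ≫ b) = 0 := by
      rw [← imageSubobject_arrow_comp a, Category.assoc]
      have h : (imageSubobject a).arrow ≫ ((Scheme.Modules.pullbackId Z).inv.app (Omega.conormal (i ≫ j)) ≫ b) = 0 := by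
        rw [him, kernelSubobject_arrow_comp]
      rw [h, comp_zero]
    obtain ⟨σ⟩ := hU (by rw [← Functor.map_comp, w₀, Functor.map_zero])
    obtain ⟨U₀, hz₀, hcl, rs, hrs, hk⟩ := h1_at (i ≫ j) z hij
    have hloc : ∀ W : X.Opens, IsAffineOpen W → W ≤ U₀.1 →
        RegImmKindLib.LocK RegImm.Kind.h1 (RingHom.ker ((i ≫ j).app W).hom) := by
      intro W hW hle
      have hc := CILib.ofList_ofFn (A := Γ(X, U₀.1)) rs.get
      rw [List.ofFn_get, ← hk] at hc
      obtain ⟨-, -, g, hg, hg'⟩ := S8919.chart_restrict (i ≫ j) U₀.2 hcl rs.get hrs hc hW hle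
      have hgen : RegImmKindLib.GenK RegImm.Kind.h1 (RingHom.ker ((i ≫ j).app W).hom) :=
        ⟨List.ofFn g, RegImmKindLib.seq_congr_get g _ (fun f => CAlgX.IsH1Regular f) (List.ofFn_get _).symm hg,
          hg'.trans (CILib.ofList_ofFn g).symm⟩
      exact fun p hp _ => ⟨1, fun h1 => hp.ne_top ((Ideal.eq_top_iff_one _).2 h1),
        RegImmKindLib.GenK.map_flat (by decide) hgen⟩
    have h := SplitRegLib.regularAt_of_retraction i j ha z ⟨U, σ.r, hzU, σ.f_r⟩ (k := RegImm.Kind.h1) (by decide)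
      (fun W hW hW' hs => by
        haveI : IsNoetherianRing Γ(X, W) := IsLocallyNoetherian.component_noetherian ⟨W, hW⟩
        exact IsNoetherian.noetherian _)
      U₀.1 hz₀ (fun W hW hle _ _ => hloc W hW hle) (fun h => absurd h (by decide))
    exact (RegImmKindLib.isRegularImmersionAt_iff i _ z).2 ((RegImmKindLib.isRegularImmersionAt_iff i _ z).1 h)


/-- Let i : Z ⟶ Y and j : Y ⟶ X be immersions of schemes with X locally Noetherian, z a point of Z with
images y = i z and x, and a : i^*C_{Y/X} ⟶ C_{Z/X}, b : C_{Z/X} ⟶ C_{Z/Y} the canonical maps of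
conormal sheaves. The following are equivalent: (1) i is regular near z and j is regular near y; (2)
i and j ∘ i are regular near z; (3) j ∘ i is regular near z and the sequence 0 → i^*C_{Y/X} →
C_{Z/X} → C_{Z/Y} → 0 is split short exact over some open neighbourhood of z. Both immersions are
quasi-compact automatically, X being locally Noetherian; the quasi-compactness binders only make the
conormal sheaves available. -/
theorem result {Z Y X : Scheme.{u}} (i : Z ⟶ Y) (j : Y ⟶ X) [IsImmersion i] [IsImmersion j]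
    [QuasiCompact i] [QuasiCompact j]
    (a : (Scheme.Modules.pullback i).obj (Omega.conormal j) ⟶ Omega.conormal (i ≫ j))
    (ha : OmegaSh.IsConormalMap (i ≫ j) j (𝟙 X) i a)
    (b : (Scheme.Modules.pullback (𝟙 Z)).obj (Omega.conormal (i ≫ j)) ⟶ Omega.conormal i)
    (hb : OmegaSh.IsConormalMap i (i ≫ j) j (𝟙 Z) b)
    [IsLocallyNoetherian X] (z : ↥Z) :
    ((RegImm.IsRegularImmersionAt RegImm.Kind.regular i z ∧ RegImm.IsRegularImmersionAt RegImm.Kind.regular j (i z)) ↔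
      (RegImm.IsRegularImmersionAt RegImm.Kind.regular i z ∧ RegImm.IsRegularImmersionAt RegImm.Kind.regular (i ≫ j) z)) ∧
    ((RegImm.IsRegularImmersionAt RegImm.Kind.regular i z ∧ RegImm.IsRegularImmersionAt RegImm.Kind.regular (i ≫ j) z) ↔
      (RegImm.IsRegularImmersionAt RegImm.Kind.regular (i ≫ j) z ∧
        ∃ U : Z.Opens, z ∈ U ∧
          ∀ w : (Scheme.Modules.restrictFunctor U.ι).map a ≫ (Scheme.Modules.restrictFunctor U.ι).map ((Scheme.Modules.pullbackId Z).inv.app (Omega.conormal (i ≫ j)) ≫ b) = 0,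
            Nonempty (ShortComplex.mk ((Scheme.Modules.restrictFunctor U.ι).map a) ((Scheme.Modules.restrictFunctor U.ι).map ((Scheme.Modules.pullbackId Z).inv.app (Omega.conormal (i ≫ j)) ≫ b)) w).Splitting)) := by
  exact result_aux i j a ha b hb z

end Groth.Agent.S8921
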