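import Groth.Statements.S8923
import Groth.Agent.TwistLib.PullGen
import Mathlib.AlgebraicGeometry.OrderOfVanishing
import Mathlib.AlgebraicGeometry.Noetherian
import Mathlib.Topology.Sober
import Mathlib.Topology.LocallyFinite

set_option autoImplicit false
universe u
open CategoryTheory CategoryTheory.Limits AlgebraicGeometry TopologicalSpace
open SDiv

namespace Groth.Agent.S8923

open AlgebraicGeometry CategoryTheory

theorem ordFrac_algebraMap_isUnit (R : Type u) [CommRing R] (K : Type u) [Field K] [Algebra R K] (a : R)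
    (ha : IsUnit a) : CycAlg.ordFrac R K (algebraMap R K a) = 0 := by
  unfold CycAlg.ordFrac
  split_ifs with h
  · obtain ⟨_, _, _, _⟩ := h
    rw [Ring.ordFrac_eq_ord R ha.ne_zero, Ring.ordMonoidWithZeroHom_eq_coe (R := R) ha.mem_nonZeroDivisors
      (n := 0) (by
        have : Subsingleton (R ⧸ Ideal.span {a}) :=
          Ideal.Quotient.subsingleton_iff.2 (Ideal.span_singleton_eq_top.2 ha)
        simp [Ring.ord, Module.length_eq_zero_iff, this])]
    rfl
  · rfl


/-- Let X be an integral scheme that is locally Noetherian, L an invertible O_X-module and s a nonzero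
rational (regular meromorphic) section of L, viewed as a nonzero element of the stalk of L at the
generic point. Then the collection of prime divisors Z ⊆ X with ord_{Z,L}(s) ≠ 0, i.e. the closures
of the codimension-1 points x (dim O_{X,x} = 1) along which s has nonzero order, is locally finite
in X. -/
theorem result (X : Scheme.{u}) [IsIntegral X] [IsLocallyNoetherian X] (L : X.Modules)
    (hL : PicF.IsInvertible L) (s : Cyc.secFibre L (genericPoint ↥X)) (hs : s ≠ 0) :
    LocallyFinite (fun x : {x : ↥X // ringKrullDim ↑(X.presheaf.stalk x) = 1 ∧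
        Cyc.secOrdAt L (genericPoint ↥X) x ((genericPoint_spec ↥X).specializes (Set.mem_univ x)) s ≠ 0} => closure ({x.1} : Set ↥X)) := by
  classical
  let η := genericPoint X
  obtain ⟨U₀, t, hη₀, ht⟩ := TwistLib.exists_genOn hL η
  let m : L.presheaf.stalk η := L.presheaf.germ U₀ η hη₀ t
  obtain ⟨v, hv⟩ := Submodule.Quotient.mk_surjective _ s
  obtain ⟨φ, hφ⟩ := (ht.genAt hη₀).2 v
  have hs' : s = φ • (Submodule.Quotient.mk m : Cyc.secFibre L η) := by
    rw [← hv, ← hφ]; rfl
  have hφ0 : φ ≠ 0 := fun h => hs (by rw [hs', h, zero_smul])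
  obtain ⟨U₁, hU₁, f', hne₁, hf', hunit⟩ := exists_isUnit_germ_eq X (φ : X.functionField) hφ0
  have hη₁ : η ∈ U₁ := ((genericPoint_spec X).mem_open_set_iff U₁.isOpen).mpr
    (by simpa [Set.nonempty_coe_sort] using hne₁)
  let U : X.Opens := U₀ ⊓ U₁
  have hne : Nonempty U := ⟨⟨η, hη₀, hη₁⟩⟩
  have hmax : ∀ ξ : X, Order.coheight ξ = 1 → ξ ∉ U → ∀ ζ : X, ζ ∉ U → ζ ⤳ ξ → ξ ⤳ ζ := by
    intro ξ hξ hξU ζ hζU hsp
    by_contra hn
    have hlt : ξ < ζ := lt_of_le_not_ge hsp hn
    have h1 : Order.coheight ζ < 1 := by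
      have h2 := Order.coheight_add_one_le hlt
      rw [hξ] at h2
      by_contra h3
      have h4 : (2 : ℕ∞) ≤ Order.coheight ζ + 1 := by
        have := add_le_add (le_of_not_gt h3) (le_refl (1 : ℕ∞))
        exact le_trans (by norm_num) this
      exact absurd (h4.trans h2) (by norm_num)
    have hmax : IsMax ζ := Order.coheight_eq_zero.mp (Order.lt_one_iff.mp h1)
    have : ζ ⤳ genericPoint X := hmax (b := genericPoint X) (genericPoint_specializes ζ)
    exact hζU (this.mem_open U.isOpen (((genericPoint_spec X).mem_open_set_iff U.isOpen).mpr (by simpa [Set.nonempty_coe_sort] using hne)))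
  intro x
  obtain ⟨V, hV, hxV, -⟩ := AlgebraicGeometry.exists_isAffineOpen_mem_and_subset (x := x) (U := ⊤) trivial
  refine ⟨V, V.isOpen.mem_nhds hxV, ?_⟩
  haveI : IsNoetherianRing Γ(X, V) := IsLocallyNoetherian.component_noetherian ⟨V, hV⟩
  haveI : TopologicalSpace.NoetherianSpace (V : Set X) := AlgebraicGeometry.noetherianSpace_of_isAffineOpen V hV
  let T : Set X := (U : Set X)ᶜ ∩ (V : Set X)
  haveI : TopologicalSpace.NoetherianSpace T :=
    (Topology.IsEmbedding.inclusion (Set.inter_subset_right : T ⊆ (V : Set X))).isInducing.noetherianSpace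
  have hfin : {ξ : X | Order.coheight ξ = 1 ∧ ξ ∈ T}.Finite := by
    let g : irreducibleComponents T → X := fun C =>
      (IsIrreducible.image C.2.1 Subtype.val continuous_subtype_val.continuousOn).genericPoint
    haveI : Finite (irreducibleComponents T) := TopologicalSpace.NoetherianSpace.finite_irreducibleComponents
    refine (Set.finite_range g).subset ?_
    rintro ξ ⟨hξ, hξT⟩
    let C : irreducibleComponents T := ⟨irreducibleComponent (⟨ξ, hξT⟩ : T), irreducibleComponent_mem_irreducibleComponents _⟩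
    have hirr := IsIrreducible.image C.2.1 Subtype.val continuous_subtype_val.continuousOn
    have hgp : IsGenericPoint (g C) (closure (Subtype.val '' C.1)) := hirr.isGenericPoint_genericPoint_closure
    have hsp : g C ⤳ ξ := hgp.specializes (subset_closure ⟨_, mem_irreducibleComponent, rfl⟩)
    have hgU : g C ∉ U := by
      have : closure (Subtype.val '' C.1) ⊆ (U : Set X)ᶜ :=
        closure_minimal (by rintro _ ⟨y, -, rfl⟩; exact y.2.1) U.isOpen.isClosed_compl
      exact this hgp.mem
    exact ⟨C, (hsp.antisymm (hmax ξ hξ hξT.1 (g C) hgU hsp)).eq⟩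
  refine Set.Finite.of_finite_image (f := Subtype.val) (hfin.subset ?_) Subtype.val_injective.injOn
  rintro _ ⟨⟨ξ, hξ1, hξ2⟩, ⟨y, hy, hyV⟩, rfl⟩
  refine ⟨?_, fun hξU => hξ2 ?_, (specializes_iff_mem_closure.mpr hy).mem_open V.isOpen hyV⟩
  · rw [ringKrullDim_stalk_eq_coheight] at hξ1
    exact_mod_cast hξ1
  -- the order vanishes where the section is a unit multiple of a generator
  unfold Cyc.secOrdAt
  set h : η ⤳ ξ := (genericPoint_spec X).specializes (Set.mem_univ ξ)
  split_ifs with h1 h2
  rotate_left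
  · rfl
  · rfl
  set t' := Classical.choose h1 with ht'
  have hspan := Classical.choose_spec h1
  obtain ⟨c, hc⟩ := (ht.genAt hξU.1).2 t'
  obtain ⟨d, hd⟩ := Submodule.mem_span_singleton.1
    (show L.presheaf.germ U₀ ξ hξU.1 t ∈ Submodule.span (X.presheaf.stalk ξ) {t'} from hspan ▸ Submodule.mem_top)
  have hcd : d * c = 1 := (ht.genAt hξU.1).1 (by
    show (d * c) • L.presheaf.germ U₀ ξ hξU.1 t = (1 : X.presheaf.stalk ξ) • L.presheaf.germ U₀ ξ hξU.1 t
    rw [mul_smul, one_smul]
    exact (congrArg (d • ·) hc).trans hd)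
  set φ' := Classical.choose h2 with hφ'
  have hspec : s = φ' • (Submodule.Quotient.mk ((L.presheaf.stalkSpecializes h) t') : Cyc.secFibre L η) :=
    Classical.choose_spec h2
  let σ := (X.presheaf.stalkSpecializes h).hom
  have hsm : (L.presheaf.stalkSpecializes h) t' = σ c • m := by
    rw [← hc]
    obtain ⟨W, hW, r, rfl⟩ := TopCat.Presheaf.exists_germ_eq X.presheaf (x := ξ) c
    show (L.presheaf.stalkSpecializes h) (X.presheaf.germ W ξ hW r • L.presheaf.germ U₀ ξ hξU.1 t) = _
    rw [← TopCat.Presheaf.germ_res_apply X.presheaf (homOfLE (inf_le_left : W ⊓ U₀ ≤ W)) ξ ⟨hW, hξU.1⟩,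
      ← TopCat.Presheaf.germ_res_apply L.presheaf (homOfLE (inf_le_right : W ⊓ U₀ ≤ U₀)) ξ ⟨hW, hξU.1⟩,
      ← AmpleLib.germ_smul, TopCat.Presheaf.germ_stalkSpecializes_apply, AmpleLib.germ_smul,
      TopCat.Presheaf.germ_res_apply, TopCat.Presheaf.germ_res_apply, TopCat.Presheaf.germ_res_apply]
    exact congrArg (· • _) (TopCat.Presheaf.germ_stalkSpecializes_apply X.presheaf (U := W) hW h r).symm
  have hres : X.residue η φ = X.residue η φ' * X.residue η (σ c) := by
    have h0 : (φ - φ' * σ c) • (Submodule.Quotient.mk m : Cyc.secFibre L η) = 0 := by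
      rw [sub_smul, mul_smul, ← Submodule.Quotient.mk_smul _ (σ c), ← hsm, ← hspec, ← hs', sub_self]
    rw [← map_mul, ← sub_eq_zero, ← map_sub]
    by_contra hne0
    have hu : IsUnit (φ - φ' * σ c) := by
      by_contra hnu
      exact hne0 ((IsLocalRing.residue_eq_zero_iff _).2 ((IsLocalRing.mem_maximalIdeal _).2 hnu))
    refine hs ?_
    rw [hs', hu.smul_eq_zero.1 h0, smul_zero]
  have hσ : X.residue η φ' = algebraMap (Cyc.LocQuot ξ η h) (X.residueField η)
      (Ideal.Quotient.mk _ (X.presheaf.germ U₁ ξ hξU.2 f' * d)) := by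
    show _ = X.residue η (σ (X.presheaf.germ U₁ ξ hξU.2 f' * d))
    rw [map_mul, map_mul, show σ (X.presheaf.germ U₁ ξ hξU.2 f') = φ from
      (TopCat.Presheaf.germ_stalkSpecializes_apply X.presheaf (U := U₁) hξU.2 h f').trans hf', hres, mul_assoc,
      ← map_mul, ← map_mul σ, mul_comm c d, hcd, map_one, map_one, mul_one]
  rw [show Cyc.ordAt ξ η h (X.residue η φ') = _ from congrArg (CycAlg.ordFrac (Cyc.LocQuot ξ η h) (X.residueField η)) hσ]
  exact ordFrac_algebraMap_isUnit _ _ _
    (((hunit.map (X.presheaf.germ U₁ ξ hξU.2).hom).mul (IsUnit.of_mul_eq_one _ hcd)).map (Ideal.Quotient.mk _))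

end Groth.Agent.S8923
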