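import Groth.Statements.S8924
import Groth.Agent.InjHullLib.Noetherian
-- import your own Groth.Agent.* helpers here

set_option autoImplicit false
universe u v
open InjHull

namespace Groth.Agent.S8924

/-- For a submodule M of an R-module N, the inclusion of M into N is an essential injection if and only
if every nonzero element x of N has a multiple f • x which is a nonzero element of M. -/
theorem result (R : Type u) [CommRing R] (N : Type v) [AddCommGroup N] [Module R N] (M : Submodule R N) : InjHull.IsEssentialInj M.subtype ↔ ∀ x : N, x ≠ 0 → ∃ f : R, f • x ∈ M ∧ f • x ≠ 0 := by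
  constructor
  · intro h x hx
    obtain ⟨r, ⟨m, hm⟩, hr⟩ := InjHullLib.exists_smul_mem_of_essential h hx
    exact ⟨r, by rw [← hm]; exact m.2, hr⟩
  · intro h
    refine InjHullLib.isEssentialInj_of_exists_smul (Submodule.injective_subtype M) fun x hx => ?_
    obtain ⟨r, hr, hr0⟩ := h x hx
    exact ⟨r, by rwa [Submodule.range_subtype], hr0⟩

end Groth.Agent.S8924
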