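import Groth.Statements.S8928
import Mathlib

set_option autoImplicit false
universe u
open scoped TensorProduct
open Disc

namespace Groth.Agent.S8928

/-- Let A → B be a map of Noetherian rings such that nonzerodivisors of A map to nonzerodivisors of B
and Q(A) ⊗_A B is flat over the total ring of fractions Q(A). Then B_q is flat over A for every
associated prime q of B and for every prime q of B lying over an associated prime of A. -/
theorem result (A B : Type u) [CommRing A] [CommRing B] [IsNoetherianRing A] [IsNoetherianRing B] [Algebra A B] (h1 : nonZeroDivisors A ≤ (nonZeroDivisors B).comap (algebraMap A B)) (h2 : Module.Flat (FractionRing A) (FractionRing A ⊗[A] B)) : (∀ (q : Ideal B) [q.IsPrime], IsAssociatedPrime q B → Module.Flat A (Localization.AtPrime q)) ∧ (∀ (q : Ideal B) [q.IsPrime], IsAssociatedPrime (q.comap (algebraMap A B)) A → Module.Flat A (Localization.AtPrime q)) := by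
  have key : ∀ (q : Ideal B) [q.IsPrime], (∀ a ∈ nonZeroDivisors A, algebraMap A B a ∉ q) →
      Module.Flat A (Localization.AtPrime q) := by
    intro q _ hq
    let Q := FractionRing A
    let T := Q ⊗[A] B
    let S := Algebra.algebraMapSubmonoid B (nonZeroDivisors A)
    letI : Algebra B T := Algebra.TensorProduct.rightAlgebra
    have : IsLocalization S T := IsLocalization.tensorRight Q (nonZeroDivisors A)
    have hle : S ≤ q.primeCompl := by
      rintro _ ⟨a, ha, rfl⟩
      exact hq a ha
    let L := Localization.AtPrime q
    let f : T →+* L := IsLocalization.lift (M := S) (g := algebraMap B L) fun s =>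
      IsLocalization.map_units L ⟨s.1, hle s.2⟩
    letI : Algebra T L := f.toAlgebra
    have : IsScalarTower B T L := IsScalarTower.of_algebraMap_eq fun b => (IsLocalization.lift_eq (M := S) _ b).symm
    have := IsLocalization.isLocalization_of_submonoid_le T L S q.primeCompl hle
    have : Module.Flat T L := IsLocalization.flat L (q.primeCompl.map (algebraMap B T))
    have : IsScalarTower A T L := IsScalarTower.of_algebraMap_eq (R := A) (S := T) (A := L) fun a => by
      rw [IsScalarTower.algebraMap_apply A B L, IsScalarTower.algebraMap_apply A B T,
        ← IsScalarTower.algebraMap_apply B T L]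
    have : Module.Flat A Q := IsLocalization.flat Q (nonZeroDivisors A)
    have : Module.Flat Q T := h2
    have : Module.Flat A T := Module.Flat.trans A Q T
    exact Module.Flat.trans A T L
  refine ⟨fun q _ hass => key q fun a ha haq => ?_, fun q _ hass => key q fun a ha haq => ?_⟩
  · exact ((biUnion_associatedPrimes_eq_compl_nonZeroDivisors B).le
      (Set.mem_biUnion (show q ∈ associatedPrimes B B from hass) haq)) (h1 ha)
  · exact ((biUnion_associatedPrimes_eq_compl_nonZeroDivisors A).le
      (Set.mem_biUnion (show q.comap (algebraMap A B) ∈ associatedPrimes A A from hass)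
        (show a ∈ (q.comap (algebraMap A B) : Set A) from haq))) ha

end Groth.Agent.S8928
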