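import Groth.Statements.S8929
import Groth.Agent.FlatLib.OpenFP


set_option autoImplicit false
set_option linter.all false
universe u
open scoped TensorProduct
open Disc

namespace Groth.Agent.S8929

/-- Let A → B be a map of Noetherian rings with the going-up property. If B_q is flat over A for every
associated prime q of B and for every prime q of B lying over an associated prime of A, then Q(A)
⊗_A B is flat over the total ring of fractions Q(A). -/
theorem result (A B : Type u) [CommRing A] [CommRing B] [IsNoetherianRing A] [IsNoetherianRing B] [Algebra A B] [Algebra.HasGoingUp A B] (h3 : ∀ (q : Ideal B) [q.IsPrime], IsAssociatedPrime q B → Module.Flat A (Localization.AtPrime q)) (h4 : ∀ (q : Ideal B) [q.IsPrime], IsAssociatedPrime (q.comap (algebraMap A B)) A → Module.Flat A (Localization.AtPrime q)) : Module.Flat (FractionRing A) (FractionRing A ⊗[A] B) := by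
  classical
  let Q := FractionRing A
  let C := Q ⊗[A] B
  letI : Algebra B C := Algebra.TensorProduct.rightAlgebra
  haveI : Algebra.IsPushout A B Q C := (TensorProduct.isPushout).symm
  let T := Algebra.algebraMapSubmonoid B (nonZeroDivisors A)
  haveI : IsLocalization T C := (Algebra.isLocalization_iff_isPushout (nonZeroDivisors A) Q).2 inferInstance
  haveI : IsLocalizedModule T (Algebra.linearMap B C) := inferInstance
  rw [Module.flat_iff_of_isLocalization (FractionRing A) (nonZeroDivisors A)]
  refine (FlatLib.flat_localized_iff T (Algebra.linearMap B C)).mpr fun N₀ _ _ N x hx => ?_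
  by_contra hne
  push Not at hne
  obtain ⟨q, hq, hle, hdisj⟩ := Ideal.exists_le_prime_disjoint (Ideal.torsionOf B (B ⊗[A] N) x) T
    (Set.disjoint_left.2 fun b hb hbT => hne b hbT hb)
  haveI := hq
  have hsub : ((q.comap (algebraMap A B) : Ideal A) : Set A) ⊆ ⋃ p ∈ associatedPrimes A A, (p : Set A) := by
    rw [biUnion_associatedPrimes_eq_compl_regular A]
    intro a ha hreg
    exact Set.disjoint_left.1 hdisj (show algebraMap A B a ∈ (q : Set B) from ha) ⟨a,
      mem_nonZeroDivisors_iff_right.2 fun z hz => hreg (by show a • z = a • 0; rw [smul_zero, smul_eq_mul, mul_comm]; exact hz), rfl⟩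
  obtain ⟨p, hp, hqp⟩ : ∃ p ∈ associatedPrimes A A, q.comap (algebraMap A B) ≤ p := by
    have hfin := associatedPrimes.finite A A
    have hsub' : ((q.comap (algebraMap A B) : Ideal A) : Set A) ⊆ ⋃ p ∈ (↑hfin.toFinset : Set (Ideal A)), (p : Set A) := by
      rw [hfin.coe_toFinset]; exact hsub
    obtain ⟨p, hp, h⟩ := (Ideal.subset_union_prime ⊥ ⊥ (f := fun p : Ideal A => p)
      fun i hi _ _ => (hfin.mem_toFinset.1 hi).1).1 hsub'
    exact ⟨p, hfin.mem_toFinset.1 hp, h⟩
  haveI : p.IsPrime := hp.1
  haveI : q.LiesOver (q.comap (algebraMap A B)) := ⟨rfl⟩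
  obtain ⟨q', hqq', hq', hover⟩ := Ideal.exists_ideal_ge_liesOver_of_le (p := q.comap (algebraMap A B)) (q := p) q hqp
  haveI := hq'
  have hfl := h4 q' (by show IsAssociatedPrime (q'.under A) A; rw [← hover.over]; exact hp)
  obtain ⟨t, ht, htx⟩ := (FlatLib.flat_localized_iff q'.primeCompl
    (Algebra.linearMap B (Localization.AtPrime q'))).mp hfl N₀ N x hx
  exact ht (hqq' (hle htx))

end Groth.Agent.S8929
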