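import Groth.Statements.S8932
import Mathlib
import Groth.Agent.DualBCLib.GorApps
import Groth.Agent.GorLib.FieldExt
import Mathlib.RingTheory.TensorProduct.Pi
-- import your own Groth.Agent.* helpers here

set_option autoImplicit false
universe u
open CategoryTheory
open scoped TensorProduct
attribute [local instance] HasDerivedCategory.standard
open Dual

namespace Groth.Agent.S8932

/-- For a field extension K/k, a finite type k-algebra A and a dualizing complex ω for A, the derived
base change of ω along A → K ⊗_k A is a dualizing complex for K ⊗_k A (the derived base change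
functor being assumed to exist). -/
theorem result (k K : Type u) [Field k] [Field K] [Algebra k K] (A : Type u) [CommRing A] [Algebra k A] [Algebra.FiniteType k A] [DRing.HasLBaseChange (Algebra.TensorProduct.includeRight : A →ₐ[k] K ⊗[k] A).toRingHom] (ω : Dual.D A) (hω : Dual.IsDualizing A ω) : Dual.IsDualizing (K ⊗[k] A) ((DRing.LBaseChange (Algebra.TensorProduct.includeRight : A →ₐ[k] K ⊗[k] A).toRingHom).obj ω) := by
  haveI : IsNoetherianRing A := Algebra.FiniteType.isNoetherianRing k A
  letI : Algebra A (K ⊗[k] A) := Algebra.TensorProduct.rightAlgebra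
  haveI : Algebra.FiniteType K (K ⊗[k] A) := inferInstance
  haveI : IsNoetherianRing (K ⊗[k] A) := Algebra.FiniteType.isNoetherianRing K _
  haveI : IsScalarTower k A (K ⊗[k] A) := Algebra.TensorProduct.right_isScalarTower
  haveI : Module.Flat A (K ⊗[k] A) :=
    Module.Flat.of_linearEquiv (Algebra.TensorProduct.commRight k A K).symm.toLinearEquiv
  refine DualBCLib.isDualizing_of_fibreRings (A := A) (B := K ⊗[k] A) hω
    (DualBCLib.dim_finiteType_lt_top (A := K) (by rw [ringKrullDim_eq_zero_of_field]; exact WithBot.coe_lt_coe.2 (ENat.natCast_lt_top 0))) fun p _ => ?_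
  haveI : Algebra.EssFiniteType k p.ResidueField := Algebra.EssFiniteType.comp k A p.ResidueField
  refine GorLib.gorensteinRing_of_ringEquiv ?_ (GorLib.gorensteinRing_tensor_field (k := k) (L := p.ResidueField)
    (IntermediateField.fg_top_iff.2 inferInstance) (GorLib.gorensteinRing_of_field (K := K)))
  exact ((Algebra.TensorProduct.comm A (K ⊗[k] A) p.ResidueField).toRingEquiv.trans
    ((Algebra.TensorProduct.congr (AlgEquiv.refl : p.ResidueField ≃ₐ[A] p.ResidueField)
      (Algebra.TensorProduct.commRight k A K).symm).toRingEquiv.trans
      (Algebra.TensorProduct.cancelBaseChange k A A p.ResidueField K).toRingEquiv)).trans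
        (Algebra.TensorProduct.comm k p.ResidueField K).toRingEquiv

end Groth.Agent.S8932
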