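import Groth.Statements.S8933
import Groth.Agent.DRingLib.Rgamma

set_option autoImplicit false
universe u
open CategoryTheory CategoryTheory.Limits
attribute [local instance] HasDerivedCategory.standard
open LocCoh

namespace Groth.Agent.S8933

open Groth.Agent
open Groth.Agent.DCompLib (resM extM resD extD adjD φA)

theorem bij_of_equiv {A : Type u} [CommRing A] {M N : ModuleCat.{u} A} (e : M ≅ N) (f : A)
    (h : Function.Bijective fun x : M => f • x) : Function.Bijective fun x : N => f • x := by
  refine ⟨fun x y hxy => e.toLinearEquiv.symm.injective (h.1 ?_), fun y => ?_⟩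
  · show f • e.toLinearEquiv.symm x = f • e.toLinearEquiv.symm y
    rw [← map_smul, ← map_smul]
    exact congrArg _ hxy
  · obtain ⟨x, hx⟩ := h.2 (e.toLinearEquiv.symm y)
    exact ⟨e.toLinearEquiv x, by
      show f • e.toLinearEquiv x = y
      rw [← map_smul]
      exact (congrArg _ hx).trans (e.toLinearEquiv.apply_symm_apply y)⟩

theorem homologyMap_smul' {R : Type u} [Ring R] {C : Type (u+1)} [Category.{u} C] [Preadditive C]
    [Linear R C] [CategoryWithHomology C] {K L : CochainComplex C ℤ} (φ : K ⟶ L) (r : R) (i : ℤ) :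
    HomologicalComplex.homologyMap (r • φ) i = r • HomologicalComplex.homologyMap φ i := by
  have : (HomologicalComplex.shortComplexFunctor C (ComplexShape.up ℤ) i).map (r • φ) =
      r • (HomologicalComplex.shortComplexFunctor C (ComplexShape.up ℤ) i).map φ := by
    ext <;> rfl
  rw [HomologicalComplex.homologyMap, this, ShortComplex.homologyMap_smul]
  rfl

theorem smul_id_homology {A : Type u} [CommRing A] (G : CochainComplex (ModuleCat.{u} A) ℤ) (f : A) (i : ℤ) :
    HomologicalComplex.homologyMap (f • 𝟙 G) i = f • 𝟙 (G.homology i) := by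
  rw [homologyMap_smul', HomologicalComplex.homologyMap_id]

theorem bij_homology {A : Type u} [CommRing A] (K : CochainComplex (ModuleCat.{u} A) ℤ) (f : A)
    (hK : ∀ n : ℤ, Function.Bijective (fun x : K.X n => f • x)) (i : ℤ) :
    Function.Bijective fun x : K.homology i => f • x := by
  haveI : ∀ n, IsIso ((f • 𝟙 K).f n) := fun n =>
    (ConcreteCategory.isIso_iff_bijective _).2 (hK n)
  haveI : IsIso (f • 𝟙 K) := HomologicalComplex.Hom.isIso_of_components _
  have h := smul_id_homology K f i
  haveI : IsIso (f • 𝟙 (K.homology i)) := h ▸ inferInstance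
  exact ConcreteCategory.bijective_of_isIso (f • 𝟙 (K.homology i))

theorem gamma_homology_zero {A : Type u} [CommRing A] (I : Ideal A) (f : A) (hf : f ∈ I)
    (E : CochainComplex (ModuleCat.{u} A) ℤ) (i : ℤ)
    (hb : Function.Bijective fun x : (((DRing.gammaI I).mapHomologicalComplex _).obj E).homology i => f • x) :
    IsZero ((((DRing.gammaI I).mapHomologicalComplex _).obj E).homology i) := by
  set G := ((DRing.gammaI I).mapHomologicalComplex (ComplexShape.up ℤ)).obj E
  have hX : DRingLib.IsTorsM f (G.X i) := fun x => by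
    obtain ⟨n, hn⟩ := x.2
    exact ⟨n, Subtype.ext (hn (f ^ n) (Ideal.pow_mem_pow hf n))⟩
  have hH : DRingLib.IsTorsM f (G.homology i) :=
    DRingLib.isTorsM_of_surjective (G.homologyπ i) ((ModuleCat.epi_iff_surjective _).1 inferInstance)
      (DRingLib.isTorsM_of_injective (G.iCycles i) ((ModuleCat.mono_iff_injective _).1 inferInstance) hX)
  haveI : Subsingleton (G.homology i) := subsingleton_of_forall_eq 0 fun x => by
    obtain ⟨n, hn⟩ := hH x
    induction n generalizing x with
    | zero => simpa using hn
    | succ n ih =>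
      refine hb.1 ?_
      show f • x = f • (0 : G.homology i)
      rw [smul_zero]
      exact ih (f • x) (by rwa [pow_succ, mul_smul] at hn)
  exact ModuleCat.isZero_of_subsingleton _

theorem bij_of_isIso {A : Type u} [CommRing A] (G : CochainComplex (ModuleCat.{u} A) ℤ) (f : A) (i : ℤ)
    (h : IsIso (HomologicalComplex.homologyMap (f • 𝟙 G) i)) :
    Function.Bijective fun x : G.homology i => f • x := by
  have e := smul_id_homology G f i
  haveI : IsIso (f • 𝟙 (G.homology i)) := e ▸ h
  exact ConcreteCategory.bijective_of_isIso (f • 𝟙 (G.homology i))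

theorem isIso_homologyMap_smul {A : Type u} [CommRing A] (G : CochainComplex (ModuleCat.{u} A) ℤ) (f : A)
    (i : ℤ) (h : Function.Bijective fun x : G.homology i => f • x) :
    IsIso (HomologicalComplex.homologyMap (f • 𝟙 G) i) := by
  have e := smul_id_homology G f i
  rw [e]
  exact (ConcreteCategory.isIso_iff_bijective _).2 h

theorem main {A : Type u} [CommRing A] (I : Ideal A) [DRing.HasRgammaI I]
    (K : CochainComplex (ModuleCat.{u} A) ℤ) (f : A) (hf : f ∈ I)
    (hK : ∀ n : ℤ, Function.Bijective (fun x : K.X n => f • x)) :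
    IsZero ((DRing.RgammaI I).obj (DerivedCategory.Q.obj K)) := by
  obtain ⟨E, ι, hE, hι, hinj⟩ := DerLib.KInjRes.exists_resolution K
  haveI := (HomologicalComplex.mem_quasiIso_iff _).1 hι.2
  let W := HomotopyCategory.quasiIso (ModuleCat.{u} A) (ComplexShape.up ℤ)
  let α := (DRing.gammaIKh I).totalRightDerivedUnit DerivedCategory.Qh W
  haveI hα := DerLib.KInjDerived.isIso_app (DRing.RgammaI I) α (DerLib.KInjDerived.enoughKInj _) E
  let qt := HomotopyCategory.quotient (ModuleCat.{u} A) (ComplexShape.up ℤ)
  let Γc := (DRing.gammaI I).mapHomologicalComplex (ComplexShape.up ℤ)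
  let P := qt.obj E
  -- `f` is an automorphism of `E` in the derived category
  let φ : E ⟶ E := f • 𝟙 E
  haveI : IsIso (DerivedCategory.Q.map φ) := by
    rw [DerivedCategory.isIso_Q_map_iff_quasiIso, quasiIso_iff]
    intro i
    rw [quasiIsoAt_iff_isIso_homologyMap]
    refine isIso_homologyMap_smul E f i ?_
    exact bij_of_equiv (asIso (HomologicalComplex.homologyMap ι i)) f (bij_homology K f hK i)
  haveI : IsIso (DerivedCategory.Qh.map (qt.map φ)) :=
    (NatIso.isIso_map_iff (DerivedCategory.quotientCompQhIso (ModuleCat.{u} A)).symm φ).1 inferInstance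
  haveI : IsIso ((DRing.gammaIKh I).map (qt.map φ)) := by
    have h := α.naturality (qt.map φ)
    have e : (DRing.gammaIKh I).map (qt.map φ) =
        α.app P ≫ (DRing.RgammaI I).map (DerivedCategory.Qh.map (qt.map φ)) ≫ inv (α.app P) := by
      rw [← Category.assoc, IsIso.eq_comp_inv]
      exact h
    rw [e]
    infer_instance
  haveI : IsIso (DerivedCategory.Qh.map (qt.map (Γc.map φ))) := by
    have := (NatIso.isIso_map_iff
      (Functor.isoWhiskerRight ((DRing.gammaI I).mapHomotopyCategoryFactors (ComplexShape.up ℤ))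
        DerivedCategory.Qh) φ).1
    exact this (inferInstanceAs (IsIso ((DRing.gammaIKh I).map (qt.map φ))))
  haveI : IsIso (DerivedCategory.Q.map (Γc.map φ)) :=
    (NatIso.isIso_map_iff (DerivedCategory.quotientCompQhIso (ModuleCat.{u} A)) (Γc.map φ)).1
      (inferInstanceAs (IsIso (DerivedCategory.Qh.map (qt.map (Γc.map φ)))))
  have hφ : Γc.map φ = f • 𝟙 (Γc.obj E) := by
    ext n x
    rfl
  have hz : ∀ i, IsZero ((Γc.obj E).homology i) := fun i => by
    refine gamma_homology_zero I f hf E i (bij_of_isIso _ f i ?_)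
    have hq : QuasiIso (Γc.map φ) := (DerivedCategory.isIso_Q_map_iff_quasiIso (C := ModuleCat.{u} A) (Γc.map φ)).1 inferInstance
    rw [← hφ]
    exact (quasiIsoAt_iff_isIso_homologyMap _ _).1 (hq.quasiIsoAt i)
  have hQ : IsZero (DerivedCategory.Q.obj (Γc.obj E)) :=
    DerLib.KInjUse.isZero_Q_obj fun i => (HomologicalComplex.exactAt_iff_isZero_homology _ _).2 (hz i)
  refine hQ.of_iso ?_
  exact (DRing.RgammaI I).mapIso (asIso (DerivedCategory.Q.map ι) ≪≫
      ((DerivedCategory.quotientCompQhIso (ModuleCat.{u} A)).app E).symm) ≪≫ (asIso (α.app P)).symm ≪≫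
    DerivedCategory.Qh.mapIso (((DRing.gammaI I).mapHomotopyCategoryFactors (ComplexShape.up ℤ)).app E) ≪≫
    (DerivedCategory.quotientCompQhIso (ModuleCat.{u} A)).app (Γc.obj E)

/-- For a ring A, a finitely generated ideal I and a complex K of A-modules such that multiplication by
some f ∈ I is bijective on every term of K, the object RΓ_I(K) of D(A) is zero; here RΓ_I is the
right derived functor of the I-power torsion functor, assumed to exist. -/
theorem result (A : Type u) [CommRing A] (I : Ideal A) (hI : I.FG) [DRing.HasRgammaI I] (K : CochainComplex (ModuleCat.{u} A) ℤ) (f : A) (hf : f ∈ I) (hK : ∀ n : ℤ, Function.Bijective (fun x : K.X n => f • x)) : IsZero ((DRing.RgammaI I).obj (DerivedCategory.Q.obj K)) := by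
  exact main I K f hf hK

end Groth.Agent.S8933
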