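import Groth.Statements.S8936
import Groth.Agent.InjHullLib.Noetherian
-- import your own Groth.Agent.* helpers here

set_option autoImplicit false
universe u v
open InjHull

namespace Groth.Agent.S8936

/-- For a directed system (E_i) of R-modules over a nonempty directed preorder and a compatible family
of essential injections M → E_i, the induced map from M to the direct limit of the E_i is an
essential injection. -/
theorem result (R : Type u) [CommRing R] (ι : Type v) [Preorder ι] [IsDirectedOrder ι] [DecidableEq ι] (i₀ : ι) (E : ι → Type v) [∀ i, AddCommGroup (E i)] [∀ i, Module R (E i)] (f : ∀ i j, i ≤ j → E i →ₗ[R] E j) [DirectedSystem E fun i j h => f i j h] (M : Type v) [AddCommGroup M] [Module R M] (g : ∀ i, M →ₗ[R] E i) (hg : ∀ i j (h : i ≤ j), f i j h ∘ₗ g i = g j) (he : ∀ i, InjHull.IsEssentialInj (g i)) : InjHull.IsEssentialInj (Module.DirectLimit.of R ι E f i₀ ∘ₗ g i₀) := by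
  haveI : Nonempty ι := ⟨i₀⟩
  have hcomp : ∀ i m, Module.DirectLimit.of R ι E f i (g i m) = Module.DirectLimit.of R ι E f i₀ (g i₀ m) := by
    intro i m
    obtain ⟨j, hij, h0j⟩ := exists_ge_ge i i₀
    rw [← Module.DirectLimit.of_f (hij := hij), ← Module.DirectLimit.of_f (hij := h0j),
      show f i j hij (g i m) = g j m from LinearMap.congr_fun (hg i j hij) m,
      show f i₀ j h0j (g i₀ m) = g j m from LinearMap.congr_fun (hg i₀ j h0j) m]
  have hinj : ∀ i m, Module.DirectLimit.of R ι E f i (g i m) = 0 → m = 0 := by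
    intro i m h
    obtain ⟨j, hij, h⟩ := Module.DirectLimit.of.zero_exact h
    rw [show f i j hij (g i m) = g j m from LinearMap.congr_fun (hg i j hij) m] at h
    exact (he j).injective (h.trans (map_zero (g j)).symm)
  refine InjHullLib.isEssentialInj_of_exists_smul ((injective_iff_map_eq_zero _).2 fun m hm => hinj i₀ m hm) fun x hx => ?_
  obtain ⟨i, e, rfl⟩ := Module.DirectLimit.exists_of x
  obtain ⟨r, ⟨m, hm⟩, hr⟩ := InjHullLib.exists_smul_mem_of_essential (he i) (x := e) (fun h => hx (by rw [h, map_zero]))
  refine ⟨r, ⟨m, ?_⟩, fun h => ?_⟩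
  · rw [LinearMap.comp_apply, ← hcomp i m, hm, map_smul]
  · rw [← map_smul, ← hm] at h
    exact hr (by rw [← hm, hinj i m h, map_zero])

end Groth.Agent.S8936
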