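import Groth.Statements.S8937
import Mathlib
import Groth.Agent.LefFormalLib.Bridge
import Groth.Agent.FormalPunctLib.Iso
import Groth.Agent.FibVanLib.Affine
import Groth.Agent.ModPairLib.Basic
import Groth.Agent.BlowUpLib.Props
import Groth.Agent.EffCartLib.Basic
import Groth.Agent.QCohLib.Push
-- import your own Groth.Agent.* helpers here

set_option autoImplicit false
universe u
open CategoryTheory AlgebraicGeometry
attribute [local instance] HasDerivedCategory.standard
open LocCoh

namespace Groth.Agent.S8937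

/-- Let A be a Noetherian ring, I an ideal and b : X → Spec A a blowing up of Spec A in I. If the fibres
of b have dimension at most d, then cd(A, I) ≤ d + 1, i.e. H^i_I(M) = 0 for all A-modules M and all
i > d + 1. -/
theorem result (A : Type u) [CommRing A] [IsNoetherianRing A] (I : Ideal A) (X : Scheme.{u}) (b : X ⟶ Spec (CommRingCat.of A)) (hb : BlowUp.IsBlowUp b (Curv2.idealSheaf A I)) (d : ℕ) (hd : Dual3.FibreDimLE b d) : LocCoh.CdLE A I (d + 1) := by
  haveI : IsNoetherianRing (CommRingCat.of A) := inferInstanceAs (IsNoetherianRing A)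
  let 𝓘 := Curv2.idealSheaf A I
  haveI : IsProper b := BlowUpLib.isProper_of_isBlowUp hb fun U => (isNoetherianRing_iff_ideal_fg _).1 (IsLocallyNoetherian.component_noetherian U) _
  let U : (Spec (CommRingCat.of A)).Opens := LocCoh.puncturedOpen A I
  have hsupp : ∀ x : (Spec (CommRingCat.of A) : Scheme.{u}), x ∈ 𝓘.support ↔
      x ∈ PrimeSpectrum.zeroLocus (I : Set A) := fun x => by
    rw [← PrimeSpectrum.zeroLocus_span (I : Set A), Ideal.span_eq]
    have h1 : ((Scheme.IdealSheafData.ofIdealTop (I.map (Scheme.ΓSpecIso (CommRingCat.of A)).inv.hom)).support :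
        Set (Spec (CommRingCat.of A))) =
        (PrimeSpectrum.zeroLocus (I : Set A) : Set (Spec (CommRingCat.of A))) := by
      erw [Scheme.IdealSheafData.coe_support_ofIdealTop, Spec_zeroLocus, ← Ideal.coe_comap,
        Ideal.comap_map_of_bijective _ (ConcreteCategory.bijective_of_isIso (Scheme.ΓSpecIso (CommRingCat.of A)).inv)]
    exact Set.ext_iff.1 h1 x
  have hU : U ≤ 𝓘.support.compl := fun x hx hx' => hx ((hsupp x).1 hx')
  have hle : 𝓘.support.compl ≤ U := fun x hx hx' => hx ((hsupp x).2 hx')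
  haveI : IsIso (b ∣_ U) := EffCartLib.isIso_off_center 𝓘 b hb U hU
  have hW : ModPair.interior (𝓘.comap b) = b ⁻¹ᵁ U := by
    rw [ModPairLib.interior_comap, show ModPair.interior 𝓘 = U from le_antisymm hle hU]
  haveI : IsAffineHom (b ⁻¹ᵁ U).ι := hW ▸ ModPairLib.isAffineHom_interior hb.1
  let j : (U : Scheme.{u}) ⟶ X := inv (b ∣_ U) ≫ (b ⁻¹ᵁ U).ι
  have hvan : ∀ (M : Type u) [AddCommGroup M] [Module A M] (i : ℕ), d < i →
      Subsingleton ((FormalPunctLib.HP I i).obj (ModuleCat.of A M)) := fun M _ _ i hi => by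
    let G := (Formal2VBLib.restrTilde U).obj (ModuleCat.of A M)
    haveI : Coh.IsQCoh G := inferInstanceAs (Coh.IsQCoh ((tilde (R := CommRingCat.of A) (ModuleCat.of A M)).restrict U.ι))
    haveI : Coh.IsQCoh ((Coh.push j).obj G) := QCohLib.isQCoh_pushforward j G
    haveI := FibVanLib.subsingleton_HH_affine b d hd ((Coh.push j).obj G) i hi
    haveI : Subsingleton (Coh.HH (U : Scheme.{u}) G i) :=
      (QCohLib.nonempty_HH_push j G i).some.toEquiv.subsingleton
    exact ((LefFormalLib.hvH_bijective (A := A) (V := U) i (ModuleCat.of A M)).1).subsingleton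
  intro M _ _ i hi
  obtain ⟨k, rfl⟩ : ∃ k, i = k + 1 := ⟨i - 1, by omega⟩
  haveI := hvan M k (by omega)
  exact ((FormalPunctLib.punctIso I k (by omega)).app (ModuleCat.of A M)).addCommGroupIsoToAddEquiv.toEquiv.symm.subsingleton

end Groth.Agent.S8937
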