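import Groth.Statements.S8946
import Groth.Agent.LcFinLib.MapInj

set_option autoImplicit false
universe u
open CategoryTheory
open LocCoh

namespace Groth.Agent.S8946

/-- Let A be a Noetherian ring of finite dimension, T ⊆ Spec A a specialization-stable subset, (M_n) an
inverse system of A-modules and i ≥ 0. Suppose m′(m) ≥ m is such that for every p ∈ T: the maps
H^{i-1}_{pA_p}(M_{k,p}) → H^{i-1}_{pA_p}(M_{m,p}) vanish for k ≥ m′(m) (no condition when i = 0),
and the maps H^i_{pA_p}(M_{k,p}) → H^i_{pA_p}(M_{m,p}) have the same image for all k ≥ m′(m), this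
image mapping injectively into H^i_{pA_p}(M_{0,p}). Then there is m₀ such that for every m ≥ m₀
there is m″ ≥ m such that for k ≥ m″ the image of H^i_T(M_k) → H^i_T(M_m) maps injectively into
H^i_T(M_{m₀}). -/
theorem result (A : Type u) [CommRing A] [IsNoetherianRing A] (hA : ringKrullDim A < ⊤) (T : Set (PrimeSpectrum A)) (hT : StableUnderSpecialization T) (M : ℕ → Type u) [∀ n, AddCommGroup (M n)] [∀ n, Module A (M n)] (φ : ∀ k m : ℕ, m ≤ k → (M k →ₗ[A] M m)) (hφ : ∀ (k l m : ℕ) (h₁ : m ≤ l) (h₂ : l ≤ k), φ k m (h₁.trans h₂) = φ l m h₁ ∘ₗ φ k l h₂) (i : ℕ) (m' : ℕ → ℕ) (hm' : ∀ m, m ≤ m' m) (h1 : 0 < i → ∀ (p : PrimeSpectrum A), p ∈ T → ∀ (m k : ℕ) (h : m ≤ k), m' m ≤ k → (localCohomology (IsLocalRing.maximalIdeal (Localization.AtPrime p.asIdeal)) (i - 1)).map (ModuleCat.ofHom (LocalizedModule.map p.asIdeal.primeCompl (φ k m h))) = 0) (h2 : ∀ (p : PrimeSpectrum A), p ∈ T → ∀ (m k : ℕ) (h : m ≤ k), m' m ≤ k → LinearMap.range ((localCohomology (IsLocalRing.maximalIdeal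 (Localization.AtPrime p.asIdeal)) i).map (ModuleCat.ofHom (LocalizedModule.map p.asIdeal.primeCompl (φ k m h)))).hom = LinearMap.range ((localCohomology (IsLocalRing.maximalIdeal (Localization.AtPrime p.asIdeal)) i).map (ModuleCat.ofHom (LocalizedModule.map p.asIdeal.primeCompl (φ (m' m) m (hm' m))))).hom) (h3 : ∀ (p : PrimeSpectrum A), p ∈ T → ∀ (m : ℕ) (x : ↑((localCohomology (IsLocalRing.maximalIdeal (Localization.AtPrime p.asIdeal)) i).obj (ModuleCat.of (Localization.AtPrime p.asIdeal) (LocalizedModule p.asIdeal.primeCompl (M m))))), x ∈ LinearMap.range ((localCohomology (IsLocalRing.maximalIdeal (Localization.AtPrime p.asIdeal)) i).map (ModuleCat.ofHom (LocalizedModule.map p.asIdeal.primeCompl (φ (m' m) m (hm' m))))).hom → ((localCohomology (IsLocalRing.maximalIdeal (Localization.AtPrime p.asIdeal)) i).map (ModuleCat.ofHom (LocalizedModule.map p.asIdeal.primeCompl (φ m 0 (Nat.zero_le m))))).hom x = 0 → x = 0) : ∃ m₀ : ℕ, ∀ m : ℕ, ∀ (hm : m₀ ≤ m), ∃ m''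 : ℕ, m ≤ m'' ∧ ∀ (k : ℕ) (h : m ≤ k), m'' ≤ k → ∀ x : ↑((localCohomology.ofDiagram (Dual2.idealsInDiagram T) i).obj (ModuleCat.of A (M m))), x ∈ LinearMap.range ((localCohomology.ofDiagram (Dual2.idealsInDiagram T) i).map (ModuleCat.ofHom (φ k m h))).hom → ((localCohomology.ofDiagram (Dual2.idealsInDiagram T) i).map (ModuleCat.ofHom (φ m m₀ hm))).hom x = 0 → x = 0 := by
  classical
  obtain ⟨e, he⟩ : ∃ e : ℕ, Order.krullDim ↥T ≤ (e : WithBot ℕ∞) := by
    have h : Order.krullDim ↥T ≤ ringKrullDim A :=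
      Order.krullDim_le_of_strictMono (fun q : ↥T => q.1) fun _ _ hab => hab
    revert hA h
    generalize ringKrullDim A = d
    induction d with
    | bot => exact fun _ h => ⟨0, h.trans bot_le⟩
    | coe d =>
      induction d using ENat.recTopCoe with
      | top => exact fun h => absurd h (lt_irrefl _)
      | coe d => exact fun _ h => ⟨d, h⟩
  have hcomp : ∀ (p : PrimeSpectrum A) (k l n : ℕ) (hnl : n ≤ l) (hlk : l ≤ k),
      ModuleCat.ofHom (LocalizedModule.map p.asIdeal.primeCompl (φ k n (hnl.trans hlk))) =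
        ModuleCat.ofHom (LocalizedModule.map p.asIdeal.primeCompl (φ k l hlk)) ≫
          ModuleCat.ofHom (LocalizedModule.map p.asIdeal.primeCompl (φ l n hnl)) := by
    intro p k l n hnl hlk
    rw [hφ k l n hnl hlk]
    apply ModuleCat.hom_ext
    apply LinearMap.ext
    intro z
    induction z using LocalizedModule.induction_on with
    | h m s => simp [LocalizedModule.map_mk]
  obtain ⟨m₀, hm₀⟩ := LcFinLib.exists_stable_injective T hT e he (fun n => ModuleCat.of A (M n))
    (fun k n h => ModuleCat.ofHom (φ k n h))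
    (fun k l n h₁ h₂ => by rw [hφ k l n h₁ h₂]; rfl) i m' hm'
    (fun hi q hq n k h hk => LcFinLib.locKillMap_of_map_eq_zero q (i - 1) _ (h1 hi q hq n k h hk))
    (fun q hq n k h hk x hx => by
      refine (LcFinLib.smul_eq_zero_iff_locH q i _ x).2 ?_
      have h0 := (LcFinLib.smul_eq_zero_iff_locH q i _ x).1 hx
      refine h3 q hq n _ ?_ ?_
      · rw [← h2 q hq n k h hk]
        exact LinearMap.mem_range_self _ _
      · rw [hcomp q k n 0 (Nat.zero_le n) h, Functor.map_comp, ModuleCat.comp_apply] at h0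
        exact h0)
  refine ⟨m₀, fun m hm => ?_⟩
  obtain ⟨m'', hmm, hinj⟩ := hm₀ m hm
  refine ⟨m'', hmm, fun k h hk x hx hx0 => ?_⟩
  obtain ⟨z, rfl⟩ := hx
  refine hinj k hk z ?_
  have hc : ModuleCat.ofHom (φ k m₀ (hm.trans h)) = ModuleCat.ofHom (φ k m h) ≫ ModuleCat.ofHom (φ m m₀ hm) := by
    rw [hφ k m m₀ hm h]; rfl
  show ((localCohomology.ofDiagram (Dual2.idealsInDiagram T) i).map
    (ModuleCat.ofHom (φ k m₀ (hm.trans h)))).hom z = 0
  rw [hc, Functor.map_comp, ModuleCat.comp_apply]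
  exact hx0

end Groth.Agent.S8946
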