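import Groth.Statements.S8948
import Groth.Agent.GorLib.Fibres

set_option autoImplicit false
universe u
open scoped TensorProduct
open Goren

namespace Groth.Agent.S8948

/-- Base change of the Gorenstein property along finitely generated field extensions. If R is a
(Noetherian) Gorenstein algebra over a field k and K/k is a finitely generated field extension, then
K ⊗_k R is a Gorenstein ring. -/
theorem result (k K R : Type u) [Field k] [Field K] [Algebra k K] (hK : ∃ s : Finset K, IntermediateField.adjoin k (s : Set K) = ⊤) [CommRing R] [Algebra k R] [LocCoh.IsGorensteinRing R] : LocCoh.IsGorensteinRing (K ⊗[k] R) := by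
  exact GorLib.gorensteinRing_of_ringEquiv (Algebra.TensorProduct.comm k K R).toRingEquiv
    (GorLib.gorensteinRing_tensor_field hK inferInstance)

end Groth.Agent.S8948
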