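import Groth.Statements.S8949
import Groth.Agent.GorLib.Fibres

set_option autoImplicit false
universe u
open scoped TensorProduct
open Goren

namespace Groth.Agent.S8949

/-- Gorenstein fibres are preserved by composing with a regular map. For flat maps A → B → C of
Noetherian rings, if the fibres of A → B are Gorenstein rings and B → C is regular, then the fibres
of A → C are Gorenstein rings. -/
theorem result (A B C : Type u) [CommRing A] [CommRing B] [CommRing C] [IsNoetherianRing A] [IsNoetherianRing B] [IsNoetherianRing C] [Algebra A B] [Algebra B C] [Algebra A C] [IsScalarTower A B C] [Module.Flat A B] [Module.Flat B C] (hAB : ∀ (q : Ideal A) [q.IsPrime], LocCoh.IsGorensteinRing (q.Fiber B)) (hBC : CAlg.IsRegularHom B C) : ∀ (q : Ideal A) [q.IsPrime], LocCoh.IsGorensteinRing (q.Fiber C) := by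
  intro q _
  haveI : IsNoetherianRing (q.Fiber C) := by
    haveI : IsNoetherianRing (C ⊗[A] q.ResidueField) := Algebra.EssFiniteType.isNoetherianRing C _
    exact isNoetherianRing_of_ringEquiv _ (Algebra.TensorProduct.comm A C q.ResidueField).toRingEquiv
  refine GorLib.gorensteinRing_fiber fun r _ hr => ?_
  let P := r.comap (algebraMap B C)
  have hP : P.comap (algebraMap A B) = q := by rw [Ideal.comap_comap, ← IsScalarTower.algebraMap_eq]; exact hr
  have hf := GorLib.map_maximalIdeal_localRingHom q P hP.symm
  have hg := GorLib.map_maximalIdeal_localRingHom P r rfl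
  have hcomp : (Localization.localRingHom P r (algebraMap B C) rfl).comp (Localization.localRingHom q P (algebraMap A B) hP.symm) =
      Localization.localRingHom q r (algebraMap A C) hr.symm := by
    refine IsLocalization.ringHom_ext q.primeCompl (RingHom.ext fun a => ?_)
    simp only [RingHom.comp_apply, Localization.localRingHom_to_map]
    rw [← IsScalarTower.algebraMap_apply A B C]
  have hfg := GorLib.map_maximalIdeal_localRingHom q r hr.symm
  rw [← hcomp] at hfg
  haveI := Localization.isLocalHom_localRingHom q P (algebraMap A B) hP.symm
  haveI := Localization.isLocalHom_localRingHom P r (algebraMap B C) rfl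
  haveI : IsNoetherianRing (Localization.AtPrime P) := IsLocalization.isNoetherianRing P.primeCompl _ inferInstance
  haveI : IsNoetherianRing (Localization.AtPrime r) := IsLocalization.isNoetherianRing r.primeCompl _ inferInstance
  refine (GorLib.gorenstein_congr (Ideal.quotEquivOfEq hfg)).1 ?_
  refine (GorLib.gorenstein_fibre_comp _ _ (RingHom.Flat.localRingHom (RingHom.flat_algebraMap_iff.2 inferInstance) r P rfl)
    inferInstance inferInstance).2 ⟨?_, ?_⟩
  · exact (GorLib.gorenstein_congr (Ideal.quotEquivOfEq hf)).2 (GorLib.gorenstein_fibre_loc (hAB q) P hP)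
  · exact (GorLib.gorenstein_congr (Ideal.quotEquivOfEq hg)).2
      (GorLib.gorenstein_fibre_loc (GorLib.gorensteinRing_of_isGeometricallyRegular (hBC.2 P).2) r rfl)

end Groth.Agent.S8949
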