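import Groth.Statements.S8953
import Groth.Agent.ShriekRingLib.BaseChangeApps
import Groth.Agent.ShriekRingLib.OpenImm
import Groth.Agent.LcCxLib.RgammaMap
import Groth.Agent.ShriekRingLib.FlatRange
import Mathlib.RingTheory.FiniteType

set_option autoImplicit false
set_option backward.isDefEq.respectTransparency false
set_option backward.isDefEq.respectTransparency.types false
set_option maxHeartbeats 1000000
universe u
open CategoryTheory AlgebraicGeometry
open scoped TensorProduct
attribute [local instance] HasDerivedCategory.standard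
open Disc

namespace Groth.Agent.S8953

attribute [local instance] HasDerivedCategory.standard
open DTenLib.Point (hH sg)
open Groth.Agent Groth.Agent.DualCxLib

/-- Degree-zero cohomology of the right adjoint of restriction at the base ring. -/
theorem nonempty_H0_omega (A S : Type u) [CommRing A] [CommRing S] [Algebra A S]
    (R : Dual.D A ⥤ Dual.D S) (adj : DRing.restrictD (algebraMap A S) ⊣ R) :
    Nonempty (Dual.HD S (R.obj (Dual.inD A A)) 0 ≃ₗ[S] Disc.Omega A S) := by
  let Z := R.obj (Dual.inD A A)
  let ε : (DRing.restrictD (algebraMap A S)).obj Z ⟶ sg (ModuleCat.of A A) 0 := adj.counit.app (Dual.inD A A)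
  have hε : FinDualLib.IsCoUniv (algebraMap A S) ε := FinDualLib.isCoUniv_of_adjunction _ adj _
  let Res := ModuleCat.restrictScalars.{u} (algebraMap A S)
  let F := DerivedCategory.singleFunctor (ModuleCat.{u} A) 0
  let G := DerivedCategory.singleFunctor (ModuleCat.{u} S) 0
  let N := ModuleCat.of S S
  let e := (Res.mapDerivedCategorySingleFunctor 0).app N
  let L₀ : (hH S 0).obj Z ≃ₗ[S] (sg N 0 ⟶ Z) :=
    (extHL Z 0).symm.trans (postcompL (sg N 0) ((shiftFunctorZero (Dual.D S) ℤ).app Z))
  have hθ : Function.Bijective (fun f : sg N 0 ⟶ Z =>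
      F.preimage (e.inv ≫ (DRing.restrictD (algebraMap A S)).map f ≫ ε)) := by
    refine ((Functor.FullyFaithful.ofFullyFaithful F).homEquiv.symm.bijective).comp ?_
    exact (Iso.homFromEquiv e).bijective.comp (hε _)
  let θ := fun f : sg N 0 ⟶ Z => F.preimage (e.inv ≫ (DRing.restrictD (algebraMap A S)).map f ≫ ε)
  have hadd : ∀ f g, θ (f + g) = θ f + θ g := fun f g => F.map_injective (by
    simp only [θ, Functor.map_preimage, Functor.map_add, Preadditive.add_comp, Preadditive.comp_add])
  have hsmul : ∀ (s : S) f, θ (s • f) = Res.map (s • 𝟙 N) ≫ θ f := fun s f => F.map_injective (by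
    have h1 : s • f = G.map (s • 𝟙 N) ≫ f := by
      rw [Functor.map_smul, CategoryTheory.Functor.map_id, Linear.smul_comp, Category.id_comp]
    simp only [θ, Functor.map_preimage, Functor.map_comp]
    rw [h1, Functor.map_comp, Category.assoc]
    exact ((Res.mapDerivedCategorySingleFunctor 0).inv.naturality_assoc (s • 𝟙 N) _).symm)
  let Φ : ((hH S 0).obj Z) → Disc.Omega A S := fun v =>
    ⟨{ toFun := fun b => (θ (L₀ v)).hom b
       map_add' := fun x y => map_add (θ (L₀ v)).hom x y
       map_smul' := fun a b => by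
         rw [RingHom.id_apply, Algebra.smul_def]
         exact (θ (L₀ v)).hom.map_smul a b }⟩
  have hΦ : Function.Bijective Φ := by
    refine ⟨fun v w h => L₀.injective (hθ.1 ?_), fun φ => ?_⟩
    · exact ModuleCat.hom_ext (LinearMap.ext fun b => congrArg (fun z : Disc.Omega A S => z.toLinearMap b) h)
    · obtain ⟨f, hf⟩ := hθ.2 (ModuleCat.ofHom (X := Res.obj N) (Y := A)
        { toFun := fun (b : S) => φ.toLinearMap b
          map_add' := fun (x y : S) => map_add φ.toLinearMap x y
          map_smul' := fun a (b : S) => by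
            show φ.toLinearMap (algebraMap A S a * b) = a • φ.toLinearMap b
            rw [← Algebra.smul_def, map_smul] })
      refine ⟨L₀.symm f, Disc.Omega.ext (LinearMap.ext fun b => ?_)⟩
      show (θ (L₀ (L₀.symm f))).hom b = _
      rw [LinearEquiv.apply_symm_apply]
      exact congrArg (fun g => g.hom b) hf
  exact ⟨LinearEquiv.ofBijective
    { toFun := Φ
      map_add' := fun v w => Disc.Omega.ext (LinearMap.ext fun b => by
        show (θ (L₀ (v + w))).hom b = _
        rw [map_add, hadd]
        rfl)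
      map_smul' := fun s v => Disc.Omega.ext (LinearMap.ext fun b => by
        show (θ (L₀ (s • v))).hom b = _
        rw [map_smul, hsmul]
        rfl) } hΦ⟩

/-- Degree-`i` cohomology of a flat derived base change. -/
theorem nonempty_HD_flat (A B : Type u) [CommRing A] [CommRing B] [Algebra A B] [Module.Flat A B]
    [DRing.HasLBaseChange (algebraMap A B)] (K : Dual.D A) (i : ℤ) (O : Type u) [AddCommGroup O] [Module A O]
    (eO : Dual.HD A K i ≃ₗ[A] O) :
    Nonempty (Dual.HD B ((DRing.LBaseChange (algebraMap A B)).obj K) i ≃ₗ[B] TensorProduct A B O) := by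
  let φ := algebraMap A B
  haveI := ModuleCat.preservesFiniteLimits_extendScalars_of_flat.{u} (RingHom.flat_algebraMap_iff.2 ‹Module.Flat A B› : φ.Flat)
  obtain ⟨P, hP, ⟨eP⟩⟩ := DRingLib.exists_good_rep K
  let eL : (DRing.LBaseChange φ).obj K ≅ (ModuleCat.extendScalars.{u, u, u} φ).mapDerivedCategory.obj K :=
    (DRing.LBaseChange φ).mapIso eP.symm ≪≫ DRingLib.lBaseChangeObjIso φ P hP.1 ≪≫
      ((ModuleCat.extendScalars.{u, u, u} φ).mapDerivedCategoryFactors.app P).symm ≪≫
      (ModuleCat.extendScalars.{u, u, u} φ).mapDerivedCategory.mapIso eP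
  obtain ⟨eH⟩ := DRingLib.exists_homology_iso_mapDerived (ModuleCat.extendScalars.{u, u, u} φ) K i
  let T := (ModuleCat.extendScalars.{u, u, u} φ).obj (ModuleCat.of A O)
  let eB : (ModuleCat.restrictScalars.{u} φ).obj (ModuleCat.of B B) ≃ₗ[A] B :=
    { toFun := fun x => x
      invFun := fun x => x
      map_add' := fun _ _ => rfl
      map_smul' := fun a (x : B) => (Algebra.smul_def a x).symm }
  let eT : T ≃+ TensorProduct A B O := (TensorProduct.congr eB (LinearEquiv.refl A O)).toAddEquiv
  have hT : ∀ (b : B) (x : T), eT (b • x) = b • eT x := fun b x => by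
    induction x using TensorProduct.induction_on with
    | zero => simp
    | tmul c m => rfl
    | add x y hx hy => rw [smul_add, map_add, map_add, smul_add, hx, hy]
  exact ⟨((((DerivedCategory.homologyFunctor (ModuleCat.{u} B) i).mapIso eL) ≪≫ eH ≪≫
    (ModuleCat.extendScalars.{u, u, u} φ).mapIso eO.toModuleIso).toLinearEquiv).trans
    { eT with map_smul' := hT }⟩

/-- Let A → B be a quasi-finite map of Noetherian rings, written as a composite A → B′ → B in which the
first map A → B′ is finite and the induced morphism Spec(B) → Spec(B′) is an open immersion, so that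
ω_{B/A} = Hom_A(B′, A) ⊗_{B′} B; and let ω^•_{B/A} = φ^!(A[0]) be the algebraic relative dualizing
complex computed through a presentation ψ : A[x_1, …, x_n] → B (derived base change assumed to
exist, RHom_P(B, −) given as a right adjoint of restriction of scalars). Then there is a
(non-unique) B-linear isomorphism H^0(ω^•_{B/A}) ≅ ω_{B/A}. -/
theorem result (A B B' : Type u) [CommRing A] [CommRing B] [CommRing B'] [IsNoetherianRing A] [IsNoetherianRing B] [Algebra A B] [Algebra A B'] [Algebra B' B] [IsScalarTower A B' B] [Module.Finite A B'] (hopen : IsOpenImmersion (Spec.map (CommRingCat.ofHom (algebraMap B' B)))) (n : ℕ) (ψ : MvPolynomial (Fin n) A →ₐ[A] B) (hψ : Function.Surjective ψ) [DRing.HasLBaseChange (algebraMap A (MvPolynomial (Fin n) A))] (Rψ : Dual.D (MvPolynomial (Fin n) A) ⥤ Dual.D B) (adj : DRing.restrictD ψ.toRingHom ⊣ Rψ) : Nonempty (Dual.HD B (Dual2.shriekVia n Rψ (Dual.inD A A)) 0 ≃ₗ[B] (B ⊗[B'] Disc.Omega A B')) := by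
  haveI : IsNoetherianRing B' := IsNoetherianRing.of_finite A B'
  haveI := hopen
  haveI : Module.Flat B' B := RingHom.flat_algebraMap_iff.1
    (Flat.SpecMap_iff.1 (inferInstance : Flat (Spec.map (CommRingCat.ofHom (algebraMap B' B)))))
  obtain ⟨p, f, hf⟩ := Algebra.FiniteType.iff_quotient_mvPolynomial''.1
    (inferInstance : Algebra.FiniteType A B')
  haveI : Algebra.FiniteType A B := Algebra.FiniteType.of_surjective ψ hψ
  haveI : Algebra.FiniteType B' B := Algebra.FiniteType.of_restrictScalars_finiteType A B' B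
  obtain ⟨m, χ, hχ⟩ := Algebra.FiniteType.iff_quotient_mvPolynomial''.1
    (inferInstance : Algebra.FiniteType B' B)
  obtain ⟨⟨Rf, adjf⟩⟩ := ShriekRingLib.exists_rightAdjoint f.toRingHom
  obtain ⟨⟨Rχ, adjχ⟩⟩ := ShriekRingLib.exists_rightAdjoint χ.toRingHom
  obtain ⟨⟨R', adjR⟩⟩ := ShriekRingLib.exists_rightAdjoint (algebraMap A B')
  haveI := DRingLib.hasLBaseChange (algebraMap A (MvPolynomial (Fin p) A))
  haveI := DRingLib.hasLBaseChange (algebraMap B' (MvPolynomial (Fin m) B'))
  haveI := DRingLib.hasLBaseChange (algebraMap B' B)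
  obtain ⟨c⟩ := ShriekRingLib.shriekVia_comp f hf adjf χ hχ adjχ ψ hψ adj (Dual.inD A A)
    (c := (0 : ℤ)) (inferInstance : DerivedCategory.IsGE (Dual.inD A A) 0)
  obtain ⟨e₁⟩ := ShriekRingLib.shriekVia_iso_of_finite p f adjf adjR (Dual.inD A A)
  obtain ⟨e₂⟩ := ShriekRingLib.shriekVia_openImmersion B' B hopen m χ hχ adjχ
    (Dual2.shriekVia p Rf (Dual.inD A A))
  obtain ⟨eO⟩ := nonempty_H0_omega A B' R' adjR
  obtain ⟨eT⟩ := nonempty_HD_flat B' B (Dual2.shriekVia p Rf (Dual.inD A A)) 0 (Disc.Omega A B')
    (((DerivedCategory.homologyFunctor (ModuleCat.{u} B') 0).mapIso e₁).toLinearEquiv.trans eO)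
  exact ⟨((DerivedCategory.homologyFunctor (ModuleCat.{u} B) 0).mapIso (c ≪≫ e₂)).toLinearEquiv.trans eT⟩

end Groth.Agent.S8953
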