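import Groth.Statements.S8954
import Groth.Agent.TransLib.Congr
import Groth.Agent.TransLib.Noether
import Groth.Agent.TateLib.Fibre

set_option autoImplicit false
universe u
open Synt

open TensorProduct

namespace Groth.Agent.S8954

/-- The equivalence of being finite syntomic with having a square presentation, stated over a local
base. For a local ring A and a finite A-algebra B, the map A → B is syntomic if and only if B ≅
A[x_1, …, x_n]/(f_1, …, f_n) as A-algebras for some n and f_1, …, f_n ∈ A[x_1, …, x_n]. (The
published statement is for a finite morphism of schemes and asserts such a presentation over some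
affine open neighbourhood of each point of the base; over a local base that neighbourhood is the
whole spectrum.) -/
theorem result (A B : Type u) [CommRing A] [IsLocalRing A] [CommRing B] [Algebra A B] [Module.Finite A B] : Synt.IsSyntomic A B ↔ ∃ (n : ℕ) (F : Fin n → MvPolynomial (Fin n) A), Nonempty (B ≃ₐ[A] Synt.RelGCIRing A n n F) := by
  constructor
  · intro h
    have := h.1
    have := h.2.1
    let m := IsLocalRing.maximalIdeal A
    have hk : TateLib.IsSq m.ResidueField (m.ResidueField ⊗[A] B) :=
      TateLib.isSq_of_isLCIOver m.ResidueField _ (h.2.2 ⟨m, inferInstance⟩)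
    obtain ⟨n, φ, f, hφ, hker⟩ :=
      (TateLib.isSq_of_fibre m.ResidueField m.algebraMap_residueField_surjective hk).exists_fin
    exact ⟨n, f, ⟨((Ideal.quotientEquivAlgOfEq A hker.symm).trans
      (Ideal.quotientKerAlgEquivOfSurjective (f := φ) hφ)).symm⟩⟩
  · rintro ⟨n, F, ⟨e⟩⟩
    have : Module.Finite A (Synt.RelGCIRing A n n F) := Module.Finite.equiv e.toLinearEquiv
    exact TransLib.isSyntomic_congr e.symm
      (TransLib.isSyntomic_relGCIRing (TransLib.isRelGCI_of_quasiFinite F))

end Groth.Agent.S8954
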