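import Groth.Statements.S8958
import Groth.Agent.QFDualLib.Flat

set_option autoImplicit false
universe u
open TensorProduct
open QFDual

namespace Groth.Agent.S8958

/-- Flat base change of the relative dualizing module. Let A be a Noetherian ring, A → B' a finite ring
map, A → A₁ a flat ring map with A₁ Noetherian, and B'₁ a ring making A → A₁, B' → B'₁ a cocartesian
square (so B'₁ = B' ⊗_A A₁). For every B'₁-algebra B₁ the base-change map B₁ ⊗_{B'} Hom_A(B', A) →
B₁ ⊗_{B'₁} Hom_{A₁}(B'₁, A₁), sending b₁ ⊗ φ to b₁ ⊗ φ₁ where φ₁(b' a₁) = φ(b') a₁, is bijective.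
(The published statement is the case in which A → B' → B, with Spec B → Spec B' an open immersion,
computes the relative dualizing module ω_{B/A} of a quasi-finite map A → B and B₁ = B ⊗_A A₁, where
the map reads ω_{B/A} ⊗_B B₁ → ω_{B₁/A₁}; the version for an arbitrary B'₁-algebra B₁ is what the
printed argument gives, and with A₁ = A_f, B₁ = B it also yields ω_{B/A} = ω_{B/A_f} when A → B
factors through A_f.) -/
theorem result (A B' A₁ B'₁ B₁ : Type u) [CommRing A] [CommRing B'] [CommRing A₁] [CommRing B'₁] [CommRing B₁] [IsNoetherianRing A] [IsNoetherianRing A₁] [Algebra A B'] [Module.Finite A B'] [Algebra A A₁] [Module.Flat A A₁] [Algebra B' B'₁] [Algebra A₁ B'₁] [Algebra A B'₁] [IsScalarTower A A₁ B'₁] [IsScalarTower A B' B'₁] (h : Algebra.IsPushout A A₁ B' B'₁) [Algebra B'₁ B₁] [Algebra B' B₁] [IsScalarTower B' B'₁ B₁] : Function.Bijective (QFDual.omegaBC (B₁ := B₁) h) := by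
  have : Module.FinitePresentation A B' := Module.finitePresentation_of_finite A B'
  have hbij := QFDualLib.toDual_lift_bijective h.out
  let e := LinearEquiv.ofBijective _ hbij
  let f : A₁ →+ Module.Dual A B' →+ B₁ ⊗[B'] Disc.Omega A B' :=
    AddMonoidHom.mk' (fun a => AddMonoidHom.mk'
      (fun ψ => algebraMap B'₁ B₁ (algebraMap A₁ B'₁ a) ⊗ₜ[B'] (⟨ψ⟩ : Disc.Omega A B'))
      (fun ψ χ => by rw [← tmul_add]; rfl))
      (fun a b => by ext ψ; simp [add_tmul])
  have hf : ∀ (r : A) (a : A₁) (ψ : Module.Dual A B'), f (r • a) ψ = f a (r • ψ) := by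
    intro r a ψ
    show _ ⊗ₜ[B'] _ = _ ⊗ₜ[B'] _
    rw [show (⟨r • ψ⟩ : Disc.Omega A B') = algebraMap A B' r • ⟨ψ⟩ from
      Disc.Omega.ext (QFDualLib.omega_algebraMap_smul (A' := A) r _).symm, ← smul_tmul]
    congr 1
    rw [Algebra.smul_def, map_mul, map_mul, ← IsScalarTower.algebraMap_apply A A₁ B'₁,
      IsScalarTower.algebraMap_apply A B' B'₁, ← IsScalarTower.algebraMap_apply B' B'₁ B₁, Algebra.smul_def]
  let G := TensorProduct.liftAddHom f hf
  let g : Disc.Omega A₁ B'₁ →+ B₁ ⊗[B'] Disc.Omega A B' :=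
    AddMonoidHom.mk' (fun ω => G (e.symm ω.toLinearMap)) (fun ω η => by
      rw [Disc.Omega.add_toLinearMap, map_add, map_add])
  have hg : ∀ a φ, g (algebraMap A₁ B'₁ a • QFDual.bcFin h φ) =
      algebraMap B'₁ B₁ (algebraMap A₁ B'₁ a) ⊗ₜ[B'] φ := by
    intro a φ
    have : e.symm (algebraMap A₁ B'₁ a • QFDual.bcFin h φ).toLinearMap = a ⊗ₜ φ.toLinearMap := by
      rw [LinearEquiv.symm_apply_eq, QFDualLib.omega_algebraMap_smul]
      exact (LinearMap.liftBaseChange_tmul _ _ _ _).symm
    show G _ = _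
    rw [this]
    rfl
  have hlin : ∀ (c : B'₁) ω, g (c • ω) = algebraMap B'₁ B₁ c • g ω := by
    intro c ω
    induction c using QFDualLib.mul_induction h with
    | h0 => simp
    | hadd c d hc hd => rw [add_smul, map_add, hc, hd, map_add, add_smul]
    | h a b =>
      induction ω using QFDualLib.omega_induction h hbij with
      | h0 => simp
      | hadd x y hx hy => rw [smul_add, map_add, hx, hy, map_add, smul_add]
      | h a' φ =>
        have e1 : (algebraMap A₁ B'₁ a * algebraMap B' B'₁ b) • (algebraMap A₁ B'₁ a' • QFDual.bcFin h φ) =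
            algebraMap A₁ B'₁ (a * a') • QFDual.bcFin h (b • φ) := by
          rw [LinearMap.map_smulₛₗ, smul_smul, smul_smul, map_mul]
          congr 1; ring
        rw [e1, hg, hg, smul_tmul', ← smul_tmul, map_mul, map_mul, map_mul,
          ← IsScalarTower.algebraMap_apply B' B'₁ B₁, smul_eq_mul, Algebra.smul_def]
        congr 1; ring
  let L₀ : B₁ →+ Disc.Omega A₁ B'₁ →+ B₁ ⊗[B'] Disc.Omega A B' :=
    AddMonoidHom.mk' (fun x => AddMonoidHom.mk' (fun ω => x • g ω) (fun ω η => by rw [map_add, smul_add]))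
      (fun x y => by ext ω; simp [add_smul])
  let L : B₁ ⊗[B'₁] Disc.Omega A₁ B'₁ →+ B₁ ⊗[B'] Disc.Omega A B' :=
    TensorProduct.liftAddHom L₀ (fun c x ω => by
      show (c • x) • g ω = x • g (c • ω)
      rw [hlin, Algebra.smul_def, mul_smul, smul_comm])
  have hL : ∀ x ω, L (x ⊗ₜ ω) = x • g ω := fun x ω => rfl
  refine ⟨Function.LeftInverse.injective (g := L) fun z => ?_, fun z => ?_⟩
  · induction z using TensorProduct.induction_on with
    | zero => simp
    | add x y hx hy => rw [map_add, map_add, hx, hy]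
    | tmul x φ =>
      rw [QFDual.omegaBC_tmul, hL, show g (QFDual.bcFin h φ) = (1 : B₁) ⊗ₜ[B'] φ by
        simpa using hg 1 φ, smul_tmul', smul_eq_mul, mul_one]
  · induction z using TensorProduct.induction_on with
    | zero => exact ⟨0, map_zero _⟩
    | add x y hx hy =>
      obtain ⟨u, rfl⟩ := hx; obtain ⟨v, rfl⟩ := hy; exact ⟨u + v, map_add _ _ _⟩
    | tmul x ω =>
      induction ω using QFDualLib.omega_induction h hbij generalizing x with
      | h0 => exact ⟨0, by simp⟩
      | hadd y z hy hz =>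
        obtain ⟨u, hu⟩ := hy x; obtain ⟨v, hv⟩ := hz x
        exact ⟨u + v, by rw [map_add, hu, hv, tmul_add]⟩
      | h a φ =>
        exact ⟨(algebraMap A₁ B'₁ a • x) ⊗ₜ φ, by rw [QFDual.omegaBC_tmul, smul_tmul]⟩

end Groth.Agent.S8958
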