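import Groth.Statements.S8963
import Groth.Agent.TateLib.Fibres

set_option autoImplicit false
universe u
open TensorProduct
open QFDual

namespace Groth.Agent.S8963

/-- Invertibility of the relative dualizing module is a fibrewise condition. Let A → B be a flat
homomorphism of Noetherian rings with a factorization A → B' → B, A → B' finite and Spec B → Spec B'
an open immersion, so that A → B is quasi-finite and ω_{B/A} = B ⊗_{B'} Hom_A(B', A). The B-module
ω_{B/A} is invertible exactly when, for every prime p of A and every presentation of the fibre rings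
B'_p = B' ⊗_A κ(p), B_p = B ⊗_A κ(p) as cocartesian squares over the residue field κ(p) (compatibly
with B' → B), the module ω_{B_p/κ(p)} = B_p ⊗_{B'_p} Hom_{κ(p)}(B'_p, κ(p)) is an invertible
B_p-module. -/
theorem result (A B' B : Type u) [CommRing A] [CommRing B'] [CommRing B] [IsNoetherianRing A] [IsNoetherianRing B] [Algebra A B'] [Algebra B' B] [Algebra A B] [IsScalarTower A B' B] [Module.Flat A B] (hf : QFDual.IsQFFactor A B' B) : Module.Invertible B (QFDual.omega A B' B) ↔ ∀ (p : Ideal A) [p.IsPrime] (B'₁ B₁ : Type u) [CommRing B'₁] [CommRing B₁] [Algebra B' B'₁] [Algebra p.ResidueField B'₁] [Algebra A B'₁] [IsScalarTower A p.ResidueField B'₁] [IsScalarTower A B' B'₁] [Algebra B B₁] [Algebra p.ResidueField B₁] [Algebra A B₁] [IsScalarTower A p.ResidueField B₁] [IsScalarTower A B B₁] [Algebra B'₁ B₁] [Algebra B' B₁] [IsScalarTower B' B'₁ B₁] [IsScalarTower B' B B₁] [IsScalarTower p.ResidueField B'₁ B₁], Algebra.IsPushout A p.ResidueField B' B'₁ → Algebra.IsPushout A p.ResidueField B B₁ → Module.Invertible B₁ (QFDual.omega p.ResidueField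 B'₁ B₁) := by
  have := hf.finite
  have hopen := hf.isOpenImmersion
  constructor
  · intro hinv p hp B'₁ B₁ _ _ _ _ _ _ _ _ _ _ _ _ _ _ _ _ _ h hB
    let e := (LinearEquiv.ofBijective _
      (TateLib.omegaBC_bijective_of_flat A B' B p.ResidueField B'₁ B₁ hopen h hB))
    have : Module.Invertible B₁ (B₁ ⊗[B] (B ⊗[B'] Disc.Omega A B')) := inferInstance
    exact Module.Invertible.congr
      ((TensorProduct.AlgebraTensorModule.cancelBaseChange B' B B₁ B₁ (Disc.Omega A B')).trans e)
  · intro h
    have := TateLib.finitePresentation_of_openImmersion A B' B hopen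
    refine TateLib.invertible_omega_of_fibres A B' B hopen fun p _ => ?_
    letI : Algebra B' (p.ResidueField ⊗[A] B') := Algebra.TensorProduct.rightAlgebra
    letI : Algebra B (p.ResidueField ⊗[A] B) := Algebra.TensorProduct.rightAlgebra
    let gh := Algebra.TensorProduct.map (AlgHom.id p.ResidueField p.ResidueField) (IsScalarTower.toAlgHom A B' B)
    letI : Algebra (p.ResidueField ⊗[A] B') (p.ResidueField ⊗[A] B) := gh.toRingHom.toAlgebra
    letI : Algebra B' (p.ResidueField ⊗[A] B) :=
      ((algebraMap B (p.ResidueField ⊗[A] B)).comp (algebraMap B' B)).toAlgebra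
    have : IsScalarTower B' B (p.ResidueField ⊗[A] B) := IsScalarTower.of_algebraMap_eq fun _ => rfl
    have : IsScalarTower p.ResidueField (p.ResidueField ⊗[A] B') (p.ResidueField ⊗[A] B) :=
      IsScalarTower.of_algebraMap_eq fun c => (gh.commutes c).symm
    have : IsScalarTower B' (p.ResidueField ⊗[A] B') (p.ResidueField ⊗[A] B) :=
      IsScalarTower.of_algebraMap_eq (R := B') (S := p.ResidueField ⊗[A] B') (A := p.ResidueField ⊗[A] B) fun b' => by
        show (1 : p.ResidueField) ⊗ₜ[A] algebraMap B' B b' = gh ((1 : p.ResidueField) ⊗ₜ[A] b')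
        rw [Algebra.TensorProduct.map_tmul]
        rfl
    refine TateLib.omegaFree_fibre hopen p (fun _ => rfl) ?_
    exact h p (p.ResidueField ⊗[A] B') (p.ResidueField ⊗[A] B) TensorProduct.isPushout TensorProduct.isPushout

end Groth.Agent.S8963
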