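import Groth.Statements.S8965
import Groth.Agent.QFDualLib.Dedekind

set_option autoImplicit false
universe u
open QFDual

namespace Groth.Agent.S8965

/-- Suppose the Dedekind different of A → B is defined (A Noetherian, B a finite A-algebra,
nonzerodivisors of A nonzerodivisors on B, K = Q(A) → L = B ⊗_A K étale, here with L finite free
over K) and that B is free as an A-module. Then the Dedekind different 𝔇_{B/A} ⊆ L is the image
under B → L of the ideal of b ∈ B with b · Hom_A(B, A) ⊆ B · Trace_{B/A}, where B acts on Hom_A(B,
A) through the argument. (The published statement assumes only A → B flat, with the trace element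
τ_{B/A} of the relative dualizing module ω_{B/A}; for B finite free these are Trace_{B/A} and
Hom_A(B, A), the case taken here.) -/
theorem result (A K B L : Type u) [CommRing A] [CommRing K] [CommRing B] [CommRing L] [Algebra A K] [Algebra A B] [Algebra B L] [Algebra K L] [Algebra A L] [IsScalarTower A K L] [IsScalarTower A B L] (h : QFDual.IsDedekindDefined A K B L) [Module.Finite A B] [Module.Free A B] : QFDual.dedekindDifferent A K B L = Submodule.map (Algebra.linearMap B L) (QFDual.different B (Disc.Omega.trace A B)) := by
  obtain ⟨e, he⟩ := QFDualLib.exists_equiv h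
  have hinj := QFDualLib.algebraMap_injective_BL h
  have hK := QFDualLib.algebraMap_injective_KA h
  have h1 : (1 : L) ∈ QFDual.complementary A K B L :=
    QFDualLib.trace_mul_one_mem (QFDualLib.trace_mem_of_flat h)
  have hτ : ∀ c : B, Algebra.trace K L (algebraMap B L c) = algebraMap A K (Algebra.trace A B c) := by
    intro c
    have := h.isFractionRing
    have := h.isLocalization
    exact Algebra.trace_localization A (nonZeroDivisors A) c
  have he' : e ⟨1, h1⟩ = Disc.Omega.trace A B :=
    Disc.Omega.ext (LinearMap.ext fun c => hK (by rw [he, one_mul, hτ]; rfl))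
  refine Submodule.ext fun z => ?_
  rw [Submodule.mem_map]
  constructor
  · intro hz
    obtain ⟨d, hd⟩ := hz 1 h1
    rw [mul_one] at hd
    refine ⟨d, (QFDual.mem_different_iff B _ _).2 fun φ => ?_, hd⟩
    obtain ⟨y, rfl⟩ := e.surjective φ
    obtain ⟨c, hc⟩ := hz y y.2
    refine ⟨c, ?_⟩
    rw [← he', ← map_smul, ← map_smul]
    congr 1
    refine Subtype.ext ?_
    simp only [SetLike.val_smul, Algebra.smul_def, mul_one, hc, hd]
  · rintro ⟨d, hd, rfl⟩ y hy
    obtain ⟨c, hc⟩ := (QFDual.mem_different_iff B _ _).1 hd (e ⟨y, hy⟩)
    rw [← he', ← map_smul, ← map_smul] at hc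
    have := congrArg Subtype.val (e.injective hc)
    simp only [SetLike.val_smul, Algebra.smul_def, mul_one] at this
    exact ⟨c, this⟩

end Groth.Agent.S8965
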