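import Groth.Statements.S8970
import Groth.Agent.FinDualLib.Finite

set_option autoImplicit false
set_option backward.isDefEq.respectTransparency false
set_option backward.isDefEq.respectTransparency.types false
universe u
open CategoryTheory
attribute [local instance] HasDerivedCategory.standard
open Dual

namespace Groth.Agent.S8970

/-- For a Noetherian ring A with a dualizing complex ω, δ(p) denotes the integer such that the
localization at p of Hom(A/p, ω[i]) is nonzero exactly for i = −δ(p); this δ is the dimension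
function of ω. Suppose A is a Noetherian ring equipped with a dualizing complex ω, fix a surjective
ring homomorphism A → B, and take R : D(A) → D(B) to be the right adjoint of restriction of scalars;
then ω_B = R(ω) = RHom_A(B, ω) is a dualizing complex for B. Then δ_{ω_B} is the restriction of δ_ω
to Spec B: for every prime q of B, with p its preimage in A, and every integer i, the localization
at q of the B-module of maps B/q → ω_B[i] in D(B) is nonzero if and only if the localization at p of
the A-module of maps A/p → ω[i] in D(A) is nonzero. -/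
theorem result (A B : Type u) [CommRing A] [CommRing B] [IsNoetherianRing A] [IsNoetherianRing B] [Algebra A B] (hs : Function.Surjective (algebraMap A B)) (R : Dual.D A ⥤ Dual.D B) (adj : DRing.restrictD (algebraMap A B) ⊣ R) (ω : Dual.D A) (hω : Dual.IsDualizing A ω) (q : PrimeSpectrum B) (i : ℤ) : Nontrivial (LocalizedModule q.asIdeal.primeCompl (Dual.inD B (B ⧸ q.asIdeal) ⟶ (R.obj ω)⟦i⟧)) ↔ Nontrivial (LocalizedModule (q.asIdeal.comap (algebraMap A B)).primeCompl (Dual.inD A (A ⧸ q.asIdeal.comap (algebraMap A B)) ⟶ ω⟦i⟧)) := by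
  have hε := FinDualLib.isCoUniv_of_adjunction (algebraMap A B) adj ω
  obtain ⟨T, hT, hadd, hsmul⟩ := FinDualLib.exists_tr hε (B ⧸ q.asIdeal) i
  let g : A →ₗ[A] B ⧸ q.asIdeal := Algebra.linearMap A (B ⧸ q.asIdeal)
  have hg : Function.Surjective g := fun y => by
    obtain ⟨b, rfl⟩ := Ideal.Quotient.mk_surjective y
    obtain ⟨a, rfl⟩ := hs b
    exact ⟨a, rfl⟩
  have hker : LinearMap.ker g = q.asIdeal.comap (algebraMap A B) := by
    ext a
    exact Ideal.Quotient.eq_zero_iff_mem
  let e : (A ⧸ q.asIdeal.comap (algebraMap A B)) ≃ₗ[A] (B ⧸ q.asIdeal) :=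
    (Submodule.quotEquivOfEq _ _ hker.symm).trans (g.quotKerEquivOfSurjective hg)
  let P := Linear.homCongr A ((DerivedCategory.singleFunctor (ModuleCat.{u} A) 0).mapIso e.symm.toModuleIso) (Iso.refl (ω⟦i⟧))
  let Φ : (Dual.inD B (B ⧸ q.asIdeal) ⟶ (R.obj ω)⟦i⟧) →
      (Dual.inD A (A ⧸ q.asIdeal.comap (algebraMap A B)) ⟶ ω⟦i⟧) := fun f => P (T f)
  have hΦ : Function.Bijective Φ := P.bijective.comp hT
  have hΦs : ∀ (a : A) (f), Φ (algebraMap A B a • f) = a • Φ f := fun a f =>
    (congrArg P (hsmul a f)).trans (P.map_smul a (T f))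
  have hΦ0 : Φ 0 = 0 := by
    have h0 : T 0 = 0 := by simpa using hadd 0 0
    exact (congrArg P h0).trans P.map_zero
  have key : ∀ {R₀ M : Type _} [CommRing R₀] [AddCommGroup M] [Module R₀ M] (S : Submonoid R₀),
      Nontrivial (LocalizedModule S M) ↔ ∃ m : M, ∀ s ∈ S, s • m ≠ 0 := fun {R₀ M} _ _ _ S => by
    rw [← not_subsingleton_iff_nontrivial, LocalizedModule.subsingleton_iff]
    push Not
    rfl
  rw [key, key]
  constructor
  · rintro ⟨m, hm⟩
    exact ⟨Φ m, fun a ha h => hm (algebraMap A B a) ha (hΦ.1 ((hΦs a m).trans (h.trans hΦ0.symm)))⟩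
  · rintro ⟨m, hm⟩
    obtain ⟨m, rfl⟩ := hΦ.2 m
    refine ⟨m, fun b hb h => ?_⟩
    obtain ⟨a, rfl⟩ := hs b
    exact hm a hb ((hΦs a m).symm.trans ((congrArg Φ h).trans hΦ0))

end Groth.Agent.S8970
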