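import Groth.Statements.S8971
import Groth.Agent.S2218
import Mathlib

open CategoryTheory TensorProduct
set_option autoImplicit false
universe u
open TensorProduct
open QFDual

namespace Groth.Agent.S8971

/-- Let A → B be a quasi-finite homomorphism of Noetherian rings, presented by writing it as a composite
A → B' → B, where the map A → B' is finite and the induced morphism Spec B → Spec B' is an open
immersion, so that ω_{B/A} = B ⊗_{B'} Hom_A(B', A) (B' acting on Hom_A(B', A) through the argument).
Then Ass_B(ω_{B/A}) is the set of primes of B whose preimage in A is an associated prime of A. -/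
theorem result (A B' B : Type u) [CommRing A] [CommRing B'] [CommRing B] [IsNoetherianRing A] [IsNoetherianRing B] [Algebra A B'] [Algebra B' B] [Algebra A B] [IsScalarTower A B' B] (hf : QFDual.IsQFFactor A B' B) : associatedPrimes B (QFDual.omega A B' B) = {q : Ideal B | q.IsPrime ∧ q.comap (algebraMap A B) ∈ associatedPrimes A A} := by
  classical
  have := hf.finite
  have : IsNoetherianRing B' := IsNoetherianRing.of_finite A B'
  ext q
  have key : ∀ (hq : q.IsPrime), q ∈ associatedPrimes B (QFDual.omega A B' B) ↔
      q.comap (algebraMap B' B) ∈ associatedPrimes B' (Disc.Omega A B') := by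
    intro hq
    let q' := q.comap (algebraMap B' B)
    have hbij : Function.Bijective (Localization.localRingHom q' q (algebraMap B' B) rfl) := by
      have := hf.isOpenImmersion
      let x : AlgebraicGeometry.Spec (CommRingCat.of B) := ⟨q, hq⟩
      have h1 : MorphismProperty.isomorphisms _
          ((AlgebraicGeometry.Spec.map (CommRingCat.ofHom (algebraMap B' B))).stalkMap x) :=
        MorphismProperty.isomorphisms.infer_property _
      rw [(MorphismProperty.isomorphisms CommRingCat).arrow_mk_iso_iff
        (AlgebraicGeometry.Scheme.arrowStalkMapSpecIso (CommRingCat.ofHom (algebraMap B' B)) ⟨q, hq⟩),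
        MorphismProperty.isomorphisms.iff] at h1
      haveI : IsIso (CommRingCat.ofHom (Localization.localRingHom q' q (algebraMap B' B) rfl)) := h1
      exact ConcreteCategory.bijective_of_isIso
        (CommRingCat.ofHom (Localization.localRingHom q' q (algebraMap B' B) rfl))
    let Bq := Localization.AtPrime q
    let φ : Localization.AtPrime q' →ₐ[B'] Bq :=
      { Localization.localRingHom q' q (algebraMap B' B) rfl with
        commutes' := fun r => by
          simp only [RingHom.toMonoidHom_eq_coe, OneHom.toFun_eq_coe, MonoidHom.toOneHom_coe, MonoidHom.coe_coe]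
          rw [IsScalarTower.algebraMap_apply B' B Bq]
          exact Localization.localRingHom_to_map q' q _ rfl r }
    have : IsLocalization q'.primeCompl Bq :=
      IsLocalization.isLocalization_of_algEquiv _ (AlgEquiv.ofBijective φ hbij)
    let N := Bq ⊗[B'] Disc.Omega A B'
    let f : Disc.Omega A B' →ₗ[B'] N := TensorProduct.mk B' Bq (Disc.Omega A B') 1
    have hfb : IsBaseChange Bq f := TensorProduct.isBaseChange _ _ _
    have : IsLocalizedModule q'.primeCompl f := (isLocalizedModule_iff_isBaseChange _ Bq f).2 hfb
    let g : QFDual.omega A B' B →ₗ[B] N :=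
      TensorProduct.AlgebraTensorModule.map (Algebra.linearMap B Bq) LinearMap.id
    have hgb : IsBaseChange Bq g :=
      IsBaseChange.of_comp (TensorProduct.isBaseChange B' (Disc.Omega A B') B) (by
        convert! hfb using 1
        refine LinearMap.ext fun m => ?_
        exact congrArg (fun z => z ⊗ₜ[B'] m) (map_one (algebraMap B Bq)))
    have : IsLocalizedModule q.primeCompl g := (isLocalizedModule_iff_isBaseChange _ Bq g).2 hgb
    have e1 : (IsLocalRing.maximalIdeal Bq).comap (algebraMap B Bq) = q :=
      Localization.AtPrime.under_maximalIdeal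
    have e2 : (IsLocalRing.maximalIdeal Bq).comap (algebraMap B' Bq) = q' := by
      rw [IsScalarTower.algebraMap_eq B' B Bq, ← Ideal.comap_comap, e1]
    have a1 := Set.ext_iff.1 (Module.associatedPrimes.preimage_comap_associatedPrimes_eq_associatedPrimes_of_isLocalizedModule
      q.primeCompl Bq g) (IsLocalRing.maximalIdeal Bq)
    have a2 := Set.ext_iff.1 (Module.associatedPrimes.preimage_comap_associatedPrimes_eq_associatedPrimes_of_isLocalizedModule
      q'.primeCompl Bq f) (IsLocalRing.maximalIdeal Bq)
    rw [Set.mem_preimage, e1] at a1
    rw [Set.mem_preimage, e2] at a2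
    exact a1.trans a2.symm
  have hΩ := Groth.Agent.S2218.result (A := A) (B := B')
  constructor
  · intro h
    have hq : q.IsPrime := h.1
    refine ⟨hq, ?_⟩
    have := (key hq).1 h
    rw [hΩ] at this
    have h2 := this.2
    rwa [Ideal.comap_comap, ← IsScalarTower.algebraMap_eq] at h2
  · rintro ⟨hq, h⟩
    refine (key hq).2 ?_
    rw [hΩ]
    refine ⟨inferInstance, ?_⟩
    rwa [Ideal.comap_comap, ← IsScalarTower.algebraMap_eq]

end Groth.Agent.S8971
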