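import Groth.Statements.S8972
import Mathlib
-- import your own Groth.Agent.* helpers here

set_option autoImplicit false
open Synt

namespace Groth.Agent.S8972

section
open MvPolynomial
variable (n d : ℕ)

abbrev Gen : Type := Fin n ⊕ {p : Fin n × Synt.UnivIdx n d // p.2.exponent ≠ 0}

abbrev C : Type := MvPolynomial (Gen n d) ℤ

open Classical in
/-- The value of the coefficient `a_{i,E}` after eliminating the constant coefficients. -/
noncomputable def coef (p : Fin n × Synt.UnivIdx n d) : C n d :=
  if h : p.2.exponent = 0 then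
    - ∑ E : {E : Synt.UnivIdx n d // E.exponent ≠ 0},
        X (Sum.inr ⟨(p.1, E.1), E.2⟩) * ∏ j, (X (Sum.inl j) : C n d) ^ E.1.exponent j
  else X (Sum.inr ⟨p, h⟩)

noncomputable def phi : MvPolynomial (Fin n) (Synt.UnivBase n d) →+* C n d :=
  eval₂Hom (eval₂Hom (Int.castRingHom _) (coef n d)) fun j => X (Sum.inl j)

theorem exists_zero : ∃ E₀ : Synt.UnivIdx n d, E₀.exponent = 0 :=
  ⟨⟨fun _ => 0, by simp⟩, Finsupp.ext fun i => rfl⟩

theorem eq_of_exponent {E E' : Synt.UnivIdx n d} (h : E.exponent = E'.exponent) : E = E' :=
  Subtype.ext (funext fun i => Fin.ext (DFunLike.congr_fun h i))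

theorem phi_univPoly (i : Fin n) : phi n d (Synt.univPoly n d i) = 0 := by
  classical
  obtain ⟨E₀, h₀⟩ := exists_zero n d
  have hterm : ∀ E : Synt.UnivIdx n d, phi n d (monomial E.exponent (X (i, E))) =
      coef n d (i, E) * ∏ j, (X (Sum.inl j) : C n d) ^ E.exponent j := by
    intro E
    rw [phi, eval₂Hom_monomial, eval₂Hom_X', Finsupp.prod_fintype _ _ fun j => pow_zero _]
  rw [Synt.univPoly, map_sum]
  simp only [hterm]
  rw [← Fintype.sum_subtype_add_sum_subtype (fun E : Synt.UnivIdx n d => E.exponent = 0),
    Finset.sum_eq_single (⟨E₀, h₀⟩ : {E : Synt.UnivIdx n d // E.exponent = 0})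
      (fun E _ hE => absurd (Subtype.ext (eq_of_exponent n d (E.2.trans h₀.symm))) hE)
      (fun h => absurd (Finset.mem_univ _) h), coef, dif_pos h₀]
  simp only [h₀, Finsupp.coe_zero, Pi.zero_apply, pow_zero, Finset.prod_const_one, mul_one]
  rw [neg_add_eq_zero]
  refine Finset.sum_congr rfl fun E _ => ?_
  rw [coef, dif_neg E.2]

noncomputable def psi : C n d →+* MvPolynomial (Fin n) (Synt.UnivBase n d) ⧸ Synt.univIdeal n d :=
  eval₂Hom (Int.castRingHom _) (Sum.elim (fun j => Ideal.Quotient.mk (Synt.univIdeal n d) (X j))
    fun p => Ideal.Quotient.mk (Synt.univIdeal n d) (MvPolynomial.C (X p.1)))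

noncomputable def equiv : MvPolynomial (Fin n) (Synt.UnivBase n d) ⧸ Synt.univIdeal n d ≃+* C n d := by
  classical
  refine RingEquiv.ofRingHom (Ideal.Quotient.lift (Synt.univIdeal n d) (phi n d) fun x hx => ?_) (psi n d) ?_ ?_
  · refine (Ideal.span_le (I := RingHom.ker (phi n d))).2 ?_ hx
    rintro _ ⟨i, rfl⟩
    exact phi_univPoly n d i
  · refine ringHom_ext (fun z => by simp) fun g => ?_
    rcases g with j | ⟨q, hq⟩
    · simp [psi, phi]
    · simp [psi, phi, coef, hq]
  · refine Ideal.Quotient.ringHom_ext (ringHom_ext (fun a => ?_) fun j => ?_)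
    · show psi n d (phi n d (MvPolynomial.C a)) = Ideal.Quotient.mk _ (MvPolynomial.C a)
      rw [phi, eval₂Hom_C]
      suffices h : (psi n d).comp (eval₂Hom (Int.castRingHom (C n d)) (coef n d)) =
          (Ideal.Quotient.mk (Synt.univIdeal n d)).comp MvPolynomial.C from RingHom.congr_fun h a
      refine ringHom_ext (fun z => by simp) fun q => ?_
      obtain ⟨i, E⟩ := q
      rw [RingHom.comp_apply, RingHom.comp_apply, eval₂Hom_X']
      by_cases hE : E.exponent = 0
      · rw [coef, dif_pos hE, map_neg, map_sum]
        simp only [map_mul, map_prod, map_pow, psi, eval₂Hom_X', Sum.elim_inr, Sum.elim_inl]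
        simp only [← map_pow, ← map_prod, ← map_mul, ← map_sum, ← map_neg]
        rw [Ideal.Quotient.mk_eq_mk_iff_sub_mem]
        have hmono : ∀ (e : Fin n →₀ ℕ) (a : Synt.UnivBase n d),
            monomial e a = MvPolynomial.C a * ∏ j, (X j : MvPolynomial (Fin n) (Synt.UnivBase n d)) ^ e j := by
          intro e a
          rw [monomial_eq, Finsupp.prod_fintype _ _ fun j => pow_zero _]
        have hf : Synt.univPoly n d i ∈ Synt.univIdeal n d := Ideal.subset_span ⟨i, rfl⟩
        have hdec : Synt.univPoly n d i = MvPolynomial.C (X (i, E)) +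
            ∑ x : {E : Synt.UnivIdx n d // E.exponent ≠ 0}, MvPolynomial.C (X (i, x.1)) * ∏ j, X j ^ x.1.exponent j := by
          rw [Synt.univPoly, ← Fintype.sum_subtype_add_sum_subtype (fun E : Synt.UnivIdx n d => E.exponent = 0),
            Finset.sum_eq_single (⟨E, hE⟩ : {E : Synt.UnivIdx n d // E.exponent = 0})
              (fun E' _ hE' => absurd (Subtype.ext (eq_of_exponent n d (E'.2.trans hE.symm))) hE')
              (fun h => absurd (Finset.mem_univ _) h)]
          congr 1
          · show monomial E.exponent (X (i, E)) = _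
            rw [hE]; rfl
          · exact Finset.sum_congr rfl fun x _ => hmono _ _
        rw [hdec] at hf
        have := neg_mem hf
        convert this using 1
        rw [neg_add', sub_eq_add_neg, sub_eq_add_neg, add_comm]
      · rw [coef, dif_neg hE]
        simp [psi]
    · show psi n d (phi n d (X j)) = Ideal.Quotient.mk _ (X j)
      simp [phi, psi]

end

/-- Let n, d ≥ 1 and let B = A[x_1, …, x_n]/(f_1, …, f_n) be the universal algebra over A = ℤ[a_{i,E}],
f_i = Σ_E a_{i,E} x^E summed over exponent vectors E with |E| ≤ d. Then B is an integral domain and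
every localization of B at a prime ideal is a regular local ring. (The published statement says that
X_{n,d} = Spec A and the quasi-finite locus Y_{n,d} ⊆ Spec B are regular and irreducible; for A, a
polynomial ring over ℤ, this is standard, and for the open Y_{n,d} it follows from the assertion
about all of Spec B made here, which is what the printed argument shows. The published statement
also asserts that Y_{n,d} → X_{n,d} is locally quasi-finite and syntomic, an instance of the general
characterisation of quasi-finite syntomic maps; that clause is not part of this row.) -/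
theorem result (n d : ℕ) (hn : 1 ≤ n) (hd : 1 ≤ d) : IsDomain (Synt.UnivAlg n d) ∧ ∀ q : PrimeSpectrum (Synt.UnivAlg n d), IsRegularLocalRing (Localization.AtPrime q.asIdeal) := by
  let e : Synt.UnivAlg n d ≃+* C n d := equiv n d
  classical
  haveI : IsRegularRing (C n d) := inferInstance
  haveI : IsRegularRing (Synt.UnivAlg n d) := IsRegularRing.of_ringEquiv e.symm
  exact ⟨e.toMulEquiv.isDomain (C n d), fun q => inferInstance⟩

end Groth.Agent.S8972
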