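import Groth.Statements.S8974
import Groth.Agent.TransLib.SqExamples

set_option autoImplicit false
universe u
open Synt

namespace Groth.Agent.S8974

/-- Let R be a ring, n, d ≥ 1 and g_1, …, g_n ∈ R[y_1, …, y_n] of total degree at most d. Then there is
a ring map φ : A = ℤ[a_{i,E}] → R (E running over exponent vectors with |E| ≤ d) such that applying
φ to the coefficients of the universal polynomial f_i = Σ_E a_{i,E} x^E gives g_i for each i. (The
published statement is for a locally quasi-finite syntomic morphism of schemes and asserts, locally,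
a cartesian square with the universal family; this row is its affine core: the coefficient map.) -/
theorem result (R : Type u) [CommRing R] (n d : ℕ) (hn : 1 ≤ n) (hd : 1 ≤ d) (g : Fin n → MvPolynomial (Fin n) R) (hg : ∀ i, (g i).totalDegree ≤ d) : ∃ φ : Synt.UnivBase n d →+* R, ∀ i, MvPolynomial.map φ (Synt.univPoly n d i) = g i := by
  classical
  let φ : Synt.UnivBase n d →+* R :=
    MvPolynomial.eval₂Hom (Int.castRingHom R) fun q => (g q.1).coeff q.2.exponent
  refine ⟨φ, fun i => ?_⟩
  have hinj : Function.Injective (Synt.UnivIdx.exponent (n := n) (d := d)) := fun E E' h => by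
    refine Subtype.ext (funext fun j => Fin.ext ?_)
    exact DFunLike.congr_fun h j
  rw [Synt.univPoly, map_sum]
  simp only [MvPolynomial.map_monomial, φ, MvPolynomial.eval₂Hom_X']
  refine MvPolynomial.ext _ _ fun e => ?_
  rw [MvPolynomial.coeff_sum]
  by_cases he : ∑ j, e j ≤ d
  · let E : Synt.UnivIdx n d := ⟨fun j => ⟨e j, Nat.lt_succ_of_le
      (le_trans (Finset.single_le_sum (fun k _ => Nat.zero_le (e k)) (Finset.mem_univ j)) he)⟩, he⟩
    have hE : E.exponent = e := Finsupp.ext fun j => rfl
    rw [Finset.sum_eq_single E (fun E' _ hne => ?_) (fun h => absurd (Finset.mem_univ E) h),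
      MvPolynomial.coeff_monomial, if_pos hE, hE]
    rw [MvPolynomial.coeff_monomial, if_neg]
    exact fun h => hne (hinj (h.trans hE.symm))
  · rw [Finset.sum_eq_zero fun E' _ => ?_]
    · symm
      refine MvPolynomial.coeff_eq_zero_of_totalDegree_lt ?_
      refine lt_of_le_of_lt (hg i) ?_
      rw [Finset.sum_subset (Finset.subset_univ e.support) fun j _ hj => Finsupp.notMem_support_iff.1 hj]
      omega
    · rw [MvPolynomial.coeff_monomial, if_neg]
      intro h
      exact he (h ▸ E'.2)

end Groth.Agent.S8974
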