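import Groth.Statements.S8975
import Groth.Agent.QFDualLib.Flat

open TensorProduct
set_option autoImplicit false
universe u
open TensorProduct
open QFDual

namespace Groth.Agent.S8975

/-- The relative dualizing module of a product. Suppose A, B, C are Noetherian rings and the ring maps A
→ B, A → C are quasi-finite, presented by factorizations A → B' → B and A → C' → C with A → B', A →
C' finite and Spec B → Spec B', Spec C → Spec C' open immersions, and let B × C carry the product
algebra structure over B' × C' (so that A → B' × C' → B × C is a factorization of the same kind).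
Then ω_{(B × C)/A} = (B × C) ⊗_{B' × C'} Hom_A(B' × C', A) is identified with ω_{B/A} × ω_{C/A}:
there is an A-linear isomorphism sending (b, c) ⊗ φ to (b ⊗ φ∘ι_{B'}, c ⊗ φ∘ι_{C'}), where ι_{B'},
ι_{C'} are the inclusions of the factors; this formula determines the isomorphism and makes it (B ×
C)-linear. -/
theorem result (A B' B C' C : Type u) [CommRing A] [CommRing B'] [CommRing B] [CommRing C'] [CommRing C] [IsNoetherianRing A] [IsNoetherianRing B] [IsNoetherianRing C] [Algebra A B'] [Algebra B' B] [Algebra A B] [IsScalarTower A B' B] [Algebra A C'] [Algebra C' C] [Algebra A C] [IsScalarTower A C' C] (hB : QFDual.IsQFFactor A B' B) (hC : QFDual.IsQFFactor A C' C) [Algebra (B' × C') (B × C)] [IsScalarTower A (B' × C') (B × C)] (halg : algebraMap (B' × C') (B × C) = (algebraMap B' B).prodMap (algebraMap C' C)) : ∃ e : QFDual.omega A (B' × C') (B × C) ≃ₗ[A] QFDual.omega A B' B × QFDual.omega A C' C, ∀ (b : B) (c : C) (φ : Disc.Omega A (B' × C')), e ((b, c) ⊗ₜ[B' × C'] φ) = (b ⊗ₜ[B']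 Disc.Omega.mk (φ.toLinearMap ∘ₗ LinearMap.inl A B' C'), c ⊗ₜ[C'] Disc.Omega.mk (φ.toLinearMap ∘ₗ LinearMap.inr A B' C')) := by
  have hsm : ∀ (b' : B') (c' : C') (x : B × C), (b', c') • x = (b' • x.1, c' • x.2) := by
    intro b' c' x
    rw [Algebra.smul_def, halg, Algebra.smul_def, Algebra.smul_def]
    rfl
  let p1 : Disc.Omega A (B' × C') →+ Disc.Omega A B' :=
    AddMonoidHom.mk' (fun φ => Disc.Omega.mk (φ.toLinearMap ∘ₗ LinearMap.inl A B' C')) (fun _ _ => rfl)
  let p2 : Disc.Omega A (B' × C') →+ Disc.Omega A C' :=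
    AddMonoidHom.mk' (fun φ => Disc.Omega.mk (φ.toLinearMap ∘ₗ LinearMap.inr A B' C')) (fun _ _ => rfl)
  have hp1 : ∀ (r : B' × C') φ, p1 (r • φ) = r.1 • p1 φ := fun r φ => Disc.Omega.ext (LinearMap.ext fun x => by
    show φ.toLinearMap (r * (x, 0)) = φ.toLinearMap (r.1 * x, 0)
    rw [Prod.mul_def, mul_zero])
  have hp2 : ∀ (r : B' × C') φ, p2 (r • φ) = r.2 • p2 φ := fun r φ => Disc.Omega.ext (LinearMap.ext fun x => by
    show φ.toLinearMap (r * (0, x)) = φ.toLinearMap (0, r.2 * x)
    rw [Prod.mul_def, mul_zero])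
  let u : B × C →+ Disc.Omega A (B' × C') →+ QFDual.omega A B' B × QFDual.omega A C' C :=
    AddMonoidHom.mk' (fun x => AddMonoidHom.mk' (fun φ => (x.1 ⊗ₜ[B'] p1 φ, x.2 ⊗ₜ[C'] p2 φ))
      (fun φ ψ => by simp only [map_add, tmul_add, Prod.mk_add_mk]))
      (fun x y => by
        refine AddMonoidHom.ext fun φ => ?_
        simp only [AddMonoidHom.mk'_apply, AddMonoidHom.add_apply, Prod.fst_add, Prod.snd_add, add_tmul,
          Prod.mk_add_mk])
  let F : QFDual.omega A (B' × C') (B × C) →+ QFDual.omega A B' B × QFDual.omega A C' C :=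
    TensorProduct.liftAddHom u (fun r x φ => by
      obtain ⟨r1, r2⟩ := r
      simp only [u, AddMonoidHom.mk'_apply, hsm, hp1, hp2, smul_tmul])
  let i1 : Disc.Omega A B' →+ Disc.Omega A (B' × C') :=
    AddMonoidHom.mk' (fun φ => Disc.Omega.mk (φ.toLinearMap ∘ₗ LinearMap.fst A B' C')) (fun _ _ => rfl)
  let i2 : Disc.Omega A C' →+ Disc.Omega A (B' × C') :=
    AddMonoidHom.mk' (fun φ => Disc.Omega.mk (φ.toLinearMap ∘ₗ LinearMap.snd A B' C')) (fun _ _ => rfl)
  have hi1 : ∀ (r : B') φ, i1 (r • φ) = ((r, 0) : B' × C') • i1 φ := fun r φ => rfl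
  have hi2 : ∀ (r : C') φ, i2 (r • φ) = ((0, r) : B' × C') • i2 φ := fun r φ => rfl
  let v1 : B →+ Disc.Omega A B' →+ QFDual.omega A (B' × C') (B × C) :=
    AddMonoidHom.mk' (fun b => AddMonoidHom.mk' (fun φ => ((b, 0) : B × C) ⊗ₜ[B' × C'] i1 φ)
      (fun φ ψ => by simp only [map_add, tmul_add]))
      (fun b c => by
        refine AddMonoidHom.ext fun φ => ?_
        simp only [AddMonoidHom.mk'_apply, AddMonoidHom.add_apply, ← add_tmul, Prod.mk_add_mk, add_zero])
  let v2 : C →+ Disc.Omega A C' →+ QFDual.omega A (B' × C') (B × C) :=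
    AddMonoidHom.mk' (fun b => AddMonoidHom.mk' (fun φ => ((0, b) : B × C) ⊗ₜ[B' × C'] i2 φ)
      (fun φ ψ => by simp only [map_add, tmul_add]))
      (fun b c => by
        refine AddMonoidHom.ext fun φ => ?_
        simp only [AddMonoidHom.mk'_apply, AddMonoidHom.add_apply, ← add_tmul, Prod.mk_add_mk, add_zero])
  let G1 := TensorProduct.liftAddHom (M := B) (N := Disc.Omega A B') v1 (fun (r : B') b φ => by
      simp only [v1, AddMonoidHom.mk'_apply, hi1]
      rw [← smul_tmul, hsm, zero_smul])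
  let G2 := TensorProduct.liftAddHom (M := C) (N := Disc.Omega A C') v2 (fun (r : C') b φ => by
      simp only [v2, AddMonoidHom.mk'_apply, hi2]
      rw [← smul_tmul, hsm, zero_smul])
  let G : QFDual.omega A B' B × QFDual.omega A C' C →+ QFDual.omega A (B' × C') (B × C) :=
    G1.coprod G2
  have hF : ∀ x φ, F (x ⊗ₜ φ) = (x.1 ⊗ₜ[B'] p1 φ, x.2 ⊗ₜ[C'] p2 φ) := fun _ _ => rfl
  have hGF : ∀ z, G (F z) = z := by
    intro z
    induction z using TensorProduct.induction_on with
    | zero => rw [map_zero, map_zero]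
    | add x y hx hy => rw [map_add, map_add, hx, hy]
    | tmul x φ =>
      obtain ⟨b, c⟩ := x
      show ((b, 0) : B × C) ⊗ₜ[B' × C'] i1 (p1 φ) + ((0, c) : B × C) ⊗ₜ[B' × C'] i2 (p2 φ) = _
      have e1 : i1 (p1 φ) = ((1, 0) : B' × C') • φ := Disc.Omega.ext (LinearMap.ext fun x => by
        show φ.toLinearMap (x.1, 0) = φ.toLinearMap ((1, 0) * x)
        rw [Prod.mul_def, one_mul, zero_mul])
      have e2 : i2 (p2 φ) = ((0, 1) : B' × C') • φ := Disc.Omega.ext (LinearMap.ext fun x => by
        show φ.toLinearMap (0, x.2) = φ.toLinearMap ((0, 1) * x)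
        rw [Prod.mul_def, one_mul, zero_mul])
      rw [e1, e2, ← smul_tmul, ← smul_tmul, hsm, hsm, ← add_tmul]
      simp
  have hFG : ∀ z, F (G z) = z := by
    intro z
    have h1 : ∀ z, F (G1 z) = (z, 0) := by
      intro z
      induction z using TensorProduct.induction_on with
      | zero => rw [map_zero, map_zero]; rfl
      | add x y hx hy => rw [map_add, map_add, hx, hy]; simp
      | tmul b φ =>
        show (b ⊗ₜ[B'] p1 (i1 φ), (0 : C) ⊗ₜ[C'] p2 (i1 φ)) = _
        rw [zero_tmul]; rfl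
    have h2 : ∀ z, F (G2 z) = (0, z) := by
      intro z
      induction z using TensorProduct.induction_on with
      | zero => rw [map_zero, map_zero]; rfl
      | add x y hx hy => rw [map_add, map_add, hx, hy]; simp
      | tmul b φ =>
        show ((0 : B) ⊗ₜ[B'] p1 (i2 φ), b ⊗ₜ[C'] p2 (i2 φ)) = _
        rw [zero_tmul]; rfl
    obtain ⟨z1, z2⟩ := z
    show F (G1 z1 + G2 z2) = _
    rw [map_add, h1, h2]; simp
  refine ⟨{ F with invFun := G, left_inv := hGF, right_inv := hFG, map_smul' := ?_ }, fun b c φ => rfl⟩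
  intro a z
  show F (a • z) = a • F z
  induction z using TensorProduct.induction_on with
  | zero => simp
  | add x y hx hy => rw [smul_add, map_add, hx, hy, map_add, smul_add]
  | tmul x φ =>
    rw [smul_tmul', hF, hF]
    simp only [Prod.smul_mk, Prod.smul_fst, Prod.smul_snd, smul_tmul']

end Groth.Agent.S8975
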