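import Groth.Statements.S8976
import Groth.Agent.RzLib.HTop

set_option autoImplicit false
universe w u
open HTop

namespace Groth.Agent.S8976

open CategoryTheory CategoryTheory.Limits AlgebraicGeometry in
/-- For a family of morphisms of schemes with fixed target all of whose members are locally of finite
presentation, being a ph covering is equivalent to being a V covering. -/
theorem result {X : Scheme.{u}} (E : PreZeroHypercover.{w} X) (hE : ∀ i, LocallyOfFinitePresentation (E.f i)) : HTop.IsPhCover E ↔ HTop.IsVCover E := by
  exact ⟨RzLib.isVCover_of_isPhCover E, RzLib.isPhCover_of_isVCover E hE⟩

end Groth.Agent.S8976
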