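import Groth.Statements.S8977
import Groth.Agent.VCovLib.Fpqc
import Groth.Agent.VCovLib.SubtrNoeth

set_option autoImplicit false
universe u
open HTop

namespace Groth.Agent.S8977

open CategoryTheory CategoryTheory.Limits AlgebraicGeometry in
/-- For a Noetherian scheme X and a finite family of finite type morphisms X_i → X, the induced morphism
from the coproduct of the X_i to X is universally submersive if and only if the family is an h
covering. -/
theorem result {X : Scheme.{u}} [IsNoetherian X] (E : PreZeroHypercover.{u} X) [Finite E.I₀] [∀ i, LocallyOfFiniteType (E.f i)] [∀ i, QuasiCompact (E.f i)] : SGA1.UnivSubmersive (Sigma.desc E.f) ↔ HTop.IsHCover E := by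
  haveI : ∀ i, CompactSpace (E.X i) := fun i => QuasiCompact.compactSpace_of_compactSpace (E.f i)
  haveI : Finite (sigmaOpenCover E.X).I₀ := ‹Finite E.I₀›
  haveI : ∀ i, CompactSpace ((sigmaOpenCover E.X).X i) := fun i => ‹∀ i, CompactSpace (E.X i)› i
  haveI : CompactSpace ↥(∐ E.X) := (sigmaOpenCover E.X).compactSpace
  haveI : QuasiCompact (Sigma.desc E.f) := inferInstance
  have hfp : ∀ i, LocallyOfFinitePresentation (E.f i) := fun i =>
    LocallyOfFinitePresentation.iff_locallyOfFiniteType.mpr inferInstance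
  refine ⟨fun h => ⟨hfp, (VCovLib.isVCover_sigmaDesc_iff E).mpr ?_⟩,
    fun h => VCovLib.univSubmersive_of_isVCover.{u} _ ((VCovLib.isVCover_sigmaDesc_iff E).mp h.2)⟩
  refine (VCovLib.isVCover_singleton_iff.{u, u} _).mpr ((VCovLib.hasValLift_singleton_iff _).mpr fun Z g z' z hz => ?_)
  have hS := (VCovLib.univSubmersive_iff_univSSubtrusive (Sigma.desc E.f)).1 h
  obtain ⟨x, x', hx, h1, h2⟩ := hS (pullback.snd g (Sigma.desc E.f)) g (pullback.fst g (Sigma.desc E.f))
    (IsPullback.of_hasPullback g (Sigma.desc E.f)) hz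
  exact ⟨x', x, hx, h2, h1⟩

end Groth.Agent.S8977
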