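import Groth.Statements.S8993
import Groth.Agent.AWNLib.Char
import Mathlib.FieldTheory.PerfectClosure

set_option autoImplicit false
universe u
open HTop

namespace Groth.Agent.S8993

/-- For a ring A of prime characteristic p, the map from A to the direct limit of A along Frobenius (the
perfect closure) is an absolute weak normalization of A. (The published statement also identifies,
over a base of characteristic p, the h sheafification of the structure sheaf on quasi-compact
quasi-separated objects with this colimit; that part is not stated here.) -/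
theorem result (p : ℕ) [Fact p.Prime] (A : Type u) [CommRing A] [CharP A p] : HTop.IsRingAWN (PerfectClosure.of A p) := by
  have hpr : p.Prime := Fact.out
  letI : Algebra (ZMod p) (PerfectClosure A p) := ZMod.algebra _ p
  have hB : HTop.IsAWNRing (PerfectClosure A p) := (AWNLib.isAWNRing_iff_perfect p _).2 inferInstance
  have hpow : ∀ x : PerfectClosure A p, ∃ n, 0 < n ∧ x ^ n ∈ (PerfectClosure.of A p).range := fun x => by
    refine PerfectClosure.induction_on x fun ⟨n, a⟩ => ⟨p ^ n, pow_pos hpr.pos n, a, ?_⟩
    rw [← iterate_frobenius]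
    exact (PerfectClosure.iterate_frobenius_mk A p n a).symm
  have hof : FlatMor.IsUnivHomeo (AlgebraicGeometry.Spec.map (CommRingCat.ofHom (PerfectClosure.of A p))) := by
    rw [AWNLib.univHomeo_iff]
    refine ⟨fun x => ?_, ?_, fun K _ g₁ g₂ h => ?_⟩
    · obtain ⟨n, hn, a, ha⟩ := hpow x
      letI := (PerfectClosure.of A p).toAlgebra
      exact IsIntegral.of_pow (R := A) hn (by rw [← ha]; exact (isIntegral_algebraMap : IsIntegral A (algebraMap A (PerfectClosure A p) a)))
    · refine (PrimeSpectrum.isHomeomorph_comap _ hpow fun x hx => ?_).surjective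
      rw [mem_nilradical]
      have h0 : PerfectClosure.mk A p (0, x) = PerfectClosure.mk A p (0, 0) := by
        rw [← PerfectClosure.of_apply, RingHom.mem_ker.1 hx]
        rfl
      obtain ⟨z, hz⟩ := (PerfectClosure.mk_eq_iff A p _ _).1 h0
      simp only [zero_add, iterate_map_zero, iterate_frobenius] at hz
      exact ⟨p ^ z, hz⟩
    · have : CharP K p := (CharP.charP_iff_prime_eq_zero hpr).2 (by
        rw [← map_natCast (g₁.comp (PerfectClosure.of A p)), CharP.cast_eq_zero, map_zero])
      refine RingHom.ext fun x => PerfectClosure.induction_on x fun ⟨n, a⟩ => ?_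
      refine EtaLib.eq_of_pow_eq p n ?_
      rw [← map_pow, ← map_pow, ← iterate_frobenius, PerfectClosure.iterate_frobenius_mk A p]
      exact DFunLike.congr_fun h a
  obtain ⟨g, hg, -⟩ := (AWNLib.isRingAWN_toAwn A).2 _ (PerfectClosure.of A p) hof
  have hbij := (AWNLib.bijective_iff_isAWNRing (AWNLib.toAwn A) (AWNLib.isRingAWN_toAwn A) _ hof g hg).2 hB
  let e := RingEquiv.ofBijective g hbij
  refine ⟨hof, fun C _ ψ hψ => ?_⟩
  obtain ⟨χ, hχ, huniq⟩ := (AWNLib.isRingAWN_toAwn A).2 C ψ hψ
  refine ⟨e.symm.toRingHom.comp χ, RingHom.ext fun a => ?_, fun χ' hχ' => ?_⟩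
  · show e.symm (χ (ψ a)) = _
    rw [show χ (ψ a) = e (PerfectClosure.of A p a) from (DFunLike.congr_fun hχ a).trans (DFunLike.congr_fun hg a).symm,
      e.symm_apply_apply]
  · have := huniq (g.comp χ') (by show (g.comp χ').comp ψ = _; rw [RingHom.comp_assoc, hχ', hg])
    refine RingHom.ext fun c => e.injective ?_
    show g (χ' c) = e (e.symm (χ c))
    rw [e.apply_symm_apply]
    exact DFunLike.congr_fun this c
end Groth.Agent.S8993
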