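import Groth.Statements.S8995
import Mathlib
import Groth.Agent.S1412
import Groth.Agent.AbsFlat.Basic
-- import your own Groth.Agent.* helpers here

set_option autoImplicit false
universe v u
open FlatMor

namespace Groth.Agent.S8995

open CategoryTheory CategoryTheory.Limits AlgebraicGeometry in
/-- For an etale morphism T → S and a point t of T over s, a module over the local ring of T at t is
flat over the local ring of S at s (through the stalk map) if and only if it is flat over the local
ring of T at t. -/
theorem result {T S : Scheme.{u}} (g : T ⟶ S) [Etale g] (t : T) (M : Type v) [AddCommGroup M] [Module (T.presheaf.stalk t) M] [Algebra (S.presheaf.stalk (g.base t)) (T.presheaf.stalk t)] [Module (S.presheaf.stalk (g.base t)) M] [IsScalarTower (S.presheaf.stalk (g.base t)) (T.presheaf.stalk t) M] (halg : algebraMap (S.presheaf.stalk (g.base t)) (T.presheaf.stalk t) = (g.stalkMap t).hom) : Module.Flat (S.presheaf.stalk (g.base t)) M ↔ Module.Flat (T.presheaf.stalk t) M := by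
  haveI : WeaklyEtale g := {}
  obtain ⟨hflat, hmul⟩ := (Groth.Agent.S1412.result g).1 inferInstance t
  have he : (inferInstance : Algebra (S.presheaf.stalk (g.base t)) (T.presheaf.stalk t)) = (g.stalkMap t).hom.toAlgebra :=
    Algebra.algebra_ext _ _ fun r => by rw [halg]; rfl
  constructor
  · intro h
    have aux : ∀ a : Algebra (S.presheaf.stalk (g.base t)) (T.presheaf.stalk t), a = (g.stalkMap t).hom.toAlgebra →
        (letI := a
         (Algebra.TensorProduct.lmul' (S := T.presheaf.stalk t) (S.presheaf.stalk (g.base t))).toRingHom.Flat) := by
      rintro a rfl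
      exact hmul
    exact _root_.Groth.Agent.AbsFlat.flat_of_flat_mul (A := S.presheaf.stalk (g.base t)) (B := T.presheaf.stalk t) (aux _ he) M
  · intro h
    haveI : Module.Flat (S.presheaf.stalk (g.base t)) (T.presheaf.stalk t) := by
      rw [← RingHom.flat_algebraMap_iff, halg]
      exact hflat
    exact Module.Flat.trans (S.presheaf.stalk (g.base t)) (T.presheaf.stalk t) M

end Groth.Agent.S8995
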