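import Groth.Statements.S9007
-- import your own Groth.Agent.* helpers here

set_option autoImplicit false
universe u
open FlatMor

namespace Groth.Agent.S9007

open CategoryTheory CategoryTheory.Limits AlgebraicGeometry

open CategoryTheory CategoryTheory.Limits AlgebraicGeometry in
/-- For a morphism f of compactifications of X over a quasi-compact quasi-separated S whose source
contains X as a dense open, the preimage under f of the image of X in the target is the image of X
in the source. -/
theorem result {X S : Scheme.{u}} [CompactSpace S] [QuasiSeparatedSpace S] (p : X ⟶ S) [IsSeparated p] [QuasiCompact p] [LocallyOfFiniteType p] {Y Y' : Scheme.{u}} (j : X ⟶ Y) (q : Y ⟶ S) [IsOpenImmersion j] [IsProper q] (h : j ≫ q = p) (j' : X ⟶ Y') (q' : Y' ⟶ S) [IsOpenImmersion j'] [IsProper q'] (h' : j' ≫ q' = p) (f : Y' ⟶ Y) (hf : f ≫ q = q') (hfj : j' ≫ f = j) (hd : Dense (Set.range j'.base)) : f ⁻¹ᵁ j.opensRange = j'.opensRange := by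
  haveI : IsSeparated (f ≫ q) := hf ▸ inferInstance
  haveI : IsSeparated f := IsSeparated.of_comp f q
  let s : X ⟶ pullback f j := pullback.lift j' (𝟙 X) (by rw [hfj, Category.id_comp])
  haveI : IsClosedImmersion s := by
    haveI : IsClosedImmersion (s ≫ pullback.snd f j) := by rw [pullback.lift_snd]; infer_instance
    exact IsClosedImmersion.of_comp s (pullback.snd f j)
  ext y
  simp only [TopologicalSpace.Opens.coe_mk, Scheme.Hom.coe_opensRange, Scheme.Hom.coe_preimage,
    Set.mem_preimage]
  constructor
  · intro hy
    obtain ⟨z, rfl⟩ : y ∈ Set.range (pullback.fst f j) := by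
      rw [Scheme.Pullback.range_fst]; exact hy
    have hemb := (pullback.fst f j).isOpenEmbedding
    have hD : Dense (pullback.fst f j ⁻¹' Set.range j') := hd.preimage hemb.isOpenMap
    have heq : pullback.fst f j ⁻¹' Set.range j' = Set.range s := by
      ext w
      constructor
      · rintro ⟨x, hx⟩
        exact ⟨x, hemb.injective (by
          rw [← Scheme.Hom.comp_apply, pullback.lift_fst]; exact hx)⟩
      · rintro ⟨x, rfl⟩
        exact ⟨x, by rw [← Scheme.Hom.comp_apply, pullback.lift_fst]⟩
    rw [heq] at hD
    obtain ⟨x, hx⟩ : z ∈ Set.range s := by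
      rw [← s.isClosedEmbedding.isClosed_range.closure_eq, hD.closure_eq]; trivial
    exact ⟨x, by rw [← hx, ← Scheme.Hom.comp_apply, pullback.lift_fst]⟩
  · rintro ⟨x, rfl⟩
    exact ⟨x, by rw [← Scheme.Hom.comp_apply, hfj]⟩

end Groth.Agent.S9007
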