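import Groth.Statements.S9025
import Groth.Agent.WeilResLib.EssFree
import Groth.Agent.S1219
import Groth.Agent.AlgSpLib.Sep

set_option autoImplicit false
set_option backward.isDefEq.respectTransparency false
set_option backward.isDefEq.respectTransparency.types false
set_option maxHeartbeats 1000000
universe u
open FlatMor

namespace Groth.Agent.S9025

open CategoryTheory CategoryTheory.Limits AlgebraicGeometry Opposite
theorem exists_closed {A B : Type u} [CommRing A] [CommRing B] [Algebra A B] [Module.Projective A B]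
    {Y : Scheme.{u}} (i : Y ⟶ Spec (CommRingCat.of B)) [IsClosedImmersion i] :
    ∃ (Z : Scheme.{u}) (t : Z ⟶ Spec (CommRingCat.of A)), IsClosedImmersion t ∧
      (∀ (S' : Scheme.{u}) (g : S' ⟶ Spec (CommRingCat.of A)), (∃ g' : S' ⟶ Z, g' ≫ t = g) ↔
        IsIso (pullback.snd i (pullback.fst (Spec.map (CommRingCat.ofHom (algebraMap A B))) g))) ∧
      (LocallyOfFinitePresentation i → LocallyOfFinitePresentation t) := by
  let S := Spec (CommRingCat.of A)
  let f := Spec.map (CommRingCat.ofHom (algebraMap A B))
  have hf : SGA3x.IsEssentiallyFree f := by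
    intro s
    let g : S ⟶ ((⊤ : S.Opens) : Scheme.{u}) := S.topIso.inv
    refine ⟨⊤, trivial, isAffineOpen_top _, S, inferInstance, g, inferInstance, inferInstance, fun x => ?_⟩
    have hg : g ≫ (⊤ : S.Opens).ι = 𝟙 S := S.topIso.inv_hom_id
    haveI : IsIso (g ≫ (⊤ : S.Opens).ι) := by rw [hg]; infer_instance
    haveI : IsAffine (pullback f (g ≫ (⊤ : S.Opens).ι)) := IsAffine.of_isIso (pullback.fst f (g ≫ (⊤ : S.Opens).ι))
    refine ⟨⊤, trivial, isAffineOpen_top _, ?_⟩
    let P := pullback f (g ≫ (⊤ : S.Opens).ι)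
    let φ := (⊤ : P.Opens).ι ≫ pullback.snd f (g ≫ (⊤ : S.Opens).ι)
    let α := (⊤ : P.Opens).ι ≫ pullback.fst f (g ≫ (⊤ : S.Opens).ι)
    haveI : IsIso (⊤ : P.Opens).ι := by
      rw [← Scheme.topIso_hom]; infer_instance
    haveI : IsIso α := IsIso.comp_isIso' inferInstance inferInstance
    have hφ : φ = α ≫ f := by
      show (⊤ : P.Opens).ι ≫ _ = ((⊤ : P.Opens).ι ≫ _) ≫ f
      rw [Category.assoc]
      congr 1
      refine Eq.symm (pullback.condition.trans ?_)
      rw [hg, Category.comp_id]
    haveI : IsIso α.appTop := inferInstance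
    let eB : B ≃+* Γ(((⊤ : P.Opens) : Scheme.{u}), ⊤) :=
      ((Scheme.ΓSpecIso (CommRingCat.of B)).symm ≪≫ asIso α.appTop).commRingCatIsoToRingEquiv
    let eA : A ≃+* Γ(S, ⊤) := (Scheme.ΓSpecIso (CommRingCat.of A)).symm.commRingCatIsoToRingEquiv
    have hc : ∀ a, φ.appTop.hom (eA a) = eB (algebraMap A B a) := fun a => by
      have h2 : (Scheme.ΓSpecIso (CommRingCat.of A)).inv ≫ φ.appTop = CommRingCat.ofHom (algebraMap A B) ≫
          ((Scheme.ΓSpecIso (CommRingCat.of B)).inv ≫ α.appTop) := by
        rw [hφ, Scheme.Hom.comp_appTop, ← Category.assoc, ← Category.assoc, Scheme.ΓSpecIso_inv_naturality]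
      exact RingHom.congr_fun (congrArg CommRingCat.Hom.hom h2) a
    letI algP : Algebra Γ(S, ⊤) Γ(((⊤ : P.Opens) : Scheme.{u}), ⊤) := φ.appTop.hom.toAlgebra
    show Module.Projective Γ(S, ⊤) Γ(((⊤ : P.Opens) : Scheme.{u}), ⊤)
    letI : RingHomInvPair (eA : A →+* Γ(S, ⊤)) (eA.symm : Γ(S, ⊤) →+* A) := RingHomInvPair.of_ringEquiv eA
    letI : RingHomInvPair (eA.symm : Γ(S, ⊤) →+* A) (eA : A →+* Γ(S, ⊤)) := RingHomInvPair.of_ringEquiv eA.symm
    refine Module.Projective.of_equiv
      ({ eB.toAddEquiv with
        map_smul' := fun a b => by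
          show eB (a • b) = eA a • eB b
          rw [Algebra.smul_def, Algebra.smul_def, map_mul]
          congr 1
          exact (hc a).symm } : B ≃ₛₗ[(eA : A →+* Γ(S, ⊤))] Γ(((⊤ : P.Opens) : Scheme.{u}), ⊤))
  obtain ⟨Z, t, h1, h2, h3⟩ := Groth.Agent.WeilRes.exists_closed_inY_essFree f hf i
  exact ⟨Z, t, h1, fun S' g => (h2 g).trans (Groth.Agent.WeilRes.inY_iff_isIso f i g),
    fun hi => h3 ⟨inferInstance, hi⟩⟩

open CategoryTheory CategoryTheory.Limits AlgebraicGeometry Opposite in
/-- For X = Spec B and S = Spec A affine (purity of a morphism is available here only in ring form), let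
A → B be a flat ring map of finite presentation such that the structure sheaf of X = Spec B is pure
relative to S = Spec A, and let i : Y → Spec B be a closed immersion (a closed subscheme Y of X).
Then the Weil restriction functor of Y along X → S, the functor on schemes over S with one point on
T when the base change Y_T → X_T of i is an isomorphism and empty otherwise (the subfunctor of the
final functor generated by that condition), is representable by a scheme Z over S whose structure
morphism Z → S is a closed immersion. If moreover Y → S is locally of finite presentation (hence of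
finite presentation) then Z → S is locally of finite presentation. -/
theorem result {A B : Type u} [CommRing A] [CommRing B] [Algebra A B] [Algebra.FinitePresentation A B] [Module.Flat A B]
    (hpure : FlatCA.IsPure A B B) {Y : Scheme.{u}} (i : Y ⟶ Spec (CommRingCat.of B)) [IsClosedImmersion i] :
    ∃ Z : Over (Spec (CommRingCat.of A)), IsClosedImmersion Z.hom ∧
      Nonempty ((FlatFun.genPSp (Spec (CommRingCat.of A)) (fun T =>
        IsIso (pullback.snd i (pullback.fst (Spec.map (CommRingCat.ofHom (algebraMap A B))) T.hom)))).RepresentableBy Z) ∧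
      (LocallyOfFinitePresentation (i ≫ Spec.map (CommRingCat.ofHom (algebraMap A B))) →
        LocallyOfFinitePresentation Z.hom) := by
  haveI : Module.Projective A B := (Groth.Agent.S1219.result B).2 hpure
  obtain ⟨Z, t, h1, h2, h3⟩ := exists_closed (A := A) i
  refine ⟨Over.mk t, h1, ?_, fun h => ?_⟩
  · let P : Over (Spec (CommRingCat.of A)) → Prop := fun T =>
      IsIso (pullback.snd i (pullback.fst (Spec.map (CommRingCat.ofHom (algebraMap A B))) T.hom))
    have hstab : ∀ ⦃T T₀ : Over (Spec (CommRingCat.of A))⦄ (_ : T ⟶ T₀), P T₀ → P T := fun T T₀ g hP => by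
      obtain ⟨k, hk⟩ := (h2 _ T₀.hom).2 hP
      exact (h2 _ T.hom).1 ⟨g.left ≫ k, by rw [Category.assoc, hk, Over.w g]⟩
    haveI : IsClosedImmersion t := h1
    refine ⟨{ homEquiv := fun {T} => ?_, homEquiv_comp := fun _ _ => Subsingleton.elim _ _ }⟩
    exact
      { toFun := fun g => (FlatFun.genPSp_nonempty_of P ((h2 _ T.hom).1 ⟨g.left, Over.w g⟩)).some
        invFun := fun x =>
          Over.homMk ((h2 _ T.hom).2 ((FlatFun.genPSp_nonempty_iff_of_stable P hstab T).1 ⟨x⟩)).choose
            ((h2 _ T.hom).2 ((FlatFun.genPSp_nonempty_iff_of_stable P hstab T).1 ⟨x⟩)).choose_spec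
        left_inv := fun g => Over.OverMorphism.ext ((cancel_mono t).1 (((h2 _ T.hom).2
          ((FlatFun.genPSp_nonempty_iff_of_stable P hstab T).1
            ⟨(FlatFun.genPSp_nonempty_of P ((h2 _ T.hom).1 ⟨g.left, Over.w g⟩)).some⟩)).choose_spec.trans (Over.w g).symm))
        right_inv := fun x => Subsingleton.elim _ _ }
  · haveI : LocallyOfFiniteType (Spec.map (CommRingCat.ofHom (algebraMap A B))) := by
      rw [HasRingHomProperty.Spec_iff (P := @LocallyOfFiniteType)]
      exact RingHom.finiteType_algebraMap.2 inferInstance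
    haveI := h
    exact h3 (AlgSpLib.lfp_of_comp_lft i (Spec.map (CommRingCat.ofHom (algebraMap A B))))

end Groth.Agent.S9025
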