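import Groth.Statements.S9030
import Groth.Agent.FlatInDimLib.Strata
import Groth.Agent.FlatInDimLib.Rep

set_option autoImplicit false
set_option backward.isDefEq.respectTransparency false
set_option backward.isDefEq.respectTransparency.types false
set_option maxHeartbeats 1000000
universe u
open FlatMor

namespace Groth.Agent.S9030


section Helpers
end Helpers

open CategoryTheory CategoryTheory.Limits AlgebraicGeometry Opposite in
/-- In this form S = Spec A and X = Spec B are affine, as the existence of a complete dévissage forces,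
and the test schemes are affine as well, which suffices. Let B be a finitely presented A-algebra, N
a finitely presented B-module, s a prime of A and d ≥ 0. Assume given a complete dévissage (A_i,
B_i, M_i, α_i) of N over B over A over s (the ring-level structure) in which, for every step i, the
smooth A-algebra B_i has relative dimension equal to the Krull dimension of the support of the fibre
module M_i ⊗ κ(s) over B_i ⊗ κ(s) — together this is the complete dévissage of the module over the
scheme Spec B over Spec A over the point s — and assume that N is flat over A in dimensions ≥ d + 1.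
Then, over some principal open neighbourhood D(g) of s, the functor F_d is representable by a
monomorphism of finite presentation: there are g ∈ A not in s and a monomorphism of schemes Z → Spec
A which is locally of finite presentation, quasi-compact and quasi-separated, such that for every
A-algebra A' in which g is invertible, with base changes B' of B and N' of N (any models), N' is
flat over A' in dimensions ≥ d if and only if Spec A' → Spec A factors through Z. -/
theorem result {A B : Type u} [CommRing A] [CommRing B] [Algebra A B] [Algebra.FinitePresentation A B]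
    (N : Type u) [AddCommGroup N] [Module B N] [Module A N] [IsScalarTower A B N] [Module.FinitePresentation B N]
    (s : Ideal A) [s.IsPrime] (D : FlatCA.CompleteDevissage A B N s)
    (hdim : ∀ i, i < D.n → ∃ e : ℕ, FlatCA.SmoothRelDim e A (D.B i) ∧
      Module.supportDim (s.Fiber (D.B i)) (FlatCA.fiberMod s (D.B i) (D.M i)) = e)
    (d : ℕ) (hflat : FlatCA.FlatInDimGE (d + 1) A B N) :
    ∃ g : A, g ∉ s ∧ ∃ (Z : Scheme.{u}) (i : Z ⟶ Spec (CommRingCat.of A)),
      Mono i ∧ LocallyOfFinitePresentation i ∧ QuasiCompact i ∧ QuasiSeparated i ∧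
      ∀ (A' B' N' : Type u) [CommRing A'] [CommRing B'] [Algebra A A'] [Algebra B B'] [Algebra A' B'] [Algebra A B']
        [IsScalarTower A B B'] [IsScalarTower A A' B'] [Algebra.IsPushout A B A' B']
        [AddCommGroup N'] [Module B' N'] [Module B N'] [IsScalarTower B B' N'] [Module A' N'] [IsScalarTower A' B' N']
        (φ : N →ₗ[B] N'), IsBaseChange B' φ → IsUnit (algebraMap A A' g) →
        (FlatCA.FlatInDimGE d A' B' N' ↔
          ∃ k : Spec (CommRingCat.of A') ⟶ Z, k ≫ i = Spec.map (CommRingCat.ofHom (algebraMap A A'))) := by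
  have hmodel : ∀ (g : A) (A' B' N' : Type u) [CommRing A'] [CommRing B'] [Algebra A A'] [Algebra B B'] [Algebra A' B']
      [Algebra A B'] [IsScalarTower A B B'] [IsScalarTower A A' B'] [Algebra.IsPushout A B A' B']
      [AddCommGroup N'] [Module B' N'] [Module B N'] [IsScalarTower B B' N'] [Module A' N'] [IsScalarTower A' B' N']
      (φ : N →ₗ[B] N'), IsBaseChange B' φ → IsUnit (algebraMap A A' g) →
      (FlatCA.FlatInDimGE d A' B' N' ↔ FlatInDimLib.FDb d g A' B N) := by
    intro g A' B' N' _ _ _ _ _ _ _ _ _ _ _ _ _ _ _ φ hφ hu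
    exact (FlatInDimLib.flatInDimGE_iff_of_isUnit hu).trans (FlatInDimLib.fdb_iff_model φ hφ).symm
  rcases FlatInDimLib.exists_reduction D d hflat (fun i hi => (hdim i hi).imp fun e he => ⟨1, fun h1 => Ideal.IsPrime.ne_top inferInstance ((Ideal.eq_top_iff_one _).2 h1),
      haveI := D.smooth i hi; FlatInDimLib.fibDim_of_smoothRelDim he.1 (D.geomIrred i hi) 1⟩) with
    ⟨g, hg, H⟩ | ⟨i, hi, ⟨g₀, hg₀, hs⟩, hfp, g, hg, H⟩
  · refine ⟨g, hg, Spec (CommRingCat.of A), 𝟙 _, inferInstance, inferInstance, inferInstance, inferInstance, ?_⟩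
    intro A' B' N' _ _ _ _ _ _ _ _ _ _ _ _ _ _ _ φ hφ hu
    exact iff_of_true ((hmodel g A' B' N' φ hφ hu).2 (H A')) ⟨_, Category.comp_id _⟩
  · haveI := hfp
    haveI := D.smooth i hi
    obtain ⟨c, J, J', hfg, hmon, hJ⟩ := FlatInDimLib.exists_strata hs (D.M i) (D.geomIrred i hi)
    obtain ⟨Z, z, h1, h2, h3, h4, hZ⟩ := FlatInDimLib.exists_rep c J J' hfg hmon
    refine ⟨g * g₀, Ideal.IsPrime.mul_notMem inferInstance hg hg₀, Z, z, h1, h2, h3, h4, ?_⟩
    intro A' B' N' _ _ _ _ _ _ _ _ _ _ _ _ _ _ _ φ hφ hu
    have hu₀ : IsUnit (algebraMap A A' g₀) := by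
      rw [map_mul] at hu
      exact isUnit_of_mul_isUnit_right hu
    refine (hmodel (g * g₀) A' B' N' φ hφ hu).trans ((H d _ (dvd_mul_right g g₀) A').trans ?_)
    refine Iff.trans ((FlatInDimLib.flatInDimGE_iff_of_isUnit hu).symm.trans
      (FlatInDimLib.flatInDimGE_iff_of_isUnit hu₀)) ((hJ A').trans (Iff.trans ?_ (hZ A')))
    exact ⟨fun h t ht => h t fun hm => ht.ne_top (Ideal.eq_top_of_isUnit_mem t hm hu₀), fun h t ht _ => h t⟩

end Groth.Agent.S9030
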