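import Groth.Statements.S9032
import Groth.Agent.AInjLib.StalkTest
import Groth.Agent.AInjLib.Descent
import Groth.Agent.AlgzCohLib.PiSections
import Groth.Agent.FlatLib.QStalk
import Groth.Agent.FlatLib.PrimaryScheme
import Groth.Agent.KFlatLib.AffinePull
import Groth.Agent.S1178

set_option autoImplicit false
universe u
open FlatMor

namespace Groth.Agent.S9032

open CategoryTheory CategoryTheory.Limits AlgebraicGeometry Opposite IsLocalRing TensorProduct

/-- Flatness spreads to nearby points of the closed fibre. -/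
theorem exists_nhd_flat {A A' C C' N N' : Type u} [CommRing A] [CommRing A'] [CommRing C] [CommRing C']
    [Algebra A A'] [Algebra A C] [Algebra C C'] [Algebra A' C'] [Algebra A C'] [IsScalarTower A C C']
    [IsScalarTower A A' C'] [Algebra.IsPushout A C A' C'] [Algebra.FinitePresentation A' C']
    [AddCommGroup N] [Module C N]
    [AddCommGroup N'] [Module C' N'] [Module C N'] [IsScalarTower C C' N'] [Module A' N'] [IsScalarTower A' C' N']
    [Module.FinitePresentation C' N']
    (hsA : Function.Surjective (algebraMap A A')) (q : Ideal C) [q.IsPrime] (m : Ideal A)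
    (hq : q.comap (algebraMap A C) = m) (hm : RingHom.ker (algebraMap A A') ≤ m) (p' : Ideal A') (hp' : p'.comap (algebraMap A A') = m)
    (h : ∀ (Q : Ideal C') [Q.IsPrime], Q.comap (algebraMap A' C') = p' → Q.comap (algebraMap C C') = q → FlatCA.FlatAt A' Q N') :
    ∃ g : C, g ∉ q ∧ ∀ (q₁ : Ideal C) [q₁.IsPrime], g ∉ q₁ →
      ∀ (Q : Ideal C') [Q.IsPrime], Q.comap (algebraMap C C') = q₁ → FlatCA.FlatAt A' Q N' := by
  let ρ : A' →ₐ[A] C ⧸ q := AlgHom.liftOfSurjective (Algebra.ofId A A') hsA (Algebra.ofId A (C ⧸ q)) fun a ha => by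
    show algebraMap A (C ⧸ q) a = 0
    rw [IsScalarTower.algebraMap_apply A C (C ⧸ q)]
    exact Ideal.Quotient.eq_zero_iff_mem.2 (hq.ge (hm ha))
  let ε : C' →ₐ[A] C ⧸ q := Algebra.pushoutDesc C' (IsScalarTower.toAlgHom A C (C ⧸ q)) ρ fun _ _ => Commute.all _ _
  have hεC : ∀ c, ε (algebraMap C C' c) = Ideal.Quotient.mk q c := fun c =>
    Algebra.pushoutDesc_left (S' := C') (IsScalarTower.toAlgHom A C (C ⧸ q)) ρ (fun _ _ => Commute.all _ _) c
  let x₁ : Ideal C' := RingHom.ker ε.toRingHom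
  haveI : x₁.IsPrime := RingHom.ker_isPrime _
  have hx₁ : x₁.comap (algebraMap C C') = q := by
    ext c
    rw [Ideal.mem_comap, RingHom.mem_ker]
    show ε (algebraMap C C' c) = 0 ↔ c ∈ q
    rw [hεC, Ideal.Quotient.eq_zero_iff_mem]
  have hx₁p : x₁.comap (algebraMap A' C') = p' := by
    apply Ideal.comap_injective_of_surjective _ hsA
    show (x₁.comap (algebraMap A' C')).comap (algebraMap A A') = p'.comap (algebraMap A A')
    rw [hp', Ideal.comap_comap, ← IsScalarTower.algebraMap_eq, IsScalarTower.algebraMap_eq A C C',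
      ← Ideal.comap_comap, hx₁, hq]
  obtain ⟨f, hf, hfl⟩ := DevissExLib.exists_flat_away N' x₁ (h x₁ hx₁p hx₁)
  have hsurj : Function.Surjective (algebraMap C C') := by
    haveI : Algebra.IsPushout A A' C C' := Algebra.IsPushout.symm inferInstance
    intro z
    obtain ⟨w, rfl⟩ := (Algebra.IsPushout.equiv A A' C C').surjective z
    induction w using TensorProduct.induction_on with
    | zero => exact ⟨0, by rw [map_zero, map_zero]⟩
    | add u v hu hv =>
      obtain ⟨a, ha⟩ := hu; obtain ⟨b, hb⟩ := hv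
      exact ⟨a + b, by rw [map_add, ha, hb, map_add]⟩
    | tmul a c =>
      obtain ⟨a, rfl⟩ := hsA a
      refine ⟨algebraMap A C a * c, ?_⟩
      rw [Algebra.IsPushout.equiv_tmul, map_mul, ← IsScalarTower.algebraMap_apply,
        IsScalarTower.algebraMap_apply A A' C']
  obtain ⟨g, rfl⟩ := hsurj f
  refine ⟨g, fun hg => hf (by
    rw [RingHom.mem_ker]
    show ε (algebraMap C C' g) = 0
    rw [hεC, Ideal.Quotient.eq_zero_iff_mem]
    exact hg), fun q₁ _ hgq₁ Q _ hQ => ?_⟩
  haveI := hfl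
  haveI : Module.Flat A' (LocalizedModule (Submonoid.powers (algebraMap C C' g)) N') :=
    Module.Flat.of_linearEquiv
      ((LocalizedModule.equivTensorProduct (Submonoid.powers (algebraMap C C' g)) N').restrictScalars A')
  exact AInjLib.flat_localized_of_le
    (Submonoid.powers_le.2 fun hh => hgq₁ (hQ ▸ (hh : g ∈ Q.comap (algebraMap C C')))) inferInstance

/-- In a chart, generalisations in the closed fibre have smaller flattening ideals. -/
theorem exists_nhd_le {A : Type u} [CommRing A] [HenselianLocalRing A] {C : Type u} [CommRing C] [Algebra A C]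
    [Algebra.FinitePresentation A C] (N : Type u) [AddCommGroup N] [Module C N] [Module A N] [IsScalarTower A C N]
    [Module.FinitePresentation C N] (q : Ideal C) [q.IsPrime] (hq : q.comap (algebraMap A C) = maximalIdeal A) :
    ∃ (I : Ideal A) (g : C), g ∉ q ∧ I.FG ∧
      (∀ (A' : Type u) [CommRing A'] [Algebra A A'] (p' : Ideal A') [p'.IsPrime],
        p'.comap (algebraMap A A') = maximalIdeal A →
        ∀ (C' N' : Type u) [CommRing C'] [Algebra C C'] [Algebra A' C'] [Algebra A C'] [IsScalarTower A C C']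
          [IsScalarTower A A' C'] [Algebra.IsPushout A C A' C']
          [AddCommGroup N'] [Module C' N'] [Module C N'] [IsScalarTower C C' N'] [Module A' N'] [IsScalarTower A' C' N']
          (g : N →ₗ[C] N'), IsBaseChange C' g →
          ((∀ (Q : Ideal C') [Q.IsPrime], Q.comap (algebraMap A' C') = p' → Q.comap (algebraMap C C') = q →
              FlatCA.FlatAt A' Q N') ↔ I.map (algebraMap A (Localization.AtPrime p')) = ⊥)) ∧
      ∀ (q₁ : Ideal C) [q₁.IsPrime], q₁.comap (algebraMap A C) = maximalIdeal A →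
      g ∉ q₁ → ∀ I₁ : Ideal A,
      (∀ (A' : Type u) [CommRing A'] [Algebra A A'] (p' : Ideal A') [p'.IsPrime],
        p'.comap (algebraMap A A') = maximalIdeal A →
        ∀ (C' N' : Type u) [CommRing C'] [Algebra C C'] [Algebra A' C'] [Algebra A C'] [IsScalarTower A C C']
          [IsScalarTower A A' C'] [Algebra.IsPushout A C A' C']
          [AddCommGroup N'] [Module C' N'] [Module C N'] [IsScalarTower C C' N'] [Module A' N'] [IsScalarTower A' C' N']
          (g : N →ₗ[C] N'), IsBaseChange C' g →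
          ((∀ (Q : Ideal C') [Q.IsPrime], Q.comap (algebraMap A' C') = p' → Q.comap (algebraMap C C') = q₁ →
              FlatCA.FlatAt A' Q N') ↔ I₁.map (algebraMap A (Localization.AtPrime p')) = ⊥)) → I₁ ≤ I := by
  obtain ⟨I, hI, hfg⟩ := AInjLib.exists_ideal_stalk N q hq
  have hFG : I.FG := hfg inferInstance inferInstance
  by_cases hItop : I = ⊤
  · exact ⟨I, 1, (inferInstance : q.IsPrime).one_notMem, hFG, hI, fun q₁ _ _ _ I₁ _ => by rw [hItop]; exact le_top⟩
  haveI : Nontrivial (A ⧸ I) := Ideal.Quotient.nontrivial_iff.2 hItop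
  let p' : Ideal (A ⧸ I) := (maximalIdeal A).map (Ideal.Quotient.mk I)
  have hp'c : p'.comap (algebraMap A (A ⧸ I)) = maximalIdeal A := by
    rw [Ideal.Quotient.algebraMap_eq, Ideal.comap_map_of_surjective _ Ideal.Quotient.mk_surjective,
      ← RingHom.ker_eq_comap_bot, Ideal.mk_ker]
    exact sup_eq_left.2 (IsLocalRing.le_maximalIdeal hItop)
  haveI : p'.IsPrime := Ideal.map_isPrime_of_surjective Ideal.Quotient.mk_surjective
    (by rw [Ideal.mk_ker]; exact IsLocalRing.le_maximalIdeal hItop)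
  have hker : I.map (algebraMap A (Localization.AtPrime p')) = ⊥ := by
    rw [IsScalarTower.algebraMap_eq A (A ⧸ I) (Localization.AtPrime p'), ← Ideal.map_map, Ideal.Quotient.algebraMap_eq,
      Ideal.map_quotient_self, Ideal.map_bot]
  obtain ⟨C', _, _, _, _, _, _, _, _, N', _, _, _, _, _, _, _, ι, hι⟩ :
      ∃ (C' : Type u) (_ : CommRing C') (_ : Algebra C C') (_ : Algebra (A ⧸ I) C') (_ : Algebra A C')
        (_ : IsScalarTower A C C') (_ : IsScalarTower A (A ⧸ I) C') (_ : Algebra.IsPushout A C (A ⧸ I) C')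
        (_ : Algebra.FinitePresentation (A ⧸ I) C')
        (N' : Type u) (_ : AddCommGroup N') (_ : Module C' N') (_ : Module C N') (_ : IsScalarTower C C' N')
        (_ : Module (A ⧸ I) N') (_ : IsScalarTower (A ⧸ I) C' N') (_ : Module.FinitePresentation C' N')
        (ι : N →ₗ[C] N'), IsBaseChange C' ι := by
    letI : Algebra C ((A ⧸ I) ⊗[A] C) := Algebra.TensorProduct.rightAlgebra
    exact ⟨(A ⧸ I) ⊗[A] C, inferInstance, inferInstance, inferInstance, inferInstance, inferInstance, inferInstance,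
      inferInstance, inferInstance, ((A ⧸ I) ⊗[A] C) ⊗[C] N, inferInstance, inferInstance, inferInstance, inferInstance,
      inferInstance, inferInstance, inferInstance, TensorProduct.mk C ((A ⧸ I) ⊗[A] C) N 1, TensorProduct.isBaseChange _ _ _⟩
  obtain ⟨g, hg, hgood⟩ := exists_nhd_flat (A := A) (A' := A ⧸ I) (C := C) (C' := C') (N := N) (N' := N')
    Ideal.Quotient.mk_surjective q (maximalIdeal A) hq
    (by rw [Ideal.Quotient.algebraMap_eq, Ideal.mk_ker]; exact IsLocalRing.le_maximalIdeal hItop) p' hp'c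
    ((hI (A ⧸ I) p' hp'c C' N' ι hι).2 hker)
  refine ⟨I, g, hg, hFG, hI, fun q₁ _ hq₁ hgq₁ I₁ hI₁ => ?_⟩
  have h := (hI₁ (A ⧸ I) p' hp'c C' N' ι hι).1 fun Q _ _ hQ => hgood q₁ hgq₁ Q hQ
  intro a ha
  have h0 : algebraMap A (Localization.AtPrime p') a = 0 :=
    (Ideal.map_eq_bot_iff_le_ker _).1 h ha
  rw [IsScalarTower.algebraMap_apply A (A ⧸ I) (Localization.AtPrime p')] at h0
  obtain ⟨⟨s, hs⟩, hs'⟩ := (IsLocalization.map_eq_zero_iff p'.primeCompl _ _).1 h0
  obtain ⟨b, rfl⟩ := Ideal.Quotient.mk_surjective s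
  have hb : IsUnit b := IsLocalRing.notMem_maximalIdeal.1 fun hb => hs (Ideal.mem_map_of_mem _ hb)
  have : Ideal.Quotient.mk I (b * a) = 0 := by rw [map_mul]; exact hs'
  exact (Ideal.unit_mul_mem_iff_mem I hb).1 (Ideal.Quotient.eq_zero_iff_mem.1 this)

/-- The scheme-level property of the flattening ideal at a point. -/
def Repr {A : Type u} [CommRing A] [IsLocalRing A] {X : Scheme.{u}} (f : X ⟶ Spec (CommRingCat.of A)) (F : X.Modules)
    (x : X) (I : Ideal A) : Prop :=
  ∀ (T : Scheme.{u}) (g : T ⟶ Spec (CommRingCat.of A)) (t : T), g.base t = IsLocalRing.closedPoint A →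
    ((∀ x' : ↑(pullback f g), (pullback.snd f g).base x' = t → (pullback.fst f g).base x' = x →
        FlatMod.IsFlatOverAt (pullback.snd f g) ((Scheme.Modules.pullback (pullback.fst f g)).obj F) x') ↔
      ∀ a ∈ I, (T.presheaf.germ ⊤ t trivial).hom
        (g.appTop.hom ((Scheme.ΓSpecIso (CommRingCat.of A)).inv.hom a)) = 0)

/-- The structure map of an affine open over an affine base. -/
noncomputable def structHom {A : Type u} [CommRing A] {X : Scheme.{u}} (f : X ⟶ Spec (CommRingCat.of A)) (V : X.Opens) :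
    A →+* Γ(X, V) :=
  (f.appLE ⊤ V le_top).hom.comp (Scheme.ΓSpecIso (CommRingCat.of A)).inv.hom

theorem comap_primeIdealOf {A : Type u} [CommRing A] [IsLocalRing A] {X : Scheme.{u}} (f : X ⟶ Spec (CommRingCat.of A))
    {V : X.Opens} (hV : IsAffineOpen V) {x : X} (hx : x ∈ V) (hfx : f.base x = IsLocalRing.closedPoint A) :
    (hV.primeIdealOf ⟨x, hx⟩).asIdeal.comap (structHom f V) = maximalIdeal A := by
  rw [structHom, ← Ideal.comap_comap]
  haveI hloc : IsLocalRing Γ(Spec (CommRingCat.of A), ⊤) :=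
    (Scheme.ΓSpecIso (CommRingCat.of A)).commRingCatIsoToRingEquiv.symm.isLocalRing
  have hcl : IsClosed ({f x} : Set ↥(Spec (CommRingCat.of A))) :=
    hfx.symm ▸ IsLocalRing.isClosed_singleton_closedPoint A
  have h1 := congrArg PrimeSpectrum.asIdeal
    (IsAffineOpen.comap_primeIdealOf_appLE ⊤ (isAffineOpen_top (Spec (CommRingCat.of A))) V hV (f := f) le_top hx)
  rw [PrimeSpectrum.comap_asIdeal] at h1
  rw [h1, IsLocalRing.eq_maximalIdeal (FlatLib.primeIdealOf_isMaximal (isAffineOpen_top _) trivial hcl)]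
  exact IsLocalRing.eq_maximalIdeal (Ideal.comap_isMaximal_of_surjective _
    (ConcreteCategory.bijective_of_isIso (Scheme.ΓSpecIso (CommRingCat.of A)).inv).2)

set_option maxHeartbeats 3200000 in
/-- The chart ideal has the scheme-level property. -/
theorem repr_of_chart {A : Type u} [CommRing A] [IsLocalRing A] {X : Scheme.{u}} (f : X ⟶ Spec (CommRingCat.of A))
    (F : X.Modules) [Coh.IsQCoh F] {V : X.Opens} (hV : IsAffineOpen V) {x : X} (hx : x ∈ V)
    (hfx : f.base x = IsLocalRing.closedPoint A) (I : Ideal A) [Algebra A Γ(X, V)]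
    (halg : algebraMap A Γ(X, V) = structHom f V) [Module A Γ(F, V)] [IsScalarTower A Γ(X, V) Γ(F, V)]
    (hI : ∀ (A' : Type u) [CommRing A'] [Algebra A A'] (p' : Ideal A') [p'.IsPrime],
        p'.comap (algebraMap A A') = maximalIdeal A →
        ∀ (C' N' : Type u) [CommRing C'] [Algebra Γ(X, V) C'] [Algebra A' C'] [Algebra A C'] [IsScalarTower A Γ(X, V) C']
          [IsScalarTower A A' C'] [Algebra.IsPushout A Γ(X, V) A' C']
          [AddCommGroup N'] [Module C' N'] [Module Γ(X, V) N'] [IsScalarTower Γ(X, V) C' N'] [Module A' N'] [IsScalarTower A' C' N']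
          (g : Γ(F, V) →ₗ[Γ(X, V)] N'), IsBaseChange C' g →
          ((∀ (Q : Ideal C') [Q.IsPrime], Q.comap (algebraMap A' C') = p' →
              Q.comap (algebraMap Γ(X, V) C') = (hV.primeIdealOf ⟨x, hx⟩).asIdeal →
              FlatCA.FlatAt A' Q N') ↔ I.map (algebraMap A (Localization.AtPrime p')) = ⊥)) :
    Repr f F x I := by
  intro T g t ht
  obtain ⟨W, hW, htW⟩ := QCohLib.exists_affine_nhd t
  let S := Spec (CommRingCat.of A)
  let R' := Γ(T, W)
  letI algR' : Algebra A R' := (structHom g W).toAlgebra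
  let p' : Ideal R' := (hW.primeIdealOf ⟨t, htW⟩).asIdeal
  have hp' : p'.comap (algebraMap A R') = maximalIdeal A := comap_primeIdealOf g hW htW ht
  let fst := pullback.fst f g
  let snd := pullback.snd f g
  let P := pullback f g
  let V' : P.Opens := fst ⁻¹ᵁ V ⊓ snd ⁻¹ᵁ W
  have hV' : IsAffineOpen V' := AlgzCohLib.isAffineOpen_pullback_inf hV hW (isAffineOpen_top S) le_top le_top
  let M' := KFlatLib.pb fst F
  haveI : Coh.IsQCoh M' := KFlatLib.isQCoh_pullback fst F
  letI : Algebra R' Γ(P, V') := (snd.appLE W V' inf_le_right).hom.toAlgebra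
  letI : Algebra Γ(X, V) Γ(P, V') := (fst.appLE V V' inf_le_left).hom.toAlgebra
  letI : Algebra A Γ(P, V') := ((fst.appLE V V' inf_le_left).hom.comp (structHom f V)).toAlgebra
  haveI : IsScalarTower A Γ(X, V) Γ(P, V') := IsScalarTower.of_algebraMap_eq fun a => by
    rw [halg]; rfl
  haveI : IsScalarTower A R' Γ(P, V') := IsScalarTower.of_algebraMap_eq fun a => by
    show (f.appLE ⊤ V le_top ≫ fst.appLE V V' inf_le_left) ((Scheme.ΓSpecIso (CommRingCat.of A)).inv a) =
      (g.appLE ⊤ W le_top ≫ snd.appLE W V' inf_le_right) ((Scheme.ΓSpecIso (CommRingCat.of A)).inv a)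
    simp only [Scheme.Hom.appLE_comp_appLE, fst, snd, pullback.condition]
  haveI hpush : Algebra.IsPushout A Γ(X, V) R' Γ(P, V') := by
    letI : Algebra Γ(S, ⊤) R' := (g.appLE ⊤ W le_top).hom.toAlgebra
    letI : Algebra Γ(S, ⊤) Γ(X, V) := (f.appLE ⊤ V le_top).hom.toAlgebra
    letI : Algebra Γ(S, ⊤) Γ(P, V') := ((fst.appLE V V' inf_le_left).hom.comp (algebraMap Γ(S, ⊤) Γ(X, V))).toAlgebra
    letI : Algebra Γ(S, ⊤) A := (Scheme.ΓSpecIso (CommRingCat.of A)).hom.hom.toAlgebra
    have hinv : ∀ r : Γ(S, ⊤), (Scheme.ΓSpecIso (CommRingCat.of A)).inv.hom (algebraMap Γ(S, ⊤) A r) = r :=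
      fun r => (Scheme.ΓSpecIso (CommRingCat.of A)).commRingCatIsoToRingEquiv.symm_apply_apply r
    haveI : IsScalarTower Γ(S, ⊤) Γ(X, V) Γ(P, V') := IsScalarTower.of_algebraMap_eq fun _ => rfl
    haveI : IsScalarTower Γ(S, ⊤) R' Γ(P, V') := IsScalarTower.of_algebraMap_eq fun r => by
      show (f.appLE ⊤ V le_top ≫ fst.appLE V V' inf_le_left) r = (g.appLE ⊤ W le_top ≫ snd.appLE W V' inf_le_right) r
      simp only [Scheme.Hom.appLE_comp_appLE, fst, snd, pullback.condition]
    haveI : IsScalarTower Γ(S, ⊤) A R' := IsScalarTower.of_algebraMap_eq fun r => by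
      show g.appLE ⊤ W le_top r = g.appLE ⊤ W le_top ((Scheme.ΓSpecIso (CommRingCat.of A)).inv.hom (algebraMap Γ(S, ⊤) A r))
      rw [hinv]
    haveI : IsScalarTower Γ(S, ⊤) A Γ(X, V) := IsScalarTower.of_algebraMap_eq fun r => by
      rw [halg]
      show f.appLE ⊤ V le_top r = f.appLE ⊤ V le_top ((Scheme.ΓSpecIso (CommRingCat.of A)).inv.hom (algebraMap Γ(S, ⊤) A r))
      rw [hinv]
    haveI : Algebra.IsPushout Γ(S, ⊤) Γ(X, V) R' Γ(P, V') := by
      have h := (isIso_pushoutSection_iff (IsPullback.of_hasPullback f g) (le_top : W ≤ g ⁻¹ᵁ ⊤) (le_top : V ≤ f ⁻¹ᵁ ⊤) (rfl : V' = _)).mp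
        (isIso_pushoutSection_of_isAffineOpen (IsPullback.of_hasPullback f g) (le_top : W ≤ g ⁻¹ᵁ ⊤) (le_top : V ≤ f ⁻¹ᵁ ⊤) (rfl : V' = _)
          (isAffineOpen_top S) hW hV)
      exact Algebra.IsPushout.symm (CommRingCat.isPushout_iff_isPushout.mp h.flip)
    exact AInjLib.isPushout_of_surjective (A := Γ(S, ⊤)) (L := A)
      (ConcreteCategory.bijective_of_isIso (Scheme.ΓSpecIso (CommRingCat.of A)).hom).2
  letI : Module Γ(X, V) Γ(M', V') := Module.compHom Γ(M', V') (fst.appLE V V' inf_le_left).hom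
  haveI : IsScalarTower Γ(X, V) Γ(P, V') Γ(M', V') := IsScalarTower.of_algebraMap_smul fun _ _ => rfl
  letI : Module R' Γ(M', V') := Module.compHom Γ(M', V') (snd.appLE W V' inf_le_right).hom
  haveI : IsScalarTower R' Γ(P, V') Γ(M', V') := IsScalarTower.of_algebraMap_smul fun _ _ => rfl
  let ψ : Γ(F, V) →ₗ[Γ(X, V)] Γ(M', V') :=
    { toFun := KFlatLib.puSecLE fst F inf_le_left
      map_add' := map_add _
      map_smul' := fun r m => by rw [KFlatLib.puSecLE_smul, RingHom.id_apply]; rfl }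
  have hψ : IsBaseChange Γ(P, V') ψ :=
    KFlatLib.isBaseChange_puSec fst F hV hV' inf_le_left (fun _ => rfl) ψ fun _ => rfl
  have key := hI R' p' hp' Γ(P, V') Γ(M', V') ψ hψ
  have hright : I.map (algebraMap A (Localization.AtPrime p')) = ⊥ ↔
      ∀ a ∈ I, (T.presheaf.germ ⊤ t trivial).hom
        (g.appTop.hom ((Scheme.ΓSpecIso (CommRingCat.of A)).inv.hom a)) = 0 := by
    rw [Ideal.map_eq_bot_iff_le_ker]
    letI : Algebra R' (T.presheaf.stalk t) := (T.presheaf.germ W t htW).hom.toAlgebra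
    haveI : IsLocalization.AtPrime (T.presheaf.stalk t) p' := hW.isLocalization_stalk ⟨t, htW⟩
    have hgerm : ∀ a, (T.presheaf.germ ⊤ t trivial).hom (g.appTop.hom ((Scheme.ΓSpecIso (CommRingCat.of A)).inv.hom a)) =
        algebraMap R' (T.presheaf.stalk t) (algebraMap A R' a) := fun a =>
      (TopCat.Presheaf.germ_res_apply T.presheaf (homOfLE (le_top : W ≤ ⊤)) t htW _).symm
    refine forall₂_congr fun a _ => ?_
    rw [hgerm, RingHom.mem_ker, IsScalarTower.algebraMap_apply A R' (Localization.AtPrime p'),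
      IsLocalization.map_eq_zero_iff p'.primeCompl, IsLocalization.map_eq_zero_iff p'.primeCompl (T.presheaf.stalk t)]
  refine Iff.trans ⟨fun H Q hQp h1 h2 => ?_, fun H x' hx't hx'x => ?_⟩ (key.trans hright)
  · obtain ⟨⟨y, hy⟩, hQy⟩ := hV'.isoSpec.hom.surjective ⟨Q, hQp⟩
    have hQy' : (hV'.primeIdealOf ⟨y, hy⟩).asIdeal = Q := congrArg PrimeSpectrum.asIdeal hQy
    subst hQy'
    haveI : (hV'.primeIdealOf ⟨y, hy⟩).asIdeal.IsPrime := (hV'.primeIdealOf ⟨y, hy⟩).isPrime
    refine (FlatLib.isFlatOverAt_iff snd M' W hW V' hV' inf_le_right hy rfl).mp (H y ?_ ?_)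
    · have e : hW.primeIdealOf ⟨snd y, hy.2⟩ = hW.primeIdealOf ⟨t, htW⟩ := by
        rw [← IsAffineOpen.comap_primeIdealOf_appLE W hW V' hV' (f := snd) inf_le_right hy]
        exact PrimeSpectrum.ext h1
      exact congrArg Subtype.val (hW.isoSpec.hom.homeomorph.injective e)
    · have e : hV.primeIdealOf ⟨fst y, hy.1⟩ = hV.primeIdealOf ⟨x, hx⟩ := by
        rw [← IsAffineOpen.comap_primeIdealOf_appLE V hV V' hV' (f := fst) inf_le_left hy]
        exact PrimeSpectrum.ext h2
      exact congrArg Subtype.val (hV.isoSpec.hom.homeomorph.injective e)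
  · have hy : x' ∈ V' := ⟨show fst.base x' ∈ V from hx'x ▸ hx, show snd.base x' ∈ W from hx't ▸ htW⟩
    refine (FlatLib.isFlatOverAt_iff snd M' W hW V' hV' inf_le_right hy rfl).mpr (H _ ?_ ?_)
    · refine (congrArg PrimeSpectrum.asIdeal
        (IsAffineOpen.comap_primeIdealOf_appLE W hW V' hV' (f := snd) inf_le_right hy)).trans ?_
      exact congrArg (fun z => (hW.primeIdealOf z).asIdeal) (Subtype.ext hx't)
    · refine (congrArg PrimeSpectrum.asIdeal
        (IsAffineOpen.comap_primeIdealOf_appLE V hV V' hV' (f := fst) inf_le_left hy)).trans ?_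
      exact congrArg (fun z => (hV.primeIdealOf z).asIdeal) (Subtype.ext hx'x)

/-- The germ at the closed point of the spectrum of a quotient. -/
theorem mem_of_germ_eq_zero {A : Type u} [CommRing A] [IsLocalRing A] (J : Ideal A) [IsLocalRing (A ⧸ J)] (a : A)
    (h : ((Spec (CommRingCat.of (A ⧸ J))).presheaf.germ ⊤ (IsLocalRing.closedPoint (A ⧸ J)) trivial).hom
      ((Spec.map (CommRingCat.ofHom (Ideal.Quotient.mk J))).appTop.hom ((Scheme.ΓSpecIso (CommRingCat.of A)).inv.hom a)) = 0) :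
    a ∈ J := by
  let T := Spec (CommRingCat.of (A ⧸ J))
  let e := (Scheme.ΓSpecIso (CommRingCat.of (A ⧸ J))).commRingCatIsoToRingEquiv
  haveI : IsLocalRing Γ(T, ⊤) := e.symm.isLocalRing
  let z := (Spec.map (CommRingCat.ofHom (Ideal.Quotient.mk J))).appTop.hom ((Scheme.ΓSpecIso (CommRingCat.of A)).inv.hom a)
  have hz : e z = Ideal.Quotient.mk J a := by
    show (Scheme.ΓSpecIso (CommRingCat.of (A ⧸ J))).hom _ = _
    refine congr($(Scheme.ΓSpecIso_naturality (CommRingCat.ofHom (Ideal.Quotient.mk J))) _).trans ?_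
    exact congrArg _ ((Scheme.ΓSpecIso (CommRingCat.of A)).commRingCatIsoToRingEquiv.apply_symm_apply a)
  letI : Algebra Γ(T, ⊤) (T.presheaf.stalk (IsLocalRing.closedPoint (A ⧸ J))) :=
    (T.presheaf.germ ⊤ (IsLocalRing.closedPoint (A ⧸ J)) trivial).hom.toAlgebra
  let p := ((isAffineOpen_top T).primeIdealOf ⟨IsLocalRing.closedPoint (A ⧸ J), trivial⟩).asIdeal
  haveI : IsLocalization.AtPrime (T.presheaf.stalk (IsLocalRing.closedPoint (A ⧸ J))) p :=
    (isAffineOpen_top T).isLocalization_stalk ⟨IsLocalRing.closedPoint (A ⧸ J), trivial⟩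
  have hp : p = maximalIdeal Γ(T, ⊤) := IsLocalRing.eq_maximalIdeal
    (FlatLib.primeIdealOf_isMaximal (isAffineOpen_top T) trivial (IsLocalRing.isClosed_singleton_closedPoint (A ⧸ J)))
  obtain ⟨⟨s, hs⟩, hs'⟩ := (IsLocalization.map_eq_zero_iff p.primeCompl (T.presheaf.stalk (IsLocalRing.closedPoint (A ⧸ J))) z).1 h
  have hsu : IsUnit s := IsLocalRing.notMem_maximalIdeal.1 fun hh => hs (hp.symm ▸ hh)
  have h0 : z = 0 := (hsu.mul_right_eq_zero).1 hs'
  rw [h0, map_zero] at hz
  exact Ideal.Quotient.eq_zero_iff_mem.1 hz.symm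

open CategoryTheory CategoryTheory.Limits AlgebraicGeometry Opposite in
/-- Let A be a henselian local ring, s the closed point of S = Spec A, f : X → S a morphism locally of
finite type, F a quasi-coherent O_X-module of finite type and E a subset of the closed fibre X_s.
Then there is a closed subscheme Z = V(I) of S with the following property: for every morphism of
pointed schemes (T, t) → (S, s), the base change F_T on X_T = X ×_S T is T-flat at each point over t
whose image in X lies in E if and only if Spec(O_{T,t}) → S factors through Z, that is, the map A →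
O_{T,t} sends I to zero. Assume in addition that the morphism f is locally finitely presented, that
the module F is finitely presented, and that the subset E is both quasi-compact and closed; in that
case the closed immersion Z → S is finitely presented, meaning the ideal I is finitely generated. -/
theorem result {A : Type u} [CommRing A] [HenselianLocalRing A] {X : Scheme.{u}} (f : X ⟶ Spec (CommRingCat.of A))
    [LocallyOfFiniteType f] (F : X.Modules) [Coh.IsQCoh F] (hF : CohB1.IsFT F)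
    (E : Set X) (hE : ∀ x ∈ E, f.base x = IsLocalRing.closedPoint A) :
    ∃ I : Ideal A,
      (∀ (T : Scheme.{u}) (g : T ⟶ Spec (CommRingCat.of A)) (t : T), g.base t = IsLocalRing.closedPoint A →
        ((∀ x' : ↑(pullback f g), (pullback.snd f g).base x' = t → (pullback.fst f g).base x' ∈ E →
            FlatMod.IsFlatOverAt (pullback.snd f g) ((Scheme.Modules.pullback (pullback.fst f g)).obj F) x') ↔
          ∀ a ∈ I, (T.presheaf.germ ⊤ t trivial).hom
            (g.appTop.hom ((Scheme.ΓSpecIso (CommRingCat.of A)).inv.hom a)) = 0)) ∧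
      (LocallyOfFinitePresentation f → CohB1.IsFP F → IsClosed E → IsCompact E → I.FG) := by
  classical
  have hchart : ∀ x : X, x ∈ E → ∃ I : Ideal A, Repr f F x I := by
    intro x hx
    obtain ⟨V, hV, hxV⟩ := QCohLib.exists_affine_nhd x
    letI : Algebra A Γ(X, V) := (structHom f V).toAlgebra
    letI : Module A Γ(F, V) := Module.compHom Γ(F, V) (structHom f V)
    haveI : IsScalarTower A Γ(X, V) Γ(F, V) := IsScalarTower.of_algebraMap_smul fun _ _ => rfl
    haveI : Algebra.FiniteType A Γ(X, V) := RingHom.finiteType_algebraMap.1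
      ((LocallyOfFiniteType.finiteType_appLE f (isAffineOpen_top _) hV le_top).comp
        (RingHom.FiniteType.of_surjective _ (ConcreteCategory.bijective_of_isIso (Scheme.ΓSpecIso (CommRingCat.of A)).inv).2))
    haveI : Module.Finite Γ(X, V) Γ(F, V) := QCohLib.finite_of_isFT hF hV
    obtain ⟨I, hI, -⟩ := AInjLib.exists_ideal_stalk Γ(F, V) (hV.primeIdealOf ⟨x, hxV⟩).asIdeal
      (comap_primeIdealOf f hV hxV (hE x hx))
    exact ⟨I, repr_of_chart f F hV hxV (hE x hx) I rfl hI⟩
  choose I hI using hchart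
  refine ⟨⨆ x, ⨆ hx : x ∈ E, I x hx, fun T g t ht => ⟨fun H a ha => ?_, fun H x' hx't hx'E => ?_⟩,
    fun hfp hFP _ hcpt => ?_⟩
  · let φ : A →+* T.presheaf.stalk t := (T.presheaf.germ ⊤ t trivial).hom.comp
      (g.appTop.hom.comp (Scheme.ΓSpecIso (CommRingCat.of A)).inv.hom)
    have hle : (⨆ x, ⨆ hx : x ∈ E, I x hx) ≤ RingHom.ker φ := iSup₂_le fun x hx b hb =>
      (hI x hx T g t ht).1 (fun x' h1 h2 => H x' h1 (h2 ▸ hx)) b hb
    exact hle ha
  · exact (hI _ hx'E T g t ht).2 (fun a ha => H a (le_iSup₂ (f := fun x hx => I x hx) _ hx'E ha)) x' hx't rfl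
  -- finitely generated
  haveI := hfp
  have hloc : ∀ x : X, x ∈ E → ∃ (U : X.Opens) (I₀ : Ideal A), x ∈ U ∧ I₀.FG ∧
      (I₀ ≤ ⨆ x, ⨆ hx : x ∈ E, I x hx) ∧
      ∀ y (hy : y ∈ E), y ∈ U → I y hy ≤ I₀ := by
    intro x hx
    obtain ⟨V, hV, hxV⟩ := QCohLib.exists_affine_nhd x
    letI : Algebra A Γ(X, V) := (structHom f V).toAlgebra
    letI : Module A Γ(F, V) := Module.compHom Γ(F, V) (structHom f V)
    haveI : IsScalarTower A Γ(X, V) Γ(F, V) := IsScalarTower.of_algebraMap_smul fun _ _ => rfl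
    haveI : Algebra.FinitePresentation A Γ(X, V) := RingHom.finitePresentation_algebraMap.1
      ((LocallyOfFinitePresentation.finitePresentation_appLE f (isAffineOpen_top _) hV le_top).comp
        (RingHom.FinitePresentation.of_bijective (ConcreteCategory.bijective_of_isIso (Scheme.ΓSpecIso (CommRingCat.of A)).inv)))
    haveI : Module.FinitePresentation Γ(X, V) Γ(F, V) := Groth.Agent.S1178.finitePresentation_affine F hFP hV
    have hq := comap_primeIdealOf f hV hxV (hE x hx)
    obtain ⟨I₀, g, hg, hfg, hI₀, hmin⟩ := exists_nhd_le Γ(F, V) (hV.primeIdealOf ⟨x, hxV⟩).asIdeal hq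
    -- comparison of two ideals at a point
    have hcmp : ∀ (y : X) (hy : y ∈ E) (hyV : y ∈ V) (J : Ideal A),
        (∀ (A' : Type u) [CommRing A'] [Algebra A A'] (p' : Ideal A') [p'.IsPrime],
          p'.comap (algebraMap A A') = IsLocalRing.maximalIdeal A →
          ∀ (C' N' : Type u) [CommRing C'] [Algebra Γ(X, V) C'] [Algebra A' C'] [Algebra A C'] [IsScalarTower A Γ(X, V) C']
            [IsScalarTower A A' C'] [Algebra.IsPushout A Γ(X, V) A' C']
            [AddCommGroup N'] [Module C' N'] [Module Γ(X, V) N'] [IsScalarTower Γ(X, V) C' N'] [Module A' N'] [IsScalarTower A' C' N']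
            (g : Γ(F, V) →ₗ[Γ(X, V)] N'), IsBaseChange C' g →
            ((∀ (Q : Ideal C') [Q.IsPrime], Q.comap (algebraMap A' C') = p' →
                Q.comap (algebraMap Γ(X, V) C') = (hV.primeIdealOf ⟨y, hyV⟩).asIdeal →
                FlatCA.FlatAt A' Q N') ↔ J.map (algebraMap A (Localization.AtPrime p')) = ⊥)) →
        I y hy = J := by
      intro y hy hyV J hJ
      have hrep : ∀ (J₁ J₂ : Ideal A), Repr f F y J₁ → Repr f F y J₂ → J₁ ≤ J₂ := by
        intro J₁ J₂ h₁ h₂
        by_cases htop : J₂ = ⊤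
        · rw [htop]; exact le_top
        haveI : Nontrivial (A ⧸ J₂) := Ideal.Quotient.nontrivial_iff.2 htop
        haveI : IsLocalRing (A ⧸ J₂) := IsLocalRing.of_surjective' (Ideal.Quotient.mk J₂) Ideal.Quotient.mk_surjective
        haveI : IsLocalHom (Ideal.Quotient.mk J₂) := IsLocalHom.of_surjective _ Ideal.Quotient.mk_surjective
        let gT := Spec.map (CommRingCat.ofHom (Ideal.Quotient.mk J₂))
        have hgt : gT.base (IsLocalRing.closedPoint (A ⧸ J₂)) = IsLocalRing.closedPoint A :=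
          IsLocalRing.comap_closedPoint (Ideal.Quotient.mk J₂)
        intro a ha
        refine mem_of_germ_eq_zero J₂ a ((h₁ _ gT _ hgt).1 ((h₂ _ gT _ hgt).2 fun b hb => ?_) a ha)
        have h0 : (Spec.map (CommRingCat.ofHom (Ideal.Quotient.mk J₂))).appTop.hom
            ((Scheme.ΓSpecIso (CommRingCat.of A)).inv.hom b) = 0 := by
          apply (Scheme.ΓSpecIso (CommRingCat.of (A ⧸ J₂))).commRingCatIsoToRingEquiv.injective
          rw [map_zero]
          refine congr($(Scheme.ΓSpecIso_naturality (CommRingCat.ofHom (Ideal.Quotient.mk J₂))) _).trans ?_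
          refine (congrArg _ ((Scheme.ΓSpecIso (CommRingCat.of A)).commRingCatIsoToRingEquiv.apply_symm_apply b)).trans ?_
          exact Ideal.Quotient.eq_zero_iff_mem.2 hb
        exact (congrArg _ h0).trans (map_zero _)
      have hJR := repr_of_chart f F hV hyV (hE y hy) J rfl hJ
      exact le_antisymm (hrep _ _ (hI y hy) hJR) (hrep _ _ hJR (hI y hy))
    have hx0 : I x hx = I₀ := hcmp x hx hxV I₀ hI₀
    have hmem : ∀ (y : X) (hy : y ∈ V), g ∉ (hV.primeIdealOf ⟨y, hy⟩).asIdeal ↔ y ∈ X.basicOpen g := fun y hy => by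
      letI : Algebra Γ(X, V) (X.presheaf.stalk y) := (X.presheaf.germ V y hy).hom.toAlgebra
      haveI : IsLocalization.AtPrime (X.presheaf.stalk y) (hV.primeIdealOf ⟨y, hy⟩).asIdeal :=
        hV.isLocalization_stalk ⟨y, hy⟩
      exact (IsLocalization.AtPrime.isUnit_to_map_iff (X.presheaf.stalk y) _ g).symm.trans (X.mem_basicOpen g y hy).symm
    refine ⟨X.basicOpen g, I₀, (hmem x hxV).1 hg, hfg, hx0 ▸ le_iSup₂ (f := fun x hx => I x hx) x hx, fun y hy hyU => ?_⟩
    have hyV : y ∈ V := X.basicOpen_le g hyU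
    obtain ⟨J, hJ, -⟩ := AInjLib.exists_ideal_stalk Γ(F, V) (hV.primeIdealOf ⟨y, hyV⟩).asIdeal
      (comap_primeIdealOf f hV hyV (hE y hy))
    rw [hcmp y hy hyV J hJ]
    exact hmin _ (comap_primeIdealOf f hV hyV (hE y hy)) ((hmem y hyV).2 hyU) J hJ
  choose U I₀ hxU hfg hle hmin using hloc
  obtain ⟨S, hS⟩ := hcpt.elim_finite_subcover (fun x : E => (U x.1 x.2 : Set X)) (fun x => (U x.1 x.2).2)
    fun x hx => Set.mem_iUnion.2 ⟨⟨x, hx⟩, hxU x hx⟩
  rw [show (⨆ x, ⨆ hx : x ∈ E, I x hx) = ⨆ x ∈ S, I₀ x.1 x.2 from le_antisymm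
    (iSup₂_le fun y hy => by
      obtain ⟨x, hxS, hyx⟩ := Set.mem_iUnion₂.1 (hS hy)
      exact (hmin x.1 x.2 y hy hyx).trans (le_iSup₂ (f := fun (x : E) (_ : x ∈ S) => I₀ x.1 x.2) x hxS))
    (iSup₂_le fun x _ => hle x.1 x.2)]
  exact Submodule.fg_biSup S (fun x : E => I₀ x.1 x.2) fun x _ => hfg x.1 x.2

end Groth.Agent.S9032
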