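import Groth.Statements.S9033
import Mathlib

set_option autoImplicit false
universe u
open Cpct

namespace Groth.Agent.S9033
open CategoryTheory CategoryTheory.Limits AlgebraicGeometry Cpct

section helpers

variable {S : Scheme.{u}}

theorem restr_ι {A B : Pair S} (f : A ⟶ B) : restr f ≫ B.U.ι = A.U.ι ≫ (Pair.Hom.bar f).left := by
  simp only [restr, Scheme.Hom.resLE_comp_ι]

theorem restr_id (A : Pair S) : restr (𝟙 A) = 𝟙 _ := by
  rw [← cancel_mono A.U.ι, restr_ι, Category.id_comp, Pair.id_bar, Over.id_left, Category.comp_id]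

theorem restr_comp {A B C : Pair S} (f : A ⟶ B) (g : B ⟶ C) : restr (f ≫ g) = restr f ≫ restr g := by
  rw [← cancel_mono C.U.ι, restr_ι, Category.assoc, restr_ι, Pair.comp_bar, Over.comp_left,
    ← Category.assoc (restr f), restr_ι, Category.assoc]

theorem restr_eq {A B : Pair S} (f g : A ⟶ B) (h : restr f = restr g) :
    A.U.ι ≫ (Pair.Hom.bar f).left = A.U.ι ≫ (Pair.Hom.bar g).left := by
  rw [← restr_ι, ← restr_ι, h]

/-- Lift an isomorphism of opens along a map of schemes. -/
theorem exists_iso_restrict {P X : Scheme.{u}} (π : P ⟶ X) (U : X.Opens) (V : P.Opens) (hV : ∀ x, x ∈ V → π x ∈ U)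
    (hU : IsCompact (U : Set X)) (k : (U : Scheme.{u}) ⟶ P) (hk : k ≫ π = U.ι) (hkV : ∀ x, k x ∈ V)
    (hun : ∀ r : (V : Scheme.{u}) ⟶ U, r ≫ U.ι = V.ι ≫ π → r ≫ k = V.ι) :
    IsCompact (V : Set P) ∧ IsIso (π.resLE U V (fun x hx => hV x hx)) := by
  let r := π.resLE U V (fun x hx => hV x hx)
  have hr : r ≫ U.ι = V.ι ≫ π := Scheme.Hom.resLE_comp_ι _ _
  let i : (U : Scheme.{u}) ⟶ V := IsOpenImmersion.lift V.ι k (by
    rw [Scheme.Opens.range_ι]; rintro _ ⟨x, rfl⟩; exact hkV x)
  have hi : i ≫ V.ι = k := IsOpenImmersion.lift_fac _ _ _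
  haveI hiso : IsIso r := ⟨i, by rw [← cancel_mono V.ι, Category.assoc, hi, hun r hr, Category.id_comp],
    by rw [← cancel_mono U.ι, Category.assoc, hr, reassoc_of% hi, hk, Category.id_comp]⟩
  haveI : CompactSpace U := isCompact_iff_compactSpace.mp hU
  exact ⟨isCompact_iff_compactSpace.mpr (asIso r).inv.homeomorph.compactSpace, hiso⟩

/-- Morphisms with the same open part agree after a morphism with invertible open part. -/
theorem exists_equalizing {X Y : Pair S} (f₁ f₂ : X ⟶ Y) (hres : restr f₁ = restr f₂) :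
    ∃ (A : Pair S) (t : A ⟶ X) (_ : IsIso (restr t)), t ≫ f₁ = t ≫ f₂ := by
  haveI := X.isProper
  haveI := Y.isProper
  let δ : X.bar.left ⟶ pullback Y.bar.hom Y.bar.hom :=
    pullback.lift (Pair.Hom.bar f₁).left (Pair.Hom.bar f₂).left ((Over.w _).trans (Over.w _).symm)
  let P := pullback δ (pullback.diagonal Y.bar.hom)
  let π : P ⟶ X.bar.left := pullback.fst _ _
  let U' : P.Opens := π ⁻¹ᵁ X.U
  let k : (X.U : Scheme.{u}) ⟶ P := pullback.lift X.U.ι (X.U.ι ≫ (Pair.Hom.bar f₁).left) (by
    refine pullback.hom_ext ?_ ?_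
    · simp only [δ, Category.assoc, pullback.lift_fst, pullback.diagonal_fst, Category.comp_id]
    · simp only [δ, Category.assoc, pullback.lift_snd, pullback.diagonal_snd, Category.comp_id]
      exact (restr_eq _ _ hres).symm)
  obtain ⟨hc, hiso⟩ := exists_iso_restrict π X.U U' (fun x hx => hx) X.isCompact k (pullback.lift_fst _ _ _)
    (fun x => by
      show π (k x) ∈ X.U
      rw [← Scheme.Hom.comp_apply, pullback.lift_fst]
      exact x.2) fun r hr => by
    haveI : Mono π := inferInstanceAs (Mono (pullback.fst δ (pullback.diagonal Y.bar.hom)))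
    rw [← cancel_mono π, Category.assoc, pullback.lift_fst, hr]
  let A : Pair S := ⟨Over.mk (π ≫ X.bar.hom), U', inferInstanceAs (IsProper (π ≫ X.bar.hom)), hc⟩
  let t : A ⟶ X := ⟨Over.homMk π, fun x hx => hx⟩
  refine ⟨A, t, hiso, ?_⟩
  apply Pair.Hom.ext
  apply Over.OverMorphism.ext
  have h1 := congrArg (· ≫ pullback.fst _ _) (pullback.condition (f := δ) (g := pullback.diagonal Y.bar.hom))
  have h2 := congrArg (· ≫ pullback.snd _ _) (pullback.condition (f := δ) (g := pullback.diagonal Y.bar.hom))
  simp only [δ, Category.assoc, pullback.lift_fst, pullback.lift_snd, pullback.diagonal_fst, pullback.diagonal_snd,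
    Category.comp_id] at h1 h2
  exact h1.trans h2.symm

end helpers


open CategoryTheory CategoryTheory.Limits AlgebraicGeometry Opposite in
/-- Let S be a quasi-compact and quasi-separated scheme. In the category of compactifications over S —
objects the pairs (X, X̄) with X̄ proper over S and X a quasi-compact open of X̄, morphisms the
morphisms X̄' → X̄ over S mapping X' into X — the collection of morphisms (u, ū) : (X', X̄') → (X,
X̄) with u : X' → X an isomorphism is a right multiplicative system: it contains the identities and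
is closed under composition; for f : (Y, Ȳ) → (X, X̄) and (u, ū) : (X', X̄') → (X, X̄) in the
collection there are (v, v̄) : (Y', Ȳ') → (Y, Ȳ) in the collection and g : (Y', Ȳ') → (X', X̄') with
f ∘ (v, v̄) = (u, ū) ∘ g; and if two morphisms (X, X̄) → (Y, Ȳ) become equal after composing with
some (Y, Ȳ) → (Y', Ȳ') of the collection, they become equal after precomposing with some (X', X̄') →
(X, X̄) of the collection. -/
theorem result (S : Scheme.{u}) [CompactSpace S] [QuasiSeparatedSpace S] :
    (Cpct.isoOpen S).HasRightCalculusOfFractions := by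
  haveI : (Cpct.isoOpen S).IsMultiplicative :=
    { id_mem := fun A => by show IsIso (restr (𝟙 A)); rw [restr_id]; infer_instance
      comp_mem := fun f g hf hg => by
        show IsIso (restr (f ≫ g))
        haveI : IsIso (restr f) := hf
        haveI : IsIso (restr g) := hg
        rw [restr_comp]; infer_instance }
  refine { exists_rightFraction := fun X Y φ => ?_, ext := fun X Y Y' f₁ f₂ s hs hfs => ?_ }
  · haveI : IsIso (restr φ.s) := φ.hs
    haveI := X.isProper
    haveI := Y.isProper
    haveI := φ.Y'.isProper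
    let a := (Pair.Hom.bar φ.f).left
    let b := (Pair.Hom.bar φ.s).left
    have ha : a ≫ φ.Y'.bar.hom = X.bar.hom := Over.w _
    have hb : b ≫ φ.Y'.bar.hom = Y.bar.hom := Over.w _
    haveI : IsProper (b ≫ φ.Y'.bar.hom) := by rw [hb]; infer_instance
    haveI : IsProper b := IsProper.of_comp b φ.Y'.bar.hom
    let U' : (pullback a b).Opens := pullback.fst a b ⁻¹ᵁ X.U ⊓ pullback.snd a b ⁻¹ᵁ Y.U
    let k : (X.U : Scheme.{u}) ⟶ pullback a b := pullback.lift X.U.ι (restr φ.f ≫ inv (restr φ.s) ≫ Y.U.ι) (by
      simp only [Category.assoc, b]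
      rw [← restr_ι φ.s, IsIso.inv_hom_id_assoc, restr_ι φ.f])
    obtain ⟨hc, hiso⟩ := exists_iso_restrict (pullback.fst a b) X.U U' (fun x hx => hx.1) X.isCompact k
      (pullback.lift_fst _ _ _) (fun x => ⟨by
        show pullback.fst a b (k x) ∈ X.U
        rw [← Scheme.Hom.comp_apply, pullback.lift_fst]
        exact x.2, by
        show pullback.snd a b (k x) ∈ Y.U
        rw [← Scheme.Hom.comp_apply, pullback.lift_snd, Scheme.Hom.comp_apply, Scheme.Hom.comp_apply]
        exact (inv (restr φ.s) (restr φ.f x)).2⟩) fun r hr => by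
      refine pullback.hom_ext (by rw [Category.assoc, pullback.lift_fst, hr]) ?_
      rw [Category.assoc, pullback.lift_snd]
      let m : (U' : Scheme.{u}) ⟶ Y.U := IsOpenImmersion.lift Y.U.ι (U'.ι ≫ pullback.snd a b) (by
        rw [Scheme.Opens.range_ι]; rintro _ ⟨x, rfl⟩; exact x.2.2)
      have hm : m ≫ Y.U.ι = U'.ι ≫ pullback.snd a b := IsOpenImmersion.lift_fac _ _ _
      have e : m ≫ restr φ.s = r ≫ restr φ.f := by
        rw [← cancel_mono φ.Y'.U.ι, Category.assoc, restr_ι, reassoc_of% hm, Category.assoc, restr_ι,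
          reassoc_of% hr, pullback.condition]
      rw [← reassoc_of% e, IsIso.hom_inv_id_assoc, hm]
    let A : Pair S := ⟨Over.mk (pullback.fst a b ≫ X.bar.hom), U',
      inferInstanceAs (IsProper (pullback.fst a b ≫ X.bar.hom)), hc⟩
    let t : A ⟶ X := ⟨Over.homMk (pullback.fst a b), fun x hx => hx.1⟩
    let u : A ⟶ Y := ⟨Over.homMk (pullback.snd a b) (by
      show pullback.snd a b ≫ Y.bar.hom = pullback.fst a b ≫ X.bar.hom
      rw [← hb, ← ha, pullback.condition_assoc]), fun x hx => hx.2⟩
    refine ⟨MorphismProperty.RightFraction.mk t hiso u, ?_⟩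
    apply Pair.Hom.ext
    apply Over.OverMorphism.ext
    exact pullback.condition
  · haveI : IsIso (restr s) := hs
    exact exists_equalizing f₁ f₂ (by rw [← cancel_mono (restr s), ← restr_comp, ← restr_comp, hfs])

end Groth.Agent.S9033
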