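import Groth.Statements.S9034
import Groth.Agent.S9033
import Groth.Agent.NagataCompLib.Tools

set_option autoImplicit false
universe u
open Cpct

namespace Groth.Agent.S9034
open CategoryTheory CategoryTheory.Limits AlgebraicGeometry Cpct Groth.Agent.S9033

/-- A functor inverting a class with right calculus of fractions, full and faithful up to fractions and
essentially surjective, is a localization. -/
theorem isLocalization_of_fractions {C : Type*} [Category* C] {E : Type*} [Category* E] (F : C ⥤ E)
    (W : MorphismProperty C) [W.HasRightCalculusOfFractions] [F.EssSurj] (hW : W.IsInvertedBy F)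
    (hfull : ∀ (A B : C) (φ : F.obj A ⟶ F.obj B), ∃ z : W.RightFraction A B, z.map F hW = φ)
    (hfaith : ∀ ⦃A B : C⦄ (f g : A ⟶ B), F.map f = F.map g → ∃ (A' : C) (t : A' ⟶ A) (_ : W t), t ≫ f = t ≫ g) :
    F.IsLocalization W := by
  let G := Localization.lift F hW W.Q
  let e : W.Q ⋙ G ≅ F := Localization.fac F hW W.Q
  haveI : G.EssSurj := ⟨fun Y => ⟨W.Q.obj (F.objPreimage Y), ⟨e.app _ ≪≫ F.objObjPreimageIso Y⟩⟩⟩
  have hmap : ∀ {A B : C} (f : A ⟶ B), G.map (W.Q.map f) = e.hom.app A ≫ F.map f ≫ e.inv.app B := fun {A B} f => by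
    have := e.hom.naturality f
    simp only [Functor.comp_map] at this
    rw [← reassoc_of% this]
    simp
  have hQ : ∀ {A B : C} (z : W.RightFraction A B) (ψ : W.Q.obj A ⟶ W.Q.obj B),
      ψ = z.map W.Q (Localization.inverts W.Q W) → W.Q.map z.s ≫ ψ = W.Q.map z.f := fun z ψ h => by
    rw [h, MorphismProperty.RightFraction.map_s_comp_map]
  haveI hff : ∀ A B : C, Function.Bijective (fun ψ : W.Q.obj A ⟶ W.Q.obj B => G.map ψ) := by
    intro A B
    constructor
    · intro ψ₁ ψ₂ h
      obtain ⟨z₁, h₁⟩ := Localization.exists_rightFraction W.Q W ψ₁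
      obtain ⟨z₂, h₂⟩ := Localization.exists_rightFraction W.Q W ψ₂
      obtain ⟨w, hw⟩ := (MorphismProperty.LeftFraction.mk z₁.s z₂.s z₂.hs).exists_rightFraction
      change w.s ≫ z₁.s = w.f ≫ z₂.s at hw
      have hs : W (w.s ≫ z₁.s) := W.comp_mem _ _ w.hs z₁.hs
      haveI := Localization.inverts W.Q W _ hs
      have e₁ : W.Q.map (w.s ≫ z₁.s) ≫ ψ₁ = W.Q.map (w.s ≫ z₁.f) := by
        rw [Functor.map_comp, Category.assoc, hQ z₁ ψ₁ h₁, Functor.map_comp]
      have e₂ : W.Q.map (w.s ≫ z₁.s) ≫ ψ₂ = W.Q.map (w.f ≫ z₂.f) := by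
        rw [hw, Functor.map_comp, Category.assoc, hQ z₂ ψ₂ h₂, Functor.map_comp]
      have hF : F.map (w.s ≫ z₁.f) = F.map (w.f ≫ z₂.f) := by
        have h3 : G.map (W.Q.map (w.s ≫ z₁.f)) = G.map (W.Q.map (w.f ≫ z₂.f)) := by
          rw [← e₁, ← e₂]
          simp only [Functor.map_comp]
          rw [show G.map ψ₁ = G.map ψ₂ from h]
        rw [hmap, hmap] at h3
        exact (cancel_mono (e.inv.app _)).mp ((cancel_epi (e.hom.app _)).mp h3)
      obtain ⟨A', t, ht, htt⟩ := hfaith _ _ hF
      haveI := Localization.inverts W.Q W _ ht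
      rw [← cancel_epi (W.Q.map (w.s ≫ z₁.s)), e₁, e₂, ← cancel_epi (W.Q.map t), ← Functor.map_comp, htt,
        Functor.map_comp]
    · intro ψ
      obtain ⟨z, hz⟩ := hfull A B (e.inv.app A ≫ ψ ≫ e.hom.app B)
      refine ⟨z.map W.Q (Localization.inverts W.Q W), ?_⟩
      haveI := hW _ z.hs
      haveI := Localization.inverts W.Q W _ z.hs
      show G.map _ = ψ
      rw [← cancel_epi (G.map (W.Q.map z.s)), ← Functor.map_comp, MorphismProperty.RightFraction.map_s_comp_map,
        hmap, hmap, ← MorphismProperty.RightFraction.map_s_comp_map z F hW, hz]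
      simp
  haveI : G.Faithful := ⟨fun {X Y} ψ₁ ψ₂ h => by
    have := Localization.essSurj W.Q W
    let a := W.Q.objObjPreimageIso X
    let b := W.Q.objObjPreimageIso Y
    rw [← cancel_epi a.hom, ← cancel_mono b.inv]
    refine (hff _ _).1 ?_
    show G.map _ = G.map _
    simp only [Functor.map_comp, h]⟩
  haveI : G.Full := ⟨fun {X Y} ψ => by
    have := Localization.essSurj W.Q W
    let a := W.Q.objObjPreimageIso X
    let b := W.Q.objObjPreimageIso Y
    obtain ⟨θ, hθ⟩ := (hff _ _).2 (G.map a.hom ≫ ψ ≫ G.map b.inv)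
    refine ⟨a.inv ≫ θ ≫ b.hom, ?_⟩
    simp only [Functor.map_comp]
    rw [show G.map θ = _ from hθ]
    simp [← Functor.map_comp_assoc, ← Functor.map_comp]⟩
  haveI : G.IsEquivalence := { }
  exact Functor.IsLocalization.of_equivalence_target W.Q W F G.asEquivalence e

section graph

variable {S : Scheme.{u}}

/-- A morphism of opens over the base is a fraction of morphisms of compactifications. -/
theorem exists_graph (A B : Pair S) (φ : (A.U : Scheme.{u}) ⟶ B.U)
    (hφ : φ ≫ B.U.ι ≫ B.bar.hom = A.U.ι ≫ A.bar.hom) [QuasiSeparatedSpace S] [CompactSpace S] :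
    ∃ (A' : Pair S) (t : A' ⟶ A) (f : A' ⟶ B), IsIso (restr t) ∧ restr t ≫ φ = restr f := by
  haveI := A.isProper
  haveI := B.isProper
  haveI : CompactSpace A.U := isCompact_iff_compactSpace.mp A.isCompact
  let σ : (A.U : Scheme.{u}) ⟶ pullback A.bar.hom B.bar.hom :=
    pullback.lift A.U.ι (φ ≫ B.U.ι) (by rw [Category.assoc, hφ])
  have hσ₁ : σ ≫ pullback.fst A.bar.hom B.bar.hom = A.U.ι := pullback.lift_fst _ _ _
  haveI : QuasiSeparatedSpace A.bar.left := quasiSeparatedSpace_of_quasiSeparated A.bar.hom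
  haveI : QuasiSeparatedSpace ↥(pullback A.bar.hom B.bar.hom) :=
    quasiSeparatedSpace_of_quasiSeparated (pullback.fst A.bar.hom B.bar.hom)
  haveI : QuasiCompact σ := NagataCompLib.quasiCompact_of_compactSpace σ
  let π : σ.image ⟶ A.bar.left := σ.imageι ≫ pullback.fst A.bar.hom B.bar.hom
  let ρ : σ.image ⟶ B.bar.left := σ.imageι ≫ pullback.snd A.bar.hom B.bar.hom
  haveI hiso := RGFlatLib.isIso_image_of_section σ _ _ hσ₁
  have hpre := RGFlatLib.preimage_opensRange_eq σ (pullback.fst A.bar.hom B.bar.hom) A.U.ι hσ₁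
  have hmem : ∀ x : σ.image, π x ∈ A.U → x ∈ Set.range σ.toImage := fun x hx => by
    rw [← hpre]
    show π x ∈ A.U.ι.opensRange
    rw [Scheme.Opens.opensRange_ι]
    exact hx
  have hkπ : σ.toImage ≫ π = A.U.ι := by rw [Scheme.Hom.toImage_imageι_assoc, hσ₁]
  have hkρ : σ.toImage ≫ ρ = φ ≫ B.U.ι := by rw [Scheme.Hom.toImage_imageι_assoc, pullback.lift_snd]
  obtain ⟨hc, hi⟩ := exists_iso_restrict π A.U (π ⁻¹ᵁ A.U) (fun x hx => hx) A.isCompact σ.toImage hkπ
    (fun x => by show π (σ.toImage x) ∈ A.U; rw [← Scheme.Hom.comp_apply, hkπ]; exact x.2) fun r hr => by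
    refine ModPairLib.eq_of_isIso_restrict (s := π) (V := A.U.ι.opensRange) ?_ fun w => ?_
    · rw [Category.assoc, hkπ, hr]
    · rw [← Scheme.Hom.comp_apply, Category.assoc, hkπ, hr, Scheme.Opens.opensRange_ι]
      exact w.2
  have hw : ρ ≫ B.bar.hom = π ≫ A.bar.hom := by simp only [π, ρ, Category.assoc, pullback.condition]
  let A' : Pair S := ⟨Over.mk (π ≫ A.bar.hom), π ⁻¹ᵁ A.U, inferInstanceAs (IsProper (π ≫ A.bar.hom)), hc⟩
  let t : A' ⟶ A := ⟨Over.homMk π, fun x hx => hx⟩
  let f : A' ⟶ B := ⟨Over.homMk ρ hw, fun x hx => by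
    obtain ⟨y, rfl⟩ := hmem x hx
    show ρ (σ.toImage y) ∈ B.U
    rw [← Scheme.Hom.comp_apply, hkρ]
    exact (φ y).2⟩
  refine ⟨A', t, f, hi, ?_⟩
  haveI : IsIso (restr t) := hi
  have h1 : restr t ≫ σ.toImage = (π ⁻¹ᵁ A.U).ι := by
    refine ModPairLib.eq_of_isIso_restrict (s := π) (V := A.U.ι.opensRange) ?_ fun w => ?_
    · rw [Category.assoc, hkπ]
      exact restr_ι t
    · rw [← Scheme.Hom.comp_apply, Category.assoc, hkπ, Scheme.Opens.opensRange_ι]
      exact (restr t w).2
  rw [← cancel_mono B.U.ι, Category.assoc, ← hkρ, ← Category.assoc, h1]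
  exact (restr_ι f).symm

end graph


open CategoryTheory CategoryTheory.Limits AlgebraicGeometry Opposite in
/-- Fix a scheme S which is quasi-separated and quasi-compact. Sending a pair (X, X̄) to X gives a
functor from the category of compactifications over S (pairs of a scheme X̄ proper over S and a
quasi-compact open X ⊆ X̄, with morphisms the S-morphisms X̄' → X̄ sending X' into X) to the
category of compactifyable schemes over S (the full subcategory of schemes over S that are the open
part of such a pair), and this functor is a localization functor for the class of morphisms whose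
open part X' → X is an isomorphism: it inverts that class and the induced functor from the localized
category is an equivalence. -/
theorem result (S : Scheme.{u}) [CompactSpace S] [QuasiSeparatedSpace S] :
    (Cpct.openFunctor S).IsLocalization (Cpct.isoOpen S) := by
  haveI := Groth.Agent.S9033.result S
  have hW : (isoOpen S).IsInvertedBy (openFunctor S) := by
    intro A B f hf
    haveI : IsIso (restr f) := hf
    haveI : IsIso ((openOver (S := S)).map f) := by
      haveI : IsIso ((Over.forget S).map ((openOver (S := S)).map f)) := hf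
      exact isIso_of_reflects_iso _ (Over.forget S)
    haveI : IsIso ((ObjectProperty.ι _).map ((openFunctor S).map f)) :=
      inferInstanceAs (IsIso ((openOver (S := S)).map f))
    exact isIso_of_reflects_iso _ (ObjectProperty.ι (IsCompactifyable S))
  haveI : (openFunctor S).EssSurj := ⟨fun X => by
    obtain ⟨A, ⟨e⟩⟩ := X.property
    exact ⟨A, ⟨(ObjectProperty.fullyFaithfulι (IsCompactifyable S)).preimageIso e⟩⟩⟩
  refine isLocalization_of_fractions (openFunctor S) (isoOpen S) hW (fun A B φ => ?_) (fun A B f g h => ?_)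
  · obtain ⟨A', t, f, ht, htf⟩ := exists_graph A B φ.hom.left (Over.w φ.hom)
    refine ⟨MorphismProperty.RightFraction.mk t ht f, ?_⟩
    haveI := hW t ht
    have h1 : (openFunctor S).map t ≫ φ = (openFunctor S).map f := by
      apply ObjectProperty.hom_ext
      apply Over.OverMorphism.ext
      exact htf
    refine (cancel_epi ((openFunctor S).map t)).mp (Eq.trans ?_ h1.symm)
    exact MorphismProperty.RightFraction.map_s_comp_map (MorphismProperty.RightFraction.mk (W := isoOpen S) t ht f)
      (openFunctor S) hW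
  · exact exists_equalizing f g (congrArg (fun m => m.hom.left) h)

end Groth.Agent.S9034
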