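import Groth.Statements.S9037
import Groth.Agent.ModSiteLib.CoprodQc
import Groth.Agent.AbCompactLib.ExtCompact
import Groth.Agent.WCLib.Basic

set_option autoImplicit false
universe u
open CategoryTheory CategoryTheory.Limits Opposite
open ModSite

namespace Groth.Agent.S9037

/-- On a ringed site (C, O), if U is a quasi-compact object (h_U^# is a quasi-compact object of the
topos, which is equivalent to the site-level notion) which is weakly contractible, then j_{U!} O_U,
placed in degree zero, is a compact object of the derived category D(O). The derived category of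
O-modules and direct sums in it are instance hypotheses. -/
theorem result
    {C : Type u} [SmallCategory C] {J : GrothendieckTopology C} (O : Sheaf J CommRingCat.{u})
    [HasDerivedCategory.{u} (ModSite.Mod O)] [HasCoproducts.{u} (DerivedCategory (ModSite.Mod O))]
    (U : C) (hqc : CohCx.IsQcObject ((presheafToSheaf J (Type u)).obj (yoneda.obj U)))
    (hwc : CohSite.IsWeaklyContractible J U) :
    CohDer.IsCompactObject ((DerivedCategory.singleFunctor (ModSite.Mod O) 0).obj (ModSite.freeOn O U)) := by
  let P := ModSite.freeOn O U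
  haveI : HasExt.{u} (ModSite.Mod O) := hasExt_of_hasDerivedCategory _
  haveI : Projective P := ⟨fun {E X} f e he => by
    haveI : Epi ((SheafOfModules.toSheaf (ModSite.ringSh O)).map e) := inferInstance
    obtain ⟨y, hy⟩ := Groth.Agent.WCLib.surjective_of_epi (fun P Q ψ h => hwc P Q ψ h)
      ((SheafOfModules.toSheaf (ModSite.ringSh O)).map e) (ModSiteLib.freeOnEquiv X U f)
    refine ⟨(ModSiteLib.freeOnEquiv E U).symm y, (ModSiteLib.freeOnEquiv X U).injective ?_⟩
    rw [ModSiteLib.freeOnEquiv_comp, Equiv.apply_symm_apply]
    exact hy⟩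
  have hd : ∀ (M : ModSite.Mod O) (p : ℕ), 0 < p → Subsingleton (Abelian.Ext P M p) := fun M p hp => by
    obtain ⟨p, rfl⟩ := Nat.exists_eq_succ_of_ne_zero hp.ne'
    exact subsingleton_of_forall_eq 0 fun x => Abelian.Ext.eq_zero_of_projective x
  have hc : ∀ (p : ℕ) (ι : Type u), PreservesColimitsOfShape (Discrete ι) (Abelian.extFunctorObj P p) := fun p ι => by
    cases p with
    | zero =>
      haveI := Groth.Agent.CoprodQcLib.preservesCoproducts_hom (O := O)
        (Groth.Agent.CoprodQcLib.qcSep_of_isQcObject hqc) ι
      refine preservesColimitsOfShape_of_natIso (NatIso.ofComponents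
        (fun M => (Abelian.Ext.addEquiv₀ (X := P) (Y := M)).symm.toAddCommGrpIso) (fun {M N} g => ?_) :
          preadditiveCoyoneda.obj (Opposite.op P) ≅ Abelian.extFunctorObj P 0)
      ext a
      exact (Abelian.Ext.mk₀_comp_mk₀ a g).symm
    | succ p =>
      refine ⟨fun {K} => ⟨fun {c} hc => ⟨IsColimit.ofExistsUnique fun s => ⟨0, fun j => ?_, fun m _ => ?_⟩⟩⟩⟩
      · haveI := hd (K.obj j) (p + 1) p.succ_pos
        ext (x : Abelian.Ext P (K.obj j) (p + 1))
        rw [Subsingleton.elim x 0]
        exact (map_zero _).trans (map_zero _).symm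
      · haveI := hd c.pt (p + 1) p.succ_pos
        ext (x : Abelian.Ext P c.pt (p + 1))
        rw [Subsingleton.elim x 0]
        exact (map_zero _).trans (map_zero _).symm
  intro I M
  haveI : HasCoproduct fun i : ULift.{u} I => M i.down :=
    ⟨⟨⟨_, PerfCompLib.isColimitULift _ (coproductIsCoproduct M)⟩⟩⟩
  exact PerfCompLib.bijective_of_finFac (Groth.Agent.AbCompactLib.finFac_down M
    (Groth.Agent.AbCompactLib.finFac_of_dim P 0 hd hc M))
end Groth.Agent.S9037
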