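import Groth.Statements.S9042
import Groth.Agent.ModCohLib.Rlim
import Groth.Agent.ModCohLib.Trunc
-- import your own Groth.Agent.* helpers here

set_option autoImplicit false
set_option linter.style.haveILetI false
universe u
open CategoryTheory CategoryTheory.Limits Opposite
open ModSite

namespace Groth.Agent.S9042

/-- Let (C, O) be a ringed site, E an object of D(O), B a class of objects such that every object has a
covering by members of B, and p : ℤ → ℤ a function such that H^k(V, H^{m-k}(E)) = 0 for every V in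
B, every m and every k > p(m). Then the canonical map from E to the derived limit of its truncations
τ_{≥ -n} E is an isomorphism, i.e. E is a derived limit of that tower through the canonical maps.
The derived category of O-modules and the product of the truncations are instance hypotheses; H^k(V,
-) of an O-module is the cohomology of its underlying abelian sheaf. -/
theorem result
    {C : Type u} [SmallCategory C] {J : GrothendieckTopology C} (O : Sheaf J CommRingCat.{u})
    [HasDerivedCategory.{u} (ModSite.Mod O)] (E : DerivedCategory (ModSite.Mod O))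
    [HasProduct (CohCx.truncTower E)] (B : Set C)
    (hB : ∀ U : C, ∃ (ι : Type u) (Y : ι → C) (f : ∀ i, Y i ⟶ U), Sieve.ofArrows Y f ∈ J U ∧ ∀ i, Y i ∈ B)
    (p : ℤ → ℤ)
    (h : ∀ V ∈ B, ∀ (m : ℤ) (k : ℕ), p m < k →
      Subsingleton (ModSite.HU O ((DerivedCategory.homologyFunctor (ModSite.Mod O) (m - k)).obj E) k V)) :
    CohCx.IsRlimVia (CohCx.truncTower E) (CohCx.truncTowerMap E) E (CohCx.toTruncTower E) := by
  let K := CohCx.truncTower E
  let t := CohCx.truncTowerMap E
  obtain ⟨L, i, c, hδ⟩ := Pretriangulated.distinguished_cocone_triangle₁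
    (Pi.lift fun n => Pi.π K n - Pi.π K (n + 1) ≫ t n)
  let a : ∀ n, L ⟶ K n := fun n => i ≫ Pi.π K n
  have hi : i = Pi.lift a := Limits.Pi.hom_ext _ _ fun n => by simp [a]
  rw [hi] at hδ
  have hL : CohCx.IsRlimVia K t L a := ⟨c, hδ⟩
  have hzero : Pi.lift (CohCx.toTruncTower E) ≫ Pi.lift (fun n => Pi.π K n - Pi.π K (n + 1) ≫ t n) = 0 :=
    Limits.Pi.hom_ext _ _ fun n => by
      simp only [K, t, Category.assoc, Pi.lift_π, zero_comp, Preadditive.comp_sub, Pi.lift_π_assoc]
      exact sub_eq_zero.2 (ModCohLib.toTruncTower_comp E n).symm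
  obtain ⟨φ₀, hφ⟩ := Pretriangulated.Triangle.coyoneda_exact₂ _ hδ (Pi.lift (CohCx.toTruncTower E)) hzero
  let φ : E ⟶ L := φ₀
  replace hφ : Pi.lift (CohCx.toTruncTower E) = φ ≫ Pi.lift a := hφ
  have hφa : ∀ n, φ ≫ a n = CohCx.toTruncTower E n := fun n => by
    refine (congrArg (φ ≫ ·) (Pi.lift_π (f := K) a n).symm).trans
      ((Category.assoc _ _ _).symm.trans ?_)
    exact (congrArg (· ≫ Pi.π K n) hφ.symm).trans (Pi.lift_π _ _)
  have key : ∀ j : ℤ, IsIso ((DerivedCategory.homologyFunctor (ModSite.Mod O) j).map φ) := by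
    intro j
    let n₁ : ℕ := (-j).toNat
    have hLn := ModCohLib.isIso_homology_rlim B hB K t L a hL j n₁
      (fun n hn => ModCohLib.isIso_homology_truncTowerMap E n j (by omega)) (fun V hV => by
        refine ⟨max (p j - j).toNat (p (j + 1) - j).toNat + (-j).toNat + 1,
          ModCohLib.cofinalCover_of_forall J B hB (fun Y hY n hn => ?_) V⟩
        obtain ⟨Z, ψ, ψ', hT⟩ := Pretriangulated.distinguished_cocone_triangle (t n)
        have hc := ModCohLib.homology_cone_truncTowerMap E n (Pretriangulated.Triangle.mk (t n) ψ ψ') hT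
          (Iso.refl _) (Iso.refl _) ((Category.comp_id _).trans (Category.id_comp _).symm)
        haveI : Z.IsGE (-(n : ℤ) - 2) := by
          rw [DerivedCategory.isGE_iff]
          intro q hq
          exact (hc q).1 (by omega)
        have vz : ∀ j', j - 1 ≤ j' → j' ≤ j → ∀ x : ModCohLib.dgen O Y j' ⟶ Z, x = 0 := by
          intro j' h0 h1
          refine ModCohLib.dgen_hom_eq_zero Y j' (-(n : ℤ) - 2) Z fun m k hk => ?_
          by_cases hm : m = -(n : ℤ) - 2
          · obtain ⟨e⟩ := (hc m).2 hm
            refine ModCohLib.subsingleton_HU_of_iso e k Y ?_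
            have := h Y hY (j' + 1) k (by
              obtain rfl | rfl : j' = j ∨ j' = j - 1 := by omega
              · omega
              · rw [sub_add_cancel]; omega)
            rwa [show j' + 1 - (k : ℤ) = m + 1 by omega] at this
          · exact ModCohLib.subsingleton_HU_of_isZero ((hc m).1 hm) k Y
        exact ModCohLib.genBij_of_triangle (Pretriangulated.Triangle.mk (t n) ψ ψ') hT Y j
          (vz j (by omega) le_rfl) (vz (j - 1) le_rfl (by omega)))
    have h1 := ModCohLib.isIso_homology_truncGEπ E (-(n₁ : ℤ)) j (by omega)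
    haveI := hLn n₁ le_rfl
    haveI : IsIso ((DerivedCategory.homologyFunctor (ModSite.Mod O) j).map φ ≫
        (DerivedCategory.homologyFunctor (ModSite.Mod O) j).map (a n₁)) := by
      rw [← Functor.map_comp, hφa]
      exact h1
    exact IsIso.of_isIso_comp_right _ ((DerivedCategory.homologyFunctor (ModSite.Mod O) j).map (a n₁))
  haveI hiφ : IsIso φ := (DerivedCategory.isIso_iff (C := ModSite.Mod O) (f := φ)).2 key
  refine ⟨c ≫ (inv φ)⟦(1 : ℤ)⟧', Pretriangulated.isomorphic_distinguished _ hδ _
    (Pretriangulated.Triangle.isoMk _ _ (@asIso _ _ E L φ hiφ) (Iso.refl _) (Iso.refl _) ?_ ?_ ?_)⟩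
  · exact (Category.comp_id _).trans hφ
  · exact (Category.comp_id _).trans (Category.id_comp _).symm
  · show (c ≫ (inv φ)⟦(1 : ℤ)⟧') ≫ φ⟦(1 : ℤ)⟧' = 𝟙 _ ≫ c
    rw [Category.assoc, ← Functor.map_comp, IsIso.inv_hom_id, CategoryTheory.Functor.map_id, Category.comp_id, Category.id_comp]

end Groth.Agent.S9042
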