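import Groth.Statements.S9044
import Groth.Agent.CohLib.InjModule
import Groth.Agent.CohLib.Push
import Mathlib.CategoryTheory.Limits.Preserves.Shapes.Over
import Mathlib.CategoryTheory.Limits.Constructions.FiniteProductsOfBinaryProducts
import Mathlib.CategoryTheory.Limits.Constructions.Over.Basic

set_option autoImplicit false
universe u
open CategoryTheory CategoryTheory.Limits Opposite
open ModSite

namespace Groth.Agent.S9044

section Aux

universe v w

variable {A : Type w} [Category.{v} A] {B : Type w} [Category.{v} B] [HasFiniteLimits A]
  [HasFiniteLimits B] (G : A ⥤ B) [PreservesLimitsOfShape WalkingCospan G]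

/-- A functor preserving fibre products preserves finite products in slices. -/
theorem preservesFiniteProducts_overPost (X : A) : PreservesFiniteProducts (Over.post G (X := X)) := by
  haveI : PreservesLimitsOfShape (WidePullbackShape WalkingPair) G :=
    inferInstanceAs (PreservesLimitsOfShape WalkingCospan G)
  haveI : PreservesLimitsOfShape (Discrete WalkingPair) (Over.post G (X := X)) := inferInstance
  haveI : PreservesLimit (Functor.empty.{0} (Over X)) (Over.post G (X := X)) :=
    preservesLimit_of_preserves_limit_cone (Over.mkIdTerminal (X := X))
      ((isLimitMapConeEmptyConeEquiv _ _).symm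
        (IsTerminal.ofIso (Over.mkIdTerminal (X := G.obj X))
          (Over.isoMk (Iso.refl _) ((Category.id_comp _).trans (G.map_id X)) : Over.mk (𝟙 (G.obj X)) ≅ (Over.post G (X := X)).obj (Over.mk (𝟙 X)))))
  haveI := preservesLimitsOfShape_pempty_of_preservesTerminal (Over.post G (X := X))
  exact PreservesFiniteProducts.of_preserves_binary_and_terminal _

/-- A functor preserving fibre products preserves finite wide pullbacks. -/
theorem preservesWidePullbacks (ι : Type) [Finite ι] :
    PreservesLimitsOfShape (WidePullbackShape ι) G where
  preservesLimit {F} := ⟨fun {c} hc => by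
    let X := F.obj none
    haveI := preservesFiniteProducts_overPost G X
    let Y : ι → Over X := fun i => Over.mk (F.map (WidePullbackShape.Hom.term i))
    let P : Over X := Over.mk (c.π.app none)
    let π : ∀ i, P ⟶ Y i := fun i => Over.homMk (c.π.app (some i)) (c.w _)
    let K : Fan Y → Cone F := fun s => WidePullbackShape.mkCone s.pt.hom (fun i => (s.proj i).left)
      (fun i => Over.w (s.proj i))
    let h : IsLimit (Fan.mk P π) := mkFanLimit _
      (fun s => Over.homMk (hc.lift (K s)) (hc.fac (K s) none))
      (fun s i => Over.OverMorphism.ext (hc.fac (K s) (some i)))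
      (fun s m hm => Over.OverMorphism.ext (hc.hom_ext fun j => by
        rcases j with _ | i
        · exact Eq.trans (Over.w m) (hc.fac (K s) none).symm
        · exact Eq.trans (congrArg (fun k => k.left) (hm i)) (hc.fac (K s) (some i)).symm))
    let hp := isLimitFanMkObjOfIsLimit (Over.post G (X := X)) Y π h
    let fan : ∀ s : Cone (F ⋙ G), Fan (fun i => (Over.post G (X := X)).obj (Y i)) := fun s =>
      Fan.mk (Over.mk (s.π.app none)) fun i =>
        Over.homMk (U := Over.mk (s.π.app none)) (V := (Over.post G (X := X)).obj (Y i))
          (s.π.app (some i)) (s.w (WidePullbackShape.Hom.term i))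
    refine ⟨
      { lift := fun s => (hp.lift (fan s)).left
        fac := fun s j => ?_
        uniq := fun s m hm => ?_ }⟩
    · rcases j with _ | i
      · exact Over.w (hp.lift (fan s))
      · exact congrArg (fun k => k.left) (hp.fac (fan s) ⟨i⟩)
    · exact congrArg (fun k => k.left) (hp.uniq (fan s) (Over.homMk m (hm none))
        fun i => Over.OverMorphism.ext (hm (some i.as)))⟩

end Aux

/-- Suppose the functor of sites u : C → D is both continuous and cocontinuous (sites with fibre
products; u sends coverings to coverings and commutes with fibre products), g the associated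
morphism of topoi (g⁻¹ is precomposition with u, and g_! on sheaves of sets is the sheaf pullback
along u), O_D a sheaf of rings on D and I an injective O_D-module. If g_! commutes with fibre
products then the abelian sheaf g⁻¹ I is totally acyclic. Stated for a sheaf of commutative rings
O_D. -/
theorem result
    {C : Type u} [SmallCategory C] [HasPullbacks C] (J : GrothendieckTopology C)
    {D : Type u} [SmallCategory D] [HasPullbacks D] (K : GrothendieckTopology D)
    (u : C ⥤ D) (hu : CoverPreserving J K u) [PreservesLimitsOfShape WalkingCospan u]
    [u.IsContinuous J K] [u.IsCocontinuous J K]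
    (hfib : PreservesLimitsOfShape WalkingCospan (u.sheafPullback (Type u) J K))
    (O_D : Sheaf K CommRingCat.{u}) (I : ModSite.Mod O_D) (hI : Injective I) :
    CohCx.IsTotallyAcyclic ((u.sheafPushforwardContinuous AddCommGrpCat.{u} J K).obj (ModSite.toAb I)) := by
  haveI := hfib
  haveI := hI
  haveI : ∀ m, PreservesLimitsOfShape (WidePullbackShape (Fin (m + 1))) (u.sheafPullback (Type u) J K) :=
    fun m => preservesWidePullbacks _ _
  exact CohLib.isTotallyAcyclic_push K J u (CohLib.isTotallyAcyclic_toSheaf (ModSite.ringSh O_D) I)

end Groth.Agent.S9044
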