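import Groth.Statements.S9047
import Groth.Agent.ModSiteLib.CoprodQc
import Groth.Agent.ModSiteLib.Grothendieck
import Groth.Agent.AbCompactLib.ExtCompact
import Groth.Agent.CohLib.InjModule
import Groth.Agent.CohLib.CechApply
-- import your own Groth.Agent.* helpers here

set_option autoImplicit false
universe u
open CategoryTheory CategoryTheory.Limits Opposite
open ModSite

namespace Groth.Agent.S9047

set_option linter.style.haveILetI false
set_option backward.isDefEq.respectTransparency false

section Aux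
open CohLib AlgebraicTopology Simplicial

variable {C : Type u} [SmallCategory C] {J : GrothendieckTopology C}

/-- From free abelian presheaves to free presheaves of modules. -/
noncomputable def toFreePMod (R : Cᵒᵖ ⥤ RingCat.{u}) :
    (Functor.whiskeringRight Cᵒᵖ (Type u) AddCommGrpCat.{u}).obj AddCommGrpCat.free.{u} ⟶
      PresheafOfModules.free R ⋙ PresheafOfModules.toPresheaf R where
  app L := ((AddCommGrpCat.adj.{u}.whiskerRight Cᵒᵖ).homEquiv L _).symm
    ((PresheafOfModules.freeAdjunction R).unit.app L)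
  naturality L M g := by
    apply ((AddCommGrpCat.adj.{u}.whiskerRight Cᵒᵖ).homEquiv _ _).injective
    rw [Adjunction.homEquiv_naturality_left, Adjunction.homEquiv_naturality_right,
      Equiv.apply_symm_apply, Equiv.apply_symm_apply]
    exact (PresheafOfModules.freeAdjunction R).unit.naturality g

lemma toFreePMod_bijective (R : Cᵒᵖ ⥤ RingCat.{u}) (L : Cᵒᵖ ⥤ Type u) (H : PresheafOfModules.{u} R) :
    Function.Bijective (fun y : (PresheafOfModules.free R).obj L ⟶ H =>
      (toFreePMod R).app L ≫ (PresheafOfModules.toPresheaf R).map y) := by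
  let a := AddCommGrpCat.adj.{u}.whiskerRight Cᵒᵖ
  let b := PresheafOfModules.freeAdjunction R
  have : (fun y : (PresheafOfModules.free R).obj L ⟶ H =>
      (toFreePMod R).app L ≫ (PresheafOfModules.toPresheaf R).map y) =
      (a.homEquiv L _).symm ∘ b.homEquiv L H := by
    funext y
    apply (a.homEquiv L _).injective
    change a.homEquiv _ _ ((a.homEquiv L _).symm (b.unit.app L) ≫
      (PresheafOfModules.toPresheaf R).map y) =
      a.homEquiv _ _ ((a.homEquiv _ _).symm (b.homEquiv L H y))
    rw [Equiv.apply_symm_apply, Adjunction.homEquiv_naturality_right, Equiv.apply_symm_apply]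
    exact (b.homEquiv_unit L H y).symm
  rw [this]
  exact (a.homEquiv L _).symm.bijective.comp (b.homEquiv L H).bijective

variable [HasPullbacks C]

lemma quasiIso_freePMod (R : Cᵒᵖ ⥤ RingCat.{u}) {X : C} {ι : Type u} (Y : ι → Over X) :
    QuasiIso (AlternatingFaceMapComplex.ε.app (((SimplicialObject.Augmented.whiskering _ _).obj
      (PresheafOfModules.free R)).obj (sieveNerve Y))) := by
  let T := PresheafOfModules.toPresheaf R
  let A := ((SimplicialObject.Augmented.whiskering _ _).obj
      (PresheafOfModules.free R)).obj (sieveNerve Y)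
  haveI : QuasiIso (AlternatingFaceMapComplex.ε.app
      (((SimplicialObject.Augmented.whiskering _ _).obj T).obj A)) := by
    rw [HomologicalComplex.quasiIso_iff_evaluation]
    intro U
    have ed := (isNerve_sieveNerve Y U).extraDegeneracy.map
      (ModuleCat.free (R.obj U) ⋙ forget₂ (ModuleCat (R.obj U)) AddCommGrpCat.{u})
    haveI : QuasiIso (AlternatingFaceMapComplex.ε.app
        (((SimplicialObject.Augmented.whiskering _ _).obj
          ((evaluation Cᵒᵖ AddCommGrpCat.{u}).obj U)).obj
          (((SimplicialObject.Augmented.whiskering _ _).obj T).obj A))) :=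
      inferInstanceAs (QuasiIso ed.homotopyEquiv.hom)
    exact quasiIso_of_arrowIso (mapεArrowIso ((evaluation Cᵒᵖ AddCommGrpCat.{u}).obj U)
      (((SimplicialObject.Augmented.whiskering _ _).obj T).obj A)).symm
  have h : QuasiIso ((T.mapHomologicalComplex _).map (AlternatingFaceMapComplex.ε.app A)) :=
    quasiIso_of_arrowIso (mapεArrowIso T A).symm
  exact (HomologicalComplex.quasiIso_map_iff_of_preservesHomology _ T).1 h

variable (O : Sheaf J CommRingCat.{u})

/-- The underlying presheaf of abelian groups. -/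
noncomputable abbrev secF : ModSite.Mod O ⥤ Cᵒᵖ ⥤ AddCommGrpCat.{u} :=
  SheafOfModules.toSheaf (ModSite.ringSh O) ⋙ sheafToPresheaf J AddCommGrpCat.{u}

theorem cech_injective {X : C} {ι : Type u} (Y : ι → Over X) (I : ModSite.Mod O) [Injective I]
    (q : ℕ) : HomExact (cechChain Y) ((secF O).obj I) q := by
  let R := ModSite.ringSh O
  haveI : PreservesFiniteLimits (aR R) := inferInstance
  let H := (SheafOfModules.forget R ⋙ PresheafOfModules.restrictScalars (𝟙 R.obj)).obj I
  haveI : Injective H := Injective.injective_of_adjoint (adjR R) I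
  haveI := quasiIso_freePMod R.obj Y
  exact homExact_of_natTrans (PresheafOfModules.toPresheaf R.obj) (toFreePMod R.obj)
    (toFreePMod_bijective R.obj) (sieveNerve Y).left (H := H)
    (homExact_of_injective _ (AlternatingFaceMapComplex.ε.app
      (((SimplicialObject.Augmented.whiskering _ _).obj (PresheafOfModules.free R.obj)).obj
        (sieveNerve Y))) H q)

theorem qcSep_B (B : Set C) (h : ∀ V ∈ B, ∀ T ∈ J V, ∃ (ι : Type u) (Y : ι → Over V), Finite ι ∧
    famSieve Y ∈ J V ∧ ∀ i, T.arrows (Y i).hom) {V : C} (hV : V ∈ B) :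
    Groth.Agent.CoprodQcLib.QcSep J O V := by
  intro S hS
  obtain ⟨ι, Y, hfin, hY, hT⟩ := h V hV S hS
  refine ⟨ι, hfin, fun i => (Y i).left, fun i => (Y i).hom, hT, fun M x y hxy => ?_⟩
  refine Presheaf.IsSheaf.isSeparated M.isSheaf V (famSieve Y) hY _ _ ?_
  intro W w hw
  obtain ⟨i, a, rfl⟩ := (Sieve.mem_ofArrows_iff _ _ _).1 hw
  change M.val.map (a ≫ (Y i).hom).op x = M.val.map (a ≫ (Y i).hom).op y
  rw [op_comp, PresheafOfModules.map_comp_apply, PresheafOfModules.map_comp_apply]
  exact congrArg (M.val.map a.op) (hxy i)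

theorem cech_coprod {X : C} {ι : Type u} [Finite ι] (Y : ι → Over X)
    (hY : ∀ (p : ℕ) (a : Fin (p + 1) → ι),
      Groth.Agent.CoprodQcLib.QcSep J O (∏ᶜ fun k => Y (a k)).left)
    {κ : Type u} (I : κ → ModSite.Mod O) (hI : ∀ i, Injective (I i)) (q : ℕ) :
    HomExact (cechChain Y) ((secF O).obj (∐ I)) q := by
  classical
  intro x hx
  let E := (famCop Y).cech.obj (op ⦋q + 1⦌)
  choose s hs using fun a : Fin (q + 2) → ι =>
    Groth.Agent.CoprodQcLib.exists_fixed I (hY (q + 1) a)
      (x.app (op (E.obj a).left) (FreeAbelianGroup.of ⟨a, 𝟙 _⟩))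
  obtain ⟨hft⟩ := nonempty_fintype ι
  let S : Finset κ := (Finset.univ : Finset (Fin (q + 2) → ι)).biUnion s
  have hkeep : x ≫ (secF O).map (Groth.Agent.CoprodQcLib.keep I S) = x :=
    freeOf_hom_ext E _ _ fun a =>
      Groth.Agent.CoprodQcLib.fixed_mono I (Finset.subset_biUnion_of_mem s (Finset.mem_univ (α := Fin (q + 2) → ι) a)) (hs a)
  have hc : ∀ i, ∃ y : (cechChain Y).X q ⟶ (secF O).obj (I i), (cechChain Y).d (q + 1) q ≫ y =
      x ≫ (secF O).map (Groth.Agent.CoprodQcLib.prj I i) := fun i =>
    haveI := hI i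
    cech_injective O Y (I i) q _ (by rw [← Category.assoc, hx, zero_comp])
  choose y hy using hc
  refine ⟨∑ i ∈ S, y i ≫ (secF O).map (Sigma.ι I i), ?_⟩
  conv_rhs => rw [← hkeep, Groth.Agent.CoprodQcLib.keep, Functor.map_sum, Preadditive.comp_sum]
  rw [Preadditive.comp_sum]
  refine Finset.sum_congr rfl fun i _ => ?_
  rw [← Category.assoc, hy, Category.assoc, Functor.map_comp]

/-- Čech exactness for all families of the class. -/
def Good (Cov : ∀ (U : C) (ι : Type u), (ι → Over U) → Prop) (M : ModSite.Mod O) : Prop :=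
  ∀ (U : C) (ι : Type u) (Y : ι → Over U), Cov U ι Y → ∀ q, HomExact (cechChain Y) ((secF O).obj M) q

variable {O}

theorem extAcyclic_good (B : Set C) (Cov : ∀ (U : C) (ι : Type u), (ι → Over U) → Prop)
    (h1 : ∀ (U : C) (ι : Type u) (Y : ι → Over U), Cov U ι Y → famSieve Y ∈ J U ∧
      ∀ (p : ℕ) (a : Fin (p + 1) → ι), (∏ᶜ fun k => Y (a k)).left ∈ B)
    (h2 : ∀ U ∈ B, ∀ T ∈ J U, ∃ (ι : Type u) (Y : ι → Over U), Cov U ι Y ∧
      ∀ i, T.arrows (Y i).hom)
    [HasExt.{u} (ModSite.Mod O)] {U : C} (hU : U ∈ B) (p : ℕ) :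
    ∀ M : ModSite.Mod O, Good O Cov M → Subsingleton (Abelian.Ext (ModSite.freeOn O U) M (p + 1)) := by
  let Φ := SheafOfModules.toSheaf (ModSite.ringSh O)
  have hmap : ∀ M : ModSite.Mod O, ((injSC M).map Φ).ShortExact := fun M =>
    (injSC_shortExact M).map_of_exact Φ
  have key : ∀ M, Good O Cov M → ∀ V ∈ B,
      Function.Surjective (((injSC M).map Φ).g.hom.app (op V)) := by
    intro M hM V hV s
    haveI := (hmap M).epi_g
    haveI : Sheaf.IsLocallySurjective ((injSC M).map Φ).g :=
      (Sheaf.isLocallySurjective_iff_epi' AddCommGrpCat.{u} ((injSC M).map Φ).g).2 inferInstance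
    obtain ⟨ι, Y, hc, hT⟩ := h2 V hV _
      (Presheaf.imageSieve_mem J ((injSC M).map Φ).g.hom (U := op V) s)
    exact exists_lift_of_cech (hmap M) Y (h1 V ι Y hc).1 (hM V ι Y hc 0) s hT
  induction p with
  | zero =>
    intro M hM
    haveI : Subsingleton (Abelian.Ext (ModSite.freeOn O U) (injSC M).X₂ 1) :=
      subsingleton_ext_injective _ (Injective.under M) 0
    refine subsingleton_ext_one_of_lift (injSC_shortExact M) fun f => ?_
    obtain ⟨t, ht⟩ := key M hM U hU (ModSiteLib.freeOnEquiv _ U f)
    refine ⟨(ModSiteLib.freeOnEquiv _ U).symm t, (ModSiteLib.freeOnEquiv _ U).injective ?_⟩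
    rw [ModSiteLib.freeOnEquiv_comp, Equiv.apply_symm_apply]
    exact ht
  | succ p ih =>
    intro M hM
    haveI : Subsingleton (Abelian.Ext (ModSite.freeOn O U) (injSC M).X₂ (p + 1 + 1)) :=
      subsingleton_ext_injective _ (Injective.under M) _
    haveI : Subsingleton (Abelian.Ext (ModSite.freeOn O U) (injSC M).X₃ (p + 1)) :=
      ih _ fun V ι Y hc q => homExact_cechChain_quotient (hmap M) Y
        (fun a => key M hM _ ((h1 V ι Y hc).2 (q + 1) a)) (hM V ι Y hc (q + 1))
        (cech_injective O Y (Injective.under M) q)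
    exact subsingleton_ext_of_shift (injSC_shortExact M)

end Aux

/-- Let (C, O) be a ringed site with fibre products, B a class of objects and Cov a class of finite
covering families such that (1) for a family in Cov over U, U and all iterated fibre products of its
members lie in B, and (2) every covering sieve of a member of B contains a family from Cov. Then for
U in B the module j_{U!} O_U behaves as a compact object of D^+(O), meaning: for every family (M_i)
of objects of D(O) which is uniformly bounded below and whose direct sum exists, ⊕_i Hom(j_{U!} O_U,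
M_i) → Hom(j_{U!} O_U, ⊕_i M_i) is bijective. The derived category of O-modules is an instance
hypothesis. -/
theorem result
    {C : Type u} [SmallCategory C] [HasPullbacks C] {J : GrothendieckTopology C} (O : Sheaf J CommRingCat.{u})
    (B : Set C) (Cov : ∀ (U : C) (ι : Type u), (ι → Over U) → Prop)
    (h1 : ∀ (U : C) (ι : Type u) (Y : ι → Over U), Cov U ι Y → Finite ι ∧ U ∈ B ∧
      Sieve.ofArrows (fun i => (Y i).left) (fun i => (Y i).hom) ∈ J U ∧
      ∀ (p : ℕ) (a : Fin (p + 1) → ι), (∏ᶜ fun k => Y (a k)).left ∈ B)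
    (h2 : ∀ U ∈ B, ∀ T ∈ J U, ∃ (ι : Type u) (Y : ι → Over U), Cov U ι Y ∧ ∀ i, T.arrows (Y i).hom)
    [HasDerivedCategory.{u} (ModSite.Mod O)]
    (U : C) (hU : U ∈ B) {I : Type u} (M : I → DerivedCategory (ModSite.Mod O)) [HasCoproduct M]
    (a : ℤ) (hM : ∀ i, (M i).IsGE a) :
    Function.Bijective (CohDer.homSumToHomCoprod
      ((DerivedCategory.singleFunctor (ModSite.Mod O) 0).obj (ModSite.freeOn O U)) M) := by
  haveI : HasExt.{u} (ModSite.Mod O) := hasExt_of_hasDerivedCategory _
  let P := ModSite.freeOn O U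
  have hqc : ∀ V ∈ B, Groth.Agent.CoprodQcLib.QcSep J O V := fun V hV =>
    qcSep_B O B (fun W hW T hT => by
      obtain ⟨ι, Y, hc, hYT⟩ := h2 W hW T hT
      exact ⟨ι, Y, (h1 W ι Y hc).1, (h1 W ι Y hc).2.2.1, hYT⟩) hV
  have hF : PerfCompLib.AcycClass P (Groth.Agent.AbCompactLib.ExtAcyclic P) :=
    { injective := fun I hI => Groth.Agent.AbCompactLib.extAcyclic_injective P I
      sigma := fun {κ} I hI p => extAcyclic_good B Cov
        (fun V ι Y hc => ⟨(h1 V ι Y hc).2.2.1, (h1 V ι Y hc).2.2.2⟩) h2 hU p (∐ I)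
        fun V ι Y hc q => haveI := (h1 V ι Y hc).1
          cech_coprod O Y (fun p a => hqc _ ((h1 V ι Y hc).2.2.2 p a)) I hI q
      iso := fun e h => Groth.Agent.AbCompactLib.extAcyclic_of_iso e h
      biprod := Groth.Agent.AbCompactLib.extAcyclic_biprod
      lift := fun {S} hS h₁ g => by
        haveI := h₁ 0
        exact CohLib.exists_lift_of_subsingleton_ext_one hS g
      quot := fun {S} hS h₁ h₂ p => by
        haveI := h₁ (p + 1)
        haveI := h₂ p
        exact CohLib.subsingleton_ext_of_shift' hS }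
  have hP : ∀ {κ : Type u} (Y : κ → ModSite.Mod O) (g : P ⟶ ∐ Y),
      ∃ S : Finset κ, g ≫ PerfCompLib.cut Y S = g := fun {κ} Y g => by
    haveI := Groth.Agent.CoprodQcLib.preservesCoproducts_hom (O := O) (hqc U hU) κ
    haveI : PreservesColimitsOfShape (Discrete κ) (Abelian.extFunctorObj P 0) := by
      refine preservesColimitsOfShape_of_natIso (NatIso.ofComponents
        (fun M => (Abelian.Ext.addEquiv₀ (X := P) (Y := M)).symm.toAddCommGrpIso) (fun {M N} g => ?_) :
          preadditiveCoyoneda.obj (Opposite.op P) ≅ Abelian.extFunctorObj P 0)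
      ext a
      exact (Abelian.Ext.mk₀_comp_mk₀ a g).symm
    exact Groth.Agent.AbCompactLib.exists_cut P Y g
  haveI : HasCoproduct fun i : ULift.{u} I => M i.down :=
    ⟨⟨⟨_, PerfCompLib.isColimitULift _ (coproductIsCoproduct M)⟩⟩⟩
  exact PerfCompLib.bijective_of_finFac (Groth.Agent.AbCompactLib.finFac_down M
    (PerfCompLib.FinFac.of_iso ((DerivedCategory.singleFunctorIsoCompQ (ModSite.Mod O) 0).app P).symm
      (PerfCompLib.finFac_single hF hP M a hM)))

end Groth.Agent.S9047
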