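import Groth.Statements.S9048
import Groth.Agent.CohLib.ModExtH
import Groth.Agent.ModSiteLib.Grothendieck
-- import your own Groth.Agent.* helpers here

set_option autoImplicit false
set_option linter.style.haveILetI false
set_option backward.isDefEq.respectTransparency false
set_option linter.style.haveILetI false
universe u
open CategoryTheory CategoryTheory.Limits Opposite
open ModSite

namespace Groth.Agent.S9048

/-- On a ringed site (C, O), for a sheaf of sets K and an O-module F with underlying abelian sheaf F_ab,
the cohomology groups H^p(K, F) computed on Mod(O) — the derived functors of F ↦ Mor(K, F), i.e. the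
Ext groups out of the free O-module O[K] on K — agree with H^p(K, F_ab) computed on abelian sheaves.
Stated as the existence of a group isomorphism; the Ext groups of Mod(O) are an instance hypothesis. -/
theorem result
    {C : Type u} [SmallCategory C] {J : GrothendieckTopology C} (O : Sheaf J CommRingCat.{u})
    [HasExt.{u} (ModSite.Mod O)] (K : Sheaf J (Type u)) (F : ModSite.Mod O) (p : ℕ) :
    Nonempty (Abelian.Ext ((ModSite.sheafify O).obj ((PresheafOfModules.free (ModSite.ringSh O).obj).obj K.obj)) F p ≃+
      CohCx.HK K (ModSite.toAb F) p) := by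
  let R := ModSite.ringSh O
  let T := SheafOfModules.toSheaf.{u} R
  haveI : PreservesFiniteLimits T := inferInstance
  haveI : PreservesFiniteColimits T := inferInstance
  let Z := (presheafToSheaf J AddCommGrpCat.{u}).obj (K.obj ⋙ AddCommGrpCat.free.{u})
  let P := (ModSite.sheafify O).obj ((PresheafOfModules.free (ModSite.ringSh O).obj).obj K.obj)
  let S := preadditiveCoyoneda.obj (op Z)
  let e : ∀ M : ModSite.Mod O, (P ⟶ M) ≃+ (Z ⟶ T.obj M) := fun M =>
    AddEquiv.ofBijective
      (AddMonoidHom.mk' (fun y : P ⟶ M => (CohLib.toFreeModR R).app K ≫ T.map y) (fun y y' => by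
        exact (congrArg ((CohLib.toFreeModR R).app K ≫ ·) (Functor.map_add T)).trans
          (Preadditive.comp_add _ _ _ _ _ _)))
      (CohLib.toFreeModR_bijective R K M)
  have he : ∀ {M N : ModSite.Mod O} (g : M ⟶ N) (y : P ⟶ M), e N (y ≫ g) = e M y ≫ T.map g :=
    fun {M N} g y => (congrArg ((CohLib.toFreeModR R).app K ≫ ·) (T.map_comp y g)).trans
      (Category.assoc _ _ _).symm
  obtain ⟨i⟩ := CohLib.nonempty_rightDerived_iso_ext (T ⋙ S) P (fun I => (e I).symm)
    (fun {I I'} g x => (e I').symm_apply_eq.2 (by
      refine Eq.trans ?_ (he g _).symm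
      exact (congrArg (· ≫ T.map g) ((e I).apply_symm_apply x)).symm)) F p
  obtain ⟨j⟩ := SpSeqLib.nonempty_rightDerived_comp_iso S T
    (fun Q hQ q hq => by
      obtain ⟨q, rfl⟩ := Nat.exists_eq_succ_of_ne_zero hq.ne'
      haveI := hQ
      haveI : Subsingleton (Abelian.Ext.{u} Z (T.obj Q) (q + 1)) := CohLib.isTotallyAcyclic_toSheaf R Q K q
      obtain ⟨k⟩ := CohLib.nonempty_rightDerived_coyoneda_iso_ext Z (T.obj Q) (q + 1)
      exact (AddCommGrpCat.isZero_of_subsingleton _).of_iso k)
    F p
  obtain ⟨k⟩ := CohLib.nonempty_rightDerived_coyoneda_iso_ext Z (T.obj F) p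
  exact ⟨(i.symm ≪≫ j ≪≫ k).addCommGroupIsoToAddEquiv⟩

end Groth.Agent.S9048
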