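import Groth.Statements.S9049
import Mathlib.RingTheory.Finiteness.Projective
import Mathlib.CategoryTheory.Idempotents.Basic

set_option autoImplicit false
universe u
open CategoryTheory CategoryTheory.Limits Opposite
open ModSite

namespace Groth.Agent.S9049

section

variable {C : Type u} [SmallCategory C] {J : GrothendieckTopology C} (O : Sheaf J CommRingCat.{u})
  {X : C} (hX : IsTerminal X)

/-- Evaluation at `X`, additively. -/
noncomputable def evH (M N : ModSite.Mod O) :
    (M ⟶ N) →+ (M.val.obj (op X) ⟶ N.val.obj (op X)) where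
  toFun φ := φ.val.app (op X)
  map_zero' := rfl
  map_add' _ _ := rfl

theorem app_comp {M N P : ModSite.Mod O} (φ : M ⟶ N) (ψ : N ⟶ P) :
    (φ ≫ ψ).val.app (op X) = φ.val.app (op X) ≫ ψ.val.app (op X) := rfl

variable (X) in
/-- The unit section. -/
def one' : (ModSite.unit O).val.obj (op X) := (1 : (ModSite.ringSh O).obj.obj (op X))

include hX in
theorem unit_hom_ext {M : ModSite.Mod O} {a b : ModSite.unit O ⟶ M}
    (h : a.val.app (op X) (one' O X) = b.val.app (op X) (one' O X)) : a = b := by
  refine M.unitHomEquiv.injective (Subtype.ext (funext fun V => ?_))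
  exact (((M.unitHomEquiv a).2 (hX.from V.unop).op).symm.trans
    (congrArg (M.val.map (hX.from V.unop).op) h)).trans ((M.unitHomEquiv b).2 (hX.from V.unop).op)

include hX in
theorem exists_unit_hom {M : ModSite.Mod O} (m : M.val.obj (op X)) :
    ∃ a : ModSite.unit O ⟶ M, a.val.app (op X) (one' O X) = m := by
  let s : M.sections := ⟨fun V => M.val.map (hX.from V.unop).op m, fun {V W} g =>
    (PresheafOfModules.map_comp_apply M.val _ g m).symm.trans
      (PresheafOfModules.congr_map_apply M.val (Quiver.Hom.unop_inj (hX.hom_ext _ _)) m)⟩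
  refine ⟨M.unitHomEquiv.symm s, ?_⟩
  have h : M.unitHomEquiv (M.unitHomEquiv.symm s) = s := M.unitHomEquiv.apply_symm_apply s
  refine (congrArg (fun t : M.sections => t.val (op X)) h).trans ?_
  show M.val.map (hX.from X).op m = m
  rw [show hX.from X = 𝟙 X from hX.hom_ext _ _, op_id]
  exact (ConcreteCategory.congr_hom (M.val.map_id _) m).trans rfl

variable {n : ℕ}

/-- The free module. -/
noncomputable abbrev Fr (n : ℕ) : ModSite.Mod O :=
  SheafOfModules.free (R := ModSite.ringSh O) (ULift.{u} (Fin n))

/-- Coordinates. -/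
noncomputable def co (i : ULift.{u} (Fin n)) : Fr O n ⟶ ModSite.unit O :=
  Sigma.desc fun j => if j = i then 𝟙 _ else 0

theorem ι_co (i j : ULift.{u} (Fin n)) :
    SheafOfModules.ιFree (R := ModSite.ringSh O) j ≫ co O i = if j = i then 𝟙 _ else 0 :=
  Sigma.ι_desc (fun j => if j = i then 𝟙 (ModSite.unit O) else 0) j

theorem co_total : ∑ i, co O (n := n) i ≫ SheafOfModules.ιFree (R := ModSite.ringSh O) i = 𝟙 (Fr O n) := by
  refine Sigma.hom_ext _ _ fun j => ?_
  show SheafOfModules.ιFree j ≫ _ = SheafOfModules.ιFree j ≫ _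
  rw [Preadditive.comp_sum, Category.comp_id, Finset.sum_eq_single j]
  · rw [← Category.assoc, ι_co, if_pos rfl, Category.id_comp]
  · intro i _ hi
    rw [← Category.assoc, ι_co, if_neg (Ne.symm hi), zero_comp]
  · simp

variable (X) in
/-- Generators. -/
noncomputable def gen (i : ULift.{u} (Fin n)) : (Fr O n).val.obj (op X) :=
  (SheafOfModules.ιFree (R := ModSite.ringSh O) i).val.app (op X) (one' O X)

theorem decomp (x : (Fr O n).val.obj (op X)) :
    ∃ c : ULift.{u} (Fin n) → (ModSite.ringSh O).obj.obj (op X), x = ∑ i, c i • gen O X i := by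
  refine ⟨fun i => (co O i).val.app (op X) x, ?_⟩
  have h := congrArg (fun a => (evH O (X := X) (Fr O n) (Fr O n) a).hom x) (co_total O (n := n))
  simp only [map_sum, ModuleCat.hom_sum, LinearMap.sum_apply] at h
  refine h.symm.trans (Finset.sum_congr rfl fun i _ => ?_)
  let r : (ModSite.ringSh O).obj.obj (op X) := (co O i).val.app (op X) x
  exact (congrArg ((SheafOfModules.ιFree (R := ModSite.ringSh O) i).val.app (op X))
      (show ((co O i).val.app (op X) x : (ModSite.unit O).val.obj (op X)) = r • one' O X from (mul_one r).symm)).trans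
    (LinearMap.map_smul ((SheafOfModules.ιFree (R := ModSite.ringSh O) i).val.app (op X)).hom _ (one' O X))

theorem finite_projective_free :
    Module.Finite ((ModSite.ringSh O).obj.obj (op X)) ((Fr O n).val.obj (op X)) ∧
      Module.Projective ((ModSite.ringSh O).obj.obj (op X)) ((Fr O n).val.obj (op X)) ∧
      Nonempty ((ULift.{u} (Fin n) → (ModSite.ringSh O).obj.obj (op X)) ≃ₗ[(ModSite.ringSh O).obj.obj (op X)]
        (Fr O n).val.obj (op X)) := by
  classical
  let L := Fintype.linearCombination ((ModSite.ringSh O).obj.obj (op X)) (gen O X (n := n))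
  have hs : Function.Surjective L := fun x => by
    obtain ⟨c, hc⟩ := decomp O x
    exact ⟨c, (Fintype.linearCombination_apply _ _ c).trans hc.symm⟩
  have hi : Function.Injective L := by
    refine (injective_iff_map_eq_zero L).2 fun c hc => funext fun j => ?_
    have h := congrArg ((co O j).val.app (op X)).hom ((Fintype.linearCombination_apply _ _ c).symm.trans hc)
    rw [map_sum, map_zero, Finset.sum_eq_single j] at h
    · rw [map_smul] at h
      have e : (co O j).val.app (op X) (gen O X j) = one' O X :=
        ConcreteCategory.congr_hom (congrArg (fun a => (evH O (X := X) _ _ a)) ((ι_co O j j).trans (if_pos rfl))) _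
      refine Eq.trans ?_ h
      exact ((congrArg (fun t => c j • t) e).trans (mul_one (c j))).symm
    · intro i _ hij
      rw [map_smul]
      have e : (co O j).val.app (op X) (gen O X i) = 0 :=
        ConcreteCategory.congr_hom (congrArg (fun a => (evH O (X := X) _ _ a)) ((ι_co O j i).trans (if_neg hij))) _
      exact (congrArg (fun t => c i • t) e).trans (smul_zero _)
    · simp
  let e := LinearEquiv.ofBijective L ⟨hi, hs⟩
  exact ⟨Module.Finite.equiv e, Module.Projective.of_equiv e, ⟨e⟩⟩

include hX in
theorem free_bijective (M : ModSite.Mod O) :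
    Function.Bijective (fun φ : Fr O n ⟶ M => φ.val.app (op X)) := by
  constructor
  · intro a b h
    exact Sigma.hom_ext _ _ fun i => unit_hom_ext O hX (ConcreteCategory.congr_hom h (gen O X i))
  · intro l
    choose a ha using fun i => exists_unit_hom O hX (l (gen O X (n := n) i))
    refine ⟨Sigma.desc a, ModuleCat.hom_ext (LinearMap.ext fun x => ?_)⟩
    obtain ⟨c, rfl⟩ := decomp O x
    rw [map_sum, map_sum]
    refine Finset.sum_congr rfl fun i _ => ?_
    rw [map_smul, map_smul]
    refine congrArg _ ?_
    exact (ConcreteCategory.congr_hom (congrArg (fun a => evH O (X := X) _ _ a) (Sigma.ι_desc a i)) (one' O X)).trans (ha i)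

end

/-- Let (C, O) be a ringed site with a final object X and R = Γ(C, O) = O(X). Global sections give an
equivalence between the category of O-modules that are direct summands of finite free O-modules and
the category of finite projective R-modules: the functor E ↦ E(X) is fully faithful on such modules,
lands in finite projective R-modules, and every finite projective R-module arises. (The published
statement allows a site without final object, with Γ(C, -) the sections over the final presheaf;
this row assumes a final object X, so that Γ(C, E) = E(X).) -/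
theorem result
    {C : Type u} [SmallCategory C] {J : GrothendieckTopology C} (O : Sheaf J CommRingCat.{u})
    (X : C) (hX : IsTerminal X) :
    (∀ E E' : ModSite.Mod O, DCoh.IsFinFreeSummandMod (ModSite.ringSh O) E →
        DCoh.IsFinFreeSummandMod (ModSite.ringSh O) E' →
        Function.Bijective (fun φ : E ⟶ E' => φ.val.app (op X))) ∧
    (∀ E : ModSite.Mod O, DCoh.IsFinFreeSummandMod (ModSite.ringSh O) E →
        Module.Finite ((ModSite.ringSh O).obj.obj (op X)) (E.val.obj (op X)) ∧
        Module.Projective ((ModSite.ringSh O).obj.obj (op X)) (E.val.obj (op X))) ∧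
    (∀ M : ModuleCat.{u} ((ModSite.ringSh O).obj.obj (op X)),
        Module.Finite ((ModSite.ringSh O).obj.obj (op X)) M →
        Module.Projective ((ModSite.ringSh O).obj.obj (op X)) M →
        ∃ E : ModSite.Mod O, DCoh.IsFinFreeSummandMod (ModSite.ringSh O) E ∧ Nonempty (E.val.obj (op X) ≅ M)) := by
  refine ⟨?_, ?_, ?_⟩
  · rintro E E' ⟨n, i, p, hip⟩ -
    constructor
    · intro a b h
      have h' : p ≫ a = p ≫ b := (free_bijective O hX E').1 (congrArg (p.val.app (op X) ≫ ·) h)
      simpa [reassoc_of% hip] using congrArg (i ≫ ·) h'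
    · intro l
      obtain ⟨f, hf⟩ := (free_bijective O hX (n := n) E').2 (p.val.app (op X) ≫ l)
      refine ⟨i ≫ f, ?_⟩
      refine (congrArg (i.val.app (op X) ≫ ·) hf).trans ?_
      refine (Category.assoc _ _ _).symm.trans ?_
      exact (congrArg (· ≫ l) (congrArg (evH O (X := X) _ _) hip)).trans (Category.id_comp l)
  · rintro E ⟨n, i, p, hip⟩
    obtain ⟨hf, hp, -⟩ := finite_projective_free O (X := X) (n := n)
    have hsec : (p.val.app (op X)).hom ∘ₗ (i.val.app (op X)).hom = LinearMap.id :=
      congrArg ModuleCat.Hom.hom (congrArg (evH O (X := X) _ _) hip)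
    exact ⟨Module.Finite.of_surjective (p.val.app (op X)).hom
        (fun x => ⟨i.val.app (op X) x, LinearMap.congr_fun hsec x⟩),
      Module.Projective.of_split (i.val.app (op X)).hom (p.val.app (op X)).hom hsec⟩
  · intro M hfin hproj
    obtain ⟨n, f, g, -, -, hfg⟩ := Module.Finite.exists_comp_eq_id_of_projective ((ModSite.ringSh O).obj.obj (op X)) M
    obtain ⟨-, -, ⟨e⟩⟩ := finite_projective_free O (X := X) (n := n)
    let e' := (LinearEquiv.funCongrLeft _ _ Equiv.ulift.{u}).trans e
    let q : (Fr O n).val.obj (op X) ⟶ M := ModuleCat.ofHom (f ∘ₗ e'.symm.toLinearMap)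
    let j : M ⟶ (Fr O n).val.obj (op X) := ModuleCat.ofHom (e'.toLinearMap ∘ₗ g)
    have hjq : j ≫ q = 𝟙 M := ModuleCat.hom_ext (LinearMap.ext fun x => by
      show f (e'.symm (e' (g x))) = x
      rw [e'.symm_apply_apply]
      exact LinearMap.congr_fun hfg x)
    obtain ⟨a, ha⟩ := (free_bijective O hX (n := n) (Fr O n)).2 (q ≫ j)
    have haa : a ≫ a = a := (free_bijective O hX (Fr O n)).1 (by
      show a.val.app (op X) ≫ a.val.app (op X) = a.val.app (op X)
      rw [show a.val.app (op X) = q ≫ j from ha, Category.assoc, reassoc_of% hjq])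
    obtain ⟨E, i, p, hip, hpi⟩ := CategoryTheory.IsIdempotentComplete.idempotents_split (Fr O n) a haa
    refine ⟨E, ⟨n, i, p, hip⟩, ⟨⟨i.val.app (op X) ≫ q, j ≫ p.val.app (op X), ?_, ?_⟩⟩⟩
    · have h : p.val.app (op X) ≫ i.val.app (op X) = q ≫ j := (congrArg (evH O (X := X) _ _) hpi).trans ha
      have h2 : i.val.app (op X) ≫ p.val.app (op X) = 𝟙 _ := congrArg (evH O (X := X) _ _) hip
      rw [Category.assoc, ← reassoc_of% h, h2]
      exact (congrArg (_ ≫ ·) (Category.comp_id _)).trans h2
    · have h : p.val.app (op X) ≫ i.val.app (op X) = q ≫ j := (congrArg (evH O (X := X) _ _) hpi).trans ha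
      rw [Category.assoc, reassoc_of% h, hjq, Category.comp_id, hjq]

end Groth.Agent.S9049
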