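import Groth.Statements.S9060
import Groth.Agent.ModSiteLib.KFlatBounded
-- import your own Groth.Agent.* helpers here

set_option autoImplicit false
set_option linter.style.haveILetI false
universe u
open CategoryTheory CategoryTheory.Limits Opposite
attribute [local instance] HasDerivedCategory.standard
open ModSite

namespace Groth.Agent.S9060

/-- On a ringed site (C, O), for every complex G of O-modules there are a K-flat complex K with flat
terms and a quasi-isomorphism K → G which is surjective in every degree. -/
theorem result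
    {C : Type u} [SmallCategory C] {J : GrothendieckTopology C} (O : Sheaf J CommRingCat.{u})
    (G : CochainComplex (ModSite.Mod O) ℤ) :
    ∃ (K : CochainComplex (ModSite.Mod O) ℤ) (q : K ⟶ G), ModSite.IsKFlat K ∧
      (∀ n : ℤ, ModSite.IsFlat (K.X n)) ∧ QuasiIso q ∧ ∀ n : ℤ, Epi (q.f n) := by
  letI := HasZeroObject.zero' (CochainComplex (ModSite.Mod O) ℤ)
  let Z : CochainComplex (ModSite.Mod O) ℤ := 0
  let f : Z ⟶ G := 0
  have hz : ∀ n, IsZero (Z.X n) := fun n =>
    (HomologicalComplex.eval (ModSite.Mod O) (ComplexShape.up ℤ) n).map_isZero (isZero_zero _)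
  refine ⟨FreeResLib.mid (FreeResLib.siteCov O) f, FreeResLib.midπ _ f, ?_, ?_,
    FreeResLib.quasiIso_midπ _ f, FreeResLib.epi_midπ _ f⟩
  · refine _root_.ModSiteLib.isKFlat_mid f (_root_.ModSiteLib.isKFlat_of_isZero (isZero_zero _))
  · exact fun n => _root_.ModSiteLib.isFlat_mid f (fun m => _root_.ModSiteLib.isFlat_of_isZero (hz m)) n

end Groth.Agent.S9060
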