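import Groth.Statements.S9064
import Groth.Agent.ModCohLib.Rlim
-- import your own Groth.Agent.* helpers here

set_option autoImplicit false
set_option linter.style.haveILetI false
universe u
open CategoryTheory CategoryTheory.Limits Opposite
attribute [local instance] HasDerivedCategory.standard
open ModSite

namespace Groth.Agent.S9064

/-- Let (C, O) be a ringed site, A ⊂ Mod(O) a weak Serre subcategory and B a set of objects such that
every object has a covering by members of B and every V ∈ B has an integer d_V and a cofinal system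
of coverings {V_i → V} with H^p(V_i, F) = 0 for all F ∈ A and p > d_V. Let (K_n) be an inverse
system in D^+_A(O) such that for every j the system (H^j(K_n))_n is eventually constant, with value
H^j say. Then H^j(R lim K_n) = H^j: for a derived limit L of (K_n) through maps a_n : L → K_n, each
H^j(a_n) is an isomorphism for n large. Cofinality is expressed by asking every covering sieve of V
to contain such a covering family; H^p(V, -) of a module is the cohomology of its underlying abelian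
sheaf; the product of the K_n is an instance hypothesis. -/
theorem result
    {C : Type u} [SmallCategory C] {J : GrothendieckTopology C} (O : Sheaf J CommRingCat.{u})
    (A : ObjectProperty (ModSite.Mod O)) [WSerre.IsWeakSerre A] (B : Set C)
    (hB : ∀ U : C, ∃ (ι : Type u) (Y : ι → C) (g : ∀ i, Y i ⟶ U), Sieve.ofArrows Y g ∈ J U ∧ ∀ i, Y i ∈ B)
    (hA : ∀ V ∈ B, ∃ d : ℕ, ∀ T ∈ J V, ∃ (ι : Type u) (Y : ι → C) (g : ∀ i, Y i ⟶ V),
      (∀ i, T.arrows (g i)) ∧ Sieve.ofArrows Y g ∈ J V ∧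
      ∀ (i : ι) (F : ModSite.Mod O), A F → ∀ k : ℕ, d < k → Subsingleton (ModSite.HU O F k (Y i)))
    (K : ℕ → DerivedCategory (ModSite.Mod O)) (t : ∀ n, K (n + 1) ⟶ K n) [HasProduct K]
    (hK : ∀ n, WSerre.cohInPlus A (K n))
    (hconst : ∀ j : ℤ, ∃ n₀ : ℕ, ∀ n, n₀ ≤ n →
      IsIso ((DerivedCategory.homologyFunctor (ModSite.Mod O) j).map (t n)))
    (L : DerivedCategory (ModSite.Mod O)) (a : ∀ n, L ⟶ K n) (hL : CohCx.IsRlimVia K t L a) (j : ℤ) :
    ∃ n₀ : ℕ, ∀ n, n₀ ≤ n → IsIso ((DerivedCategory.homologyFunctor (ModSite.Mod O) j).map (a n)) := by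
  choose f hf using hconst
  refine ⟨f j, ModCohLib.isIso_homology_rlim B hB K t L a hL j (f j) (hf j) fun V hV => ?_⟩
  obtain ⟨d, hd⟩ := hA V hV
  refine ⟨(Finset.Icc (j - 1 - d) (j + 1)).sup f, fun T hT => ?_⟩
  obtain ⟨ι, Y, g, h₁, h₂, h₃⟩ := hd T hT
  refine ⟨ι, Y, g, h₁, h₂, fun i n hn => ?_⟩
  obtain ⟨Z, φ, ψ, hT'⟩ := Pretriangulated.distinguished_cocone_triangle (t n)
  obtain ⟨b₁, hb₁⟩ := (hK (n + 1)).2
  obtain ⟨b₂, hb₂⟩ := (hK n).2
  haveI : (K (n + 1)).IsGE b₁ := hb₁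
  haveI : (K n).IsGE b₂ := hb₂
  haveI : (K (n + 1)).IsGE (min b₁ b₂) :=
    DerivedCategory.TStructure.t.isGE_of_ge _ (min b₁ b₂) b₁ (min_le_left _ _)
  haveI : (K n).IsGE (min b₁ b₂) :=
    DerivedCategory.TStructure.t.isGE_of_ge _ (min b₁ b₂) b₂ (min_le_right _ _)
  haveI : Z.IsGE (min b₁ b₂ - 1) :=
    @ModCohLib.isGE_obj₃ _ _ _ _ _ (Pretriangulated.Triangle.mk (t n) φ ψ) hT' (min b₁ b₂) ‹_› ‹_›
  have hZ : WSerre.cohIn A Z :=
    DerLib.WeakSerreTri.cohIn_obj₂ A _ (Pretriangulated.rot_of_distTriang _ hT') (hK n).1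
      (DerLib.WeakSerreTri.cohIn_shift A _ 1 (hK (n + 1)).1)
  have key : ∀ j', j - 1 ≤ j' → j' ≤ j → ∀ x : ModCohLib.dgen O (Y i) j' ⟶ Z, x = 0 := by
    intro j' h0 h1
    refine ModCohLib.dgen_hom_eq_zero (Y i) j' (min b₁ b₂ - 1) Z fun m k hk => ?_
    by_cases hkd : d < k
    · exact h₃ i _ (hZ m) k hkd
    refine ModCohLib.subsingleton_HU_of_isZero ?_ _ _
    have hiso : ∀ q, j - 1 - (d : ℤ) ≤ q → q ≤ j + 1 →
        IsIso ((DerivedCategory.homologyFunctor (ModSite.Mod O) q).map (t n)) := fun q q₁ q₂ =>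
      hf q n ((Finset.le_sup (f := f) (Finset.mem_Icc.2 ⟨q₁, q₂⟩)).trans hn)
    exact @ModCohLib.isZero_homology_obj₃ _ _ _ _ _ (Pretriangulated.Triangle.mk (t n) φ ψ) hT' m
      (hiso m (by omega) (by omega)) (hiso (m + 1) (by omega) (by omega))
  exact ModCohLib.genBij_of_triangle (Pretriangulated.Triangle.mk (t n) φ ψ) hT' (Y i) j
    (key j (by omega) le_rfl) (key (j - 1) le_rfl (by omega))

end Groth.Agent.S9064
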