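import Groth.Statements.S9069
import Groth.Agent.DerLib.Amplitude
import Groth.Agent.DerLib.WeakSerreTri
import Groth.Agent.DerLib.KInjEnough
import Groth.Agent.ModSiteLib.Grothendieck
import Mathlib.CategoryTheory.Triangulated.Adjunction
-- import your own Groth.Agent.* helpers here

set_option autoImplicit false
set_option linter.style.haveILetI false
universe u
open CategoryTheory CategoryTheory.Limits Opposite
attribute [local instance] HasDerivedCategory.standard
open SiteCmp

namespace Groth.Agent.S9069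

/-- Let f be a flat morphism from the ringed site (C, O_C) to the ringed site (D, O_D) and A ⊂ Mod(O_C),
A' ⊂ Mod(O_D) weak Serre subcategories such that f^* induces an equivalence of categories A' → A and
F' → Rf_*f^*F' is an isomorphism for every F' ∈ A'. Then f^* : D^+_{A'}(O_D) → D^+_A(O_C) is an
equivalence with quasi-inverse Rf_*: on bounded below objects with cohomology sheaves in A' (resp.
A) the functor f^* (resp. Rf_*) lands in bounded below objects with cohomology sheaves in A (resp.
A'), and the unit (resp. counit) of the adjunction is an isomorphism there. The adjunction f^* ⊣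
Rf_* on unbounded derived categories is a hypothesis; f^* is exact, so it is its own derived
functor. Stated for ringed sites; the published statement is for ringed topoi. -/
theorem result
    {C : Type u} [SmallCategory C] {J : GrothendieckTopology C} {O_C : Sheaf J CommRingCat.{u}}
    {D : Type u} [SmallCategory D] {K : GrothendieckTopology D} {O_D : Sheaf K CommRingCat.{u}}
    (f : ModSite.RMor O_C O_D) [PreservesFiniteLimits f.pull] [SiteCmp.HasRpushD f]
    (adj : SiteCmp.pullD f ⊣ SiteCmp.RpushD f)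
    (A : ObjectProperty (ModSite.Mod O_C)) [WSerre.IsWeakSerre A]
    (A' : ObjectProperty (ModSite.Mod O_D)) [WSerre.IsWeakSerre A']
    (h2a : ∀ F' : ModSite.Mod O_D, A' F' → A (f.pull.obj F'))
    (h2b : ∀ F' G' : ModSite.Mod O_D, A' F' → A' G' →
      Function.Bijective (fun φ : F' ⟶ G' => f.pull.map φ))
    (h2c : ∀ F : ModSite.Mod O_C, A F → ∃ F' : ModSite.Mod O_D, A' F' ∧ Nonempty (f.pull.obj F' ≅ F))
    (h3 : ∀ F' : ModSite.Mod O_D, A' F' → IsIso (adj.unit.app (SiteCmp.inD O_D F'))) :
    (∀ Y : DerivedCategory (ModSite.Mod O_D), WSerre.cohInPlus A' Y →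
      WSerre.cohInPlus A ((SiteCmp.pullD f).obj Y) ∧ IsIso (adj.unit.app Y)) ∧
    (∀ X : DerivedCategory (ModSite.Mod O_C), WSerre.cohInPlus A X →
      WSerre.cohInPlus A' ((SiteCmp.RpushD f).obj X) ∧ IsIso (adj.counit.app X)) := by
  letI := adj.rightAdjointCommShift ℤ
  haveI : adj.CommShift ℤ := adj.commShift_of_leftAdjoint ℤ
  haveI : (SiteCmp.RpushD f).IsTriangulated := adj.isTriangulated_rightAdjoint
  have hp := Groth.Agent.DerLib.Amplitude.leftBound_mapDerivedCategory f.pull
  have hr := Groth.Agent.DerLib.Amplitude.leftBound_rightDerived f.push (SiteCmp.RpushD f)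
    ((SiteCmp.pushKh f).totalRightDerivedUnit DerivedCategory.Qh
      (HomotopyCategory.quasiIso (ModSite.Mod O_C) (ComplexShape.up ℤ)))
    (Groth.Agent.DerLib.KInjDerived.enoughKInj _)
  refine ⟨fun Y hY => ?_, fun X hX => ?_⟩
  · obtain ⟨hcoh, n₀, hn⟩ := hY
    haveI : Y.IsGE n₀ := hn
    refine ⟨⟨Groth.Agent.DerLib.WeakSerreTri.cohIn_of_isGE A' A (SiteCmp.pullD f) hp
        (fun M hM => Groth.Agent.DerLib.WeakSerreTri.cohIn_of_iso A
          ((f.pull.mapDerivedCategorySingleFunctor 0).app M).symm
          (Groth.Agent.DerLib.WeakSerreTri.cohIn_single A 0 _ (h2a M hM))) Y n₀ hcoh,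
        n₀, Groth.Agent.DerLib.Devissage.isGE_of_leftBound hp Y n₀⟩, ?_⟩
    exact Groth.Agent.DerLib.Devissage.isIso_app_of_isGE adj.unit 0
      Groth.Agent.DerLib.Devissage.leftBound_id (Groth.Agent.DerLib.Devissage.leftBound_comp hp hr)
      Y n₀ (fun q => h3 _ (hcoh q))
  · obtain ⟨hcoh, n₀, hn⟩ := hX
    haveI : X.IsGE n₀ := hn
    have key : ∀ M : ModSite.Mod O_C, A M →
        IsIso (adj.counit.app (SiteCmp.inD O_C M)) ∧
          WSerre.cohIn A' ((SiteCmp.RpushD f).obj (SiteCmp.inD O_C M)) := by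
      intro M hM
      obtain ⟨M', hM', ⟨e⟩⟩ := h2c M hM
      let e' : (SiteCmp.pullD f).obj (SiteCmp.inD O_D M') ≅ SiteCmp.inD O_C M :=
        (f.pull.mapDerivedCategorySingleFunctor 0).app M' ≪≫
          (DerivedCategory.singleFunctor _ 0).mapIso e
      haveI := h3 M' hM'
      refine ⟨(NatTrans.isIso_app_iff_of_iso adj.counit e').1 ?_,
        Groth.Agent.DerLib.WeakSerreTri.cohIn_of_iso A'
          (asIso (adj.unit.app (SiteCmp.inD O_D M')) ≪≫ (SiteCmp.RpushD f).mapIso e')
          (Groth.Agent.DerLib.WeakSerreTri.cohIn_single A' 0 _ hM')⟩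
      exact IsIso.of_isIso_fac_left (adj.left_triangle_components (SiteCmp.inD O_D M'))
    refine ⟨⟨Groth.Agent.DerLib.WeakSerreTri.cohIn_of_isGE A A' (SiteCmp.RpushD f) hr
        (fun M hM => (key M hM).2) X n₀ hcoh,
        n₀, Groth.Agent.DerLib.Devissage.isGE_of_leftBound hr X n₀⟩, ?_⟩
    exact Groth.Agent.DerLib.Devissage.isIso_app_of_isGE adj.counit 0
      (Groth.Agent.DerLib.Devissage.leftBound_comp hr hp) Groth.Agent.DerLib.Devissage.leftBound_id
      X n₀ (fun q => (key _ (hcoh q)).1)

end Groth.Agent.S9069
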