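import Groth.Statements.S9076
import Groth.Agent.ModCohLib.Leray
import Groth.Agent.ModCohLib.Push
import Groth.Agent.FreeResLib.Adjoint
import Groth.Agent.FreeResLib.Site
-- import your own Groth.Agent.* helpers here

set_option autoImplicit false
set_option linter.style.haveILetI false
universe u
open CategoryTheory CategoryTheory.Limits Opposite
attribute [local instance] HasDerivedCategory.standard
open SiteCmp

namespace Groth.Agent.S9076

/-- For a morphism f from the ringed site (C, O_C) to the ringed site (D, O_D), Rf_* commutes with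
derived limits: if L = R lim K_n in D(O_C) through maps a_n : L → K_n, then Rf_*L = R lim Rf_*K_n
through the maps Rf_*a_n. Rf_* is the unbounded total derived direct image under its existence
binder; the products of the two systems are instance hypotheses. Stated for ringed sites; the
published statement is for ringed topoi. -/
theorem result
    {C : Type u} [SmallCategory C] {J : GrothendieckTopology C} {O_C : Sheaf J CommRingCat.{u}}
    {D : Type u} [SmallCategory D] {K : GrothendieckTopology D} {O_D : Sheaf K CommRingCat.{u}}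
    (f : ModSite.RMor O_C O_D) [SiteCmp.HasRpushD f]
    (E : ℕ → DerivedCategory (ModSite.Mod O_C)) (t : ∀ n, E (n + 1) ⟶ E n) [HasProduct E]
    (L : DerivedCategory (ModSite.Mod O_C)) (a : ∀ n, L ⟶ E n) (hL : CohCx.IsRlimVia E t L a)
    [HasProduct fun n => (SiteCmp.RpushD f).obj (E n)] :
    CohCx.IsRlimVia (fun n => (SiteCmp.RpushD f).obj (E n)) (fun n => (SiteCmp.RpushD f).map (t n))
      ((SiteCmp.RpushD f).obj L) (fun n => (SiteCmp.RpushD f).map (a n)) := by

  have hA := DerLib.KInjDerived.enoughKInj (ModSite.Mod O_C)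
  let RF := SiteCmp.RpushD f
  let α := (SiteCmp.pushKh f).totalRightDerivedUnit DerivedCategory.Qh
    (HomotopyCategory.quasiIso (ModSite.Mod O_C) (ComplexShape.up ℤ))
  haveI : HasInjectiveResolutions (ModSite.Mod O_C) := inferInstance
  haveI : HasExt.{u} (ModSite.Mod O_D) := hasExt_of_enoughInjectives.{u} _
  obtain ⟨_, _⟩ := DerLib.KInjDerived.exists_isTriangulated_map hA f.push RF α
  let adj : f.pull ⊣ f.push := SheafOfModules.pullbackPushforwardAdjunction f.sharpR
  haveI : f.pull.Additive := adj.left_adjoint_additive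
  have hR : ∀ (Q : ModSite.Mod O_C) [Injective Q],
      FreeResLib.IsAcy.{u} (FreeResLib.siteCov O_D) (f.push.obj Q) := fun Q _ Y q => by
    obtain ⟨e⟩ := ModCohLib.nonempty_ext_freeOn_iso_HU (O := O_D) (f.push.obj Q) Y (q + 1)
    haveI := ModCohLib.subsingleton_HU_push_injective_mod.{max u (u+1)} f Q Y q
    exact e.toEquiv.subsingleton
  obtain ⟨c₀, hc⟩ := hL
  let cmp : RF.obj (∏ᶜ E) ⟶ ∏ᶜ fun n => RF.obj (E n) := Pi.lift fun n => RF.map (Pi.π E n)
  haveI hcmp : IsIso cmp := by
    rw [DerivedCategory.isIso_iff]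
    intro j
    refine ModCohLib.isIso_of_locally cmp j fun U => ⟨PUnit, fun _ => U, fun _ => 𝟙 U, ?_, fun _ =>
      ⟨_, cmp, 𝟙 _, (Category.comp_id _).symm, by rw [CategoryTheory.Functor.map_id]; infer_instance, ?_⟩⟩
    · convert K.top_mem U
      ext Y q
      simp only [Sieve.top_apply, iff_true]
      exact ⟨_, q, 𝟙 U, ⟨PUnit.unit⟩, Category.comp_id q⟩
    refine ModCohLib.cofinalCover_of_forall K Set.univ (fun V => ⟨PUnit, fun _ => V, fun _ => 𝟙 V, ?_,
      fun _ => Set.mem_univ _⟩) (fun Y _ => ?_) _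
    · convert K.top_mem V
      ext Z q
      simp only [Sieve.top_apply, iff_true]
      exact ⟨_, q, 𝟙 V, ⟨PUnit.unit⟩, Category.comp_id q⟩
    let G : CochainComplex (ModSite.Mod O_D) ℤ :=
      (CochainComplex.singleFunctor (ModSite.Mod O_D) j).obj (ModSite.freeOn O_D Y)
    have hG : ∀ n, FreeResLib.IsSum (FreeResLib.siteCov O_D) (G.X n) := fun n => by
      by_cases hn : n = j
      · subst hn
        refine FreeResLib.IsSum.of_iso _ (HomologicalComplex.singleObjXSelf (ComplexShape.up ℤ) n
          (ModSite.freeOn O_D Y)).symm ⟨PUnit, fun _ => Y, ⟨?_⟩⟩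
        exact { hom := Sigma.ι (fun _ : PUnit => ModSite.freeOn O_D Y) PUnit.unit
                inv := Sigma.desc fun _ => 𝟙 _
                hom_inv_id := Sigma.ι_desc _ _
                inv_hom_id := Sigma.hom_ext _ _ fun t => by
                  obtain ⟨⟩ := t
                  refine (Sigma.ι_desc_assoc _ _ _).trans ?_
                  exact (Category.id_comp _).trans (Category.comp_id _).symm }
      · exact FreeResLib.isSum_of_isZero _
          (HomologicalComplex.isZero_single_obj_X (ComplexShape.up ℤ) j (ModSite.freeOn O_D Y) n hn)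
    haveI : G.IsStrictlyLE j := inferInstance
    let θ := FreeResLib.theta adj RF α G
    have hb := fun X => FreeResLib.theta_bijective adj hR RF α hA G hG j X
    show Function.Bijective fun x : DerivedCategory.Qh.obj (FreeResLib.qA G) ⟶ RF.obj (∏ᶜ E) => x ≫ cmp
    refine ⟨fun x x' h => ?_, fun y => ?_⟩
    · obtain ⟨z, rfl⟩ := (hb _).2 x
      obtain ⟨z', rfl⟩ := (hb _).2 x'
      refine congrArg (fun t => θ ≫ RF.map t) (Limits.Pi.hom_ext _ _ fun n => (hb _).1 ?_)
      have hn := congrArg (· ≫ Pi.π (fun n => RF.obj (E n)) n) h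
      simpa [cmp, θ] using hn
    · choose z hz using fun n => (hb (E n)).2 (y ≫ Pi.π (fun n => RF.obj (E n)) n)
      refine ⟨θ ≫ RF.map (Pi.lift z), Limits.Pi.hom_ext _ _ fun n => ?_⟩
      have := hz n
      simpa [cmp, θ, ← Functor.map_comp] using this
  refine ⟨inv cmp ≫ RF.map c₀ ≫ (RF.commShiftIso (1 : ℤ)).hom.app L, ?_⟩
  have e₁ : RF.map (Pi.lift a) ≫ cmp = Pi.lift fun n => RF.map (a n) :=
    Limits.Pi.hom_ext _ _ fun n => by simp [cmp, ← Functor.map_comp]
  have e₂ : RF.map (Pi.lift fun n => Pi.π E n - Pi.π E (n + 1) ≫ t n) ≫ cmp = cmp ≫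
      Pi.lift fun n => Pi.π (fun n => RF.obj (E n)) n - Pi.π (fun n => RF.obj (E n)) (n + 1) ≫ RF.map (t n) :=
    Limits.Pi.hom_ext _ _ fun n => by simp [cmp, ← Functor.map_comp]
  refine Pretriangulated.isomorphic_distinguished _ (RF.map_distinguished _ hc) _
    (Pretriangulated.Triangle.isoMk _ _ (Iso.refl _) (asIso cmp).symm (asIso cmp).symm ?_ ?_ ?_)
  · show (Pi.lift fun n => RF.map (a n)) ≫ inv cmp = 𝟙 _ ≫ RF.map (Pi.lift a)
    rw [Category.id_comp, IsIso.comp_inv_eq, e₁]
  · show (Pi.lift fun n => Pi.π (fun n => RF.obj (E n)) n - Pi.π (fun n => RF.obj (E n)) (n + 1) ≫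
      RF.map (t n)) ≫ inv cmp = inv cmp ≫ RF.map (Pi.lift fun n => Pi.π E n - Pi.π E (n + 1) ≫ t n)
    rw [IsIso.comp_inv_eq, Category.assoc, IsIso.eq_inv_comp, e₂]
  · show (inv cmp ≫ RF.map c₀ ≫ (RF.commShiftIso (1 : ℤ)).hom.app L) ≫ (𝟙 (RF.obj L))⟦(1 : ℤ)⟧' = _
    rw [CategoryTheory.Functor.map_id]
    exact (Category.comp_id _).trans rfl

end Groth.Agent.S9076
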