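import Groth.Statements.S9078
import Groth.Agent.FreeResLib.Site
-- import your own Groth.Agent.* helpers here

set_option autoImplicit false
set_option linter.style.haveILetI false
set_option backward.isDefEq.respectTransparency false
universe u
open CategoryTheory CategoryTheory.Limits Opposite
attribute [local instance] HasDerivedCategory.standard
open ModSite

namespace Groth.Agent.S9078

open scoped ZeroObject

open Groth.Agent.FreeResLib in
/-- The stages of the resolution. -/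
structure Res {C : Type u} [SmallCategory C] {J : GrothendieckTopology C} {O : Sheaf J CommRingCat.{u}}
    (G : CochainComplex (ModSite.Mod O) ℤ) (n : ℕ) where
  /-- the complex -/
  K : CochainComplex (ModSite.Mod O) ℤ
  /-- the map -/
  π : K ⟶ G.truncLE ((n : ℤ) + 1)

variable {C : Type u} [SmallCategory C] {J : GrothendieckTopology C} {O : Sheaf J CommRingCat.{u}}
  (G : CochainComplex (ModSite.Mod O) ℤ)

/-- The inclusion of truncations. -/
noncomputable def incl (n : ℕ) :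
    G.truncLE ((n : ℤ) + 1) ⟶ G.truncLE (((n + 1 : ℕ) : ℤ) + 1) :=
  haveI : (G.truncLE ((n : ℤ) + 1)).IsStrictlyLE (((n + 1 : ℕ) : ℤ) + 1) :=
    (G.truncLE ((n : ℤ) + 1)).isStrictlyLE_of_le ((n : ℤ) + 1) _ (by omega)
  inv ((G.truncLE ((n : ℤ) + 1)).ιTruncLE (((n + 1 : ℕ) : ℤ) + 1)) ≫
    CochainComplex.truncLEMap (G.ιTruncLE ((n : ℤ) + 1)) _

theorem incl_ι (n : ℕ) :
    incl G n ≫ G.ιTruncLE (((n + 1 : ℕ) : ℤ) + 1) = G.ιTruncLE ((n : ℤ) + 1) := by
  haveI : (G.truncLE ((n : ℤ) + 1)).IsStrictlyLE (((n + 1 : ℕ) : ℤ) + 1) :=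
    (G.truncLE ((n : ℤ) + 1)).isStrictlyLE_of_le ((n : ℤ) + 1) _ (by omega)
  rw [incl, Category.assoc, IsIso.inv_comp_eq]
  exact CochainComplex.ιTruncLE_naturality _ _

/-- The resolution stages. -/
noncomputable def res : ∀ n, Res G n
  | 0 => ⟨Groth.Agent.FreeResLib.mid (Groth.Agent.FreeResLib.siteCov O)
      (0 : (0 : CochainComplex (ModSite.Mod O) ℤ) ⟶ _), Groth.Agent.FreeResLib.midπ _ _⟩
  | n + 1 => ⟨Groth.Agent.FreeResLib.mid (Groth.Agent.FreeResLib.siteCov O) ((res n).π ≫ incl G n),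
      Groth.Agent.FreeResLib.midπ _ _⟩

/-- The transition maps. -/
noncomputable def resι (n : ℕ) : (res G n).K ⟶ (res G (n + 1)).K :=
  Groth.Agent.FreeResLib.midι (Groth.Agent.FreeResLib.siteCov O) ((res G n).π ≫ incl G n)

theorem resι_π (n : ℕ) : resι G n ≫ (res G (n + 1)).π = (res G n).π ≫ incl G n :=
  Groth.Agent.FreeResLib.midι_midπ _ _

theorem res_props (n : ℕ) : QuasiIso (res G n).π ∧ (∀ i, Epi ((res G n).π.f i)) ∧
    (∃ b : ℤ, (res G n).K.IsStrictlyLE b) ∧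
    ∀ i, Groth.Agent.FreeResLib.IsSum (Groth.Agent.FreeResLib.siteCov O) ((res G n).K.X i) := by
  induction n with
  | zero =>
    haveI : (0 : CochainComplex (ModSite.Mod O) ℤ).IsStrictlyLE ((0 : ℕ) + 1 : ℤ) := by
      rw [CochainComplex.isStrictlyLE_iff]
      exact fun i _ => (HomologicalComplex.eval _ _ i).map_isZero (isZero_zero _)
    refine ⟨FreeResLib.quasiIso_midπ _ _, FreeResLib.epi_midπ _ _,
      ⟨_, FreeResLib.isStrictlyLE_mid _ _ ((0 : ℕ) + 1 : ℤ)⟩, fun i => ?_⟩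
    obtain ⟨Q, e, hQ, -⟩ := FreeResLib.exists_splitting (FreeResLib.siteCov O)
      (0 : (0 : CochainComplex (ModSite.Mod O) ℤ) ⟶ G.truncLE (((0 : ℕ) : ℤ) + 1)) i
    exact FreeResLib.IsSum.of_iso _ e.symm (FreeResLib.IsSum.biprod _
      (FreeResLib.isSum_of_isZero _ ((HomologicalComplex.eval _ _ i).map_isZero (isZero_zero _))) hQ)
  | succ n ih =>
    obtain ⟨-, -, ⟨b, hb⟩, hs⟩ := ih
    haveI : (res G n).K.IsStrictlyLE (max b (((n + 1 : ℕ) : ℤ) + 1)) :=
      (res G n).K.isStrictlyLE_of_le b _ (le_max_left _ _)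
    haveI : (G.truncLE (((n + 1 : ℕ) : ℤ) + 1)).IsStrictlyLE (max b (((n + 1 : ℕ) : ℤ) + 1)) :=
      (G.truncLE (((n + 1 : ℕ) : ℤ) + 1)).isStrictlyLE_of_le _ _ (le_max_right _ _)
    refine ⟨FreeResLib.quasiIso_midπ _ _, FreeResLib.epi_midπ _ _,
      ⟨_, FreeResLib.isStrictlyLE_mid _ _ (max b (((n + 1 : ℕ) : ℤ) + 1))⟩, fun i => ?_⟩
    obtain ⟨Q, e, hQ, -⟩ := FreeResLib.exists_splitting (FreeResLib.siteCov O) ((res G n).π ≫ incl G n) i
    exact FreeResLib.IsSum.of_iso _ e.symm (FreeResLib.IsSum.biprod _ (hs i) hQ)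

/-- Let (C, O) be a ringed site and G a complex of O-modules. There is a commutative diagram of
complexes K_1 → K_2 → … over τ_{≤1}G → τ_{≤2}G → … such that (1) the vertical maps K_n → τ_{≤n}G are
termwise surjective quasi-isomorphisms, (2) every K_n is bounded above with terms direct sums of
modules of the form j_{U!}O_U, (3) each K_n → K_{n+1} is split injective in every degree, with
cokernel in each degree a direct sum of modules j_{U!}O_U; moreover colim K_n → G is a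
quasi-isomorphism. Here the system is indexed by n ≥ 0 with K_n mapping to τ_{≤ n+1}G, commutativity
of the diagram is expressed after composing with the inclusions τ_{≤ m}G → G, 'direct sum of modules
j_{U!}O_U' means isomorphic to a coproduct of such modules, and the map colim K_n → G is the one
induced by the K_n → τ_{≤ n+1}G → G. -/
theorem result
    {C : Type u} [SmallCategory C] {J : GrothendieckTopology C} (O : Sheaf J CommRingCat.{u})
    (G : CochainComplex (ModSite.Mod O) ℤ) :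
    ∃ (Kc : ℕ ⥤ CochainComplex (ModSite.Mod O) ℤ) (π : ∀ n : ℕ, Kc.obj n ⟶ G.truncLE ((n : ℤ) + 1)),
      (∀ n : ℕ, Kc.map (homOfLE (Nat.le_succ n)) ≫ π (n + 1) ≫ G.ιTruncLE (((n + 1 : ℕ) : ℤ) + 1) =
        π n ≫ G.ιTruncLE ((n : ℤ) + 1)) ∧
      (∀ n : ℕ, QuasiIso (π n) ∧ ∀ i : ℤ, Epi ((π n).f i)) ∧
      (∀ n : ℕ, ∃ b : ℤ, (Kc.obj n).IsStrictlyLE b) ∧
      (∀ (n : ℕ) (i : ℤ), ∃ (ι : Type u) (U : ι → C),
        Nonempty ((Kc.obj n).X i ≅ ∐ fun j => ModSite.freeOn O (U j))) ∧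
      (∀ (n : ℕ) (i : ℤ), ∃ r : (Kc.obj (n + 1)).X i ⟶ (Kc.obj n).X i,
        (Kc.map (homOfLE (Nat.le_succ n))).f i ≫ r = 𝟙 _ ∧
        ∃ (ι : Type u) (U : ι → C),
          Nonempty (cokernel ((Kc.map (homOfLE (Nat.le_succ n))).f i) ≅ ∐ fun j => ModSite.freeOn O (U j))) ∧
      ∃ c : colimit Kc ⟶ G, (∀ n : ℕ, colimit.ι Kc n ≫ c = π n ≫ G.ιTruncLE ((n : ℤ) + 1)) ∧ QuasiIso c := by
  let Kc : ℕ ⥤ CochainComplex (ModSite.Mod O) ℤ :=
    Functor.ofSequence (X := fun n => (res G n).K) (resι G)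
  have hmap : ∀ n, Kc.map (homOfLE (Nat.le_succ n)) = resι G n :=
    Functor.ofSequence_map_homOfLE_succ _
  let π : ∀ n, Kc.obj n ⟶ G.truncLE ((n : ℤ) + 1) := fun n => (res G n).π
  have hcompat : ∀ n : ℕ, Kc.map (homOfLE (Nat.le_succ n)) ≫ π (n + 1) ≫
      G.ιTruncLE (((n + 1 : ℕ) : ℤ) + 1) = π n ≫ G.ιTruncLE ((n : ℤ) + 1) := fun n => by
    rw [hmap, reassoc_of% (resι_π G n), incl_ι]
  let s : Cocone Kc := ⟨G, NatTrans.ofSequence (fun n => π n ≫ G.ιTruncLE ((n : ℤ) + 1))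
    (fun n => (hcompat n).trans (Category.comp_id _).symm)⟩
  refine ⟨Kc, π, hcompat, fun n => ⟨(res_props G n).1, (res_props G n).2.1⟩,
    fun n => (res_props G n).2.2.1, fun n i => (res_props G n).2.2.2 i, fun n i => ?_,
    colimit.desc Kc s, fun n => colimit.ι_desc s n, ?_⟩
  · obtain ⟨Q, e, hQ, he⟩ := FreeResLib.exists_splitting (FreeResLib.siteCov O) ((res G n).π ≫ incl G n) i
    rw [hmap]
    refine ⟨e.hom ≫ biprod.fst, ?_, ?_⟩
    · exact ((Category.assoc _ _ _).symm.trans (congrArg (· ≫ biprod.fst) he)).trans biprod.inl_fst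
    · obtain ⟨T, U, ⟨e'⟩⟩ := hQ
      refine ⟨T, U, ⟨cokernelIsoOfEq (show _ = biprod.inl ≫ e.inv by rw [← he, Category.assoc, e.hom_inv_id, Category.comp_id]; rfl) ≪≫
        cokernelCompIsIso _ _ ≪≫ cokernelBiprodInlIso ≪≫ e'⟩⟩
  · have hiso : ∀ (i : ℤ) (n : ℕ), i ≤ (n : ℤ) + 1 →
        IsIso (HomologicalComplex.homologyMap (π n ≫ G.ιTruncLE ((n : ℤ) + 1)) i) := fun i n h => by
      rw [HomologicalComplex.homologyMap_comp]
      haveI := (res_props G n).1
      haveI := G.quasiIsoAt_ιTruncLE ((n : ℤ) + 1) i h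
      haveI := (quasiIsoAt_iff_isIso_homologyMap (G.ιTruncLE ((n : ℤ) + 1)) i).1 inferInstance
      haveI : IsIso (HomologicalComplex.homologyMap (π n) i) :=
        (quasiIsoAt_iff_isIso_homologyMap (res G n).π i).1 ((res_props G n).1.quasiIsoAt i)
      infer_instance
    refine FreeResLib.quasiIso_desc Kc (colimit.isColimit _) G s.ι.app (colimit.desc Kc s)
      (fun n => colimit.ι_desc s n)
      (fun i => ⟨i.toNat, haveI := hiso i i.toNat (by omega); inferInstanceAs (Epi (HomologicalComplex.homologyMap (π i.toNat ≫ G.ιTruncLE _) i))⟩)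
      fun i j => ⟨max j i.toNat, homOfLE (le_max_left _ _), fun B x hx => ?_⟩
    haveI := hiso i (max j i.toNat) (by omega)
    rw [← cancel_mono (HomologicalComplex.homologyMap (π (max j i.toNat) ≫ G.ιTruncLE _) i),
      zero_comp, Category.assoc, ← HomologicalComplex.homologyMap_comp]
    have hw : Kc.map (homOfLE (le_max_left j i.toNat)) ≫ s.ι.app (max j i.toNat) = s.ι.app j := s.w _
    exact (congrArg (fun t => x ≫ HomologicalComplex.homologyMap t i) hw).trans hx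

end Groth.Agent.S9078
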