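import Groth.Statements.S9089


set_option autoImplicit false
universe u
open CategoryTheory Opposite
open ModSite

namespace Groth.Agent.S9089

theorem sum_loc {C : Type u} [SmallCategory C] {J : GrothendieckTopology C} (O : Sheaf J CommRingCat.{u})
    (h : ∀ (U : C) (f : O.obj.obj (op U)), ∃ S ∈ J U, ∀ ⦃V : C⦄ (g : V ⟶ U), S g →
        IsUnit ((O.obj.map g.op).hom f) ∨ IsUnit ((O.obj.map g.op).hom (1 - f))) :
    ∀ (n : ℕ) (U : C) (x : Fin (n + 1) → O.obj.obj (op U)), ∑ i, x i = 1 →
      ∃ S ∈ J U, ∀ ⦃V : C⦄ (g : V ⟶ U), S g → ∃ i, IsUnit ((O.obj.map g.op).hom (x i)) := by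
  intro n
  induction n with
  | zero =>
    intro U x hx
    rw [Fin.sum_univ_one] at hx
    exact ⟨⊤, J.top_mem U, fun V g _ => ⟨0, by rw [hx, map_one]; exact isUnit_one⟩⟩
  | succ n ih =>
    intro U x hx
    rw [Fin.sum_univ_succ] at hx
    obtain ⟨S, hS, hS'⟩ := h U (x 0)
    have hloc : ∀ ⦃V : C⦄ (g : V ⟶ U), S g → ∃ T ∈ J V, ∀ ⦃W : C⦄ (a : W ⟶ V), T a →
        ∃ i, IsUnit ((O.obj.map (a ≫ g).op).hom (x i)) := by
      intro V g hg
      rcases hS' g hg with hu | hu
      · refine ⟨⊤, J.top_mem V, fun W a _ => ⟨0, ?_⟩⟩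
        rw [op_comp, Functor.map_comp]
        exact hu.map (O.obj.map a.op).hom
      · obtain ⟨c, hc⟩ := hu.exists_left_inv
        obtain ⟨T, hT, hT'⟩ := ih V (fun i => c * (O.obj.map g.op).hom (x i.succ)) (by
          rw [← Finset.mul_sum, ← map_sum, eq_sub_of_add_eq' hx]
          exact hc)
        refine ⟨T, hT, fun W a ha => ?_⟩
        obtain ⟨i, hi⟩ := hT' a ha
        rw [map_mul] at hi
        refine ⟨i.succ, ?_⟩
        rw [op_comp, Functor.map_comp]
        exact isUnit_of_mul_isUnit_right hi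
    choose T hT hT' using hloc
    refine ⟨Sieve.bind S.1 fun V g hg => T g hg, J.bind_covering hS fun V g hg => hT g hg, ?_⟩
    rintro V _ ⟨W, a, g, hg, ha, rfl⟩
    exact hT' g hg a ha

/-- Part (1): ⇔ (2), for a ringed site (C, O) with C small and O a sheaf of commutative rings: the
following are equivalent. (1) For every object U and every section f of O over U there is a covering
sieve on U on each of whose arrows either f or 1 - f restricts to a unit. (2) For every object U,
every n ≥ 1 and all sections f₁, …, fₙ of O over U generating the unit ideal of O(U), there is a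
covering sieve on U on each of whose arrows some fᵢ restricts to a unit. -/
theorem result {C : Type u} [SmallCategory C] (J : GrothendieckTopology C)
    (O : Sheaf J CommRingCat.{u}) :
    (∀ (U : C) (f : O.obj.obj (op U)), ∃ S ∈ J U, ∀ ⦃V : C⦄ (g : V ⟶ U), S g →
        IsUnit ((O.obj.map g.op).hom f) ∨ IsUnit ((O.obj.map g.op).hom (1 - f))) ↔
    (∀ (U : C) (n : ℕ) (f : Fin n → O.obj.obj (op U)), 1 ≤ n → Ideal.span (Set.range f) = ⊤ →
        ∃ S ∈ J U, ∀ ⦃V : C⦄ (g : V ⟶ U), S g → ∃ i, IsUnit ((O.obj.map g.op).hom (f i))) := by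
  constructor
  · intro h U n f hn hspan
    obtain ⟨c, hc⟩ := (Submodule.mem_span_range_iff_exists_fun _).1 ((Ideal.eq_top_iff_one _).1 hspan)
    obtain ⟨m, rfl⟩ : ∃ m, n = m + 1 := ⟨n - 1, by omega⟩
    obtain ⟨S, hS, hS'⟩ := sum_loc O h m U (fun i => c i * f i) hc
    refine ⟨S, hS, fun V g hg => (hS' g hg).imp fun i hi => ?_⟩
    rw [map_mul] at hi
    exact isUnit_of_mul_isUnit_right hi
  · intro h U f
    obtain ⟨S, hS, hS'⟩ := h U 2 ![f, 1 - f] (by norm_num) ((Ideal.eq_top_iff_one _).2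
      ((Submodule.mem_span_range_iff_exists_fun _).2 ⟨![1, 1], by simp [Fin.sum_univ_two]⟩))
    refine ⟨S, hS, fun V g hg => ?_⟩
    obtain ⟨i, hi⟩ := hS' g hg
    fin_cases i
    · exact Or.inl hi
    · exact Or.inr hi

end Groth.Agent.S9089
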