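import Groth.Statements.S9090


set_option autoImplicit false
universe u
open CategoryTheory Opposite
open ModSite

namespace Groth.Agent.S9090

/-- Part (1): ⇒ (2), for a ringed site (C, O) with C small and O a sheaf of commutative rings: if for
every object U and every section f of O over U there is a covering sieve on U on each of whose
arrows either f or 1 - f restricts to a unit, then at every point p of the site the stalk O_p is the
zero ring or is local. -/
theorem result {C : Type u} [SmallCategory C] {J : GrothendieckTopology C}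
    (O : Sheaf J CommRingCat.{u})
    (h : ∀ (U : C) (f : O.obj.obj (op U)), ∃ S ∈ J U, ∀ ⦃V : C⦄ (g : V ⟶ U), S g →
        IsUnit ((O.obj.map g.op).hom f) ∨ IsUnit ((O.obj.map g.op).hom (1 - f)))
    (p : GrothendieckTopology.Point.{u} J) :
    Subsingleton (ModSite.stalkRing p O) ∨ IsLocalRing (ModSite.stalkRing p O) := by
  rcases subsingleton_or_nontrivial (ModSite.stalkRing p O) with hs | hn
  · exact Or.inl hs
  refine Or.inr (IsLocalRing.of_isUnit_or_isUnit_one_sub_self fun r => ?_)
  obtain ⟨X, x, f, rfl⟩ := p.toPresheafFiber_jointly_surjective (P := O.obj) r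
  obtain ⟨S, hS, hS'⟩ := h X f
  obtain ⟨Y, g, hg, y, rfl⟩ := p.jointly_surjective S hS x
  have hw : ∀ z : O.obj.obj (op X), (p.toPresheafFiber X (p.fiber.map g y) O.obj).hom z =
      (p.toPresheafFiber Y y O.obj).hom ((O.obj.map g.op).hom z) :=
    fun z => (p.toPresheafFiber_w_apply g y O.obj z).symm
  change IsUnit ((p.toPresheafFiber X (p.fiber.map g y) O.obj).hom f) ∨
    IsUnit ((1 : ((p.presheafFiber (A := CommRingCat.{u})).obj O.obj : CommRingCat.{u})) - (p.toPresheafFiber X (p.fiber.map g y) O.obj).hom f)
  rw [← map_one (p.toPresheafFiber X (p.fiber.map g y) O.obj).hom]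
  refine (hS' g hg).imp (fun hu => ?_) (fun hu => ?_)
  · exact (hw f).symm ▸ hu.map (p.toPresheafFiber Y y O.obj).hom
  · refine (?_ : IsUnit ((p.toPresheafFiber X (p.fiber.map g y) O.obj).hom 1 -
      (p.toPresheafFiber X (p.fiber.map g y) O.obj).hom f))
    rw [← map_sub, hw]
    exact hu.map (p.toPresheafFiber Y y O.obj).hom

end Groth.Agent.S9090
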