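import Groth.Statements.S9091


set_option autoImplicit false
universe u
open CategoryTheory Opposite
open ModSite

namespace Groth.Agent.S9091

theorem exists_isUnit_res {C : Type u} [SmallCategory C] {J : GrothendieckTopology C}
    (O : Sheaf J CommRingCat.{u}) (p : GrothendieckTopology.Point.{u} J) {U : C} (x : p.fiber.obj U)
    (f : O.obj.obj (op U)) (hu : IsUnit ((p.toPresheafFiber U x O.obj).hom f)) :
    ∃ (V : C) (g : V ⟶ U) (y : p.fiber.obj V), p.fiber.map g y = x ∧ IsUnit ((O.obj.map g.op).hom f) := by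
  obtain ⟨s, hs⟩ := hu.exists_right_inv
  obtain ⟨Y, y₀, s₀, rfl⟩ := p.toPresheafFiber_jointly_surjective (P := O.obj) s
  let W := IsCofiltered.min (Functor.elementsMk p.fiber U x) (Functor.elementsMk p.fiber Y y₀)
  let gU := IsCofiltered.minToLeft (Functor.elementsMk p.fiber U x) (Functor.elementsMk p.fiber Y y₀)
  let gY := IsCofiltered.minToRight (Functor.elementsMk p.fiber U x) (Functor.elementsMk p.fiber Y y₀)
  have hU : (p.toPresheafFiber U x O.obj).hom f =
      (p.toPresheafFiber W.1 W.2 O.obj).hom ((O.obj.map gU.1.op).hom f) :=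
    ((congrArg (fun t => (p.toPresheafFiber U t O.obj).hom f) gU.2).symm).trans
      (p.toPresheafFiber_w_apply gU.1 W.2 O.obj f).symm
  have hY : (p.toPresheafFiber Y y₀ O.obj).hom s₀ =
      (p.toPresheafFiber W.1 W.2 O.obj).hom ((O.obj.map gY.1.op).hom s₀) :=
    ((congrArg (fun t => (p.toPresheafFiber Y t O.obj).hom s₀) gY.2).symm).trans
      (p.toPresheafFiber_w_apply gY.1 W.2 O.obj s₀).symm
  change (p.toPresheafFiber U x O.obj).hom f * (p.toPresheafFiber Y y₀ O.obj).hom s₀ = 1 at hs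
  rw [hU, hY, ← map_mul] at hs
  obtain ⟨V, g, y, hy, e⟩ := (p.toPresheafFiber_eq_iff' W.1 W.2 _ 1).1 (hs.trans (map_one _).symm)
  refine ⟨V, g ≫ gU.1, y, ?_, ?_⟩
  · rw [Functor.map_comp_apply, hy]
    exact gU.2
  · rw [op_comp, Functor.map_comp]
    refine IsUnit.of_mul_eq_one ((O.obj.map g.op).hom ((O.obj.map gY.1.op).hom s₀)) ?_
    change (O.obj.map g.op).hom ((O.obj.map gU.1.op).hom f) * _ = 1
    rw [← map_mul]
    exact e.trans (map_one _)

/-- Part (2): ⇒ (1) when the site has enough points, for a ringed site (C, O) with C small and O a sheaf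
of commutative rings: if at every point p of the site the stalk O_p is the zero ring or is local,
then for every object U and every section f of O over U there is a covering sieve on U on each of
whose arrows either f or 1 - f restricts to a unit. -/
theorem result {C : Type u} [SmallCategory C] {J : GrothendieckTopology C}
    (O : Sheaf J CommRingCat.{u}) [GrothendieckTopology.HasEnoughPoints.{u} J]
    (h : ∀ p : GrothendieckTopology.Point.{u} J, Subsingleton (ModSite.stalkRing p O) ∨ IsLocalRing (ModSite.stalkRing p O))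
    (U : C) (f : O.obj.obj (op U)) :
    ∃ S ∈ J U, ∀ ⦃V : C⦄ (g : V ⟶ U), S g →
        IsUnit ((O.obj.map g.op).hom f) ∨ IsUnit ((O.obj.map g.op).hom (1 - f)) := by
  obtain ⟨P, _, hP⟩ := GrothendieckTopology.HasEnoughPoints.exists_objectProperty J
  let ι := {a : Σ V : C, V ⟶ U // IsUnit ((O.obj.map a.2.op).hom f) ∨ IsUnit ((O.obj.map a.2.op).hom (1 - f))}
  have hcov : Sieve.ofArrows _ (fun a : ι => a.1.2) ∈ J U := by
    rw [hP.jointly_reflect_ofArrows_mem_of_small]
    intro Φ x
    obtain ⟨V, g, y, hy, hu⟩ : ∃ (V : C) (g : V ⟶ U) (y : Φ.obj.fiber.obj V), Φ.obj.fiber.map g y = x ∧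
        (IsUnit ((O.obj.map g.op).hom f) ∨ IsUnit ((O.obj.map g.op).hom (1 - f))) := by
      rcases h Φ.obj with hs | hl
      · haveI : Subsingleton ((Φ.obj.presheafFiber (A := CommRingCat.{u})).obj O.obj : CommRingCat.{u}) := hs
        obtain ⟨V, g, y, hy, h1⟩ := (Φ.obj.toPresheafFiber_eq_iff' U x f 1).1 (Subsingleton.elim _ _)
        exact ⟨V, g, y, hy, Or.inl ((show (O.obj.map g.op).hom f = 1 from h1.trans (map_one _)) ▸ isUnit_one)⟩
      · haveI : IsLocalRing ((Φ.obj.presheafFiber (A := CommRingCat.{u})).obj O.obj : CommRingCat.{u}) := hl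
        rcases IsLocalRing.isUnit_or_isUnit_one_sub_self ((Φ.obj.toPresheafFiber U x O.obj).hom f) with hu | hu
        · obtain ⟨V, g, y, hy, hu'⟩ := exists_isUnit_res O Φ.obj x f hu
          exact ⟨V, g, y, hy, Or.inl hu'⟩
        · rw [← map_one (Φ.obj.toPresheafFiber U x O.obj).hom, ← map_sub] at hu
          obtain ⟨V, g, y, hy, hu'⟩ := exists_isUnit_res O Φ.obj x (1 - f) hu
          exact ⟨V, g, y, hy, Or.inr hu'⟩
    exact ⟨⟨⟨V, g⟩, hu⟩, y, hy⟩
  refine ⟨_, hcov, ?_⟩
  rintro V _ ⟨_, a, _, ⟨i⟩, rfl⟩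
  rw [op_comp, Functor.map_comp]
  exact i.2.imp (fun hu => hu.map (O.obj.map a.op).hom) (fun hu => hu.map (O.obj.map a.op).hom)

end Groth.Agent.S9091
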