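import Groth.Statements.S9097
import Mathlib.Algebra.Category.Grp.EpiMono

set_option autoImplicit false
set_option backward.isDefEq.respectTransparency false
set_option backward.isDefEq.respectTransparency.types false
universe u
open CategoryTheory CategoryTheory.Limits Opposite
open CohSite

namespace Groth.Agent.S9097

/-- If 0 → A → B → C → 0 is short exact in the category of abelian groups then, for every object U, the
sequence 0 → A̲(U) → B̲(U) → C̲(U) → 0 of sections of the constant abelian sheaves is short exact;
in other words the sequence of constant sheaves is exact even as a sequence of abelian presheaves.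
The instance binder on the sections-of-constant-sheaf functor (it preserves zero morphisms) always
holds and is only needed to form the complex. -/
theorem result {C : Type u} [SmallCategory C] (J : GrothendieckTopology C)
    (S : ShortComplex AddCommGrpCat.{u}) (hS : S.ShortExact) (U : C)
    [(constantSheaf J AddCommGrpCat.{u} ⋙ (sheafSections J AddCommGrpCat.{u}).obj (op U)).PreservesZeroMorphisms] :
    (S.map (constantSheaf J AddCommGrpCat.{u} ⋙ (sheafSections J AddCommGrpCat.{u}).obj (op U))).ShortExact := by
  let G := constantSheaf J AddCommGrpCat.{u} ⋙ (sheafSections J AddCommGrpCat.{u}).obj (op U)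
  haveI : PreservesFiniteLimits (constantSheaf J AddCommGrpCat.{u}) :=
    @comp_preservesFiniteLimits _ _ _ _ _ _ (Functor.const Cᵒᵖ) (presheafToSheaf J AddCommGrpCat.{u}) inferInstance inferInstance
  haveI : PreservesFiniteLimits ((sheafSections J AddCommGrpCat.{u}).obj (op U)) :=
    comp_preservesFiniteLimits (sheafToPresheaf J AddCommGrpCat.{u}) ((evaluation _ _).obj (op U))
  haveI : PreservesFiniteLimits G := comp_preservesFiniteLimits _ _
  haveI := hS.mono_f
  haveI : Mono (S.map G).f := (inferInstance : Mono (G.map S.f))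
  refine { exact := hS.exact.map_of_mono_of_preservesKernel G hS.mono_f inferInstance
           epi_g := (AddCommGrpCat.epi_iff_surjective _).2 fun x => ?_ }
  haveI := hS.epi_g
  choose s hs using (AddCommGrpCat.epi_iff_surjective S.g).1 inferInstance
  let cA := (Functor.const Cᵒᵖ).obj S.X₂
  let cB := (Functor.const Cᵒᵖ).obj S.X₃
  let g₀ : cA ⋙ forget AddCommGrpCat.{u} ⟶ cB ⋙ forget AddCommGrpCat.{u} :=
    Functor.whiskerRight ((Functor.const Cᵒᵖ).map S.g) (forget AddCommGrpCat.{u})
  let s₀ : cB ⋙ forget AddCommGrpCat.{u} ⟶ cA ⋙ forget AddCommGrpCat.{u} :=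
    { app := fun _ => TypeCat.ofHom s
      naturality := fun _ _ _ => rfl }
  let ηA := Functor.whiskerRight (toSheafify J cA) (forget AddCommGrpCat.{u})
  let ηB := Functor.whiskerRight (toSheafify J cB) (forget AddCommGrpCat.{u})
  have hW : J.W ηB := GrothendieckTopology.W_of_preservesSheafification J
    (forget AddCommGrpCat.{u}) _ (J.W_toSheafify cB)
  let gS : sheafify J cA ⋙ forget AddCommGrpCat.{u} ⟶ sheafify J cB ⋙ forget AddCommGrpCat.{u} :=
    Functor.whiskerRight (sheafifyMap J ((Functor.const Cᵒᵖ).map S.g)) (forget AddCommGrpCat.{u})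
  have hA : Presheaf.IsSheaf J (sheafify J cA ⋙ forget AddCommGrpCat.{u}) :=
    ((sheafCompose J (forget AddCommGrpCat.{u})).obj ((presheafToSheaf J _).obj cA)).property
  have hB : Presheaf.IsSheaf J (sheafify J cB ⋙ forget AddCommGrpCat.{u}) :=
    ((sheafCompose J (forget AddCommGrpCat.{u})).obj ((presheafToSheaf J _).obj cB)).property
  obtain ⟨r, hr⟩ := (hW _ hA).2 (s₀ ≫ ηA)
  have hnat : ηA ≫ gS = g₀ ≫ ηB := by
    simp only [ηA, ηB, gS, g₀, ← Functor.whiskerRight_comp]
    exact congrArg (Functor.whiskerRight · _) (toSheafify_naturality J _).symm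
  have hid : r ≫ gS = 𝟙 _ := by
    refine (hW _ hB).1 ?_
    change ηB ≫ r ≫ gS = ηB ≫ 𝟙 _
    have hr' : ηB ≫ r = s₀ ≫ ηA := hr
    rw [reassoc_of% hr', hnat, Category.comp_id, ← Category.assoc]
    have hsg : s₀ ≫ g₀ = 𝟙 _ := by
      ext V b
      exact hs b
    rw [hsg, Category.id_comp]
  exact ⟨(r.app (op U)).hom x, ConcreteCategory.congr_hom (NatTrans.congr_app hid (op U)) x⟩

end Groth.Agent.S9097
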