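import Groth.Statements.S9101
import Groth.Agent.PullRestrLib.Basic

set_option autoImplicit false
set_option backward.isDefEq.respectTransparency false
set_option backward.isDefEq.respectTransparency.types false
universe u
open CategoryTheory
open ModSite

namespace Groth.Agent.S9101

/-- Part (1): for a morphism of ringed sites f : (C, O_C) → (D, O_D) between small sites with
commutative structure sheaves (hence for the morphism of ringed topoi it induces): if the O_D-module
F is locally free (locally isomorphic to a direct sum of copies of the structure sheaf, of arbitrary
rank), then its module inverse image f^*F has the same property. -/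
theorem result {C D : Type u} [SmallCategory C] [SmallCategory D] {J : GrothendieckTopology C}
    {K : GrothendieckTopology D} {O_C : Sheaf J CommRingCat.{u}} {O_D : Sheaf K CommRingCat.{u}}
    (f : ModSite.RMor O_C O_D) (F : ModSite.Mod O_D)
    [SheafOfModules.IsLocallyFree (R := ModSite.ringSh O_D) F] :
    SheafOfModules.IsLocallyFree (R := ModSite.ringSh O_C) (f.pull.obj F) := by
  obtain ⟨q, hq⟩ := SheafOfModules.IsLocallyFree.exists_isLocallyFreeData (R := ModSite.ringSh O_D) (M := F)
  refine SheafOfModules.IsLocallyFree.mk (R := ModSite.ringSh O_C)
    ⟨({ I := q.I
        X := fun i => f.fn.obj (q.X i)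
        coversTop := Groth.Agent.PullRestrLib.coversTop_pull f q.coversTop
        generators := fun i => Groth.Agent.PullRestrLib.pullGen f (q.generators i) } : SheafOfModules.LocalGeneratorsData.{u} (R := ModSite.ringSh O_C) (f.pull.obj F)), ?_⟩
  refine SheafOfModules.LocalGeneratorsData.IsLocallyFreeData.mk (R := ModSite.ringSh O_C) fun i => ?_
  haveI := hq.isIso i
  exact Groth.Agent.PullRestrLib.isIso_pullGen_π f (q.generators i)

end Groth.Agent.S9101
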