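import Groth.Statements.S9104
import Groth.Agent.InvRingLib.Ring

open Groth.Agent.ModSiteLib.SetPull Opposite

set_option autoImplicit false
set_option backward.isDefEq.respectTransparency false
set_option backward.isDefEq.respectTransparency.types false
universe u
open CategoryTheory
open ModSite

namespace Groth.Agent.S9104

/-- Part (1): for a morphism of ringed sites f : (C, O_C) → (D, O_D) between small sites with
commutative structure sheaves (only the underlying morphism of topoi is used): if (D, O_D) is a
locally ringed site then C equipped with the pulled-back sheaf of rings f⁻¹O_D is a locally ringed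
site. -/
theorem result {C D : Type u} [SmallCategory C] [SmallCategory D] {J : GrothendieckTopology C}
    {K : GrothendieckTopology D} {O_C : Sheaf J CommRingCat.{u}} {O_D : Sheaf K CommRingCat.{u}}
    (f : ModSite.RMor O_C O_D) (hD : ModSite.IsLocallyRinged K O_D) : ModSite.IsLocallyRinged J f.invRing := by
  refine ⟨fun U s => ?_, fun U h0 => ?_⟩
  · refine Loc.bind (InvRingLib.loc_uR (fn := f.fn) (J := J) (K := K) s) ?_
    rintro V g ⟨W, h, a, ha⟩
    obtain ⟨T, hT, hTa⟩ := hD.1 W a
    refine Loc.mono (loc_lift_cover (J := J) (K := K) f.fn hT h) ?_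
    rintro V' g' ⟨W', h', k, hk, ek⟩
    have e : (f.invRing.obj.map (g' ≫ g).op).hom s = InvRingLib.uR h' (InvRingLib.rS O_D k a) := by
      rw [InvRingLib.uR_refine, ← ek, ← InvRingLib.res_uR, ← ha]
      exact congr(($(f.invRing.obj.map_comp g.op g'.op)).hom s)
    rcases hTa k hk with h1 | h1
    · refine Or.inl ?_
      rw [e]
      exact h1.map (((f.invRing.obj.map h'.op).hom).comp
        ((((f.fn.sheafAdjunctionContinuous CommRingCat.{u} K J).unit.app O_D).hom.app (op W')).hom))
    · refine Or.inr ?_
      have h2 := h1.map (((f.invRing.obj.map h'.op).hom).comp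
        ((((f.fn.sheafAdjunctionContinuous CommRingCat.{u} K J).unit.app O_D).hom.app (op W')).hom))
      rw [map_sub, map_one, map_sub, map_one] at h2
      rw [map_sub, map_one, e]
      exact h2
  · obtain ⟨S, hS, hp⟩ : Loc J U fun V' _ => (⊥ : Sieve V') ∈ J V' := by
      refine Loc.bind (InvRingLib.loc_obj (fn := f.fn) (J := J) (K := K) U) ?_
      rintro V g ⟨W, ⟨h⟩⟩
      have h01 : InvRingLib.uR (J := J) (R := O_D) h 0 = InvRingLib.uR h 1 := by
        rw [InvRingLib.uR_zero, InvRingLib.uR_one]
        have := congrArg (f.invRing.obj.map g.op).hom h0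
        rwa [map_zero, map_one] at this
      refine Loc.bind (InvRingLib.loc_eq_uR h 0 1 h01) ?_
      rintro V₁ g₁ ⟨W₀, h₀, p, -, e⟩
      have e' : (0 : O_D.obj.obj (op W₀)) = 1 := by
        simpa [InvRingLib.rS] using e
      refine Loc.mono (loc_lift_cover (J := J) (K := K) f.fn (hD.2 W₀ e') h₀) ?_
      rintro V₂ g₂ ⟨_, _, k, hk, -⟩
      exact hk.elim
    exact J.transitive hS _ fun V g hg => by
      rw [Sieve.pullback_bot]
      exact hp g hg

end Groth.Agent.S9104
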