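import Groth.Statements.S9109
import Mathlib.CategoryTheory.Sites.EpiMono
import Mathlib.Algebra.Category.Grp.AB
import Mathlib.CategoryTheory.Abelian.Exact
import Mathlib.Algebra.Homology.ShortComplex.ExactFunctor
import Mathlib.Algebra.Category.Grp.EpiMono

set_option autoImplicit false
universe u
open CategoryTheory CategoryTheory.Limits
open CohSite

namespace Groth.Agent.S9109

/-- Part (1): on a small site (C, J) with a point p: the skyscraper functor p_* from abelian groups to
abelian sheaves on C (right adjoint to the stalk functor at p; its value on A is the sheaf U ↦ ∏_{x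
∈ p⁻¹U} A) is exact. As a right adjoint it preserves limits; the statement here is that it also
preserves finite colimits. -/
theorem result {C : Type u} [SmallCategory C] {J : GrothendieckTopology C}
    (p : GrothendieckTopology.Point.{u} J) :
    PreservesFiniteColimits (p.skyscraperSheafFunctor (A := AddCommGrpCat.{u})) := by
  haveI : (p.skyscraperSheafFunctor (A := AddCommGrpCat.{u})).IsRightAdjoint := inferInstance
  haveI : PreservesLimitsOfSize.{0, 0} (p.skyscraperSheafFunctor (A := AddCommGrpCat.{u})) :=
    (p.skyscraperSheafAdjunction (A := AddCommGrpCat.{u})).rightAdjoint_preservesLimits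
  haveI : PreservesFiniteLimits (p.skyscraperSheafFunctor (A := AddCommGrpCat.{u})) :=
    PreservesLimitsOfSize.preservesFiniteLimits _
  haveI : (p.skyscraperSheafFunctor (A := AddCommGrpCat.{u})).Additive := Functor.additive_of_preserves_binary_products _
  haveI : (p.skyscraperSheafFunctor (A := AddCommGrpCat.{u})).PreservesEpimorphisms := ⟨fun {X Y} f _ => by
    refine (Sheaf.isLocallySurjective_iff_epi' (φ := p.skyscraperSheafFunctor.map f)).1 ?_
    refine Presheaf.isLocallySurjective_of_surjective _ _ fun U => ?_
    haveI : Epi ((p.skyscraperPresheafFunctor.map f).app U) :=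
      haveI : Epi (Discrete.natTrans (F := Discrete.functor fun _ : p.fiber.obj U.unop => X)
          (G := Discrete.functor fun _ : p.fiber.obj U.unop => Y) fun _ => f) :=
        haveI : ∀ i, Epi ((Discrete.natTrans (F := Discrete.functor fun _ : p.fiber.obj U.unop => X)
          (G := Discrete.functor fun _ : p.fiber.obj U.unop => Y) fun _ => f).app i) := fun _ => ‹Epi f›
        NatTrans.epi_of_epi_app _
      haveI : PreservesFiniteColimits (lim (J := Discrete (p.fiber.obj U.unop)) (C := AddCommGrpCat.{u})) :=
        HasExactLimitsOfShape.preservesFiniteColimits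
      inferInstanceAs (Epi (lim.map (Discrete.natTrans (F := Discrete.functor fun _ : p.fiber.obj U.unop => X)
        (G := Discrete.functor fun _ : p.fiber.obj U.unop => Y) fun _ => f)))
    exact (AddCommGrpCat.epi_iff_surjective ((p.skyscraperPresheafFunctor.map f).app U)).1 this⟩
  haveI := Functor.preservesHomology_of_preservesEpis_and_kernels (p.skyscraperSheafFunctor (A := AddCommGrpCat.{u}))
  exact Functor.preservesFiniteColimits_of_preservesHomology _

end Groth.Agent.S9109
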