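import Groth.Statements.S9111
import Groth.Agent.ModSiteLib.FlatExact
import Mathlib.Algebra.Category.ModuleCat.Presheaf.Generator
import Mathlib.Algebra.Category.ModuleCat.Products
import Mathlib.RingTheory.Flat.Basic
-- import your own Groth.Agent.* helpers here

set_option autoImplicit false
set_option linter.style.haveILetI false
universe u
open CategoryTheory CategoryTheory.Limits
open ModSite

namespace Groth.Agent.S9111

/-- Let C be a small category and O a presheaf of commutative rings on C. If 0 → F'' → F' → F → 0 is a
short exact sequence of presheaves of O-modules whose right-hand term F is flat (the sectionwise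
tensor product functor - ⊗_{p,O} F is exact), then for every presheaf of O-modules G the tensored
sequence 0 → F'' ⊗_{p,O} G → F' ⊗_{p,O} G → F ⊗_{p,O} G → 0 is short exact. The instance binder (the
functor - ⊗_{p,O} G preserves zero morphisms) always holds and is only needed to form the complex. -/
theorem result {C : Type u} [SmallCategory C] (O : Cᵒᵖ ⥤ CommRingCat.{u})
    (S : ShortComplex (PresheafOfModules.{u} (O ⋙ forget₂ CommRingCat.{u} RingCat.{u}))) (hS : S.ShortExact)
    (hF : PreservesFiniteLimits (MonoidalCategory.tensorRight S.X₃) ∧ PreservesFiniteColimits (MonoidalCategory.tensorRight S.X₃))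
    (G : PresheafOfModules.{u} (O ⋙ forget₂ CommRingCat.{u} RingCat.{u})) [(MonoidalCategory.tensorRight G).PreservesZeroMorphisms] :
    (S.map (MonoidalCategory.tensorRight G)).ShortExact := by
  let P := G.freeYonedaCoproduct
  have hP : ∀ X : Cᵒᵖ, Module.Flat (O.obj X) (P.obj X) := fun X => by
    let E := PresheafOfModules.evaluation (O ⋙ forget₂ CommRingCat.{u} RingCat.{u}) X
    let Z : G.Elements → ModuleCat.{u} (O.obj X) := fun m => E.obj m.freeYoneda
    let e : P.obj X ≅ ∐ Z := PreservesCoproduct.iso E (fun m : G.Elements => m.freeYoneda)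
    haveI : ∀ m, Module.Flat (O.obj X) (Z m) := fun m =>
      haveI : Module.Free (O.obj X) (Z m) :=
        inferInstanceAs (Module.Free (O.obj X) ((X.unop ⟶ m.1.unop) →₀ O.obj X))
      inferInstance
    classical
    exact Module.Flat.of_linearEquiv (e ≪≫ ModuleCat.coprodIsoDirectSum Z).toLinearEquiv
  haveI := hF.1
  haveI : PreservesFiniteLimits (MonoidalCategory.tensorRight P) :=
    _root_.ModSiteLib.presheaf_tensorRight_preservesFiniteLimits P hP
  let T := MonoidalCategory.curriedTensor (PresheafOfModules.{u} (O ⋙ forget₂ CommRingCat.{u} RingCat.{u}))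
  haveI : ∀ Z, (T.obj Z).Additive := fun Z => ⟨fun {P Q f g} => by
    ext1 U
    simp [T, MonoidalPreadditive.whiskerLeft_add]
    try rfl⟩
  haveI : T.Additive := ⟨fun {P Q f g} => by
    ext N : 2
    ext1 U
    simp [T, MonoidalPreadditive.add_whiskerRight]
    try rfl⟩
  haveI : ∀ Z, (T.flip.obj Z).Additive := fun Z => ⟨fun {P Q f g} => by
    show (T.map (f + g)).app Z = (T.map f).app Z + (T.map g).app Z
    rw [T.map_add, NatTrans.app_add]⟩
  haveI : ∀ Z, PreservesFiniteColimits (T.flip.obj Z) := fun Z =>
    inferInstanceAs (PreservesFiniteColimits (MonoidalCategory.tensorRight Z))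
  haveI : ∀ Z, PreservesFiniteColimits (T.obj Z) := fun Z =>
    haveI := preservesColimits_of_natIso (BraidedCategory.tensorLeftIsoTensorRight Z).symm
    inferInstanceAs (PreservesFiniteColimits (MonoidalCategory.tensorLeft Z))
  haveI : (T.obj S.X₃).PreservesMonomorphisms :=
    haveI := preservesFiniteLimits_of_natIso (BraidedCategory.tensorLeftIsoTensorRight S.X₃).symm
    inferInstanceAs (MonoidalCategory.tensorLeft S.X₃).PreservesMonomorphisms
  haveI : (T.flip.obj P).PreservesMonomorphisms :=
    inferInstanceAs (MonoidalCategory.tensorRight P).PreservesMonomorphisms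
  exact ModSiteLib.FlatExact.shortExact_map T hS (PresheafOfModules.fromFreeYonedaCoproduct G)

end Groth.Agent.S9111
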