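import Groth.Statements.S9112
import Groth.Agent.ModSiteLib.PullFlat

set_option autoImplicit false
universe u
open CategoryTheory
open ModSite

namespace Groth.Agent.S9112

/-- Part (1): on a small ringed site (C, O) with O commutative, for a point p of the site: the stalk
functor F ↦ F_p from O-modules to O_p-modules is exact. Stated on a short exact sequence 0 → F₁ → F₂
→ F₃ → 0 of O-modules: the induced O_p-linear map F₁,p → F₂,p is injective, F₂,p → F₃,p is
surjective, and the range of the first is the kernel of the second. -/
theorem result {C : Type u} [SmallCategory C] {J : GrothendieckTopology C}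
    (O : Sheaf J CommRingCat.{u}) (S : ShortComplex (ModSite.Mod O)) (hS : S.ShortExact)
    (p : GrothendieckTopology.Point.{u} J) :
    Function.Injective (ModSite.stalkMap p S.f).hom ∧ Function.Surjective (ModSite.stalkMap p S.g).hom ∧
      LinearMap.range (ModSite.stalkMap p S.f).hom = LinearMap.ker (ModSite.stalkMap p S.g).hom := by
  haveI : (SheafOfModules.toSheaf (ModSite.ringSh O)).PreservesHomology :=
    haveI : CategoryTheory.Limits.PreservesFiniteColimits (SheafOfModules.toSheaf.{u} (ModSite.ringSh O)) := inferInstance
    inferInstance
  have hT := (hS.map_of_exact (SheafOfModules.toSheaf (ModSite.ringSh O))).map_of_exact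
    (p.sheafFiber (A := AddCommGrpCat.{u}))
  refine ⟨hT.ab_injective_f, hT.ab_surjective_g, ?_⟩
  ext x
  constructor
  · rintro ⟨y, rfl⟩
    exact ShortComplex.ab_zero_apply ((S.map (SheafOfModules.toSheaf (ModSite.ringSh O))).map (p.sheafFiber (A := AddCommGrpCat.{u}))) y
  · intro hx
    exact (ShortComplex.ab_exact_iff _).1 hT.exact x hx

end Groth.Agent.S9112
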