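import Groth.Statements.S9115
import Groth.Agent.ModSiteLib.FreeOn
import Groth.Agent.ModSiteLib.PullFlat
import Groth.Prelude.Def_CohCx
import Mathlib.CategoryTheory.Sites.EpiMono

set_option autoImplicit false
set_option backward.isDefEq.respectTransparency false
universe u
open CategoryTheory CategoryTheory.Limits Opposite
open ModSite

namespace Groth.Agent.S9115

variable {C : Type u} [SmallCategory C] {J : GrothendieckTopology C} {O : Sheaf J CommRingCat.{u}}

theorem loc_lift {M N : ModSite.Mod O} (φ : M ⟶ N) [Epi φ] {U : C} (t : N.val.obj (op U)) :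
    ∃ S ∈ J U, ∀ ⦃V : C⦄ (g : V ⟶ U), S g → ∃ p : M.val.obj (op V), φ.val.app (op V) p = N.val.map g.op t := by
  haveI : (SheafOfModules.toSheaf (ModSite.ringSh O)).PreservesHomology :=
    haveI : PreservesFiniteColimits (SheafOfModules.toSheaf.{u} (ModSite.ringSh O)) := inferInstance
    inferInstance
  haveI : Presheaf.IsLocallySurjective J ((SheafOfModules.toSheaf (ModSite.ringSh O)).map φ).hom :=
    (Sheaf.isLocallySurjective_iff_epi' AddCommGrpCat.{u}
      ((SheafOfModules.toSheaf (ModSite.ringSh O)).map φ)).2 inferInstance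
  exact ⟨_, Presheaf.imageSieve_mem J ((SheafOfModules.toSheaf (ModSite.ringSh O)).map φ).hom t,
    fun V g hg => ⟨_, hg.choose_spec⟩⟩

/-- A section over a quasi-compact object killed by a jointly surjective family vanishes. -/
theorem sec_ext_of_jointlySurjective (M : ModSite.Mod O) {U : C} {κ : Type u} {W : κ → C}
    (g : ∀ k, W k ⟶ U)
    (hg : CohCx.JointlySurjective fun k => (presheafToSheaf J (Type u)).map (yoneda.map (g k)))
    (x y : M.val.obj (op U)) (h : ∀ k, M.val.map (g k).op x = M.val.map (g k).op y) : x = y := by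
  let T : Sheaf J (Type u) := (sheafCompose J (forget AddCommGrpCat.{u})).obj (ModSite.toAb M)
  let ev (z : M.val.obj (op U)) : (presheafToSheaf J (Type u)).obj (yoneda.obj U) ⟶ T :=
    ((sheafificationAdjunction J (Type u)).homEquiv _ T).symm ((yonedaEquiv (F := T.obj)).symm z)
  have hev : ∀ z, yonedaEquiv (toSheafify J (yoneda.obj U) ≫ (ev z).hom) = z := fun z => by
    have h1 := ((sheafificationAdjunction J (Type u)).homEquiv _ T).apply_symm_apply ((yonedaEquiv (F := T.obj)).symm z)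
    rw [Adjunction.homEquiv_unit] at h1
    exact (congrArg yonedaEquiv h1).trans ((yonedaEquiv (F := T.obj)).apply_symm_apply z)
  have hk : ∀ k, (presheafToSheaf J (Type u)).map (yoneda.map (g k)) ≫ ev x =
      (presheafToSheaf J (Type u)).map (yoneda.map (g k)) ≫ ev y := fun k => by
    rw [← Adjunction.homEquiv_naturality_left_symm, ← Adjunction.homEquiv_naturality_left_symm]
    refine congrArg _ (yonedaEquiv.injective ?_)
    exact ((yonedaEquiv_naturality ((yonedaEquiv (F := T.obj)).symm x) (g k)).symm.trans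
      ((congrArg (T.obj.map (g k).op) ((yonedaEquiv (F := T.obj)).apply_symm_apply x)).trans ((h k).trans
        (congrArg (T.obj.map (g k).op) ((yonedaEquiv (F := T.obj)).apply_symm_apply y)).symm))).trans
      (yonedaEquiv_naturality ((yonedaEquiv (F := T.obj)).symm y) (g k))
  rw [← hev x, ← hev y]
  let e := yonedaEquiv (toSheafify J (yoneda.obj U))
  obtain ⟨S, hS, hS'⟩ := hg U e
  refine (((isSheaf_iff_isSheaf_of_type _ _).1 T.property).isSeparated S hS).ext fun V f hf => ?_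
  obtain ⟨k, z, hz⟩ := hS' V f hf
  change T.obj.map f.op ((ev x).hom.app (op U) e) = T.obj.map f.op ((ev y).hom.app (op U) e)
  rw [← NatTrans.naturality_apply, ← NatTrans.naturality_apply, ← hz]
  exact ConcreteCategory.congr_hom (NatTrans.congr_app (congrArg (fun t => t.hom) (hk k)) (op V)) z

/-- Finitely many members of `B` covering a quasi-compact object inside a covering sieve. -/
theorem exists_finite_refinement (B : Set C)
    (hB₁ : ∀ X : C, ∃ (κ : Type u) (Y : κ → C) (g : ∀ k, Y k ⟶ X), Sieve.ofArrows Y g ∈ J X ∧ ∀ k, Y k ∈ B)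
    {U : C} (hU : CohCx.IsQcObject ((presheafToSheaf J (Type u)).obj (yoneda.obj U)))
    (S : Sieve U) (hS : S ∈ J U) :
    ∃ (κ : Type u) (_ : Fintype κ) (W : κ → C) (g : ∀ k, W k ⟶ U), (∀ k, W k ∈ B) ∧ (∀ k, S (g k)) ∧
      CohCx.JointlySurjective fun k => (presheafToSheaf J (Type u)).map (yoneda.map (g k)) := by
  choose κ Y q hq hY using hB₁
  let I := Σ a : Σ V : C, {f : V ⟶ U // S f}, κ a.1
  let W : I → C := fun i => Y i.1.1 i.2
  let g : ∀ i : I, W i ⟶ U := fun i => q i.1.1 i.2 ≫ i.1.2.1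
  have hcov : Sieve.ofArrows W g ∈ J U := by
    refine J.transitive hS _ fun V f hf => J.superset_covering ?_ (hq V)
    rintro Z _ ⟨_, a, _, ⟨k⟩, rfl⟩
    exact ⟨_, a, _, ⟨(⟨⟨V, f, hf⟩, k⟩ : I)⟩, by simp [g]⟩
  have hsurj : CohCx.JointlySurjective fun i => (presheafToSheaf J (Type u)).map (yoneda.map (g i)) := by
    intro V s
    refine ⟨Sieve.bind (Presheaf.imageSieve (toSheafify J (yoneda.obj U)) s).1
      (fun Y' f hf => (Sieve.ofArrows W g).pullback hf.choose), J.bind_covering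
        (Presheaf.imageSieve_mem J (toSheafify J (yoneda.obj U)) s) (fun Y' f hf => J.pullback_stable _ hcov), ?_⟩
    rintro Z _ ⟨Y', a, f, hf, ⟨_, b, _, ⟨i⟩, hb⟩, rfl⟩
    refine ⟨i, (toSheafify J (yoneda.obj (W i))).app (op Z) b, ?_⟩
    refine (ConcreteCategory.congr_hom
      (NatTrans.congr_app (toSheafify_naturality J (yoneda.map (g i))) (op Z)) b).symm.trans ?_
    change (toSheafify J (yoneda.obj U)).app (op Z) (b ≫ g i) = _
    rw [hb, op_comp, Functor.map_comp]
    exact (NatTrans.naturality_apply (toSheafify J (yoneda.obj U)) a.op hf.choose).trans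
      (congrArg (((presheafToSheaf J (Type u)).obj (yoneda.obj U)).obj.map a.op) hf.choose_spec)
  obtain ⟨t, ht⟩ := hU I _ _ hsurj
  exact ⟨t, inferInstance, fun k => W k.1, fun k => g k.1, fun k => hY _ _,
    fun k => S.downward_closed k.1.1.2.2 _, ht⟩

/-- The cokernel of a map between finitely presented modules, from local lifts. -/
theorem cokernel_of_lifts {A : Type*} [Category* A] [Abelian A]
    {F G P₁ P₀ F₀ F₁ Q : A} (α : F ⟶ G) (ψ : P₁ ⟶ P₀) (eG : G ≅ cokernel ψ) (ψF : F₁ ⟶ F₀)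
    (eF : F ≅ cokernel ψF) (ℓ : Q ⟶ P₀) (ρ : Q ⟶ F₀)
    (hℓ : ℓ ≫ cokernel.π ψ ≫ eG.inv = ρ ≫ cokernel.π ψF ≫ eF.inv ≫ α)
    (hρ : ∀ (M : A) (z : F₀ ⟶ M), ρ ≫ z = 0 → z = 0)
    {T : A} (Ψ : T ⟶ P₀) (h₁ : ∀ (M : A) (z : P₀ ⟶ M), (Ψ ≫ z = 0 ↔ ψ ≫ z = 0 ∧ ℓ ≫ z = 0)) :
    Nonempty (cokernel α ≅ cokernel Ψ) := by
  obtain ⟨hψ, hℓ0⟩ := (h₁ _ _).1 (cokernel.condition Ψ)
  let a : cokernel α ⟶ cokernel Ψ := cokernel.desc α (eG.hom ≫ cokernel.desc ψ (cokernel.π Ψ) hψ) (by
    rw [← cancel_epi eF.inv, ← cancel_epi (cokernel.π ψF), comp_zero, comp_zero]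
    refine hρ _ _ ?_
    rw [← reassoc_of% hℓ, Iso.inv_hom_id_assoc, cokernel.π_desc, hℓ0])
  let b : cokernel Ψ ⟶ cokernel α := cokernel.desc Ψ (cokernel.π ψ ≫ eG.inv ≫ cokernel.π α) ((h₁ _ _).2
    ⟨by rw [cokernel.condition_assoc, zero_comp], by
      rw [reassoc_of% hℓ, cokernel.condition, comp_zero, comp_zero, comp_zero]⟩)
  refine ⟨⟨a, b, ?_, ?_⟩⟩
  · rw [← cancel_epi (cokernel.π α), ← cancel_epi eG.inv, ← cancel_epi (cokernel.π ψ)]
    simp [a, b]
  · rw [← cancel_epi (cokernel.π Ψ)]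
    simp [a, b]

/-- Let (C, O) be a small ringed site with O commutative and B a set of objects of C such that every
object has a covering family by members of B and each member of B is quasi-compact (its sheaf h_U^#
is a quasi-compact object of the topos). If F and G are O-modules of the form Coker(⊕_{j≤m}
j_{V_j!}O_{V_j} → ⊕_{i≤n} j_{U_i!}O_{U_i}) with finitely many Uᵢ, Vⱼ in B, then so is the cokernel
of any morphism F → G. -/
theorem result {C : Type u} [SmallCategory C] {J : GrothendieckTopology C}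
    (O : Sheaf J CommRingCat.{u}) (B : Set C)
    (hB₁ : ∀ X : C, ∃ (κ : Type u) (Y : κ → C) (g : ∀ k, Y k ⟶ X), Sieve.ofArrows Y g ∈ J X ∧ ∀ k, Y k ∈ B)
    (hB₂ : ∀ U ∈ B, CohCx.IsQcObject ((presheafToSheaf J (Type u)).obj (yoneda.obj U))) (F G : ModSite.Mod O) (α : F ⟶ G)
    (hF : (∃ (m' n' : ℕ) (V' : Fin m' → C) (U' : Fin n' → C)
        (ψ : (∐ fun j => ModSite.freeOn O (V' j)) ⟶ ∐ fun i => ModSite.freeOn O (U' i)),
        (∀ j, V' j ∈ B) ∧ (∀ i, U' i ∈ B) ∧ Nonempty (F ≅ cokernel ψ)))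
    (hG : (∃ (m' n' : ℕ) (V' : Fin m' → C) (U' : Fin n' → C)
        (ψ : (∐ fun j => ModSite.freeOn O (V' j)) ⟶ ∐ fun i => ModSite.freeOn O (U' i)),
        (∀ j, V' j ∈ B) ∧ (∀ i, U' i ∈ B) ∧ Nonempty (G ≅ cokernel ψ))) :
    (∃ (m' n' : ℕ) (V' : Fin m' → C) (U' : Fin n' → C)
        (ψ : (∐ fun j => ModSite.freeOn O (V' j)) ⟶ ∐ fun i => ModSite.freeOn O (U' i)),
        (∀ j, V' j ∈ B) ∧ (∀ i, U' i ∈ B) ∧ Nonempty (cokernel α ≅ cokernel ψ)) := by
  obtain ⟨mF, nF, VF, UF, ψF, hVF, hUF, ⟨eF⟩⟩ := hF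
  obtain ⟨mG, nG, VG, UG, ψG, hVG, hUG, ⟨eG⟩⟩ := hG
  let π : (∐ fun i => ModSite.freeOn O (UG i)) ⟶ G := cokernel.π ψG ≫ eG.inv
  let s (i : Fin nF) := ModSiteLib.freeOnEquiv G (UF i)
    (Sigma.ι (fun i => ModSite.freeOn O (UF i)) i ≫ cokernel.π ψF ≫ eF.inv ≫ α)
  choose S hS hlift using fun i => loc_lift π (s i)
  choose κ hfin W g hW hgS hjs using fun i => exists_finite_refinement B hB₁ (hB₂ _ (hUF i)) (S i) (hS i)
  choose p hp using fun i k => hlift i (g i k) (hgS i k)
  let K := Fin mG ⊕ (Σ i, κ i)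
  let e : K ≃ Fin (Fintype.card K) := Fintype.equivFin K
  let V : K → C := Sum.elim VG fun a => W a.1 a.2
  let r : ∀ a : Σ i, κ i, ModSite.freeOn O (W a.1 a.2) ⟶ ∐ fun i => ModSite.freeOn O (UF i) := fun a =>
    (ModSiteLib.freeOnEquiv _ _).symm ((∐ fun i => ModSite.freeOn O (UF i)).val.map (g a.1 a.2).op
      (ModSiteLib.freeOnEquiv _ _ (Sigma.ι (fun i => ModSite.freeOn O (UF i)) a.1)))
  let l : ∀ a : Σ i, κ i, ModSite.freeOn O (W a.1 a.2) ⟶ ∐ fun i => ModSite.freeOn O (UG i) := fun a =>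
    (ModSiteLib.freeOnEquiv _ _).symm (p a.1 a.2)
  let χ : ∀ c : K, ModSite.freeOn O (V c) ⟶ ∐ fun i => ModSite.freeOn O (UG i) :=
    Sum.rec (fun j => Sigma.ι (fun j => ModSite.freeOn O (VG j)) j ≫ ψG) l
  refine ⟨Fintype.card K, nG, fun j => V (e.symm j), UG, Sigma.desc fun j => χ (e.symm j), fun j => ?_, hUG,
    cokernel_of_lifts α ψG eG ψF eF (Sigma.desc l) (Sigma.desc r) ?_ ?_ _ ?_⟩
  · show V (e.symm j) ∈ B
    generalize e.symm j = c
    rcases c with c | c
    · exact hVG c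
    · exact hW _ _
  · refine Sigma.hom_ext _ _ fun a => ?_
    rw [Sigma.ι_desc_assoc, Sigma.ι_desc_assoc]
    refine (ModSiteLib.freeOnEquiv _ _).injective ?_
    rw [ModSiteLib.freeOnEquiv_comp, ModSiteLib.freeOnEquiv_comp, Equiv.apply_symm_apply,
      Equiv.apply_symm_apply]
    refine (hp a.1 a.2).trans ?_
    refine ((congrArg (G.val.map (g a.1 a.2).op) (ModSiteLib.freeOnEquiv_comp (M := ∐ fun i => ModSite.freeOn O (UF i)) _
      (Sigma.ι (fun i => ModSite.freeOn O (UF i)) a.1) (cokernel.π ψF ≫ eF.inv ≫ α))).trans ?_)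
    exact (PresheafOfModules.naturality_apply (cokernel.π ψF ≫ eF.inv ≫ α).val (g a.1 a.2).op _).symm
  · intro M z hz
    refine Sigma.hom_ext _ _ fun i => (ModSiteLib.freeOnEquiv M (UF i)).injective ?_
    refine sec_ext_of_jointlySurjective M (g i) (hjs i) _ _ fun k => ?_
    have h := congrArg (fun t => ModSiteLib.freeOnEquiv M (W i k)
      (Sigma.ι (fun a : Σ i, κ i => ModSite.freeOn O (W a.1 a.2)) ⟨i, k⟩ ≫ t)) hz
    simp only [Sigma.ι_desc_assoc, comp_zero] at h
    rw [ModSiteLib.freeOnEquiv_comp, Equiv.apply_symm_apply] at h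
    rw [ModSiteLib.freeOnEquiv_comp]
    refine ((PresheafOfModules.naturality_apply z.val (g i k).op _).symm.trans h).trans ?_
    rw [comp_zero]
    have h0 : ∀ X : C, ModSiteLib.freeOnEquiv M X 0 = 0 := fun X => by
      have := ModSiteLib.freeOnEquiv_comp X (0 : ModSite.freeOn O X ⟶ M) (0 : M ⟶ M)
      rw [zero_comp] at this
      exact this
    rw [h0, h0, map_zero]
  · intro M z
    constructor
    · intro h
      have hc : ∀ c : K, χ c ≫ z = 0 := fun c => by
        have := congrArg (fun t => Sigma.ι (fun j => ModSite.freeOn O (V (e.symm j))) (e c) ≫ t) h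
        simp only [Sigma.ι_desc_assoc, comp_zero] at this
        exact (e.symm_apply_apply c) ▸ this
      refine ⟨Sigma.hom_ext _ _ fun j => ?_, Sigma.hom_ext _ _ fun a => ?_⟩
      · exact ((Category.assoc _ _ _).symm.trans (hc (.inl j))).trans comp_zero.symm
      · rw [Sigma.ι_desc_assoc, comp_zero]
        exact hc (.inr a)
    · rintro ⟨h₁, h₂⟩
      have hc : ∀ c : K, χ c ≫ z = 0 := by
        rintro (c | c)
        · exact (Category.assoc _ _ _).trans (by rw [h₁, comp_zero])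
        · have := congrArg (fun t => Sigma.ι (fun a : Σ i, κ i => ModSite.freeOn O (W a.1 a.2)) c ≫ t) h₂
          simp only [Sigma.ι_desc_assoc, comp_zero] at this
          exact this
      refine Sigma.hom_ext _ _ fun j => ?_
      rw [Sigma.ι_desc_assoc, comp_zero]
      exact hc _

end Groth.Agent.S9115
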