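import Groth.Statements.S9119
import Groth.Agent.ConstModLib.Basic

set_option autoImplicit false
universe u
open CategoryTheory Opposite
open CohSite

namespace Groth.Agent.S9119

/-- Let Λ be a coherent commutative ring, i.e. every finitely generated ideal of Λ is finitely presented
as a Λ-module, and let M be a flat Λ-module. Then for every object U the Λ-module M̲(U) of sections
over U of the constant sheaf on M is flat. -/
theorem result {C : Type u} [SmallCategory C] (J : GrothendieckTopology C)
    (Λ : Type u) [CommRing Λ] (hΛ : ∀ I : Ideal Λ, I.FG → Module.FinitePresentation Λ I)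
    (M : Type u) [AddCommGroup M] [Module Λ M] [Module.Flat Λ M] (U : C) :
    Module.Flat Λ (((constantSheaf J (ModuleCat.{u} Λ)).obj (ModuleCat.of Λ M)).obj.obj (op U)) := by
  refine Module.Flat.iff_lTensor_injective.2 fun I hI => ?_
  haveI := hΛ I hI
  have h := LinearMap.congr_fun (ConstModLib.cmp_natural J U M I.subtype)
  have hinj : Function.Injective (ConstModLib.cmp J U M Λ ∘ I.subtype.lTensor _) := by
    have e : (ConstModLib.cmp J U M Λ ∘ I.subtype.lTensor _) =
        (ConstModLib.mapΦ J U (X := ModuleCat.of Λ (TensorProduct Λ M I))
          (Y := ModuleCat.of Λ (TensorProduct Λ M Λ)) (I.subtype.lTensor M)) ∘ ConstModLib.cmp J U M I :=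
      funext fun x => (h x).symm
    rw [e]
    exact (ConstModLib.mapΦ_injective J U (X := ModuleCat.of Λ (TensorProduct Λ M I))
      (Y := ModuleCat.of Λ (TensorProduct Λ M Λ)) _
      (Module.Flat.lTensor_preserves_injective_linearMap _ Subtype.val_injective)).comp
      (ConstModLib.cmp_bijective J U M I).1
  exact hinj.of_comp

end Groth.Agent.S9119
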