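import Groth.Statements.S9121
import Mathlib.CategoryTheory.Sites.EpiMono
import Mathlib.CategoryTheory.Abelian.Exact
import Mathlib.Algebra.Category.Grp.Abelian
import Mathlib.CategoryTheory.Adjunction.Limits

set_option autoImplicit false
universe u
open CategoryTheory CategoryTheory.Limits
open CohSite

namespace Groth.Agent.S9121

/-- Part (1): for the morphism of topoi f : Sh(C) → Sh(D) attached to a continuous functor u : D ⥤ C
between small sites whose induced pullback of sheaves of sets is exact (f_* is restriction along u):
if f_* transforms epimorphisms of sheaves of sets into epimorphisms, then f_* on abelian sheaves is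
exact; being a right adjoint it preserves finite limits, and the statement is that it also preserves
finite colimits. -/
theorem result {C D : Type u} [SmallCategory C] [SmallCategory D]
    (J : GrothendieckTopology C) (K : GrothendieckTopology D) (u : D ⥤ C) [u.IsContinuous K J]
    [PreservesFiniteLimits (u.sheafPullback (Type u) K J)]
    [(u.sheafPushforwardContinuous (Type u) K J).PreservesEpimorphisms] :
    PreservesFiniteColimits (u.sheafPushforwardContinuous AddCommGrpCat.{u} K J) := by
  let push := u.sheafPushforwardContinuous AddCommGrpCat.{u} K J
  haveI : push.PreservesEpimorphisms := ⟨fun {G G'} φ _ => by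
    haveI := (Sheaf.isLocallySurjective_iff_epi' AddCommGrpCat.{u} φ).2 inferInstance
    let ψ := (sheafCompose J (forget AddCommGrpCat.{u})).map φ
    haveI : Sheaf.IsLocallySurjective ψ := (Presheaf.isLocallySurjective_iff_whisker_forget _ φ.hom).1 ‹_›
    haveI : Epi ψ := inferInstance
    haveI hE : Sheaf.IsLocallySurjective ((u.sheafPushforwardContinuous (Type u) K J).map ψ) :=
      (Sheaf.isLocallySurjective_iff_epi _).2 inferInstance
    refine (Sheaf.isLocallySurjective_iff_epi' AddCommGrpCat.{u} _).1 ?_
    exact (Presheaf.isLocallySurjective_iff_whisker_forget _ _).2 hE⟩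
  haveI : PreservesLimitsOfSize.{0, 0} push :=
    (u.sheafAdjunctionContinuous AddCommGrpCat.{u} K J).rightAdjoint_preservesLimits
  haveI : PreservesFiniteLimits push := PreservesLimitsOfSize.preservesFiniteLimits _
  haveI : push.Additive := { }
  haveI : push.PreservesHomology := Functor.preservesHomology_of_preservesEpis_and_kernels _
  exact push.preservesFiniteColimits_of_preservesHomology

end Groth.Agent.S9121
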