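import Groth.Statements.S9129
import Mathlib
import Groth.Agent.CMFlatLib.Open
-- import your own Groth.Agent.* helpers here

set_option autoImplicit false
universe u
open CAlg

namespace Groth.Agent.S9129

/-- Suppose R → S is a flat local homomorphism between Noetherian local rings, with R Cohen–Macaulay.
Assume either that S is finite over R or that the Krull dimension of S is at most that of R. Then
the two rings have equal dimension and S is itself Cohen–Macaulay. -/
theorem result (R S : Type u) [CommRing R] [CommRing S]
    [LocCoh.IsCohenMacaulayLocalRing R] [IsNoetherianRing S] [IsLocalRing S] [Algebra R S]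
    [IsLocalHom (algebraMap R S)] [Module.Flat R S]
    (h : Module.Finite R S ∨ ringKrullDim S ≤ ringKrullDim R) :
    LocCoh.IsCohenMacaulayLocalRing S ∧ ringKrullDim R = ringKrullDim S := by
  haveI : IsLocalRing (GorLib.Fib R S) := GorLib.isLocalRing_quotient (GorLib.map_maximalIdeal_ne_top R S)
  have hd := CatLib.ringKrullDim_eq_add_of_flat (A := R) (B := S)
  have hF0 : ringKrullDim (GorLib.Fib R S) = 0 := by
    rcases h with hfin | hle
    · letI := Ideal.Quotient.field (IsLocalRing.maximalIdeal R)
      haveI : Module.Finite R (GorLib.Fib R S) := inferInstance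
      haveI : Module.Finite (R ⧸ IsLocalRing.maximalIdeal R) (GorLib.Fib R S) :=
        Module.Finite.of_restrictScalars_finite R _ _
      haveI : IsArtinianRing (GorLib.Fib R S) := IsArtinianRing.of_finite (R ⧸ IsLocalRing.maximalIdeal R) _
      exact le_antisymm ((Ring.krullDimLE_iff (n := 0)).mp inferInstance) ringKrullDim_nonneg_of_nontrivial
    · obtain ⟨a, ha⟩ := CommAlgDim.exists_ringKrullDim_eq (R := R)
      obtain ⟨c, hc⟩ := CommAlgDim.exists_ringKrullDim_eq (R := GorLib.Fib R S)
      rw [hd, ha, show ringKrullDim (S ⧸ (IsLocalRing.maximalIdeal R).map (algebraMap R S)) = _ from hc] at hle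
      rw [hc]
      norm_cast at hle ⊢
      omega
  refine ⟨SMTLib.isCohenMacaulayLocalRing_of_isCM S ((CMFlatLib.isCM_flat_iff R S).mpr
    ⟨SMTLib.isCM_of_isCohenMacaulayLocalRing R, CatLib.isCM_of_hasSeqIn (CommAlgDim.hasSeqIn_zero _) hF0.le⟩), ?_⟩
  rw [hd, show ringKrullDim (S ⧸ (IsLocalRing.maximalIdeal R).map (algebraMap R S)) = 0 from hF0, add_zero]

end Groth.Agent.S9129
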