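import Groth.Statements.S9130
import Mathlib.RingTheory.Ideal.Height
import Groth.Agent.DimIneqLib.Basic


-- import your own Groth.Agent.* helpers here

set_option autoImplicit false
universe u
open CAlg

namespace Groth.Agent.S9130

/-- Let A ⊆ B be domains with B of finite type over A and A Noetherian, and assume every element of B is
algebraic over A. For a height-one prime p of A, only finitely many primes of B lie over p and each
of them has height one. (The published statement assumes that Frac(B) is finite over Frac(A); this
row assumes B algebraic over A, which is equivalent for a finite type extension of domains.) -/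
theorem result (A B : Type u) [CommRing A] [IsDomain A]
    [IsNoetherianRing A] [CommRing B] [IsDomain B] [Algebra A B] [FaithfulSMul A B]
    [Algebra.FiniteType A B] [Algebra.IsAlgebraic A B] (p : Ideal A) [p.IsPrime]
    (hp : p.height = 1) :
    (p.primesOver B).Finite ∧ ∀ q ∈ p.primesOver B, q.height = 1 := by
  have : IsNoetherianRing B := Algebra.FiniteType.isNoetherianRing A B
  have hh : ∀ q ∈ p.primesOver B, q.height = 1 := by
    intro q hq
    have := hq.1; have := hq.2
    refine le_antisymm ?_ ?_
    · have h1 := (le_add_right le_rfl).trans (DimIneqLib.main (R := A) (T := B) q p)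
      rwa [hp, DimIneqLib.tr_eq_zero, add_zero] at h1
    · rw [Order.one_le_iff_pos, pos_iff_ne_zero, Ne, Ideal.height_eq_zero_iff_eq_bot]
      intro hq0
      have hp0 : p = ⊥ := by
        rw [hq.2.over, hq0]
        exact Ideal.comap_bot_of_injective _ (FaithfulSMul.algebraMap_injective A B)
      rw [hp0, Ideal.height_bot] at hp
      exact zero_ne_one hp
  refine ⟨((Ideal.finite_minimalPrimes_of_isNoetherianRing B (p.map (algebraMap A B))).subset fun q hq => ?_), hh⟩
  have := hq.1; have := hq.2
  have hle : p.map (algebraMap A B) ≤ q := Ideal.map_le_iff_le_comap.2 hq.2.over.le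
  obtain ⟨q', hq', hq'le⟩ := Ideal.exists_minimalPrimes_le hle
  have : q'.IsPrime := hq'.1.1
  have hq'o : q' ∈ p.primesOver B := ⟨this, ⟨le_antisymm ((Ideal.map_le_iff_le_comap.1 hq'.1.2)) ((Ideal.comap_mono hq'le).trans hq.2.over.ge)⟩⟩
  rcases hq'le.lt_or_eq with hlt | heq
  · have h2 := Ideal.height_strict_mono_of_isPrime_of_isPrime hlt
    rw [hh q' hq'o, hh q hq] at h2
    exact absurd h2 (lt_irrefl _)
  · exact heq ▸ hq'

end Groth.Agent.S9130
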