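import Groth.Statements.S9131
import Mathlib.RingTheory.AdicCompletion.Exactness
import Mathlib.RingTheory.Flat.Equalizer
import Mathlib.LinearAlgebra.TensorProduct.Quotient
import Groth.Agent.ProjLib.ProjNil

set_option autoImplicit false
universe u
open CAlg

namespace Groth.Agent.S9131


section
variable {R : Type u} [CommRing R] {I : Ideal R} {K P M : Type u} [AddCommGroup K] [Module R K]
  [AddCommGroup P] [Module R P] [AddCommGroup M] [Module R M] {f : K →ₗ[R] P} {g : P →ₗ[R] M}

theorem mem_smul_top_of_map_mem [Module.Flat R M] (J : Ideal R) (hf : Function.Injective f)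
    (hg : Function.Surjective g) (hfg : Function.Exact f g) {k : K}
    (hk : f k ∈ (J • ⊤ : Submodule R P)) : k ∈ (J • ⊤ : Submodule R K) := by
  have hinj := LinearMap.lTensor_injective_of_exact_of_flat g hg f hf hfg (R ⧸ J)
  rw [← Submodule.Quotient.mk_eq_zero, ← TensorProduct.quotTensorEquivQuotSMul_mk_one_tmul] at hk ⊢
  rw [LinearEquiv.map_eq_zero_iff] at hk ⊢
  exact hinj (by rw [LinearMap.lTensor_tmul, map_zero, hk])

/-- Lifts of the projection `M → M/I^nM` to `P/I^nP`, one at a time. -/
theorem exists_next [Module.Flat R M] [Module.Projective (R ⧸ I) (M ⧸ (I • ⊤ : Submodule R M))]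
    (hg : Function.Surjective g) (n : ℕ) (s : M →ₗ[R] P ⧸ (I ^ n • ⊤ : Submodule R P))
    (hs : ∀ m, g.reduceModIdeal (I ^ n) (s m) = Submodule.Quotient.mk m) :
    ∃ t : M →ₗ[R] P ⧸ (I ^ (n + 1) • ⊤ : Submodule R P),
      (∀ m, g.reduceModIdeal (I ^ (n + 1)) (t m) = Submodule.Quotient.mk m) ∧
      ∀ m, AdicCompletion.transitionMap I P (Nat.le_succ n) (t m) = s m := by
  let φ := (AdicCompletion.transitionMap I P (Nat.le_succ n)).prod
    ((g.reduceModIdeal (I ^ (n + 1))).restrictScalars R)
  have hmem : ∀ m, (s m, (Submodule.Quotient.mk m : M ⧸ (I ^ (n + 1) • ⊤ : Submodule R M))) ∈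
      LinearMap.range φ := fun m => by
    obtain ⟨p, hp⟩ := Submodule.mkQ_surjective _ (s m)
    obtain ⟨p', hp'⟩ := hg m
    have h := hs m
    rw [← hp, Submodule.mkQ_apply, LinearMap.reduceModIdeal_apply, Submodule.Quotient.eq, ← hp',
      ← map_sub] at h
    have h1 : g (p - p') ∈ Submodule.map g (I ^ n • ⊤ : Submodule R P) := by
      rw [Submodule.map_smul'', Submodule.map_top, LinearMap.range_eq_top.2 hg]
      exact h
    obtain ⟨q, hq, hgq⟩ := h1
    refine ⟨Submodule.Quotient.mk (p - q), Prod.ext ?_ ?_⟩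
    · show Submodule.Quotient.mk (p - q) = s m
      rw [← hp, Submodule.mkQ_apply, Submodule.Quotient.eq]
      simpa using hq
    · show Submodule.Quotient.mk (g (p - q)) = _
      rw [map_sub, hgq, map_sub, sub_sub_cancel, hp']
  let f₀ : M →ₗ[R] LinearMap.range φ := LinearMap.codRestrict _ (s.prod (Submodule.mkQ _)) hmem
  obtain ⟨t, ht⟩ := ProjLib.exists_lift_of_flat_of_pow I (n + 1) M φ.rangeRestrict
    φ.surjective_rangeRestrict (fun j hj a => by
      obtain ⟨p, rfl⟩ := Submodule.mkQ_surjective _ a
      rw [← map_smul, Submodule.mkQ_apply, Submodule.Quotient.mk_eq_zero]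
      exact Submodule.smul_mem_smul hj trivial) f₀
  have ht' : ∀ m, φ (t m) = (s m, Submodule.Quotient.mk m) := fun m =>
    congrArg Subtype.val (LinearMap.congr_fun ht m)
  exact ⟨t, fun m => congrArg Prod.snd (ht' m), fun m => congrArg Prod.fst (ht' m)⟩

/-- A section of the completed map, given compatible sections at every level. -/
theorem exists_section (s : ∀ n, M →ₗ[R] P ⧸ (I ^ n • ⊤ : Submodule R P))
    (hs : ∀ n m, g.reduceModIdeal (I ^ n) (s n m) = Submodule.Quotient.mk m)
    (hc : ∀ n m, AdicCompletion.transitionMap I P (Nat.le_succ n) (s (n + 1) m) = s n m) :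
    ∃ t : AdicCompletion I M →ₗ[AdicCompletion I R] AdicCompletion I P,
      AdicCompletion.map I g ∘ₗ t = LinearMap.id := by
  have hker : ∀ n, (I ^ n • ⊤ : Submodule R M) ≤ LinearMap.ker (s n) := fun n => by
    rw [Submodule.smul_le]
    intro j hj m _
    obtain ⟨p, hp⟩ := Submodule.mkQ_surjective _ (s n m)
    rw [LinearMap.mem_ker, map_smul, ← hp, ← map_smul, Submodule.mkQ_apply, Submodule.Quotient.mk_eq_zero]
    exact Submodule.smul_mem_smul hj trivial
  let σ : ∀ n, M ⧸ (I ^ n • ⊤ : Submodule R M) →ₗ[R ⧸ I ^ n] P ⧸ (I ^ n • ⊤ : Submodule R P) :=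
    fun n => LinearMap.extendScalarsOfSurjective Ideal.Quotient.mk_surjective
      ((I ^ n • ⊤ : Submodule R M).liftQ (s n) (hker n))
  have hc' : ∀ {m n : ℕ} (h : m ≤ n) (x : M),
      AdicCompletion.transitionMap I P h (s n x) = s m x := by
    intro m n h x
    induction n, h using Nat.le_induction with
    | base =>
      obtain ⟨p, hp⟩ := Submodule.mkQ_surjective _ (s m x)
      rw [← hp]
      rfl
    | succ n h ih =>
      rw [← ih, ← hc n x]
      obtain ⟨p, hp⟩ := Submodule.mkQ_surjective _ (s (n + 1) x)
      rw [← hp]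
      rfl
  let T : AdicCompletion I M → AdicCompletion I P := fun x => ⟨fun n => σ n (x.val n), by
    intro m n h
    obtain ⟨z, hz⟩ := Submodule.mkQ_surjective _ (x.val n)
    have hx := x.property h
    rw [← hz] at hx
    show AdicCompletion.transitionMap I P h (σ n (x.val n)) = σ m (x.val m)
    rw [← hx, ← hz]
    exact hc' h z⟩
  refine ⟨{ toFun := T, map_add' := fun x y => ?_, map_smul' := fun r x => ?_ }, ?_⟩
  · exact AdicCompletion.ext fun n => (σ n).map_add _ _
  · refine AdicCompletion.ext fun n => ?_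
    show σ n (r.val n • x.val n) = r.val n • σ n (x.val n)
    rw [AdicCompletion.val_smul_eq_evalₐ_smul, AdicCompletion.val_smul_eq_evalₐ_smul, map_smul]
  · refine LinearMap.ext fun x => AdicCompletion.ext fun n => ?_
    show g.reduceModIdeal (I ^ n) (σ n (x.val n)) = x.val n
    obtain ⟨z, hz⟩ := Submodule.mkQ_surjective _ (x.val n)
    rw [← hz]
    exact hs n z

end

/-- Let R be a ring, I an ideal, and 0 → K → P → M → 0 a short exact sequence of R-modules with M flat
over R and M/IM projective over R/I. Then the induced sequence of I-adic completions is split short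
exact: the map on completions of K → P is injective, the sequence is exact in the middle, and the
map on completions of P → M has a section linear over the completion of R (so it is surjective). -/
theorem result (R : Type u) [CommRing R] (I : Ideal R)
    (K P M : Type u) [AddCommGroup K] [Module R K] [AddCommGroup P] [Module R P]
    [AddCommGroup M] [Module R M] (f : K →ₗ[R] P) (g : P →ₗ[R] M)
    (hf : Function.Injective f) (hg : Function.Surjective g) (hfg : Function.Exact f g)
    [Module.Flat R M] [Module.Projective (R ⧸ I) (M ⧸ (I • ⊤ : Submodule R M))] :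
    Function.Injective (AdicCompletion.map I f) ∧
      Function.Exact (AdicCompletion.map I f) (AdicCompletion.map I g) ∧
      ∃ s : AdicCompletion I M →ₗ[AdicCompletion I R] AdicCompletion I P,
        AdicCompletion.map I g ∘ₗ s = LinearMap.id := by
  classical
  refine ⟨?_, ?_, ?_⟩
  · rw [injective_iff_map_eq_zero]
    intro x hx
    refine AdicCompletion.ext fun n => ?_
    obtain ⟨k, hk⟩ := Submodule.mkQ_surjective _ (x.val n)
    have h := congrArg (fun z => z.val n) hx
    rw [← hk]
    simp only [AdicCompletion.map_val_apply, ← hk] at h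
    exact (Submodule.Quotient.mk_eq_zero _).2 (mem_smul_top_of_map_mem _ hf hg hfg
      ((Submodule.Quotient.mk_eq_zero _).1 h))
  · refine LinearMap.exact_of_comp_eq_zero_of_ker_le_range ?_ fun y hy => ?_
    · rw [AdicCompletion.map_comp, hfg.linearMap_comp_eq_zero, AdicCompletion.map_zero]
    · have hex : ∀ n, ∃ k : K, Submodule.Quotient.mk (f k) = y.val n := fun n => by
        obtain ⟨p, hp⟩ := Submodule.mkQ_surjective _ (y.val n)
        have h := congrArg (fun z => z.val n) (LinearMap.mem_ker.1 hy)
        simp only [AdicCompletion.map_val_apply, ← hp] at h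
        have h1 : g p ∈ Submodule.map g (I ^ n • ⊤ : Submodule R P) := by
          rw [Submodule.map_smul'', Submodule.map_top, LinearMap.range_eq_top.2 hg]
          exact (Submodule.Quotient.mk_eq_zero _).1 h
        obtain ⟨q, hq, hgq⟩ := h1
        obtain ⟨k, hk⟩ := (hfg (p - q)).1 (by rw [map_sub, hgq, sub_self])
        refine ⟨k, ?_⟩
        rw [← hp, hk, Submodule.mkQ_apply, Submodule.Quotient.eq]
        simpa using hq
      choose k hk using hex
      refine ⟨⟨fun n => Submodule.Quotient.mk (k n), ?_⟩, AdicCompletion.ext fun n => hk n⟩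
      intro m n h
      have h2 : Submodule.Quotient.mk (p := (I ^ m • ⊤ : Submodule R P)) (f (k n)) = Submodule.Quotient.mk (f (k m)) := by
        have h3 := y.property h
        rw [← hk n, ← hk m] at h3
        exact h3
      rw [Submodule.Quotient.eq, ← map_sub] at h2
      exact (Submodule.Quotient.eq _).2 (mem_smul_top_of_map_mem _ hf hg hfg h2)
  · have h0 : ∀ m : M, g.reduceModIdeal (I ^ 0) ((0 : M →ₗ[R] P ⧸ (I ^ 0 • ⊤ : Submodule R P)) m) =
        Submodule.Quotient.mk m := fun m => by
      rw [LinearMap.zero_apply, map_zero]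
      exact ((Submodule.Quotient.mk_eq_zero _).2 (by simp)).symm
    choose t ht htc using fun (n : ℕ) (s : {s : M →ₗ[R] P ⧸ (I ^ n • ⊤ : Submodule R P) //
        ∀ m, g.reduceModIdeal (I ^ n) (s m) = Submodule.Quotient.mk m}) => exists_next hg n s.1 s.2
    let S : ∀ n, {s : M →ₗ[R] P ⧸ (I ^ n • ⊤ : Submodule R P) //
        ∀ m, g.reduceModIdeal (I ^ n) (s m) = Submodule.Quotient.mk m} :=
      Nat.rec ⟨0, h0⟩ fun n s => ⟨t n s, ht n s⟩
    exact exists_section (fun n => (S n).1) (fun n => (S n).2) (fun n m => htc n (S n) m)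

end Groth.Agent.S9131
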