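import Groth.Statements.S9132
import Mathlib.RingTheory.Localization.Submodule
import Mathlib.RingTheory.Adjoin.FG
import Mathlib.RingTheory.EssentialFiniteness
import Mathlib.RingTheory.Ideal.KrullsHeightTheorem
import Mathlib.RingTheory.Localization.AsSubring
import Mathlib.RingTheory.Valuation.LocalSubring


-- import your own Groth.Agent.* helpers here

set_option autoImplicit false
universe u
open CAlg

namespace Groth.Agent.S9132

/-- A Noetherian local domain R that is not a field is dominated by a Noetherian local ring R' of
dimension one lying between R and its fraction field, with R' essentially of finite type over R. -/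
theorem result (R : Type u) [CommRing R] [IsDomain R]
    [IsNoetherianRing R] [IsLocalRing R] (hR : ¬ IsField R) :
    ∃ R' : Subalgebra R (FractionRing R), ∃ _ : IsLocalRing R',
      IsNoetherianRing R' ∧ ringKrullDim R' = 1 ∧ IsLocalHom (algebraMap R R') ∧
        Algebra.EssFiniteType R R' := by
  classical
  let K := FractionRing R
  obtain ⟨V, hV, hloc⟩ := IsLocalRing.exists_factor_valuationRing (algebraMap R K)
  let ι : R →+* V := (algebraMap R K).codRestrict V.toSubring hV
  have hιinj : ∀ r, ι r = 0 → r = 0 := fun r h => IsFractionRing.injective R K (by rw [map_zero]; exact congrArg Subtype.val h)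
  obtain ⟨t, ht⟩ := IsNoetherian.noetherian (IsLocalRing.maximalIdeal R)
  have hm0 : IsLocalRing.maximalIdeal R ≠ ⊥ := fun h => hR (IsLocalRing.isField_iff_maximalIdeal_eq.2 h)
  have hne : t.Nonempty := by
    rcases t.eq_empty_or_nonempty with h | h
    · exact absurd (by rw [← ht, h]; simp) hm0
    · exact h
  -- a generator of largest valuation
  obtain ⟨x, hxt, hxmax⟩ := t.exists_max_image (fun g => V.valuation (algebraMap R K g)) hne
  have hx0 : algebraMap R K x ≠ 0 := by
    intro h
    refine hm0 (eq_bot_iff.2 (ht ▸ Submodule.span_le.2 fun g hg => ?_))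
    have := hxmax g hg
    rw [h, map_zero, le_zero_iff, Valuation.zero_iff] at this
    exact Submodule.mem_bot R |>.2 (IsFractionRing.injective R K (this.trans (map_zero _).symm))
  have hxm : x ∈ IsLocalRing.maximalIdeal R := ht ▸ Submodule.subset_span hxt
  let B : Subalgebra R K := Algebra.adjoin R ((fun g => algebraMap R K g / algebraMap R K x) '' t)
  have hBV : ∀ b : B, (b : K) ∈ V := by
    rintro ⟨b, hb⟩
    induction hb using Algebra.adjoin_induction with
    | mem z hz =>
      obtain ⟨g, hg, rfl⟩ := hz
      rw [← V.valuation_le_one_iff, map_div₀]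
      exact div_le_one_of_le₀ (hxmax g hg) zero_le
    | algebraMap r => exact hV r
    | add a b _ _ ha hb => exact V.add_mem _ _ ha hb
    | mul a b _ _ ha hb => exact V.mul_mem _ _ ha hb
  let j : B →+* V := (B.val.toRingHom).codRestrict V.toSubring hBV
  let Q : Ideal B := (IsLocalRing.maximalIdeal V).comap j
  have hxQ : algebraMap R B x ∈ Q := by
    show j (algebraMap R B x) ∈ IsLocalRing.maximalIdeal V
    rw [IsLocalRing.mem_maximalIdeal]
    exact fun hu => (IsLocalRing.mem_maximalIdeal x).1 hxm (hloc.1 x hu)
  obtain ⟨P, hP, hPQ⟩ := Ideal.exists_minimalPrimes_le ((Ideal.span_singleton_le_iff_mem Q).2 hxQ)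
  have : P.IsPrime := hP.1.1
  have hBfg : Algebra.FiniteType R B := ⟨(Subalgebra.fg_top B).2 ⟨t.image _, by rw [Finset.coe_image]⟩⟩
  have : IsNoetherianRing B := Algebra.FiniteType.isNoetherianRing R B
  have hxP : algebraMap R B x ∈ P := hP.1.2 (Ideal.mem_span_singleton_self _)
  have hxB : algebraMap R B x ≠ 0 := fun h => hx0 (congrArg Subtype.val h)
  have hPh : P.height = 1 := le_antisymm
    (Ideal.height_le_one_of_isPrincipal_of_mem_minimalPrimes (Ideal.span {algebraMap R B x}) P hP)
    (by rw [Order.one_le_iff_pos, pos_iff_ne_zero, Ne, Ideal.height_eq_zero_iff_eq_bot]; exact fun h => hxB (h ▸ hxP : algebraMap R B x ∈ (⊥ : Ideal B)))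
  have : IsFractionRing B K := IsFractionRing.of_field B K fun z => by
    obtain ⟨a, b, -, rfl⟩ := IsFractionRing.div_surjective R z
    exact ⟨algebraMap R B a, algebraMap R B b, rfl⟩
  have hle : P.primeCompl ≤ nonZeroDivisors B := P.primeCompl_le_nonZeroDivisors
  let L : Subalgebra B K := Localization.subalgebra.ofField K P.primeCompl hle
  have hL : IsLocalization P.primeCompl L := Localization.subalgebra.isLocalization_ofField K P.primeCompl hle
  have hLl : IsLocalRing L := IsLocalization.AtPrime.isLocalRing L P
  refine ⟨L.restrictScalars R, hLl, IsLocalization.isNoetherianRing P.primeCompl L inferInstance, ?_, ?_, ?_⟩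
  · show ringKrullDim L = 1
    rw [IsLocalization.AtPrime.ringKrullDim_eq_height P L, hPh]; rfl
  · refine ⟨fun r hr => ?_⟩
    by_contra hru
    have hrm : r ∈ IsLocalRing.maximalIdeal R := (IsLocalRing.mem_maximalIdeal r).2 hru
    have hrP : algebraMap R B r ∈ P := by
      rw [← ht] at hrm
      refine (Submodule.span_le.2 (fun g hg => ?_) : Submodule.span R (t : Set R) ≤ P.comap (algebraMap R B)) hrm
      show algebraMap R B g ∈ P
      have hg' : algebraMap R K g / algebraMap R K x ∈ B := Algebra.subset_adjoin ⟨g, hg, rfl⟩
      rw [show algebraMap R B g = algebraMap R B x * ⟨_, hg'⟩ from Subtype.ext (mul_div_cancel₀ _ hx0).symm]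
      exact P.mul_mem_right _ hxP
    have : IsUnit (algebraMap B L (algebraMap R B r)) := hr
    exact (IsLocalization.AtPrime.isUnit_to_map_iff L P _).1 this hrP
  · have := Algebra.EssFiniteType.of_isLocalization L P.primeCompl (R := B)
    show Algebra.EssFiniteType R L
    exact Algebra.EssFiniteType.comp R B L

end Groth.Agent.S9132
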