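import Groth.Statements.S9133
import Groth.Agent.NormalLib.KrullAkizuki
import Mathlib.RingTheory.KrullDimension.Field
import Mathlib.Data.ENat.BigOperators
-- import your own Groth.Agent.* helpers here

set_option autoImplicit false
universe u
open CAlg

namespace Groth.Agent.S9133

/-- Let R → S be a homomorphism of domains compatible with field maps K → L of their fraction fields (so
R → S is injective), where R is Noetherian local of dimension one and L is finite over K. Then each
prime n of S whose contraction to R is the maximal ideal of R is a maximal ideal of S, only finitely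
many such n exist, and each quotient S/n is a finite R-module (its residue field is a finite
extension of that of R). -/
theorem result (R S K L : Type u)
    [CommRing R] [IsDomain R] [IsNoetherianRing R] [IsLocalRing R] (hdim : ringKrullDim R = 1)
    [CommRing S] [IsDomain S] [Algebra R S] [Field K] [Field L] [Algebra R K] [IsFractionRing R K]
    [Algebra S L] [IsFractionRing S L] [Algebra K L] [Algebra R L] [IsScalarTower R K L]
    [IsScalarTower R S L] [FiniteDimensional K L] :
    (∀ n ∈ (IsLocalRing.maximalIdeal R).primesOver S, n.IsMaximal) ∧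
      ((IsLocalRing.maximalIdeal R).primesOver S).Finite ∧
      ∀ n ∈ (IsLocalRing.maximalIdeal R).primesOver S, Module.Finite R (S ⧸ n) := by
  classical
  haveI : Ring.KrullDimLE 1 R := Ring.krullDimLE_iff.2 (by rw [hdim]; rfl)
  have hA : Function.Injective (algebraMap S L) := IsFractionRing.injective S L
  obtain ⟨x, hxm, hx⟩ : ∃ x ∈ IsLocalRing.maximalIdeal R, x ≠ 0 := by
    refine Submodule.exists_mem_ne_zero_of_ne_bot fun h => ?_
    have : IsField R := IsLocalRing.isField_iff_maximalIdeal_eq.2 h
    rw [ringKrullDim_eq_zero_of_isField this] at hdim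
    exact zero_ne_one hdim
  have hfl := NormalLib.isFiniteLength_quot K S hA hx
  let J : Ideal S := (Ideal.span {x}).map (algebraMap R S)
  let e : (S ⧸ (Ideal.span {x} • ⊤ : Submodule R S)) ≃ₗ[R] (S ⧸ J) :=
    (Submodule.quotEquivOfEq _ _ (Ideal.smul_top_eq_map _)).trans (Submodule.Quotient.restrictScalarsEquiv R J)
  obtain ⟨hN, hAr⟩ := isFiniteLength_iff_isNoetherian_isArtinian.1 hfl
  haveI : IsArtinian R (S ⧸ J) := isArtinian_of_linearEquiv e
  haveI : IsNoetherian R (S ⧸ J) := isNoetherian_of_linearEquiv e
  haveI : IsArtinianRing (S ⧸ J) := isArtinian_of_tower R inferInstance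
  have hJn : ∀ n ∈ (IsLocalRing.maximalIdeal R).primesOver S, J ≤ n := fun n hn => by
    rw [Ideal.map_le_iff_le_comap, Ideal.span_le, Set.singleton_subset_iff, SetLike.mem_coe]
    have : x ∈ n.under R := hn.2.over ▸ hxm
    exact this
  have hmax : ∀ n ∈ (IsLocalRing.maximalIdeal R).primesOver S, n.IsMaximal := fun n hn => by
    haveI := hn.1
    have hp : (n.map (Ideal.Quotient.mk J)).IsPrime :=
      Ideal.map_isPrime_of_surjective Ideal.Quotient.mk_surjective (by rw [Ideal.mk_ker]; exact hJn n hn)
    have hm := IsArtinianRing.isMaximal_of_isPrime (n.map (Ideal.Quotient.mk J))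
    have h := Ideal.comap_isMaximal_of_surjective (Ideal.Quotient.mk J) Ideal.Quotient.mk_surjective (K := n.map (Ideal.Quotient.mk J))
    rwa [Ideal.comap_map_of_surjective _ Ideal.Quotient.mk_surjective, ← RingHom.ker_eq_comap_bot, Ideal.mk_ker,
      sup_eq_left.2 (hJn n hn)] at h
  refine ⟨hmax, ?_, fun n hn => ?_⟩
  · refine Set.Finite.subset ((Set.finite_univ (α := MaximalSpectrum (S ⧸ J))).image
      fun q => q.asIdeal.comap (Ideal.Quotient.mk J)) fun n hn => ?_
    haveI := hn.1
    have hp : (n.map (Ideal.Quotient.mk J)).IsPrime :=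
      Ideal.map_isPrime_of_surjective Ideal.Quotient.mk_surjective (by rw [Ideal.mk_ker]; exact hJn n hn)
    refine ⟨⟨_, IsArtinianRing.isMaximal_of_isPrime (n.map (Ideal.Quotient.mk J))⟩, trivial, ?_⟩
    show (n.map (Ideal.Quotient.mk J)).comap (Ideal.Quotient.mk J) = n
    rw [Ideal.comap_map_of_surjective _ Ideal.Quotient.mk_surjective, ← RingHom.ker_eq_comap_bot, Ideal.mk_ker,
      sup_eq_left.2 (hJn n hn)]
  · exact Module.Finite.of_surjective ((Ideal.Quotient.factorₐ R (hJn n hn)).toLinearMap)
      (Ideal.Quotient.factor_surjective (hJn n hn))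

end Groth.Agent.S9133
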