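import Groth.Statements.S9134
import Groth.Agent.NormalLib.KrullAkizuki


-- import your own Groth.Agent.* helpers here

set_option autoImplicit false
universe u
open CAlg

namespace Groth.Agent.S9134

/-- Let R be a Noetherian domain of dimension one with fraction field K, M an R-submodule of K^r, and x
a nonzero element of R. Then M/xM has finite length over R. -/
theorem result (R : Type u) [CommRing R] [IsDomain R]
    [IsNoetherianRing R] (hdim : ringKrullDim R = 1) (K : Type u) [Field K] [Algebra R K]
    [IsFractionRing R K] (r : ℕ) (M : Submodule R (Fin r → K)) (x : R) (hx : x ≠ 0) :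
    Module.length R (M ⧸ (Ideal.span ({x} : Set R) • (⊤ : Submodule R M))) ≠ ⊤ := by
  have : Ring.KrullDimLE 1 R := (Ring.krullDimLE_iff).2 (by rw [hdim]; norm_num)
  refine ne_top_of_le_ne_top ?_ (NormalLib.length_quot_le_of_injective (R := R) (K := K) hx r M.subtype Subtype.val_injective)
  refine WithTop.mul_ne_top (ENat.natCast_ne_top r) ?_
  exact NormalLib.length_quotient_ne_top (by simpa [Ideal.span_singleton_eq_bot] using hx)

end Groth.Agent.S9134
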