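import Groth.Statements.S9135
import Mathlib.RingTheory.QuasiFinite.Basic
import Mathlib.RingTheory.Jacobson.Artinian
import Mathlib.RingTheory.LocalRing.ResidueField.Fiber
import Mathlib.RingTheory.Localization.Integral
import Mathlib.RingTheory.IntegralClosure.IsIntegralClosure.Basic
import Mathlib.RingTheory.Finiteness.Basic
import Mathlib.RingTheory.Ideal.MinimalPrime.Basic
import Mathlib.RingTheory.Localization.Away.Basic
import Mathlib.RingTheory.RingHom.FiniteType
-- import your own Groth.Agent.* helpers here

set_option autoImplicit false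
universe u
open CAlg

namespace Groth.Agent.S9135

/-- Let R → S be of finite type and p a minimal prime of R over which only finitely many primes of S
lie. Then for some g ∈ R outside p the localized map R_g → S_g is finite. -/
theorem result (R S : Type u) [CommRing R] [CommRing S]
    [Algebra R S] [Algebra.FiniteType R S] (p : Ideal R) (hp : p ∈ minimalPrimes R)
    (hfin : (p.primesOver S).Finite) :
    ∃ g : R, g ∉ p ∧ (Localization.awayMap (algebraMap R S) g).Finite := by
  classical
  haveI : p.IsPrime := hp.1.1
  haveI : Module.Finite p.ResidueField (p.Fiber S) := by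
    rw [Module.finite_iff_isArtinianRing, isArtinianRing_iff_isNoetherianRing_krullDimLE_zero]
    have : IsJacobsonRing (p.Fiber S) := isJacobsonRing_of_finiteType (A := p.ResidueField)
    have : Finite (PrimeSpectrum (p.Fiber S)) :=
      (PrimeSpectrum.primesOverOrderIsoFiber R S p).toEquiv.finite_iff.mp hfin.to_subtype
    exact ⟨Algebra.FiniteType.isNoetherianRing p.ResidueField _,
      (PrimeSpectrum.discreteTopology_iff_finite_and_krullDimLE_zero.mp inferInstance).right⟩
  have hint : ∀ y : S, ∃ g ∉ p, IsIntegral R (g • y) := by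
    intro y
    obtain ⟨P, hPm, hP⟩ := IsIntegral.of_finite p.ResidueField (Algebra.TensorProduct.includeRight y : p.Fiber S)
    obtain ⟨b, hb⟩ := IsLocalization.integerNormalization_map_to_map (nonZeroDivisors (R ⧸ p)) P
    let P₁ := IsLocalization.integerNormalization (nonZeroDivisors (R ⧸ p)) P
    obtain ⟨Q, hQ, hQd⟩ := Polynomial.mem_lifts_and_degree_eq (f := Ideal.Quotient.mk p) (p := P₁)
      ((Polynomial.mem_lifts _).2 (Polynomial.map_surjective _ Ideal.Quotient.mk_surjective P₁))
    have hb0 : algebraMap (R ⧸ p) p.ResidueField b ≠ 0 := fun h => nonZeroDivisors.coe_ne_zero b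
      (IsFractionRing.injective (R ⧸ p) p.ResidueField (h.trans (map_zero _).symm))
    have hP₁ : P₁ ≠ 0 := fun h => by
      change IsLocalization.integerNormalization (nonZeroDivisors (R ⧸ p)) P = 0 at h
      rw [h, Polynomial.map_zero] at hb
      refine hPm.ne_zero ((smul_eq_zero.1 ?_).resolve_left hb0)
      rw [algebraMap_smul]; exact hb.symm
    have hc : Q.leadingCoeff ∉ p := fun h => by
      apply hP₁
      rw [← Polynomial.leadingCoeff_eq_zero, Polynomial.leadingCoeff, ← hQ, Polynomial.coeff_map,
        Polynomial.natDegree_eq_of_degree_eq (hQ ▸ hQd.symm : (Q.map (Ideal.Quotient.mk p)).degree = Q.degree)]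
      exact Ideal.Quotient.eq_zero_iff_mem.2 h
    have hQ0 : (Algebra.TensorProduct.includeRight (Polynomial.aeval y Q) : p.Fiber S) = 0 := by
      have e : Q.map (algebraMap R p.ResidueField) = (b : R ⧸ p) • P := by
        rw [← hb, IsScalarTower.algebraMap_eq R (R ⧸ p) p.ResidueField, ← Polynomial.map_map]
        exact congrArg _ hQ
      rw [← Polynomial.aeval_algHom_apply, ← Polynomial.aeval_map_algebraMap p.ResidueField, e,
        ← algebraMap_smul p.ResidueField (b : R ⧸ p) P, map_smul, Polynomial.aeval_def, hP, smul_zero]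
    let M := Algebra.algebraMapSubmonoid S p.primeCompl
    have hnil : IsNilpotent (algebraMap S (Localization M) (Polynomial.aeval y Q)) := by
      rw [← mem_nilradical, nilradical_eq_sInf, Ideal.mem_sInf]
      intro q hq
      haveI : q.IsPrime := hq
      have hdis := ((IsLocalization.isPrime_iff_isPrime_disjoint M (Localization M) q).1 hq)
      let q' := q.comap (algebraMap S (Localization M))
      haveI : q'.IsPrime := hdis.1
      have hle : q'.comap (algebraMap R S) ≤ p := fun r hr => by
        by_contra hrp
        exact Set.disjoint_left.1 hdis.2 ⟨r, hrp, rfl⟩ hr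
      have heq : q'.comap (algebraMap R S) = p := le_antisymm hle (hp.2 ⟨Ideal.comap_isPrime _ _, bot_le⟩ hle)
      haveI : q'.LiesOver p := ⟨heq.symm⟩
      let φ : p.Fiber S →ₐ[R] q'.ResidueField := Algebra.TensorProduct.lift
        (Ideal.ResidueField.mapₐ p q' (Algebra.ofId R S) heq.symm) (IsScalarTower.toAlgHom R S q'.ResidueField) (fun _ _ => Commute.all _ _)
      have := congrArg φ hQ0
      rw [map_zero, Algebra.TensorProduct.includeRight_apply, Algebra.TensorProduct.lift_tmul, map_one, one_mul] at this
      show Polynomial.aeval y Q ∈ q'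
      exact Ideal.algebraMap_residueField_eq_zero.1 this
    obtain ⟨N, hN⟩ := hnil
    rw [← map_pow, IsLocalization.map_eq_zero_iff M (Localization M)] at hN
    obtain ⟨⟨_, t, ht, rfl⟩, htN⟩ := hN
    refine ⟨(Polynomial.C t * Q ^ N).leadingCoeff, ?_, isIntegral_leadingCoeff_smul _ _ ?_⟩
    · have h1 : Q.leadingCoeff ^ N ≠ 0 := fun h => hc (‹p.IsPrime›.mem_of_pow_mem N (h ▸ p.zero_mem))
      have h2 : t * Q.leadingCoeff ^ N ∉ p := fun h => (‹p.IsPrime›.mem_or_mem h).elim ht (fun h' => hc (‹p.IsPrime›.mem_of_pow_mem N h'))
      rw [Polynomial.leadingCoeff_mul', Polynomial.leadingCoeff_C, Polynomial.leadingCoeff_pow' h1]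
      · exact h2
      · rw [Polynomial.leadingCoeff_C, Polynomial.leadingCoeff_pow' h1]
        exact fun h => h2 (h ▸ p.zero_mem)
    · simpa using htN
  obtain ⟨G, hG⟩ := (Algebra.FiniteType.out : (⊤ : Subalgebra R S).FG)
  choose g hg hgi using hint
  let g₀ := ∏ y ∈ G, g y
  refine ⟨g₀, fun h => ?_, ?_⟩
  · obtain ⟨y, -, hy⟩ := ‹p.IsPrime›.prod_mem_iff.1 h
    exact hg y hy
  let A := Localization.Away g₀
  let B := Localization.Away (algebraMap R S g₀)
  let F := Localization.awayMap (algebraMap R S) g₀
  letI : Algebra A B := F.toAlgebra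
  haveI : IsScalarTower R A B := IsScalarTower.of_algebraMap_eq fun r => by
    rw [RingHom.algebraMap_toAlgebra, IsScalarTower.algebraMap_apply R S B]
    exact (IsLocalization.map_eq _ r).symm
  haveI : Algebra.FiniteType R B :=
    Algebra.FiniteType.trans (S := S) inferInstance (IsLocalization.finiteType_of_monoid_fg (Submonoid.powers (algebraMap R S g₀)) B)
  haveI : Algebra.FiniteType A B := Algebra.FiniteType.of_restrictScalars_finiteType R A B
  have hinv : (IsLocalization.Away.invSelf (algebraMap R S g₀) : B) = algebraMap A B (IsLocalization.Away.invSelf g₀) := by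
    have h1 : algebraMap S B (algebraMap R S g₀) * algebraMap A B (IsLocalization.Away.invSelf g₀) = 1 := by
      rw [← IsScalarTower.algebraMap_apply, IsScalarTower.algebraMap_apply R A B, ← map_mul, IsLocalization.Away.mul_invSelf, map_one]
    exact (left_inv_eq_right_inv ((mul_comm _ _).trans (IsLocalization.Away.mul_invSelf (algebraMap R S g₀))) h1)
  haveI : Algebra.IsIntegral A B := ⟨fun z => by
    obtain ⟨n, s, hs⟩ := IsLocalization.Away.surj (algebraMap R S g₀) z
    have hgen : ∀ y ∈ G, IsIntegral A (algebraMap S B y) := fun y hy => by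
      obtain ⟨d, hd⟩ := Finset.dvd_prod_of_mem g hy
      have h1 : IsIntegral A (algebraMap S B (g₀ • y)) := by
        rw [show g₀ • y = d • (g y • y) by rw [smul_smul, mul_comm, ← hd]]
        exact (((hgi y).smul d).map (IsScalarTower.toAlgHom R S B)).tower_top
      have h2 : algebraMap S B y = algebraMap A B (IsLocalization.Away.invSelf g₀) * algebraMap S B (g₀ • y) := by
        rw [Algebra.smul_def, map_mul, ← mul_assoc, ← IsScalarTower.algebraMap_apply, IsScalarTower.algebraMap_apply R A B,
          ← map_mul, mul_comm (IsLocalization.Away.invSelf g₀), IsLocalization.Away.mul_invSelf, map_one, one_mul]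
      rw [h2]
      exact isIntegral_algebraMap.mul h1
    have hall : ∀ s : S, IsIntegral A (algebraMap S B s) := fun s => by
      have : Algebra.adjoin R (G : Set S) ≤ ((integralClosure A B).restrictScalars R).comap (IsScalarTower.toAlgHom R S B) :=
        Algebra.adjoin_le fun y hy => hgen y hy
      exact this (hG ▸ Algebra.mem_top)
    have hz : z = algebraMap S B s * (IsLocalization.Away.invSelf (algebraMap R S g₀) : B) ^ n := by
      rw [← hs, mul_assoc, ← mul_pow, IsLocalization.Away.mul_invSelf, one_pow, mul_one]
    rw [hz, hinv]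
    exact (hall s).mul (isIntegral_algebraMap.pow n)⟩
  show @Module.Finite A B _ _ Algebra.toModule
  exact Algebra.IsIntegral.finite

end Groth.Agent.S9135
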