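import Groth.Statements.S9136
import Groth.Agent.OrdSumLib.Basic

set_option autoImplicit false
set_option backward.isDefEq.respectTransparency false
set_option backward.isDefEq.respectTransparency.types false
universe u
open CAlg

namespace Groth.Agent.S9136

/-- Let A ⊆ B be a finite type extension of domains, A Noetherian local of dimension one, with
compatible fraction fields K ⊆ L and L finite over K. Then B has finitely many maximal ideals, and
for a nonzero x in the maximal ideal of A the sum over the maximal ideals m of B of (length of B/m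
over A, i.e. the residue degree) times (length of B_m / x B_m over B_m) is at most the degree of L
over K times the length of A/xA; equality holds exactly when B is a finite A-module. -/
theorem result (A B K L : Type u)
    [CommRing A] [IsDomain A] [IsNoetherianRing A] [IsLocalRing A] (hdim : ringKrullDim A = 1)
    [CommRing B] [IsDomain B] [Algebra A B] [FaithfulSMul A B] [Algebra.FiniteType A B]
    [Field K] [Field L] [Algebra A K] [IsFractionRing A K] [Algebra B L] [IsFractionRing B L]
    [Algebra K L] [Algebra A L] [IsScalarTower A K L] [IsScalarTower A B L] [FiniteDimensional K L]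
    (x : A) (hx : x ∈ IsLocalRing.maximalIdeal A) (hx0 : x ≠ 0) :
    Finite (MaximalSpectrum B) ∧
      (∑ᶠ m : MaximalSpectrum B,
          Module.length A (B ⧸ m.asIdeal) *
            Module.length (Localization.AtPrime m.asIdeal)
              (Localization.AtPrime m.asIdeal ⧸
                Ideal.span ({algebraMap A (Localization.AtPrime m.asIdeal) x} : Set _)) ≤
        (Module.finrank K L : ℕ∞) * Module.length A (A ⧸ Ideal.span ({x} : Set A))) ∧
      ((∑ᶠ m : MaximalSpectrum B,
          Module.length A (B ⧸ m.asIdeal) *
            Module.length (Localization.AtPrime m.asIdeal)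
              (Localization.AtPrime m.asIdeal ⧸
                Ideal.span ({algebraMap A (Localization.AtPrime m.asIdeal) x} : Set _)) =
        (Module.finrank K L : ℕ∞) * Module.length A (A ⧸ Ideal.span ({x} : Set A))) ↔ Module.Finite A B) := by
  classical
  haveI : Ring.KrullDimLE 1 A := Ring.krullDimLE_iff.mpr hdim.le
  have hjA : Function.Injective (algebraMap A B) := FaithfulSMul.algebraMap_injective A B
  have hjB : Function.Injective (algebraMap B L) := IsFractionRing.injective B L
  let xB : B := algebraMap A B x
  have hxB0 : xB ≠ 0 := (map_ne_zero_iff _ hjA).2 hx0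
  have hpow : ∀ a : A, a ≠ 0 → ∃ k : ℕ, ∃ c : A, x ^ k = a * c := by
    intro a ha
    have hr : x ∈ (Ideal.span {a}).radical := by
      rw [Ideal.radical_eq_sInf, Submodule.mem_sInf]
      rintro P ⟨hP, hPp⟩
      have hP0 : P ≠ ⊥ := fun h => ha (by
        have := hP (Ideal.mem_span_singleton_self a)
        rwa [h, Ideal.mem_bot] at this)
      haveI := hPp
      have hPm : Ideal.IsMaximal P := Ring.krullDimLE_one_iff_of_noZeroDivisors.mp inferInstance P hP0 hPp
      rw [IsLocalRing.eq_maximalIdeal hPm]
      exact hx
    obtain ⟨k, hk⟩ := hr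
    obtain ⟨c, hc⟩ := Ideal.mem_span_singleton'.1 hk
    exact ⟨k, c, by rw [← hc, mul_comm]⟩
  have hxm : ∀ m : MaximalSpectrum B, m.asIdeal ≠ ⊥ → xB ∈ m.asIdeal := by
    intro m hm
    obtain ⟨a, ha, ham⟩ := NormalLib.exists_algebraMap_mem (R := A) K (L := L) B hjB hm
    obtain ⟨k, c, hk⟩ := hpow a ha
    refine m.isMaximal.isPrime.mem_of_pow_mem k ?_
    show algebraMap A B x ^ k ∈ m.asIdeal
    rw [← map_pow, hk, map_mul]
    exact Ideal.mul_mem_right _ _ ham
  have hsub : (Ideal.span {x} • ⊤ : Submodule A B) = (Ideal.span {xB}).restrictScalars A := by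
    rw [Ideal.smul_top_eq_map, Ideal.map_span, Set.image_singleton]
  let N := B ⧸ Ideal.span {xB}
  let eN : (B ⧸ (Ideal.span {x} • ⊤ : Submodule A B)) ≃ₗ[A] N :=
    (Submodule.quotEquivOfEq _ _ hsub).trans (Submodule.Quotient.restrictScalarsEquiv A (Ideal.span {xB}))
  have hfinA : IsFiniteLength A N := by
    rw [← Module.length_ne_top_iff, ← eN.length_eq]
    exact Module.length_ne_top_iff.2 (NormalLib.isFiniteLength_quot (R := A) K (L := L) B hjB hx0)
  have hfinB : IsFiniteLength B N := by
    have h := isFiniteLength_iff_isNoetherian_isArtinian.1 hfinA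
    exact isFiniteLength_iff_isNoetherian_isArtinian.2 ⟨isNoetherian_of_tower A h.1, isArtinian_of_tower A h.2⟩
  haveI : IsArtinianRing N := by
    have h := (isFiniteLength_iff_isNoetherian_isArtinian.1 hfinA).2
    exact isArtinian_of_tower A h
  haveI hfinM : Finite (MaximalSpectrum B) := by
    let g : MaximalSpectrum B → Option (PrimeSpectrum N) := fun m =>
      if h : xB ∈ m.asIdeal then
        some ⟨m.asIdeal.map (Ideal.Quotient.mk (Ideal.span {xB})),
          haveI := m.isMaximal.isPrime
          Ideal.map_isPrime_of_surjective Ideal.Quotient.mk_surjective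
            (by rw [Ideal.mk_ker, Ideal.span_singleton_le_iff_mem]; exact h)⟩
      else none
    refine Finite.of_injective g fun a b hab => MaximalSpectrum.ext ?_
    simp only [g] at hab
    by_cases ha : xB ∈ a.asIdeal
    · by_cases hb : xB ∈ b.asIdeal
      · rw [dif_pos ha, dif_pos hb] at hab
        have h := congrArg (fun P : PrimeSpectrum N => P.asIdeal.comap (Ideal.Quotient.mk (Ideal.span {xB})))
          (Option.some.inj hab)
        simp only [Ideal.comap_map_of_surjective _ Ideal.Quotient.mk_surjective, ← RingHom.ker_eq_comap_bot,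
          Ideal.mk_ker] at h
        rwa [sup_eq_left.2 ((Ideal.span_singleton_le_iff_mem _).2 ha),
          sup_eq_left.2 ((Ideal.span_singleton_le_iff_mem _).2 hb)] at h
      · rw [dif_pos ha, dif_neg hb] at hab
        simp at hab
    · by_cases hb : xB ∈ b.asIdeal
      · rw [dif_neg ha, dif_pos hb] at hab
        simp at hab
      · by_contra hne
        have h1 : a.asIdeal = ⊥ := by_contra fun h => ha (hxm a h)
        have h2 : b.asIdeal = ⊥ := by_contra fun h => hb (hxm b h)
        exact hne (h1.trans h2.symm)
  haveI : Fintype (MaximalSpectrum B) := Fintype.ofFinite _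
  have hsum : (∑ᶠ m : MaximalSpectrum B,
      Module.length A (B ⧸ m.asIdeal) *
        Module.length (Localization.AtPrime m.asIdeal)
          (Localization.AtPrime m.asIdeal ⧸
            Ideal.span ({algebraMap A (Localization.AtPrime m.asIdeal) x} : Set _))) =
      Module.length A (B ⧸ (Ideal.span {x} • ⊤ : Submodule A B)) := by
    rw [finsum_eq_sum_of_fintype, eN.length_eq, OrdSumLib.length_eq_sum A N hfinB]
    refine Finset.sum_congr rfl fun m _ => ?_
    congr 1
    rw [TameLib.localizedQuot_length]
    exact (Submodule.quotEquivOfEq _ _ (by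
      rw [Ideal.map_span, Set.image_singleton, ← IsScalarTower.algebraMap_apply A B])).length_eq
  let n := Module.finrank K L
  let b := Module.finBasis K L
  let j : B →ₗ[A] (Fin n → K) :=
    (b.equivFun.toLinearMap.restrictScalars A).comp (IsScalarTower.toAlgHom A B L).toLinearMap
  have hj : Function.Injective j := b.equivFun.injective.comp hjB
  have hle := NormalLib.length_quot_le_of_injective K hx0 n j hj
  have hden : ∀ l : L, ∃ a : A, a ≠ 0 ∧ ∃ y : B, algebraMap B L y = algebraMap A L a * l := by
    intro l
    obtain ⟨y, s, hs, rfl⟩ := IsFractionRing.div_surjective B l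
    have hs0 : s ≠ 0 := nonZeroDivisors.ne_zero hs
    obtain ⟨a, ha, ham⟩ := NormalLib.exists_algebraMap_mem (R := A) K (L := L) B hjB
      (I := Ideal.span {s}) (by simpa [Ideal.span_singleton_eq_bot] using hs0)
    obtain ⟨c, hc⟩ := Ideal.mem_span_singleton'.1 ham
    refine ⟨a, ha, y * c, ?_⟩
    have hsL : algebraMap B L s ≠ 0 := (map_ne_zero_iff _ hjB).2 hs0
    rw [IsScalarTower.algebraMap_apply A B L, ← hc, map_mul, map_mul]
    field_simp
  choose a ha y hy using fun i => hden (b i)
  let ι : (Fin n → A) →ₗ[A] B := Fintype.linearCombination A y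
  have hli : LinearIndependent K fun i => algebraMap B L (y i) := by
    have h1 := b.linearIndependent.units_smul fun i => Units.mk0 (algebraMap A K (a i))
      ((map_ne_zero_iff _ (IsFractionRing.injective A K)).2 (ha i))
    convert h1 using 1
    funext i
    simp [hy i, Algebra.smul_def, ← IsScalarTower.algebraMap_apply A K L]
  have hιL : ∀ v, algebraMap B L (ι v) = ∑ i, algebraMap A K (v i) • algebraMap B L (y i) := by
    intro v
    simp [ι, Fintype.linearCombination_apply, map_sum, Algebra.smul_def, ← IsScalarTower.algebraMap_apply A K L,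
      ← IsScalarTower.algebraMap_apply A B L]
  have hι : Function.Injective ι := by
    rw [injective_iff_map_eq_zero]
    intro v hv
    funext i
    have h := Fintype.linearIndependent_iff.1 hli (fun i => algebraMap A K (v i)) (by rw [← hιL, hv, map_zero]) i
    exact (map_eq_zero_iff _ (IsFractionRing.injective A K)).1 h
  have hfull : ∀ z : B, ∃ c : A, c ≠ 0 ∧ c • z ∈ LinearMap.range ι := by
    intro z
    let bas := basisOfLinearIndependentOfCardEqFinrank' _ hli (by simp [n])
    obtain ⟨d, hd⟩ := IsLocalization.exist_integer_multiples_of_finite (nonZeroDivisors A) fun i =>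
      bas.repr (algebraMap B L z) i
    choose v hv using hd
    refine ⟨d, nonZeroDivisors.coe_ne_zero d, v, hjB ?_⟩
    rw [hιL]
    have hz := bas.sum_repr (algebraMap B L z)
    have hb : ∀ i, bas i = algebraMap B L (y i) := fun i => by
      simp [bas]
    simp only [hb] at hz
    rw [Algebra.smul_def, map_mul, ← IsScalarTower.algebraMap_apply A B L]
    conv_rhs => rw [← hz, Finset.mul_sum]
    refine Finset.sum_congr rfl fun i _ => ?_
    rw [hv i]
    simp [Algebra.smul_def, ← IsScalarTower.algebraMap_apply A K L, mul_assoc]
  have key : ∀ M : Submodule A B, M.FG → LinearMap.range ι ≤ M →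
      Module.length A (M ⧸ (Ideal.span {x} • ⊤ : Submodule A M)) = n * Module.length A (A ⧸ Ideal.span {x}) := by
    intro M hM hιM
    haveI : Module.Finite A M := Module.Finite.iff_fg.2 hM
    obtain ⟨S, hS⟩ := hM
    choose c hc hc' using hfull
    refine OrdSumLib.length_quot_eq hx0 (fun p q h => Subtype.ext ?_)
      (ι.codRestrict M fun v => hιM ⟨v, rfl⟩) (fun p q h => hι (congrArg Subtype.val h))
      (Finset.prod_ne_zero_iff.2 fun z (_ : z ∈ S) => hc z) fun m => ?_
    · have h' : algebraMap A B x * (p : B) = algebraMap A B x * (q : B) := by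
        rw [← Algebra.smul_def, ← Algebra.smul_def]
        exact congrArg Subtype.val h
      exact mul_left_cancel₀ hxB0 h'
    · have hm : (∏ z ∈ S, c z) • (m : B) ∈ LinearMap.range ι := by
        have : (m : B) ∈ Submodule.span A (S : Set B) := hS ▸ m.2
        revert this
        generalize (m : B) = w
        intro hw
        induction hw using Submodule.span_induction with
        | mem z hz =>
          rw [← Finset.mul_prod_erase S c hz, mul_comm, mul_smul]
          exact Submodule.smul_mem _ _ (hc' z)
        | zero => simp
        | add p q _ _ hp hq => rw [smul_add]; exact add_mem hp hq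
        | smul r p _ hp => rw [smul_comm]; exact Submodule.smul_mem _ r hp
      obtain ⟨v, hv⟩ := hm
      exact ⟨v, Subtype.ext hv⟩
  refine ⟨hfinM, hsum ▸ hle, ?_⟩
  rw [hsum]
  constructor
  · intro heq
    have hfl := isFiniteLength_iff_isNoetherian_isArtinian.1
      (NormalLib.isFiniteLength_quot (R := A) K (L := L) B hjB hx0)
    haveI := hfl.1
    obtain ⟨T, hT⟩ := IsNoetherian.noetherian (⊤ : Submodule A (B ⧸ (Ideal.span {x} • ⊤ : Submodule A B)))
    choose l hl using Submodule.Quotient.mk_surjective (Ideal.span {x} • ⊤ : Submodule A B)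
    let M : Submodule A B := LinearMap.range ι ⊔ Submodule.span A (T.image l : Set B)
    have hMfg : M.FG := (Module.Finite.iff_fg.1 inferInstance).sup (Submodule.fg_span (Finset.finite_toSet _))
    let φ : (M ⧸ (Ideal.span {x} • ⊤ : Submodule A M)) →ₗ[A] B ⧸ (Ideal.span {x} • ⊤ : Submodule A B) :=
      Submodule.mapQ _ _ M.subtype fun m hm => by
        rw [Submodule.mem_smul_top_iff] at hm
        exact Submodule.smul_mono le_rfl le_top hm
    have hφ : Function.Surjective φ := by
      rw [← LinearMap.range_eq_top, eq_top_iff, ← hT, Submodule.span_le]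
      intro q hq
      exact ⟨Submodule.Quotient.mk ⟨l q, Submodule.mem_sup_right
        (Submodule.subset_span (Finset.mem_coe.2 (Finset.mem_image_of_mem l hq)))⟩, hl q⟩
    have hlen := key M hMfg le_sup_left
    rw [← heq] at hlen
    have hinj : Function.Injective φ := by
      have h2 := Module.length_eq_add_of_exact (LinearMap.ker φ).subtype φ (Submodule.injective_subtype _) hφ
        (LinearMap.exact_subtype_ker_map φ)
      rw [hlen] at h2
      have hne := Module.length_ne_top_iff.2 (NormalLib.isFiniteLength_quot (R := A) K (L := L) B hjB hx0)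
      have h3 : (0 : ℕ∞) + _ = _ := (zero_add _).trans h2
      have h4 := WithTop.add_right_cancel hne h3
      rw [← LinearMap.ker_eq_bot]
      exact Submodule.subsingleton_iff_eq_bot.1 (Module.length_eq_zero_iff.1 h4.symm)
    have hcap : ∀ z : B, x • z ∈ M → z ∈ M := by
      intro z hz
      have h1 : φ (Submodule.Quotient.mk ⟨x • z, hz⟩) = 0 := by
        refine (Submodule.Quotient.mk_eq_zero _).2 ?_
        exact Submodule.smul_mem_smul (Ideal.mem_span_singleton_self x) trivial
      have h2 := (Submodule.Quotient.mk_eq_zero _).1 (hinj (h1.trans (map_zero φ).symm))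
      rw [Submodule.ideal_span_singleton_smul] at h2
      obtain ⟨w, -, hw⟩ := (Submodule.mem_smul_pointwise_iff_exists _ _ _).1 h2
      have h3 : xB * (w : B) = xB * z := by
        show algebraMap A B x * (w : B) = algebraMap A B x * z
        rw [← Algebra.smul_def, ← Algebra.smul_def]
        exact congrArg Subtype.val hw
      rw [← mul_left_cancel₀ hxB0 h3]
      exact w.2
    have hcapk : ∀ (k : ℕ) (z : B), x ^ k • z ∈ M → z ∈ M := by
      intro k
      induction k with
      | zero => intro z hz; simpa using hz
      | succ k ih => intro z hz; exact hcap z (ih _ (by rwa [smul_smul, ← pow_succ]))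
    have htop : M = ⊤ := eq_top_iff.2 fun z _ => by
      obtain ⟨c, hc, hcz⟩ := hfull z
      obtain ⟨k, e, hk⟩ := hpow c hc
      refine hcapk k z ?_
      rw [hk, mul_comm, mul_smul]
      exact M.smul_mem e (Submodule.mem_sup_left hcz)
    exact ⟨htop ▸ hMfg⟩
  · intro hfin
    haveI := hfin
    have h := key ⊤ (Module.Finite.fg_top) le_top
    rw [← h]
    exact ((Submodule.Quotient.equiv _ _ Submodule.topEquiv (by
      rw [Submodule.map_smul'', Submodule.map_top, LinearEquiv.range])).length_eq).symm
end Groth.Agent.S9136
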