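import Groth.Statements.S9137
import Mathlib
-- import your own Groth.Agent.* helpers here

set_option autoImplicit false
universe u
open CAlg

namespace Groth.Agent.S9137

section
open IsLocalRing

theorem finite_of_isFiniteLength (R : Type u) [CommRing R] {T : Type u} [CommRing T] [IsLocalRing T] [Algebra R T]
    [Module.Finite R (T ⧸ maximalIdeal T)] {M : Type u} [AddCommGroup M] [Module T M]
    (h : IsFiniteLength T M) : ∀ [Module R M] [IsScalarTower R T M], Module.Finite R M := by
  induction h with
  | of_subsingleton => intro _ _; infer_instance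
  | @of_simple_quotient M _ _ N _ _ ih =>
    intro _ _
    haveI : Module.Finite R N := ih
    haveI : Module.Finite R (M ⧸ N) := by
      obtain ⟨I, hI, ⟨e⟩⟩ := isSimpleModule_iff_quot_maximal.1 (inferInstance : IsSimpleModule T (M ⧸ N))
      obtain rfl : I = maximalIdeal T := eq_maximalIdeal hI
      exact Module.Finite.equiv (e.restrictScalars R).symm
    haveI : Module.Finite R (N.restrictScalars R) := ‹Module.Finite R N›
    haveI : Module.Finite R (M ⧸ N.restrictScalars R) :=
      Module.Finite.equiv (Submodule.Quotient.restrictScalarsEquiv R N).symm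
    exact Module.Finite.of_submodule_quotient (N.restrictScalars R)

theorem finite_quot {R S : Type u} [CommRing R] [CommRing S] [IsLocalRing R] [IsLocalRing S] [Algebra R S]
    [IsLocalHom (algebraMap R S)] [Algebra.EssFiniteType R S]
    (hres : Module.Finite (ResidueField R) (ResidueField S))
    (hdim : ringKrullDim (S ⧸ (maximalIdeal R).map (algebraMap R S)) = 0) :
    Module.Finite R (S ⧸ (maximalIdeal R).map (algebraMap R S)) := by
  let J := (maximalIdeal R).map (algebraMap R S)
  have hJ : J ≤ maximalIdeal S := IsLocalRing.map_maximalIdeal_le _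
  haveI : Nontrivial (S ⧸ J) := Ideal.Quotient.nontrivial_iff.2 (ne_top_of_le_ne_top (maximalIdeal.isMaximal S).ne_top hJ)
  haveI : IsLocalRing (S ⧸ J) := IsLocalRing.of_surjective' _ Ideal.Quotient.mk_surjective
  letI : Field (R ⧸ maximalIdeal R) := Ideal.Quotient.field _
  letI : Algebra (R ⧸ maximalIdeal R) (S ⧸ J) := Ideal.Quotient.algebraQuotientOfLEComap Ideal.le_comap_map
  haveI : IsScalarTower R (R ⧸ maximalIdeal R) (S ⧸ J) := IsScalarTower.of_algebraMap_eq fun x => rfl
  haveI : Algebra.EssFiniteType (R ⧸ maximalIdeal R) (S ⧸ J) := Algebra.EssFiniteType.of_comp R _ _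
  haveI : IsNoetherianRing (S ⧸ J) := Algebra.EssFiniteType.isNoetherianRing (R ⧸ maximalIdeal R) _
  haveI : Ring.KrullDimLE 0 (S ⧸ J) := Ring.krullDimLE_iff.mpr (le_of_eq (by exact_mod_cast hdim))
  haveI : IsArtinianRing (S ⧸ J) := isArtinianRing_iff_isNoetherianRing_krullDimLE_zero.2 ⟨inferInstance, inferInstance⟩
  haveI : Module.Finite R (ResidueField R) :=
    Module.Finite.of_surjective (Algebra.linearMap R (ResidueField R)) Ideal.Quotient.mk_surjective
  haveI : Module.Finite R (ResidueField S) := Module.Finite.trans (ResidueField R) (ResidueField S)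
  haveI : Module.Finite R (S ⧸ maximalIdeal S) := ‹Module.Finite R (ResidueField S)›
  haveI : Module.Finite R ((S ⧸ J) ⧸ maximalIdeal (S ⧸ J)) := by
    refine Module.Finite.of_surjective (R := R) ((Submodule.liftQ (maximalIdeal S)
      ((maximalIdeal (S ⧸ J)).mkQ.restrictScalars S ∘ₗ J.mkQ) ?_).restrictScalars R :
        (S ⧸ maximalIdeal S) →ₗ[R] (S ⧸ J) ⧸ maximalIdeal (S ⧸ J)) fun z => ?_
    · intro x hx
      exact (Submodule.Quotient.mk_eq_zero _).2 ((IsLocalRing.map_maximalIdeal_of_surjective
        (Ideal.Quotient.mk J) Ideal.Quotient.mk_surjective).le (Ideal.mem_map_of_mem _ hx))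
    · obtain ⟨z, rfl⟩ := Submodule.Quotient.mk_surjective _ z
      obtain ⟨z, rfl⟩ := Submodule.Quotient.mk_surjective _ z
      exact ⟨Submodule.Quotient.mk z, rfl⟩
  exact finite_of_isFiniteLength R (T := S ⧸ J)
    (isFiniteLength_iff_isNoetherian_isArtinian.2 ⟨inferInstance, inferInstance⟩)

end

/-- Let R → S be a local ring homomorphism between local rings, essentially of finite type, such that
the residue field of S is finite over that of R and S/m_R S has dimension zero. Then S is, as an
R-algebra, the localization of a finite R-algebra at a prime. -/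
theorem result (R S : Type u) [CommRing R] [CommRing S]
    [IsLocalRing R] [IsLocalRing S] [Algebra R S] [IsLocalHom (algebraMap R S)]
    [Algebra.EssFiniteType R S]
    (hres : Module.Finite (IsLocalRing.ResidueField R) (IsLocalRing.ResidueField S))
    (hdim : ringKrullDim (S ⧸ (IsLocalRing.maximalIdeal R).map (algebraMap R S)) = 0) :
    ∃ (S' : Type u) (_ : CommRing S') (_ : Algebra R S') (_ : Algebra S' S) (_ : IsScalarTower R S' S)
      (q : Ideal S') (_ : q.IsPrime), Module.Finite R S' ∧ IsLocalization.AtPrime S q := by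
  let A := Algebra.EssFiniteType.subalgebra R S
  let p : Ideal A := (IsLocalRing.maximalIdeal S).comap (algebraMap A S)
  have hM : Algebra.EssFiniteType.submonoid R S = p.primeCompl := by
    ext x
    exact ⟨fun h hx => (IsLocalRing.mem_maximalIdeal _).1 hx h,
      fun h => not_not.1 fun hu => h ((IsLocalRing.mem_maximalIdeal _).2 hu)⟩
  haveI hloc : IsLocalization.AtPrime S p := by
    have h : IsLocalization (Algebra.EssFiniteType.submonoid R S) S := inferInstance
    rwa [hM] at h
  haveI hfin := finite_quot hres hdim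
  have hpm : p.under R = IsLocalRing.maximalIdeal R := by
    ext r
    exact ⟨fun h => not_not.1 fun hr => (IsLocalRing.mem_maximalIdeal _).1 h
        ((IsLocalRing.notMem_maximalIdeal.1 hr).map (algebraMap R S)),
      fun h => IsLocalRing.map_maximalIdeal_le (algebraMap R S) (Ideal.mem_map_of_mem _ h)⟩
  haveI : Algebra.WeaklyQuasiFiniteAt R p := by
    rw [Algebra.weaklyQuasiFiniteAt_iff]
    let e : Localization.AtPrime p ≃ₐ[R] S := (IsLocalization.algEquiv p.primeCompl (Localization.AtPrime p) S).restrictScalars R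
    haveI : Algebra.QuasiFinite R (S ⧸ (IsLocalRing.maximalIdeal R).map (algebraMap R S)) := inferInstance
    refine (Algebra.QuasiFinite.iff_of_algEquiv (Ideal.quotientEquivAlg _ ((IsLocalRing.maximalIdeal R).map (algebraMap R S)) e ?_)).2
      inferInstance
    rw [hpm, Ideal.map_map]
    congr 1
    ext r
    exact (e.commutes r).symm
  obtain ⟨S', hS', r, hrp, hbij⟩ := Algebra.QuasiFiniteAt.exists_fg_and_exists_notMem_and_awayMap_bijective (R := R) p
  let φ : S' →+* S := (algebraMap A S).comp S'.val.toRingHom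
  letI : Algebra S' S := φ.toAlgebra
  haveI hst : IsScalarTower R S' S := IsScalarTower.of_algebraMap_eq fun x => rfl
  haveI : Module.Finite R S' := ⟨(Submodule.fg_top _).mpr hS'⟩
  have hdesc : ∀ a : A, ∃ k : ℕ, (r : A) ^ k * a ∈ S' := by
    intro a
    obtain ⟨z, hz⟩ := hbij.2 (algebraMap A (Localization.Away (S'.val.toRingHom r)) a)
    obtain ⟨⟨y, ⟨_, n, rfl⟩⟩, hy⟩ := IsLocalization.surj (Submonoid.powers r) z
    have h1 := congrArg (Localization.awayMap S'.val.toRingHom r) hy
    rw [map_mul, hz] at h1
    simp only [Localization.awayMap, IsLocalization.Away.map, IsLocalization.map_eq] at h1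
    rw [← map_mul] at h1
    obtain ⟨⟨_, m, rfl⟩, hm⟩ := (IsLocalization.eq_iff_exists (Submonoid.powers (S'.val.toRingHom r)) _).1 h1
    refine ⟨m + n, ?_⟩
    have h2 : (r : A) ^ (m + n) * a = (r : A) ^ m * (y : A) := by
      rw [pow_add, mul_assoc, mul_comm ((r : A) ^ n) a]
      simpa using hm
    rw [h2]
    exact mul_mem (pow_mem r.2 _) y.2
  refine ⟨S', inferInstance, inferInstance, φ.toAlgebra, hst, p.comap S'.val.toRingHom, Ideal.comap_isPrime _ _,
    inferInstance, ⟨?_, ?_, ?_⟩⟩
  · rintro ⟨y, hy⟩
    exact IsLocalization.map_units (M := p.primeCompl) S ⟨(y : A), hy⟩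
  · intro x
    obtain ⟨⟨a, s⟩, hx⟩ := IsLocalization.surj p.primeCompl x
    obtain ⟨k, hk⟩ := hdesc a
    obtain ⟨l, hl⟩ := hdesc s.1
    refine ⟨⟨⟨(r : A) ^ l * ((r : A) ^ k * a), mul_mem (pow_mem r.2 _) hk⟩, ⟨⟨(r : A) ^ k * ((r : A) ^ l * s.1), mul_mem (pow_mem r.2 _) hl⟩, ?_⟩⟩, ?_⟩
    · intro hmem
      rcases (inferInstance : p.IsPrime).mem_or_mem hmem with h | h
      · exact hrp (Ideal.IsPrime.mem_of_pow_mem inferInstance _ h)
      · rcases (inferInstance : p.IsPrime).mem_or_mem h with h | h
        · exact hrp (Ideal.IsPrime.mem_of_pow_mem inferInstance _ h)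
        · exact s.2 h
    · show x * algebraMap A S ((r : A) ^ k * ((r : A) ^ l * s.1)) = algebraMap A S ((r : A) ^ l * ((r : A) ^ k * a))
      rw [map_mul, map_mul, map_mul, map_mul, ← hx]
      ring
  · intro y z h
    obtain ⟨c, hc⟩ := (IsLocalization.eq_iff_exists p.primeCompl S).1 (h : algebraMap A S y = algebraMap A S z)
    obtain ⟨k, hk⟩ := hdesc c.1
    refine ⟨⟨⟨_, hk⟩, fun hmem => ?_⟩, Subtype.ext ?_⟩
    · rcases (inferInstance : p.IsPrime).mem_or_mem hmem with h | h
      · exact hrp (Ideal.IsPrime.mem_of_pow_mem inferInstance _ h)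
      · exact c.2 h
    · show (r : A) ^ k * c.1 * (y : A) = (r : A) ^ k * c.1 * (z : A)
      rw [mul_assoc, mul_assoc]
      exact congrArg _ hc

end Groth.Agent.S9137
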