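import Groth.Statements.S9138
import Groth.Agent.FComplLib.Stalk
import Groth.Agent.CompleteLib.Basic
import Mathlib.RingTheory.AdicCompletion.Completeness
import Mathlib.RingTheory.Artinian.Ring
import Mathlib.RingTheory.TensorProduct.Finite

set_option autoImplicit false
set_option backward.isDefEq.respectTransparency false
set_option backward.isDefEq.respectTransparency.types false
universe u
open CAlg

namespace Groth.Agent.S9138

open IsLocalRing TensorProduct in
lemma exists_pow_le {R S : Type u} [CommRing R] [CommRing S] [IsLocalRing R] [IsLocalRing S]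
    [Algebra R S]
    (hfib : Module.Finite (maximalIdeal R).ResidueField ((maximalIdeal R).Fiber S))
    (h : (maximalIdeal R).map (algebraMap R S) ≤ maximalIdeal S) :
    Module.Finite R (S ⧸ (maximalIdeal R).map (algebraMap R S)) ∧
      ∃ N : ℕ, maximalIdeal S ^ N ≤ (maximalIdeal R).map (algebraMap R S) := by
  set J := (maximalIdeal R).map (algebraMap R S) with hJ
  let m := maximalIdeal R
  let κ := m.ResidueField
  haveI : Nontrivial (S ⧸ J) :=
    Ideal.Quotient.nontrivial_iff.2 fun e => (maximalIdeal.isMaximal S).ne_top (top_le_iff.1 (e ▸ h))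
  let e := AlgEquiv.ofBijective (IsScalarTower.toAlgHom R (R ⧸ m) κ)
    (Ideal.bijective_algebraMap_quotient_residueField m)
  let γ : (R ⧸ m) →ₐ[R] (S ⧸ J) := Ideal.Quotient.liftₐ m (Algebra.ofId R (S ⧸ J)) fun r hr => by
    show algebraMap R (S ⧸ J) r = 0
    rw [IsScalarTower.algebraMap_apply R S (S ⧸ J)]
    exact Ideal.Quotient.eq_zero_iff_mem.2 (Ideal.mem_map_of_mem _ hr)
  let φ : m.Fiber S →ₐ[R] S ⧸ J :=
    Algebra.TensorProduct.lift (γ.comp e.symm.toAlgHom) (Ideal.Quotient.mkₐ R J)
      fun _ _ => Commute.all _ _
  have hφ : Function.Surjective φ := fun y => by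
    obtain ⟨s, rfl⟩ := Ideal.Quotient.mk_surjective y
    exact ⟨1 ⊗ₜ[R] s, by simp [φ]⟩
  haveI : Module.Finite R (m.Fiber S) := Module.Finite.trans κ _
  haveI : IsArtinianRing (m.Fiber S) := IsArtinianRing.of_finite κ _
  refine ⟨Module.Finite.of_surjective φ.toLinearMap hφ, ?_⟩
  haveI : IsArtinianRing (S ⧸ J) := hφ.isArtinianRing
  haveI : IsLocalRing (S ⧸ J) :=
    IsLocalRing.of_surjective' (Ideal.Quotient.mk J) Ideal.Quotient.mk_surjective
  obtain ⟨N, hN⟩ := IsArtinianRing.isNilpotent_jacobson_bot (R := S ⧸ J)
  refine ⟨N, fun s hs => Ideal.Quotient.eq_zero_iff_mem.1 ?_⟩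
  have h1 : (maximalIdeal S).map (Ideal.Quotient.mk J) ≤ Ideal.jacobson (⊥ : Ideal (S ⧸ J)) := by
    rw [IsLocalRing.jacobson_eq_maximalIdeal ⊥ bot_ne_top]
    refine Ideal.map_le_iff_le_comap.2 fun x hx => ?_
    rw [Ideal.mem_comap, mem_maximalIdeal]
    intro hu
    obtain ⟨y, hy⟩ := hu.exists_right_inv
    obtain ⟨y, rfl⟩ := Ideal.Quotient.mk_surjective y
    rw [← map_mul, ← map_one (Ideal.Quotient.mk J), Ideal.Quotient.eq] at hy
    have : (1 : S) ∈ maximalIdeal S := by
      simpa using sub_mem (Ideal.mul_mem_right y _ hx) (h hy)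
    exact (maximalIdeal.isMaximal S).ne_top ((Ideal.eq_top_iff_one _).2 this)
  have h2 := Ideal.pow_right_mono h1 N (Ideal.map_pow (Ideal.Quotient.mk J) (maximalIdeal S) N ▸
    Ideal.mem_map_of_mem _ hs)
  rw [hN] at h2
  exact h2

/-- Let R → S be a local ring homomorphism between local rings with finitely generated maximal ideals m
and n, such that S/mS is a finite-dimensional κ(m)-vector space. Then (1) the canonical ring map
from the mS-adic completion of S to the n-adic completion of S is bijective, and (2) the induced
ring map from the m-adic completion of R to the n-adic completion of S is finite. (The hypotheses h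
and h' record the inclusion mS ⊆ n, which holds for any local homomorphism; they are the arguments
the completion maps take.) -/
theorem result (R S : Type u) [CommRing R] [CommRing S]
    [IsLocalRing R] [IsLocalRing S] [Algebra R S] [IsLocalHom (algebraMap R S)]
    (hm : (IsLocalRing.maximalIdeal R).FG) (hn : (IsLocalRing.maximalIdeal S).FG)
    (hfib : Module.Finite (IsLocalRing.maximalIdeal R).ResidueField ((IsLocalRing.maximalIdeal R).Fiber S))
    (h : (IsLocalRing.maximalIdeal R).map (algebraMap R S) ≤ IsLocalRing.maximalIdeal S)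
    (h' : ((IsLocalRing.maximalIdeal R).map (algebraMap R S)).map (RingHom.id S) ≤ IsLocalRing.maximalIdeal S) :
    Function.Bijective (FSch.complMap ((IsLocalRing.maximalIdeal R).map (algebraMap R S))
        (IsLocalRing.maximalIdeal S) (RingHom.id S) h') ∧
      (FSch.complMap (IsLocalRing.maximalIdeal R) (IsLocalRing.maximalIdeal S) (algebraMap R S) h).Finite := by
  obtain ⟨hfinSJ, N₀, hN₀⟩ := exists_pow_le hfib h
  clear hfib
  generalize IsLocalRing.maximalIdeal S = n at *
  generalize IsLocalRing.maximalIdeal R = m at *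
  obtain ⟨N, hN1, hN⟩ : ∃ N, 1 ≤ N ∧ n ^ N ≤ (m.map (algebraMap R S)) :=
    ⟨N₀ + 1, by omega, (Ideal.pow_le_pow_right (by omega)).trans hN₀⟩
  refine ⟨?_, ?_⟩
  · have hpow : ∀ k, n ^ (N * k) ≤ (m.map (algebraMap R S)) ^ k := fun k => by
      rw [pow_mul]; exact Ideal.pow_right_mono hN k
    constructor
    · refine (injective_iff_map_eq_zero _).2 fun x hx => AdicCompletion.ext_evalₐ fun k => ?_
      rw [map_zero]
      obtain ⟨y, rfl⟩ := AdicCompletion.mk_surjective (m.map (algebraMap R S)) S x
      have h1 := congrArg (AdicCompletion.evalₐ n (N * k)) hx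
      rw [FComplLib.evalₐ_complMap, map_zero, AdicCompletion.evalₐ_mk, Ideal.quotientMap_mk,
        RingHom.id_apply, Ideal.Quotient.eq_zero_iff_mem] at h1
      have hle : k ≤ N * k := Nat.le_mul_of_pos_left k hN1
      rw [AdicCompletion.evalₐ_mk, Ideal.Quotient.eq_zero_iff_mem]
      have h3 := y.2 hle
      rw [SModEq.sub_mem, smul_eq_mul, Ideal.mul_top] at h3
      simpa using add_mem h3 (hpow k h1)
    · intro y
      let inv : AdicCompletion n S →+* AdicCompletion (m.map (algebraMap R S)) S :=
        AdicCompletion.liftRingHom (m.map (algebraMap R S))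
          (fun k => (Ideal.Quotient.factor (hpow k)).comp (AdicCompletion.evalₐ n (N * k)).toRingHom)
          (fun {a b} hab => by
            ext x
            obtain ⟨x, rfl⟩ := AdicCompletion.mk_surjective n S x
            simp only [RingHom.comp_apply, AlgHom.toRingHom_eq_coe, AlgHom.coe_toRingHom,
              AdicCompletion.evalₐ_mk, Ideal.Quotient.factorPow, Ideal.Quotient.factor_mk]
            rw [Ideal.Quotient.eq]
            have h3 := x.2 (Nat.mul_le_mul_left N hab)
            rw [SModEq.sub_mem, smul_eq_mul, Ideal.mul_top] at h3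
            have := hpow a h3
            rw [← neg_sub]
            exact neg_mem this)
      refine ⟨inv y, AdicCompletion.ext_evalₐ fun k => ?_⟩
      rw [FComplLib.evalₐ_complMap, AdicCompletion.evalₐ_liftRingHom]
      obtain ⟨x, rfl⟩ := AdicCompletion.mk_surjective n S y
      simp only [RingHom.comp_apply, AlgHom.toRingHom_eq_coe, AlgHom.coe_toRingHom,
        AdicCompletion.evalₐ_mk, Ideal.Quotient.factor_mk, Ideal.quotientMap_mk, RingHom.id_apply]
      rw [Ideal.Quotient.eq]
      have h3 := x.2 (Nat.le_mul_of_pos_left k hN1)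
      rw [SModEq.sub_mem, smul_eq_mul, Ideal.mul_top] at h3
      rw [← neg_sub]
      exact neg_mem h3
  · let ψ := FSch.complMap m n (algebraMap R S) h
    show RingHom.Finite ψ
    letI : Algebra (AdicCompletion m R) (AdicCompletion n S) := ψ.toAlgebra
    haveI : IsScalarTower R (AdicCompletion m R) (AdicCompletion n S) :=
      IsScalarTower.of_algebraMap_eq fun r => by
        show algebraMap R (AdicCompletion n S) r = ψ (algebraMap R (AdicCompletion m R) r)
        rw [FComplLib.complMap_algebraMap]
        exact IsScalarTower.algebraMap_apply R S (AdicCompletion n S) r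
    haveI := AdicCompletion.isAdicComplete (R := R) (M := R) (I := m) hm
    haveI : IsPrecomplete (m.map (algebraMap R (AdicCompletion m R))) (AdicCompletion m R) :=
      IsPrecomplete.map_algebraMap_iff.2 inferInstance
    haveI := AdicCompletion.isAdicComplete (R := S) (M := S) (I := n) hn
    haveI : IsHausdorff (m.map (algebraMap R (AdicCompletion m R))) (AdicCompletion n S) := by
      rw [IsHausdorff.map_algebraMap_iff]
      refine ⟨fun x hx => IsHausdorff.haus (I := n) inferInstance x fun k => ?_⟩
      have hk := hx k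
      rw [SModEq.sub_mem, sub_zero] at hk ⊢
      refine Submodule.smul_induction_on hk (fun r hr t _ => ?_) (fun a b => add_mem)
      rw [← IsScalarTower.algebraMap_smul S r t]
      refine Submodule.smul_mem_smul ?_ trivial
      have := Ideal.mem_map_of_mem (algebraMap R S) hr
      rw [Ideal.map_pow] at this
      exact Ideal.pow_right_mono h k this
    refine CompleteLib.finite_of_quotient_finite (I := m.map (algebraMap R (AdicCompletion m R))) ?_
    set Mq : Submodule (AdicCompletion m R) (AdicCompletion n S) :=
      m.map (algebraMap R (AdicCompletion m R)) • ⊤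
    let θ : S →ₗ[R] (AdicCompletion n S ⧸ Mq) :=
      (Mq.mkQ.restrictScalars R).comp (IsScalarTower.toAlgHom R S (AdicCompletion n S)).toLinearMap
    have hJMq : ∀ t ∈ ((m.map (algebraMap R S)) • ⊤ : Submodule S (AdicCompletion n S)), t ∈ Mq := by
      intro t ht
      refine Submodule.smul_induction_on ht (fun a ha w _ => ?_) (fun a b => add_mem)
      induction ha using Submodule.span_induction generalizing w with
      | mem a ha =>
        obtain ⟨r, hr, rfl⟩ := ha
        rw [IsScalarTower.algebraMap_smul, ← IsScalarTower.algebraMap_smul (AdicCompletion m R) r w]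
        exact Submodule.smul_mem_smul (Ideal.mem_map_of_mem _ hr) trivial
      | zero => rw [zero_smul]; exact zero_mem _
      | add a b _ _ ha hb => rw [add_smul]; exact add_mem (ha w trivial) (hb w trivial)
      | smul c a _ ha => rw [smul_eq_mul, mul_comm, mul_smul]; exact ha (c • w) trivial
    have hθJ : ((m.map (algebraMap R S)).restrictScalars R) ≤ LinearMap.ker θ := fun s hs => by
      show Mq.mkQ (algebraMap S (AdicCompletion n S) s) = 0
      rw [Submodule.mkQ_apply, Submodule.Quotient.mk_eq_zero, Algebra.algebraMap_eq_smul_one]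
      exact hJMq _ (Submodule.smul_mem_smul hs trivial)
    have hθs : Function.Surjective θ := fun q => by
      obtain ⟨t, rfl⟩ := Submodule.Quotient.mk_surjective _ q
      obtain ⟨s, hs⟩ := Ideal.Quotient.mk_surjective (AdicCompletion.evalₐ n N t)
      refine ⟨s, (Submodule.Quotient.eq _).2 (hJMq _ ?_)⟩
      refine Submodule.smul_mono hN le_rfl ?_
      rw [AdicCompletion.pow_smul_top_eq_ker_eval hn, LinearMap.mem_ker]
      have hle : (n ^ N : Ideal S) ≤ n ^ N • ⊤ := by rw [smul_eq_mul, Ideal.mul_top]
      rw [← AdicCompletion.factor_evalₐ_eq_eval n _ hle]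
      show Ideal.Quotient.factor hle (AdicCompletion.evalₐ n N (algebraMap S _ s - t)) = 0
      rw [map_sub, AlgHom.commutes, ← hs, Ideal.Quotient.algebraMap_eq, sub_self, map_zero]
    haveI : Module.Finite R (S ⧸ (m.map (algebraMap R S)).restrictScalars R) := hfinSJ
    haveI : Module.Finite R (AdicCompletion n S ⧸ Mq) :=
      Module.Finite.of_surjective (((m.map (algebraMap R S)).restrictScalars R).liftQ θ hθJ) fun q => by
        obtain ⟨s, rfl⟩ := hθs q
        exact ⟨Submodule.Quotient.mk s, rfl⟩
    exact Module.Finite.of_restrictScalars_finite R (AdicCompletion m R) _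

end Groth.Agent.S9138
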