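import Groth.Statements.S9139
import Mathlib.RingTheory.FiniteType
import Mathlib.RingTheory.Ideal.Operations
import Mathlib.RingTheory.Nilpotent.Lemmas
import Mathlib.RingTheory.Noetherian.Nilpotent
-- import your own Groth.Agent.* helpers here

set_option autoImplicit false
universe u
open CAlg

namespace Groth.Agent.S9139

/-- Let I be a locally nilpotent ideal of a ring R (every element of I is nilpotent) and S → S' a map of
R-algebras with S' of finite type over R. If S → S'/IS' is surjective then so is S → S'. -/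
theorem result (R S S' : Type u) [CommRing R] [CommRing S]
    [CommRing S'] [Algebra R S] [Algebra R S'] [Algebra.FiniteType R S'] (I : Ideal R)
    (hI : ∀ x ∈ I, IsNilpotent x) (f : S →ₐ[R] S')
    (hf : Function.Surjective ((Ideal.Quotient.mk (I.map (algebraMap R S'))).comp f.toRingHom)) :
    Function.Surjective f := by
  classical
  obtain ⟨G, hG⟩ := (inferInstance : Algebra.FiniteType R S').out
  have hmem : ∀ g : S', ∃ (s : S) (J : Ideal R), J.FG ∧ J ≤ I ∧ g - f s ∈ J.map (algebraMap R S') := by
    intro g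
    obtain ⟨s, hs⟩ := hf (Ideal.Quotient.mk _ g)
    have hd : g - f s ∈ I.map (algebraMap R S') := Ideal.Quotient.eq.mp hs.symm
    rw [Ideal.map, ← Set.image_eta (algebraMap R S' : R → S')] at hd
    obtain ⟨T, hT, hTm⟩ := Submodule.mem_span_finite_of_mem_span hd
    obtain ⟨U, hUI, rfl⟩ := Finset.subset_set_image_iff.mp hT
    refine ⟨s, Ideal.span (U : Set R), ⟨U, rfl⟩, Ideal.span_le.mpr hUI, ?_⟩
    rw [Ideal.map_span, ← Finset.coe_image]
    exact hTm
  choose σ J hJfg hJI hJ using hmem
  let J₀ : Ideal R := ⨆ g ∈ G, J g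
  have hJ₀ : J₀.FG := Submodule.fg_biSup G J fun g _ => hJfg g
  have hJ₀I : J₀ ≤ I := iSup₂_le fun g _ => hJI g
  obtain ⟨n, hn⟩ : IsNilpotent J₀ := (Ideal.FG.isNilpotent_iff_le_nilradical hJ₀).mpr fun x hx => hI x (hJ₀I hx)
  let T : Submodule R S' := Subalgebra.toSubmodule f.range
  let N : ℕ → Submodule R S' := fun k => T ⊔ (Ideal.map (algebraMap R S') (J₀ ^ k)).restrictScalars R
  have h1 : ∀ z, z ∈ N 1 := by
    let Q : Subalgebra R S' :=
      { carrier := {z | ∃ s, z - f s ∈ J₀.map (algebraMap R S')}
        mul_mem' := by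
          rintro a b ⟨s, hs⟩ ⟨t, ht⟩
          refine ⟨s * t, ?_⟩
          have : a * b - f (s * t) = (a - f s) * b + f s * (b - f t) := by rw [map_mul]; ring
          rw [this]
          exact add_mem (Ideal.mul_mem_right _ _ hs) (Ideal.mul_mem_left _ _ ht)
        add_mem' := by
          rintro a b ⟨s, hs⟩ ⟨t, ht⟩
          refine ⟨s + t, ?_⟩
          rw [map_add, add_sub_add_comm]
          exact add_mem hs ht
        algebraMap_mem' := fun r => ⟨algebraMap R S r, by simp⟩ }
    have hQ : Algebra.adjoin R (G : Set S') ≤ Q :=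
      Algebra.adjoin_le fun g hg => ⟨σ g, Ideal.map_mono (le_iSup₂_of_le g hg le_rfl) (hJ g)⟩
    intro z
    obtain ⟨s, hs⟩ := hQ (hG ▸ Algebra.mem_top : z ∈ Algebra.adjoin R (G : Set S'))
    exact Submodule.mem_sup.mpr ⟨f s, ⟨s, rfl⟩, z - f s, by rwa [Submodule.restrictScalars_mem, pow_one], by abel⟩
  have hstep : ∀ k, ∀ z, z ∈ N k := by
    intro k
    induction k with
    | zero =>
      intro z
      refine Submodule.mem_sup_right ?_
      rw [Submodule.restrictScalars_mem, pow_zero, Ideal.one_eq_top, Ideal.map_top]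
      trivial
    | succ k ih =>
      intro z
      obtain ⟨a, ha, b, hb, rfl⟩ := Submodule.mem_sup.mp (ih z)
      refine add_mem (Submodule.mem_sup_left ha) ?_
      rw [Submodule.restrictScalars_mem, Ideal.map] at hb
      suffices ∀ w, w * b ∈ N (k + 1) by simpa using this 1
      clear ha
      induction hb using Submodule.span_induction with
      | zero => intro w; rw [mul_zero]; exact zero_mem _
      | add u v _ _ hu hv => intro w; rw [mul_add]; exact add_mem (hu w) (hv w)
      | smul c u _ hu => intro w; rw [smul_eq_mul, ← mul_assoc]; exact hu _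
      | mem u hu =>
        obtain ⟨r, hr, rfl⟩ := hu
        intro w
        obtain ⟨a', ⟨s', rfl⟩, b', hb', rfl⟩ := Submodule.mem_sup.mp (h1 w)
        rw [add_mul]
        refine add_mem (Submodule.mem_sup_left ⟨s' * algebraMap R S r, by simp⟩) (Submodule.mem_sup_right ?_)
        rw [Submodule.restrictScalars_mem, pow_one] at hb'
        rw [Submodule.restrictScalars_mem, pow_succ', Ideal.map_mul]
        exact Ideal.mul_mem_mul hb' (Ideal.mem_map_of_mem _ hr)
  intro z
  have hz := hstep n z
  simp only [N, hn, Ideal.zero_eq_bot, Ideal.map_bot, Submodule.restrictScalars_bot, sup_bot_eq] at hz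
  exact hz

end Groth.Agent.S9139
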