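import Groth.Statements.S9140
import Mathlib.RingTheory.Flat.Equalizer
import Mathlib.RingTheory.FinitePresentation
import Mathlib.LinearAlgebra.TensorProduct.Quotient
import Mathlib.RingTheory.Nakayama
import Mathlib.RingTheory.Ideal.Operations
import Mathlib.RingTheory.FiniteType
-- import your own Groth.Agent.* helpers here

set_option autoImplicit false
universe u
open CAlg
open scoped TensorProduct

namespace Groth.Agent.S9140

/-- Let I be a locally nilpotent ideal of a ring R and S → S' a map of R-algebras with S of finite type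
over R and S' of finite presentation and flat over R. If the induced map S/IS → S'/IS' is bijective
(stated as: S → S'/IS' is surjective with kernel IS), then S → S' is bijective. -/
theorem result (R S S' : Type u)
    [CommRing R] [CommRing S] [CommRing S'] [Algebra R S] [Algebra R S'] [Algebra.FiniteType R S]
    [Algebra.FinitePresentation R S'] [Module.Flat R S'] (I : Ideal R) (hI : ∀ x ∈ I, IsNilpotent x)
    (f : S →ₐ[R] S')
    (hsurj : Function.Surjective ((Ideal.Quotient.mk (I.map (algebraMap R S'))).comp f.toRingHom))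
    (hker : ∀ s : S, f s ∈ I.map (algebraMap R S') → s ∈ I.map (algebraMap R S)) :
    Function.Bijective f := by
  classical
  obtain ⟨G, hG⟩ := (Algebra.FiniteType.out : (⊤ : Subalgebra R S').FG)
  have hy : ∀ y : S', ∃ s : S, y - f s ∈ I.map (algebraMap R S') := fun y => by
    obtain ⟨s, hs⟩ := hsurj (Ideal.Quotient.mk _ y)
    exact ⟨s, Ideal.Quotient.eq.1 hs.symm⟩
  choose σ hσ using hy
  have hT : ∀ y, ∃ T : Finset R, ↑T ⊆ (I : Set R) ∧ y - f (σ y) ∈ (Ideal.span (T : Set R)).map (algebraMap R S') := fun y => by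
    obtain ⟨U, hU, hmem⟩ := Submodule.mem_span_finite_of_mem_span (hσ y)
    obtain ⟨T, hTI, rfl⟩ := Finset.subset_set_image_iff.1 hU
    refine ⟨T, hTI, ?_⟩
    rw [Ideal.map_span]
    simpa using hmem
  choose T hTI hTy using hT
  let J := Ideal.span ((G.biUnion T : Finset R) : Set R)
  have hJ : J ≤ I := Ideal.span_le.2 fun x hx => by
    obtain ⟨y, -, hxy⟩ := Finset.mem_biUnion.1 hx
    exact hTI y hxy
  let J' := J.map (algebraMap R S')
  let P : Subalgebra R S' := (Subalgebra.map (Ideal.Quotient.mkₐ R J') f.range).comap (Ideal.Quotient.mkₐ R J')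
  have hP : P = ⊤ := by
    rw [eq_top_iff, ← hG, Algebra.adjoin_le_iff]
    intro y hy
    refine ⟨f (σ y), ⟨σ y, rfl⟩, ?_⟩
    refine (Ideal.Quotient.eq.2 ?_).symm
    exact Ideal.map_mono (Ideal.span_mono (by exact_mod_cast Finset.subset_biUnion_of_mem T hy)) (hTy y)
  have h1 : ∀ y : S', ∃ s, y - f s ∈ J' := fun y => by
    obtain ⟨_, ⟨s, rfl⟩, hs⟩ := (hP.ge (Algebra.mem_top (R := R) (x := y)) : y ∈ P)
    exact ⟨s, Ideal.Quotient.eq.1 hs.symm⟩
  have hn : ∀ n : ℕ, ∀ y : S', ∃ s, y - f s ∈ J' ^ n := by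
    intro n
    induction n with
    | zero => exact fun y => ⟨0, by simp⟩
    | succ n ih =>
      intro y
      obtain ⟨s, hs⟩ := ih y
      have hs' : y - f s ∈ (J ^ n • ⊤ : Submodule R S') := by
        rw [Ideal.smul_top_eq_map, Ideal.map_pow]; exact hs
      suffices ∀ z ∈ (J ^ n • ⊤ : Submodule R S'), ∃ t, z - f t ∈ J' ^ (n + 1) by
        obtain ⟨t, ht⟩ := this _ hs'
        exact ⟨s + t, by rw [map_add, ← sub_sub]; exact ht⟩
      intro z hz
      refine Submodule.smul_induction_on hz (fun a ha w _ => ?_) (fun u v ⟨p, hp⟩ ⟨q, hq⟩ => ⟨p + q, by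
        rw [map_add, add_sub_add_comm]; exact add_mem hp hq⟩)
      obtain ⟨t, ht⟩ := h1 w
      refine ⟨a • t, ?_⟩
      rw [map_smul, ← smul_sub, pow_succ, Algebra.smul_def]
      exact Ideal.mul_mem_mul (by rw [← Ideal.map_pow]; exact Ideal.mem_map_of_mem _ ha) ht
  have hnil : J' ≤ (⊥ : Ideal S').radical := by
    refine Ideal.map_le_iff_le_comap.2 fun x hx => ?_
    obtain ⟨m, hm⟩ := hI x (hJ hx)
    exact ⟨m, by rw [← map_pow, hm, map_zero]; exact zero_mem _⟩
  obtain ⟨m, hm⟩ := Ideal.exists_pow_le_of_le_radical_of_fg hnil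
    (Ideal.FG.map ⟨_, rfl⟩ _)
  have hf : Function.Surjective f := fun y => by
    obtain ⟨s, hs⟩ := hn m y
    exact ⟨s, (sub_eq_zero.1 ((Submodule.mem_bot _).1 (hm hs))).symm⟩
  refine ⟨?_, hf⟩
  -- injectivity
  let K := RingHom.ker f.toRingHom
  have hK : K.FG := by
    obtain ⟨n, g, hg⟩ := Algebra.FiniteType.iff_quotient_mvPolynomial''.1 ‹Algebra.FiniteType R S›
    have := Algebra.FinitePresentation.ker_fG_of_surjective (f.comp g) (hf.comp hg)
    have e : (RingHom.ker (f.comp g).toRingHom).map g.toRingHom = K := by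
      show (K.comap g.toRingHom).map g.toRingHom = K
      exact Ideal.map_comap_of_surjective _ hg K
    rw [← e]
    exact Ideal.FG.map this _
  have hIK : K ≤ I.map (algebraMap R S) • K := by
    intro x hx
    let KR : Submodule R S := K.restrictScalars R
    have hinj := LinearMap.lTensor_injective_of_exact_of_flat f.toLinearMap hf KR.subtype Subtype.val_injective
      (fun a => ⟨fun ha => ⟨⟨a, ha⟩, rfl⟩, by rintro ⟨b, rfl⟩; exact b.2⟩) (R ⧸ I)
    have h0 : (1 : R ⧸ I) ⊗ₜ[R] (⟨x, hx⟩ : KR) = 0 := by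
      apply hinj
      rw [LinearMap.lTensor_tmul, map_zero]
      refine (TensorProduct.quotTensorEquivQuotSMul S I).injective ?_
      rw [map_zero]
      show TensorProduct.quotTensorEquivQuotSMul S I (Ideal.Quotient.mk I 1 ⊗ₜ[R] x) = 0
      rw [TensorProduct.quotTensorEquivQuotSMul_mk_tmul, Submodule.Quotient.mk_eq_zero, one_smul, Ideal.smul_top_eq_map]
      exact hker x (by rw [show f x = 0 from hx]; exact zero_mem _)
    have h2 := congrArg (TensorProduct.quotTensorEquivQuotSMul KR I) h0
    rw [map_zero, show (1 : R ⧸ I) = Ideal.Quotient.mk I 1 from rfl, TensorProduct.quotTensorEquivQuotSMul_mk_tmul,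
      Submodule.Quotient.mk_eq_zero, one_smul] at h2
    have h3 : x ∈ Submodule.map KR.subtype (I • ⊤) := ⟨_, h2, rfl⟩
    rw [Submodule.map_smul'', Submodule.map_top, Submodule.range_subtype] at h3
    refine Submodule.smul_induction_on h3 (fun a ha w hw => ?_) (fun u v => add_mem)
    rw [← algebraMap_smul S a w]
    exact Submodule.smul_mem_smul (Ideal.mem_map_of_mem _ ha) (show w ∈ K from hw)
  have hjac : I.map (algebraMap R S) ≤ (⊥ : Ideal S).jacobson := by
    refine le_trans (Ideal.map_le_iff_le_comap.2 fun x hx => ?_) (Ideal.radical_le_jacobson)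
    obtain ⟨k, hk⟩ := hI x hx
    exact ⟨k, by rw [← map_pow, hk, map_zero]; exact zero_mem _⟩
  have hK0 : K = ⊥ := Submodule.eq_bot_of_le_smul_of_le_jacobson_bot _ K hK hIK hjac
  exact (RingHom.injective_iff_ker_eq_bot f.toRingHom).2 hK0

end Groth.Agent.S9140
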