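import Groth.Statements.S9149
import Groth.Agent.TransLib.SqExamples

set_option autoImplicit false
universe u
open Synt

namespace Groth.Agent.S9149

open Polynomial in
/-- A monic polynomial over a ring A splits into linear factors over some A-algebra A' that is syntomic,
finite free and faithfully flat over A. -/
theorem result (A : Type u) [CommRing A] (P : A[X]) (hP : P.Monic) :
    ∃ (A' : Type u) (_ : CommRing A') (_ : Algebra A A'),
      Synt.IsSyntomic A A' ∧ Module.Finite A A' ∧ Module.Free A A' ∧ Module.FaithfullyFlat A A' ∧
        ∃ s : Multiset A', P.map (algebraMap A A') = (s.map fun b => X - C b).prod := by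
  obtain ⟨C, _, _, g, hfin, hfree, hsq, hinj, s, hs⟩ :=
    TransLib.exists_splitting A P.natDegree A (TransLib.isSq_self A) Function.injective_id P hP rfl
  have hsyn := TransLib.isSyntomic_of_isSq hsq
  have := hsyn.1
  refine ⟨C, inferInstance, inferInstance, hsyn, hfin, hfree, TransLib.faithfullyFlat_of_finite hinj, s, ?_⟩
  rw [← hs, show g.toRingHom = algebraMap A C from RingHom.ext g.commutes]

end Groth.Agent.S9149
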