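import Groth.Statements.S9152
import Mathlib
import Groth.Agent.CMFlatLib.Open
-- import your own Groth.Agent.* helpers here

set_option autoImplicit false
universe u
open CAlg

namespace Groth.Agent.S9152

/-- The Cohen–Macaulay locus of a finite type algebra over a field is open. -/
theorem result (k S : Type u) [Field k] [CommRing S] [Algebra k S]
    [Algebra.FiniteType k S] :
    IsOpen {q : PrimeSpectrum S | LocCoh.IsCohenMacaulayLocalRing (Localization.AtPrime q.asIdeal)} := by
  classical
  haveI : IsNoetherianRing S := Algebra.FiniteType.isNoetherianRing k S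
  haveI : Algebra.FinitePresentation k S := (Algebra.FinitePresentation.of_finiteType).mp inferInstance
  convert CMFlatLib.isOpen_cmSet (R := k) (B := S) using 1
  ext q
  have hp : q.asIdeal.comap (algebraMap k S) = ⊥ :=
    (Ideal.eq_bot_or_top _).resolve_right (Ideal.IsPrime.ne_top inferInstance)
  have e : (Localization.AtPrime q.asIdeal ⧸
      (q.asIdeal.comap (algebraMap k S)).map (algebraMap k (Localization.AtPrime q.asIdeal))) ≃+*
      Localization.AtPrime q.asIdeal :=
    (Ideal.quotEquivOfEq (by rw [hp, Ideal.map_bot])).trans (RingEquiv.quotientBot _)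
  exact ⟨fun h => ⟨(FlatLib.mem_flatLocus_self_iff q).mpr inferInstance,
    (CMFlatLib.isCohenMacaulayLocalRing_congr e).mpr h⟩,
    fun h => (CMFlatLib.isCohenMacaulayLocalRing_congr e).mp h.2⟩

end Groth.Agent.S9152
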