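import Groth.Statements.S9153
import Groth.Agent.FibDimLib.Formula


-- import your own Groth.Agent.* helpers here

set_option autoImplicit false
universe u
open CAlg

namespace Groth.Agent.S9153

/-- In a polynomial ring in finitely many variables over a field, every saturated chain of primes
between two primes p ⊆ q has length equal to the difference of their heights (stated additively:
length + height p = height q). -/
theorem result (k : Type u) [Field k] (n : ℕ)
    (s : LTSeries (PrimeSpectrum (MvPolynomial (Fin n) k)))
    (hsat : ∀ i : Fin s.length, s (Fin.castSucc i) ⋖ s (Fin.succ i)) :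
    (s.length : ℕ∞) + s.head.asIdeal.height = s.last.asIdeal.height := by
  let S := MvPolynomial (Fin n) k
  have step : ∀ q q' : PrimeSpectrum S, q ⋖ q' → q'.asIdeal.height = q.asIdeal.height + 1 := by
    intro q q' h
    have hle : q.asIdeal ≤ q'.asIdeal := h.lt.le
    let P := q'.asIdeal.map (Ideal.Quotient.mk q.asIdeal)
    haveI : P.IsPrime := Ideal.map_isPrime_of_surjective Ideal.Quotient.mk_surjective (by rw [Ideal.mk_ker]; exact hle)
    have hP : P.height = 1 := by
      refine le_antisymm ?_ ?_
      · rw [show (1 : ℕ∞) = ((1 : ℕ) : ℕ∞) from rfl, Ideal.height_le_iff]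
        intro Q hQ hQP
        rw [Nat.cast_one, Order.lt_one_iff, Ideal.height_eq_zero_iff_eq_bot]
        by_contra hne
        let Q' : PrimeSpectrum S := ⟨Q.comap (Ideal.Quotient.mk q.asIdeal), inferInstance⟩
        have h1 : q < Q' := by
          refine lt_of_le_of_ne (show q.asIdeal ≤ Q'.asIdeal from Ideal.mk_ker.symm.le.trans (Ideal.comap_mono bot_le)) fun he => hne ?_
          have he' : q.asIdeal = Q.comap (Ideal.Quotient.mk q.asIdeal) := congrArg PrimeSpectrum.asIdeal he
          rw [← Ideal.map_comap_of_surjective _ Ideal.Quotient.mk_surjective Q, ← he', Ideal.map_quotient_self]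
        have h2 : Q' < q' := by
          have := Ideal.comap_mono (f := Ideal.Quotient.mk q.asIdeal) hQP.le
          rw [Ideal.comap_map_quotientMk, sup_eq_right.2 hle] at this
          refine lt_of_le_of_ne (show Q'.asIdeal ≤ q'.asIdeal from this) fun he => hQP.ne ?_
          have he' : Q.comap (Ideal.Quotient.mk q.asIdeal) = q'.asIdeal := congrArg PrimeSpectrum.asIdeal he
          rw [← Ideal.map_comap_of_surjective _ Ideal.Quotient.mk_surjective Q, he']
        exact h.2 h1 h2
      · rw [Order.one_le_iff_ne_zero, Ne, Ideal.height_eq_zero_iff_eq_bot]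
        intro he
        refine h.lt.ne (PrimeSpectrum.ext (le_antisymm hle ?_))
        have := congrArg (Ideal.comap (Ideal.Quotient.mk q.asIdeal)) he
        rw [Ideal.comap_map_quotientMk, sup_eq_right.2 hle, ← RingHom.ker_eq_comap_bot, Ideal.mk_ker] at this
        exact this.le
    have e1 := FibDimLib.ringKrullDim_quotient_add_height_affine k (S ⧸ q.asIdeal) P
    have e2 := FibDimLib.ringKrullDim_quotient_add_height_affine k S q.asIdeal
    have e3 := FibDimLib.ringKrullDim_quotient_add_height_affine k S q'.asIdeal
    rw [ringKrullDim_eq_of_ringEquiv (DoubleQuot.quotQuotEquivQuotOfLE hle), hP] at e1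
    rw [← e1, MvPolynomial.ringKrullDim_of_isNoetherianRing, ringKrullDim_eq_zero_of_field] at e2
    rw [MvPolynomial.ringKrullDim_of_isNoetherianRing, ringKrullDim_eq_zero_of_field] at e3
    obtain ⟨a, ha⟩ := ENat.ne_top_iff_exists.1 (Ideal.height_ne_top (I := q.asIdeal) q.2.ne_top)
    obtain ⟨b, hb⟩ := ENat.ne_top_iff_exists.1 (Ideal.height_ne_top (I := q'.asIdeal) q'.2.ne_top)
    rw [← ha] at e2
    rw [← hb] at e3
    haveI : Nontrivial (S ⧸ q'.asIdeal) := Ideal.Quotient.nontrivial_iff.2 q'.2.ne_top
    obtain ⟨d, hd⟩ := WithBot.ne_bot_iff_exists.1 (ne_bot_of_le_ne_bot WithBot.zero_ne_bot (ringKrullDim_nonneg_of_nontrivial (R := S ⧸ q'.asIdeal)))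
    rw [← hd] at e2 e3
    simp only [Nat.card_eq_fintype_card, Fintype.card_fin] at e2 e3
    rw [← ha, ← hb]
    cases d using ENat.recTopCoe with
    | top => simp only [← WithBot.coe_add, top_add] at e3; simp at e3; exact absurd e3.symm (WithBot.coe_injective.ne (ENat.natCast_ne_top n))
    | coe d =>
      have e2' : d + 1 + a = 0 + n := by exact_mod_cast e2
      have e3' : d + b = 0 + n := by exact_mod_cast e3
      exact_mod_cast (show b = a + 1 by omega)
  have key : ∀ i : Fin (s.length + 1), ((i : ℕ) : ℕ∞) + s.head.asIdeal.height = (s i).asIdeal.height := by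
    intro i
    induction i using Fin.induction with
    | zero => simp [RelSeries.head]
    | succ j ih => rw [step _ _ (hsat j), ← ih, Fin.val_succ, Fin.val_castSucc, Nat.cast_succ, add_right_comm]
  exact key (Fin.last _)

end Groth.Agent.S9153
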