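import Groth.Statements.S9155
import Mathlib
import Groth.Agent.DiffOp16.Basic

set_option autoImplicit false
universe u
open Diff16

namespace Groth.Agent.S9155

open DiffOp16Lib Diff16

variable (A B : Type u) [CommRing A] [CommRing B] [Algebra A B] (S : Submonoid B)
  (M N : Type u) [AddCommGroup M] [Module B M] [Module A M] [IsScalarTower A B M]
  [AddCommGroup N] [Module B N] [Module A N] [IsScalarTower A B N]

/-- The localization map, linear over the small ring. -/
noncomputable abbrev ι (M : Type u) [AddCommGroup M] [Module B M] [Module A M] [IsScalarTower A B M] :
    M →ₗ[A] LocalizedModule S M :=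
  (LocalizedModule.mkLinearMap S M).restrictScalars A

/-- `E` extends `D`. -/
def IsExt (k : ℕ) (D : M →ₗ[A] N) (E : LocalizedModule S M →ₗ[A] LocalizedModule S N) : Prop :=
  IsDiffOpLE A (Localization S) (LocalizedModule S M) (LocalizedModule S N) k E ∧
    E ∘ₗ ι A B S M = ι A B S N ∘ₗ D

variable {A B S M N}

theorem smul_mk_self (s : S) (m : M) :
    (s : B) • LocalizedModule.mk m s = LocalizedModule.mkLinearMap S M m := by
  rw [LocalizedModule.smul'_mk]
  exact LocalizedModule.mk_cancel s m

theorem mk_add_same (t : S) (a b : M) :
    LocalizedModule.mk (a + b) t = LocalizedModule.mk a t + LocalizedModule.mk b t := by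
  rw [LocalizedModule.mk_add_mk, ← smul_add, LocalizedModule.mk_cancel_common_left]

theorem commutator_sub (D D' : M →ₗ[A] N) (b : B) :
    commutator A B M N (D - D') b = commutator A B M N D b - commutator A B M N D' b := by
  ext m; simp only [commutator_apply, LinearMap.sub_apply, smul_sub]; abel

theorem isDiffOpLE_sub : ∀ {n : ℕ} {D E : M →ₗ[A] N},
    IsDiffOpLE A B M N n D → IsDiffOpLE A B M N n E → IsDiffOpLE A B M N n (D - E)
  | 0, D, E, hD, hE => fun b m => by simp [hD b m, hE b m, smul_sub]
  | n + 1, D, E, hD, hE => fun b => by rw [commutator_sub]; exact isDiffOpLE_sub (hD b) (hE b)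

theorem eq_zero_of_ext : ∀ (k : ℕ) (E : LocalizedModule S M →ₗ[A] LocalizedModule S N),
    IsDiffOpLE A (Localization S) (LocalizedModule S M) (LocalizedModule S N) k E →
    (∀ m, E (LocalizedModule.mkLinearMap S M m) = 0) → E = 0 := by
  intro k
  induction k with
  | zero =>
    intro E hE h0
    ext x
    induction x using LocalizedModule.induction_on with
    | h m s =>
      refine IsLocalizedModule.smul_injective (LocalizedModule.mkLinearMap S N) s ?_
      show (s : B) • E (LocalizedModule.mk m s) = (s : B) • (0 : LocalizedModule S N)
      rw [smul_zero, ← algebraMap_smul (Localization S) (s : B), ← hE, algebraMap_smul,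
        smul_mk_self, h0]
  | succ k ih =>
    intro E hE h0
    ext x
    induction x using LocalizedModule.induction_on with
    | h m s =>
      have hC := ih _ (hE (algebraMap B (Localization S) s)) fun m' => by
        rw [commutator_apply, algebraMap_smul, algebraMap_smul, ← map_smul, h0, h0, smul_zero, sub_zero]
      have h1 := LinearMap.congr_fun hC (LocalizedModule.mk m s)
      rw [commutator_apply, algebraMap_smul, algebraMap_smul, smul_mk_self, h0, zero_sub,
        LinearMap.zero_apply, neg_eq_zero] at h1
      refine IsLocalizedModule.smul_injective (LocalizedModule.mkLinearMap S N) s ?_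
      show (s : B) • E (LocalizedModule.mk m s) = (s : B) • (0 : LocalizedModule S N)
      rw [h1, smul_zero]

theorem IsExt.unique {k : ℕ} {D : M →ₗ[A] N} {E E' : LocalizedModule S M →ₗ[A] LocalizedModule S N}
    (h : IsExt A B S M N k D E) (h' : IsExt A B S M N k D E') : E = E' :=
  sub_eq_zero.1 (eq_zero_of_ext k _ (isDiffOpLE_sub h.1 h'.1) fun m => by
    rw [LinearMap.sub_apply, sub_eq_zero]
    exact LinearMap.congr_fun (h.2.trans h'.2.symm) m)

theorem exists_ext : ∀ (k : ℕ) (D : M →ₗ[A] N), IsDiffOpLE A B M N k D →
    ∃ E, IsExt A B S M N k D E := by
  intro k
  induction k with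
  | zero =>
    intro D hD
    let D' : M →ₗ[B] N := { toFun := D, map_add' := map_add D, map_smul' := hD }
    refine ⟨(LocalizedModule.map S D').restrictScalars A, fun b x => map_smul (LocalizedModule.map S D') b x,
      LinearMap.ext fun m => ?_⟩
    exact LocalizedModule.map_mk S D' m 1
  | succ k ih =>
    intro D hD
    choose C hC using fun b : B => ih _ (hD b)
    have hmul : ∀ b c : B, C (b * c) =
        C b ∘ₗ (LinearMap.lsmul (Localization S) (LocalizedModule S M)
          (algebraMap B (Localization S) c)).restrictScalars A +
          algebraMap B (Localization S) b • C c := fun b c => by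
      refine (hC (b * c)).unique ⟨isDiffOpLE_add (isDiffOpLE_lsmul_comp _ (hC b).1)
        (isDiffOpLE_smul _ (hC c).1), LinearMap.ext fun m => ?_⟩
      have h1 : ∀ b m, C b (LocalizedModule.mkLinearMap S M m) =
          LocalizedModule.mkLinearMap S N (commutator A B M N D b m) := fun b m =>
        LinearMap.congr_fun (hC b).2 m
      show C b (algebraMap B (Localization S) c • LocalizedModule.mkLinearMap S M m) +
          algebraMap B (Localization S) b • C c (LocalizedModule.mkLinearMap S M m) =
        LocalizedModule.mkLinearMap S N (commutator A B M N D (b * c) m)
      rw [algebraMap_smul, algebraMap_smul, ← map_smul (LocalizedModule.mkLinearMap S M), h1, h1,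
        ← map_smul, ← map_add, commutator_mul]
      rfl
    let val : M → S → LocalizedModule S N := fun m s =>
      (Localization.mk 1 s : Localization S) •
        (LocalizedModule.mkLinearMap S N (D m) - C s (LocalizedModule.mk m s))
    have hval : ∀ (m : M) (s t : S), val ((t : B) • m) (t * s) = val m s := by
      intro m s t
      have h1 : LocalizedModule.mk ((t : B) • m) (t * s) = LocalizedModule.mk m s :=
        LocalizedModule.mk_cancel_common_left t s m
      have h2 : C ((t : B) * s) (LocalizedModule.mk m s) =
          LocalizedModule.mkLinearMap S N (commutator A B M N D t m) +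
            (t : B) • C s (LocalizedModule.mk m s) := by
        rw [hmul, LinearMap.add_apply, LinearMap.comp_apply, LinearMap.smul_apply, algebraMap_smul]
        congr 1
        show C (t : B) (algebraMap B (Localization S) (s : B) • LocalizedModule.mk m s) = _
        rw [algebraMap_smul, smul_mk_self]
        exact LinearMap.congr_fun (hC t).2 m
      show (Localization.mk 1 (t * s) : Localization S) • _ = (Localization.mk 1 s : Localization S) • _
      rw [h1, Submonoid.coe_mul, h2]
      rw [show LocalizedModule.mkLinearMap S N (D ((t : B) • m)) -
          (LocalizedModule.mkLinearMap S N (commutator A B M N D t m) +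
            (t : B) • C s (LocalizedModule.mk m s)) =
          (t : B) • (LocalizedModule.mkLinearMap S N (D m) - C s (LocalizedModule.mk m s)) by
        rw [commutator_apply, map_sub, map_smul (LocalizedModule.mkLinearMap S N), smul_sub]; abel]
      rw [← algebraMap_smul (Localization S) (t : B), smul_smul]
      congr 1
      rw [← Localization.mk_one_eq_algebraMap, Localization.mk_mul, one_mul, mul_one,
        Localization.mk_eq_mk_iff, Localization.r_iff_exists]
      exact ⟨1, by simp [mul_comm]⟩
    have hwd : ∀ p q : M × S, p ≈ q → val p.1 p.2 = val q.1 q.2 := by
      rintro ⟨m, s⟩ ⟨m', s'⟩ ⟨u, hu⟩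
      change u • s' • m = u • s • m' at hu
      rw [← hval m s (u * s'), ← hval m' s' (u * s)]
      congr 1
      · simp only [Submonoid.coe_mul, mul_smul]
        exact hu
      · rw [mul_assoc, mul_assoc, mul_comm s' s]
    let E₀ : LocalizedModule S M → LocalizedModule S N := fun x =>
      LocalizedModule.liftOn x (fun p => val p.1 p.2) hwd
    have hE₀ : ∀ m s, E₀ (LocalizedModule.mk m s) = val m s := fun m s =>
      LocalizedModule.liftOn_mk hwd m s
    have hadd : ∀ x y, E₀ (x + y) = E₀ x + E₀ y := by
      intro x y
      induction x, y using LocalizedModule.induction_on₂ with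
      | h m m' s s' =>
        rw [LocalizedModule.mk_add_mk, hE₀, hE₀, hE₀, ← hval m s s', ← hval m' s' s, mul_comm s' s]
        simp only [val, Submonoid.smul_def, map_add, mk_add_same, smul_sub,
          smul_add]
        abel
    have hsmul : ∀ (a : A) x, E₀ (a • x) = a • E₀ x := by
      intro a x
      induction x using LocalizedModule.induction_on with
      | h m s =>
        have h1 : a • LocalizedModule.mk m s = LocalizedModule.mk (a • m) s := by
          rw [← algebraMap_smul B a (LocalizedModule.mk m s), LocalizedModule.smul'_mk, algebraMap_smul]
        rw [h1, hE₀, hE₀]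
        simp only [val, map_smul]
        rw [← h1, LinearMap.map_smul (C s), LinearMap.map_smul_of_tower (LocalizedModule.mkLinearMap S N),
          ← smul_sub, smul_comm]
    let E : LocalizedModule S M →ₗ[A] LocalizedModule S N :=
      { toFun := E₀, map_add' := hadd, map_smul' := hsmul }
    have hE : ∀ m s, E (LocalizedModule.mk m s) = val m s := hE₀
    have hEι : E ∘ₗ ι A B S M = ι A B S N ∘ₗ D := LinearMap.ext fun m => by
      show E (LocalizedModule.mk m 1) = LocalizedModule.mkLinearMap S N (D m)
      have h1 : C ((1 : S) : B) = 0 := by
        refine (hC _).unique ⟨isDiffOpLE_zero_map k, LinearMap.ext fun m' => ?_⟩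
        show (0 : LocalizedModule S N) = LocalizedModule.mkLinearMap S N _
        rw [commutator_apply, Submonoid.coe_one, one_smul, one_smul, sub_self, map_zero]
      rw [hE]
      show (Localization.mk 1 (1 : S) : Localization S) • _ = _
      rw [Localization.mk_one, h1, LinearMap.zero_apply, sub_zero, one_smul]
    have key : ∀ b : B, commutator A (Localization S) (LocalizedModule S M) (LocalizedModule S N) E
        (algebraMap B (Localization S) b) = C b := fun b => LinearMap.ext fun x => by
      induction x using LocalizedModule.induction_on with
      | h m s =>
        have h2 : commutator A (Localization S) (LocalizedModule S M) (LocalizedModule S N) (C b)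
              (algebraMap B (Localization S) (s : B)) =
            commutator A (Localization S) (LocalizedModule S M) (LocalizedModule S N) (C s)
              (algebraMap B (Localization S) b) := by
          match k, hC with
          | 0, hC => rw [commutator_eq_zero (hC b).1, commutator_eq_zero (hC s).1]
          | k + 1, hC =>
            refine sub_eq_zero.1 (eq_zero_of_ext k _ (isDiffOpLE_sub ((hC b).1 _) ((hC s).1 _)) fun m' => ?_)
            have hι : ∀ c m', C c (LocalizedModule.mkLinearMap S M m') =
                LocalizedModule.mkLinearMap S N (commutator A B M N D c m') := fun c m' =>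
              LinearMap.congr_fun (hC c).2 m'
            rw [LinearMap.sub_apply, commutator_apply, commutator_apply]
            simp only [algebraMap_smul, ← map_smul, hι]
            rw [← map_sub, ← map_sub, ← map_sub]
            convert map_zero (LocalizedModule.mkLinearMap S N)
            rw [commutator_apply, commutator_apply, commutator_apply, commutator_apply, smul_sub, smul_sub,
              smul_comm b (s : B) m', smul_comm b (s : B) (D m')]
            abel
        rw [commutator_apply, algebraMap_smul, algebraMap_smul, LocalizedModule.smul'_mk, hE, hE]
        have h3 := LinearMap.congr_fun h2 (LocalizedModule.mk m s)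
        rw [commutator_apply, commutator_apply, algebraMap_smul, algebraMap_smul, algebraMap_smul,
          algebraMap_smul, smul_mk_self, LocalizedModule.smul'_mk] at h3
        rw [show C b (LocalizedModule.mkLinearMap S M m) =
          LocalizedModule.mkLinearMap S N (commutator A B M N D b m) from
            LinearMap.congr_fun (hC b).2 m, commutator_apply, map_sub, map_smul (LocalizedModule.mkLinearMap S N)] at h3
        simp only [val]
        rw [smul_comm b (Localization.mk 1 s : Localization S), ← smul_sub]
        have h4 : LocalizedModule.mkLinearMap S N (D (b • m)) - C s (LocalizedModule.mk (b • m) s) -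
            b • (LocalizedModule.mkLinearMap S N (D m) - C s (LocalizedModule.mk m s)) =
            (s : B) • C b (LocalizedModule.mk m s) := by
          rw [smul_sub]
          linear_combination (norm := abel) h3
        rw [h4, ← algebraMap_smul (Localization S) (s : B), smul_smul,
          ← Localization.mk_one_eq_algebraMap, Localization.mk_mul, one_mul, mul_one,
          Localization.mk_self, one_smul]
    refine ⟨E, fun c => ?_, hEι⟩
    have hmem : ∀ b : B, IsDiffOpLE A (Localization S) (LocalizedModule S M) (LocalizedModule S N) k
        (commutator A (Localization S) (LocalizedModule S M) (LocalizedModule S N) E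
          (algebraMap B (Localization S) b)) := fun b => by rw [key]; exact (hC b).1
    induction c using Localization.induction_on with
    | _ y =>
      obtain ⟨b, s⟩ := y
      have hinv : (algebraMap B (Localization S) s) * (Localization.mk 1 s : Localization S) = 1 := by
        rw [← Localization.mk_one_eq_algebraMap, Localization.mk_mul, one_mul, mul_one, Localization.mk_self]
      have hc : IsDiffOpLE A (Localization S) (LocalizedModule S M) (LocalizedModule S N) k
          (commutator A (Localization S) (LocalizedModule S M) (LocalizedModule S N) E
            (Localization.mk 1 s : Localization S)) := by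
        have h0 := commutator_mul E (algebraMap B (Localization S) (s : B)) (Localization.mk 1 s)
        rw [hinv, show commutator A (Localization S) (LocalizedModule S M) (LocalizedModule S N) E 1 = 0
          from LinearMap.ext fun x => by simp [commutator_apply]] at h0
        have h5 := congrArg (fun F => (Localization.mk 1 s : Localization S) • F) h0
        simp only [smul_zero, smul_add, smul_smul, mul_comm (Localization.mk 1 s : Localization S), hinv,
          one_smul] at h5
        rw [eq_neg_of_add_eq_zero_right h5.symm, ← neg_smul]
        exact isDiffOpLE_smul _ (isDiffOpLE_lsmul_comp _ (hmem s))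
      rw [show (Localization.mk (b, s).1 (b, s).2 : Localization S) =
          algebraMap B (Localization S) b * Localization.mk 1 s by
        rw [← Localization.mk_one_eq_algebraMap, Localization.mk_mul, mul_one, one_mul], commutator_mul]
      exact isDiffOpLE_add (isDiffOpLE_lsmul_comp _ (hmem b)) (isDiffOpLE_smul _ hc)


/-- A differential operator of order at most k between modules over B (relative to A → B) has exactly
one extension to the localized modules over S⁻¹B that is again a differential operator of order at
most k (relative to A → S⁻¹B), compatible with the localization maps. -/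
theorem result (A B : Type u) [CommRing A] [CommRing B] [Algebra A B]
    (S : Submonoid B) (M N : Type u) [AddCommGroup M] [Module B M] [Module A M] [IsScalarTower A B M]
    [AddCommGroup N] [Module B N] [Module A N] [IsScalarTower A B N] (k : ℕ) (D : M →ₗ[A] N)
    (hD : Diff16.IsDiffOpLE A B M N k D) :
    ∃! E : LocalizedModule S M →ₗ[A] LocalizedModule S N,
      Diff16.IsDiffOpLE A (Localization S) (LocalizedModule S M) (LocalizedModule S N) k E ∧
        E ∘ₗ (LocalizedModule.mkLinearMap S M).restrictScalars A =
          (LocalizedModule.mkLinearMap S N).restrictScalars A ∘ₗ D := by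
  obtain ⟨E, hE⟩ := exists_ext k D hD
  exact ⟨E, hE, fun E' hE' => IsExt.unique hE' hE⟩

end Groth.Agent.S9155
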