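import Groth.Statements.S9157
import Mathlib.RingTheory.Localization.Finiteness
import Mathlib.RingTheory.Finiteness.Basic
import Mathlib.Algebra.Module.FinitePresentation
-- import your own Groth.Agent.* helpers here

set_option autoImplicit false
universe u
open CAlg

namespace Groth.Agent.S9157

/-- If the localization S⁻¹M of an R-module M is finitely presented over S⁻¹R, then some finitely
presented R-module M' maps to M inducing an isomorphism S⁻¹M' → S⁻¹M. -/
theorem result (R : Type u) [CommRing R] (S : Submonoid R)
    (M : Type u) [AddCommGroup M] [Module R M]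
    [Module.FinitePresentation (Localization S) (LocalizedModule S M)] :
    ∃ (M' : Type u) (_ : AddCommGroup M') (_ : Module R M') (φ : M' →ₗ[R] M),
      Module.FinitePresentation R M' ∧ Function.Bijective (LocalizedModule.map S φ) := by
  classical
  obtain ⟨T, hT⟩ := Module.finite_def.mp (inferInstance : Module.Finite (Localization S) (LocalizedModule S M))
  have hex : ∀ w : LocalizedModule S M, ∃ (m : M) (s : S), LocalizedModule.mk m s = w := fun w => by
    induction w using LocalizedModule.induction_on with
    | h m s => exact ⟨m, s, rfl⟩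
  choose m s hms using hex
  let F : (T → R) →ₗ[R] M := Fintype.linearCombination R (fun w : T => m w)
  have hFs : Function.Surjective (LocalizedModule.map S F) := by
    rw [← LinearMap.range_eq_top, eq_top_iff, ← hT, Submodule.span_le]
    intro w hw
    refine ⟨LocalizedModule.mk (Pi.single ⟨w, hw⟩ 1) (s w), ?_⟩
    rw [LocalizedModule.map_mk, show F (Pi.single ⟨w, hw⟩ 1) = m w by simp [F, Fintype.linearCombination_apply_single], hms]
  haveI : Module.Finite (Localization S) (LocalizedModule S (T → R)) :=
    Module.Finite.of_isLocalizedModule S (LocalizedModule.mkLinearMap S (T → R))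
  obtain ⟨U, hU⟩ := Module.FinitePresentation.fg_ker (LocalizedModule.map S F) hFs
  have hU0 : ∀ w : U, ∃ (z : T → R) (t u : S), LocalizedModule.mk z t = (w : LocalizedModule S (T → R)) ∧ F ((u : R) • z) = 0 := by
    rintro ⟨w, hw⟩
    have hw0 : LocalizedModule.map S F w = 0 := LinearMap.mem_ker.mp (hU ▸ Submodule.subset_span hw)
    induction w using LocalizedModule.induction_on with
    | h z t =>
      rw [LocalizedModule.map_mk, ← LocalizedModule.zero_mk t, LocalizedModule.mk_eq] at hw0
      obtain ⟨u, hu⟩ := hw0
      refine ⟨z, t, u * t, rfl, ?_⟩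
      simp only [Submonoid.smul_def, smul_zero] at hu
      rw [map_smul, Submonoid.coe_mul, mul_smul]
      exact hu
  choose z t v hz hv using hU0
  let N := Submodule.span R (Set.range fun w : U => (v w : R) • z w)
  have hN : N ≤ LinearMap.ker F := Submodule.span_le.mpr (by rintro _ ⟨w, rfl⟩; exact hv w)
  refine ⟨(T → R) ⧸ N, inferInstance, inferInstance, N.liftQ F hN,
    Module.finitePresentation_of_surjective N.mkQ (Submodule.mkQ_surjective _) (by rw [Submodule.ker_mkQ]; exact Submodule.fg_span (Set.finite_range _)), ?_⟩
  have hcomp : ∀ x, LocalizedModule.map S (N.liftQ F hN) (LocalizedModule.map S N.mkQ x) = LocalizedModule.map S F x := fun x => by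
    induction x using LocalizedModule.induction_on with
    | h a b => rw [LocalizedModule.map_mk, LocalizedModule.map_mk, LocalizedModule.map_mk]; rfl
  refine ⟨(injective_iff_map_eq_zero _).mpr fun y hy => ?_, fun y => ?_⟩
  · obtain ⟨x, rfl⟩ : ∃ x, LocalizedModule.map S N.mkQ x = y := by
      induction y using LocalizedModule.induction_on with
      | h a b =>
        obtain ⟨a, rfl⟩ := Submodule.mkQ_surjective N a
        exact ⟨LocalizedModule.mk a b, LocalizedModule.map_mk _ _ _ _⟩
    rw [hcomp] at hy
    have hx : x ∈ Submodule.span (Localization S) (U : Set (LocalizedModule S (T → R))) := hU ▸ LinearMap.mem_ker.mpr hy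
    suffices Submodule.span (Localization S) (U : Set (LocalizedModule S (T → R))) ≤ LinearMap.ker (LocalizedModule.map S N.mkQ) from this hx
    rw [Submodule.span_le]
    intro w hw
    have e := hz ⟨w, hw⟩
    simp only at e
    rw [SetLike.mem_coe, LinearMap.mem_ker, ← e, LocalizedModule.map_mk, ← LocalizedModule.zero_mk (t ⟨w, hw⟩), LocalizedModule.mk_eq]
    refine ⟨v ⟨w, hw⟩, ?_⟩
    simp only [Submonoid.smul_def, smul_zero]
    rw [smul_comm, ← map_smul, show N.mkQ ((v ⟨w, hw⟩ : R) • z ⟨w, hw⟩) = 0 from (Submodule.Quotient.mk_eq_zero N).mpr (Submodule.subset_span ⟨⟨w, hw⟩, rfl⟩), smul_zero]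
  · obtain ⟨x, rfl⟩ := hFs y
    exact ⟨_, hcomp x⟩

end Groth.Agent.S9157
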