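import Groth.Statements.S9158
import Groth.Agent.GenFreeRedLib.Main

set_option autoImplicit false
set_option backward.isDefEq.respectTransparency false
set_option backward.isDefEq.respectTransparency.types false
universe u
open CAlg

namespace Groth.Agent.S9158

/-- Generic freeness over a reduced ring: let R → S be of finite type with R reduced and M a finite
S-module. There is a dense open subset U of Spec R such that each point of U lies in a basic open
D(f) ⊆ U with M_f and S_f free over R_f, S_f of finite presentation over R_f, and M_f of finite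
presentation over S_f. -/
theorem result (R S : Type u) [CommRing R] [IsReduced R] [CommRing S]
    [Algebra R S] [Algebra.FiniteType R S] (M : Type u) [AddCommGroup M] [Module S M] [Module R M]
    [IsScalarTower R S M] [Module.Finite S M] :
    ∃ U : Set (PrimeSpectrum R), IsOpen U ∧ Dense U ∧ ∀ u ∈ U, ∃ f : R, f ∉ u.asIdeal ∧
      (PrimeSpectrum.basicOpen f : Set (PrimeSpectrum R)) ⊆ U ∧
      Module.Free (Localization.Away f) (LocalizedModule (Submonoid.powers f) M) ∧
      Module.Free (Localization.Away f) (LocalizedModule (Submonoid.powers f) S) ∧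
      (Localization.awayMap (algebraMap R S) f).FinitePresentation ∧
      Module.FinitePresentation (Localization.Away (algebraMap R S f))
        (LocalizedModule (Submonoid.powers (algebraMap R S f)) M) := by
  let Good : R → Prop := fun f =>
    Module.Free (Localization.Away f) (LocalizedModule (Submonoid.powers f) M) ∧
      Module.Free (Localization.Away f) (LocalizedModule (Submonoid.powers f) S) ∧
      (Localization.awayMap (algebraMap R S) f).FinitePresentation ∧
      Module.FinitePresentation (Localization.Away (algebraMap R S f))
        (LocalizedModule (Submonoid.powers (algebraMap R S f)) M)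
  refine ⟨⋃ f ∈ {f | Good f}, (PrimeSpectrum.basicOpen f : Set (PrimeSpectrum R)),
    isOpen_biUnion fun f _ => (PrimeSpectrum.basicOpen f).isOpen, ?_, fun u hu => ?_⟩
  · rw [PrimeSpectrum.isTopologicalBasis_basic_opens.dense_iff]
    rintro _ ⟨g, rfl⟩ ⟨x, hx⟩
    have hg : g ≠ 0 := fun h => hx (by rw [h]; exact zero_mem _)
    obtain ⟨f, hf, hgf, hgood⟩ := GenFreeRedLib.exists_good (S := S) M hg
    obtain ⟨q, hmin, hq⟩ := FlatLib.exists_minimalPrime_notMem hf
    exact ⟨⟨q, hmin.1.1⟩, fun h => hq (Ideal.mem_of_dvd q hgf h), Set.mem_biUnion hgood hq⟩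
  · obtain ⟨f, hf, huf⟩ := Set.mem_iUnion₂.1 hu
    exact ⟨f, huf, Set.subset_biUnion_of_mem (u := fun f =>
      (PrimeSpectrum.basicOpen f : Set (PrimeSpectrum R))) hf, hf⟩

end Groth.Agent.S9158
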