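import Groth.Statements.S9159
import Mathlib
import Groth.Agent.CMFlatLib.Dim
-- import your own Groth.Agent.* helpers here

set_option autoImplicit false
universe u
open CAlg

namespace Groth.Agent.S9159

/-- Fix a field k, a k-algebra S of finite type, and a quasi-finite map of k-algebras k[y_1, …, y_d] →
S. A prime q of S has S_q flat over k[y_1, …, y_d] exactly when S_q is Cohen–Macaulay and Spec S has
local dimension d at q. -/
theorem result (k S : Type u) [Field k] [CommRing S]
    [Algebra k S] [Algebra.FiniteType k S] (d : ℕ) [Algebra (MvPolynomial (Fin d) k) S]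
    [IsScalarTower k (MvPolynomial (Fin d) k) S] [Algebra.QuasiFinite (MvPolynomial (Fin d) k) S]
    (q : Ideal S) [q.IsPrime] :
    Module.Flat (MvPolynomial (Fin d) k) (Localization.AtPrime q) ↔
      (LocCoh.IsCohenMacaulayLocalRing (Localization.AtPrime q) ∧
        FlatMor.localDim (PrimeSpectrum S) ⟨q, inferInstance⟩ = (d : WithBot ℕ∞)) := by
  haveI : IsNoetherianRing S := Algebra.FiniteType.isNoetherianRing k S
  haveI : Algebra.QuasiFiniteAt (MvPolynomial (Fin d) k) q := inferInstance
  constructor
  · intro h
    exact ⟨(CMFlatLib.isCohenMacaulayLocalRing_iff_isCM _).mpr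
      (CMFlatLib.isCM_of_flat_quasiFiniteAt (A := MvPolynomial (Fin d) k) q h),
      CMFlatLib.localDim_eq_of_flat_qf d q h⟩
  · rintro ⟨hcm, hd⟩
    exact CMFlatLib.flat_of_isCM_quasiFiniteAt (A := MvPolynomial (Fin d) k) q
      ((CMFlatLib.isCohenMacaulayLocalRing_iff_isCM _).mp hcm) (CMFlatLib.height_comap_eq_of_localDim d q hd)

end Groth.Agent.S9159
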