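import Groth.Statements.S9160
import Mathlib.RingTheory.Length
import Mathlib.RingTheory.HopkinsLevitzki
import Mathlib.RingTheory.KrullDimension.NonZeroDivisors
import Mathlib.RingTheory.FiniteLength
import Mathlib.RingTheory.Noetherian.Basic
import Mathlib.RingTheory.Ideal.Quotient.Noetherian
-- import your own Groth.Agent.* helpers here

set_option autoImplicit false
universe u
open CAlg

namespace Groth.Agent.S9160

/-- In a semi-local Noetherian ring of dimension one, for nonzerodivisors a and b the length of R/(ab)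
is the sum of the lengths of R/(a) and R/(b), and these lengths are finite. -/
theorem result (R : Type u) [CommRing R] [IsNoetherianRing R]
    (hsemi : Finite (MaximalSpectrum R)) (hdim : ringKrullDim R = 1) (a b : R) (ha : IsRegular a)
    (hb : IsRegular b) :
    Module.length R (R ⧸ Ideal.span ({a * b} : Set R)) =
        Module.length R (R ⧸ Ideal.span ({a} : Set R)) + Module.length R (R ⧸ Ideal.span ({b} : Set R)) ∧
      Module.length R (R ⧸ Ideal.span ({a} : Set R)) ≠ ⊤ ∧
      Module.length R (R ⧸ Ideal.span ({b} : Set R)) ≠ ⊤ := by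
  have hfin : ∀ r : R, IsRegular r → Module.length R (R ⧸ Ideal.span ({r} : Set R)) ≠ ⊤ := fun r hr => by
    have hle : ringKrullDim (R ⧸ Ideal.span ({r} : Set R)) + 1 ≤ 1 :=
      hdim ▸ ringKrullDim_quotient_succ_le_of_nonZeroDivisor hr.mem_nonZeroDivisors
    haveI : Ring.KrullDimLE 0 (R ⧸ Ideal.span ({r} : Set R)) := by
      refine Ring.krullDimLE_iff.2 ?_
      by_contra hcon
      rw [not_le] at hcon
      generalize ringKrullDim (R ⧸ Ideal.span ({r} : Set R)) = x at hle hcon
      cases x with
      | bot => exact absurd hcon (not_lt_bot)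
      | coe x =>
        have h1 : x + 1 ≤ 1 := by exact_mod_cast hle
        have h2 : 0 < x := by exact_mod_cast hcon
        cases x with
        | top => simp at h1
        | coe x => exact absurd h2 (not_lt.2 (by
            have : x + 1 ≤ 1 := by exact_mod_cast h1
            exact_mod_cast (by omega : x ≤ 0)))
    haveI : IsArtinianRing (R ⧸ Ideal.span ({r} : Set R)) :=
      isArtinianRing_iff_isNoetherianRing_krullDimLE_zero.2 ⟨inferInstance, inferInstance⟩
    have h1 : Module.length (R ⧸ Ideal.span ({r} : Set R)) (R ⧸ Ideal.span ({r} : Set R)) ≠ ⊤ := Module.length_ne_top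
    exact (Module.length_eq_of_surjective (R := R ⧸ Ideal.span ({r} : Set R)) (S := R) (M := R ⧸ Ideal.span ({r} : Set R)) Ideal.Quotient.mk_surjective).trans_ne h1
  refine ⟨?_, hfin a ha, hfin b hb⟩
  let f : (R ⧸ Ideal.span ({b} : Set R)) →ₗ[R] R ⧸ Ideal.span ({a * b} : Set R) :=
    Submodule.mapQ _ _ (LinearMap.mulLeft R a) (fun x hx => by
      obtain ⟨c, rfl⟩ := Ideal.mem_span_singleton'.1 hx
      exact Ideal.mem_span_singleton'.2 ⟨c, by show c * (a * b) = a * (c * b); ring⟩)
  let g : (R ⧸ Ideal.span ({a * b} : Set R)) →ₗ[R] R ⧸ Ideal.span ({a} : Set R) :=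
    Submodule.mapQ _ _ LinearMap.id (fun x hx => by
      obtain ⟨c, rfl⟩ := Ideal.mem_span_singleton'.1 hx
      exact Ideal.mem_span_singleton'.2 ⟨c * b, by show c * b * a = c * (a * b); ring⟩)
  have hf : Function.Injective f := by
    rw [injective_iff_map_eq_zero]
    intro x hx
    obtain ⟨x, rfl⟩ := Ideal.Quotient.mk_surjective x
    obtain ⟨c, hc⟩ := Ideal.mem_span_singleton'.1 (Ideal.Quotient.eq_zero_iff_mem.1 (show Ideal.Quotient.mk _ (a * x) = 0 from hx))
    exact Ideal.Quotient.eq_zero_iff_mem.2 (Ideal.mem_span_singleton'.2 ⟨c, ha.left (by show a * (c * b) = a * x; rw [← hc]; ring)⟩)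
  have hg : Function.Surjective g := fun y => by
    obtain ⟨y, rfl⟩ := Ideal.Quotient.mk_surjective y
    exact ⟨Ideal.Quotient.mk _ y, rfl⟩
  have hfg : Function.Exact f g := fun y => by
    obtain ⟨y, rfl⟩ := Ideal.Quotient.mk_surjective y
    constructor
    · intro hy
      obtain ⟨c, hc⟩ := Ideal.mem_span_singleton'.1 (Ideal.Quotient.eq_zero_iff_mem.1 (show Ideal.Quotient.mk _ y = 0 from hy))
      exact ⟨Ideal.Quotient.mk _ c, congrArg (Ideal.Quotient.mk _) (show a * c = y by rw [← hc]; ring)⟩
    · rintro ⟨x, hx⟩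
      obtain ⟨x, rfl⟩ := Ideal.Quotient.mk_surjective x
      rw [← hx]
      exact Ideal.Quotient.eq_zero_iff_mem.2 (Ideal.mem_span_singleton'.2 ⟨x, by show x * a = a * x; ring⟩)
  rw [Module.length_eq_add_of_exact f g hf hg hfg, add_comm]

end Groth.Agent.S9160
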