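import Groth.Statements.S9161
import Mathlib.LinearAlgebra.Prod
import Mathlib.Tactic.Abel
-- import your own Groth.Agent.* helpers here

set_option autoImplicit false
universe u
open CAlg

namespace Groth.Agent.S9161

/-- If two two-term complexes of R-modules A₁ → A₀ and B₁ → B₀ are homotopy equivalent (maps of
complexes both ways whose composites are homotopic to the identity maps), then A₁ ⊕ B₀ and B₁ ⊕ A₀
are isomorphic R-modules. -/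
theorem result (R : Type u) [CommRing R]
    (A₁ A₀ B₁ B₀ : Type u) [AddCommGroup A₁] [Module R A₁] [AddCommGroup A₀] [Module R A₀]
    [AddCommGroup B₁] [Module R B₁] [AddCommGroup B₀] [Module R B₀]
    (dA : A₁ →ₗ[R] A₀) (dB : B₁ →ₗ[R] B₀) (φ₁ : A₁ →ₗ[R] B₁) (φ₀ : A₀ →ₗ[R] B₀)
    (ψ₁ : B₁ →ₗ[R] A₁) (ψ₀ : B₀ →ₗ[R] A₀) (hφ : dB ∘ₗ φ₁ = φ₀ ∘ₗ dA) (hψ : dA ∘ₗ ψ₁ = ψ₀ ∘ₗ dB)
    (h : A₀ →ₗ[R] A₁) (hh₁ : LinearMap.id - ψ₁ ∘ₗ φ₁ = h ∘ₗ dA) (hh₀ : LinearMap.id - ψ₀ ∘ₗ φ₀ = dA ∘ₗ h)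
    (h' : B₀ →ₗ[R] B₁) (hh'₁ : LinearMap.id - φ₁ ∘ₗ ψ₁ = h' ∘ₗ dB)
    (hh'₀ : LinearMap.id - φ₀ ∘ₗ ψ₀ = dB ∘ₗ h') :
    Nonempty ((A₁ × B₀) ≃ₗ[R] (B₁ × A₀)) := by
  let u : (A₁ × B₀) →ₗ[R] (B₁ × A₀) := (φ₁.coprod h').prod (-dA |>.coprod ψ₀)
  let v : (B₁ × A₀) →ₗ[R] (A₁ × B₀) := (ψ₁.coprod (-h)).prod (dB.coprod φ₀)
  have e1 := fun x => DFunLike.congr_fun hh₁ x
  have e2 := fun x => DFunLike.congr_fun hh₀ x
  have e3 := fun x => DFunLike.congr_fun hh'₁ x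
  have e4 := fun x => DFunLike.congr_fun hh'₀ x
  have f1 := fun x => DFunLike.congr_fun hφ x
  have f2 := fun x => DFunLike.congr_fun hψ x
  simp only [LinearMap.sub_apply, LinearMap.id_apply, LinearMap.comp_apply, sub_eq_iff_eq_add] at e1 e2 e3 e4 f1 f2
  have vu : ∀ a b, v (u (a, b)) = (a + (ψ₁ (h' b) - h (ψ₀ b)), b) := fun a b => by
    refine Prod.ext ?_ ?_
    · show ψ₁ (φ₁ a + h' b) + -h (-dA a + ψ₀ b) = _
      conv_rhs => rw [e1 a]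
      simp only [map_add, map_neg]; abel
    · show dB (φ₁ a + h' b) + φ₀ (-dA a + ψ₀ b) = b
      conv_rhs => rw [e4 b]
      simp only [map_add, map_neg, f1]; abel
  have uv : ∀ b a, u (v (b, a)) = (b + (h' (φ₀ a) - φ₁ (h a)), a) := fun b a => by
    refine Prod.ext ?_ ?_
    · show φ₁ (ψ₁ b + -h a) + h' (dB b + φ₀ a) = _
      conv_rhs => rw [e3 b]
      simp only [map_add, map_neg]; abel
    · show -dA (ψ₁ b + -h a) + ψ₀ (dB b + φ₀ a) = a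
      conv_rhs => rw [e2 a]
      simp only [map_add, map_neg, f2]; abel
  refine ⟨LinearEquiv.ofBijective u ⟨?_, ?_⟩⟩
  · rintro ⟨a, b⟩ ⟨a', b'⟩ he
    have := congr_arg v he
    rw [vu, vu, Prod.mk.injEq] at this
    obtain ⟨h1, rfl⟩ := this
    rw [add_right_cancel h1]
  · rintro ⟨b, a⟩
    exact ⟨v (b - (h' (φ₀ a) - φ₁ (h a)), a), by rw [uv, sub_add_cancel]⟩

end Groth.Agent.S9161
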