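import Groth.Statements.S9163
import Mathlib.RingTheory.IntegralClosure.IsIntegral.Basic
import Mathlib.Algebra.Polynomial.Lifts
import Mathlib.RingTheory.IntegralClosure.IsIntegralClosure.Basic
import Mathlib.RingTheory.FiniteType
-- import your own Groth.Agent.* helpers here

set_option autoImplicit false
universe u
open CAlg

namespace Groth.Agent.S9163

/-- If S is integral over R, then any finitely many elements of R and of S lie in a pair R₀ ⊆ R, S₀ ⊆ S
with R₀ a finite type ℤ-subalgebra, S₀ an R₀-subalgebra of S, and S₀ finite as an R₀-module; so R →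
S is the directed colimit of finite maps between finite type ℤ-algebras. -/
theorem result (R S : Type u) [CommRing R] [CommRing S] [Algebra R S]
    [Algebra.IsIntegral R S] (E : Finset R) (F : Finset S) :
    ∃ (R₀ : Subalgebra ℤ R) (S₀ : Subalgebra R₀ S), Algebra.FiniteType ℤ R₀ ∧ (E : Set R) ⊆ R₀ ∧
      (F : Set S) ⊆ S₀ ∧ Module.Finite R₀ S₀ := by
  classical
  have hx : ∀ x : S, ∃ p : Polynomial R, p.Monic ∧ Polynomial.aeval x p = 0 := fun x => Algebra.IsIntegral.isIntegral x
  choose p hpm hp using hx
  let T : Finset R := E ∪ F.biUnion fun x => (p x).coeffs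
  let R₀ : Subalgebra ℤ R := Algebra.adjoin ℤ (T : Set R)
  have hint : ∀ x ∈ F, IsIntegral R₀ x := by
    intro x hxF
    rcases subsingleton_or_nontrivial R with hR | hR
    · have : Subsingleton S := (algebraMap R S).codomain_trivial
      exact ⟨Polynomial.X, Polynomial.monic_X, Subsingleton.elim _ _⟩
    have hl : p x ∈ Polynomial.lifts (algebraMap R₀ R) := by
      rw [Polynomial.lifts_iff_coeff_lifts]
      intro n
      by_cases hn : (p x).coeff n = 0
      · exact ⟨0, by rw [map_zero, hn]⟩
      · exact ⟨⟨_, Algebra.subset_adjoin (Finset.mem_union_right _ (Finset.mem_biUnion.mpr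
          ⟨x, hxF, Polynomial.coeff_mem_coeffs hn⟩))⟩, rfl⟩
    obtain ⟨q, hq, -, hqm⟩ := Polynomial.lifts_and_degree_eq_and_monic hl (hpm x)
    refine ⟨q, hqm, ?_⟩
    rw [← Polynomial.aeval_def, ← Polynomial.aeval_map_algebraMap R x q, hq]
    exact hp x
  refine ⟨R₀, Algebra.adjoin R₀ (F : Set S), ?_, ?_, Algebra.subset_adjoin, ?_⟩
  · exact (Subalgebra.fg_iff_finiteType _).mp ⟨T, rfl⟩
  · exact fun r hr => Algebra.subset_adjoin (Finset.mem_union_left _ hr)
  · exact ⟨(Submodule.fg_top _).mpr (fg_adjoin_of_finite F.finite_toSet hint)⟩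

end Groth.Agent.S9163
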