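import Groth.Statements.S9164
import Groth.Agent.NormalLib.KrullAkizuki
import Mathlib.RingTheory.KrullDimension.Field
import Mathlib.Data.ENat.BigOperators
-- import your own Groth.Agent.* helpers here

set_option autoImplicit false
universe u
open CAlg

namespace Groth.Agent.S9164

/-- Let R be a one-dimensional Noetherian local domain with fraction field K and V a finite-dimensional
K-vector space; a lattice is a finitely generated R-submodule of V spanning V over K. (1) For a
lattice M and an R-submodule M' ⊇ M: M' is a lattice iff M'/M has finite length over R iff M' is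
finitely generated. (2) For a lattice M and M' ⊆ M: M' is a lattice iff M/M' has finite length. (3)
The intersection of two lattices is a lattice. (The published statement also asserts that the sum M
+ M' of two lattices is a lattice and two identities between lengths of quotients of nested
lattices; this row states (1), (2) and the intersection half of (3).) -/
theorem result (R K V : Type u) [CommRing R] [IsDomain R]
    [IsNoetherianRing R] [IsLocalRing R] (hdim : ringKrullDim R = 1) [Field K] [Algebra R K]
    [IsFractionRing R K] [AddCommGroup V] [Module K V] [Module R V] [IsScalarTower R K V]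
    [FiniteDimensional K V] (M : Submodule R V) [Submodule.IsLattice K M] :
    (∀ M' : Submodule R V, M ≤ M' →
        (Submodule.IsLattice K M' ↔ Module.length R (M' ⧸ Submodule.comap M'.subtype M) ≠ ⊤) ∧
          (Submodule.IsLattice K M' ↔ M'.FG)) ∧
      (∀ M' : Submodule R V, M' ≤ M →
        (Submodule.IsLattice K M' ↔ Module.length R (M ⧸ Submodule.comap M.subtype M') ≠ ⊤)) ∧
      ∀ M' : Submodule R V, Submodule.IsLattice K M' → Submodule.IsLattice K (M ⊓ M') := by
  have hspan : ∀ M' : Submodule R V, M ≤ M' → Submodule.span K (M' : Set V) = ⊤ := fun M' h =>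
    top_le_iff.1 ((Submodule.IsLattice.span_eq_top (A := K) (M := M)).ge.trans (Submodule.span_mono h))
  have hsmul : ∀ N : Submodule R V, Submodule.span K (N : Set V) = ⊤ → ∀ v : V, ∃ r : R, r ≠ 0 ∧ r • v ∈ N := by
    intro N hN v
    have hv : v ∈ Submodule.span K (N : Set V) := by rw [hN]; trivial
    induction hv using Submodule.span_induction with
    | mem w hw => exact ⟨1, one_ne_zero, by simpa using hw⟩
    | zero => exact ⟨1, one_ne_zero, by simp⟩
    | add a b _ _ ha hb =>
      obtain ⟨r, hr, hra⟩ := ha
      obtain ⟨s, hs, hsb⟩ := hb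
      refine ⟨r * s, mul_ne_zero hr hs, ?_⟩
      rw [smul_add, mul_comm r s, mul_smul, mul_smul s r b, smul_comm s r b]
      exact add_mem (N.smul_mem _ hra) (N.smul_mem _ hsb)
    | smul c a _ ha =>
      obtain ⟨r, hr, hra⟩ := ha
      obtain ⟨p, q, hq, hpq⟩ := IsFractionRing.div_surjective R c
      refine ⟨r * q, mul_ne_zero hr (nonZeroDivisors.ne_zero hq), ?_⟩
      have : (r * q) • c • a = p • r • a := by
        rw [← algebraMap_smul K (r * q) (c • a), ← mul_smul, map_mul, mul_assoc, ← hpq,
          mul_div_cancel₀ _ ((map_ne_zero_iff _ (IsFractionRing.injective R K)).2 (nonZeroDivisors.ne_zero hq)),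
          ← map_mul, algebraMap_smul, mul_comm r p, mul_smul]
      rw [this]
      exact N.smul_mem _ hra
  have htop : ∀ {Q : Type u} [AddCommGroup Q] [Module R Q], Module.Finite R Q →
      (∀ q : Q, ∃ r : R, r ≠ 0 ∧ r • q = 0) → Module.length R Q ≠ ⊤ := by
    intro Q _ _ hfin htor
    haveI : Ring.KrullDimLE 1 R := Ring.krullDimLE_iff.2 (by rw [hdim]; rfl)
    obtain ⟨s, hs⟩ := Module.Finite.fg_top (R := R) (M := Q)
    choose r hr hrq using htor
    let a : R := ∏ q ∈ s, r q
    have ha : a ≠ 0 := Finset.prod_ne_zero_iff.2 fun q _ => hr q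
    let N : Submodule R Q := LinearMap.ker (LinearMap.lsmul R Q a)
    have hN : N = ⊤ := top_le_iff.1 (hs ▸ Submodule.span_le.2 fun q hq => by
      show a • q = 0
      obtain ⟨c, hc⟩ := Finset.dvd_prod_of_mem r (show q ∈ s from hq)
      rw [show a = c * r q from hc.trans (mul_comm _ _), mul_smul, hrq, smul_zero])
    let φ : (Fin s.card → R ⧸ Ideal.span {a}) →ₗ[R] Q :=
      LinearMap.lsum R (fun _ => R ⧸ Ideal.span {a}) R fun i => Submodule.liftQ _
        (LinearMap.toSpanSingleton R Q ((s.equivFin.symm i : s) : Q)) (by
        rw [Ideal.span, Submodule.span_le, Set.singleton_subset_iff]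
        simp only [SetLike.mem_coe, LinearMap.mem_ker, LinearMap.toSpanSingleton_apply]
        exact (LinearMap.mem_ker.1 (hN ▸ Submodule.mem_top : _ ∈ N)))
    have hφ : Function.Surjective φ := by
      rw [← LinearMap.range_eq_top, ← top_le_iff, ← hs, Submodule.span_le]
      intro q hq
      refine ⟨Pi.single (s.equivFin ⟨q, hq⟩) (Submodule.Quotient.mk 1), ?_⟩
      simp only [φ, LinearMap.lsum_piSingle]
      simp
      show Submodule.liftQ _ _ _ (Submodule.Quotient.mk 1) = q
      rw [Submodule.liftQ_apply]
      simp
    refine ne_top_of_le_ne_top ?_ (Module.length_le_of_surjective φ hφ)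
    rw [Module.length_pi]
    exact WithTop.mul_ne_top (by rw [ENat.card_eq_coe_fintype_card]; exact ENat.natCast_ne_top _) (NormalLib.length_quotient_ne_top (by simpa [Ideal.span_singleton_eq_bot]))
  have hfg : M.FG := Submodule.IsLattice.fg (A := K) (M := M)
  haveI : Module.Finite R M := Module.Finite.iff_fg.2 hfg
  haveI : IsNoetherian R M := isNoetherian_of_isNoetherianRing_of_finite R M
  refine ⟨fun M' h => ?_, fun M' h => ?_, fun M' h => ?_⟩
  · have h2 : Submodule.IsLattice K M' ↔ M'.FG := ⟨fun h' => h'.fg, fun h' => ⟨h', hspan M' h⟩⟩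
    refine ⟨h2.trans ⟨fun h' => ?_, fun h' => ?_⟩, h2⟩
    · haveI : Module.Finite R M' := Module.Finite.iff_fg.2 h'
      refine htop inferInstance fun q => ?_
      obtain ⟨m, rfl⟩ := Submodule.Quotient.mk_surjective _ q
      obtain ⟨r, hr, hrm⟩ := hsmul M (Submodule.IsLattice.span_eq_top (A := K) (M := M)) (m : V)
      exact ⟨r, hr, by rw [← Submodule.Quotient.mk_smul, Submodule.Quotient.mk_eq_zero]; exact hrm⟩
    · haveI := (isFiniteLength_iff_isNoetherian_isArtinian.1 (Module.length_ne_top_iff.1 h')).1
      haveI : IsNoetherian R (Submodule.comap M'.subtype M) :=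
        isNoetherian_of_linearEquiv (Submodule.comapSubtypeEquivOfLe h).symm
      haveI : IsNoetherian R M' :=
        isNoetherian_of_range_eq_ker (Submodule.comap M'.subtype M).subtype (Submodule.mkQ _) (by rw [Submodule.ker_mkQ, Submodule.range_subtype])
      exact Module.Finite.iff_fg.1 inferInstance
  · have hfg' : M'.FG := Module.Finite.iff_fg.1 (Module.Finite.of_injective (Submodule.inclusion h) (Submodule.inclusion_injective h))
    constructor
    · intro h'
      refine htop inferInstance fun q => ?_
      obtain ⟨m, rfl⟩ := Submodule.Quotient.mk_surjective _ q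
      obtain ⟨r, hr, hrm⟩ := hsmul M' h'.span_eq_top (m : V)
      exact ⟨r, hr, by rw [← Submodule.Quotient.mk_smul, Submodule.Quotient.mk_eq_zero]; exact hrm⟩
    · intro h'
      refine ⟨hfg', top_le_iff.1 ((Submodule.IsLattice.span_eq_top (A := K) (M := M)).ge.trans (Submodule.span_le.2 fun m hm => ?_))⟩
      haveI := (isFiniteLength_iff_isNoetherian_isArtinian.1 (Module.length_ne_top_iff.1 h')).2
      let q : M ⧸ Submodule.comap M.subtype M' := Submodule.Quotient.mk ⟨m, hm⟩
      obtain ⟨r, hr, hrq⟩ : ∃ r : R, r ≠ 0 ∧ r • q = 0 := by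
        by_contra hne
        push Not at hne
        have hinj : Function.Injective (LinearMap.toSpanSingleton R _ q) := by
          rw [← LinearMap.ker_eq_bot, eq_bot_iff]
          intro r hr
          by_contra hr0
          exact hne r hr0 hr
        haveI : IsArtinianRing R := isArtinian_of_injective _ hinj
        exact zero_ne_one ((ringKrullDim_eq_zero_of_isField (IsArtinianRing.isField_of_isDomain R)).symm.trans hdim)
      rw [← Submodule.Quotient.mk_smul, Submodule.Quotient.mk_eq_zero] at hrq
      have : (algebraMap R K r) • m ∈ Submodule.span K (M' : Set V) := by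
        rw [algebraMap_smul]
        exact Submodule.subset_span hrq
      exact (Submodule.smul_mem_iff _ ((map_ne_zero_iff _ (IsFractionRing.injective R K)).2 hr)).1 this
  · refine ⟨Module.Finite.iff_fg.1 (Module.Finite.of_injective (Submodule.inclusion inf_le_left)
      (Submodule.inclusion_injective (inf_le_left : M ⊓ M' ≤ M))), top_le_iff.1 fun v _ => ?_⟩
    obtain ⟨r, hr, hrv⟩ := hsmul M (Submodule.IsLattice.span_eq_top (A := K) (M := M)) v
    obtain ⟨s, hs, hsv⟩ := hsmul M' h.span_eq_top v
    have hmem : (algebraMap R K (r * s)) • v ∈ Submodule.span K ((M ⊓ M' : Submodule R V) : Set V) := by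
      rw [algebraMap_smul]
      refine Submodule.subset_span (Submodule.mem_inf.2 ⟨?_, ?_⟩)
      · rw [mul_comm, mul_smul]; exact M.smul_mem _ hrv
      · rw [mul_smul]; exact M'.smul_mem _ hsv
    exact (Submodule.smul_mem_iff _ ((map_ne_zero_iff _ (IsFractionRing.injective R K)).2 (mul_ne_zero hr hs))).1 hmem

end Groth.Agent.S9164
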