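import Groth.Statements.S9166
import Mathlib.RingTheory.Flat.EquationalCriterion
import Mathlib

set_option autoImplicit false
set_option backward.isDefEq.respectTransparency false
set_option backward.isDefEq.respectTransparency.types false
set_option maxHeartbeats 1000000
universe u
open CAlg

namespace Groth.Agent.S9166


section Helpers

open IsLocalRing

theorem ker_fg {R S S' : Type u} [CommRing R] [CommRing S] [CommRing S'] [Algebra R S] [Algebra R S']
    [Algebra.FiniteType R S] [Algebra.FinitePresentation R S'] (f : S →ₐ[R] S') (hf : Function.Surjective f) :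
    (RingHom.ker f.toRingHom).FG := by
  obtain ⟨n, π, hπ⟩ := Algebra.FiniteType.iff_quotient_mvPolynomial''.1 ‹Algebra.FiniteType R S›
  convert! (Algebra.FinitePresentation.ker_fg_of_mvPolynomial (f.comp π) (hf.comp hπ)).map π.toRingHom
  simp_rw [RingHom.ker_eq_comap_bot, AlgHom.toRingHom_eq_coe, AlgHom.comp_toRingHom]
  rw [← Ideal.comap_comap, Ideal.map_comap_of_surjective (π : MvPolynomial (Fin n) R →+* S) hπ]

theorem exists_mul_mem_smul {R S S' : Type u} [CommRing R] [CommRing S] [CommRing S'] [Algebra R S] [Algebra R S']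
    (I : Ideal R) (f : S →ₐ[R] S') (hf : Function.Surjective f) (q : Ideal S) [q.IsPrime]
    (hflat : letI : Module S S' := f.toRingHom.toModule
      Module.Flat R (LocalizedModule q.primeCompl S')) (j : S) (hj : f j = 0)
    (hjI : algebraMap S (Localization.AtPrime q) j ∈ I.map (algebraMap R (Localization.AtPrime q))) :
    ∃ v : S, v ∉ q ∧ v * j ∈ (I.map (algebraMap R S)) * RingHom.ker f.toRingHom := by
  classical
  letI : Module S S' := f.toRingHom.toModule
  haveI : IsScalarTower R S S' := IsScalarTower.of_algebraMap_smul fun r x => by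
    show f (algebraMap R S r) * x = r • x
    rw [f.commutes, Algebra.smul_def]
  let L' := LocalizedModule q.primeCompl S'
  let ι := LocalizedModule.mkLinearMap q.primeCompl S'
  haveI : Module.Flat R L' := hflat
  rw [IsScalarTower.algebraMap_eq R S (Localization.AtPrime q), ← Ideal.map_map,
    IsLocalization.algebraMap_mem_map_algebraMap_iff q.primeCompl] at hjI
  obtain ⟨u, hu, huj⟩ := hjI
  obtain ⟨m, c, i, hc⟩ : ∃ (m : ℕ) (c : Fin m → S) (i : Fin m → I), ∑ k, c k * algebraMap R S (i k : R) = u * j := by
    obtain ⟨c, hc⟩ := (Finsupp.mem_span_range_iff_exists_finsupp (v := fun a : I => algebraMap R S (a : R))).1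
      (show u * j ∈ Submodule.span S (Set.range fun a : I => algebraMap R S (a : R)) by
        rwa [show (Set.range fun a : I => algebraMap R S (a : R)) = algebraMap R S '' I from
          Set.ext fun z => ⟨fun ⟨a, ha⟩ => ⟨a, a.2, ha⟩, fun ⟨a, ha, hz⟩ => ⟨⟨a, ha⟩, hz⟩⟩])
    refine ⟨c.support.card, fun k => c (c.support.equivFin.symm k), fun k => (c.support.equivFin.symm k : I), ?_⟩
    rw [Equiv.sum_comp c.support.equivFin.symm (fun a : c.support => c a * algebraMap R S ((a : I) : R)),
      Finset.sum_coe_sort c.support (fun a : I => c a * algebraMap R S (a : R))]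
    exact hc
  have hrel : ∑ k, (i k : R) • ι (f (c k)) = 0 := by
    simp only [← LinearMap.map_smul_of_tower ι, ← map_sum]
    rw [show ∑ k, (i k : R) • f (c k) = f (∑ k, c k * algebraMap R S (i k : R)) by
      rw [map_sum]
      exact Finset.sum_congr rfl fun k _ => by rw [map_mul, f.commutes, Algebra.smul_def, mul_comm],
      hc, map_mul, hj, mul_zero, map_zero]
  obtain ⟨N, a, y, hy, ha⟩ := Module.Flat.isTrivialRelation_of_sum_smul_eq_zero (R := R) (M := L') (f := fun k => (i k : R))
    (x := fun k => ι (f (c k))) hrel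
  simp only at hy ha
  obtain ⟨t, ht⟩ := IsLocalizedModule.exist_integer_multiples_of_finite q.primeCompl ι y
  choose y₀ hy₀ using ht
  choose m₀ hm₀ using fun l => hf (y₀ l)
  have key : ∀ k, ∃ w : S, w ∉ q ∧ w * ((t : S) * c k - ∑ l, algebraMap R S (a k l) * m₀ l) ∈ RingHom.ker f.toRingHom := by
    intro k
    have h : ι (f ((t : S) * c k - ∑ l, algebraMap R S (a k l) * m₀ l)) = ι 0 := by
      rw [map_sub, map_sub, map_zero, sub_eq_zero, map_mul, show f (t : S) * f (c k) = (t : S) • f (c k) from rfl,
        map_smul ι, hy k, Finset.smul_sum, map_sum, map_sum]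
      refine Finset.sum_congr rfl fun l _ => ?_
      rw [map_mul, f.commutes, hm₀, ← Algebra.smul_def, LinearMap.map_smul_of_tower ι, hy₀, smul_comm]
    obtain ⟨w, hw⟩ := (IsLocalizedModule.eq_iff_exists q.primeCompl ι).1 h
    refine ⟨w, w.2, ?_⟩
    rw [smul_zero] at hw
    show f _ = 0
    rw [map_mul]
    exact hw
  choose w hwq hw using key
  let W := ∏ k, w k
  refine ⟨W * (t : S) * u, fun h => ?_, ?_⟩
  · rcases (‹q.IsPrime›).mem_or_mem h with h | h
    · rcases (‹q.IsPrime›).mem_or_mem h with h | h
      · obtain ⟨k, -, hk⟩ := (‹q.IsPrime›).prod_mem_iff.1 h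
        exact hwq k hk
      · exact t.2 h
    · exact hu h
  · have hsum : ∑ k, algebraMap R S (i k : R) * ∑ l, algebraMap R S (a k l) * m₀ l = 0 := by
      simp only [Finset.mul_sum]
      rw [Finset.sum_comm]
      refine Finset.sum_eq_zero fun l _ => ?_
      simp only [← mul_assoc, ← map_mul, ← Finset.sum_mul, ← map_sum]
      rw [ha l, map_zero, zero_mul]
    have heq : W * (t : S) * u * j =
        ∑ k, algebraMap R S (i k : R) * (W * ((t : S) * c k - ∑ l, algebraMap R S (a k l) * m₀ l)) := by
      rw [mul_assoc (W * (t : S)), ← hc]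
      have e : ∀ k, algebraMap R S (i k : R) * (W * ((t : S) * c k - ∑ l, algebraMap R S (a k l) * m₀ l)) =
          W * (t : S) * (c k * algebraMap R S (i k : R)) -
            W * (algebraMap R S (i k : R) * ∑ l, algebraMap R S (a k l) * m₀ l) := fun k => by ring
      simp only [e, Finset.sum_sub_distrib, ← Finset.mul_sum]
      rw [hsum, mul_zero, sub_zero]
    rw [heq]
    refine Ideal.sum_mem _ fun k _ => Ideal.mul_mem_mul (Ideal.mem_map_of_mem _ (i k).2) ?_
    obtain ⟨d, hd⟩ := Finset.dvd_prod_of_mem w (Finset.mem_univ k)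
    show W * _ ∈ RingHom.ker f.toRingHom
    rw [show W = w k * d from hd, mul_comm (w k) d, mul_assoc]
    exact Ideal.mul_mem_left _ _ (hw k)

end Helpers

/-- Let I be an ideal of a ring R, S → S' a surjective homomorphism of R-algebras with S of finite type
and S' of finite presentation over R, and q a prime of S containing IS. Assume S'_q is flat over R
and that S_q/IS_q → S'_q/IS'_q is an isomorphism, which for a surjection says: every element of the
kernel of S → S' maps into I·S_q. Then for some g ∉ q the localized map S_g → S'_g is bijective. -/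
theorem result (R S S' : Type u) [CommRing R] [CommRing S]
    [CommRing S'] [Algebra R S] [Algebra R S'] [Algebra.FiniteType R S] [Algebra.FinitePresentation R S']
    (I : Ideal R) (f : S →ₐ[R] S') (hf : Function.Surjective f) (q : Ideal S) [q.IsPrime]
    (hq : I.map (algebraMap R S) ≤ q)
    (hker : ∀ j : S, f j = 0 →
      algebraMap S (Localization.AtPrime q) j ∈ I.map (algebraMap R (Localization.AtPrime q)))
    (hflat : letI : Module S S' := f.toRingHom.toModule
      Module.Flat R (LocalizedModule q.primeCompl S')) :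
    ∃ g : S, g ∉ q ∧ Function.Bijective (Localization.awayMap f.toRingHom g) := by
  classical
  let J := RingHom.ker f.toRingHom
  let L := Localization.AtPrime q
  have hJ : J.FG := ker_fg f hf
  have h0 : J.map (algebraMap S L) = ⊥ := by
    refine Submodule.eq_bot_of_le_smul_of_le_jacobson_bot (IsLocalRing.maximalIdeal L) _ (hJ.map _) ?_
      (IsLocalRing.jacobson_eq_maximalIdeal ⊥ bot_ne_top).ge
    rw [Ideal.map_le_iff_le_comap]
    intro j hj
    obtain ⟨v, hv, hvj⟩ := exists_mul_mem_smul I f hf q hflat j hj (hker j hj)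
    have h := Ideal.mem_map_of_mem (algebraMap S L) hvj
    rw [Ideal.map_mul, map_mul] at h
    rw [Ideal.mem_comap, smul_eq_mul]
    have hle : (I.map (algebraMap R S)).map (algebraMap S L) ≤ IsLocalRing.maximalIdeal L := by
      rw [← IsLocalization.AtPrime.map_eq_maximalIdeal q L]
      exact Ideal.map_mono hq
    exact (Ideal.unit_mul_mem_iff_mem _ (IsLocalization.map_units L (⟨v, hv⟩ : q.primeCompl))).1
      (Ideal.mul_mono_left hle h)
  have hg : ∀ j : J, ∃ g : S, g ∉ q ∧ g * (j : S) = 0 := fun j => by
    have h : algebraMap S L (j : S) = 0 := by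
      rw [← Ideal.mem_bot, ← h0]
      exact Ideal.mem_map_of_mem _ j.2
    obtain ⟨g, hg⟩ := (IsLocalization.map_eq_zero_iff q.primeCompl L _).1 h
    exact ⟨g, g.2, hg⟩
  choose g hgq hg using hg
  obtain ⟨s, hs⟩ := hJ
  let G := ∏ j : s, g ⟨j, hs ▸ Ideal.subset_span j.2⟩
  have hG : ∀ a, f a = 0 → G * a = 0 := fun a ha => by
    have ha' : a ∈ Ideal.span (s : Set S) := hs.ge ha
    refine Submodule.span_induction (fun x hx => ?_) (mul_zero _) (fun x y _ _ hx hy => by rw [mul_add, hx, hy, add_zero])
      (fun c x _ hx => by rw [smul_eq_mul, mul_left_comm, hx, mul_zero]) ha'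
    obtain ⟨d, hd⟩ := Finset.dvd_prod_of_mem (fun j : s => g ⟨j, hs ▸ Ideal.subset_span j.2⟩)
      (Finset.mem_univ (⟨x, hx⟩ : s))
    show G * x = 0
    rw [show G = _ * d from hd, mul_right_comm, hg, zero_mul]
  refine ⟨G, fun h => ?_, Localization.awayMap_injective_iff.2 fun a ha => ⟨1, ?_⟩,
    Localization.awayMap_surjective_iff.2 fun a => ?_⟩
  · obtain ⟨j, -, hj⟩ := (‹q.IsPrime›).prod_mem_iff.1 h
    exact hgq _ hj
  · rw [pow_one]; exact hG a ha
  · obtain ⟨b, hb⟩ := hf a
    exact ⟨b, 0, by rw [pow_zero, one_mul]; exact hb⟩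

end Groth.Agent.S9166
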