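import Groth.Statements.S9167
import Mathlib
import Groth.Agent.PresDescLib.Basic
-- import your own Groth.Agent.* helpers here

set_option autoImplicit false
universe u
open CAlg

namespace Groth.Agent.S9167

/-- With R' = S⁻¹(R/I), every finitely presented R'-module is of the form S⁻¹(M/IM) for some finitely
presented R-module M. -/
theorem result (R : Type u) [CommRing R] (I : Ideal R)
    (S : Submonoid R) (M' : Type u) [AddCommGroup M']
    [Module (Localization (S.map (Ideal.Quotient.mk I))) M']
    [Module.FinitePresentation (Localization (S.map (Ideal.Quotient.mk I))) M'] :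
    ∃ (M : Type u) (_ : AddCommGroup M) (_ : Module R M), Module.FinitePresentation R M ∧
      Nonempty (LocalizedModule (S.map (Ideal.Quotient.mk I)) (M ⧸ (I • ⊤ : Submodule R M))
        ≃ₗ[Localization (S.map (Ideal.Quotient.mk I))] M') := by
  classical
  open TensorProduct in
  obtain ⟨n, K, e, hK⟩ := Module.FinitePresentation.exists_fin (Localization (S.map (Ideal.Quotient.mk I))) M'
  obtain ⟨s, hs⟩ := hK
  have hlift : ∀ v : s, ∃ (u : (Localization (S.map (Ideal.Quotient.mk I)))) (r : Fin n → R), IsUnit u ∧
      ∀ t, algebraMap R (Localization (S.map (Ideal.Quotient.mk I))) (r t) = u * v.1 t := by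
    intro v
    obtain ⟨b, hb⟩ := IsLocalization.exist_integer_multiples (S.map (Ideal.Quotient.mk I)) (Finset.univ : Finset (Fin n)) v.1
    choose z hz using fun t => hb t (Finset.mem_univ t)
    choose r hr using fun t => Ideal.Quotient.mk_surjective (z t)
    refine ⟨algebraMap (R ⧸ I) (Localization (S.map (Ideal.Quotient.mk I))) b, r, IsLocalization.map_units (Localization (S.map (Ideal.Quotient.mk I))) b, fun t => ?_⟩
    rw [IsScalarTower.algebraMap_apply R (R ⧸ I) (Localization (S.map (Ideal.Quotient.mk I))), Ideal.Quotient.algebraMap_eq]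
    rw [hr t, hz t, Algebra.smul_def]
  choose u r hu hr using hlift
  have hK' : Submodule.span (Localization (S.map (Ideal.Quotient.mk I))) (Set.range fun v t => algebraMap R (Localization (S.map (Ideal.Quotient.mk I))) (r v t)) = K := by
    apply le_antisymm
    · rw [Submodule.span_le, ← hs]
      rintro _ ⟨v, rfl⟩
      have : (fun t => algebraMap R (Localization (S.map (Ideal.Quotient.mk I))) (r v t)) = u v • v.1 := funext fun t => hr v t
      show (fun t => algebraMap R (Localization (S.map (Ideal.Quotient.mk I))) (r v t)) ∈ Submodule.span (Localization (S.map (Ideal.Quotient.mk I))) _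
      rw [this]
      exact Submodule.smul_mem _ _ (Submodule.subset_span v.2)
    · rw [← hs, Submodule.span_le]
      intro v hv
      obtain ⟨w, hw⟩ := hu ⟨v, hv⟩
      have : v = (↑w⁻¹ : (Localization (S.map (Ideal.Quotient.mk I)))) • fun t => algebraMap R (Localization (S.map (Ideal.Quotient.mk I))) (r ⟨v, hv⟩ t) := funext fun t => by
        rw [Pi.smul_apply, smul_eq_mul, hr ⟨v, hv⟩ t, ← hw, Units.inv_mul_cancel_left]
      rw [this]
      exact Submodule.smul_mem _ _ (Submodule.subset_span ⟨⟨v, hv⟩, rfl⟩)
  let M := (Fin n → R) ⧸ Submodule.span R (Set.range r)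
  refine ⟨M, inferInstance, inferInstance,
    Module.finitePresentation_of_surjective (Submodule.mkQ _) (Submodule.mkQ_surjective _)
      (by rw [Submodule.ker_mkQ]; exact Submodule.fg_span (Set.finite_range r)), ?_⟩
  obtain ⟨e2⟩ := Groth.Agent.PresDescLib.nonempty_quotient_equiv_baseChange (A := (Localization (S.map (Ideal.Quotient.mk I)))) r
  let q := TensorProduct.quotTensorEquivQuotSMul M I
  let qI : TensorProduct R (R ⧸ I) M ≃ₗ[R ⧸ I] (M ⧸ (I • ⊤ : Submodule R M)) :=
    { q with
      map_smul' := fun a x => by
        obtain ⟨a, rfl⟩ := Ideal.Quotient.mk_surjective a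
        show q (Ideal.Quotient.mk I a • x) = Ideal.Quotient.mk I a • q x
        rw [show Ideal.Quotient.mk I a = algebraMap R (R ⧸ I) a from rfl, algebraMap_smul, map_smul]
        rfl }
  exact ⟨((LocalizedModule.equivTensorProduct (S.map (Ideal.Quotient.mk I)) _).trans
    ((TensorProduct.AlgebraTensorModule.congr (LinearEquiv.refl (Localization (S.map (Ideal.Quotient.mk I))) (Localization (S.map (Ideal.Quotient.mk I)))) qI.symm).trans
      (TensorProduct.AlgebraTensorModule.cancelBaseChange R (R ⧸ I) (Localization (S.map (Ideal.Quotient.mk I))) (Localization (S.map (Ideal.Quotient.mk I))) M))).trans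
    (e2.symm.trans ((Submodule.quotEquivOfEq _ _ hK').trans e.symm))⟩

end Groth.Agent.S9167
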