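import Groth.Statements.S9168
import Mathlib
-- import your own Groth.Agent.* helpers here

set_option autoImplicit false
universe u
open CAlg

namespace Groth.Agent.S9168

/-- The local subring generated by a subring and a finite set, and how to write its elements. -/
theorem aux {R : Type u} [CommRing R] [IsLocalRing R] (A : Subring R) (E : Finset R) :
    ∃ (L : Subring R), (A : Set R) ∪ E ⊆ L ∧ IsLocalHom L.subtype ∧ IsLocalRing L ∧
      ∀ {B : Type u} [SetLike B L] [SubringClass B L] (T : B),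
        (∀ x ∈ A, ∃ y ∈ T, (y : R) = x) → (∀ x ∈ E, ∃ y ∈ T, (y : R) = x) →
          ∀ s : L, ∃ t ∈ T, IsUnit t ∧ s * t ∈ T := by
  let C := Subring.closure ((A : Set R) ∪ E)
  let L : Subring R :=
    { carrier := {x | ∃ a ∈ C, ∃ b ∈ C, IsUnit b ∧ x * b = a}
      mul_mem' := by
        rintro x y ⟨a, ha, b, hb, hu, rfl⟩ ⟨a', ha', b', hb', hu', rfl⟩
        exact ⟨_, mul_mem ha ha', b * b', mul_mem hb hb', hu.mul hu', by ring⟩
      one_mem' := ⟨1, one_mem _, 1, one_mem _, isUnit_one, by ring⟩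
      add_mem' := by
        rintro x y ⟨a, ha, b, hb, hu, rfl⟩ ⟨a', ha', b', hb', hu', rfl⟩
        exact ⟨_, add_mem (mul_mem ha hb') (mul_mem ha' hb), b * b', mul_mem hb hb', hu.mul hu', by ring⟩
      zero_mem' := ⟨0, zero_mem _, 1, one_mem _, isUnit_one, by ring⟩
      neg_mem' := by
        rintro x ⟨a, ha, b, hb, hu, rfl⟩
        exact ⟨_, neg_mem ha, b, hb, hu, by ring⟩ }
  have hCL : ∀ x ∈ C, x ∈ L := fun x hx => ⟨x, hx, 1, one_mem _, isUnit_one, mul_one x⟩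
  have hl : IsLocalHom L.subtype := ⟨fun x hx => by
    obtain ⟨a, ha, b, hb, hu, he⟩ := x.2
    have hua : IsUnit a := he ▸ (IsUnit.mul hx hu)
    obtain ⟨v, hv⟩ := hx.exists_right_inv
    have hvL : v ∈ L := ⟨b, hb, a, ha, hua, by
      have hv' : x.1 * v = 1 := hv
      rw [← he]; linear_combination b * hv'⟩
    exact IsUnit.of_mul_eq_one ⟨v, hvL⟩ (Subtype.ext hv)⟩
  refine ⟨L, fun x hx => hCL x (Subring.subset_closure hx), hl,
    RingHom.domain_isLocalRing L.subtype, fun {B} _ _ T hA hE s => ?_⟩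
  have key : ∀ c ∈ C, ∃ y ∈ T, (y : R) = c := by
    intro c hc
    induction hc using Subring.closure_induction with
    | mem x hx => exact hx.elim (hA x) (hE x)
    | zero => exact ⟨0, zero_mem T, rfl⟩
    | one => exact ⟨1, one_mem T, rfl⟩
    | add x y _ _ hx hy =>
      obtain ⟨a, ha, rfl⟩ := hx; obtain ⟨b, hb, rfl⟩ := hy
      exact ⟨a + b, add_mem ha hb, rfl⟩
    | neg x _ hx => obtain ⟨a, ha, rfl⟩ := hx; exact ⟨-a, neg_mem ha, rfl⟩
    | mul x y _ _ hx hy =>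
      obtain ⟨a, ha, rfl⟩ := hx; obtain ⟨b, hb, rfl⟩ := hy
      exact ⟨a * b, mul_mem ha hb, rfl⟩
  obtain ⟨a, ha, b, hb, hu, he⟩ := s.2
  obtain ⟨b', hb', rfl⟩ := key b hb
  obtain ⟨a', ha', rfl⟩ := key a ha
  exact ⟨b', hb', hl.map_nonunit b' hu, (Subtype.ext he : s * b' = a') ▸ ha'⟩

/-- For a local homomorphism of local rings R → S and finite subsets E ⊆ R, F ⊆ S there are local
subrings R₀ ⊆ R and S₀ ⊆ S containing E and F, with R → S mapping R₀ into S₀, such that the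
inclusions and the induced map R₀ → S₀ are local homomorphisms, R₀ is essentially of finite type
over ℤ and S₀ is essentially of finite type over R₀. (So R → S is the directed colimit of such R₀ →
S₀.) -/
theorem result (R S : Type u) [CommRing R] [CommRing S] [IsLocalRing R]
    [IsLocalRing S] [Algebra R S] [IsLocalHom (algebraMap R S)] (E : Finset R) (F : Finset S) :
    ∃ (R₀ : Subring R) (S₀ : Subring S) (h : ∀ x ∈ R₀, algebraMap R S x ∈ S₀),
      (E : Set R) ⊆ R₀ ∧ (F : Set S) ⊆ S₀ ∧ ∃ (_ : IsLocalRing R₀) (_ : IsLocalRing S₀),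
        IsLocalHom R₀.subtype ∧ IsLocalHom S₀.subtype ∧
          IsLocalHom ((algebraMap R S).restrict R₀ S₀ h) ∧
          (algebraMap ℤ R₀).EssFiniteType ∧ ((algebraMap R S).restrict R₀ S₀ h).EssFiniteType := by
  classical
  obtain ⟨R₀, hE, hlR, hR₀loc, hR₀⟩ := aux (⊥ : Subring R) E
  haveI := hR₀loc
  let A₁ : Subring S := R₀.map (algebraMap R S)
  obtain ⟨S₀, hF, hlS, hS₀loc, hS₀⟩ := aux A₁ F
  haveI := hS₀loc
  have h : ∀ x ∈ R₀, algebraMap R S x ∈ S₀ := fun x hx => hF (Or.inl ⟨x, hx, rfl⟩)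
  refine ⟨R₀, S₀, h, fun x hx => hE (Or.inr hx), fun x hx => hF (Or.inr hx),
    hR₀loc, hS₀loc, hlR, hlS, ⟨fun x hx => ?_⟩, ?_, ?_⟩
  · have h1 : IsUnit (algebraMap R S x.1) := hx.map S₀.subtype
    exact (isUnit_map_iff R₀.subtype x).1 ((isUnit_map_iff (algebraMap R S) x.1).1 h1)
  · rw [RingHom.essFiniteType_algebraMap]
    refine ⟨⟨(E.attach.image fun e => (⟨e.1, hE (Or.inr e.2)⟩ : R₀)), ?_⟩⟩
    rw [Algebra.essFiniteType_cond_iff]
    exact hR₀ _ (fun x hx => by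
        obtain ⟨n, rfl⟩ := Subring.mem_bot.1 hx
        exact ⟨(n : R₀), intCast_mem _ n, by simp⟩)
      (fun x hx => ⟨⟨x, hE (Or.inr hx)⟩,
        Algebra.subset_adjoin (Finset.mem_image.2 ⟨⟨x, hx⟩, Finset.mem_attach _ _, rfl⟩), rfl⟩)
  · algebraize [(algebraMap R S).restrict R₀ S₀ h]
    rw [RingHom.EssFiniteType]
    refine ⟨⟨(F.attach.image fun e => (⟨e.1, hF (Or.inr e.2)⟩ : S₀)), ?_⟩⟩
    rw [Algebra.essFiniteType_cond_iff]
    refine hS₀ _ (fun x hx => ?_)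
      (fun x hx => ⟨⟨x, hF (Or.inr hx)⟩,
        Algebra.subset_adjoin (Finset.mem_image.2 ⟨⟨x, hx⟩, Finset.mem_attach _ _, rfl⟩), rfl⟩)
    obtain ⟨r, hr, rfl⟩ := hx
    exact ⟨algebraMap R₀ S₀ ⟨r, hr⟩, Subalgebra.algebraMap_mem _ _, rfl⟩

end Groth.Agent.S9168
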