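import Groth.Statements.S9170
import Groth.Agent.TransLib.RelKoszul

set_option autoImplicit false
universe u
open Synt

namespace Groth.Agent.S9170

/-- For a relative global complete intersection S = R[x_1, …, x_n]/(f_1, …, f_c) over a ring R and a
prime q' of the polynomial ring containing the ideal (f_1, …, f_c): (1) f_1, …, f_c is a regular
sequence in the localization R[x]_{q'} (a local ring); (2) every quotient R[x]_{q'}/(f_1, …, f_i) is
flat over R; (3) the conormal module (f)/(f)² is free over S with basis the classes of the f_i
(stated as: these classes are linearly independent over S and span). -/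
theorem result (R : Type u) [CommRing R] (n c : ℕ)
    (F : Fin c → MvPolynomial (Fin n) R) (h : Synt.IsRelGCI R n c F)
    (q' : Ideal (MvPolynomial (Fin n) R)) [q'.IsPrime] (hq' : Ideal.span (Set.range F) ≤ q') :
    RingTheory.Sequence.IsRegular (Localization.AtPrime q')
        ((List.ofFn F).map (algebraMap (MvPolynomial (Fin n) R) (Localization.AtPrime q'))) ∧
      (∀ i ≤ c, Module.Flat R (Localization.AtPrime q' ⧸ Ideal.ofList
        (((List.ofFn F).take i).map (algebraMap (MvPolynomial (Fin n) R) (Localization.AtPrime q'))))) ∧
      LinearIndependent (Synt.RelGCIRing R n c F)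
        (fun i : Fin c => (Ideal.span (Set.range F)).toCotangent ⟨F i, Ideal.subset_span (Set.mem_range_self i)⟩) ∧
      Submodule.span (Synt.RelGCIRing R n c F) (Set.range
        (fun i : Fin c => (Ideal.span (Set.range F)).toCotangent ⟨F i, Ideal.subset_span (Set.mem_range_self i)⟩)) = ⊤ := by
  have hc : c ≤ n := by
    by_contra hc
    have h1 := TransLib.subsingleton_of_isRelGCI_of_lt h hc
    rw [Ideal.Quotient.subsingleton_iff] at h1
    exact (Ideal.IsPrime.ne_top inferInstance) (top_le_iff.1 (h1 ▸ hq'))
  have hdim := fun (p : Ideal R) (_ : p.IsPrime) => TransLib.fibre_le_of_isRelGCI h p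
  exact ⟨TransLib.regular_localization hc hdim q' hq', fun i _ => TransLib.flat_localization_take hc hdim q' hq' i,
    TransLib.cotangent_basis_of_isExactK F (TransLib.isExactK_of_isRelGCI h)⟩

end Groth.Agent.S9170
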