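import Groth.Statements.S9176
import Groth.Agent.FibDimLib.Retro

set_option autoImplicit false
universe u
open CAlg
open CategoryTheory AlgebraicGeometry

namespace Groth.Agent.S9176

/-- For a ring map R → S of finite presentation and n ≥ 0, the set of primes q of S whose fibre
Spec(κ(p) ⊗ S), p = q ∩ R, has local dimension at most n at the point over q is open and
quasi-compact in Spec S. -/
theorem result (R S : Type u) [CommRing R]
    [CommRing S] [Algebra R S] [Algebra.FinitePresentation R S] (n : ℕ) :
    IsOpen {q : PrimeSpectrum S | ∀ Q : PrimeSpectrum ((q.asIdeal.under R).Fiber S),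
        Q.asIdeal.comap (Algebra.TensorProduct.includeRight.toRingHom) = q.asIdeal →
          FlatMor.localDim (PrimeSpectrum ((q.asIdeal.under R).Fiber S)) Q ≤ (n : WithBot ℕ∞)} ∧
      IsCompact {q : PrimeSpectrum S | ∀ Q : PrimeSpectrum ((q.asIdeal.under R).Fiber S),
        Q.asIdeal.comap (Algebra.TensorProduct.includeRight.toRingHom) = q.asIdeal →
          FlatMor.localDim (PrimeSpectrum ((q.asIdeal.under R).Fiber S)) Q ≤ (n : WithBot ℕ∞)} := by
  let f := Spec.map (CommRingCat.ofHom (algebraMap R S))
  haveI : LocallyOfFinitePresentation f := by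
    rw [HasRingHomProperty.Spec_iff (P := @LocallyOfFinitePresentation)]
    exact RingHom.finitePresentation_algebraMap.mpr inferInstance
  have he : {q : PrimeSpectrum S | ∀ Q : PrimeSpectrum ((q.asIdeal.under R).Fiber S),
        Q.asIdeal.comap (Algebra.TensorProduct.includeRight.toRingHom) = q.asIdeal →
          FlatMor.localDim (PrimeSpectrum ((q.asIdeal.under R).Fiber S)) Q ≤ (n : WithBot ℕ∞)} =
      {x : ↥(Spec (CommRingCat.of S)) | FlatMor.fibreDimAt f x ≤ (n : WithBot ℕ∞)} := by
    ext q
    obtain ⟨Q₀, hQ₀, hd⟩ := FibDimLib.fibreDimAt_specMap R S q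
    refine ⟨fun h => hd.symm.trans_le (h Q₀ hQ₀), fun h Q hQ => ?_⟩
    obtain rfl : Q = Q₀ := (PrimeSpectrum.preimageHomeomorphFiber R S (PrimeSpectrum.comap (algebraMap R S) q)).symm.injective
      (Subtype.ext (PrimeSpectrum.ext (hQ.trans hQ₀.symm)))
    exact hd.trans_le h
  rw [he]
  exact ⟨FibDimLib.isOpen_fibreDimAt_le f _, FibDimLib.isCompact_fibreDimAt_le_of_isAffine f _⟩


end Groth.Agent.S9176
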