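import Groth.Statements.S9178
import Mathlib.RingTheory.Kaehler.Basic
import Mathlib.RingTheory.Ideal.Cotangent
import Mathlib.LinearAlgebra.Isomorphisms
-- import your own Groth.Agent.* helpers here

set_option autoImplicit false
universe u
open scoped TensorProduct
open CAlg

namespace Groth.Agent.S9178

/-- For ring maps A → B → C with A → C surjective, writing I = ker(A → C) and J = ker(B → C), the
sequence I/I² → J/J² → C ⊗_B Ω_{B/A} → 0 is exact. Stated: the image of I/I² in J/J² is exactly the
kernel of J/J² → C ⊗_B Ω_{B/A} (surjectivity of the latter map is the standard conormal sequence for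
the surjection B → C). -/
theorem result (A B C : Type u) [CommRing A] [CommRing B]
    [CommRing C] [Algebra A B] [Algebra B C] [Algebra A C] [IsScalarTower A B C]
    (hAC : Function.Surjective (algebraMap A C))
    (h : RingHom.ker (algebraMap A C) ≤ (RingHom.ker (algebraMap B C)).comap (Algebra.ofId A B)) :
    Function.Exact
      (Ideal.mapCotangent (RingHom.ker (algebraMap A C)) (RingHom.ker (algebraMap B C)) (Algebra.ofId A B) h)
      (KaehlerDifferential.kerCotangentToTensor A B C) := by
  classical
  set I := RingHom.ker (algebraMap A C)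
  set J := RingHom.ker (algebraMap B C)
  let μ := Ideal.mapCotangent I J (Algebra.ofId A B) h
  have hlift : ∀ b : B, ∃ a : A, b - algebraMap A B a ∈ J := fun b => by
    obtain ⟨a, ha⟩ := hAC (algebraMap B C b)
    exact ⟨a, by rw [RingHom.mem_ker, map_sub, ← IsScalarTower.algebraMap_apply, ha, sub_self]⟩
  -- the range of `μ` is stable under `B`
  let S : Submodule B J.Cotangent :=
    { carrier := Set.range μ
      add_mem' := by rintro _ _ ⟨u, rfl⟩ ⟨v, rfl⟩; exact ⟨u + v, map_add μ u v⟩
      zero_mem' := ⟨0, map_zero μ⟩
      smul_mem' := by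
        rintro b _ ⟨u, rfl⟩
        obtain ⟨a, ha⟩ := hlift b
        refine ⟨a • u, ?_⟩
        rw [map_smul, ← algebraMap_smul B a (μ u), ← sub_eq_zero, ← neg_sub (b • μ u), ← sub_smul,
          Ideal.Cotangent.smul_eq_zero_of_mem ha, neg_zero] }
  let q := S.mkQ
  choose a ha using id hlift
  let δ0 : B → (J.Cotangent ⧸ S) := fun b => q (J.toCotangent ⟨b - algebraMap A B (a b), ha b⟩)
  have indep : ∀ (b : B) (t : A) (ht : b - algebraMap A B t ∈ J), δ0 b = q (J.toCotangent ⟨b - algebraMap A B t, ht⟩) := by
    intro b t ht
    show S.mkQ _ = S.mkQ _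
    rw [Submodule.mkQ_apply, Submodule.mkQ_apply, Submodule.Quotient.eq, ← map_sub]
    have hI : t - a b ∈ I := by
      have h1 := J.sub_mem (ha b) ht
      rw [RingHom.mem_ker] at h1 ⊢
      rw [sub_sub_sub_cancel_left, map_sub, ← IsScalarTower.algebraMap_apply, ← IsScalarTower.algebraMap_apply] at h1
      rw [map_sub, h1]
    refine ⟨I.toCotangent ⟨t - a b, hI⟩, ?_⟩
    show Ideal.mapCotangent I J (Algebra.ofId A B) h _ = _
    rw [Ideal.mapCotangent_toCotangent]
    congr 1
    refine Subtype.ext ?_
    show algebraMap A B (t - a b) = (b - algebraMap A B (a b)) - (b - algebraMap A B t)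
    rw [map_sub]; ring
  have kill : ∀ (j : B) (z : J.Cotangent ⧸ S), j ∈ J → j • z = 0 := fun j z hj => by
    obtain ⟨z, rfl⟩ := Submodule.Quotient.mk_surjective _ z
    rw [← Submodule.Quotient.mk_smul, Ideal.Cotangent.smul_eq_zero_of_mem hj, Submodule.Quotient.mk_zero]
  have hadd : ∀ x y, δ0 (x + y) = δ0 x + δ0 y := fun x y => by
    have ht : x + y - algebraMap A B (a x + a y) ∈ J := by
      have := J.add_mem (ha x) (ha y)
      rwa [show x - algebraMap A B (a x) + (y - algebraMap A B (a y)) = x + y - algebraMap A B (a x + a y) by rw [map_add]; ring] at this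
    rw [indep _ _ ht]
    show q _ = q _ + q _
    rw [← map_add, ← map_add]
    congr 2
    exact Subtype.ext (by show x + y - algebraMap A B (a x + a y) = x - algebraMap A B (a x) + (y - algebraMap A B (a y)); rw [map_add]; ring)
  have hsm : ∀ (r : A) x, δ0 (r • x) = r • δ0 x := fun r x => by
    have ht : r • x - algebraMap A B (r * a x) ∈ J := by
      have := J.mul_mem_left (algebraMap A B r) (ha x)
      rwa [mul_sub, ← map_mul, ← Algebra.smul_def] at this
    rw [indep _ _ ht]
    show q _ = r • q _
    rw [← algebraMap_smul B r (q _), ← map_smul, ← map_smul]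
    congr 2
    exact Subtype.ext (by show r • x - algebraMap A B (r * a x) = algebraMap A B r * (x - algebraMap A B (a x)); rw [mul_sub, ← map_mul, ← Algebra.smul_def])
  let D : Derivation A B (J.Cotangent ⧸ S) := Derivation.mk' { toFun := δ0, map_add' := hadd, map_smul' := hsm } fun x y => by
    show δ0 (x * y) = x • δ0 y + y • δ0 x
    have ht : x * y - algebraMap A B (a x * a y) ∈ J := by
      have := J.add_mem (J.mul_mem_left x (ha y)) (J.mul_mem_left (algebraMap A B (a y)) (ha x))
      rwa [show x * (y - algebraMap A B (a y)) + algebraMap A B (a y) * (x - algebraMap A B (a x)) = x * y - algebraMap A B (a x * a y) by rw [map_mul]; ring] at this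
    have hy : y • δ0 x = algebraMap A B (a y) • δ0 x := by rw [← sub_eq_zero, ← sub_smul, kill _ _ (ha y)]
    rw [indep _ _ ht, hy]
    show q _ = x • q _ + algebraMap A B (a y) • q _
    rw [← map_smul, ← map_smul, ← map_smul, ← map_smul, ← map_add, ← map_add]
    congr 2
    exact Subtype.ext (by
      show x * y - algebraMap A B (a x * a y) = x * (y - algebraMap A B (a y)) + algebraMap A B (a y) * (x - algebraMap A B (a x))
      rw [map_mul]; ring)
  have hsurjC : Function.Surjective (Algebra.linearMap B C) := fun c => by
    obtain ⟨t, rfl⟩ := hAC c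
    exact ⟨algebraMap A B t, (IsScalarTower.algebraMap_apply A B C t).symm⟩
  let eC := (Algebra.linearMap B C).quotKerEquivOfSurjective hsurjC
  let act : C →ₗ[B] (KaehlerDifferential A B →ₗ[B] J.Cotangent ⧸ S) :=
    (Submodule.liftQ (LinearMap.ker (Algebra.linearMap B C)) (LinearMap.toSpanSingleton B _ D.liftKaehlerDifferential) (fun j hj => by
      rw [LinearMap.mem_ker]
      refine LinearMap.ext fun w => ?_
      show j • D.liftKaehlerDifferential w = 0
      exact kill _ _ hj)).comp eC.symm.toLinearMap
  let back : TensorProduct B C (KaehlerDifferential A B) →ₗ[B] J.Cotangent ⧸ S := TensorProduct.lift act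
  intro z
  constructor
  · intro hz
    obtain ⟨x, rfl⟩ := J.toCotangent_surjective z
    have h2 := congrArg back hz
    rw [KaehlerDifferential.kerCotangentToTensor_toCotangent, map_zero] at h2
    have h1 : eC.symm 1 = Submodule.Quotient.mk 1 := by
      rw [LinearEquiv.symm_apply_eq]
      exact (map_one (algebraMap B C)).symm
    have h3 : δ0 x.1 = 0 := by
      have e : back (1 ⊗ₜ[B] KaehlerDifferential.D A B x.1) = δ0 x.1 := by
        show act 1 (KaehlerDifferential.D A B x.1) = δ0 x.1
        simp only [act, LinearMap.comp_apply, LinearEquiv.coe_coe, h1, Submodule.liftQ_apply, LinearMap.toSpanSingleton_apply, one_smul]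
        exact D.liftKaehlerDifferential_comp_D x.1
      rw [← e]; exact h2
    rw [indep x.1 0 (by simp)] at h3
    have h4 : q (J.toCotangent x) = 0 := by simpa using h3
    exact (Submodule.Quotient.mk_eq_zero S).mp h4
  · rintro ⟨u, rfl⟩
    obtain ⟨v, rfl⟩ := I.toCotangent_surjective u
    rw [Ideal.mapCotangent_toCotangent, KaehlerDifferential.kerCotangentToTensor_toCotangent]
    show (1 : C) ⊗ₜ[B] KaehlerDifferential.D A B (algebraMap A B v.1) = 0
    rw [Derivation.map_algebraMap, TensorProduct.tmul_zero]

end Groth.Agent.S9178
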