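import Groth.Statements.S9179
import Mathlib
-- import your own Groth.Agent.* helpers here

set_option autoImplicit false
universe u
open CategoryTheory CategoryTheory.Limits
open CAlg

namespace Groth.Agent.S9179

/-- An R-algebra of finite type is the colimit of a filtered system of finitely presented R-algebras
whose transition maps are all surjective. -/
theorem result (R A : Type u) [CommRing R] [CommRing A]
    [Algebra R A] [Algebra.FiniteType R A] :
    ∃ (I : Type u) (_ : SmallCategory I) (_ : IsFiltered I) (D : I ⥤ Under (CommRingCat.of R))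
      (c : Cocone D) (_ : IsColimit c),
      (∀ i, (D.obj i).hom.hom.FinitePresentation) ∧
      (∀ (i j : I) (φ : i ⟶ j), Function.Surjective (D.map φ).right.hom) ∧
      Nonempty (c.pt ≅ Under.mk (CommRingCat.ofHom (algebraMap R A))) := by
  classical
  obtain ⟨n, π₀, hπ₀⟩ := Algebra.FiniteType.iff_quotient_mvPolynomial''.mp ‹Algebra.FiniteType R A›
  let I : Type u := {J : Finset (MvPolynomial (Fin n) R) // ↑J ⊆ (RingHom.ker π₀ : Set (MvPolynomial (Fin n) R))}
  let K : I → Ideal (MvPolynomial (Fin n) R) := fun J => Ideal.span ↑J.1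
  have hmono : ∀ J J' : I, J ≤ J' → K J ≤ K J' := fun J J' h => Ideal.span_mono (Finset.coe_subset.2 h)
  haveI : Nonempty I := ⟨⟨∅, by simp⟩⟩
  haveI : IsDirectedOrder I := ⟨fun J J' => ⟨⟨J.1 ∪ J'.1, by rw [Finset.coe_union]; exact Set.union_subset J.2 J'.2⟩,
      Finset.subset_union_left, Finset.subset_union_right⟩⟩
  let D : I ⥤ Under (CommRingCat.of R) :=
    { obj := fun J => Under.mk (CommRingCat.ofHom (algebraMap R (MvPolynomial (Fin n) R ⧸ K J)))
      map := fun {J J'} h => Under.homMk (CommRingCat.ofHom (Ideal.Quotient.factor (hmono J J' (leOfHom h))))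
        (by ext; rfl)
      map_id := fun J => by
        ext : 2
        exact Ideal.Quotient.ringHom_ext (RingHom.ext fun _ => rfl)
      map_comp := fun {J J' J''} f g => by
        ext : 2
        exact Ideal.Quotient.ringHom_ext (RingHom.ext fun _ => rfl) }
  let c : Cocone D :=
    { pt := Under.mk (CommRingCat.ofHom (algebraMap R A))
      ι :=
        { app := fun J => Under.homMk (CommRingCat.ofHom (Ideal.Quotient.lift (K J) π₀.toRingHom
            fun x hx => Ideal.span_le.2 (fun y hy => J.2 hy) hx))
            (by ext r; exact π₀.commutes r)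
          naturality := fun J J' h => by
            ext : 2
            exact Ideal.Quotient.ringHom_ext (RingHom.ext fun _ => rfl) } }
  have hc : IsColimit c := by
    let J₀ : I := ⟨∅, by simp⟩
    have key : ∀ (s : Cocone D) (J : I) (x : MvPolynomial (Fin n) R),
        (s.ι.app J).right.hom (Ideal.Quotient.mk (K J) x) = (s.ι.app J₀).right.hom (Ideal.Quotient.mk (K J₀) x) := by
      intro s J x
      rw [← s.w (homOfLE (Finset.empty_subset J.1) : J₀ ⟶ J)]
      rfl
    have hker : ∀ (s : Cocone D) (x : MvPolynomial (Fin n) R), x ∈ RingHom.ker π₀.toRingHom →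
        ((s.ι.app J₀).right.hom.comp (Ideal.Quotient.mk (K J₀))) x = 0 := by
      intro s x hx
      let J : I := ⟨{x}, by simpa using hx⟩
      show (s.ι.app J₀).right.hom (Ideal.Quotient.mk (K J₀) x) = 0
      rw [← key s J x, Ideal.Quotient.eq_zero_iff_mem.2 (Ideal.subset_span (Finset.mem_singleton_self x))]
      exact map_zero _
    let desc : ∀ s : Cocone D, A →+* s.pt.right := fun s =>
      RingHom.liftOfSurjective π₀.toRingHom hπ₀
        ⟨(s.ι.app J₀).right.hom.comp (Ideal.Quotient.mk (K J₀)), fun x hx => hker s x hx⟩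
    have hdesc : ∀ s x, desc s (π₀ x) = (s.ι.app J₀).right.hom (Ideal.Quotient.mk (K J₀) x) := fun s x =>
      RingHom.liftOfRightInverse_comp_apply _ _ _ _ x
    refine ⟨fun s => Under.homMk (CommRingCat.ofHom (desc s)) ?_, fun s J => ?_, fun s m hm => ?_⟩
    · ext r
      show desc s (algebraMap R A r) = s.pt.hom r
      rw [← π₀.commutes r, hdesc]
      exact congrArg (fun φ => φ r) (congrArg CommRingCat.Hom.hom (Under.w (s.ι.app J₀)))
    · ext : 2
      refine Ideal.Quotient.ringHom_ext (RingHom.ext fun x => ?_)
      show desc s (π₀ x) = (s.ι.app J).right.hom (Ideal.Quotient.mk (K J) x)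
      rw [hdesc]; exact (key s J x).symm
    · ext : 2
      refine RingHom.ext fun a => ?_
      obtain ⟨x, rfl⟩ := hπ₀ a
      show m.right.hom (π₀ x) = desc s (π₀ x)
      rw [hdesc, ← hm J₀]
      rfl
  refine ⟨I, inferInstance, inferInstance, D, c, hc, fun J => ?_, fun J J' φ => ?_, ⟨Iso.refl _⟩⟩
  · show (algebraMap R (MvPolynomial (Fin n) R ⧸ K J)).FinitePresentation
    rw [RingHom.finitePresentation_algebraMap]
    exact Algebra.FinitePresentation.quotient (Submodule.fg_span J.1.finite_toSet)
  · exact Ideal.Quotient.factor_surjective (hmono J J' (leOfHom φ))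

end Groth.Agent.S9179
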