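import Groth.Statements.S9181
import Groth.Agent.FibDimLib.QFPrescribed
-- import your own Groth.Agent.* helpers here

set_option autoImplicit false
set_option maxHeartbeats 2000000
set_option backward.isDefEq.respectTransparency false
universe u
open CAlg

namespace Groth.Agent.S9181

/-- Let R → S be of finite type, q a prime of S over p, Q the prime of κ(p) ⊗ S over q, with the fibre
of local dimension n at Q and κ(q) of transcendence degree r over κ(p). Then for some f ∉ p and g ∉
q there is an R-algebra map φ : R_f[x_1, …, x_n] → S_g, of finite type and quasi-finite, such that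
the inverse image of q S_g under φ is the ideal generated by p and the variables x_{r+1}, …, x_n. -/
theorem result (R S : Type u) [CommRing R] [CommRing S]
    [Algebra R S] [Algebra.FiniteType R S] (p : Ideal R) [p.IsPrime] (q : Ideal S) [q.IsPrime] [q.LiesOver p]
    [Algebra (Localization.AtPrime p) (Localization.AtPrime q)]
    [Localization.AtPrime.IsLiesOverAlgebra p q] (Q : PrimeSpectrum (p.Fiber S))
    (hQ : Q.asIdeal.comap (Algebra.TensorProduct.includeRight.toRingHom) = q) (n r : ℕ)
    (hdim : FlatMor.localDim (PrimeSpectrum (p.Fiber S)) Q = (n : WithBot ℕ∞))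
    (hr : Algebra.trdeg p.ResidueField q.ResidueField = r) :
    ∃ (f : R) (g : S), f ∉ p ∧ g ∉ q ∧
      ∃ φ : MvPolynomial (Fin n) (Localization.Away f) →ₐ[R] Localization.Away g,
        φ.toRingHom.FiniteType ∧ φ.toRingHom.QuasiFinite ∧
        (q.map (algebraMap S (Localization.Away g))).comap φ =
          p.map (algebraMap R (MvPolynomial (Fin n) (Localization.Away f))) ⊔
            Ideal.span (Set.range fun i : {i : Fin n // r ≤ (i : ℕ)} =>
              (MvPolynomial.X (i : Fin n) : MvPolynomial (Fin n) (Localization.Away f))) := by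
  obtain ⟨g, hg, φ, h1, h2, h3⟩ :=
    FibDimLib.exists_quasiFinite_mvPolynomial_prescribed R S p q Q hQ n hdim r hr
  let e : R ≃ₐ[R] Localization.Away (1 : R) :=
    IsLocalization.atUnits R (Submonoid.powers (1 : R)) (by
      rintro _ ⟨m, rfl⟩
      exact isUnit_one.pow m)
  let m : MvPolynomial (Fin n) R ≃ₐ[R] MvPolynomial (Fin n) (Localization.Away (1 : R)) :=
    MvPolynomial.mapAlgEquiv (Fin n) e
  refine ⟨1, g, fun h => ‹p.IsPrime›.ne_top ((Ideal.eq_top_iff_one p).mpr h), hg,
    φ.comp m.symm.toAlgHom, ?_, ?_, ?_⟩
  · exact RingHom.FiniteType.comp h1 (RingHom.FiniteType.of_surjective _ m.symm.surjective)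
  · exact RingHom.QuasiFinite.comp h2 (RingHom.QuasiFinite.of_finite
      (RingHom.Finite.of_surjective _ m.symm.surjective))
  · have hm : ∀ J : Ideal (MvPolynomial (Fin n) R),
        J.comap m.symm.toRingEquiv.toRingHom = J.map m.toRingEquiv.toRingHom := fun J =>
      Ideal.comap_symm m.toRingEquiv
    show ((q.map (algebraMap S (Localization.Away g))).comap φ).comap m.symm.toRingEquiv.toRingHom = _
    rw [h3, hm, Ideal.map_sup, Ideal.map_map, Ideal.map_span]
    congr 2
    · exact RingHom.ext m.commutes
    · rw [← Set.range_comp]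
      refine congrArg Set.range (funext fun i => ?_)
      show m (MvPolynomial.X (i : Fin n)) = MvPolynomial.X (i : Fin n)
      simp [m]

end Groth.Agent.S9181
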