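import Groth.Statements.S9182
import Groth.Agent.CotPresLib.Basic

set_option backward.isDefEq.respectTransparency false
set_option maxSynthPendingDepth 3
set_option linter.style.haveILetI false

set_option autoImplicit false
universe u
open CAlg

namespace Groth.Agent.S9182

/-- For presentations α : R[x_1, …, x_n] → S and β : R[y_1, …, y_m] → S_g (g ∈ S) with kernels I and J,
the S_g-modules (I/I²)_g ⊕ S_g^m and J/J² ⊕ S_g^n are isomorphic. -/
theorem result (R S : Type u) [CommRing R] [CommRing S] [Algebra R S]
    (g : S) (n m : ℕ) (α : MvPolynomial (Fin n) R →ₐ[R] S) (hα : Function.Surjective α)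
    (β : MvPolynomial (Fin m) R →ₐ[R] Localization.Away g) (hβ : Function.Surjective β) :
    Nonempty ((LocalizedModule (Submonoid.powers g) (Algebra.Extension.ofSurjective α hα).Cotangent ×
        (Fin m → Localization.Away g)) ≃ₗ[Localization.Away g]
      ((Algebra.Extension.ofSurjective β hβ).Cotangent × (Fin n → Localization.Away g))) := by
  classical
  set P := Algebra.Extension.ofSurjective α hα
  set T := Localization.Away g
  haveI := CotPresLib.formallySmooth_ofSurjective α hα
  haveI := CotPresLib.formallySmooth_ofSurjective β hβ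
  obtain ⟨Q, hQ, ⟨eC⟩, ⟨eS⟩⟩ := CotPresLib.exists_localization P (Submonoid.powers g) T
  obtain ⟨eα⟩ := CotPresLib.nonempty_cotangentSpace_ofSurjective α hα
  obtain ⟨eβ⟩ := CotPresLib.nonempty_cotangentSpace_ofSurjective β hβ
  obtain ⟨E⟩ := CotPresLib.nonempty_cotangent_prod_cotangentSpace Q (Algebra.Extension.ofSurjective β hβ)
  let eL : LocalizedModule (Submonoid.powers g) P.Cotangent ≃ₗ[T] Q.Cotangent :=
    (LocalizedModule.equivTensorProduct (Submonoid.powers g) P.Cotangent).trans eC
  let eQ : Q.CotangentSpace ≃ₗ[T] (Fin n → T) :=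
    eS.symm.trans (((Module.Basis.ofEquivFun eα).baseChange T).equivFun)
  exact ⟨(eL.prodCongr eβ.symm).trans (E.trans ((LinearEquiv.refl T _).prodCongr eQ))⟩

end Groth.Agent.S9182
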