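import Groth.Statements.S9185
import Mathlib

set_option autoImplicit false
universe u
open Diff16

namespace Groth.Agent.S9185

open scoped TensorProduct

variable {R S : Type u} [CommRing R] [CommRing S] [Algebra R S] {M : Type u} [AddCommGroup M]
  [Module S M] [Module R M] [IsScalarTower R S M]

/-- The linearization of an `R`-linear map. -/
noncomputable def lin {N : Type u} [AddCommGroup N] [Module S N] [Module R N] [IsScalarTower R S N]
    (D : M →ₗ[R] N) : S ⊗[R] M →ₗ[S] N := LinearMap.liftBaseChange S D

/-- The operator whose composite with the linearization of `D` is that of the commutator with `b`. -/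
noncomputable def Φ (b : S) : S ⊗[R] M →ₗ[S] S ⊗[R] M :=
  lin ((TensorProduct.mk R S M 1) ∘ₗ ((LinearMap.lsmul S M b).restrictScalars R) -
    b • (TensorProduct.mk R S M 1))

/-- The relations defining the operators of order at most `n`. -/
noncomputable def rel : ℕ → Submodule S (S ⊗[R] M)
  | 0 => Submodule.span S (Set.range fun x : S × M => (1 : S) ⊗ₜ[R] (x.1 • x.2) - x.1 ⊗ₜ[R] x.2)
  | n + 1 => ⨆ b : S, (rel n).map (Φ b)

theorem isDiffOpLE_iff {N : Type u} [AddCommGroup N] [Module S N] [Module R N] [IsScalarTower R S N] :
    ∀ (n : ℕ) (D : M →ₗ[R] N), Diff16.IsDiffOpLE R S M N n D ↔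
      rel (R := R) (S := S) (M := M) n ≤ LinearMap.ker (lin D)
  | 0, D => by
    refine ⟨fun h => Submodule.span_le.2 ?_, fun h b m => ?_⟩
    · rintro _ ⟨⟨b, m⟩, rfl⟩
      simp [lin, h b m]
    · have h1 := h (Submodule.subset_span ⟨(b, m), rfl⟩)
      simpa [lin, sub_eq_zero] using h1
  | n + 1, D => by
    have hΦ : ∀ b : S, lin D ∘ₗ Φ b = lin (Diff16.commutator R S M N D b) := fun b => by
      ext m
      simp [lin, Φ, Diff16.commutator, TensorProduct.smul_tmul']
    show (∀ b, Diff16.IsDiffOpLE R S M N n (Diff16.commutator R S M N D b)) ↔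
      (⨆ b : S, (rel n).map (Φ b)) ≤ _
    rw [iSup_le_iff]
    refine forall_congr' fun b => ?_
    rw [isDiffOpLE_iff n, Submodule.map_le_iff_le_comap, ← hΦ b, LinearMap.ker_comp]


/-- For a ring map R → S, an S-module M and k ≥ 0 there is an S-module P together with a differential
operator D : M → P of order at most k (relative to R → S) such that every differential operator of
order at most k from M to an S-module N is α ∘ D for a unique S-linear map α : P → N; that is,
differential operators of order ≤ k out of M are represented by P. (Target modules N are taken in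
the same universe.) -/
theorem result (R S : Type u) [CommRing R] [CommRing S] [Algebra R S] (M : Type u)
    [AddCommGroup M] [Module S M] [Module R M] [IsScalarTower R S M] (k : ℕ) :
    ∃ (P : Type u) (_ : AddCommGroup P) (_ : Module S P) (_ : Module R P) (_ : IsScalarTower R S P)
      (D : M →ₗ[R] P), Diff16.IsDiffOpLE R S M P k D ∧
        ∀ (N : Type u) [AddCommGroup N] [Module S N] [Module R N] [IsScalarTower R S N] (D' : M →ₗ[R] N),
          Diff16.IsDiffOpLE R S M N k D' → ∃! α : P →ₗ[S] N, α.restrictScalars R ∘ₗ D = D' := by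
  let P := (S ⊗[R] M) ⧸ rel (R := R) (S := S) (M := M) k
  let D : M →ₗ[R] P := ((rel (R := R) (S := S) (M := M) k).mkQ.restrictScalars R) ∘ₗ
    TensorProduct.mk R S M 1
  refine ⟨P, inferInstance, inferInstance, inferInstance, inferInstance, D, ?_, ?_⟩
  · rw [isDiffOpLE_iff]
    have : lin (S := S) D = (rel (R := R) (S := S) (M := M) k).mkQ := by
      ext m
      simp [lin, D]
      rfl
    rw [this, Submodule.ker_mkQ]
  · intro N _ _ _ _ D' hD'
    refine ⟨(rel (R := R) (S := S) (M := M) k).liftQ (lin D') ((isDiffOpLE_iff k D').1 hD'), ?_, ?_⟩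
    · ext m
      show lin (S := S) D' ((1 : S) ⊗ₜ[R] m) = D' m
      simp [lin]
    · intro α hα
      refine Submodule.linearMap_qext _ ?_
      ext m
      simpa [lin, D] using LinearMap.congr_fun hα m

end Groth.Agent.S9185
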