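import Groth.Statements.S9195
import Groth.Agent.RichLib.LimitDescent
import Groth.Agent.FibDimLib.SchemeInv
import Groth.Agent.S0402
-- import your own Groth.Agent.* helpers here

set_option autoImplicit false
set_option backward.isDefEq.respectTransparency false
set_option linter.all false
universe u
open CategoryTheory AlgebraicGeometry
open Lim

namespace Groth.Agent.S9195

open CategoryTheory CategoryTheory.Limits AlgebraicGeometry TopologicalSpace RichLib.LimBC

/-- Locally of finite type with fibre dimensions at most `d`. -/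
def DimLE (d : ℕ) : MorphismProperty Scheme.{u} :=
  fun X _ f => LocallyOfFiniteType f ∧ ∀ x : X, FlatMor.fibreDimAt f x ≤ d

instance (d : ℕ) : (DimLE.{u} d).IsStableUnderBaseChange where
  of_isPullback {X Y Y' S f g f' g'} sq h := by
    haveI := h.1
    refine ⟨MorphismProperty.of_isPullback (P := @LocallyOfFiniteType) sq h.1, fun x => ?_⟩
    rw [FibDimLib.fibreDimAt_baseChange sq x]
    exact h.2 _

/-- Let S = lim S_i be a cofiltered limit of schemes with affine transition morphisms, S_{i₀} a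
quasi-compact quasi-separated stage, f₀ : X₀ → Y₀ a morphism of quasi-compact quasi-separated
schemes over S_{i₀}, and f : X → Y its base change along S → S_{i₀} (base changes expressed by
pullback squares). Let d be a natural number. If f₀ is locally of finite type and f has relative
dimension at most d (every fibre of f has local dimension at most d at each of its points), then for
some index i over i₀ the base change f_i : X_i → Y_i of f₀ along S_i → S_{i₀} has relative dimension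
at most d. -/
theorem result {I : Type u} [SmallCategory I] [IsCofiltered I]
    (D : I ⥤ Scheme.{u}) (c : Limits.Cone D) (hc : Limits.IsLimit c)
    [∀ (i j : I) (f : i ⟶ j), IsAffineHom (D.map f)] (i₀ : I) [CompactSpace (D.obj i₀)]
    [QuasiSeparatedSpace (D.obj i₀)] {X₀ Y₀ : Scheme.{u}} (f₀ : X₀ ⟶ Y₀) (g₀ : Y₀ ⟶ D.obj i₀)
    [CompactSpace X₀] [QuasiSeparatedSpace X₀] [CompactSpace Y₀] [QuasiSeparatedSpace Y₀]
    [LocallyOfFiniteType f₀] (d : ℕ)
    {X Y : Scheme.{u}} (f : X ⟶ Y) (g : Y ⟶ c.pt) (qY : Y ⟶ Y₀) (qX : X ⟶ X₀)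
    (hY : IsPullback qY g g₀ (c.π.app i₀)) (hX : IsPullback qX f f₀ qY) (hd : ∀ x : X, FlatMor.fibreDimAt f x ≤ d) :
    ∃ (i : I) (φ : i ⟶ i₀) (Xi Yi : Scheme.{u}) (fi : Xi ⟶ Yi) (gi : Yi ⟶ D.obj i) (pY : Yi ⟶ Y₀)
      (pX : Xi ⟶ X₀), IsPullback pY gi g₀ (D.map φ) ∧ IsPullback pX fi f₀ pY ∧ ∀ x : Xi, FlatMor.fibreDimAt fi x ≤ d := by
  have H : ∀ B : Sys (Over i₀) Y₀, AtLim B f₀ (DimLE d) → ∃ φ, At B f₀ (DimLE d) φ := by
    intro B hB
    let C := pb B f₀
    let V : X₀.Opens := ⟨{x | FlatMor.fibreDimAt f₀ x ≤ d}, Groth.Agent.S0402.result f₀ d⟩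
    obtain ⟨φ₀⟩ := IsCofiltered.nonempty (C := Over i₀)
    obtain ⟨j, a, hj⟩ := exists_map_preimage_eq_top C (C.t φ₀ ⁻¹ᵁ V) (by
      refine eq_top_iff.mpr fun z _ => ?_
      show (C.c.π.app φ₀ ≫ C.t φ₀) z ∈ V
      rw [C.hs φ₀]
      exact (FibDimLib.fibreDimAt_baseChange (IsPullback.of_hasPullback f₀ B.s) z).symm.trans_le (hB.2 z))
    refine ⟨j, MorphismProperty.of_isPullback (P := @LocallyOfFiniteType) (IsPullback.of_hasPullback f₀ (B.t j)) inferInstance, fun x => ?_⟩
    rw [FibDimLib.fibreDimAt_baseChange (IsPullback.of_hasPullback f₀ (B.t j)) x]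
    have hx : (C.D.map a ≫ C.t φ₀) x ∈ V := hj.ge (Set.mem_univ x)
    rw [C.w a] at hx
    exact hx
  obtain ⟨i, φ, Xi, Yi, fi, gi, pY, pX, h₁, h₂, h₃⟩ := descend_of_sys (DimLE d) D c hc i₀ f₀ g₀ f g qY qX hY hX
    ⟨MorphismProperty.of_isPullback (P := @LocallyOfFiniteType) hX inferInstance, hd⟩ H
  exact ⟨i, φ, Xi, Yi, fi, gi, pY, pX, h₁, h₂, h₃.2⟩

end Groth.Agent.S9195
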