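import Groth.Statements.S9196
import Groth.Agent.FibDimLib.Retro
import Groth.Agent.FibDimLib.Comps
import Groth.Agent.FibDimLib.Pure
import Groth.Agent.ConsLib.General

set_option autoImplicit false
set_option backward.isDefEq.respectTransparency false
set_option backward.isDefEq.respectTransparency.types false
set_option maxRecDepth 8000
set_option maxHeartbeats 1000000
universe u
open CategoryTheory AlgebraicGeometry
open Lim

namespace Groth.Agent.S9196

/-- Let S = lim S_i be a cofiltered limit of schemes with affine transition morphisms, S_{i₀} a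
quasi-compact quasi-separated stage, f₀ : X₀ → Y₀ a morphism of quasi-compact quasi-separated
schemes over S_{i₀}, and f : X → Y its base change along S → S_{i₀} (base changes expressed by
pullback squares). Let d be a natural number. If f₀ is locally of finite presentation and f has
relative dimension d (every irreducible component of every fibre of f has dimension d), then for
some index i over i₀ the base change f_i : X_i → Y_i of f₀ along S_i → S_{i₀} has relative dimension
d. -/
theorem result {I : Type u} [SmallCategory I] [IsCofiltered I]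
    (D : I ⥤ Scheme.{u}) (c : Limits.Cone D) (hc : Limits.IsLimit c)
    [∀ (i j : I) (f : i ⟶ j), IsAffineHom (D.map f)] (i₀ : I) [CompactSpace (D.obj i₀)]
    [QuasiSeparatedSpace (D.obj i₀)] {X₀ Y₀ : Scheme.{u}} (f₀ : X₀ ⟶ Y₀) (g₀ : Y₀ ⟶ D.obj i₀)
    [CompactSpace X₀] [QuasiSeparatedSpace X₀] [CompactSpace Y₀] [QuasiSeparatedSpace Y₀]
    [LocallyOfFinitePresentation f₀] (d : ℕ)
    {X Y : Scheme.{u}} (f : X ⟶ Y) (g : Y ⟶ c.pt) (qY : Y ⟶ Y₀) (qX : X ⟶ X₀)
    (hY : IsPullback qY g g₀ (c.π.app i₀)) (hX : IsPullback qX f f₀ qY) (hd : Cyc.HasRelDim f d) :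
    ∃ (i : I) (φ : i ⟶ i₀) (Xi Yi : Scheme.{u}) (fi : Xi ⟶ Yi) (gi : Yi ⟶ D.obj i) (pY : Yi ⟶ Y₀)
      (pX : Xi ⟶ X₀), IsPullback pY gi g₀ (D.map φ) ∧ IsPullback pX fi f₀ pY ∧ Cyc.HasRelDim fi d := by
  haveI : LocallyOfFinitePresentation f := MorphismProperty.of_isPullback hX inferInstance
  -- pointwise form of the relative dimension
  have hpt : ∀ {V W : Scheme.{u}} (h : V ⟶ W) [LocallyOfFiniteType h],
      Cyc.HasRelDim h d ↔ ∀ v : V, FlatMor.fibreDimAt h v = (d : WithBot ℕ∞) := by
    intro V W h _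
    constructor
    · intro hh v
      haveI : LocallyOfFiniteType (h.fiberToSpecResidueField (h.base v)) := UOpenLib.lft_fiberToSpec h _
      exact FibDimLib.IsPureDim.localDim_eq (k := W.residueField (h.base v))
        (h.fiberToSpecResidueField (h.base v)) (hh (h.base v)) _
    · intro hh y T hT
      haveI : LocallyOfFiniteType (h.fiberToSpecResidueField y) := UOpenLib.lft_fiberToSpec h _
      obtain ⟨z, -, hz⟩ := FibDimLib.exists_generic_of_component (h.fiberToSpecResidueField y) hT
      rw [← hz, ← FibDimLib.fibreDimAt_fiberι, hh]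
  let B : Set X₀ := {x | FlatMor.fibreDimAt f₀ x ≠ (d : WithBot ℕ∞)}
  have hle : ∀ c' : WithBot ℕ∞, Topology.IsLocallyConstructible {x : X₀ | FlatMor.fibreDimAt f₀ x ≤ c'} :=
    fun c' => ((FibDimLib.isRetrocompact_fibreDimAt_le f₀ c').isConstructible
      (FibDimLib.isOpen_fibreDimAt_le f₀ c')).isLocallyConstructible
  have hB : Topology.IsLocallyConstructible B := by
    let c' : WithBot ℕ∞ := if d = 0 then ⊥ else ((d - 1 : ℕ) : WithBot ℕ∞)
    have e : B = {x : X₀ | FlatMor.fibreDimAt f₀ x ≤ (d : WithBot ℕ∞)}ᶜ ∪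
        {x : X₀ | FlatMor.fibreDimAt f₀ x ≤ c'} := by
      have key : ∀ a : WithBot ℕ∞, a ≠ (d : WithBot ℕ∞) ↔ ¬ a ≤ (d : WithBot ℕ∞) ∨ a ≤ c' := by
        intro a
        have h1 : a ≠ (d : WithBot ℕ∞) ↔ ¬ a ≤ (d : WithBot ℕ∞) ∨ a < (d : WithBot ℕ∞) := by
          rw [ne_iff_lt_or_gt, not_le, or_comm]
        rw [h1]
        refine or_congr Iff.rfl ?_
        rcases d with _ | n
        · cases a with
          | bot => simp [c']
          | coe b =>
            simp only [c', Nat.cast_zero, if_true, le_bot_iff, WithBot.coe_ne_bot, iff_false, not_lt]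
            exact WithBot.coe_le_coe.mpr zero_le
        · simp only [c', Nat.succ_ne_zero, if_false, Nat.add_sub_cancel]
          push_cast
          exact ENat.WithBot.lt_add_one_iff
      ext x
      exact key _
    rw [e]
    exact ((ProConsLib.isLocallyConstructible_compl (hle _))).union (hle _)
  haveI : QuasiCompact (f₀ ≫ g₀) := inferInstance
  have hE : ProCons.IsIndConstructible ((f₀ ≫ g₀).base '' B)ᶜ :=
    ProConsLib.isIndConstructible_compl_iff.mpr (ProConsLib.isProConstructible_image _
      (ProConsLib.isProConstructible_of_isLocallyConstructible hB))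
  obtain ⟨j, φ, hφ⟩ := ConsLib.exists_stage_subset D c hc i₀ hE (fun s => by
    rintro ⟨x, hxB, hx⟩
    obtain ⟨x', hx', -⟩ := Scheme.exists_preimage_of_isPullback (hX.paste_vert hY) x s hx
    apply hxB
    rw [← hx', ← FibDimLib.fibreDimAt_baseChange hX x']
    exact (hpt f).mp hd x')
  refine ⟨j, φ, _, _, Limits.pullback.snd f₀ (Limits.pullback.fst g₀ (D.map φ)), _, _, _,
    IsPullback.of_hasPullback g₀ (D.map φ), IsPullback.of_hasPullback f₀ (Limits.pullback.fst g₀ (D.map φ)),
    (hpt _).mpr fun x => ?_⟩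
  rw [FibDimLib.fibreDimAt_baseChange (IsPullback.of_hasPullback f₀ (Limits.pullback.fst g₀ (D.map φ))) x]
  by_contra hne
  have hw := ((IsPullback.of_hasPullback f₀ (Limits.pullback.fst g₀ (D.map φ))).paste_vert
    (IsPullback.of_hasPullback g₀ (D.map φ))).w
  exact hφ _ ⟨_, hne, by rw [← Scheme.Hom.comp_apply, hw, Scheme.Hom.comp_apply]⟩

end Groth.Agent.S9196
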