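import Groth.Statements.S9197
import Mathlib
import Mathlib
import Groth.Agent.RichLib.LimitDescentProps
import Groth.Agent.RichLib.LimitDescentFlat
-- import your own Groth.Agent.* helpers here

set_option autoImplicit false
universe u
open CategoryTheory AlgebraicGeometry
open Lim

namespace Groth.Agent.S9197

open CategoryTheory.Limits RichLib.LimBC

theorem stable_finLocFreeOfDeg (d : ℕ) :
    MorphismProperty.IsStableUnderBaseChange
      (fun _ _ f => Mor2.IsFinLocFreeOfDeg d f : MorphismProperty Scheme.{u}) := by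
  refine ⟨fun sq hg => ?_⟩
  obtain ⟨⟨h₁, h₂, h₃⟩, h₄⟩ := hg
  haveI := h₁; haveI := h₂
  refine ⟨⟨MorphismProperty.of_isPullback sq h₁, MorphismProperty.of_isPullback sq h₂,
    MorphismProperty.of_isPullback sq h₃⟩, fun y => ?_⟩
  rw [Scheme.Hom.finrank_of_isPullback _ _ _ _ sq y]
  exact h₄ _

theorem exists_at_finLocFreeOfDeg {I : Type u} [SmallCategory I] [IsCofiltered I] {S W : Scheme.{u}}
    (A : Sys I S) (g : W ⟶ S) [CompactSpace S] [QuasiCompact g] [QuasiSeparated g] [LocallyOfFinitePresentation g]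
    (d : ℕ) (h : Mor2.IsFinLocFreeOfDeg d (pullback.snd g A.s)) :
    ∃ i, Mor2.IsFinLocFreeOfDeg d (pullback.snd g (A.t i)) := by
  obtain ⟨⟨h₁, h₂, -⟩, h₄⟩ := h
  obtain ⟨i₁, hi₁⟩ := exists_at_isFinite A g h₁
  obtain ⟨i₂, hi₂⟩ := exists_at_flat A g h₂
  let i := IsCofiltered.min i₁ i₂
  haveI : IsFinite (pullback.snd g (A.t i)) := at_of_hom A g (IsCofiltered.minToLeft i₁ i₂) hi₁
  haveI : Flat (pullback.snd g (A.t i)) := at_of_hom A g (IsCofiltered.minToRight i₁ i₂) hi₂
  let V : (A.D.obj i).Opens := ⟨(pullback.snd g (A.t i)).finrank ⁻¹' {d},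
    (Scheme.Hom.isLocallyConstant_finrank (pullback.snd g (A.t i))).isOpen_fiber d⟩
  obtain ⟨j, a, hj⟩ := exists_map_preimage_eq_top A V (by
    refine eq_top_iff.mpr fun z _ => ?_
    show (pullback.snd g (A.t i)).finrank ((A.c.π.app i) z) = d
    rw [← Scheme.Hom.finrank_of_isPullback _ _ _ _ (isPullback_cone A g i) z]
    exact h₄ z)
  refine ⟨j, ⟨⟨at_of_hom (P := @IsFinite) A g a ‹IsFinite (pullback.snd g (A.t i))›,
    at_of_hom (P := @Flat) A g a ‹Flat (pullback.snd g (A.t i))›,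
    inferInstance⟩, fun y => ?_⟩⟩
  rw [Scheme.Hom.finrank_of_isPullback _ _ _ _ (isPullback_map A g a) y]
  exact hj.ge (Set.mem_univ y)

end Groth.Agent.S9197

namespace Groth.Agent.S9197

/-- Let S = lim S_i be a cofiltered limit of schemes with affine transition morphisms, S_{i₀} a
quasi-compact quasi-separated stage, f₀ : X₀ → Y₀ a morphism of quasi-compact quasi-separated
schemes over S_{i₀}, and f : X → Y its base change along S → S_{i₀} (base changes expressed by
pullback squares). Let d be a natural number. If f₀ is locally of finite presentation and f is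
finite locally free of degree d (finite, flat, locally of finite presentation, with rank function
constant equal to d), then for some index i over i₀ the base change f_i : X_i → Y_i of f₀ along S_i
→ S_{i₀} is finite locally free of degree d. -/
theorem result {I : Type u} [SmallCategory I] [IsCofiltered I]
    (D : I ⥤ Scheme.{u}) (c : Limits.Cone D) (hc : Limits.IsLimit c)
    [∀ (i j : I) (f : i ⟶ j), IsAffineHom (D.map f)] (i₀ : I) [CompactSpace (D.obj i₀)]
    [QuasiSeparatedSpace (D.obj i₀)] {X₀ Y₀ : Scheme.{u}} (f₀ : X₀ ⟶ Y₀) (g₀ : Y₀ ⟶ D.obj i₀)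
    [CompactSpace X₀] [QuasiSeparatedSpace X₀] [CompactSpace Y₀] [QuasiSeparatedSpace Y₀]
    [LocallyOfFinitePresentation f₀] (d : ℕ)
    {X Y : Scheme.{u}} (f : X ⟶ Y) (g : Y ⟶ c.pt) (qY : Y ⟶ Y₀) (qX : X ⟶ X₀)
    (hY : IsPullback qY g g₀ (c.π.app i₀)) (hX : IsPullback qX f f₀ qY) (hf : Mor2.IsFinLocFreeOfDeg d f) :
    ∃ (i : I) (φ : i ⟶ i₀) (Xi Yi : Scheme.{u}) (fi : Xi ⟶ Yi) (gi : Yi ⟶ D.obj i) (pY : Yi ⟶ Y₀)
      (pX : Xi ⟶ X₀), IsPullback pY gi g₀ (D.map φ) ∧ IsPullback pX fi f₀ pY ∧ Mor2.IsFinLocFreeOfDeg d fi := by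
  haveI : QuasiCompact f₀ := quasiCompact_of_compactSpace f₀
  haveI := Groth.Agent.S9197.stable_finLocFreeOfDeg.{u} d
  exact RichLib.LimBC.descend_of_sys (fun _ _ f => Mor2.IsFinLocFreeOfDeg d f : MorphismProperty Scheme.{u})
    D c hc i₀ f₀ g₀ f g qY qX hY hX hf fun B hB => Groth.Agent.S9197.exists_at_finLocFreeOfDeg B f₀ d hB

end Groth.Agent.S9197
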