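import Groth.Statements.S9202
import Groth.Agent.NoethApproxLib.Proper
import Groth.Agent.DescFP.Main
import Groth.Agent.ConsLib.PairProper
-- import your own Groth.Agent.* helpers here

set_option autoImplicit false
universe u
open CategoryTheory AlgebraicGeometry
open Lim

namespace Groth.Agent.S9202

theorem _root_.NoethApproxLib.isProper_snd' {X Y T : Scheme.{u}} (q : X ⟶ Y) (t : T ⟶ Y)
    [IsProper q] : IsProper (Limits.pullback.snd q t) := inferInstance

theorem _root_.NoethApproxLib.isProper_comp' {X Y T : Scheme.{u}} {q : X ⟶ Y} {t : Y ⟶ T}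
    (hq : IsClosedImmersion q) (ht : IsProper t) : IsProper (q ≫ t) := inferInstance

/-- Let S be a scheme and X = lim X_i a cofiltered limit of S-schemes X_i (a diagram with a compatible
family of structure maps to S) with affine transition morphisms, every X_i quasi-compact and
quasi-separated; the structure map X → S is the composite X → X_{i₀} → S for any index i₀. Let h : Y
→ X be a proper morphism such that the composite Y → X → S is locally of finite type. Then Y → X_i
is proper for all i beyond some index i₁. -/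
theorem result {I : Type u} [SmallCategory I] [IsCofiltered I] (S : Scheme.{u})
    (D : I ⥤ Scheme.{u}) (t : D ⟶ (Functor.const I).obj S) (c : Limits.Cone D) (hc : Limits.IsLimit c)
    [∀ (i j : I) (a : i ⟶ j), IsAffineHom (D.map a)]
    [∀ i, CompactSpace (D.obj i)] [∀ i, QuasiSeparatedSpace (D.obj i)] (i₀ : I)
    {Y : Scheme.{u}} (h : Y ⟶ c.pt) [IsProper h] [LocallyOfFiniteType (h ≫ c.π.app i₀ ≫ t.app i₀)] :
    ∃ i₁ : I, ∀ (i : I) (_ : i ⟶ i₁), IsProper (h ≫ c.π.app i) := by
  haveI := isAffineHom_π_app D c hc i₀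
  haveI : CompactSpace c.pt := QuasiCompact.compactSpace_of_compactSpace (c.π.app i₀)
  haveI : QuasiSeparatedSpace c.pt := quasiSeparatedSpace_of_quasiSeparated (c.π.app i₀)
  obtain ⟨P, -, hP⟩ := NoethApproxLib.exists_proper_system h
  obtain ⟨k⟩ := IsCofiltered.nonempty (C := P.Jᵒᵖ)
  haveI := (hP k).1
  haveI hpr : IsProper (P.D.obj k).hom := (hP k).2
  haveI := P.lfp k
  obtain ⟨j, ⟨M⟩⟩ := DescFP.exists_model hc (P.D.obj k).hom
  haveI := M.lfp
  haveI := M.qc
  haveI := M.qs
  let A := RichLib.LimBC.ofStage D c hc j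
  obtain ⟨φ, hφ⟩ := ConsLib.exists_at_isProper A M.p (by
    show IsProper (Limits.pullback.snd M.p (c.π.app j))
    rw [← M.sq.isoPullback_inv_snd]
    infer_instance)
  let M' := M.push φ.hom
  haveI : IsProper M'.p := hφ
  haveI := M'.qc
  haveI : CompactSpace M'.Z := M'.compactSpace
  let A' := RichLib.LimBC.ofStage D c hc φ.left
  let B := RichLib.LimBC.pb A' M'.p
  haveI : ∀ {a b : Over φ.left} (u : a ⟶ b), IsAffineHom (B.D.map u) := fun u ↦ B.affine_map u
  haveI : ∀ a, CompactSpace (B.D.obj a) := B.compactSpace_obj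
  let η : Y ⟶ B.c.pt := P.proj k ≫ M'.sq.isoPullback.hom
  haveI : IsClosedImmersion η := inferInstanceAs (IsClosedImmersion (P.proj k ≫ M'.sq.isoPullback.hom))
  have hη : η ≫ Limits.pullback.snd M'.p (c.π.app φ.left) = h := by
    show (P.proj k ≫ M'.sq.isoPullback.hom) ≫ _ = h
    rw [Category.assoc, IsPullback.isoPullback_hom_snd, P.proj_hom]
  have hη' : ∀ a : Over φ.left,
      η ≫ B.c.π.app a ≫ Limits.pullback.snd M'.p (D.map a.hom) = h ≫ c.π.app a.left := fun a ↦ by
    refine (congrArg (η ≫ ·) (RichLib.LimBC.pbπ_snd A' M'.p a)).trans ?_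
    exact (Category.assoc _ _ _).symm.trans (congrArg (· ≫ c.π.app a.left) hη)
  obtain ⟨a₁, ha₁⟩ := NoethApproxLib.exists_isClosedImmersion_comp B.D
    (fun a ↦ Limits.pullback.snd M'.p (D.map a.hom) ≫ t.app a.left)
    (fun {a b} u ↦ (RichLib.LimBC.pbMap_snd_assoc A' M'.p u _).trans
      (congrArg (Limits.pullback.snd M'.p (D.map a.hom) ≫ ·)
        ((t.naturality u.left).trans (Category.comp_id _))))
    B.c B.hc η (fun a ↦ by
      have e : η ≫ B.c.π.app a ≫ Limits.pullback.snd M'.p (D.map a.hom) ≫ t.app a.left =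
          h ≫ c.π.app i₀ ≫ t.app i₀ := by
        refine (congrArg (η ≫ ·) (Category.assoc _ _ _).symm).trans
          ((Category.assoc _ _ _).symm.trans ((congrArg (· ≫ t.app a.left) (hη' a)).trans
            ((Category.assoc _ _ _).trans (congrArg (h ≫ ·) ?_))))
        haveI := IsCofiltered.isConnected I
        obtain ⟨m, u, v, -⟩ := IsCofilteredOrEmpty.cone_objs a.left i₀
        have e₁ : ∀ {x : I} (w : m ⟶ x), c.π.app x ≫ t.app x = c.π.app m ≫ t.app m := fun {x} w ↦ by
          rw [← c.w w, Category.assoc, t.naturality w]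
          exact congrArg (c.π.app m ≫ ·) (Category.comp_id _)
        rw [e₁ u, e₁ v]
      rw [e]; infer_instance)
  refine ⟨a₁.left, fun i u ↦ ?_⟩
  let a : Over φ.left := Over.mk (u ≫ a₁.hom)
  haveI : IsClosedImmersion (η ≫ B.c.π.app a) := ha₁ a (Over.homMk u)
  have hps : IsProper (Limits.pullback.snd M'.p (D.map a.hom)) :=
    NoethApproxLib.isProper_snd' M'.p (D.map a.hom)
  show IsProper (h ≫ c.π.app a.left)
  have hp : IsProper ((η ≫ B.c.π.app a) ≫ Limits.pullback.snd M'.p (D.map a.hom)) :=
    NoethApproxLib.isProper_comp' (ha₁ a (Over.homMk u)) hps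
  exact (congrArg IsProper ((Category.assoc _ _ _).trans (hη' a))).mp hp

end Groth.Agent.S9202
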