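import Groth.Statements.S9203
import Mathlib
import Groth.Agent.ChevLib.Main
import Groth.Agent.CycBivLib.Disjoint
-- import your own Groth.Agent.* helpers here

set_option autoImplicit false
universe u v
open CategoryTheory AlgebraicGeometry
open Lim

namespace Groth.Agent.S9203

/-- Suppose a scheme X is covered, as a topological space, by finitely many closed subschemes each of
which is affine: there are closed immersions Z_k → X, indexed by a finite type, with each Z_k affine
and whose images cover X. Then X is affine. -/
theorem result (X : Scheme.{u}) {κ : Type v} [Finite κ]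
    (Z : κ → Scheme.{u}) (ι : ∀ k, Z k ⟶ X) [∀ k, IsClosedImmersion (ι k)] [∀ k, IsAffine (Z k)]
    (hcov : ∀ x : X, ∃ k, x ∈ Set.range (ι k).base) : IsAffine X := by
  obtain ⟨n, ⟨e⟩⟩ := Finite.exists_equiv_fin κ
  let I : Type u := ULift.{u} (Fin n)
  let W : I → Scheme.{u} := fun i => Z (e.symm i.down)
  let w : ∀ i, W i ⟶ X := fun i => ι (e.symm i.down)
  haveI : ∀ i, IsAffine (W i) := fun i => inferInstanceAs (IsAffine (Z _))
  haveI : ∀ i, IsClosedImmersion (w i) := fun i => inferInstanceAs (IsClosedImmersion (ι _))
  haveI : IsFinite (Limits.Sigma.desc w) :=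
    CycBivLib.isFinite_sigmaDesc w fun y => ⟨⊤, trivial, Set.toFinite _⟩
  haveI : Surjective (Limits.Sigma.desc w) := Surjective.sigmaDesc_of_union_range_eq_univ (by
    refine Set.eq_univ_of_forall fun x => ?_
    obtain ⟨k, hk⟩ := hcov x
    refine Set.mem_iUnion.2 ⟨⟨e k⟩, ?_⟩
    show x ∈ Set.range (ι (e.symm (e k))).base
    rwa [e.symm_apply_apply])
  exact ChevLib.isAffine_of_surjective_universallyClosed (Limits.Sigma.desc w)

end Groth.Agent.S9203
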