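import Groth.Statements.S9209
import Groth.Agent.DvrDom.Dense

set_option autoImplicit false
universe u
open CategoryTheory CategoryTheory.Limits AlgebraicGeometry
open Lim

namespace Groth.Agent.S9209

/-- Let S be a locally Noetherian scheme, f : X → S a separated morphism of finite type and h : U → X a
morphism of finite type whose image is dense in X. Suppose that for every discrete valuation ring A
with fraction field K and every commutative square formed by a morphism Spec K → U → X and a
morphism Spec A → S, there is a morphism Spec A → X making the resulting diagram commute. Then f is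
proper. -/
theorem result {X S U : Scheme.{u}} [IsLocallyNoetherian S] (f : X ⟶ S)
    [IsSeparated f] [LocallyOfFiniteType f] [QuasiCompact f] (h : U ⟶ X) [LocallyOfFiniteType h] [QuasiCompact h]
    (hd : DenseRange h.base)
    (H : ∀ (A : Type u) [CommRing A] [IsDomain A] [IsDiscreteValuationRing A]
      (u : Spec (CommRingCat.of (FractionRing A)) ⟶ U) (y : Spec (CommRingCat.of A) ⟶ S),
      u ≫ h ≫ f = Spec.map (CommRingCat.ofHom (algebraMap A (FractionRing A))) ≫ y →
        ∃ l : Spec (CommRingCat.of A) ⟶ X, l ≫ f = y ∧ Spec.map (CommRingCat.ofHom (algebraMap A (FractionRing A))) ≫ l = u ≫ h) :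
    IsProper f := by
  have hG : ∀ x : X, ∃ v ∈ (Set.univ : Set U), h v ⤳ x := fun x ↦ by
    obtain ⟨v, hv⟩ := DvrDomLib.exists_specializes_of_mem_closure_range h x (hd x)
    exact ⟨v, trivial, hv⟩
  have : UniversallyClosed f := by
    refine DvrDomLib.universallyClosed_of_points f h Set.univ hG fun v _ R _ y hy ↦ ?_
    obtain ⟨a, ha, ha'⟩ := DvrDomLib.exists_specIso_fractionRing R (U.residueField v)
    obtain ⟨l, hl₁, hl₂⟩ := H R (a.hom ≫ U.fromSpecResidueField v) y (by
      rw [Category.assoc, ← hy, ← Category.assoc]
      exact congrArg (· ≫ y) ha)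
    refine ⟨l, hl₁, ?_⟩
    show Spec.map (CommRingCat.ofHom (algebraMap R (U.residueField v))) ≫ l = _
    rw [← ha', Category.assoc, hl₂, Category.assoc, a.inv_hom_id_assoc]
  exact { }

end Groth.Agent.S9209
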