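import Groth.Statements.S9210
import Groth.Agent.DvrDom.Dense

set_option autoImplicit false
universe u
open CategoryTheory CategoryTheory.Limits AlgebraicGeometry
open Lim

namespace Groth.Agent.S9210

/-- Let S be a locally Noetherian scheme, f : X → S a morphism locally of finite type and h : U → X a
morphism of finite type whose image is dense in X. Suppose that for every discrete valuation ring A
with fraction field K and every commutative square formed by a morphism Spec K → U → X and a
morphism Spec A → S, there is at most one morphism Spec A → X making the resulting diagram commute.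
Then f is separated. -/
theorem result {X S U : Scheme.{u}} [IsLocallyNoetherian S] (f : X ⟶ S)
    [LocallyOfFiniteType f] (h : U ⟶ X) [LocallyOfFiniteType h] [QuasiCompact h] (hd : DenseRange h.base)
    (H : ∀ (A : Type u) [CommRing A] [IsDomain A] [IsDiscreteValuationRing A]
      (u : Spec (CommRingCat.of (FractionRing A)) ⟶ U) (y : Spec (CommRingCat.of A) ⟶ S),
      u ≫ h ≫ f = Spec.map (CommRingCat.ofHom (algebraMap A (FractionRing A))) ≫ y →
        ∀ l₁ l₂ : Spec (CommRingCat.of A) ⟶ X, l₁ ≫ f = y → Spec.map (CommRingCat.ofHom (algebraMap A (FractionRing A))) ≫ l₁ = u ≫ h →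
          l₂ ≫ f = y → Spec.map (CommRingCat.ofHom (algebraMap A (FractionRing A))) ≫ l₂ = u ≫ h → l₁ = l₂) :
    IsSeparated f := by
  have hG : ∀ x : X, ∃ v ∈ (Set.univ : Set U), h v ⤳ x := fun x ↦ by
    obtain ⟨v, hv⟩ := DvrDomLib.exists_specializes_of_mem_closure_range h x (hd x)
    exact ⟨v, trivial, hv⟩
  refine DvrDomLib.isSeparated_of_points f h Set.univ hG fun v _ R _ l₁ l₂ hl h₁ h₂ ↦ ?_
  obtain ⟨a, ha, ha'⟩ := DvrDomLib.exists_specIso_fractionRing R (U.residueField v)
  have key : ∀ l : Spec (CommRingCat.of R) ⟶ X,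
      Spec.map (CommRingCat.ofHom R.subtype) ≫ l = U.fromSpecResidueField v ≫ h →
      Spec.map (CommRingCat.ofHom (algebraMap R (FractionRing R))) ≫ l =
        (a.hom ≫ U.fromSpecResidueField v) ≫ h := by
    intro l hl
    rw [← ha, Category.assoc, Category.assoc, ← hl]
    rfl
  exact H R (a.hom ≫ U.fromSpecResidueField v) (l₁ ≫ f) (by
    rw [← Category.assoc, ← key l₁ h₁, Category.assoc]) l₁ l₂ rfl (key l₁ h₁) hl.symm (key l₂ h₂)

end Groth.Agent.S9210
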