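import Groth.Statements.S9211
import Groth.Agent.DvrDom.Dense

set_option autoImplicit false
universe u
open CategoryTheory CategoryTheory.Limits AlgebraicGeometry
open Lim

namespace Groth.Agent.S9211

/-- Let S be a locally Noetherian scheme and f : X → S a morphism locally of finite type. Then f is
separated if and only if the following uniqueness holds: for every generic point η of an irreducible
component of X, every discrete valuation ring A contained in the residue field κ(η) with fraction
field κ(η) (a valuation subring of κ(η) which is a discrete valuation ring), and every pair of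
morphisms Spec A → X with the same composite to S and both restricting on Spec κ(η) to the canonical
morphism Spec κ(η) → X, the two morphisms coincide. -/
theorem result {X S : Scheme.{u}} [IsLocallyNoetherian S] (f : X ⟶ S)
    [LocallyOfFiniteType f] :
    IsSeparated f ↔ ∀ (η : X), closure {η} ∈ irreducibleComponents (X : Type u) →
      ∀ (A : ValuationSubring (X.residueField η)), IsDiscreteValuationRing A →
        ∀ l₁ l₂ : Spec (CommRingCat.of A) ⟶ X, l₁ ≫ f = l₂ ≫ f →
          Spec.map (CommRingCat.ofHom A.subtype) ≫ l₁ = X.fromSpecResidueField η →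
          Spec.map (CommRingCat.ofHom A.subtype) ≫ l₂ = X.fromSpecResidueField η → l₁ = l₂ := by
  constructor
  · intro _ η _ A _ l₁ l₂ hl h₁ h₂
    obtain ⟨a, ha, ha'⟩ := DvrDomLib.exists_specIso_fractionRing A (X.residueField η)
    refine DvrDomLib.dvrUniqueness_of_isSeparated f A l₁ l₂ hl ?_
    rw [← ha, Category.assoc, Category.assoc]
    show a.hom ≫ Spec.map (CommRingCat.ofHom A.subtype) ≫ l₁ =
      a.hom ≫ Spec.map (CommRingCat.ofHom A.subtype) ≫ l₂
    rw [h₁, h₂]
  · intro H
    refine DvrDomLib.isSeparated_of_points f (𝟙 X) _ DvrDomLib.generic_specializes_all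
      fun η hη A hA l₁ l₂ hl h₁ h₂ ↦ ?_
    rw [Category.comp_id] at h₁ h₂
    exact H η hη A hA l₁ l₂ hl h₁ h₂

end Groth.Agent.S9211
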