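import Groth.Statements.S9212
import Groth.Agent.DvrDom.Dense

set_option autoImplicit false
universe u
open CategoryTheory CategoryTheory.Limits AlgebraicGeometry
open Lim

namespace Groth.Agent.S9212

/-- Let S be a locally Noetherian scheme and f : X → S a morphism of finite type. Then f is proper if
and only if: for every generic point η of an irreducible component of X, every discrete valuation
ring A contained in the residue field κ(η) with fraction field κ(η) (a valuation subring of κ(η)
which is a discrete valuation ring), and every morphism Spec A → S whose restriction to Spec κ(η) is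
the canonical morphism Spec κ(η) → X followed by f, there is exactly one morphism Spec A → X over S
restricting to the canonical morphism on Spec κ(η). -/
theorem result {X S : Scheme.{u}} [IsLocallyNoetherian S] (f : X ⟶ S)
    [LocallyOfFiniteType f] [QuasiCompact f] :
    IsProper f ↔ ∀ (η : X), closure {η} ∈ irreducibleComponents (X : Type u) →
      ∀ (A : ValuationSubring (X.residueField η)), IsDiscreteValuationRing A →
        ∀ y : Spec (CommRingCat.of A) ⟶ S,
          Spec.map (CommRingCat.ofHom A.subtype) ≫ y = X.fromSpecResidueField η ≫ f →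
          ∃! l : Spec (CommRingCat.of A) ⟶ X,
            l ≫ f = y ∧ Spec.map (CommRingCat.ofHom A.subtype) ≫ l = X.fromSpecResidueField η := by
  constructor
  · intro _ η _ A _ y hy
    obtain ⟨l, hl₁, hl₂⟩ := (DvrDomLib.dvrExistence_of_universallyClosed f).exists_lift A
      (X.residueField η) (X.fromSpecResidueField η) y hy.symm
    refine ⟨l, ⟨hl₁, hl₂⟩, fun l' hl' ↦ ?_⟩
    obtain ⟨a, ha, ha'⟩ := DvrDomLib.exists_specIso_fractionRing A (X.residueField η)
    refine DvrDomLib.dvrUniqueness_of_isSeparated f A l' l (hl'.1.trans hl₁.symm) ?_
    rw [← ha, Category.assoc, Category.assoc]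
    exact congrArg (a.hom ≫ ·) (hl'.2.trans hl₂.symm)
  · intro H
    have : IsSeparated f := by
      refine DvrDomLib.isSeparated_of_points f (𝟙 X) _ DvrDomLib.generic_specializes_all
        fun η hη A hA l₁ l₂ hl h₁ h₂ ↦ ?_
      rw [Category.comp_id] at h₁ h₂
      exact (H η hη A hA (l₁ ≫ f) (by rw [← Category.assoc, h₁])).unique ⟨rfl, h₁⟩ ⟨hl.symm, h₂⟩
    have : UniversallyClosed f := by
      refine DvrDomLib.universallyClosed_of_points f (𝟙 X) _ DvrDomLib.generic_specializes_all
        fun η hη A hA y hy ↦ ?_
      rw [Category.id_comp] at hy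
      obtain ⟨l, hl₁, hl₂⟩ := (H η hη A hA y hy).exists
      exact ⟨l, hl₁, by rw [Category.comp_id]; exact hl₂⟩
    exact { }

end Groth.Agent.S9212
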