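import Groth.Statements.S9217
import Groth.Agent.BiratFPLib.Basic
import Groth.Agent.FFDescLib.Closure

set_option autoImplicit false
universe u
open CategoryTheory AlgebraicGeometry
open Lim

namespace Groth.Agent.S9217

/-- Let S be a scheme, X and Y schemes over S with Y locally of finite presentation over S, and x a
closed point of X such that the inclusion of U = X - {x} in X is quasi-compact; let V be the
complement of the closed point in Spec O_{X,x}, i.e. the preimage of U under the canonical morphism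
Spec O_{X,x} → X. Then restriction is a bijection from the S-morphisms X → Y to the pairs (a, b) of
S-morphisms a : U → Y, b : Spec O_{X,x} → Y which agree on V: two morphisms X → Y with the same
restrictions to U and to Spec O_{X,x} are equal, and every such compatible pair of S-morphisms is
the pair of restrictions of an S-morphism X → Y. -/
theorem result {X Y S : Scheme.{u}} (p : X ⟶ S) (q : Y ⟶ S) [LocallyOfFinitePresentation q]
    (x : X) (U : X.Opens) (hU : (U : Set X) = {x}ᶜ) [QuasiCompact U.ι] :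
    (∀ g₁ g₂ : X ⟶ Y, U.ι ≫ g₁ = U.ι ≫ g₂ → X.fromSpecStalk x ≫ g₁ = X.fromSpecStalk x ≫ g₂ → g₁ = g₂) ∧
    (∀ (a : (U : Scheme.{u}) ⟶ Y) (b : Spec (X.presheaf.stalk x) ⟶ Y), a ≫ q = U.ι ≫ p →
      b ≫ q = X.fromSpecStalk x ≫ p → ((X.fromSpecStalk x) ⁻¹ᵁ U).ι ≫ b = ((X.fromSpecStalk x) ∣_ U) ≫ a →
        ∃ g : X ⟶ Y, g ≫ q = p ∧ U.ι ≫ g = a ∧ X.fromSpecStalk x ≫ g = b) := by
  classical
  refine ⟨fun g₁ g₂ hU' hb => ?_, fun a b ha hb hab => ?_⟩
  · have hst : ∀ z : X, X.fromSpecStalk z ≫ g₁ = X.fromSpecStalk z ≫ g₂ := fun z => by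
      by_cases hz : z = x
      · subst hz; exact hb
      · have hzU : z ∈ U := by
          have : z ∈ (U : Set X) := by rw [hU]; exact hz
          exact this
        rw [← Scheme.Opens.fromSpecStalkOfMem_ι U z hzU, Category.assoc, Category.assoc, hU']
    have hpt : ∀ z : X, g₁ z = g₂ z := fun z => by
      have := congr($(hst z) (IsLocalRing.closedPoint _))
      simpa using this
    refine Scheme.hom_ext_of_forall _ _ fun z => ?_
    obtain ⟨V, hV, hzV, -⟩ := exists_isAffineOpen_mem_and_subset (X := Y) (x := g₁ z) (U := ⊤) trivial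
    obtain ⟨W, hW, hzW, hWle⟩ := exists_isAffineOpen_mem_and_subset (X := X) (x := z)
      (U := g₁ ⁻¹ᵁ V) hzV
    replace hWle : W ≤ g₁ ⁻¹ᵁ V := hWle
    have hWle₂ : W ≤ g₂ ⁻¹ᵁ V := fun w hw => by
      change g₂ w ∈ V
      rw [← hpt]; exact hWle hw
    have happ : g₁.appLE V W hWle = g₂.appLE V W hWle₂ := by
      ext s
      refine TopCat.Presheaf.section_ext X.sheaf _ _ _ fun w hw => ?_
      have key : g₁.appLE V W hWle ≫ X.presheaf.germ W w hw = g₂.appLE V W hWle₂ ≫ X.presheaf.germ W w hw := by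
        apply Spec.map_injective
        rw [← cancel_mono hV.fromSpec]
        simp only [Spec.map_comp, Category.assoc]
        rw [hV.SpecMap_appLE_fromSpec g₁ hW hWle, hV.SpecMap_appLE_fromSpec g₂ hW hWle₂]
        have e : Spec.map (X.presheaf.germ W w hw) ≫ hW.fromSpec = X.fromSpecStalk w :=
          hW.fromSpecStalk_eq_fromSpecStalk hw
        rw [reassoc_of% e, reassoc_of% e, hst]
      exact congr($(key) s)
    refine ⟨W, hzW, ?_⟩
    rw [← hW.isoSpec_hom_fromSpec, Category.assoc, Category.assoc, ← hV.SpecMap_appLE_fromSpec g₁ hW hWle,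
      ← hV.SpecMap_appLE_fromSpec g₂ hW hWle₂, happ]
  · obtain ⟨W, hxW, f, hbf, hfq⟩ := SpreadFPLib.spread_out p q b hb
    let O : X.Opens := U ⊓ W
    let aO : O.toScheme ⟶ Y := X.homOfLE inf_le_left ≫ a
    let fO : O.toScheme ⟶ Y := X.homOfLE inf_le_right ≫ f
    haveI : QuasiCompact (X.homOfLE (inf_le_right : O ≤ W)) :=
      MorphismProperty.of_isPullback (isPullback_opens_inf U W) inferInstance
    let T : Set O.toScheme := {z | ∃ Z : O.toScheme.Opens, z ∈ Z ∧ Z.ι ≫ aO = Z.ι ≫ fO}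
    have hTo : IsOpen T := isOpen_iff_forall_mem_open.mpr fun z ⟨Z, hz, he⟩ =>
      ⟨Z, fun z' hz' => ⟨Z, hz', he⟩, Z.isOpen, hz⟩
    have hgen : ∀ z : O.toScheme, O.ι z ⤳ x → z ∈ T := fun z hzx => by
      refine BiratFPLib.eq_near q aO fO ?_ z ?_
      · rw [Category.assoc, Category.assoc, ha, hfq, ← Category.assoc, ← Category.assoc]
        simp
      rw [← cancel_epi (Spec.map (inv (O.ι.stalkMap z)))]
      change O.fromSpecStalkOfMem z.1 z.2 ≫ aO = O.fromSpecStalkOfMem z.1 z.2 ≫ fO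
      let l : Spec (X.presheaf.stalk z.1) ⟶ Spec (X.presheaf.stalk x) :=
        Spec.map (X.presheaf.stalkSpecializes hzx)
      have hl : l ≫ X.fromSpecStalk x = X.fromSpecStalk z.1 := Scheme.SpecMap_stalkSpecializes_fromSpecStalk hzx
      let V := (X.fromSpecStalk x) ⁻¹ᵁ U
      have hrange : Set.range l ⊆ Set.range V.ι := by
        rintro _ ⟨w, rfl⟩
        rw [Scheme.Opens.range_ι]
        change X.fromSpecStalk x (l w) ∈ U
        rw [← Scheme.Hom.comp_apply, hl]
        have hw : X.fromSpecStalk z.1 w ⤳ z.1 := Scheme.range_fromSpecStalk.subset ⟨w, rfl⟩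
        exact hw.mem_open U.isOpen z.2.1
      let m := IsOpenImmersion.lift V.ι l hrange
      have hm : m ≫ V.ι = l := IsOpenImmersion.lift_fac _ _ _
      have hmU : m ≫ (X.fromSpecStalk x ∣_ U) = U.fromSpecStalkOfMem z.1 z.2.1 := by
        rw [← cancel_mono U.ι, Category.assoc, morphismRestrict_ι, ← Category.assoc, hm, hl,
          Scheme.Opens.fromSpecStalkOfMem_ι]
      have h1 : O.fromSpecStalkOfMem z.1 z.2 ≫ X.homOfLE (inf_le_left : O ≤ U) =
          U.fromSpecStalkOfMem z.1 z.2.1 := Groth.Agent.BiratSpreadLib.fromSpecStalkOfMem_homOfLE _ _ _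
      have h2 : O.fromSpecStalkOfMem z.1 z.2 ≫ X.homOfLE (inf_le_right : O ≤ W) =
          l ≫ W.fromSpecStalkOfMem x hxW := by
        rw [← cancel_mono W.ι, Category.assoc, Category.assoc, Scheme.homOfLE_ι,
          Scheme.Opens.fromSpecStalkOfMem_ι, Scheme.Opens.fromSpecStalkOfMem_ι, hl]
      simp only [aO, fO]
      rw [reassoc_of% h1, reassoc_of% h2, ← hmU, Category.assoc, ← hab, ← hbf,
        ← Category.assoc, hm]
    let C : Set O.toScheme := Tᶜ
    have hx0 : (⟨x, hxW⟩ : W.toScheme) ∉ closure (X.homOfLE (inf_le_right : O ≤ W) '' C) := fun hcl => by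
      obtain ⟨z, hzC, hz⟩ := FFDescLib.exists_specializes_of_mem_closure_image _ hTo.isClosed_compl hcl
      refine hzC (hgen z ?_)
      have h := hz.map W.ι.continuous
      rwa [← Scheme.Hom.comp_apply, Scheme.homOfLE_ι] at h
    let W₂ : W.toScheme.Opens := ⟨_, (isClosed_closure (s := X.homOfLE (inf_le_right : O ≤ W) '' C)).isOpen_compl⟩
    let W₃ : X.Opens := W.ι ''ᵁ W₂
    have hW₃ : W₃ ≤ W := W.ι_image_le _
    have hxW₃ : x ∈ W₃ := ⟨⟨x, hxW⟩, hx0, rfl⟩
    let f₃ : W₃.toScheme ⟶ Y := X.homOfLE hW₃ ≫ f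
    have hagree : X.homOfLE (inf_le_left : U ⊓ W₃ ≤ U) ≫ a = X.homOfLE (inf_le_right : U ⊓ W₃ ≤ W₃) ≫ f₃ := by
      refine Scheme.hom_ext_of_forall _ _ fun w => ?_
      let wO : O.toScheme := ⟨w.1, w.2.1, hW₃ w.2.2⟩
      obtain ⟨Z, hzZ, heZ⟩ : wO ∈ T := by
        by_contra hn
        obtain ⟨v, hv, hve⟩ := w.2.2
        exact hv (subset_closure ⟨wO, hn, W.ι.isOpenEmbedding.injective (by
          rw [← Scheme.Hom.comp_apply, Scheme.homOfLE_ι]; exact hve.symm)⟩)
      let j : (U ⊓ W₃ : X.Opens).toScheme ⟶ O.toScheme := X.homOfLE (inf_le_inf_left U hW₃)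
      refine ⟨j ⁻¹ᵁ Z, ?_, ?_⟩
      · change j w ∈ Z
        convert hzZ
        exact O.ι.isOpenEmbedding.injective (by
          rw [← Scheme.Hom.comp_apply, Scheme.homOfLE_ι]; rfl)
      · have := congrArg ((j ∣_ Z) ≫ ·) heZ
        simpa [aO, fO, f₃, j] using this
    have hcov : ∀ z : X, z ∈ U ∨ z ∈ W₃ := fun z => by
      by_cases hz : z = x
      · exact Or.inr (hz ▸ hxW₃)
      · left
        have : z ∈ (U : Set X) := by rw [hU]; exact hz
        exact this
    let Us : Bool → X.Opens := fun i => if i then U else W₃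
    have hUs : TopologicalSpace.IsOpenCover Us := TopologicalSpace.IsOpenCover.mk (eq_top_iff.mpr fun z _ =>
      TopologicalSpace.Opens.mem_iSup.mpr ((hcov z).elim (fun h => ⟨true, h⟩) fun h => ⟨false, h⟩))
    let 𝒰 := X.openCoverOfIsOpenCover Us hUs
    let fs : ∀ i, 𝒰.X i ⟶ Y := fun i => match i with
      | true => a
      | false => f₃
    have hfs : ∀ i j, Limits.pullback.fst (𝒰.f i) (𝒰.f j) ≫ fs i = Limits.pullback.snd _ _ ≫ fs j := by
      have hUW : Limits.pullback.fst U.ι W₃.ι ≫ a = Limits.pullback.snd U.ι W₃.ι ≫ f₃ := by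
        rw [← cancel_epi (isPullback_opens_inf U W₃).isoPullback.hom]
        simpa using hagree
      intro i j
      cases i <;> cases j
      · rw [show Limits.pullback.fst (𝒰.f false) (𝒰.f false) = Limits.pullback.snd _ _ from
          (cancel_mono (W₃.ι)).mp Limits.pullback.condition]
      · refine (cancel_epi (Limits.pullbackSymmetry U.ι W₃.ι).hom).mp ?_
        change (Limits.pullbackSymmetry U.ι W₃.ι).hom ≫ Limits.pullback.fst W₃.ι U.ι ≫ f₃ =
          (Limits.pullbackSymmetry U.ι W₃.ι).hom ≫ Limits.pullback.snd W₃.ι U.ι ≫ a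
        simp [hUW]
      · exact hUW
      · rw [show Limits.pullback.fst (𝒰.f true) (𝒰.f true) = Limits.pullback.snd _ _ from
          (cancel_mono (U.ι)).mp Limits.pullback.condition]
    have hga : U.ι ≫ 𝒰.glueMorphisms fs hfs = a := 𝒰.ι_glueMorphisms fs hfs true
    have hgf : W₃.ι ≫ 𝒰.glueMorphisms fs hfs = f₃ := 𝒰.ι_glueMorphisms fs hfs false
    refine ⟨𝒰.glueMorphisms fs hfs, 𝒰.hom_ext _ _ fun i => ?_, hga, ?_⟩
    · cases i
      · change W₃.ι ≫ _ ≫ q = W₃.ι ≫ p
        rw [reassoc_of% hgf]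
        simp [f₃, hfq]
      · change U.ι ≫ _ ≫ q = U.ι ≫ p
        rw [reassoc_of% hga, ha]
    · rw [← Scheme.Opens.fromSpecStalkOfMem_ι W₃ x hxW₃, Category.assoc, hgf, hbf]
      simp only [f₃]
      rw [← Category.assoc, Groth.Agent.BiratSpreadLib.fromSpecStalkOfMem_homOfLE]

end Groth.Agent.S9217
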