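import Groth.Statements.S9221
import Groth.Agent.S2074
import Groth.Agent.S4357
import Groth.Agent.ProperOverLib.Basic
import Groth.Agent.QCohLib.AffineFinite

set_option backward.isDefEq.respectTransparency false
set_option backward.isDefEq.respectTransparency.types false

set_option autoImplicit false
universe u
open CategoryTheory AlgebraicGeometry
open Lim CategoryTheory.Limits

namespace Groth.Agent.S9221

/-- Let S = lim S_i be a cofiltered limit of schemes with affine transition morphisms, S_{i₀} a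
quasi-compact quasi-separated stage, f₀ : X₀ → Y₀ a morphism of quasi-compact quasi-separated
schemes over S_{i₀}, and f : X → Y its base change along S → S_{i₀} (base changes expressed by
pullback squares). Let F₀ be a quasi-coherent O_{X₀}-module of finite type, with pullbacks F to X
and F_i to X_i, and assume f₀ is locally of finite type. If the support of F (a closed subset of X,
taken with its reduced structure; equivalently the scheme-theoretic support of F) is proper over Y,
then for some index i over i₀, with f_i : X_i → Y_i the base change of f₀ along S_i → S_{i₀}, the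
support of F_i is proper over Y_i. -/
theorem result {I : Type u} [SmallCategory I] [IsCofiltered I]
    (D : I ⥤ Scheme.{u}) (c : Limits.Cone D) (hc : Limits.IsLimit c)
    [∀ (i j : I) (f : i ⟶ j), IsAffineHom (D.map f)] (i₀ : I) [CompactSpace (D.obj i₀)]
    [QuasiSeparatedSpace (D.obj i₀)] {X₀ Y₀ : Scheme.{u}} (f₀ : X₀ ⟶ Y₀) (g₀ : Y₀ ⟶ D.obj i₀)
    [CompactSpace X₀] [QuasiSeparatedSpace X₀] [CompactSpace Y₀] [QuasiSeparatedSpace Y₀]
    [LocallyOfFiniteType f₀] (F₀ : X₀.Modules) [Coh.IsQCoh F₀] (hF₀ : CohB1.IsFT F₀)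
    {X Y : Scheme.{u}} (f : X ⟶ Y) (g : Y ⟶ c.pt) (qY : Y ⟶ Y₀) (qX : X ⟶ X₀)
    (hY : IsPullback qY g g₀ (c.π.app i₀)) (hX : IsPullback qX f f₀ qY) (hF : ClSub.IsProperOver f (CohB1.support ((Scheme.Modules.pullback qX).obj F₀))) :
    ∃ (i : I) (φ : i ⟶ i₀) (Xi Yi : Scheme.{u}) (fi : Xi ⟶ Yi) (gi : Yi ⟶ D.obj i) (pY : Yi ⟶ Y₀)
      (pX : Xi ⟶ X₀), IsPullback pY gi g₀ (D.map φ) ∧ IsPullback pX fi f₀ pY ∧ ClSub.IsProperOver fi (CohB1.support ((Scheme.Modules.pullback pX).obj F₀)) := by
  haveI : QuasiCompact f₀ := quasiCompact_of_compactSpace f₀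
  let Z₀ : TopologicalSpace.Closeds X₀ := ⟨_, QCohLib.isClosed_support F₀ hF₀⟩
  let i₀' := (Scheme.IdealSheafData.vanishingIdeal Z₀).subschemeι
  haveI : CompactSpace (Scheme.IdealSheafData.vanishingIdeal Z₀).subscheme :=
    QuasiCompact.compactSpace_of_compactSpace i₀'
  haveI : QuasiSeparatedSpace (Scheme.IdealSheafData.vanishingIdeal Z₀).subscheme :=
    quasiSeparatedSpace_of_quasiSeparated i₀'
  have hr : Set.range i₀' = CohB1.support F₀ := ProperOverLib.range_subschemeι_vanishingIdeal Z₀
  haveI : LocallyOfFiniteType f := MorphismProperty.of_isPullback hX ‹LocallyOfFiniteType f₀›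
  have hsq : IsPullback (pullback.fst i₀' qX) (pullback.snd i₀' qX ≫ f) (i₀' ≫ f₀) qY :=
    (IsPullback.of_hasPullback i₀' qX).paste_vert hX
  haveI : IsProper (pullback.snd i₀' qX ≫ f) := ProperOverLib.isProper_comp_closedImmersion hF _ (by
    rw [Scheme.Pullback.range_snd, hr, Groth.Agent.S4357.result qX F₀ hF₀])
  obtain ⟨i, φ, Ti, Yi, ti, gi, pY, pT, hYi, hTi, hp⟩ := Groth.Agent.S2074.result D c hc i₀ (i₀' ≫ f₀) g₀
    (pullback.snd i₀' qX ≫ f) g qY (pullback.fst i₀' qX) hY hsq
  haveI := hp
  refine ⟨i, φ, pullback f₀ pY, Yi, pullback.snd f₀ pY, gi, pY, pullback.fst f₀ pY, hYi,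
    IsPullback.of_hasPullback _ _, ?_⟩
  let j : Ti ⟶ pullback f₀ pY := pullback.lift (pT ≫ i₀') ti (by rw [Category.assoc]; exact hTi.w)
  have hj : IsPullback pT j i₀' (pullback.fst f₀ pY) := IsPullback.of_bot
    (by rw [pullback.lift_snd]; exact hTi) (pullback.lift_fst _ _ _).symm (IsPullback.of_hasPullback f₀ pY)
  haveI : IsClosedImmersion j := MorphismProperty.of_isPullback hj (inferInstanceAs (IsClosedImmersion i₀'))
  haveI : IsProper (j ≫ pullback.snd f₀ pY) := by rw [pullback.lift_snd]; exact hp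
  have hrj : Set.range j = CohB1.support ((Scheme.Modules.pullback (pullback.fst f₀ pY)).obj F₀) := by
    rw [Groth.Agent.S4357.result (pullback.fst f₀ pY) F₀ hF₀, ← hr]
    have e : j = hj.isoPullback.hom ≫ pullback.snd i₀' (pullback.fst f₀ pY) := hj.isoPullback_hom_snd.symm
    rw [e, ← Scheme.Pullback.range_snd]
    simp only [Scheme.Hom.comp_base, TopCat.coe_comp, Set.range_comp]
    rw [Set.range_eq_univ.2 hj.isoPullback.hom.surjective, Set.image_univ]
  rw [← hrj]
  exact ProperOverLib.of_map_range j _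

end Groth.Agent.S9221
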