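import Groth.Statements.S9224
import Groth.Agent.SpreadClosedLib.Piece
import Mathlib.AlgebraicGeometry.Morphisms.FinitePresentation
import Mathlib.RingTheory.Spectrum.Prime.Topology

set_option autoImplicit false
universe u
open CategoryTheory CategoryTheory.Limits AlgebraicGeometry
open Lim

open scoped TensorProduct

namespace Groth.Agent.S9224

set_option maxHeartbeats 4000000 in
/-- Let f : X → S be a quasi-compact morphism, g : T → S a morphism, t a point of T and Z a closed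
subset of X_T = X ×_S T which does not meet the fibre of X_T → T over t. Then there exist an affine
open neighbourhood V of t in T, an affine scheme T' with a morphism b : T' → S locally of finite
presentation, a morphism a : V → T' whose composite with b is the restriction of g, and a closed
subset Z' of X_{T'} = X ×_S T' which does not meet the fibre over t' = a(t), such that the induced
morphism X_V → X_{T'} maps every point of X_V lying over Z (under X_V → X_T) into Z'. The morphisms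
X_V → X_T and X_V → X_{T'} are the canonical ones, characterised by their projections. -/
theorem result {X S T : Scheme.{u}} (f : X ⟶ S) [QuasiCompact f] (g : T ⟶ S) (t : T)
    (Z : Set ↥(pullback f g)) (hZ : IsClosed Z) (hZt : ∀ z ∈ Z, (pullback.snd f g).base z ≠ t) :
    ∃ (V : T.Opens) (ht : t ∈ V) (T' : Scheme.{u}) (b : T' ⟶ S) (a : (V : Scheme.{u}) ⟶ T')
      (n : pullback f (V.ι ≫ g) ⟶ pullback f g) (m : pullback f (V.ι ≫ g) ⟶ pullback f b)
      (Z' : Set ↥(pullback f b)),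
      IsAffineOpen V ∧ IsAffine T' ∧ LocallyOfFinitePresentation b ∧ a ≫ b = V.ι ≫ g ∧
      n ≫ pullback.fst f g = pullback.fst f (V.ι ≫ g) ∧ n ≫ pullback.snd f g = pullback.snd f (V.ι ≫ g) ≫ V.ι ∧
      m ≫ pullback.fst f b = pullback.fst f (V.ι ≫ g) ∧ m ≫ pullback.snd f b = pullback.snd f (V.ι ≫ g) ≫ a ∧
      IsClosed Z' ∧ (∀ z' ∈ Z', (pullback.snd f b).base z' ≠ a.base ⟨t, ht⟩) ∧
      ∀ z : ↥(pullback f (V.ι ≫ g)), n.base z ∈ Z → m.base z ∈ Z' := by
  classical
  obtain ⟨U, hU, htU, -⟩ := exists_isAffineOpen_mem_and_subset (X := S) (x := g t) (U := ⊤) trivial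
  obtain ⟨V, hV, htV, hVU⟩ := exists_isAffineOpen_mem_and_subset (X := T) (x := t) (U := g ⁻¹ᵁ U) htU
  replace hVU : V ≤ g ⁻¹ᵁ U := hVU
  haveI : Mono hU.fromSpec := inferInstance
  obtain ⟨c, hc⟩ := (QuasiCompact.isCompact_preimage (f := f) U U.isOpen hU.isCompact).elim_finite_subcover
    (fun W : {W : X.Opens // IsAffineOpen W ∧ W ≤ f ⁻¹ᵁ U} => (W.1 : Set X)) (fun W => W.1.isOpen)
    (fun x hx => by
      obtain ⟨W, hW, hxW, hWle⟩ := exists_isAffineOpen_mem_and_subset (X := X) (x := x) (U := f ⁻¹ᵁ U) hx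
      exact Set.mem_iUnion.mpr ⟨⟨W, hW, hWle⟩, hxW⟩)
  letI : Algebra Γ(S, U) Γ(T, V) := (g.appLE U V hVU).hom.toAlgebra
  letI algW : ∀ W : {W : X.Opens // IsAffineOpen W ∧ W ≤ f ⁻¹ᵁ U}, Algebra Γ(S, U) Γ(X, W.1) :=
    fun W => (f.appLE U W.1 W.2.2).hom.toAlgebra
  let p : PrimeSpectrum Γ(T, V) := hV.primeIdealOf ⟨t, htV⟩
  let hB : Spec (CommRingCat.of Γ(T, V)) ⟶ (V : Scheme.{u}) := hV.isoSpec.inv
  have hhB : Spec.map (CommRingCat.ofHom (algebraMap Γ(S, U) Γ(T, V))) ≫ hU.fromSpec = hB ≫ V.ι ≫ g := by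
    rw [← Category.assoc hB, hV.isoSpec_inv_ι]
    exact hU.SpecMap_appLE_fromSpec g hV hVU
  have heW : ∀ W : {W : X.Opens // IsAffineOpen W ∧ W ≤ f ⁻¹ᵁ U},
      Spec.map (CommRingCat.ofHom (algebraMap Γ(S, U) Γ(X, W.1))) ≫ hU.fromSpec = W.2.1.fromSpec ≫ f :=
    fun W => hU.SpecMap_appLE_fromSpec f W.2.1 W.2.2
  let n : Limits.pullback f (V.ι ≫ g) ⟶ Limits.pullback f g :=
    Limits.pullback.lift (Limits.pullback.fst f (V.ι ≫ g)) (Limits.pullback.snd f (V.ι ≫ g) ≫ V.ι)
      (by rw [Category.assoc, Limits.pullback.condition])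
  let πV := fun W => SpreadClosedLib.piece (heW W) hhB
  have hsep : ∀ W, ∃ J : Ideal (Γ(X, W.1) ⊗[Γ(S, U)] Γ(T, V)),
      (∀ Q : PrimeSpectrum _, (πV W ≫ n) Q ∈ Z ↔ J ≤ Q.asIdeal) ∧
      ∃ F : Finset Γ(T, V), ∀ F', F ⊆ F' → ∃ j', SpreadClosedLib.evT (R := Γ(S, U)) Γ(X, W.1) F' j' ∈ J ∧
        ∀ Q : Ideal (Γ(X, W.1) ⊗[Γ(S, U)] MvPolynomial (↥F') Γ(S, U)), Q.IsPrime →
          Q.comap (Algebra.TensorProduct.includeRight : MvPolynomial (↥F') Γ(S, U) →ₐ[Γ(S, U)]
            Γ(X, W.1) ⊗[Γ(S, U)] MvPolynomial (↥F') Γ(S, U)).toRingHom =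
              p.asIdeal.comap (SpreadClosedLib.ev (R := Γ(S, U)) F').toRingHom → j' ∉ Q := by
    intro W
    obtain ⟨J, hJ⟩ := (PrimeSpectrum.isClosed_iff_zeroLocus_ideal _).mp (hZ.preimage (πV W ≫ n).continuous)
    have hJ' : ∀ Q : PrimeSpectrum _, (πV W ≫ n) Q ∈ Z ↔ J ≤ Q.asIdeal := fun Q => Set.ext_iff.mp hJ Q
    refine ⟨J, hJ', ?_⟩
    refine SpreadClosedLib.exists_separating p.asIdeal J fun Q hQ hle hQp => ?_
    refine hZt _ ((hJ' ⟨Q, hQ⟩).mpr hle) ?_
    rw [← Scheme.Hom.comp_apply]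
    have : (πV W ≫ n) ≫ Limits.pullback.snd f g = Spec.map (CommRingCat.ofHom
        ((Algebra.TensorProduct.includeRight : Γ(T, V) →ₐ[Γ(S, U)] Γ(X, W.1) ⊗[Γ(S, U)] Γ(T, V)).toRingHom)) ≫
        hV.fromSpec := by
      simp only [n, Category.assoc, Limits.pullback.lift_snd]
      rw [← Category.assoc, SpreadClosedLib.piece_snd, Category.assoc, hV.isoSpec_inv_ι]
    rw [this, Scheme.Hom.comp_apply]
    refine (congrArg hV.fromSpec ?_).trans (hV.fromSpec_primeIdealOf ⟨t, htV⟩)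
    exact PrimeSpectrum.ext hQp
  choose J hJ Fs hFs using hsep
  let F := c.biUnion Fs
  let R' := MvPolynomial (↥F) Γ(S, U)
  let b : Spec (CommRingCat.of R') ⟶ S :=
    Spec.map (CommRingCat.ofHom (algebraMap Γ(S, U) R')) ≫ hU.fromSpec
  have hev : (SpreadClosedLib.ev (R := Γ(S, U)) F).toRingHom.comp (algebraMap Γ(S, U) R') =
      algebraMap Γ(S, U) Γ(T, V) := (SpreadClosedLib.ev (R := Γ(S, U)) F).comp_algebraMap
  let a : (V : Scheme.{u}) ⟶ Spec (CommRingCat.of R') :=
    hV.isoSpec.hom ≫ Spec.map (CommRingCat.ofHom (SpreadClosedLib.ev (R := Γ(S, U)) F).toRingHom)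
  have hab : a ≫ b = V.ι ≫ g := by
    simp only [a, b, Category.assoc]
    rw [← Category.assoc (Spec.map _), ← Spec.map_comp, ← CommRingCat.ofHom_comp, hev, hhB,
      ← Category.assoc]
    simp [hB]
  let m : Limits.pullback f (V.ι ≫ g) ⟶ Limits.pullback f b :=
    Limits.pullback.lift (Limits.pullback.fst f (V.ι ≫ g)) (Limits.pullback.snd f (V.ι ≫ g) ≫ a)
      (by rw [Category.assoc, hab, Limits.pullback.condition])
  let π' := fun W => SpreadClosedLib.piece (heW W) (show Spec.map (CommRingCat.ofHom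
    (algebraMap Γ(S, U) R')) ≫ hU.fromSpec = 𝟙 _ ≫ b from (Category.id_comp b).symm)
  haveI hπ' : ∀ W, IsOpenImmersion (π' W) := fun W => SpreadClosedLib.isOpenImmersion_piece _ _
  have hpm : ∀ W, πV W ≫ m =
      Spec.map (CommRingCat.ofHom (SpreadClosedLib.evT (R := Γ(S, U)) Γ(X, W.1) F).toRingHom) ≫ π' W := by
    intro W
    apply Limits.pullback.hom_ext
    · simp only [m, Category.assoc, Limits.pullback.lift_fst, πV, π', SpreadClosedLib.piece_fst]
      rw [← Category.assoc (Spec.map _), ← Spec.map_comp, ← CommRingCat.ofHom_comp]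
      congr 3
      refine RingHom.ext fun x => ?_
      simp [SpreadClosedLib.evT]
    · simp only [m, a, hB, Category.assoc, Limits.pullback.lift_snd, πV, π',
        SpreadClosedLib.piece_snd, Category.comp_id]
      rw [← Category.assoc, SpreadClosedLib.piece_snd, Category.assoc, Iso.inv_hom_id_assoc,
        ← Spec.map_comp, ← Spec.map_comp, ← CommRingCat.ofHom_comp, ← CommRingCat.ofHom_comp]
      congr 2
  choose j' hj'J hj'Q using fun W (hW : W ∈ c) => hFs W F (Finset.subset_biUnion_of_mem Fs hW)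
  let O : Set ↥(Limits.pullback f b) := ⋃ (W) (hW : W ∈ c),
    π' W '' SetLike.coe (PrimeSpectrum.basicOpen (j' W hW))
  have hO : IsOpen O := isOpen_iUnion fun W => isOpen_iUnion fun hW =>
    (π' W).isOpenEmbedding.isOpenMap _ (PrimeSpectrum.basicOpen (j' W hW)).isOpen
  refine ⟨V, htV, Spec (CommRingCat.of R'), b, a, n, m, Oᶜ, hV, inferInstance, ?_, hab,
    Limits.pullback.lift_fst _ _ _, Limits.pullback.lift_snd _ _ _, Limits.pullback.lift_fst _ _ _,
    Limits.pullback.lift_snd _ _ _, hO.isClosed_compl, fun z' hz' hzt => hz' ?_, fun z hz hm => ?_⟩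
  · haveI : LocallyOfFinitePresentation (Spec.map (CommRingCat.ofHom (algebraMap Γ(S, U) R'))) := by
      rw [HasRingHomProperty.Spec_iff (P := @LocallyOfFinitePresentation)]
      exact RingHom.finitePresentation_algebraMap.mpr inferInstance
    infer_instance
  · have hsU : Limits.pullback.fst f b z' ∈ f ⁻¹ᵁ U := by
      change f (Limits.pullback.fst f b z') ∈ U
      rw [← Scheme.Hom.comp_apply, Limits.pullback.condition, Scheme.Hom.comp_apply]
      change b ((Limits.pullback.snd f b).base z') ∈ U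
      rw [hzt]
      change b (a ⟨t, htV⟩) ∈ U
      rw [← Scheme.Hom.comp_apply, hab, Scheme.Hom.comp_apply]
      exact htU
    obtain ⟨W, hWc, hxW⟩ := Set.mem_iUnion₂.mp (hc hsU)
    obtain ⟨Q, rfl⟩ : z' ∈ Set.range (π' W) := by
      rw [SpreadClosedLib.range_piece]
      exact ⟨W.2.1.range_fromSpec ▸ hxW, ⟨_, rfl⟩⟩
    refine Set.mem_iUnion₂.mpr ⟨W, hWc, Q, hj'Q W hWc Q.asIdeal Q.isPrime ?_, rfl⟩
    have h1 : (π' W ≫ Limits.pullback.snd f b) Q = a ⟨t, htV⟩ := hzt
    rw [SpreadClosedLib.piece_snd, Category.comp_id] at h1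
    exact congrArg PrimeSpectrum.asIdeal h1
  · obtain ⟨W, hWc, Q, hQ, hQm⟩ := Set.mem_iUnion₂.mp hm
    have hfst : Limits.pullback.fst f (V.ι ≫ g) z ∈ Set.range W.2.1.fromSpec := by
      have h1 : (m ≫ Limits.pullback.fst f b) z = Limits.pullback.fst f (V.ι ≫ g) z := by
        rw [show m ≫ Limits.pullback.fst f b = Limits.pullback.fst f (V.ι ≫ g) from
          Limits.pullback.lift_fst _ _ _]
      rw [← h1, Scheme.Hom.comp_apply]
      have h2 : m z ∈ Set.range (π' W) := ⟨Q, hQm⟩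
      rw [SpreadClosedLib.range_piece] at h2
      exact h2.1
    obtain ⟨w, rfl⟩ : z ∈ Set.range (πV W) := by
      rw [SpreadClosedLib.range_piece]
      exact ⟨hfst, hV.isoSpec.inv.homeomorph.surjective _⟩
    have hwZ : J W ≤ w.asIdeal := (hJ W w).mp hz
    have hQw : Q = Spec.map (CommRingCat.ofHom (SpreadClosedLib.evT (R := Γ(S, U)) Γ(X, W.1) F).toRingHom) w := by
      refine (π' W).isOpenEmbedding.injective (hQm.trans ?_)
      exact congr($(hpm W) w)
    subst hQw
    exact hQ (hwZ (hj'J W hWc))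

end Groth.Agent.S9224
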