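import Groth.Statements.S9225
import Mathlib.RingTheory.Derivation.Basic
import Groth.Agent.CommAlgDim.Regular


-- import your own Groth.Agent.* helpers here

set_option autoImplicit false
universe u
open CAlg

namespace Groth.Agent.S9225

/-- Let R be a regular ring, f an element of R and D a derivation of R such that the image of D(f) in
R/(f) is a unit. Then R/(f) is a regular ring. -/
theorem result (R : Type u) [CommRing R] [IsRegularRing R]
    (f : R) (D : Derivation ℤ R R)
    (hD : IsUnit (Ideal.Quotient.mk (Ideal.span {f}) (D f))) :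
    IsRegularRing (R ⧸ Ideal.span ({f} : Set R)) := by
  rw [isRegularRing_iff]
  set I := Ideal.span ({f} : Set R) with hI
  intro Q _
  set P := Q.comap (Ideal.Quotient.mk I) with hP
  have hPp : P.IsPrime := Ideal.comap_isPrime _ _
  set L := Localization.AtPrime P
  have hreg : IsRegularLocalRing L := isRegularRing_iff.1 inferInstance P
  have hfP : f ∈ P := by
    rw [hP, Ideal.mem_comap, Ideal.Quotient.eq_zero_iff_mem.2 (Ideal.mem_span_singleton_self f)]
    exact zero_mem _
  have hDP : D f ∉ P := fun h => Ideal.IsPrime.ne_top ‹Q.IsPrime› (Ideal.eq_top_of_isUnit_mem _ (Ideal.mem_comap.1 h) hD)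
  have hf1 : algebraMap R L f ∈ IsLocalRing.maximalIdeal L := by
    rw [← Localization.AtPrime.map_eq_maximalIdeal]
    exact Ideal.mem_map_of_mem _ hfP
  have hf2 : algebraMap R L f ∉ IsLocalRing.maximalIdeal L ^ 2 := by
    rw [← Localization.AtPrime.map_eq_maximalIdeal, ← Ideal.map_pow]
    intro h
    obtain ⟨m, hm, hmf⟩ := (IsLocalization.algebraMap_mem_map_algebraMap_iff P.primeCompl L _ _).1 h
    have hDmem : ∀ z ∈ P ^ 2, D z ∈ P := fun z hz => by
      rw [pow_two] at hz
      induction hz using Submodule.mul_induction_on' with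
      | mem_mul_mem a ha b hb =>
        rw [Derivation.leibniz, smul_eq_mul, smul_eq_mul]
        exact add_mem (P.mul_mem_right _ ha) (P.mul_mem_right _ hb)
      | add a _ b _ ha hb => rw [map_add]; exact add_mem ha hb
    have h1 := hDmem _ hmf
    rw [Derivation.leibniz, smul_eq_mul, smul_eq_mul] at h1
    have h2 : m * D f ∈ P := (P.add_mem_iff_left (P.mul_mem_right _ hfP)).1 h1
    exact (hPp.mem_or_mem h2).elim hm hDP
  have hq := CommAlgDim.isRegularLocalRing_quotient_singleton hf1 hf2
  rw [show (Ideal.span {algebraMap R L f} : Ideal L) = I.map (algebraMap R L) by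
    rw [hI, Ideal.map_span, Set.image_singleton]] at hq
  let φ : R →+* Localization.AtPrime Q := (algebraMap (R ⧸ I) _).comp (Ideal.Quotient.mk I)
  have hun : ∀ s : P.primeCompl, IsUnit (φ s) := fun s =>
    IsLocalization.map_units (Localization.AtPrime Q)
      (⟨Ideal.Quotient.mk I (s : R), fun h => s.2 (Ideal.mem_comap.2 h)⟩ : Q.primeCompl)
  let Φ : L →+* Localization.AtPrime Q := IsLocalization.lift (M := P.primeCompl) (S := L) hun
  have hsurj : Function.Surjective Φ := by
    intro y
    obtain ⟨b, ⟨s, hs⟩, rfl⟩ := IsLocalization.exists_mk'_eq Q.primeCompl y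
    obtain ⟨b, rfl⟩ := Ideal.Quotient.mk_surjective b
    obtain ⟨s, rfl⟩ := Ideal.Quotient.mk_surjective s
    refine ⟨IsLocalization.mk' L b (⟨s, fun h => hs (Ideal.mem_comap.1 h)⟩ : P.primeCompl), ?_⟩
    show IsLocalization.lift (M := P.primeCompl) (S := L) hun _ = _
    rw [IsLocalization.lift_mk'_spec, mul_comm]
    exact (IsLocalization.mk'_spec (Localization.AtPrime Q) _ (⟨Ideal.Quotient.mk I s, hs⟩ : Q.primeCompl)).symm
  have hker : RingHom.ker Φ = I.map (algebraMap R L) := by
    refine le_antisymm (fun z hz => ?_) (Ideal.map_le_iff_le_comap.2 fun b hb => ?_)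
    · obtain ⟨b, s, rfl⟩ := IsLocalization.exists_mk'_eq P.primeCompl z
      rw [RingHom.mem_ker, IsLocalization.lift_mk'_spec, mul_zero] at hz
      obtain ⟨⟨m, hm⟩, hmb⟩ := (IsLocalization.map_eq_zero_iff Q.primeCompl _ _).1 hz
      obtain ⟨m, rfl⟩ := Ideal.Quotient.mk_surjective m
      rw [← map_mul, Ideal.Quotient.eq_zero_iff_mem] at hmb
      have hmP : m ∉ P := fun h => hm (Ideal.mem_comap.1 h)
      rw [IsLocalization.mk'_eq_mul_mk'_one]
      refine Ideal.mul_mem_right _ _ ?_
      have hu : IsUnit (algebraMap R L m) := IsLocalization.map_units L (⟨m, hmP⟩ : P.primeCompl)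
      rw [← Ideal.unit_mul_mem_iff_mem _ hu, ← map_mul]
      exact Ideal.mem_map_of_mem _ hmb
    · rw [Ideal.mem_comap, RingHom.mem_ker, IsLocalization.lift_eq]
      simp [φ, Ideal.Quotient.eq_zero_iff_mem.2 hb]
  exact IsRegularLocalRing.of_ringEquiv
    ((Ideal.quotEquivOfEq hker.symm).trans (RingHom.quotientKerEquivOfSurjective hsurj))

end Groth.Agent.S9225
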