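import Groth.Statements.S9226
import Groth.Agent.CommAlgDim.Regular
import Groth.Agent.FixLocusLib.Basic


-- import your own Groth.Agent.* helpers here

set_option autoImplicit false
universe u
open CAlg

namespace Groth.Agent.S9226

/-- Let R be a regular local ring, m ≥ 1, f_1, ..., f_m elements of the maximal ideal, and D_1, ..., D_m
derivations of R such that the determinant of the matrix (D_i(f_j)) is a unit of R. Then R/(f_1,
..., f_m) is a regular local ring and f_1, ..., f_m is a regular sequence on R. -/
theorem result (R : Type u) [CommRing R]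
    [IsRegularLocalRing R] (m : ℕ) (hm : 1 ≤ m) (f : Fin m → R)
    (hf : ∀ i, f i ∈ IsLocalRing.maximalIdeal R) (D : Fin m → Derivation ℤ R R)
    (hdet : IsUnit (Matrix.det (Matrix.of (fun i j : Fin m => D i (f j))))) :
    IsRegularLocalRing (R ⧸ Ideal.span (Set.range f)) ∧
      RingTheory.Sequence.IsRegular R (List.ofFn f) := by
  classical
  let m' := IsLocalRing.maximalIdeal R
  let F : Fin m → m' := fun i => ⟨f i, hf i⟩
  let M : Matrix (Fin m) (Fin m) R := Matrix.of fun i j => D i (f j)
  have key : ∀ c : Fin m → R, ∑ j, c j * f j ∈ m' ^ 2 → ∀ j, c j ∈ m' := by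
    intro c hc
    have hD : ∀ i (y : R), y ∈ m' ^ 2 → D i y ∈ m' := by
      intro i y hy
      rw [pow_two] at hy
      refine Submodule.mul_induction_on hy (fun a ha b hb => ?_) (fun a b ha hb => by rw [map_add]; exact add_mem ha hb)
      rw [Derivation.leibniz, smul_eq_mul, smul_eq_mul]
      exact add_mem (Ideal.mul_mem_right _ _ ha) (Ideal.mul_mem_right _ _ hb)
    have h1 : ∀ i, (M.mulVec c) i ∈ m' := by
      intro i
      have h2 := hD i _ hc
      rw [map_sum] at h2
      have h3 : ∑ j, f j * D i (c j) ∈ m' := sum_mem fun j _ => Ideal.mul_mem_right _ _ (hf j)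
      have h4 : (M.mulVec c) i = ∑ j, D i (c j * f j) - ∑ j, f j * D i (c j) := by
        simp only [Matrix.mulVec, dotProduct]
        rw [← Finset.sum_sub_distrib]
        refine Finset.sum_congr rfl fun j _ => ?_
        rw [Derivation.leibniz, smul_eq_mul, smul_eq_mul]
        simp [M]; ring
      rw [h4]; exact sub_mem h2 h3
    intro j
    have h5 : M.adjugate.mulVec (M.mulVec c) = M.det • c := by
      rw [Matrix.mulVec_mulVec, Matrix.adjugate_mul, Matrix.smul_mulVec, Matrix.one_mulVec]
    have h6 : M.det * c j ∈ m' := by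
      rw [← smul_eq_mul, ← Pi.smul_apply, ← h5]
      show ∑ k, M.adjugate j k * (M.mulVec c) k ∈ m'
      exact sum_mem fun k _ => Ideal.mul_mem_left _ _ (h1 k)
    exact (Ideal.unit_mul_mem_iff_mem _ hdet).1 h6
  have hli : LinearIndependent (IsLocalRing.ResidueField R) fun i => m'.toCotangent (F i) := by
    rw [Fintype.linearIndependent_iff]
    intro g hg j
    choose c hc using fun i => IsLocalRing.residue_surjective (g i)
    rw [← hc j, IsLocalRing.residue_eq_zero_iff]
    refine key c ?_ j
    have h1 : m'.toCotangent (∑ i, c i • F i) = 0 := by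
      rw [map_sum, ← hg]
      refine Finset.sum_congr rfl fun i _ => ?_
      rw [map_smul, ← hc i]
      exact (algebraMap_smul (IsLocalRing.ResidueField R) (c i) (m'.toCotangent (F i))).symm
    rw [Ideal.toCotangent_eq_zero] at h1
    simpa [F] using h1
  have hreg : ∀ s : Set (Fin m), IsRegularLocalRing (R ⧸ Ideal.span (f '' s)) := by
    intro s
    have := FixLocusLib.isRegularLocalRing_quotient_of_li (fun i : s => F i) (hli.comp _ Subtype.val_injective)
    have he : Ideal.span (Set.range fun i : s => ((F i : m') : R)) = Ideal.span (f '' s) := by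
      congr 1; ext x; simp [F]
    exact IsRegularLocalRing.of_ringEquiv (Ideal.quotEquivOfEq he)
  refine ⟨?_, ?_⟩
  · exact IsRegularLocalRing.of_ringEquiv (Ideal.quotEquivOfEq (by rw [Set.image_univ]) : (R ⧸ Ideal.span (f '' Set.univ)) ≃+* _) (R := R ⧸ Ideal.span (f '' Set.univ))
  refine ⟨?_, fun h => ?_⟩
  · rw [RingTheory.Sequence.isWeaklyRegular_iff]
    intro i hi
    rw [List.length_ofFn] at hi
    rw [smul_eq_mul, Ideal.mul_top]
    have hset : Ideal.ofList ((List.ofFn f).take i) = Ideal.span (f '' {j | j.val < i}) := by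
      refine congrArg Ideal.span ?_
      ext x
      simp only [Set.mem_image, Set.mem_setOf_eq, List.mem_take_iff_getElem, List.length_ofFn, List.getElem_ofFn]
      constructor
      · rintro ⟨k, hk, rfl⟩
        exact ⟨⟨k, (lt_min_iff.1 hk).2⟩, (lt_min_iff.1 hk).1, rfl⟩
      · rintro ⟨j, hj, rfl⟩
        exact ⟨j.val, lt_min_iff.2 ⟨hj, j.2⟩, rfl⟩
    haveI := hreg {j | j.val < i}
    haveI : IsDomain (R ⧸ Ideal.span (f '' {j | j.val < i})) := CommAlgDim.isDomain_of_isRegularLocalRing _
    rw [List.getElem_ofFn, hset]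
    have hne : Ideal.Quotient.mk (Ideal.span (f '' {j : Fin m | j.val < i})) (f ⟨i, hi⟩) ≠ 0 := by
      intro h0
      rw [Ideal.Quotient.eq_zero_iff_mem] at h0
      rw [Ideal.span, Submodule.mem_span_image_iff_exists_fun] at h0
      obtain ⟨t, ht, c, hc⟩ := h0
      let d : Fin m → R := fun j => (if j = ⟨i, hi⟩ then 1 else 0) - (if h : j ∈ t then c ⟨j, h⟩ else 0)
      have h1 := key d ?_ ⟨i, hi⟩
      · have hnot : (⟨i, hi⟩ : Fin m) ∉ t := fun h => lt_irrefl i (ht h)
        simp only [d, if_true, dif_neg hnot, sub_zero] at h1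
        exact (IsLocalRing.maximalIdeal.isMaximal R).ne_top ((Ideal.eq_top_iff_one _).2 h1)
      · have h2 : ∑ j, d j * f j = 0 := by
          simp only [d, sub_mul, Finset.sum_sub_distrib, ite_mul, one_mul, zero_mul, Finset.sum_ite_eq', Finset.mem_univ, if_true, dite_mul]
          rw [sub_eq_zero, ← hc]
          simp only [smul_eq_mul]
          rw [← Finset.sum_subset (Finset.subset_univ t) (fun x _ hx => dif_neg hx), ← Finset.sum_attach t]
          exact Finset.sum_congr rfl fun x _ => by rw [dif_pos x.2]
        rw [h2]; exact zero_mem _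
    intro a b hab
    refine mul_left_cancel₀ hne ?_
    exact hab
  · rw [smul_eq_mul, Ideal.mul_top] at h
    exact (ne_top_of_le_ne_top (IsLocalRing.maximalIdeal.isMaximal R).ne_top (Ideal.span_le.2 fun x hx => by
      obtain ⟨i, rfl⟩ := List.mem_ofFn.1 hx; exact hf i)) h.symm

end Groth.Agent.S9226
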