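import Groth.Statements.S9227
import Groth.Agent.GRingLib.Radical
-- import your own Groth.Agent.* helpers here

set_option autoImplicit false
universe u
open CAlg

namespace Groth.Agent.S9227

/-- Let R be a regular ring, f an element of R and D a derivation of R with D(f) a unit of R. Then for
every polynomial p with integer coefficients the ring R[z]/(p(z) - f) is regular; in particular
R[z]/(z^n - f) is regular for every n ≥ 1. -/
theorem result (R : Type u) [CommRing R]
    [IsRegularRing R] (f : R) (D : Derivation ℤ R R) (hD : IsUnit (D f)) (p : Polynomial ℤ) :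
    IsRegularRing (Polynomial R ⧸
      Ideal.span ({Polynomial.map (Int.castRingHom R) p - Polynomial.C f} : Set (Polynomial R))) := by
  haveI : IsNoetherianRing R := inferInstance
  let F : Polynomial R := Polynomial.map (Int.castRingHom R) p - Polynomial.C f
  refine (isRegularRing_iff (R := Polynomial R ⧸ Ideal.span {F})).mpr fun Q _ => ?_
  haveI : IsRegularLocalRing (Localization.AtPrime (Q.comap (Ideal.Quotient.mk (Ideal.span {F})))) :=
    IsRegularRing.isRegularLocalRing_localization (R := Polynomial R) _
  let DX : Derivation ℤ (Polynomial R) (Polynomial R) := PolynomialModule.equivPolynomialSelf.compDer D.mapCoeffs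
  refine GRingLib.isRegularLocalRing_of_derivation (Polynomial R) F Q DX fun h => ?_
  have hDF : DX F = -Polynomial.C (D f) := by
    refine Polynomial.ext fun i => ?_
    show (D.mapCoeffs F).coeff i = _
    rw [Derivation.mapCoeffs_apply, Polynomial.coeff_sub, Polynomial.coeff_map, Polynomial.coeff_C, map_sub,
      eq_intCast, Derivation.map_intCast, Polynomial.coeff_neg, Polynomial.coeff_C, zero_sub]
    split_ifs <;> simp
  replace h : -Polynomial.C (D f) ∈ Q.comap (Ideal.Quotient.mk (Ideal.span {F})) := hDF.subst (motive := fun z => z ∈ Q.comap (Ideal.Quotient.mk (Ideal.span {F}))) h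
  rw [neg_mem_iff] at h
  exact Ideal.IsPrime.ne_top inferInstance (Ideal.eq_top_of_isUnit_mem _ h (hD.map Polynomial.C))

end Groth.Agent.S9227
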