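import Groth.Statements.S9232
import Mathlib.RingTheory.AdicCompletion.Completeness
-- import your own Groth.Agent.* helpers here

set_option autoImplicit false
universe u
open CAlg

namespace Groth.Agent.S9232

open AdicCompletion in
theorem sub_mem_map {A : Type u} [CommRing A] (I : Ideal A) (hI : I.FG) (k : ℕ) (x : AdicCompletion I A)
    (a : A) (h : evalₐ I k x = Ideal.Quotient.mk (I ^ k) a) :
    x - algebraMap A (AdicCompletion I A) a ∈ (I ^ k).map (algebraMap A (AdicCompletion I A)) := by
  have h0 : evalₐ I k (x - algebraMap A (AdicCompletion I A) a) = 0 := by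
    rw [map_sub, AlgHom.commutes, h]
    exact sub_self _
  have h1 : (x - algebraMap A (AdicCompletion I A) a) ∈ (eval I A k).ker := by
    rw [LinearMap.mem_ker, ← factor_evalₐ_eq_eval I _ (by simp : I ^ k ≤ I ^ k • ⊤), h0, _root_.map_zero]
  rw [← pow_smul_top_eq_ker_eval hI] at h1
  rw [Ideal.smul_top_eq_map] at h1
  exact h1

/-- Suppose A → B is a flat local ring map between Noetherian local rings, the maximal ideal of A
generates that of B, and the residue field map is bijective. Then the induced map between the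
completions of A and B (a ring map of the completions compatible with A → B; it is unique since A is
Noetherian) is an isomorphism. -/
theorem result (A B : Type u) [CommRing A]
    [CommRing B] [IsLocalRing A] [IsLocalRing B] [IsNoetherianRing A] [IsNoetherianRing B]
    [Algebra A B] [IsLocalHom (algebraMap A B)] [Module.Flat A B]
    (hm : Ideal.map (algebraMap A B) (IsLocalRing.maximalIdeal A) = IsLocalRing.maximalIdeal B)
    (hk : Function.Bijective (IsLocalRing.ResidueField.map (algebraMap A B)))
    (ψ : AdicCompletion (IsLocalRing.maximalIdeal A) A →+* AdicCompletion (IsLocalRing.maximalIdeal B) B)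
    (hψ : ψ.comp (algebraMap A (AdicCompletion (IsLocalRing.maximalIdeal A) A)) =
      (algebraMap B (AdicCompletion (IsLocalRing.maximalIdeal B) B)).comp (algebraMap A B)) :
    Function.Bijective ψ := by
  classical
  let m := IsLocalRing.maximalIdeal A
  let n := IsLocalRing.maximalIdeal B
  have hmk : ∀ k, (m ^ k).map (algebraMap A B) = n ^ k := fun k => by rw [Ideal.map_pow, hm]
  haveI : Module.FaithfullyFlat A B := Module.FaithfullyFlat.of_flat_of_isLocalHom
  have hcomap : ∀ k, (n ^ k).comap (algebraMap A B) = m ^ k := fun k => by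
    rw [← hmk, Ideal.comap_map_eq_self_of_faithfullyFlat]
  let g : ∀ k, (A ⧸ m ^ k) →+* (B ⧸ n ^ k) := fun k => Ideal.quotientMap (n ^ k) (algebraMap A B) (hcomap k).ge
  have hginj : ∀ k, Function.Injective (g k) := fun k => Ideal.quotientMap_injective' (hcomap k).le
  have happrox : ∀ (k : ℕ) (b : B), ∃ a : A, b - algebraMap A B a ∈ n ^ k := by
    have h1 : ∀ b : B, ∃ a : A, b - algebraMap A B a ∈ n := fun b => by
      obtain ⟨r, hr⟩ := hk.2 (IsLocalRing.residue B b)
      obtain ⟨a, rfl⟩ := IsLocalRing.residue_surjective r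
      rw [IsLocalRing.ResidueField.map_residue] at hr
      exact ⟨a, Ideal.Quotient.eq.1 hr.symm⟩
    intro k
    induction k with
    | zero => exact fun b => ⟨0, by rw [pow_zero, Ideal.one_eq_top]; trivial⟩
    | succ k ih =>
      intro b
      obtain ⟨a, ha⟩ := ih b
      have key : ∀ z ∈ n ^ k, ∃ a' : A, z - algebraMap A B a' ∈ n ^ (k + 1) := fun z hz => by
        rw [← hmk] at hz
        induction hz using Submodule.span_induction with
        | mem z hz => obtain ⟨a', -, rfl⟩ := hz; exact ⟨a', by simp⟩
        | zero => exact ⟨0, by simp⟩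
        | add z w _ _ hz hw =>
          obtain ⟨a₁, h₁⟩ := hz
          obtain ⟨a₂, h₂⟩ := hw
          refine ⟨a₁ + a₂, ?_⟩
          rw [map_add, add_sub_add_comm]
          exact add_mem h₁ h₂
        | smul c z hzmem hz =>
          obtain ⟨a₁, h₁⟩ := hz
          obtain ⟨a₂, h₂⟩ := h1 c
          refine ⟨a₂ * a₁, ?_⟩
          have hz' : z ∈ n ^ k := hmk k ▸ hzmem
          have : c • z - algebraMap A B (a₂ * a₁) =
              (c - algebraMap A B a₂) * z + algebraMap A B a₂ * (z - algebraMap A B a₁) := by
            rw [map_mul, smul_eq_mul]; ring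
          rw [this]
          exact add_mem (pow_succ' n k ▸ Ideal.mul_mem_mul h₂ hz') (Ideal.mul_mem_left _ _ h₁)
      obtain ⟨a', ha'⟩ := key _ ha
      refine ⟨a + a', ?_⟩
      rwa [map_add, ← sub_sub]
  have hgsurj : ∀ k, Function.Surjective (g k) := fun k y => by
    obtain ⟨b, rfl⟩ := Ideal.Quotient.mk_surjective y
    obtain ⟨a, ha⟩ := happrox k b
    refine ⟨Ideal.Quotient.mk _ a, ?_⟩
    rw [Ideal.quotientMap_mk]
    exact (Ideal.Quotient.eq.2 ha).symm
  have key : ∀ k x, AdicCompletion.evalₐ n k (ψ x) = g k (AdicCompletion.evalₐ m k x) := fun k x => by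
    obtain ⟨a, ha⟩ := Ideal.Quotient.mk_surjective (AdicCompletion.evalₐ m k x)
    have h1 := sub_mem_map m (IsNoetherian.noetherian m) k x a ha.symm
    have h2 : ψ (x - algebraMap A _ a) ∈ ((m ^ k).map (algebraMap A _)).map ψ := Ideal.mem_map_of_mem _ h1
    rw [Ideal.map_map, hψ, ← Ideal.map_map, hmk] at h2
    have h3 : (n ^ k).map (algebraMap B (AdicCompletion n B)) ≤ RingHom.ker (AdicCompletion.evalₐ n k) :=
      Ideal.map_le_iff_le_comap.2 fun b hb => by
        show AdicCompletion.evalₐ n k (algebraMap B _ b) = 0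
        rw [AlgHom.commutes]
        exact Ideal.Quotient.eq_zero_iff_mem.2 hb
    have h4 : AdicCompletion.evalₐ n k (ψ (x - algebraMap A _ a)) = 0 := h3 h2
    rw [map_sub, map_sub, sub_eq_zero] at h4
    rw [h4, ← ha, show ψ (algebraMap A _ a) = algebraMap B _ (algebraMap A B a) from RingHom.congr_fun hψ a,
      AlgHom.commutes, Ideal.quotientMap_mk]
    rfl
  refine ⟨fun x y h => AdicCompletion.ext_evalₐ fun k => hginj k ?_, fun y => ?_⟩
  · rw [← key, ← key, h]
  · choose c hc using fun k => hgsurj k (AdicCompletion.evalₐ n k y)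
    choose a ha using fun k => Ideal.Quotient.mk_surjective (c k)
    have hcauchy : ∀ {i j : ℕ}, i ≤ j → a i ≡ a j [SMOD (m ^ i • ⊤ : Submodule A A)] := fun {i j} hij => by
      rw [SModEq.sub_mem, smul_eq_mul, Ideal.mul_top, ← Ideal.Quotient.eq]
      apply hginj i
      have hfac : ∀ z, Ideal.Quotient.factor (Ideal.pow_le_pow_right hij) (AdicCompletion.evalₐ n j z) =
          AdicCompletion.evalₐ n i z := fun z => by
        obtain ⟨s, rfl⟩ := AdicCompletion.mk_surjective n B z
        rw [AdicCompletion.evalₐ_mk, AdicCompletion.evalₐ_mk, Ideal.Quotient.factor_mk, Ideal.Quotient.eq]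
        have := (s.2 hij)
        rw [SModEq.sub_mem, smul_eq_mul, Ideal.mul_top] at this
        exact (Submodule.neg_mem_iff _).1 (by rwa [neg_sub])
      have hi := hc i
      have hj := hc j
      rw [← ha, Ideal.quotientMap_mk] at hi hj
      rw [Ideal.quotientMap_mk, Ideal.quotientMap_mk, hi, ← hfac y, ← hj, Ideal.Quotient.factor_mk]
    refine ⟨AdicCompletion.mk m A ⟨a, hcauchy⟩, AdicCompletion.ext_evalₐ fun k => ?_⟩
    refine (key k _).trans ?_
    erw [AdicCompletion.evalₐ_mk]
    show g k (Ideal.Quotient.mk _ (a k)) = _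
    rw [ha, hc]

end Groth.Agent.S9232
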