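import Groth.Statements.S9245
import Mathlib
-- import your own Groth.Agent.* helpers here

set_option autoImplicit false
universe u
open CAlg

namespace Groth.Agent.S9245

/-- For an étale ring map A → B and a prime q of B with contraction p in A, the localization A_p is a
Noetherian ring exactly when the localization B_q is. -/
theorem result (A B : Type u) [CommRing A] [CommRing B]
    [Algebra A B] [Algebra.Etale A B] (q : Ideal B) [q.IsPrime] :
    IsNoetherianRing (Localization.AtPrime (Ideal.comap (algebraMap A B) q)) ↔
      IsNoetherianRing (Localization.AtPrime q) := by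
  classical
  let p := Ideal.comap (algebraMap A B) q
  haveI : q.LiesOver p := ⟨rfl⟩
  let Ap := Localization.AtPrime p
  let Bq := Localization.AtPrime q
  letI : Algebra Ap Bq := Localization.AtPrime.algebraOfLiesOver p q
  haveI : IsLocalHom (algebraMap Ap Bq) := Localization.isLocalHom_localRingHom p q (algebraMap A B) Ideal.LiesOver.over
  haveI : IsScalarTower A Ap Bq := inferInstance
  constructor
  · intro h
    haveI : IsNoetherianRing Ap := h
    haveI : Algebra.EssFiniteType A Bq := Algebra.EssFiniteType.comp A B Bq
    haveI : Algebra.EssFiniteType Ap Bq := Algebra.EssFiniteType.of_comp A Ap Bq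
    exact Algebra.EssFiniteType.isNoetherianRing Ap Bq
  · intro h
    haveI : IsNoetherianRing Bq := h
    haveI : Module.Flat B Bq := IsLocalization.flat Bq q.primeCompl
    haveI : Module.Flat A Bq := Module.Flat.trans A B Bq
    haveI : Module.Flat Ap Bq := (Module.flat_iff_of_isLocalization Ap p.primeCompl Bq).mpr inferInstance
    haveI : Module.FaithfullyFlat Ap Bq := Module.FaithfullyFlat.of_flat_of_isLocalHom
    have hm : StrictMono fun I : Ideal Ap => I.map (algebraMap Ap Bq) :=
      Monotone.strictMono_of_injective (fun _ _ h => Ideal.map_mono h)
        (Function.LeftInverse.injective (g := fun J : Ideal Bq => J.comap (algebraMap Ap Bq))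
          fun I => Ideal.comap_map_eq_self_of_faithfullyFlat I)
    haveI : WellFoundedGT (Ideal Ap) := hm.wellFoundedGT
    exact isNoetherian_iff'.2 this

end Groth.Agent.S9245
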