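import Groth.Statements.S9249
import Groth.Agent.CatLib.More

set_option autoImplicit false
universe u
open CAlg

namespace Groth.Agent.S9249

/-- A Noetherian local ring is Cohen-Macaulay if and only if its completion is. -/
theorem result (A : Type u) [CommRing A] [IsLocalRing A]
    [IsNoetherianRing A] :
    LocCoh.IsCohenMacaulayLocalRing A ↔
      LocCoh.IsCohenMacaulayLocalRing (AdicCompletion (IsLocalRing.maximalIdeal A) A) := by
  haveI := CatLib.isNoetherianRing_cpl A
  constructor
  · intro h
    exact SMTLib.isCohenMacaulayLocalRing_of_isCM _ (CatLib.isCM_cpl (SMTLib.isCM_of_isCohenMacaulayLocalRing A))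
  · intro h
    obtain ⟨n, hn⟩ := CommAlgDim.exists_ringKrullDim_eq (R := A)
    exact SMTLib.isCohenMacaulayLocalRing_of_isCM _
      (CatLib.isCM_of_isCM_cpl n A hn (SMTLib.isCM_of_isCohenMacaulayLocalRing _))

end Groth.Agent.S9249
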