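import Groth.Statements.S9255
import Groth.Agent.FlatLib.Stage
import Groth.Agent.RegFlatLib.Basic
import Groth.Prelude.Def_EGA4b
-- import your own Groth.Agent.* helpers here

set_option autoImplicit false
universe u
open EGA4

namespace Groth.Agent.S9255

/-- Let R be a Noetherian domain and R → S an injective ring map of finite type with S a domain. If the
regular locus of Spec S contains a nonempty open subset, then the regular locus of Spec R contains a
nonempty open subset. -/
theorem result (R S : Type u) [CommRing R]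
    [IsDomain R] [IsNoetherianRing R] [CommRing S] [IsDomain S] [Algebra R S] [Algebra.FiniteType R S]
    (hinj : Function.Injective (algebraMap R S))
    (hS : ∃ U : Set (PrimeSpectrum S), IsOpen U ∧ U.Nonempty ∧ U ⊆ EGA4.regLocus S) :
    ∃ U : Set (PrimeSpectrum R), IsOpen U ∧ U.Nonempty ∧ U ⊆ EGA4.regLocus R := by
  obtain ⟨U, hUo, ⟨x, hx⟩, hU⟩ := hS
  obtain ⟨_, ⟨s, rfl⟩, hxs, hsU⟩ :=
    PrimeSpectrum.isTopologicalBasis_basic_opens.exists_subset_of_mem_open hx hUo
  have hs0 : s ≠ 0 := fun h ↦ hxs (show s ∈ x.asIdeal from h ▸ zero_mem _)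
  let S' := Localization.Away s
  haveI : IsDomain S' :=
    IsLocalization.isDomain_localization (powers_le_nonZeroDivisors_of_noZeroDivisors hs0)
  haveI : Algebra.FiniteType S S' := IsLocalization.finiteType_of_monoid_fg (Submonoid.powers s) S'
  haveI : Algebra.FiniteType R S' := Algebra.FiniteType.trans (S := S) ‹_› ‹_›
  obtain ⟨f, hf, hfree⟩ := FlatLib.exists_free_away (R := R) (S := S') (M := S') (⊥ : Ideal R)
  let Q := R ⧸ (⊥ : Ideal R)
  let Rf := Localization.Away (Ideal.Quotient.mk (⊥ : Ideal R) f)
  haveI : Module.Flat R Q := Module.Flat.of_linearEquiv (Submodule.quotEquivOfEqBot (⊥ : Ideal R) rfl)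
  haveI : Module.Flat R Rf := Module.Flat.trans R Q Rf
  haveI : Module.Free Rf (TensorProduct R Rf S') := hfree
  haveI : Module.Flat R (TensorProduct R Rf S') := Module.Flat.trans R Rf _
  haveI : IsLocalization (Submonoid.powers f) Rf := by
    let e : R ≃+* Q := RingEquiv.ofBijective (Ideal.Quotient.mk (⊥ : Ideal R))
      ⟨(RingHom.injective_iff_ker_eq_bot _).mpr (Ideal.mk_ker (I := (⊥ : Ideal R))), Ideal.Quotient.mk_surjective⟩
    exact IsLocalization.of_ringEquiv_left (M₁ := Submonoid.powers (Ideal.Quotient.mk (⊥ : Ideal R) f)) e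
      (Submonoid.map_powers _ f) fun _ ↦ rfl
  let T := TensorProduct R S' Rf
  haveI : Module.Flat R T := Module.Flat.of_linearEquiv (TensorProduct.comm R S' Rf)
  haveI hTloc : IsLocalization (Algebra.algebraMapSubmonoid S' (Submonoid.powers f)) T := inferInstance
  haveI : Algebra.FiniteType R Rf := IsLocalization.finiteType_of_monoid_fg (Submonoid.powers f) Rf
  haveI : Algebra.FiniteType R T :=
    Algebra.FiniteType.trans (S := S') ‹_› inferInstance
  haveI : Algebra.FinitePresentation R T := Algebra.FinitePresentation.of_finiteType.1 ‹_›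
  have hnz : Algebra.algebraMapSubmonoid S' (Submonoid.powers f) ≤ nonZeroDivisors S' := by
    rintro _ ⟨_, ⟨n, rfl⟩, rfl⟩
    refine mem_nonZeroDivisors_of_ne_zero ?_
    rw [map_pow]
    refine pow_ne_zero n ((map_ne_zero_iff _ ?_).mpr fun h ↦ hf (h ▸ zero_mem _))
    rw [IsScalarTower.algebraMap_eq R S S']
    exact (IsLocalization.injective S' (powers_le_nonZeroDivisors_of_noZeroDivisors hs0)).comp hinj
  haveI : IsDomain T := IsLocalization.isDomain_of_le_nonZeroDivisors T hnz
  refine ⟨Set.range (PrimeSpectrum.comap (algebraMap R T)),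
    PrimeSpectrum.isOpenMap_comap_of_hasGoingDown_of_finitePresentation.isOpen_range,
    ⟨_, ⟨⊥, Ideal.isPrime_bot⟩, rfl⟩, ?_⟩
  rintro _ ⟨q, rfl⟩
  let q₁ := q.asIdeal.comap (algebraMap S' T)
  let q₀ := q₁.comap (algebraMap S S')
  haveI : IsLocalization.AtPrime (Localization.AtPrime q.asIdeal) q₁ :=
    IsLocalization.isLocalization_isLocalization_atPrime_isLocalization
      (Algebra.algebraMapSubmonoid S' (Submonoid.powers f)) (Localization.AtPrime q.asIdeal) q.asIdeal
  haveI : IsLocalization.AtPrime (Localization.AtPrime q₁) q₀ :=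
    IsLocalization.isLocalization_isLocalization_atPrime_isLocalization
      (Submonoid.powers s) (Localization.AtPrime q₁) q₁
  have h0 : IsRegularLocalRing (Localization.AtPrime q₀) := hU (a := ⟨q₀, inferInstance⟩) (hsU (show s ∉ q₀ from fun h ↦
    Ideal.IsPrime.ne_top inferInstance (Ideal.eq_top_of_isUnit_mem q₁ h (IsLocalization.Away.algebraMap_isUnit s))))
  haveI h1 : IsRegularLocalRing (Localization.AtPrime q₁) := IsRegularLocalRing.of_ringEquiv (R := Localization.AtPrime q₀)
    (IsLocalization.algEquiv q₀.primeCompl (Localization.AtPrime q₀) (Localization.AtPrime q₁)).toRingEquiv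
  haveI : IsRegularLocalRing (Localization.AtPrime q.asIdeal) := IsRegularLocalRing.of_ringEquiv (R := Localization.AtPrime q₁)
    (IsLocalization.algEquiv q₁.primeCompl (Localization.AtPrime q₁) (Localization.AtPrime q.asIdeal)).toRingEquiv
  let p := q.asIdeal.comap (algebraMap R T)
  haveI : q.asIdeal.LiesOver p := ⟨rfl⟩
  letI := Localization.AtPrime.algebraOfLiesOver p q.asIdeal
  haveI : IsLocalHom (algebraMap (Localization.AtPrime p) (Localization.AtPrime q.asIdeal)) :=
    inferInstanceAs (IsLocalHom (Localization.localRingHom p q.asIdeal (algebraMap R T) rfl))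
  haveI : Module.Flat T (Localization.AtPrime q.asIdeal) := IsLocalization.flat _ q.asIdeal.primeCompl
  haveI : Module.Flat R (Localization.AtPrime q.asIdeal) := Module.Flat.trans R T _
  haveI : Module.Flat (Localization.AtPrime p) (Localization.AtPrime q.asIdeal) := Module.Flat.of_linearEquiv
    (IsLocalization.algebraLid p.primeCompl (Localization.AtPrime p) (Localization.AtPrime q.asIdeal)).symm.toLinearEquiv
  exact RegFlatLib.isRegularLocalRing_of_flat (Localization.AtPrime p) (Localization.AtPrime q.asIdeal)

end Groth.Agent.S9255
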