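import Groth.Statements.S9256
import Groth.Agent.GeomRedFieldLib.Scheme
import Groth.Agent.CohenLib.RegularField
import Groth.Agent.CohenLib.PRadical
import Mathlib.RingTheory.LocalRing.ResidueField.Ideal
-- import your own Groth.Agent.* helpers here

set_option autoImplicit false
universe u
open CAlg

namespace Groth.Agent.S9256

/-- For a field extension K of k, the ring map k → K is regular exactly when K is separable over k, that
is, geometrically reduced over k. -/
theorem result (k K : Type u) [Field k] [Field K]
    [Algebra k K] : CAlg.IsRegularHom k K ↔ Algebra.IsGeometricallyReduced k K := by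
  classical
  have hreg : ∀ (A : Type u) [CommRing A] [IsRegularRing A], _root_.IsReduced A := fun A _ _ ↦ by
    refine isReduced_ofLocalizationMaximal _ fun M hM ↦ ?_
    haveI := CommAlgDim.isDomain_of_isRegularLocalRing (Localization.AtPrime M)
    infer_instance
  have hart : ∀ (A : Type u) [CommRing A] [IsArtinianRing A] [_root_.IsReduced A], IsRegularRing A := fun A _ _ _ ↦ by
    refine isRegularRing_iff.mpr fun P hP ↦ ?_
    haveI : IsArtinianRing (Localization.AtPrime P) := inferInstance
    haveI : _root_.IsReduced (Localization.AtPrime P) :=
      isReduced_localizationPreserves P.primeCompl (Localization.AtPrime P) inferInstance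
    letI := (IsArtinianRing.isField_of_isReduced_of_isLocalRing (Localization.AtPrime P)).toField
    infer_instance
  constructor
  · intro h
    refine GeomRedFieldLib.isGeometricallyReduced_of_finite_purelyInseparable K fun k' _ _ _ _ ↦ ?_
    let e₀ := Ideal.algEquivResidueFieldOfField (⊥ : Ideal k)
    letI : Algebra (⊥ : Ideal k).ResidueField k' := ((algebraMap k k').comp e₀.symm.toAlgHom.toRingHom).toAlgebra
    haveI : IsScalarTower k (⊥ : Ideal k).ResidueField k' := IsScalarTower.of_algebraMap_eq fun x ↦
      congrArg (algebraMap k k') (e₀.symm_apply_apply x).symm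
    haveI : Module.Finite (⊥ : Ideal k).ResidueField k' := Module.Finite.of_restrictScalars_finite k _ k'
    haveI : IsRegularRing (TensorProduct (⊥ : Ideal k).ResidueField k' ((⊥ : Ideal k).Fiber K)) :=
      (h.2 ⊥).2 k' inferInstance
    haveI := hreg (TensorProduct (⊥ : Ideal k).ResidueField k' ((⊥ : Ideal k).Fiber K))
    exact isReduced_of_injective
      (Algebra.TensorProduct.cancelBaseChange k (⊥ : Ideal k).ResidueField (⊥ : Ideal k).ResidueField k' K).symm
      (AlgEquiv.injective _)
  · intro h
    refine ⟨inferInstance, fun p _ ↦ ?_⟩
    let κ := p.ResidueField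
    haveI : Module.Finite k κ := Module.Finite.equiv p.algEquivResidueFieldOfField.toLinearEquiv
    have key : ∀ (L : Type u) [Field L] [Algebra k L] [Module.Finite k L], IsRegularRing (TensorProduct k L K) := fun L _ _ _ ↦ by
      haveI : IsArtinianRing (TensorProduct k K L) := IsArtinianRing.of_finite K _
      haveI : IsArtinianRing (TensorProduct k L K) :=
        Function.Surjective.isArtinianRing (f := (Algebra.TensorProduct.comm k K L).toRingEquiv.toRingHom)
          (Algebra.TensorProduct.comm k K L).surjective
      haveI : _root_.IsReduced (TensorProduct k L K) :=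
        haveI := GeomRedFieldLib.isReduced_tensor_geomRed (k := k) K L
        isReduced_of_injective (Algebra.TensorProduct.comm k L K) (AlgEquiv.injective _)
      exact hart _
    refine ⟨?_, fun L _ _ hL ↦ ?_⟩
    · haveI := key κ
      exact (inferInstance : IsNoetherianRing (TensorProduct k κ K))
    · letI : Algebra k L := ((algebraMap κ L).comp (algebraMap k κ)).toAlgebra
      haveI : IsScalarTower k κ L := IsScalarTower.of_algebraMap_eq fun _ ↦ rfl
      haveI : Module.Finite k L := Module.Finite.trans κ L
      haveI := key L
      exact IsRegularRing.of_ringEquiv (Algebra.TensorProduct.cancelBaseChange k κ κ L K).symm.toRingEquiv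

end Groth.Agent.S9256
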