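import Groth.Statements.S9260
import Mathlib.RingTheory.MvPolynomial.Basic
import Mathlib.Algebra.Polynomial.BigOperators
import Mathlib.RingTheory.Invariant.Basic
import Mathlib.Algebra.Polynomial.Eval.Degree
import Mathlib.Algebra.MvPolynomial.Eval
-- import your own Groth.Agent.* helpers here

set_option autoImplicit false
universe u
open CAlg

namespace Groth.Agent.S9260

/-- Suppose a finite group G with n elements acts on a ring R by ring automorphisms, A → R is a ring map
compatible with the action whose image contains the invariants (so that A maps onto R^G), J is an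
ideal of A, and x lies in JR. Then ∏_σ (T - σ(x)) is the image of a monic polynomial over A of
degree at most n whose coefficients below degree n all lie in J. (The published statement takes A =
R^G and a polynomial of degree n; this row allows any such A mapping onto R^G and asks degree at
most n, which is the same when A is nonzero.) -/
theorem result (A R G : Type u) [CommRing A]
    [CommRing R] [Algebra A R] [Group G] [Fintype G] [MulSemiringAction G R] [SMulCommClass G A R]
    [Algebra.IsInvariant A R G] (J : Ideal A) (x : R) (hx : x ∈ Ideal.map (algebraMap A R) J) :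
    ∃ P : Polynomial A, P.Monic ∧ P.natDegree ≤ Fintype.card G ∧
      (∀ i : ℕ, i < Fintype.card G → P.coeff i ∈ J) ∧
      Polynomial.map (algebraMap A R) P = ∏ σ : G, (Polynomial.X - Polynomial.C (σ • x)) := by
  classical
  obtain ⟨c, hc, hx'⟩ : ∃ c : J →₀ R, True ∧ (c.sum fun j r => algebraMap A R (j : A) * r) = x := by
    rw [Ideal.map, Ideal.span] at hx
    exact Finsupp.mem_span_range_iff_exists_finsupp.mp (show x ∈ Submodule.span R (Set.range fun j : J => algebraMap A R (j : A)) by
      rwa [show (Set.range fun j : J => algebraMap A R (j : A)) = algebraMap A R '' (J : Set A) from by ext; simp]) |>.imp fun c hc => ⟨trivial, by simpa [smul_eq_mul, mul_comm] using hc⟩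
  let ι := c.support
  let act (g : G) : MvPolynomial ι R →+* MvPolynomial ι R := MvPolynomial.map (MulSemiringAction.toRingHom G R g)
  let u (g : G) : MvPolynomial ι R := ∑ j : ι, MvPolynomial.X j * MvPolynomial.C (g • c (j : J))
  let Q : Polynomial (MvPolynomial ι R) := ∏ g : G, (Polynomial.X - Polynomial.C (u g))
  have hQinv : ∀ g : G, Q.map (act g) = Q := fun g => by
    simp only [Q, Polynomial.map_prod, Polynomial.map_sub, Polynomial.map_X, Polynomial.map_C]
    refine Fintype.prod_equiv (Equiv.mulLeft g) _ _ fun h => ?_
    simp [u, act, mul_smul]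
  have hinv : ∀ (i : ℕ) (m : ι →₀ ℕ), ∃ a : A, algebraMap A R a = MvPolynomial.coeff m (Q.coeff i) := fun i m =>
    Algebra.IsInvariant.isInvariant (G := G) _ fun g => by
      have := congrArg (fun P : Polynomial (MvPolynomial ι R) => MvPolynomial.coeff m (P.coeff i)) (hQinv g)
      simpa [act, Polynomial.coeff_map, MvPolynomial.coeff_map] using this
  choose a ha using hinv
  let b (i : ℕ) : A := ∑ m ∈ (Q.coeff i).support, a i m * ∏ j : ι, ((j : J) : A) ^ m j
  let ev : MvPolynomial ι R →+* R := MvPolynomial.eval fun j => algebraMap A R ((j : J) : A)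
  have hb : ∀ i, algebraMap A R (b i) = ev (Q.coeff i) := fun i => by
    simp only [b, ev, map_sum, map_mul, map_prod, map_pow, ha, MvPolynomial.eval_eq']
  have hev : Q.map ev = ∏ σ : G, (Polynomial.X - Polynomial.C (σ • x)) := by
    simp only [Q, Polynomial.map_prod, Polynomial.map_sub, Polynomial.map_X, Polynomial.map_C]
    refine Finset.prod_congr rfl fun g _ => ?_
    congr 2
    rw [← hx', Finsupp.sum, Finset.smul_sum, ← Finset.sum_coe_sort]
    simp only [ev, u, map_sum, map_mul, MvPolynomial.eval_X, MvPolynomial.eval_C]
    refine Finset.sum_congr rfl fun j _ => ?_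
    rw [smul_mul', smul_algebraMap]
  have hzero : ∀ i < Fintype.card G, MvPolynomial.coeff 0 (Q.coeff i) = 0 := fun i hi => by
    have h0 : Q.map (MvPolynomial.constantCoeff (R := R) (σ := ι)) = Polynomial.X ^ Fintype.card G := by
      have hu0 : ∀ g, MvPolynomial.constantCoeff (u g) = 0 := fun g => by simp [u]
      simp [Q, Polynomial.map_prod, Polynomial.map_sub, hu0]
    have := congrArg (fun P : Polynomial R => P.coeff i) h0
    simpa [Polynomial.coeff_map, MvPolynomial.constantCoeff_eq, Polynomial.coeff_X_pow, hi.ne] using this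
  let P : Polynomial A := Polynomial.X ^ Fintype.card G + ∑ i ∈ Finset.range (Fintype.card G), Polynomial.C (b i) * Polynomial.X ^ i
  have hdeg : (∑ i ∈ Finset.range (Fintype.card G), Polynomial.C (b i) * Polynomial.X ^ i).degree < (Fintype.card G : WithBot ℕ) :=
    (Polynomial.degree_sum_le _ _).trans_lt ((Finset.sup_lt_iff (WithBot.bot_lt_coe _)).mpr fun i hi =>
      (Polynomial.degree_C_mul_X_pow_le i (b i)).trans_lt (by exact_mod_cast Finset.mem_range.mp hi))
  have hcoef : ∀ i < Fintype.card G, P.coeff i = b i := fun i hi => by
    simp [P, Polynomial.coeff_X_pow, hi.ne, Polynomial.finsetSum_coeff, hi]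
  refine ⟨P, Polynomial.monic_X_pow_add hdeg, ?_, fun i hi => ?_, ?_⟩
  · refine Polynomial.natDegree_add_le_of_degree_le (Polynomial.natDegree_X_pow_le _) ?_
    exact Polynomial.natDegree_le_of_degree_le hdeg.le
  · rw [hcoef i hi]
    refine Submodule.sum_mem _ fun m hm => Ideal.mul_mem_left _ _ ?_
    obtain ⟨j, hj⟩ : ∃ j, m j ≠ 0 := by
      by_contra h'
      push Not at h'
      exact MvPolynomial.mem_support_iff.mp hm ((Finsupp.ext h' : m = 0) ▸ hzero i hi)
    rw [← Finset.mul_prod_erase _ _ (Finset.mem_univ j)]
    exact Ideal.mul_mem_right _ _ (Ideal.pow_mem_of_mem _ (j : J).2 _ (Nat.pos_of_ne_zero hj))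
  · rw [← hev]
    refine Polynomial.ext fun i => ?_
    rcases lt_trichotomy i (Fintype.card G) with hi | hi | hi
    · rw [Polynomial.coeff_map, hcoef i hi, hb, Polynomial.coeff_map]
    · subst hi
      have hQ : Q.coeff (Fintype.card G) = 1 := by
        have := (Polynomial.monic_prod_of_monic (Finset.univ : Finset G) (fun g => Polynomial.X - Polynomial.C (u g)) fun g _ => Polynomial.monic_X_sub_C _).coeff_natDegree
        rw [Polynomial.natDegree_prod_of_monic _ _ fun g _ => Polynomial.monic_X_sub_C _] at this
        rcases subsingleton_or_nontrivial (MvPolynomial ι R) with hs | hs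
        · exact Subsingleton.elim _ _
        · simpa using this
      rw [Polynomial.coeff_map, Polynomial.coeff_map, hQ, map_one]
      simp [P, Polynomial.coeff_X_pow, Polynomial.finsetSum_coeff]
    · rw [Polynomial.coeff_map, Polynomial.coeff_map]
      have hQ0 : Q.natDegree ≤ Fintype.card G := (Polynomial.natDegree_prod_le _ _).trans
        ((Finset.sum_le_card_nsmul _ _ 1 fun g _ => Polynomial.natDegree_X_sub_C_le _).trans (by simp))
      rw [Polynomial.coeff_eq_zero_of_natDegree_lt (hQ0.trans_lt hi), map_zero]
      simp [P, Polynomial.coeff_X_pow, hi.ne', Polynomial.finsetSum_coeff, not_lt.mpr hi.le]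

end Groth.Agent.S9260
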