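import Groth.Statements.S9261
import Mathlib.RingTheory.Flat.Basic
import Mathlib.LinearAlgebra.TensorProduct.Pi
import Mathlib.RingTheory.Invariant.Defs
import Mathlib.RingTheory.TensorProduct.Maps
-- import your own Groth.Agent.* helpers here

set_option autoImplicit false
universe u
open CAlg

namespace Groth.Agent.S9261

/-- Let G be a finite group acting on a ring R, S = R^G its ring of invariants (here: S → R injective
with image the invariants) and A a flat S-algebra. Then the map A → A ⊗_S R is injective with image
the invariants of G acting on A ⊗_S R through the second factor; that is, A → (A ⊗_S R)^G is an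
isomorphism. -/
theorem result (S R A G : Type u) [CommRing S] [CommRing R] [Algebra S R]
    [FaithfulSMul S R] [Group G] [Finite G] [MulSemiringAction G R] [SMulCommClass G S R]
    [Algebra.IsInvariant S R G] [CommRing A] [Algebra S A] [Module.Flat S A] :
    Function.Injective (algebraMap A (TensorProduct S A R)) ∧
      ∀ x : TensorProduct S A R,
        (∀ σ : G, Algebra.TensorProduct.map (AlgHom.id S A) (MulSemiringAction.toAlgHom S R σ) x = x) →
          x ∈ Set.range (algebraMap A (TensorProduct S A R)) := by
  classical
  have := Fintype.ofFinite G
  let c : R →ₗ[S] (G → R) := LinearMap.pi fun σ => (MulSemiringAction.toAlgHom S R σ).toLinearMap - LinearMap.id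
  have hinj : Function.Injective (Algebra.linearMap S R) := FaithfulSMul.algebraMap_injective S R
  have hex : Function.Exact (Algebra.linearMap S R) c := by
    intro r
    constructor
    · intro hr
      exact Algebra.IsInvariant.isInvariant r fun σ => sub_eq_zero.mp (congr_fun hr σ)
    · rintro ⟨s, rfl⟩
      funext σ
      simp [c, smul_algebraMap]
  have hid : ∀ a : A, (Algebra.linearMap S R).lTensor A ((TensorProduct.rid S A).symm a) = algebraMap A (TensorProduct S A R) a := by
    intro a
    simp [Algebra.TensorProduct.algebraMap_apply]
  constructor
  · intro a b h
    rw [← hid, ← hid] at h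
    exact (TensorProduct.rid S A).symm.injective (Module.Flat.lTensor_preserves_injective_linearMap _ hinj h)
  · intro x hx
    have h0 : c.lTensor A x = 0 := by
      apply (TensorProduct.piRight S S A (fun _ : G => R)).injective
      rw [map_zero]
      funext σ
      have hc : ∀ z, TensorProduct.piRight S S A (fun _ : G => R) (c.lTensor A z) σ =
          Algebra.TensorProduct.map (AlgHom.id S A) (MulSemiringAction.toAlgHom S R σ) z - z := by
        intro z
        induction z using TensorProduct.induction_on with
        | zero => simp
        | add u v hu hv => simp only [map_add, Pi.add_apply, hu, hv]; abel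
        | tmul a r => simp [c, TensorProduct.tmul_sub]
      rw [hc, hx σ, sub_self]
      rfl
    obtain ⟨w, hw⟩ := (Module.Flat.lTensor_exact A hex x).mp h0
    exact ⟨TensorProduct.rid S A w, by rw [← hid, LinearEquiv.symm_apply_apply, hw]⟩

end Groth.Agent.S9261
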