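import Groth.Statements.S9263
import Mathlib


-- import your own Groth.Agent.* helpers here

set_option autoImplicit false
universe u
attribute [local instance] HasDerivedCategory.standard
open CategoryTheory
open DerCA

namespace Groth.Agent.S9263

/-- Let R be a ring, f_1, ..., f_r elements of R such that some f_i is a unit, and M an R-module. Then
the extended alternating Cech complex of M with respect to f_1, ..., f_r is homotopy equivalent to
zero: its identity map is null-homotopic. -/
theorem result (R : Type u) [CommRing R] (fs : List R)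
    (hf : ∃ f ∈ fs, IsUnit f) (M : ModuleCat.{u} R) :
    Nonempty (Homotopy (𝟙 (DerCA.extCech M fs)) 0) := by
  let Q := HomotopyCategory.quotient (ModuleCat.{u} R) (ComplexShape.up ℤ)
  have hzero : ∀ K : DRing.Cx R, CategoryTheory.Limits.IsZero (Q.obj K) → Nonempty (Homotopy (𝟙 K) 0) := fun K hK =>
    ⟨HomotopyCategory.homotopyOfEq _ _ (hK.eq_of_src _ _)⟩
  have hcone : ∀ {K L : DRing.Cx R} (φ : K ⟶ L), IsIso (Q.map φ) →
      CategoryTheory.Limits.IsZero (Q.obj (CochainComplex.mappingCocone φ)) := by
    intro K L φ hφ
    have hT := HomotopyCategory.mappingCone_triangleh_distinguished φ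
    have h3 : CategoryTheory.Limits.IsZero (Q.obj (CochainComplex.mappingCone φ)) :=
      (Pretriangulated.Triangle.isZero₃_iff_isIso₁ _ hT).2 hφ
    exact CategoryTheory.Limits.IsZero.of_iso ((shiftFunctor (HomotopyCategory (ModuleCat.{u} R) (ComplexShape.up ℤ)) (-1 : ℤ)).map_isZero h3)
      ((Q.commShiftIso (-1 : ℤ)).app _)
  suffices h : CategoryTheory.Limits.IsZero (Q.obj (DerCA.extCech M fs)) from hzero _ h
  induction fs with
  | nil => obtain ⟨f, hf, -⟩ := hf; simp at hf
  | cons g gs ih =>
    refine hcone _ ?_
    by_cases hg : IsUnit g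
    · haveI : ∀ i, IsIso ((DerCA.locCxUnit (Submonoid.powers g) (DerCA.extCech M gs)).f i) := by
        intro i
        rw [ConcreteCategory.isIso_iff_bijective]
        have hS : ∀ s : Submonoid.powers g, IsUnit (s : R) := by
          rintro ⟨_, n, rfl⟩
          exact hg.pow n
        refine ⟨fun x y hxy => ?_, fun z => ?_⟩
        · obtain ⟨s, hs⟩ := (IsLocalizedModule.eq_iff_exists (Submonoid.powers g)
            (LocalizedModule.mkLinearMap (Submonoid.powers g) _)).1 hxy
          exact (hS s).smul_left_cancel.1 hs
        · obtain ⟨⟨m, s⟩, hms⟩ := IsLocalizedModule.surj (Submonoid.powers g)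
            (LocalizedModule.mkLinearMap (Submonoid.powers g) _) z
          refine ⟨((hS s).unit⁻¹ : Rˣ) • m, ?_⟩
          show LocalizedModule.mkLinearMap (Submonoid.powers g) _ _ = z
          rw [Units.smul_def, map_smul, ← hms, Submonoid.smul_def, smul_smul,
            IsUnit.val_inv_mul, one_smul]
      haveI := HomologicalComplex.Hom.isIso_of_components (DerCA.locCxUnit (Submonoid.powers g) (DerCA.extCech M gs))
      infer_instance
    · have hgs : ∃ f ∈ gs, IsUnit f := by
        obtain ⟨f, hf1, hf2⟩ := hf
        rcases List.mem_cons.1 hf1 with rfl | h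
        · exact absurd hf2 hg
        · exact ⟨f, h, hf2⟩
      have hK := ih hgs
      obtain ⟨H⟩ := hzero _ hK
      have hL : CategoryTheory.Limits.IsZero (Q.obj ((DerCA.locCx (Submonoid.powers g)).obj (DerCA.extCech M gs))) := by
        rw [CategoryTheory.Limits.IsZero.iff_id_eq_zero, ← Q.map_id]
        have H2 := (DerCA.locFunctor (Submonoid.powers g)).mapHomotopy H
        rw [CategoryTheory.Functor.map_id, Functor.map_zero] at H2
        rw [HomotopyCategory.eq_of_homotopy _ _ H2, Functor.map_zero]
      exact ⟨⟨0, hK.eq_of_src _ _, hL.eq_of_src _ _⟩⟩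

end Groth.Agent.S9263
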