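import Groth.Statements.S9266
import Mathlib
import Groth.Agent.DCompCechLib.Torsion
import Groth.Agent.S17777
-- import your own Groth.Agent.* helpers here

set_option autoImplicit false
universe u
attribute [local instance] HasDerivedCategory.standard
open CategoryTheory
open DerCA

namespace Groth.Agent.S9266

/-- If some element f of the ideal (f_1, ..., f_r) acts invertibly on the module M, then the extended
alternating Cech complex of M with respect to f_1, ..., f_r has zero cohomology in every degree. -/
theorem result (R : Type u) [CommRing R] (fs : List R)
    (M : ModuleCat.{u} R) (f : R) (hf : f ∈ Ideal.span {a : R | a ∈ fs})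
    (hbij : Function.Bijective (fun m : M => f • m)) (q : ℤ) :
    Limits.IsZero (DerCA.extCechH fs M q) := by
  have hb := Groth.Agent.S17777.bijective_smul (M := M) f
    ((CategoryTheory.ConcreteCategory.isIso_iff_bijective _).2 hbij) fs q
  have hp : ∀ k : ℕ, Function.Injective fun y : (DerCA.extCech M fs).homology q => f ^ k • y := by
    intro k
    induction k with
    | zero => simp only [pow_zero, one_smul]; exact Function.injective_id
    | succ k ih => simp only [pow_succ, mul_smul]; exact ih.comp hb.1
  haveI : Subsingleton (DerCA.extCechH fs M q) := subsingleton_of_forall_eq 0 fun x => by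
    obtain ⟨k, hk⟩ := DCompCechLib.exists_pow_smul_eq_zero_of_mem M fs q x hf
    exact hp k (hk.trans (smul_zero _).symm)
  exact ModuleCat.isZero_of_subsingleton _

end Groth.Agent.S9266
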