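import Groth.Statements.S9268
import Groth.Agent.JacFSLib.Adic
import Mathlib.RingTheory.Smooth.Locus
-- import your own Groth.Agent.* helpers here

set_option autoImplicit false
universe u
open CAlg

namespace Groth.Agent.S9268

/-- Suppose A is a Noetherian ring and B is a finitely generated A-algebra, and consider a prime q of B
lying over p in A. Then A → B is smooth at q (meaning some g not in q makes A → B_g smooth) exactly
when the induced map A_p → B_q is formally smooth with respect to the adic topology defined by the
maximal ideal of B_q. -/
theorem result (A B : Type u) [CommRing A] [IsNoetherianRing A]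
    [CommRing B] [Algebra A B] [Algebra.FiniteType A B] (q : Ideal B) [q.IsPrime] :
    (∃ g : B, g ∉ q ∧ Algebra.Smooth A (Localization.Away g)) ↔
      letI := (Localization.localRingHom (Ideal.comap (algebraMap A B) q) q (algebraMap A B) rfl).toAlgebra
      CAlgX.IsAdicFormallySmooth (Localization.AtPrime (Ideal.comap (algebraMap A B) q))
        (Localization.AtPrime q) (IsLocalRing.maximalIdeal (Localization.AtPrime q)) := by
  let p := Ideal.comap (algebraMap A B) q
  letI := (Localization.localRingHom p q (algebraMap A B) rfl).toAlgebra
  haveI : IsScalarTower A (Localization.AtPrime p) (Localization.AtPrime q) :=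
    .of_algebraMap_eq fun x ↦ (IsScalarTower.algebraMap_apply A B (Localization.AtPrime q) x).trans
      (Localization.localRingHom_to_map _ q (algebraMap A B) rfl x).symm
  haveI : Algebra.FinitePresentation A B := Algebra.FinitePresentation.of_finiteType.1 inferInstance
  constructor
  · rintro ⟨g, hg, hs⟩
    have h1 : Algebra.FormallySmooth A (Localization.AtPrime q) :=
      Algebra.basicOpen_subset_smoothLocus_iff_smooth.2 hs (show (⟨q, inferInstance⟩ : PrimeSpectrum B) ∈ _ from hg)
    haveI : Algebra.FormallySmooth (Localization.AtPrime p) (Localization.AtPrime q) :=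
      haveI := h1
      Algebra.FormallySmooth.localization_base p.primeCompl
    intro C _ _ J hJ ψ _
    exact ⟨Algebra.FormallySmooth.lift J ⟨2, hJ⟩ ψ, Algebra.FormallySmooth.comp_lift J ⟨2, hJ⟩ ψ⟩
  · intro h
    haveI : IsNoetherianRing (Localization.AtPrime p) := IsLocalization.isNoetherianRing p.primeCompl _ inferInstance
    haveI : Algebra.EssFiniteType A (Localization.AtPrime q) :=
      haveI : Algebra.EssFiniteType B (Localization.AtPrime q) := Algebra.EssFiniteType.of_isLocalization _ q.primeCompl
      Algebra.EssFiniteType.comp A B _
    haveI : Algebra.EssFiniteType (Localization.AtPrime p) (Localization.AtPrime q) := Algebra.EssFiniteType.of_comp A _ _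
    haveI := JacFSLib.formallySmooth_of_adic_essFiniteType h
    haveI : Algebra.FormallySmooth A (Localization.AtPrime p) := Algebra.FormallySmooth.of_isLocalization p.primeCompl
    haveI : Algebra.IsSmoothAt A q := Algebra.FormallySmooth.comp A (Localization.AtPrime p) (Localization.AtPrime q)
    obtain ⟨g, hg, hs⟩ := Algebra.IsSmoothAt.exists_notMem_smooth A q
    exact ⟨g, hg, hs⟩

end Groth.Agent.S9268
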