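import Groth.Statements.S9276
import Groth.Agent.HensGRingLib.Main
import Groth.Agent.PairHensNoethLib.Basic
import Groth.Agent.HenselLib.HenselizationExists
import Groth.Agent.S2047

set_option autoImplicit false
set_option linter.style.haveILetI false
set_option maxHeartbeats 800000
universe u
open CAlg

namespace Groth.Agent.S9276

/-- Let A be a G-ring, I an ideal of A and B the henselization of the pair (A, I). Then B is a G-ring. -/
theorem result (A : Type u) [CommRing A] (hA : CAlg.IsGRing A) (I : Ideal A)
    (B : Type u) [CommRing B] [Algebra A B] (hB : Hens2.IsPairHenselization A I B) :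
    CAlg.IsGRing B := by
  haveI := hA.1
  haveI := PairHensNoethLib.isNoetherianRing_henselization hB
  haveI hpair := hB.1
  refine (Groth.Agent.S2047.result (R := B)).2 fun M _ => ?_
  have hIM : I.map (algebraMap A B) ≤ M :=
    (HenselianRing.jac (R := B) (I := I.map (algebraMap A B))).trans (sInf_le ⟨bot_le, inferInstance⟩)
  have hq := PairHensLib.quotientMap_bijective hB 1
  rw [pow_one] at hq
  have hdec : ∀ b : B, ∃ a : A, b - algebraMap A B a ∈ I.map (algebraMap A B) :=
    PairHensLib.exists_sub_algebraMap_mem hq.2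
  let m := M.comap (algebraMap A B)
  haveI : m.IsMaximal := by
    have hs : Function.Surjective ((Ideal.Quotient.mk M).comp (algebraMap A B)) := fun z => by
      obtain ⟨b, rfl⟩ := Ideal.Quotient.mk_surjective z
      obtain ⟨a, ha⟩ := hdec b
      exact ⟨a, (Ideal.Quotient.eq.2 (hIM ha)).symm⟩
    letI : Field (B ⧸ M) := Ideal.Quotient.field M
    have := RingHom.ker_isMaximal_of_surjective _ hs
    rwa [← RingHom.comap_ker, Ideal.mk_ker] at this
  let Am := Localization.AtPrime m
  let S := HenselLib.HR Am
  haveI hSH : Hensel.IsHenselization Am S := inferInstance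
  haveI := hSH.henselian
  have hIS : I.map ((algebraMap Am S).comp (algebraMap A Am)) ≤ IsLocalRing.maximalIdeal S :=
    Ideal.map_le_iff_le_comap.2 fun a ha => by
      have h1 : algebraMap A Am a ∈ IsLocalRing.maximalIdeal Am :=
        (IsLocalization.AtPrime.to_map_mem_maximal_iff Am m a).2 (hIM (Ideal.mem_map_of_mem _ ha))
      exact map_nonunit (algebraMap Am S) _ h1
  obtain ⟨g, hg, -⟩ := hB.2 S (IsLocalRing.maximalIdeal S) ((algebraMap Am S).comp (algebraMap A Am))
    inferInstance hIS
  have hgM : ∀ b : B, b ∈ M ↔ g b ∈ IsLocalRing.maximalIdeal S := fun b => by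
    obtain ⟨a, ha⟩ := hdec b
    have hga : g b - g (algebraMap A B a) ∈ IsLocalRing.maximalIdeal S := by
      rw [← map_sub]
      have h1 := Ideal.mem_map_of_mem g ha
      rw [Ideal.map_map, hg] at h1
      exact hIS h1
    rw [show b ∈ M ↔ algebraMap A B a ∈ M from ⟨fun h => by simpa using sub_mem h (hIM ha),
        fun h => by simpa using add_mem (hIM ha) h⟩,
      show g b ∈ IsLocalRing.maximalIdeal S ↔ g (algebraMap A B a) ∈ IsLocalRing.maximalIdeal S from
        ⟨fun h => by simpa using sub_mem h hga, fun h => by simpa using add_mem hga h⟩,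
      show g (algebraMap A B a) = algebraMap Am S (algebraMap A Am a) from RingHom.congr_fun hg a,
      IsLocalRing.mem_maximalIdeal (R := S), mem_nonunits_iff, isUnit_map_iff]
    exact (IsLocalization.AtPrime.to_map_mem_maximal_iff Am m a).symm
  let Bm := Localization.AtPrime M
  let φ : Bm →+* S := IsLocalization.lift (M := M.primeCompl) (g := g) fun y =>
    IsLocalRing.notMem_maximalIdeal.1 fun h => y.2 ((hgM _).2 h)
  have hφ : ∀ b, φ (algebraMap B Bm b) = g b := fun b => IsLocalization.lift_eq _ _
  letI : Algebra Bm S := φ.toAlgebra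
  have hloc : IsLocalHom φ := ⟨fun x hx => by
    obtain ⟨⟨b, s⟩, hbs⟩ := IsLocalization.surj M.primeCompl x
    have hgb : IsUnit (g b) := by
      have h := congrArg φ hbs
      rw [map_mul, hφ, hφ] at h
      exact h ▸ hx.mul (IsLocalRing.notMem_maximalIdeal.1 fun h' => s.2 ((hgM _).2 h'))
    have hb : IsUnit (algebraMap B Bm b) := (IsLocalization.AtPrime.isUnit_to_map_iff Bm M b).2 fun hb =>
      (IsLocalRing.mem_maximalIdeal _).1 ((hgM b).1 hb) hgb
    rw [← hbs] at hb
    exact isUnit_of_mul_isUnit_left hb⟩
  haveI : IsLocalHom (algebraMap Bm S) := hloc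
  haveI : Hensel.IsHenselization Bm S := by
    refine ⟨inferInstance, fun T _ _ h hh => ?_⟩
    haveI := hh
    let hA' : A →+* T := (h.comp (algebraMap B Bm)).comp (algebraMap A B)
    let hm' : Am →+* T := IsLocalization.lift (M := m.primeCompl) (g := hA') fun y =>
      ((IsLocalization.AtPrime.isUnit_to_map_iff Bm M _).2 fun h' => y.2 h').map h
    have hm'' : ∀ a, hm' (algebraMap A Am a) = hA' a := fun a => IsLocalization.lift_eq _ _
    have hloc' : IsLocalHom hm' := ⟨fun x hx => by
      obtain ⟨⟨a, s⟩, hbs⟩ := IsLocalization.surj m.primeCompl x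
      have h2 : IsUnit (hA' a) := by
        have h := congrArg hm' hbs
        rw [map_mul, hm'', hm''] at h
        exact h ▸ hx.mul ((hm'' s) ▸ (IsLocalization.map_units Am s).map hm')
      have ha : a ∉ m := fun ha => by
        have hu : IsUnit (algebraMap B Bm (algebraMap A B a)) := isUnit_of_map_unit h _ h2
        exact (IsLocalization.AtPrime.isUnit_to_map_iff Bm M _).1 hu ha
      have hu := (IsLocalization.AtPrime.isUnit_to_map_iff Am m a).2 ha
      rw [← hbs] at hu
      exact isUnit_of_mul_isUnit_left hu⟩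
    obtain ⟨k, hk, huniq⟩ := hSH.universal T hm' hloc'
    have hIT : I.map hA' ≤ IsLocalRing.maximalIdeal T := Ideal.map_le_iff_le_comap.2 fun a ha => by
      exact map_nonunit h _ ((IsLocalization.AtPrime.to_map_mem_maximal_iff Bm M _).2 (hIM (Ideal.mem_map_of_mem _ ha)))
    have hkg : k.comp g = h.comp (algebraMap B Bm) :=
      (hB.2 T (IsLocalRing.maximalIdeal T) hA' inferInstance hIT).unique
        (by rw [RingHom.comp_assoc, hg, ← RingHom.comp_assoc, hk]; exact RingHom.ext hm'') rfl
    refine ⟨k, IsLocalization.ringHom_ext M.primeCompl (RingHom.ext fun b => ?_), fun k' (hk' : k'.comp φ = h) => huniq k' ?_⟩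
    · show k (φ (algebraMap B Bm b)) = h (algebraMap B Bm b)
      rw [hφ]; exact RingHom.congr_fun hkg b
    · refine IsLocalization.ringHom_ext m.primeCompl (RingHom.ext fun a => ?_)
      show k' (algebraMap Am S (algebraMap A Am a)) = hm' (algebraMap A Am a)
      rw [hm'', ← RingHom.comp_apply (algebraMap Am S), ← hg, RingHom.comp_apply, ← hφ, ← RingHom.comp_apply k', hk']
      rfl
  have hreg : CAlg.IsRegularHom S (EGA4.Cpl S) :=
    (HensGRingLib.isRegularHom_cpl_henselization_iff Am S).2 (hA.2 m)
  exact (HensGRingLib.isRegularHom_cpl_henselization_iff Bm S).1 hreg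

end Groth.Agent.S9276
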