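import Groth.Statements.S9277
import Mathlib.LinearAlgebra.Matrix.Adjugate
-- import your own Groth.Agent.* helpers here

set_option autoImplicit false
universe u
open CAlgX

namespace Groth.Agent.S9277

open Matrix in
private lemma minor_eq_zero_of_not_injective {R : Type u} [CommRing R] {m n r : ℕ} (M : Matrix (Fin n) (Fin m) R)
    (f : Fin r → Fin n) (g : Fin r → Fin m) (hg : ¬ Function.Injective g) : (M.submatrix f g).det = 0 := by
  simp only [Function.Injective, not_forall] at hg
  obtain ⟨i, j, hij, hne⟩ := hg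
  exact Matrix.det_zero_of_column_eq hne fun k => by simp [hij]

open Matrix in
private lemma injective_of_annihilator {R : Type u} [CommRing R] {m n : ℕ} (M : Matrix (Fin n) (Fin m) R)
    (h : (CAlgX.minorIdeal M m).annihilator = ⊥) : Function.Injective (Matrix.mulVecLin M) := by
  rw [injective_iff_map_eq_zero]
  intro v hv
  rw [Matrix.mulVecLin_apply] at hv
  funext i
  have : v i ∈ (CAlgX.minorIdeal M m).annihilator := by
    rw [CAlgX.minorIdeal, Ideal.span, Submodule.mem_annihilator_span]
    rintro ⟨_, ⟨f, g⟩, rfl⟩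
    show v i • (M.submatrix f g).det = 0
    by_cases hg : Function.Injective g
    · obtain ⟨e, rfl⟩ : ∃ e : Equiv.Perm (Fin m), ⇑e = g :=
        ⟨Equiv.ofBijective g (Finite.injective_iff_bijective.1 hg), rfl⟩
      rw [show M.submatrix f e = (M.submatrix f id).submatrix id e from rfl, Matrix.det_permute']
      have h0 : (M.submatrix f id).det • v = 0 := by
        have e0 : M.submatrix f id *ᵥ v = 0 := by
          funext k
          exact congrFun hv (f k)
        have := congrArg ((M.submatrix f id).adjugate *ᵥ ·) e0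
        simpa [Matrix.mulVec_mulVec, Matrix.adjugate_mul, Matrix.smul_mulVec] using this
      have := congrFun h0 i
      simp only [Pi.smul_apply, smul_eq_mul, Pi.zero_apply] at this ⊢
      rw [mul_left_comm, mul_comm (v i), this, mul_zero]
    · rw [minor_eq_zero_of_not_injective M f g hg, smul_zero]
  rw [h] at this
  exact this

open Matrix in
private lemma annihilator_of_injective {R : Type u} [CommRing R] {m n : ℕ} (M : Matrix (Fin n) (Fin m) R)
    (h : Function.Injective (Matrix.mulVecLin M)) : (CAlgX.minorIdeal M m).annihilator = ⊥ := by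
  classical
  rw [Submodule.eq_bot_iff]
  intro a ha
  rw [CAlgX.minorIdeal, Ideal.span, Submodule.mem_annihilator_span] at ha
  by_contra ha0
  let P : ℕ → Prop := fun r => ∃ (f : Fin r → Fin n) (g : Fin r → Fin m), a * (M.submatrix f g).det ≠ 0
  have hP0 : P 0 := ⟨finZeroElim, finZeroElim, by simpa using ha0⟩
  have hm : ¬ P m := by
    rintro ⟨f, g, hfg⟩
    exact hfg (ha ⟨_, ⟨(f, g), rfl⟩⟩)
  obtain ⟨r, hr, hrP⟩ : ∃ r, P r ∧ (¬ P (r + 1)) ∧ r < m := by
    have hex : ∃ r, ¬ P r := ⟨m, hm⟩
    have h0 : Nat.find hex ≠ 0 := fun h => (h ▸ Nat.find_spec hex) hP0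
    have hle : Nat.find hex ≤ m := Nat.find_le hm
    refine ⟨Nat.find hex - 1, not_not.1 (Nat.find_min hex (by omega)), ?_, by omega⟩
    rw [Nat.sub_add_cancel (by omega)]
    exact Nat.find_spec hex
  obtain ⟨hrP, hrm⟩ := hrP
  obtain ⟨f, g, hfg⟩ := hr
  obtain ⟨c, hc⟩ : ∃ c, c ∉ Set.range g := by
    by_contra! hs
    have := Fintype.card_le_of_surjective g hs
    simp at this
    omega
  let g' : Fin (r + 1) → Fin m := Fin.cons c g
  let C : Fin (r + 1) → R := fun j => (-1) ^ (j : ℕ) * (M.submatrix f (g' ∘ j.succAbove)).det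
  let v : Fin m → R := ∑ j, (a * C j) • Pi.single (g' j) 1
  have hv : M *ᵥ v = 0 := by
    funext i
    have e : a * (M.submatrix (Fin.cons i f) g').det = 0 := by
      by_contra hne
      exact hrP ⟨_, _, hne⟩
    rw [Matrix.det_succ_row_zero, Finset.mul_sum] at e
    refine Eq.trans ?_ e
    simp only [v, Matrix.mulVec, dotProduct, Finset.sum_apply, Finset.mul_sum]
    rw [Finset.sum_comm]
    refine Finset.sum_congr rfl fun j _ => ?_
    rw [Finset.sum_eq_single (g' j) (fun b _ hb => by simp [hb]) (by simp)]
    have es : (M.submatrix (Fin.cons i f) g').submatrix Fin.succ j.succAbove = M.submatrix f (g' ∘ j.succAbove) := by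
      ext p q; simp
    rw [es]
    simp [C]
    ring
  have hv0 : v = 0 := h (by rw [map_zero, Matrix.mulVecLin_apply, hv])
  have hvc := congrFun hv0 c
  simp only [v, Finset.sum_apply, Pi.zero_apply] at hvc
  rw [Finset.sum_eq_single 0 (fun b _ hb => ?_) (by simp)] at hvc
  · apply hfg
    have : g' ∘ (0 : Fin (r + 1)).succAbove = g := by
      funext p; simp [g']
    simpa [g', C, this] using hvc
  · obtain ⟨p, rfl⟩ := Fin.exists_succ_eq.2 hb
    have : c ≠ g p := fun e => hc ⟨p, e.symm⟩
    simp [g', this]

/-- Let R be a local ring and φ : R^m → R^n a map of finite free modules with matrix M. Then φ is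
injective if and only if the rank of M is m and the annihilator of the determinantal ideal I(M)
(generated by the minors of size the rank) is zero. -/
theorem result (R : Type u) [CommRing R] [IsLocalRing R]
    (m n : ℕ) (M : Matrix (Fin n) (Fin m) R) :
    Function.Injective (Matrix.mulVecLin M) ↔
      CAlgX.matrixRank M = m ∧ (CAlgX.detIdeal M).annihilator = ⊥ := by
  classical
  have key : Function.Injective (Matrix.mulVecLin M) ↔ (CAlgX.minorIdeal M m).annihilator = ⊥ :=
    ⟨annihilator_of_injective M, injective_of_annihilator M⟩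
  have hbd : ∀ r ∈ {r : ℕ | CAlgX.minorIdeal M r ≠ ⊥}, r ≤ m := by
    intro r hr
    by_contra hlt
    apply hr
    rw [CAlgX.minorIdeal, Ideal.span_eq_bot]
    rintro _ ⟨⟨f, g⟩, rfl⟩
    refine minor_eq_zero_of_not_injective M f g fun hg => ?_
    have := Fintype.card_le_of_injective g hg
    simp at this
    omega
  rw [key, CAlgX.detIdeal]
  constructor
  · intro h
    have hmem : m ∈ {r : ℕ | CAlgX.minorIdeal M r ≠ ⊥} := by
      intro h0
      rw [h0, Submodule.annihilator_bot] at h
      exact top_ne_bot h
    have : CAlgX.matrixRank M = m :=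
      le_antisymm (csSup_le ⟨m, hmem⟩ hbd) (le_csSup ⟨m, hbd⟩ hmem)
    exact ⟨this, by rw [this]; exact h⟩
  · rintro ⟨hr, ha⟩
    rwa [hr] at ha

end Groth.Agent.S9277
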