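import Groth.Statements.S9278
import Mathlib.RingTheory.Ideal.AssociatedPrime.Finiteness
import Groth.Agent.S9277


-- import your own Groth.Agent.* helpers here

set_option autoImplicit false
universe u
open CAlgX

namespace Groth.Agent.S9278

/-- Let R be a Noetherian local ring and φ : R^m → R^n a map of finite free modules with matrix M. Then
φ is injective if and only if the rank of M is m and the determinantal ideal I(M) is the unit ideal
or contains a nonzerodivisor. -/
theorem result (R : Type u) [CommRing R]
    [IsLocalRing R] [IsNoetherianRing R] (m n : ℕ) (M : Matrix (Fin n) (Fin m) R) :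
    Function.Injective (Matrix.mulVecLin M) ↔
      CAlgX.matrixRank M = m ∧ (CAlgX.detIdeal M = ⊤ ∨ ∃ a ∈ CAlgX.detIdeal M, IsRegular a) := by
  rw [Groth.Agent.S9277.result R m n M]
  refine and_congr_right fun _ => ⟨fun h => Or.inr ?_, ?_⟩
  · by_contra! hc
    have hd : Disjoint ((CAlgX.detIdeal M : Ideal R) : Set R) (nonZeroDivisors R) :=
      Set.disjoint_left.2 fun a ha hb => hc a ha (isRegular_iff_mem_nonZeroDivisors.2 hb)
    have := Ideal.bot_lt_annihilator_of_disjoint_nonZeroDivisors hd
    exact this.ne' h
  · rintro (h | ⟨a, ha, hr⟩)
    · rw [h, Submodule.eq_bot_iff]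
      intro x hx
      simpa using (Submodule.mem_annihilator.1 hx) (1 : R) trivial
    · rw [Submodule.eq_bot_iff]
      intro x hx
      have := (Submodule.mem_annihilator.1 hx) a ha
      exact hr.right (by simpa [mul_comm] using this)

end Groth.Agent.S9278
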