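import Groth.Statements.S9280
import Groth.Agent.S2617

set_option autoImplicit false
universe u
open EGA4
set_option maxHeartbeats 1600000

namespace Groth.Agent.S9280

theorem exists_open_regLocus_of_isN2 (B A' : Type u) [CommRing B] [IsDomain B] [IsNoetherianRing B]
    [CommRing A'] [IsDomain A'] [Algebra B A'] [Module.Finite B A']
    (hinj : Function.Injective (algebraMap B A')) (hN2 : CAlg.IsN2 B) (hd : Ring.KrullDimLE 1 B) :
    ∃ U : Set (PrimeSpectrum A'), IsOpen U ∧ U.Nonempty ∧ U ⊆ EGA4.regLocus A' := by
  haveI : Ring.DimensionLEOne B :=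
    ⟨fun {P} hP hPp => (Ring.krullDimLE_one_iff.1 hd P hPp).resolve_left fun h => hP
      (by rwa [IsDomain.minimalPrimes_eq_singleton_bot, Set.mem_singleton_iff] at h)⟩
  haveI : FaithfulSMul B A' := (faithfulSMul_iff_algebraMap_injective B A').2 hinj
  let K := FractionRing B
  let L := FractionRing A'
  haveI : FaithfulSMul B L := (faithfulSMul_iff_algebraMap_injective B L).2 (by
    rw [IsScalarTower.algebraMap_eq B A' L]
    exact (IsFractionRing.injective A' L).comp hinj)
  letI : Algebra K L := FractionRing.liftAlgebra B L
  haveI : FiniteDimensional K L := Module.Finite.of_isLocalization B A' (nonZeroDivisors B)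
  haveI : Module.Finite B (integralClosure B L) := hN2 L inferInstance
  let φ : A' →ₐ[B] integralClosure B L := (IsScalarTower.toAlgHom B A' L).codRestrict _ fun x =>
    (Algebra.IsIntegral.isIntegral x).algebraMap
  letI : Algebra A' (integralClosure B L) := φ.toRingHom.toAlgebra
  haveI : IsScalarTower B A' (integralClosure B L) :=
    IsScalarTower.of_algebraMap_eq fun x => (φ.commutes x).symm
  haveI : Module.Finite A' (integralClosure B L) :=
    Module.Finite.of_restrictScalars_finite B A' _
  haveI : IsIntegrallyClosed (integralClosure B L) :=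
    integralClosure.isIntegrallyClosedOfFiniteExtension K
  haveI : IsNoetherianRing (integralClosure B L) := IsNoetherianRing.of_finite B _
  haveI : IsDedekindRing (integralClosure B L) := { }
  haveI : IsDedekindDomain (integralClosure B L) := { }
  haveI hreg : IsRegularRing (integralClosure B L) := isRegularRing_iff.2 fun P hP => by
    rcases eq_or_ne P ⊥ with rfl | hne
    · letI : Field (Localization.AtPrime (⊥ : Ideal (integralClosure B L))) := by
        refine IsField.toField ((IsLocalRing.isField_iff_maximalIdeal_eq).2 ?_)
        rw [← Localization.AtPrime.map_eq_maximalIdeal]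
        exact Ideal.map_bot
      infer_instance
    · haveI := IsLocalization.AtPrime.isDiscreteValuationRing_of_dedekind_domain
        (integralClosure B L) hne (Localization.AtPrime P)
      infer_instance
  haveI : IsNoetherianRing A' := IsNoetherianRing.of_finite B A'
  exact J2Lib.exists_open_regLocus_of_finite A' (integralClosure B L)
    (fun x y h => IsFractionRing.injective A' L (congrArg Subtype.val h))
    ⟨Set.univ, isOpen_univ, ⟨⟨⊥, Ideal.isPrime_bot⟩, trivial⟩,
      fun p _ => isRegularRing_iff.1 hreg p.asIdeal⟩


/-- A Nagata ring of dimension 1 is J-2, that is, every finite type algebra over it has open regular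
locus. -/
theorem result (R : Type u) [CommRing R] (hR : CAlg.IsNagata R)
    (hdim : ringKrullDim R = 1) : EGA4.IsJ2 R := by
  obtain ⟨hN, hN2⟩ := hR
  haveI := hN
  refine (Groth.Agent.S2617.result R).2 fun A' _ _ _ hfin => ?_
  haveI := hfin
  let p := RingHom.ker (algebraMap R A')
  haveI : p.IsPrime := RingHom.ker_isPrime _
  letI : Algebra (R ⧸ p) A' := (RingHom.kerLift (algebraMap R A')).toAlgebra
  haveI : IsScalarTower R (R ⧸ p) A' := IsScalarTower.of_algebraMap_eq fun _ => rfl
  haveI : Module.Finite (R ⧸ p) A' := Module.Finite.of_restrictScalars_finite R (R ⧸ p) A'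
  have hinj : Function.Injective (algebraMap (R ⧸ p) A') :=
    RingHom.kerLift_injective (algebraMap R A')
  have hd : Ring.KrullDimLE 1 (R ⧸ p) := (Ring.krullDimLE_iff).2 (by
    exact le_trans (ringKrullDim_quotient_le p) (le_of_eq hdim))
  exact exists_open_regLocus_of_isN2 (R ⧸ p) A' hinj (hN2 p) hd

end Groth.Agent.S9280
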