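import Groth.Statements.S9282
import Groth.Agent.AdicFSLib.CotangentInj
import Groth.Agent.AdicFSLib.Criterion
-- import your own Groth.Agent.* helpers here

set_option autoImplicit false
universe u
open CAlg

namespace Groth.Agent.S9282

/-- Let A → B be a local ring map between Noetherian local rings that is formally smooth for the adic
topology of the maximal ideal of B, and write K for the residue field of B. In the Jacobi–Zariski
sequence attached to A → B → K, the map from H_1(NL_{K/A}) to H_1(NL_{K/B}), which is m_B/m_B^2, is
injective; the remaining terms are exact in general, so that sequence starts with a zero. -/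
theorem result (A B : Type u) [CommRing A]
    [CommRing B] [IsLocalRing A] [IsLocalRing B] [IsNoetherianRing A] [IsNoetherianRing B]
    [Algebra A B] [IsLocalHom (algebraMap A B)]
    (hfs : CAlgX.IsAdicFormallySmooth A B (IsLocalRing.maximalIdeal B)) :
    Function.Injective
      (Algebra.H1Cotangent.map A B (IsLocalRing.ResidueField B) (IsLocalRing.ResidueField B)) := by
  classical
  let π : MvPolynomial B A →ₐ[A] B := MvPolynomial.aeval fun b => b
  have hπ : Function.Surjective π := fun b => ⟨MvPolynomial.X b, MvPolynomial.aeval_X _ _⟩
  let q : MvPolynomial B A →ₐ[A] IsLocalRing.ResidueField B :=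
    (IsScalarTower.toAlgHom A B (IsLocalRing.ResidueField B)).comp π
  have hq : Function.Surjective q := IsLocalRing.residue_surjective.comp hπ
  let E : Algebra.Extension.{u} A (IsLocalRing.ResidueField B) := Algebra.Extension.ofSurjective q hq
  let f : E.Hom (AdicFSLib.residueExtension B) := ⟨π.toRingHom, fun a => π.commutes a, fun p => rfl⟩
  let g : E.Hom (Algebra.Generators.self A (IsLocalRing.ResidueField B)).toExtension :=
    Algebra.Extension.Hom.ofAlgHom (MvPolynomial.aeval fun b => MvPolynomial.X (IsLocalRing.residue B b))
      (MvPolynomial.algHom_ext fun b => by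
        show MvPolynomial.aeval (R := A) (fun k : IsLocalRing.ResidueField B => k)
            (MvPolynomial.aeval (fun b => MvPolynomial.X (IsLocalRing.residue B b)) (MvPolynomial.X b)) =
          algebraMap _ _ (q (MvPolynomial.X b))
        simp [q, π]
        all_goals erw [MvPolynomial.aeval_X, MvPolynomial.aeval_X])
  let h : (AdicFSLib.residueExtension B).Hom (Algebra.Generators.self B (IsLocalRing.ResidueField B)).toExtension :=
    ⟨MvPolynomial.C, fun b => rfl, fun b => MvPolynomial.aeval_C _ b⟩
  let g' := Algebra.Extension.defaultHom A _ E
  let h' := Algebra.Extension.defaultHom B _ (AdicFSLib.residueExtension B)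
  have hg' : Function.Injective (Algebra.Extension.H1Cotangent.map g') := by
    refine Function.LeftInverse.injective (g := Algebra.Extension.H1Cotangent.map g) fun x => ?_
    rw [← Algebra.Extension.H1Cotangent.map_comp_apply,
      Algebra.Extension.H1Cotangent.map_eq _ (.id _), Algebra.Extension.H1Cotangent.map_id]
    rfl
  have hh : Function.Injective (Algebra.Extension.H1Cotangent.map h) := by
    refine Function.LeftInverse.injective (g := Algebra.Extension.H1Cotangent.map h') fun x => ?_
    rw [← Algebra.Extension.H1Cotangent.map_comp_apply,
      Algebra.Extension.H1Cotangent.map_eq _ (.id _), Algebra.Extension.H1Cotangent.map_id]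
    rfl
  have hf : Function.Injective (Algebra.Extension.H1Cotangent.map f) :=
    AdicFSLib.injective_h1Cotangent_map E π hπ (fun p => rfl) (AdicFSLib.derExt_of_adicFS π hπ hfs) f fun p => rfl
  intro x y hxy
  refine hg' (hf (hh ?_))
  simp only [← Algebra.Extension.H1Cotangent.map_comp_apply]
  rw [Algebra.Extension.H1Cotangent.map_eq _ (Algebra.Generators.defaultHom _ _).toExtensionHom]
  exact hxy

end Groth.Agent.S9282
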