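import Groth.Statements.S9283
import Mathlib.RingTheory.Finiteness.Basic
import Mathlib.RingTheory.LocalRing.MaximalIdeal.Basic
import Mathlib.RingTheory.Ideal.Maps
-- import your own Groth.Agent.* helpers here

set_option autoImplicit false
universe u
open CAlg

namespace Groth.Agent.S9283

/-- Let R be an auto-associated ring, that is, a local ring whose maximal ideal is weakly associated to
R: some nonzero x ∈ R is killed by a power of every element of the maximal ideal. Then every proper
finitely generated ideal of R has a nonzero annihilator. -/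
theorem result (R : Type u) [CommRing R] [IsLocalRing R]
    (h : ∃ x : R, x ≠ 0 ∧ ∀ f ∈ IsLocalRing.maximalIdeal R, ∃ n : ℕ, f ^ n * x = 0)
    (I : Ideal R) (hI : I.FG) (hI' : I ≠ ⊤) : I.annihilator ≠ ⊥ := by
  classical
  obtain ⟨x, hx0, hx⟩ := h
  obtain ⟨t, ht⟩ := hI
  have key : ∀ u : Finset R, (∀ f ∈ u, f ∈ IsLocalRing.maximalIdeal R) →
      ∃ c : R, c * x ≠ 0 ∧ ∀ f ∈ u, f * (c * x) = 0 := by
    intro u
    induction u using Finset.induction_on with
    | empty => exact fun _ => ⟨1, by simpa using hx0, by simp⟩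
    | insert a u _ ih =>
      intro hu
      obtain ⟨c, hc, hcu⟩ := ih fun f hf => hu f (Finset.mem_insert_of_mem hf)
      obtain ⟨n, hn⟩ := hx a (hu a (Finset.mem_insert_self a u))
      have hex : ∃ k, a ^ k * (c * x) = 0 := ⟨n, by rw [mul_left_comm, hn, mul_zero]⟩
      obtain ⟨k, hk⟩ : ∃ k, Nat.find hex = k + 1 := by
        refine ⟨Nat.find hex - 1, ?_⟩
        have : Nat.find hex ≠ 0 := fun h0 => hc (by simpa [h0] using Nat.find_spec hex)
        omega
      refine ⟨a ^ k * c, by rw [mul_assoc]; exact Nat.find_min hex (by omega), ?_⟩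
      intro f hf
      rcases Finset.mem_insert.mp hf with rfl | hf
      · rw [← mul_assoc, ← mul_assoc, ← pow_succ', mul_assoc, ← hk]
        exact Nat.find_spec hex
      · rw [mul_assoc, mul_left_comm, hcu f hf, mul_zero]
  obtain ⟨c, hc, hct⟩ := key t fun f hf =>
    IsLocalRing.le_maximalIdeal hI' (ht ▸ Ideal.subset_span hf)
  intro hbot
  refine hc ?_
  have : c * x ∈ I.annihilator := by
    rw [← ht, Submodule.mem_annihilator_span]
    rintro ⟨f, hf⟩
    rw [smul_eq_mul, mul_comm]
    exact hct f hf
  simpa [hbot] using this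

end Groth.Agent.S9283
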