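import Groth.Statements.S9284
import Mathlib


-- import your own Groth.Agent.* helpers here

set_option autoImplicit false
universe u
open CAlgX

namespace Groth.Agent.S9284

/-- Let R be a ring such that every proper finitely generated ideal of R has a nonzero annihilator, and
let u : N → M be an R-linear map between projective R-modules. Then u stays injective after
tensoring with every R-module exactly when u is injective. -/
theorem result (R : Type u) [CommRing R]
    (hP : (∀ I : Ideal R, I.FG → I ≠ ⊤ → I.annihilator ≠ ⊥))
    (N M : Type u) [AddCommGroup N] [Module R N] [Module.Projective R N] [AddCommGroup M]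
    [Module R M] [Module.Projective R M] (u : N →ₗ[R] M) :
    CAlgX.UniversallyInjective R u ↔ Function.Injective u := by
  classical
  refine ⟨fun h => ?_, fun hu Q _ _ => ?_⟩
  · intro x y hxy
    have hR := h R
    let e := TensorProduct.rid R N
    refine e.symm.injective (hR ?_)
    simp [e, hxy]
  have split : ∀ (n : ℕ) (F : Type u) [AddCommGroup F] [Module R F] [Module.Free R F]
      (v : (Fin n → R) →ₗ[R] F), Function.Injective v →
      ∃ r : F →ₗ[R] (Fin n → R), ∀ x, r (v x) = x := by
    intro n
    induction n with
    | zero => exact fun F _ _ _ v _ => ⟨0, fun x => Subsingleton.elim _ _⟩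
    | succ n ih =>
      intro F _ _ _ v hv
      let b := Module.Free.chooseBasis R F
      let el : Fin (n + 1) → R := Pi.single (Fin.last n) 1
      let w := v el
      let I := Ideal.span ((b.repr w).support.image (b.repr w) : Set R)
      have hI : I = ⊤ := by
        by_contra hI
        obtain ⟨a, ha, ha0⟩ := Submodule.exists_mem_ne_zero_of_ne_bot (hP I ⟨_, rfl⟩ hI)
        rw [Submodule.mem_annihilator] at ha
        have h0 : a • b.repr w = 0 := by
          ext i
          by_cases hi : i ∈ (b.repr w).support
          · simpa using ha (b.repr w i) (Ideal.subset_span (by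
              simp only [Finset.coe_image, Set.mem_image, Finset.mem_coe]; exact ⟨i, hi, rfl⟩))
          · simp [Finsupp.notMem_support_iff.mp hi]
        have h1 : v (a • el) = 0 := b.repr.injective (by rw [map_smul, map_smul, map_zero]; exact h0)
        have h2 := congrFun (hv (h1.trans (map_zero v).symm)) (Fin.last n)
        simp [el] at h2
        exact ha0 h2
      obtain ⟨φ, hφ⟩ : ∃ φ : F →ₗ[R] R, φ w = 1 := by
        have hle : I ≤ (LinearMap.range (Module.Dual.eval R F w) : Submodule R R) := by
          refine Ideal.span_le.mpr fun x hx => ?_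
          simp only [Finset.coe_image, Set.mem_image] at hx
          obtain ⟨i, -, rfl⟩ := hx
          exact ⟨b.coord i, rfl⟩
        obtain ⟨φ, hφ⟩ := hle (hI ▸ Submodule.mem_top : (1 : R) ∈ I)
        exact ⟨φ, hφ⟩
      let ext' : (Fin n → R) →ₗ[R] (Fin (n + 1) → R) :=
        { toFun := fun x => Fin.snoc x 0
          map_add' := fun x y => by
            ext i; refine Fin.lastCases ?_ (fun j => ?_) i <;> simp
          map_smul' := fun c x => by
            ext i; refine Fin.lastCases ?_ (fun j => ?_) i <;> simp }
      let v' : (Fin n → R) →ₗ[R] F := (LinearMap.id - φ.smulRight w).comp (v.comp ext')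
      have hv' : Function.Injective v' := by
        refine (injective_iff_map_eq_zero v').mpr fun x hx => ?_
        have h1 : v (ext' x - φ (v (ext' x)) • el) = 0 := by
          rw [map_sub, map_smul]
          simpa [v', w] using hx
        have h2 := hv (h1.trans (map_zero v).symm)
        ext j
        simpa [ext', el, Fin.ext_iff, Pi.single_apply, (Fin.castSucc_lt_last j).ne] using
          congrFun h2 j.castSucc
      obtain ⟨r', hr'⟩ := ih F v' hv'
      let z' : F →ₗ[R] (Fin n → R) := r'.comp (LinearMap.id - φ.smulRight w)
      refine ⟨ext'.comp z' + (φ - φ.comp (v.comp (ext'.comp z'))).smulRight el, fun x => ?_⟩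
      have hx : x = ext' (Fin.init x) + x (Fin.last n) • el := by
        ext i
        refine Fin.lastCases ?_ (fun j => ?_) i
        · simp [ext', el]
        · simp [ext', el, Fin.init, (Fin.castSucc_lt_last j).ne]
      have hz : z' (v x) = Fin.init x := by
        conv_lhs => rw [hx]
        rw [map_add, map_smul, map_add, map_smul]
        have hw : z' w = 0 := by simp [z', hφ]
        rw [show v el = w from rfl, hw, smul_zero, add_zero]
        exact hr' _
      simp only [LinearMap.add_apply, LinearMap.comp_apply, LinearMap.smulRight_apply,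
        LinearMap.sub_apply, hz]
      have hc : φ (v x) - φ (v (ext' (Fin.init x))) = x (Fin.last n) := by
        nth_rw 1 [hx]
        rw [map_add, map_smul, map_add, map_smul, show v el = w from rfl, hφ]
        simp
      rw [hc]
      exact hx.symm
  obtain ⟨sN, hsN⟩ := (Module.projective_def'.mp ‹Module.Projective R N›)
  obtain ⟨sM, hsM⟩ := (Module.projective_def'.mp ‹Module.Projective R M›)
  let πN := Finsupp.linearCombination R (id : N → N)
  let U : (N →₀ R) →ₗ[R] (M →₀ R) × (N →₀ R) :=
    ((sM.comp u).comp πN).prod (LinearMap.id - sN.comp πN)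
  have hU : Function.Injective U := by
    refine (injective_iff_map_eq_zero U).mpr fun x hx => ?_
    have h1 : sM (u (πN x)) = 0 := congrArg Prod.fst hx
    have h2 : x - sN (πN x) = 0 := congrArg Prod.snd hx
    have h3 : u (πN x) = 0 := by
      have h4 := DFunLike.congr_fun hsM (u (πN x))
      rw [LinearMap.comp_apply, h1, map_zero] at h4
      exact h4.symm
    have h4 : πN x = 0 := hu (h3.trans (map_zero u).symm)
    rwa [h4, map_zero, sub_zero] at h2
  refine (injective_iff_map_eq_zero _).mpr fun t ht => ?_
  obtain ⟨S, hS⟩ := TensorProduct.exists_finset (sN.rTensor Q t)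
  let T := S.biUnion fun p => p.1.support
  let c : Fin T.card → N := fun i => (T.equivFin.symm i).1
  let e : (Fin T.card → R) →ₗ[R] (N →₀ R) :=
    Fintype.linearCombination R fun i => Finsupp.single (c i) 1
  have hev : ∀ g i, e g (c i) = g i := by
    intro g i
    rw [Fintype.linearCombination_apply, Finsupp.finsetSum_apply, Finset.sum_eq_single i]
    · simp
    · intro j _ hj
      have h : c j ≠ c i := fun h => hj (T.equivFin.symm.injective (Subtype.ext h))
      simp [h]
    · simp
  have hsurj : ∀ x : N →₀ R, x.support ⊆ T → ∃ g, e g = x := by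
    intro x hx
    refine ⟨fun i => x (c i), Finsupp.ext fun a => ?_⟩
    by_cases ha : a ∈ T
    · obtain ⟨i, hi⟩ : ∃ i, c i = a := ⟨T.equivFin ⟨a, ha⟩, by simp [c]⟩
      rw [← hi, hev]
    · rw [Finsupp.notMem_support_iff.mp fun h => ha (hx h), Fintype.linearCombination_apply,
        Finsupp.finsetSum_apply, Finset.sum_eq_zero]
      intro i _
      have h : c i ≠ a := fun h => ha (h ▸ (T.equivFin.symm i).2)
      simp [h]
  have hinj : Function.Injective (U.comp e) := hU.comp fun g g' h => funext fun i => by
    rw [← hev g i, h, hev]
  obtain ⟨r, hr⟩ := split T.card _ (U.comp e) hinj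
  have hmem : ∀ p ∈ S, ∃ g, e g = p.1 := fun p hp =>
    hsurj p.1 (Finset.subset_biUnion_of_mem (fun p : (N →₀ R) × Q => p.1.support) hp)
  have hrange : sN.rTensor Q t ∈ LinearMap.range (e.rTensor Q) := by
    rw [hS]
    refine Submodule.sum_mem _ fun p hp => ?_
    obtain ⟨g, hg⟩ := hmem p hp
    exact ⟨g ⊗ₜ p.2, by simp [hg]⟩
  obtain ⟨w, hw⟩ := hrange
  have hUs : U.comp sN = (LinearMap.inl R (M →₀ R) (N →₀ R)).comp (sM.comp u) := by
    refine LinearMap.ext fun x => ?_
    have := DFunLike.congr_fun hsN x
    simp only [LinearMap.comp_apply, LinearMap.id_apply] at this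
    simp [U, πN, this]
  have h0 : (U.comp e).rTensor Q w = 0 := by
    rw [LinearMap.rTensor_comp, LinearMap.comp_apply, hw, ← LinearMap.comp_apply,
      ← LinearMap.rTensor_comp, hUs, ← LinearMap.comp_assoc, LinearMap.rTensor_comp,
      LinearMap.comp_apply, ht, map_zero]
  have hw0 : w = 0 := by
    have h1 := congrArg (r.rTensor Q) h0
    rw [← LinearMap.comp_apply, ← LinearMap.rTensor_comp, show r.comp (U.comp e) = LinearMap.id from
      LinearMap.ext hr, LinearMap.rTensor_id, map_zero] at h1
    exact h1
  have h1 := congrArg (πN.rTensor Q) hw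
  rw [hw0, map_zero, map_zero, ← LinearMap.comp_apply, ← LinearMap.rTensor_comp, hsN,
    LinearMap.rTensor_id] at h1
  exact h1.symm

end Groth.Agent.S9284
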