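import Groth.Statements.S9285
import Mathlib.RingTheory.Finiteness.Basic
import Mathlib.RingTheory.Ideal.Maps
import Mathlib.RingTheory.Ideal.BigOperators
import Mathlib.LinearAlgebra.Finsupp.LinearCombination
-- import your own Groth.Agent.* helpers here

set_option autoImplicit false
universe u
open CAlg

namespace Groth.Agent.S9285

/-- A ring R has the property that every proper finitely generated ideal has a nonzero annihilator if
and only if every injective linear map R → R^n admits a retraction. -/
theorem result (R : Type u) [CommRing R] :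
    (∀ I : Ideal R, I.FG → I ≠ ⊤ → I.annihilator ≠ ⊥) ↔
      ∀ (n : ℕ) (u : R →ₗ[R] (Fin n → R)), Function.Injective u →
        ∃ v : (Fin n → R) →ₗ[R] R, v.comp u = LinearMap.id := by
  classical
  have hu1 : ∀ {n : ℕ} (u : R →ₗ[R] (Fin n → R)) r i, u r i = r * u 1 i := fun u r i => by
    conv_lhs => rw [← mul_one r, ← smul_eq_mul, map_smul]
    rfl
  constructor
  · intro h n u hu
    have hann : (Ideal.span (Set.range (u 1))).annihilator = ⊥ := by
      rw [eq_bot_iff]
      intro r hr
      rw [Submodule.mem_annihilator_span] at hr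
      refine (Submodule.mem_bot R).mpr (hu ?_)
      rw [map_zero]
      funext i
      rw [hu1]
      simpa using hr ⟨_, i, rfl⟩
    have htop : Ideal.span (Set.range (u 1)) = ⊤ := by
      by_contra hne
      exact h _ (Submodule.fg_span (Set.finite_range _)) hne hann
    obtain ⟨c, hc⟩ := Ideal.mem_span_range_iff_exists_fun.mp (htop ▸ Submodule.mem_top : (1 : R) ∈ Ideal.span (Set.range (u 1)))
    refine ⟨∑ i, c i • LinearMap.proj i, LinearMap.ext_ring ?_⟩
    simpa [LinearMap.sum_apply] using hc
  · intro h I hI hne hann
    obtain ⟨n, a, rfl⟩ := Submodule.fg_iff_exists_fin_generating_family.mp hI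
    let u : R →ₗ[R] (Fin n → R) := LinearMap.toSpanSingleton R (Fin n → R) a
    obtain ⟨v, hv⟩ := h n u (by
      rw [← LinearMap.ker_eq_bot, eq_bot_iff]
      intro r hr
      rw [← hann, Submodule.mem_annihilator_span]
      rintro ⟨_, i, rfl⟩
      exact congr_fun (LinearMap.mem_ker.mp hr) i)
    refine hne ((Ideal.eq_top_iff_one _).mpr ?_)
    have h1 : v a = 1 := by simpa [u] using DFunLike.congr_fun hv 1
    have e : v a = ∑ i, a i * v (fun j => if i = j then 1 else 0) := by
      conv_lhs => rw [pi_eq_sum_univ a, map_sum]
      simp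
    rw [← h1, e]
    refine Ideal.sum_mem _ fun i _ => ?_
    exact Ideal.mul_mem_right _ _ (Ideal.subset_span ⟨i, rfl⟩)

end Groth.Agent.S9285
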