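import Groth.Statements.S9286
import Mathlib.Algebra.Module.Projective
import Mathlib.RingTheory.Finiteness.Projective
import Mathlib.RingTheory.Finiteness.Prod
import Mathlib.RingTheory.Finiteness.Basic
import Mathlib.RingTheory.Ideal.Maps
import Mathlib.RingTheory.Ideal.BigOperators
import Mathlib.LinearAlgebra.Finsupp.LinearCombination
import Mathlib.LinearAlgebra.Pi
import Mathlib.RingTheory.Flat.Basic
-- import your own Groth.Agent.* helpers here

set_option autoImplicit false
universe u
open CAlg

namespace Groth.Agent.S9286

/-- Let R be a ring in which every proper finitely generated ideal has a nonzero annihilator. Given an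
injective R-linear map u : N → M, where both N and M are finite and projective over R, the quotient
Coker(u) = M/u(N) is again projective as an R-module. -/
theorem result (R : Type u) [CommRing R]
    (hP : (∀ I : Ideal R, I.FG → I ≠ ⊤ → I.annihilator ≠ ⊥))
    (N M : Type u) [AddCommGroup N] [Module R N] [Module.Finite R N] [Module.Projective R N]
    [AddCommGroup M] [Module R M] [Module.Finite R M] [Module.Projective R M]
    (u : N →ₗ[R] M) (hu : Function.Injective u) :
    Module.Projective R (M ⧸ LinearMap.range u) := by
  classical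
  -- one generator
  have one : ∀ (k : ℕ) (w : R →ₗ[R] (Fin k → R)), Function.Injective w → ∃ v : (Fin k → R) →ₗ[R] R, v.comp w = LinearMap.id := by
    intro k w hw
    have hw1 : ∀ r i, w r i = r * w 1 i := fun r i => by
      conv_lhs => rw [← mul_one r, ← smul_eq_mul, map_smul]
      rfl
    have hann : (Ideal.span (Set.range (w 1))).annihilator = ⊥ := by
      rw [eq_bot_iff]
      intro r hr
      rw [Submodule.mem_annihilator_span] at hr
      refine (Submodule.mem_bot R).mpr (hw ?_)
      rw [map_zero]
      funext i
      rw [hw1]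
      simpa using hr ⟨_, i, rfl⟩
    have htop : Ideal.span (Set.range (w 1)) = ⊤ := by
      by_contra hne
      exact hP _ (Submodule.fg_span (Set.finite_range _)) hne hann
    obtain ⟨c, hc⟩ := Ideal.mem_span_range_iff_exists_fun.mp (htop ▸ Submodule.mem_top : (1 : R) ∈ Ideal.span (Set.range (w 1)))
    refine ⟨∑ i, c i • LinearMap.proj i, LinearMap.ext_ring ?_⟩
    simpa [LinearMap.sum_apply] using hc
  -- free source
  have free : ∀ (n : ℕ) (P : Type u) [AddCommGroup P] [Module R P] [Module.Finite R P] [Module.Projective R P]
      (w : (Fin n → R) →ₗ[R] P), Function.Injective w → ∃ v : P →ₗ[R] (Fin n → R), ∀ z, v (w z) = z := by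
    intro n
    induction n with
    | zero => exact fun P _ _ _ _ w _ => ⟨0, fun z => Subsingleton.elim _ _⟩
    | succ n ih =>
      intro P _ _ _ _ w hw
      obtain ⟨k, p, i, -, hi, hpi⟩ := Module.Finite.exists_comp_eq_id_of_projective R P
      let w₁ : R →ₗ[R] P := w.comp (LinearMap.single R (fun _ : Fin (n + 1) => R) 0)
      have hw₁ : Function.Injective w₁ := hw.comp fun a b hab => by simpa using congrFun hab 0
      obtain ⟨v₁, hv₁⟩ := one k (i.comp w₁) (hi.comp hw₁)
      let q : P →ₗ[R] R := v₁.comp i
      have hq : ∀ r, q (w₁ r) = r := fun r => LinearMap.congr_fun hv₁ r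
      let π : P →ₗ[R] LinearMap.ker q := LinearMap.codRestrict _ (LinearMap.id - w₁.comp q) fun m => by
        simp [hq]
      have hπ : ∀ m, (π m : P) = m - w₁ (q m) := fun m => rfl
      have hπι : π.comp (LinearMap.ker q).subtype = LinearMap.id := LinearMap.ext fun m => Subtype.ext <| by
        simp [hπ, LinearMap.mem_ker.mp m.2]
      haveI : Module.Projective R (LinearMap.ker q) := Module.Projective.of_split (LinearMap.ker q).subtype π hπι
      haveI : Module.Finite R (LinearMap.ker q) := Module.Finite.of_surjective π fun m => ⟨m, LinearMap.congr_fun hπι m⟩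
      let c : (Fin n → R) →ₗ[R] (Fin (n + 1) → R) :=
        { toFun := fun x => Fin.cons 0 x
          map_add' := fun x y => by ext j; refine Fin.cases ?_ (fun j => ?_) j <;> simp
          map_smul' := fun r x => by ext j; refine Fin.cases ?_ (fun j => ?_) j <;> simp }
      obtain ⟨v', hv'⟩ := ih (LinearMap.ker q) (π.comp (w.comp c)) ((injective_iff_map_eq_zero _).mpr fun x hx => by
        have h1 := congrArg Subtype.val hx
        rw [LinearMap.comp_apply, hπ, ZeroMemClass.coe_zero, sub_eq_zero] at h1
        have h2 := hw h1
        funext j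
        have h3 := congrFun h2 j.succ
        simpa [c, w₁, Fin.succ_ne_zero] using h3)
      refine ⟨LinearMap.pi (Fin.cons (q - (q.comp (w.comp c)).comp (v'.comp π))
        (fun j => (LinearMap.proj j).comp (v'.comp π))), fun z => ?_⟩
      have hz : z = LinearMap.single R (fun _ : Fin (n + 1) => R) 0 (z 0) + c (Fin.tail z) := by
        funext j; refine Fin.cases ?_ (fun j => ?_) j <;> simp [c, Fin.tail]
      have hwz : w z = w₁ (z 0) + w (c (Fin.tail z)) := (congrArg w hz).trans (map_add w _ _)
      have hπz : π (w z) = π (w (c (Fin.tail z))) := Subtype.ext <| by simp [hπ, hwz, hq]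
      have hπ0 : ∀ r, π (w₁ r) = 0 := fun r => Subtype.ext <| by simp [hπ, hq]
      funext j
      refine Fin.cases ?_ (fun j => ?_) j
      · have := hv' (Fin.tail z)
        simp only [LinearMap.comp_apply] at this
        simp [this, hwz, hq, hπ0]
      · have := hv' (Fin.tail z)
        simp only [LinearMap.comp_apply] at this
        simp [hπz, this, Fin.tail]
  obtain ⟨n, p, i, -, -, hpi⟩ := Module.Finite.exists_comp_eq_id_of_projective R N
  have hpi' : ∀ x, p (i x) = x := LinearMap.congr_fun hpi
  obtain ⟨v, hv⟩ := free n (M × (Fin n → R)) ((u.comp p).prod (LinearMap.id - i.comp p))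
    ((injective_iff_map_eq_zero _).mpr fun z hz => by
      simp only [LinearMap.prod_apply, Function.prod, Prod.mk_eq_zero, LinearMap.comp_apply, LinearMap.sub_apply, LinearMap.id_apply] at hz
      have h := (injective_iff_map_eq_zero u).mp hu _ hz.1
      simpa [h] using hz.2)
  let r : M →ₗ[R] N := p.comp (v.comp (LinearMap.inl R M (Fin n → R)))
  have hr : ∀ x, r (u x) = x := fun x => by
    have := congrArg p (hv (i x))
    simpa [r, hpi'] using this
  refine Module.Projective.of_split (Submodule.liftQ _ (LinearMap.id - u.comp r) ?_) (LinearMap.range u).mkQ ?_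
  · rintro _ ⟨x, rfl⟩
    simp [hr]
  · refine Submodule.linearMap_qext _ (LinearMap.ext fun m => ?_)
    have : (LinearMap.range u).mkQ (u (r m)) = 0 := (Submodule.Quotient.mk_eq_zero _).mpr ⟨_, rfl⟩
    simp [this]

end Groth.Agent.S9286
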