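import Groth.Statements.S9289
import Groth.Agent.GRingLib.QuasiFinite
-- import your own Groth.Agent.* helpers here

set_option autoImplicit false
universe u
open CAlg

namespace Groth.Agent.S9289

/-- Let R and R' be Noetherian rings with R' of finite type over R and quasi-finite at the prime p' of
R', lying over p. If R_p has geometrically regular formal fibres, so does R'_{p'}; stated as: if the
completion map of R_p is regular, so is that of R'_{p'}. -/
theorem result (R R' : Type u) [CommRing R]
    [CommRing R'] [IsNoetherianRing R] [IsNoetherianRing R'] [Algebra R R'] [Algebra.FiniteType R R']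
    (p' : Ideal R') [p'.IsPrime] [Algebra.QuasiFiniteAt R p']
    (h : CAlg.IsRegularHom (Localization.AtPrime (Ideal.comap (algebraMap R R') p'))
      (AdicCompletion (IsLocalRing.maximalIdeal (Localization.AtPrime (Ideal.comap (algebraMap R R') p')))
        (Localization.AtPrime (Ideal.comap (algebraMap R R') p')))) :
    CAlg.IsRegularHom (Localization.AtPrime p')
      (AdicCompletion (IsLocalRing.maximalIdeal (Localization.AtPrime p')) (Localization.AtPrime p')) := by
  haveI : IsNoetherianRing (Localization.AtPrime p') := IsLocalization.isNoetherianRing p'.primeCompl _ inferInstance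
  haveI := GeomRedFibLib.isNoetherianRing_cpl (Localization.AtPrime p')
  refine ⟨inferInstance, fun Q' _ ↦ ⟨GeomRedFibLib.isNoetherianRing_fiber _ _ Q', ?_⟩⟩
  let p := p'.comap (algebraMap R R')
  let q := Q'.comap (algebraMap R (Localization.AtPrime p'))
  have hqp : q ≤ p := fun r hr ↦ by
    have h1 : algebraMap R' (Localization.AtPrime p') (algebraMap R R' r) ∈ Q' := by
      rw [← IsScalarTower.algebraMap_apply]; exact hr
    exact (IsLocalization.AtPrime.to_map_mem_maximal_iff (Localization.AtPrime p') p' _).mp
      (IsLocalRing.le_maximalIdeal (Ideal.IsPrime.ne_top inferInstance) h1)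
  have hd : Disjoint (p.primeCompl : Set R) (q : Set R) := Set.disjoint_left.mpr fun x hx hx' ↦ hx (hqp hx')
  let Q := q.map (algebraMap R (Localization.AtPrime p))
  haveI : Q.IsPrime := IsLocalization.isPrime_of_isPrime_disjoint p.primeCompl _ q inferInstance hd
  exact GRingLib.isGeometricallyRegular_formalFibre_of_quasiFiniteAt R R' p' Q' Q
    (IsLocalization.under_map_of_isPrime_disjoint p.primeCompl _ inferInstance hd) (h.2 Q).2

end Groth.Agent.S9289
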