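import Groth.Statements.S9291
import Mathlib


-- import your own Groth.Agent.* helpers here

set_option autoImplicit false
universe u
open EtAlg

namespace Groth.Agent.S9291

/-- Let A be a ring, I an ideal and u a unit of A/I. Then there is an étale ring map A → A' such that
A/I → A'/IA' is an isomorphism, together with a unit of A' mapping to the image of u. -/
theorem result (A : Type u) [CommRing A] (I : Ideal A) (u : (A ⧸ I)ˣ) :
    ∃ (A' : Type u) (_ : CommRing A') (_ : Algebra A A'), Algebra.Etale A A' ∧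
      Function.Bijective (Ideal.quotientMap (Ideal.map (algebraMap A A') I) (algebraMap A A')
        Ideal.le_comap_map) ∧
      ∃ u' : A'ˣ, Ideal.Quotient.mk (Ideal.map (algebraMap A A') I) (u' : A') =
        Ideal.quotientMap (Ideal.map (algebraMap A A') I) (algebraMap A A') Ideal.le_comap_map
          (u : A ⧸ I) := by
  obtain ⟨a, ha⟩ := Ideal.Quotient.mk_surjective (u : A ⧸ I)
  obtain ⟨b, hb⟩ := Ideal.Quotient.mk_surjective ((u⁻¹ : (A ⧸ I)ˣ) : A ⧸ I)
  have hab : Ideal.Quotient.mk I (a * b) = 1 := by rw [map_mul, ha, hb, Units.mul_inv]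
  let A' := Localization.Away a
  have hu : IsUnit (algebraMap A A' a) := IsLocalization.Away.algebraMap_isUnit a
  refine ⟨A', inferInstance, inferInstance, Algebra.Etale.of_isLocalizationAway a, ⟨?_, ?_⟩, hu.unit, ?_⟩
  · rw [injective_iff_map_eq_zero]
    intro x hx
    obtain ⟨x, rfl⟩ := Ideal.Quotient.mk_surjective x
    rw [Ideal.quotientMap_mk, Ideal.Quotient.eq_zero_iff_mem,
      IsLocalization.algebraMap_mem_map_algebraMap_iff (Submonoid.powers a)] at hx
    obtain ⟨_, ⟨n, rfl⟩, hm⟩ := hx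
    have h1 : Ideal.Quotient.mk I (a * b) ^ n * Ideal.Quotient.mk I x = Ideal.Quotient.mk I x := by
      rw [hab, one_pow, one_mul]
    rw [← h1, ← map_pow, ← map_mul, Ideal.Quotient.eq_zero_iff_mem, mul_pow, mul_right_comm]
    exact Ideal.mul_mem_right _ _ hm
  · intro y
    obtain ⟨y, rfl⟩ := Ideal.Quotient.mk_surjective y
    obtain ⟨x, ⟨_, n, rfl⟩, rfl⟩ := IsLocalization.exists_mk'_eq (Submonoid.powers a) y
    refine ⟨Ideal.Quotient.mk I (x * b ^ n), ?_⟩
    rw [Ideal.quotientMap_mk, Ideal.Quotient.mk_eq_mk_iff_sub_mem]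
    have h2 : (a * b) ^ n - 1 ∈ I := by
      rw [← Ideal.Quotient.mk_eq_mk_iff_sub_mem, map_pow, hab, one_pow, map_one]
    have h3 := Ideal.mem_map_of_mem (algebraMap A A') h2
    have h4 := IsLocalization.mk'_spec A' x (⟨a ^ n, n, rfl⟩ : Submonoid.powers a)
    have e : algebraMap A A' (x * b ^ n) - IsLocalization.mk' A' x (⟨a ^ n, n, rfl⟩ : Submonoid.powers a) =
        IsLocalization.mk' A' x (⟨a ^ n, n, rfl⟩ : Submonoid.powers a) * algebraMap A A' ((a * b) ^ n - 1) := by
      rw [map_sub, map_one, mul_sub, mul_one, mul_pow, map_mul, map_mul, ← mul_assoc, h4]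
    rw [e]
    exact Ideal.mul_mem_left _ _ h3
  · rw [← ha, Ideal.quotientMap_mk]
    rfl

end Groth.Agent.S9291
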