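import Groth.Statements.S9292
import Groth.Agent.EtNbhdLib.Basic
import Mathlib.RingTheory.Etale.Pi
import Mathlib.RingTheory.Idempotents
import Mathlib.RingTheory.Localization.Away.Basic
-- import your own Groth.Agent.* helpers here

set_option autoImplicit false
universe u
open EtAlg

namespace Groth.Agent.S9292

/-- Let A be a ring, I an ideal, and e_1, ..., e_n a complete system of orthogonal idempotents of A/I
(equivalently a finite disjoint open covering of Spec(A/I)). Then one can find an A-algebra A' that
is étale over A, such that the induced map A/I → A'/IA' is bijective, together with a complete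
system of orthogonal idempotents of A' lifting the e_j. -/
theorem result (A : Type u) [CommRing A] (I : Ideal A)
    (n : ℕ) (e : Fin n → A ⧸ I) (he : CompleteOrthogonalIdempotents e) :
    ∃ (A' : Type u) (_ : CommRing A') (_ : Algebra A A'), Algebra.Etale A A' ∧
      Function.Bijective (Ideal.quotientMap (Ideal.map (algebraMap A A') I) (algebraMap A A')
        Ideal.le_comap_map) ∧
      ∃ e' : Fin n → A', CompleteOrthogonalIdempotents e' ∧
        ∀ j, Ideal.Quotient.mk (Ideal.map (algebraMap A A') I) (e' j) =
          Ideal.quotientMap (Ideal.map (algebraMap A A') I) (algebraMap A A') Ideal.le_comap_map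
            (e j) := by
  classical
  choose a ha using fun j => Ideal.Quotient.mk_surjective (e j)
  let L : Fin n → Type u := fun j => Localization.Away (a j)
  haveI : ∀ j, Algebra.Etale A (L j) := fun j => Algebra.Etale.of_isLocalizationAway (a j)
  let T := ∀ j, L j
  have hmap : ∀ (j : Fin n), ∀ z ∈ I.map (algebraMap A (L j)), (Pi.single j z : T) ∈ I.map (algebraMap A T) := by
    intro j z hz
    induction hz using Submodule.span_induction with
    | mem z hz =>
      obtain ⟨i, hi, rfl⟩ := hz
      have he : (Pi.single j (algebraMap A (L j) i) : T) = Pi.single j 1 * algebraMap A T i := by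
        funext k
        rw [Pi.mul_apply, Pi.algebraMap_apply]
        rcases eq_or_ne k j with rfl | hk
        · rw [Pi.single_eq_same, Pi.single_eq_same, one_mul]
        · rw [Pi.single_eq_of_ne hk, Pi.single_eq_of_ne hk, zero_mul]
      rw [he]
      exact Ideal.mul_mem_left _ _ (Ideal.mem_map_of_mem _ hi)
    | zero => rw [Pi.single_zero]; exact zero_mem _
    | add x y _ _ hx hy => rw [Pi.single_add]; exact add_mem hx hy
    | smul r x _ hx =>
      rw [smul_eq_mul, Pi.single_mul]
      exact Ideal.mul_mem_left _ _ hx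
  have hpi : ∀ x : T, (∀ j, x j ∈ I.map (algebraMap A (L j))) → x ∈ I.map (algebraMap A T) := fun x hx => by
    rw [← Finset.univ_sum_single x]
    exact Ideal.sum_mem _ fun j _ => hmap j _ (hx j)
  let q : ∀ j, A ⧸ I →+* L j ⧸ I.map (algebraMap A (L j)) := fun j =>
    Ideal.quotientMap _ (algebraMap A (L j)) Ideal.le_comap_map
  have hqe : ∀ j, q j (e j) = 1 := fun j => by
    have hu : IsUnit (q j (e j)) := by
      rw [← ha j]
      exact ((IsLocalization.Away.algebraMap_isUnit (a j) : IsUnit (algebraMap A (L j) (a j)))).map (Ideal.Quotient.mk _)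
    have h1 : q j (e j) * q j (e j) = q j (e j) * 1 := by rw [← map_mul, (he.idem j).eq, mul_one]
    exact hu.mul_left_cancel h1
  have hqne : ∀ i j, i ≠ j → q j (e i) = 0 := fun i j hij => by
    have := congrArg (q j) (he.ortho hij)
    rw [map_mul, map_zero, hqe j, mul_one] at this
    exact this
  refine ⟨T, inferInstance, inferInstance, inferInstance, ⟨?_, ?_⟩, fun j => Pi.single j 1,
    CompleteOrthogonalIdempotents.single _, fun j => ?_⟩
  · rw [injective_iff_map_eq_zero]
    intro z hz
    obtain ⟨z, rfl⟩ := Ideal.Quotient.mk_surjective z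
    rw [Ideal.quotientMap_mk, Ideal.Quotient.eq_zero_iff_mem] at hz
    have hzero : ∀ j, Ideal.Quotient.mk I z * e j = 0 := fun j => by
      have hzj : algebraMap A (L j) z ∈ I.map (algebraMap A (L j)) := by
        have h := Ideal.mem_map_of_mem (Pi.evalRingHom L j) hz
        rwa [Ideal.map_map] at h
      obtain ⟨⟨⟨w, hw⟩, ⟨_, m, rfl⟩⟩, hwm⟩ := (IsLocalization.mem_map_algebraMap_iff (Submonoid.powers (a j)) (L j)).1 hzj
      rw [← map_mul] at hwm
      obtain ⟨⟨_, l, rfl⟩, hl⟩ := (IsLocalization.eq_iff_exists (Submonoid.powers (a j)) (L j)).1 hwm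
      simp only at hl
      have h2 : Ideal.Quotient.mk I z * e j ^ (l + m) = 0 := by
        have h3 := congrArg (Ideal.Quotient.mk I) hl
        rw [map_mul, map_mul, map_mul, map_pow, map_pow, ha, Ideal.Quotient.eq_zero_iff_mem.2 hw, mul_zero] at h3
        rw [pow_add, ← h3]; ring
      rcases Nat.eq_zero_or_pos (l + m) with h0 | h0
      · rw [h0, pow_zero, mul_one] at h2
        rw [h2, zero_mul]
      · obtain ⟨r, hr⟩ := Nat.exists_eq_add_of_le h0
        rw [hr, add_comm, (he.idem j).pow_succ_eq] at h2
        exact h2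
    calc Ideal.Quotient.mk I z = Ideal.Quotient.mk I z * ∑ j, e j := by rw [he.complete, mul_one]
      _ = 0 := by rw [Finset.mul_sum]; exact Finset.sum_eq_zero fun j _ => hzero j
  · intro y
    obtain ⟨y, rfl⟩ := Ideal.Quotient.mk_surjective y
    have hj : ∀ j, ∃ b : A ⧸ I, q j b = Ideal.Quotient.mk _ (y j) := fun j => by
      obtain ⟨m, b, hb⟩ := IsLocalization.Away.surj (a j) (y j)
      refine ⟨Ideal.Quotient.mk I b, ?_⟩
      have h1 := congrArg (Ideal.Quotient.mk (I.map (algebraMap A (L j)))) hb
      rw [map_mul, map_pow, show Ideal.Quotient.mk _ (algebraMap A (L j) (a j)) = 1 by rw [← hqe j, ← ha j]; rfl,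
        one_pow, mul_one] at h1
      exact h1.symm
    choose b hb using hj
    obtain ⟨c, hc⟩ := Ideal.Quotient.mk_surjective (∑ i, e i * b i)
    refine ⟨Ideal.Quotient.mk I c, ?_⟩
    rw [Ideal.quotientMap_mk, Ideal.Quotient.eq]
    refine hpi _ fun j => ?_
    rw [Pi.sub_apply, Pi.algebraMap_apply, ← Ideal.Quotient.eq]
    show q j (Ideal.Quotient.mk I c) = _
    rw [hc, map_sum, Finset.sum_eq_single j (fun i _ hij => by rw [map_mul, hqne i j hij, zero_mul])
      (fun h => absurd (Finset.mem_univ j) h), map_mul, hqe j, one_mul, hb]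
  · rw [← ha j, Ideal.quotientMap_mk, Ideal.Quotient.eq]
    refine hpi _ fun i => ?_
    rw [Pi.sub_apply, Pi.algebraMap_apply, ← Ideal.Quotient.eq]
    show Ideal.Quotient.mk _ ((Pi.single j 1 : T) i) = q i (Ideal.Quotient.mk I (a j))
    rw [ha j]
    rcases eq_or_ne j i with rfl | hji
    · rw [hqe, Pi.single_eq_same, map_one]
    · rw [hqne j i hji, Pi.single_eq_of_ne hji.symm, map_zero]

end Groth.Agent.S9292
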