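import Groth.Statements.S9293
import Groth.Agent.GeomRedFibLib.GeomApps
-- import your own Groth.Agent.* helpers here

set_option autoImplicit false
universe u
open CAlg

namespace Groth.Agent.S9293

/-- If R → Λ is a regular ring map and R' is an R-algebra of finite type, then R' → R' ⊗_R Λ is again
regular. -/
theorem result (R Λ R' : Type u) [CommRing R] [CommRing Λ] [CommRing R']
    [Algebra R Λ] [Algebra R R'] [Algebra.FiniteType R R'] (h : CAlg.IsRegularHom R Λ) :
    CAlg.IsRegularHom R' (TensorProduct R R' Λ) := by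
  haveI := h.1
  refine ⟨inferInstance, fun p' _ ↦ ?_⟩
  let p := p'.comap (algebraMap R R')
  haveI := (h.2 p).1
  letI : Algebra p.ResidueField p'.ResidueField := (GeomRedFibLib.resMap p p' rfl).toAlgebra
  haveI : IsScalarTower R p.ResidueField p'.ResidueField := .of_algebraMap_eq fun r ↦ by
    rw [RingHom.algebraMap_toAlgebra, IsScalarTower.algebraMap_apply R R' p'.ResidueField]
    exact (Ideal.ResidueField.map_algebraMap p p' _ rfl r).symm
  haveI : Algebra.EssFiniteType R p'.ResidueField := Algebra.EssFiniteType.comp R R' p'.ResidueField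
  haveI : Algebra.EssFiniteType p.ResidueField p'.ResidueField :=
    Algebra.EssFiniteType.of_comp R p.ResidueField p'.ResidueField
  haveI := GeomRedFibLib.isNoetherianRing_fieldBC p.ResidueField (p.Fiber Λ) p'.ResidueField
  haveI : IsNoetherianRing (p'.Fiber (TensorProduct R R' Λ)) :=
    isNoetherianRing_of_ringEquiv (TensorProduct p.ResidueField p'.ResidueField (p.Fiber Λ))
      ((GeomRedFibLib.fiberEquiv AlgEquiv.refl p p' rfl p'.ResidueField rfl).symm.trans
        (Algebra.TensorProduct.lid p'.ResidueField _).toRingEquiv)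
  refine ⟨inferInstance, fun k' _ _ hk ↦ ?_⟩
  haveI := hk
  letI : Algebra p.ResidueField k' :=
    ((algebraMap p'.ResidueField k').comp (GeomRedFibLib.resMap p p' rfl)).toAlgebra
  haveI : IsScalarTower p.ResidueField p'.ResidueField k' := .of_algebraMap_eq fun _ ↦ rfl
  haveI : Algebra.EssFiniteType p.ResidueField k' := Algebra.EssFiniteType.comp p.ResidueField p'.ResidueField k'
  haveI := GeomRedFibLib.isNoetherianRing_fieldBC p.ResidueField (p.Fiber Λ) k'
  haveI : IsRegularRing (TensorProduct p.ResidueField k' (p.Fiber Λ)) :=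
    (GeomRedFibLib.isRegularRing_iff _).mpr
      (((GeomRedFibLib.geomP_regular_iff _ _).mp (h.2 p).2).geomPI.ringP_fg GeomRedFibLib.isGeomProp_regular k')
  exact IsRegularRing.of_ringEquiv (R := TensorProduct p.ResidueField k' (p.Fiber Λ))
    (GeomRedFibLib.fiberEquiv AlgEquiv.refl p p' rfl k' rfl).symm

end Groth.Agent.S9293
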