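import Groth.Statements.S9299
import Groth.Agent.GRingLib.CompleteLocal
-- import your own Groth.Agent.* helpers here

set_option autoImplicit false
universe u
open CAlg

namespace Groth.Agent.S9299

/-- Let k be a field of characteristic p, A = k[[x_1, ..., x_n]][y_1, ..., y_m] with fraction field K,
and P a prime of A. Then A_P^ ⊗_A K, the generic formal fibre of the local ring A_P, is
geometrically regular over K. (The ring A is a domain; this is recorded as an instance hypothesis.) -/
theorem result (p : ℕ) [Fact p.Prime]
    (k : Type u) [Field k] [CharP k p] (n m : ℕ)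
    [IsDomain (MvPolynomial (Fin m) (MvPowerSeries (Fin n) k))]
    (P : Ideal (MvPolynomial (Fin m) (MvPowerSeries (Fin n) k))) [P.IsPrime] :
    CAlg.IsGeometricallyRegular (@Ideal.ResidueField (Localization.AtPrime P) _ ⊥ _)
      (EGA4.formalFibre (Localization.AtPrime P) (⊥ : Ideal (Localization.AtPrime P))) := by
  haveI : IsDomain (MvPowerSeries (Fin n) k) := NoZeroDivisors.to_isDomain _
  haveI : IsRegularRing (MvPowerSeries (Fin n) k) := CommAlgDim.isRegularRing_mvPowerSeries k n
  haveI : IsNoetherianRing (MvPowerSeries (Fin n) k) := inferInstance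
  haveI : IsNoetherianRing (MvPolynomial (Fin m) (MvPowerSeries (Fin n) k)) := inferInstance
  haveI : IsRegularRing (MvPolynomial (Fin m) (MvPowerSeries (Fin n) k)) := inferInstance
  haveI : CharP (MvPowerSeries (Fin n) k) p :=
    charP_of_injective_ringHom (MvPowerSeries.C_injective (σ := Fin n) (R := k)) p
  have hpA : CharP (MvPolynomial (Fin m) (MvPowerSeries (Fin n) k)) p :=
    charP_of_injective_ringHom (MvPolynomial.C_injective (Fin m) (MvPowerSeries (Fin n) k)) p
  haveI : IsDomain (Localization.AtPrime P) := IsLocalization.isDomain_localization P.primeCompl_le_nonZeroDivisors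
  refine GRingLib.isGeometricallyRegular_of_genReg _ (GRingLib.genReg_of_regular _ (fun q _ hq ↦ ?_) P)
  obtain rfl : q = p := CharP.eq (MvPolynomial (Fin m) (MvPowerSeries (Fin n) k)) hq hpA
  exact GRingLib.hasDer_self _ _ (GRingLib.hasPFamily_mvPolynomial q _ (GRingLib.hasPFamily_powerSeries q k n) m)

end Groth.Agent.S9299
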