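import Groth.Statements.S9300
import Mathlib.RingTheory.Spectrum.Prime.Basic
-- import your own Groth.Agent.* helpers here

set_option autoImplicit false
universe u
open CAlg

namespace Groth.Agent.S9300

/-- Let A and B be domains and A → B a ring map for which the generic point of Spec(A) has a unique
preimage in Spec(B). Then every nonzero ideal of B has nonzero preimage in A. -/
theorem result (A B : Type u) [CommRing A] [IsDomain A]
    [CommRing B] [IsDomain B] (φ : A →+* B)
    (h : ∃! q : PrimeSpectrum B, Ideal.comap φ q.asIdeal = ⊥) (J : Ideal B) (hJ : J ≠ ⊥) :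
    Ideal.comap φ J ≠ ⊥ := by
  intro hc
  obtain ⟨q, hq, huniq⟩ := h
  obtain ⟨P, hP, hJP, hPd⟩ := Ideal.exists_le_prime_disjoint J ((nonZeroDivisors A).map φ) (by
    rw [Set.disjoint_left]
    rintro _ hx ⟨a, ha, rfl⟩
    exact nonZeroDivisors.ne_zero ha (Ideal.mem_bot.mp (hc ▸ (Ideal.mem_comap.mpr hx))))
  have hP0 : Ideal.comap φ P = ⊥ := eq_bot_iff.mpr fun a ha => by
    by_contra ha0
    exact Set.disjoint_left.mp hPd ha ⟨a, mem_nonZeroDivisors_of_ne_zero ha0, rfl⟩
  have h0 : Ideal.comap φ (⊥ : Ideal B) = ⊥ := eq_bot_iff.mpr ((Ideal.comap_mono bot_le).trans hP0.le)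
  have e : (⟨P, hP⟩ : PrimeSpectrum B) = ⟨⊥, Ideal.isPrime_bot⟩ := (huniq _ hP0).trans (huniq _ h0).symm
  exact hJ (eq_bot_iff.mpr (hJP.trans (congr_arg PrimeSpectrum.asIdeal e).le))

end Groth.Agent.S9300
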