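import Groth.Statements.S9301


set_option autoImplicit false
universe u
open CAlg TensorProduct

namespace Groth.Agent.S9301

/-- Let A and B be domains and A → B a flat ring map which is the localization of a quasi-finite ring
map A → B₀ (of finite type with finite fibres). Then every nonzero ideal of B has nonzero preimage
in A. -/
theorem result (A B₀ B : Type u) [CommRing A] [IsDomain A]
    [CommRing B₀] [CommRing B] [IsDomain B] [Algebra A B₀] [Algebra.FiniteType A B₀]
    [Algebra.QuasiFinite A B₀] (S : Submonoid B₀) [Algebra B₀ B] [IsLocalization S B] [Algebra A B]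
    [IsScalarTower A B₀ B] [Module.Flat A B] (J : Ideal B) (hJ : J ≠ ⊥) :
    Ideal.comap (algebraMap A B) J ≠ ⊥ := by
  haveI : Algebra.QuasiFinite A B := Algebra.QuasiFinite.of_isLocalization S (R := A) (T := B)
  let K := FractionRing A
  haveI : Module.Finite K (K ⊗[A] B) := Module.Finite.of_quasiFinite
  have hinj : Function.Injective
      (Algebra.TensorProduct.includeRight : B →ₐ[A] K ⊗[A] B) :=
    Algebra.TensorProduct.includeRight_injective (IsFractionRing.injective A K)
  obtain ⟨b, hb, hb0⟩ := Submodule.exists_mem_ne_zero_of_ne_bot hJ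
  have h : IsAlgebraic K ((Algebra.TensorProduct.includeRight : B →ₐ[A] K ⊗[A] B) b) :=
    (IsIntegral.of_finite K _).isAlgebraic
  exact Ideal.comap_ne_bot_of_algebraic_mem hb0 hb
    ((isAlgebraic_algHom_iff _ hinj).1 ((IsFractionRing.isAlgebraic_iff A K (K ⊗[A] B)).2 h))

end Groth.Agent.S9301
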