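import Groth.Statements.S9302
import Groth.Agent.HenselLib.Criteria
import Mathlib.Algebra.Category.Ring.Limits
import Mathlib.CategoryTheory.Limits.ConcreteCategory.Basic

set_option autoImplicit false
universe u
open CategoryTheory
open EtAlg

namespace Groth.Agent.S9302

/-- Henselian pairs are preserved under limits: for an inverse system (A_j, I_j) of henselian pairs over
a preordered set J, the limit A = lim A_j with the ideal I = lim I_j (elements all of whose
projections lie in the I_j) is a henselian pair. -/
theorem result (J : Type u) [Preorder J] (F : J ⥤ CommRingCat.{u})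
    (I : ∀ j : J, Ideal (F.obj j))
    (hI : ∀ (i j : J) (φ : i ⟶ j), Ideal.map (F.map φ).hom (I i) ≤ I j)
    (h : ∀ j : J, HenselianRing (F.obj j) (I j)) :
    HenselianRing ((Limits.limit F : CommRingCat.{u}) : Type u)
      (⨅ j : J, Ideal.comap (Limits.limit.π F j).hom (I j)) := by
  have hsec : ∀ s : ∀ j, (F.obj j : Type u), (∀ i j (φ : i ⟶ j), (F.map φ).hom (s i) = s j) →
      ∃ x : ((Limits.limit F : CommRingCat.{u}) : Type u), ∀ j, (Limits.limit.π F j).hom x = s j := by
    intro s hs
    have hL := (Limits.Types.isLimit_iff _).1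
      ⟨Limits.isLimitOfPreserves (forget CommRingCat.{u}) (Limits.limit.isLimit F)⟩ s (fun {i j} φ => hs i j φ)
    obtain ⟨x, hx, -⟩ := hL
    exact ⟨x, hx⟩
  have hext : ∀ x y : ((Limits.limit F : CommRingCat.{u}) : Type u),
      (∀ j, (Limits.limit.π F j).hom x = (Limits.limit.π F j).hom y) → x = y := fun x y h =>
    Limits.Concrete.limit_ext F x y h
  have hπ : ∀ i j (φ : i ⟶ j) x, (F.map φ).hom ((Limits.limit.π F i).hom x) = (Limits.limit.π F j).hom x :=
    fun i j φ x => by rw [← Limits.limit.w F φ]; rfl
  haveI := h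
  constructor
  · intro x hx
    rw [Ideal.mem_iInf] at hx
    rw [Ideal.mem_jacobson_bot]
    intro y
    have hu : ∀ j, IsUnit ((Limits.limit.π F j).hom (x * y + 1)) := fun j => by
      rw [map_add, map_mul, map_one]
      exact Ideal.mem_jacobson_bot.1 ((HenselianRing.jac (I := I j)) (hx j)) _
    choose u hu using fun j => (hu j).exists_right_inv
    obtain ⟨z, hz⟩ := hsec u fun i j φ => by
      have h1 := congrArg (F.map φ).hom (hu i)
      rw [map_mul, map_one, hπ] at h1
      calc (F.map φ).hom (u i) = ((Limits.limit.π F j).hom (x * y + 1) * u j) * (F.map φ).hom (u i) := by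
            rw [hu j, one_mul]
        _ = ((Limits.limit.π F j).hom (x * y + 1) * (F.map φ).hom (u i)) * u j := by ring
        _ = u j := by rw [h1, one_mul]
    exact IsUnit.of_mul_eq_one z (hext _ _ fun j => by rw [map_mul, hz, hu, map_one])
  · intro f hf a₀ h₁ h₂
    rw [Ideal.mem_iInf] at h₁
    have hex : ∀ j, ∃ a, (f.map (Limits.limit.π F j).hom).IsRoot a ∧ a - (Limits.limit.π F j).hom a₀ ∈ I j := by
      intro j
      refine HenselianRing.is_henselian (I := I j) _ (hf.map _) _ ?_ ?_
      · rw [Polynomial.eval_map, Polynomial.eval₂_at_apply]; exact h₁ j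
      · rw [Polynomial.derivative_map, Polynomial.eval_map, Polynomial.eval₂_at_apply]
        have h3 := h₂.map (Ideal.quotientMap (I j) (Limits.limit.π F j).hom (iInf_le _ j))
        rwa [Ideal.quotientMap_mk] at h3
    choose a ha hmem using hex
    obtain ⟨z, hz⟩ := hsec a fun i j φ => by
      refine HenselLib.root_eq_of_sub_mem (HenselianRing.jac (I := I j)) (f := f.map (Limits.limit.π F j).hom)
        ?_ (ha j) ?_ ?_
      · have h1 := (ha i).map (f := (F.map φ).hom)
        rw [Polynomial.map_map] at h1
        rwa [show ((F.map φ).hom.comp (Limits.limit.π F i).hom) = (Limits.limit.π F j).hom from RingHom.ext (hπ i j φ)] at h1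
      · have h3 := h₂.map (Ideal.quotientMap (I j) (Limits.limit.π F j).hom (iInf_le _ j))
        rw [Ideal.quotientMap_mk, ← Polynomial.eval₂_at_apply, ← Polynomial.eval_map, ← Polynomial.derivative_map] at h3
        convert h3 using 1
        rw [Ideal.Quotient.eq]
        refine Ideal.mem_of_dvd _ (Polynomial.sub_dvd_eval_sub _ _ _) ?_
        have h4 := hI i j φ (Ideal.mem_map_of_mem _ (hmem i))
        rwa [map_sub, hπ] at h4
      · have h4 := sub_mem (hI i j φ (Ideal.mem_map_of_mem _ (hmem i))) (hmem j)
        rw [map_sub, hπ, sub_sub_sub_cancel_right] at h4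
        rw [← neg_sub]
        exact neg_mem h4
    refine ⟨z, hext _ _ fun j => ?_, ?_⟩
    · rw [map_zero, ← Polynomial.eval₂_at_apply, hz, ← Polynomial.eval_map]
      exact ha j
    · rw [Ideal.mem_iInf]
      intro j
      show (Limits.limit.π F j).hom (z - a₀) ∈ I j
      rw [map_sub, hz]
      exact hmem j

end Groth.Agent.S9302
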