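import Groth.Statements.S9303
import Mathlib
import Mathlib
-- import your own Groth.Agent.* helpers here

set_option autoImplicit false
universe u
open CAlg

namespace Groth.Agent.S9303

/-- Let A be a ring, I a finitely generated ideal and A → C a ring map such that for every f ∈ I the map
A_f → C_f is the localization of A_f at an idempotent. Then there is a surjection A → C' (C' = A/K
for an ideal K) such that A_f → (C × C')_f is an isomorphism for every f ∈ I. -/
theorem result (A : Type u) [CommRing A]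
    (I : Ideal A) (hI : I.FG) (C : Type u) [CommRing C] [Algebra A C]
    (h : ∀ f ∈ I, ∃ e : Localization.Away f, IsIdempotentElem e ∧
      IsLocalization.Away e (Localization (Algebra.algebraMapSubmonoid C (Submonoid.powers f)))) :
    ∃ K : Ideal A, ∀ f ∈ I, Function.Bijective
      (algebraMap (Localization.Away f)
        (Localization (Algebra.algebraMapSubmonoid (C × (A ⧸ K)) (Submonoid.powers f)))) := by
  classical
  have inC : ∀ (f : A) (D : Type u) [CommRing D] [Algebra A D] (x : A),
      algebraMap (Localization.Away f) (Localization (Algebra.algebraMapSubmonoid D (Submonoid.powers f))) (algebraMap A _ x) = 0 ↔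
        ∃ n : ℕ, algebraMap A D (f ^ n * x) = 0 := by
    intro f D _ _ x
    rw [← IsScalarTower.algebraMap_apply, IsScalarTower.algebraMap_apply A D,
      IsLocalization.map_eq_zero_iff (Algebra.algebraMapSubmonoid D (Submonoid.powers f))]
    constructor
    · rintro ⟨⟨_, _, ⟨n, rfl⟩, rfl⟩, hm⟩
      exact ⟨n, by rw [map_mul]; exact hm⟩
    · rintro ⟨n, hn⟩
      exact ⟨⟨_, ⟨f ^ n, ⟨n, rfl⟩, rfl⟩⟩, by simpa [map_mul] using hn⟩
  have inA : ∀ (f x : A), algebraMap A (Localization.Away f) x = 0 ↔ ∃ n : ℕ, f ^ n * x = 0 := by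
    intro f x
    rw [IsLocalization.map_eq_zero_iff (Submonoid.powers f)]
    exact ⟨fun ⟨⟨_, n, rfl⟩, hm⟩ => ⟨n, hm⟩, fun ⟨n, hn⟩ => ⟨⟨_, n, rfl⟩, hn⟩⟩
  let J : Ideal A := RingHom.ker (algebraMap A C)
  -- the idempotent, in terms of `A`
  have data : ∀ f ∈ I, (∃ (N : ℕ) (u : A), u ∈ J ∧ ∀ y ∈ J, ∃ m : ℕ, f ^ m * (f ^ N * y - u * y) = 0) ∧
      ∀ c : C, ∃ (m : ℕ) (a : A), algebraMap A C a = algebraMap A C (f ^ m) * c := by
    intro f hf
    obtain ⟨e, he, hl⟩ := h f hf
    let T := Localization (Algebra.algebraMapSubmonoid C (Submonoid.powers f))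
    let ψ := algebraMap (Localization.Away f) T
    have hker : ∀ x, ψ x = 0 ↔ e * x = 0 := fun x => by
      rw [IsLocalization.map_eq_zero_iff (Submonoid.powers e)]
      constructor
      · rintro ⟨⟨_, n, rfl⟩, hm⟩
        rcases n with _ | n
        · simp only [pow_zero, one_mul] at hm
          rw [hm, mul_zero]
        · simpa [he.pow_succ_eq n] using hm
      · exact fun hx => ⟨⟨e, 1, by simp⟩, hx⟩
    have he1 : ψ e = 1 :=
      ((IsLocalization.Away.algebraMap_isUnit e : IsUnit (ψ e)).mul_left_inj (b := ψ e) (c := 1)).mp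
        (by rw [one_mul, ← map_mul, he.eq])
    refine ⟨?_, fun c => ?_⟩
    · obtain ⟨n, w, hw⟩ := IsLocalization.Away.surj f (1 - e)
      have hψw : ψ (algebraMap A _ w) = 0 := by rw [← hw, map_mul, map_sub, map_one, he1, sub_self, zero_mul]
      obtain ⟨q, hq⟩ := (inC f C w).mp hψw
      refine ⟨n + q, f ^ q * w, hq, fun y hy => ?_⟩
      rw [← inA]
      have hey : e * algebraMap A (Localization.Away f) y = 0 :=
        (hker _).mp ((inC f C y).mpr ⟨0, by rw [pow_zero, one_mul]; exact hy⟩)
      simp only [map_sub, map_mul, map_pow, ← hw, pow_add]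
      linear_combination ((algebraMap A (Localization.Away f) f) ^ n * (algebraMap A (Localization.Away f) f) ^ q) * hey
    · obtain ⟨⟨x, s⟩, hx⟩ := IsLocalization.surj (Submonoid.powers e) (algebraMap C T c)
      have hs : algebraMap (Localization.Away f) T (s : Localization.Away f) = 1 := by
        obtain ⟨_, n, rfl⟩ := s
        rw [map_pow]; exact (congrArg (· ^ n) he1).trans (one_pow n)
      simp only [hs, mul_one] at hx
      obtain ⟨p, a, ha⟩ := IsLocalization.Away.surj f x
      have h2 : algebraMap C T (algebraMap A C a) = algebraMap C T (algebraMap A C (f ^ p) * c) := by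
        rw [map_mul, hx, ← IsScalarTower.algebraMap_apply A C T, ← IsScalarTower.algebraMap_apply A C T,
          IsScalarTower.algebraMap_apply A (Localization.Away f) T a, IsScalarTower.algebraMap_apply A (Localization.Away f) T,
          ← map_mul, ← ha, map_pow, mul_comm]
      obtain ⟨⟨_, _, ⟨l, rfl⟩, rfl⟩, hl'⟩ :=
        (IsLocalization.eq_iff_exists (Algebra.algebraMapSubmonoid C (Submonoid.powers f)) T).mp h2
      refine ⟨l + p, f ^ l * a, ?_⟩
      rw [map_mul, pow_add, map_mul, mul_assoc]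
      exact hl'
  -- the complementary ideal
  let K : Ideal A :=
    { carrier := {x | ∀ f ∈ I, ∀ y ∈ J, ∃ n : ℕ, f ^ n * (x * y) = 0}
      add_mem' := fun {a b} ha hb f hf y hy => by
        obtain ⟨n, hn⟩ := ha f hf y hy
        obtain ⟨m, hm⟩ := hb f hf y hy
        exact ⟨n + m, by linear_combination f ^ m * hn + f ^ n * hm⟩
      zero_mem' := fun f _ y _ => ⟨0, by simp⟩
      smul_mem' := fun r a ha f hf y hy => by
        obtain ⟨n, hn⟩ := ha f hf y hy
        exact ⟨n, by simp only [smul_eq_mul]; linear_combination r * hn⟩ }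
  obtain ⟨s, hs⟩ := hI
  refine ⟨K, fun f hf => ?_⟩
  obtain ⟨⟨N, u, huJ, hu⟩, hsurj⟩ := data f hf
  obtain ⟨N', hN'⟩ : ∃ N', f ^ N' * (f ^ N - u) ∈ K := by
    have hg : ∀ g ∈ s, g ∈ I := fun g hg => hs ▸ Ideal.subset_span hg
    choose Ng ug hugJ hug using fun g : s => (data g.1 (hg g.1 g.2)).1
    choose mg hmg using fun g : s => hu (ug g) (hugJ g)
    refine ⟨∑ g, mg g, fun g hgI y hy => ?_⟩
    have hspan : I ≤ Ideal.radical (Ideal.span {a | a * (f ^ (∑ g, mg g) * (f ^ N - u) * y) = 0}) := by
      conv_lhs => rw [← hs]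
      refine Ideal.span_le.mpr fun x hx => ?_
      obtain ⟨l, hl⟩ := hug ⟨x, hx⟩ y hy
      refine ⟨l + Ng ⟨x, hx⟩, Ideal.subset_span ?_⟩
      change x ^ (l + Ng ⟨x, hx⟩) * _ = 0
      have hle : mg ⟨x, hx⟩ ≤ ∑ g, mg g := Finset.single_le_sum (fun _ _ => Nat.zero_le _) (Finset.mem_univ _)
      have hm : f ^ (∑ g, mg g) * ((f ^ N - u) * ug ⟨x, hx⟩) = 0 := by
        have := hmg ⟨x, hx⟩
        obtain ⟨d, hd⟩ := Nat.exists_eq_add_of_le hle
        rw [hd, pow_add]
        linear_combination f ^ d * this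
      have hl2 : x ^ l * (x ^ Ng ⟨x, hx⟩ * y - ug ⟨x, hx⟩ * y) = 0 := hl
      linear_combination (f ^ (∑ g, mg g) * (f ^ N - u)) * hl2 + (x ^ l * y) * hm
    obtain ⟨n, hn⟩ := hspan hgI
    refine ⟨n, ?_⟩
    refine Submodule.span_induction (p := fun a _ => a * (f ^ (∑ g, mg g) * (f ^ N - u) * y) = 0)
      (fun a ha => ha) (by simp) (fun a b _ _ ha hb => by rw [add_mul, ha, hb, add_zero])
      (fun r a _ ha => by rw [smul_eq_mul, mul_assoc, ha, mul_zero]) hn
  constructor
  · rw [injective_iff_map_eq_zero]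
    intro z hz
    obtain ⟨n, a, ha⟩ := IsLocalization.Away.surj f z
    have hz' : algebraMap (Localization.Away f) (Localization (Algebra.algebraMapSubmonoid (C × (A ⧸ K)) (Submonoid.powers f)))
        (algebraMap A _ a) = 0 := by rw [← ha, map_mul, hz, zero_mul]
    obtain ⟨m, hm⟩ := (inC f _ a).mp hz'
    have hmJ : f ^ m * a ∈ J := congrArg Prod.fst hm
    have hmK : f ^ m * a ∈ K := Ideal.Quotient.eq_zero_iff_mem.mp (congrArg Prod.snd hm)
    obtain ⟨p, hp⟩ := hmK f hf u huJ
    obtain ⟨q, hq⟩ := hu _ hmJ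
    have ha0 : algebraMap A (Localization.Away f) a = 0 := (inA f a).mpr
      ⟨p + (q + N + m), by linear_combination f ^ p * hq + f ^ q * hp⟩
    have hunit : IsUnit ((algebraMap A (Localization.Away f) f) ^ n) := (IsLocalization.Away.algebraMap_isUnit f).pow n
    exact (hunit.mul_left_eq_zero).mp (ha.trans ha0)
  · intro w
    obtain ⟨⟨⟨c, b⟩, ⟨_, _, ⟨l, rfl⟩, rfl⟩⟩, hw⟩ :=
      IsLocalization.surj (Algebra.algebraMapSubmonoid (C × (A ⧸ K)) (Submonoid.powers f)) w
    obtain ⟨b, rfl⟩ := Ideal.Quotient.mk_surjective b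
    obtain ⟨p, a₁, ha₁⟩ := hsurj c
    -- an element of `A` restricting to both components
    let a := f ^ N' * (f ^ N * a₁ - u * a₁ + f ^ p * u * b)
    let R := Localization (Algebra.algebraMapSubmonoid (C × (A ⧸ K)) (Submonoid.powers f))
    have hkey : algebraMap A (C × (A ⧸ K)) a = algebraMap A (C × (A ⧸ K)) (f ^ (N' + N + p)) * (c, Ideal.Quotient.mk K b) := by
      refine Prod.ext ?_ ?_
      · change algebraMap A C a = algebraMap A C (f ^ (N' + N + p)) * c
        have hu0 : algebraMap A C u = 0 := huJ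
        simp only [a, map_mul, map_add, map_sub, hu0, pow_add, ha₁]
        ring
      · change Ideal.Quotient.mk K a = Ideal.Quotient.mk K (f ^ (N' + N + p)) * Ideal.Quotient.mk K b
        rw [← map_mul, Ideal.Quotient.eq]
        have : a - f ^ (N' + N + p) * b = (a₁ - f ^ p * b) * (f ^ N' * (f ^ N - u)) := by simp only [a, pow_add]; ring
        rw [this]
        exact Ideal.mul_mem_left _ _ hN'
    refine ⟨algebraMap A _ a * ((IsLocalization.Away.algebraMap_isUnit (S := Localization.Away f) f).pow (l + (N' + N + p))).unit⁻¹, ?_⟩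
    have hfu : IsUnit (algebraMap A R (f ^ (l + (N' + N + p)))) := by
      rw [IsScalarTower.algebraMap_apply A (Localization.Away f) R, map_pow]
      exact ((IsLocalization.Away.algebraMap_isUnit f).pow _).map _
    refine hfu.mul_left_inj.mp ?_
    rw [IsScalarTower.algebraMap_apply A (Localization.Away f) R, ← map_mul, map_pow (algebraMap A (Localization.Away f)),
      mul_assoc, IsUnit.val_inv_mul, mul_one, ← IsScalarTower.algebraMap_apply, IsScalarTower.algebraMap_apply A (C × (A ⧸ K)) R,
      hkey, map_mul, ← hw]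
    simp only [← map_pow, ← IsScalarTower.algebraMap_apply A (Localization.Away f) R]
    simp only [IsScalarTower.algebraMap_apply A (C × (A ⧸ K)) R, map_mul, map_pow, pow_add, R]
    ring

end Groth.Agent.S9303
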