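import Groth.Statements.S9305
import Groth.Agent.EtLocalRingLib.IntegralOverHensel
import Groth.Agent.HenselBranchLib.NormTensor
import Groth.Agent.S9238
-- import your own Groth.Agent.* helpers here

set_option autoImplicit false
set_option backward.isDefEq.respectTransparency false
set_option synthInstance.maxHeartbeats 400000
set_option maxHeartbeats 1000000
universe u
open CAlg

namespace Groth.Agent.S9305

open TensorProduct in
/-- Let A be a local ring with finitely many minimal primes, A' the integral closure of A_red in its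
total ring of fractions and A^sh a strict henselization of A. In the ring A' ⊗_A A^sh, each minimal
prime lies in exactly one maximal ideal and each maximal ideal contains exactly one minimal prime. -/
theorem result {A Ash : Type u} [CommRing A]
    [IsLocalRing A] (hfin : (minimalPrimes A).Finite) [CommRing Ash] [IsLocalRing Ash] [Algebra A Ash]
    [IsLocalHom (algebraMap A Ash)] [Hensel.IsStrictHenselization A Ash] :
    (∀ q ∈ minimalPrimes ((CAlg2.normRed A) ⊗[A] Ash),
        ∃! m : Ideal ((CAlg2.normRed A) ⊗[A] Ash), m.IsMaximal ∧ q ≤ m) ∧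
      (∀ m : Ideal ((CAlg2.normRed A) ⊗[A] Ash), m.IsMaximal →
        ∃! q : Ideal ((CAlg2.normRed A) ⊗[A] Ash), q ∈ minimalPrimes ((CAlg2.normRed A) ⊗[A] Ash) ∧ q ≤ m) := by
  haveI : HenselianLocalRing Ash := Hensel.IsStrictHenselization.henselian (R := A)
  haveI : Module.FaithfullyFlat A Ash := Groth.Agent.S0539.result A Ash
  obtain ⟨e⟩ := HenselLib.nonempty_algEquiv_SH (R := A) Ash
  have hcov := HenselLib.etCov_of_algEquiv e (HenselLib.etCov_hens _)
  have hB := HenselBranchLib.isNormRed_normRed A hfin
  letI : Algebra Ash (TensorProduct A (CAlg2.normRed A) Ash) := Algebra.TensorProduct.rightAlgebra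
  haveI := hB.isIntegral
  haveI := HenselBranchLib.isIntegral_normTensor A Ash (CAlg2.normRed A)
  refine ⟨fun q hq => ?_, fun m hm => ?_⟩
  · haveI := hq.1.1
    exact EtLocalRingLib.existsUnique_maximal Ash (TensorProduct A (CAlg2.normRed A) Ash) q
  · haveI := hm.isPrime
    obtain ⟨P, hP, hle⟩ := Ideal.exists_minimalPrimes_le (I := (⊥ : Ideal _)) (J := m) bot_le
    exact ⟨P, ⟨hP, hle⟩, fun P' hP' =>
      HenselBranchLib.minimal_unique A Ash _ hB hcov m P' P hP'.1 hP hP'.2 hle⟩


end Groth.Agent.S9305
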