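import Groth.Statements.S9306
import Groth.Agent.SolSepLib.BaseChange
-- import your own Groth.Agent.* helpers here

set_option autoImplicit false
universe u
open EtRam

namespace Groth.Agent.S9306

open TensorProduct in
/-- Let A → B be an injective local homomorphism of discrete valuation rings with fraction fields K ⊆ L,
and let K' be a finite separable extension of K that is unramified relative to A. Then every field F
onto which K' ⊗_K L surjects is, as an extension of L, unramified relative to B. (The published
statement also records that K' ⊗_K L is a finite product of fields, whose factors are these F; this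
row does not state that part.) -/
theorem result (A B K L K' : Type u) [CommRing A] [IsDomain A]
    [IsDiscreteValuationRing A] [CommRing B] [IsDomain B] [IsDiscreteValuationRing B] [Algebra A B]
    [IsLocalHom (algebraMap A B)] (hinj : Function.Injective (algebraMap A B))
    [Field K] [Field L] [Field K'] [Algebra A K] [IsFractionRing A K] [Algebra B L] [IsFractionRing B L]
    [Algebra K L] [Algebra A L] [IsScalarTower A K L] [IsScalarTower A B L]
    [Algebra K K'] [FiniteDimensional K K'] [Algebra.IsSeparable K K']
    (h : EtRam.IsUnramifiedExt A ((algebraMap K K').comp (algebraMap A K)))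
    (F : Type u) [Field F] [Algebra (K' ⊗[K] L) F] (hF : Function.Surjective (algebraMap (K' ⊗[K] L) F)) :
    EtRam.IsUnramifiedExt B ((algebraMap (K' ⊗[K] L) F).comp
      ((Algebra.TensorProduct.includeRight : L →ₐ[K] K' ⊗[K] L).toRingHom.comp (algebraMap B L))) := by
  let φ := algebraMap (K' ⊗[K] L) F
  letI : Algebra K' F := (φ.comp (Algebra.TensorProduct.includeLeft : K' →ₐ[K] K' ⊗[K] L).toRingHom).toAlgebra
  letI : Algebra L F := (φ.comp (Algebra.TensorProduct.includeRight : L →ₐ[K] K' ⊗[K] L).toRingHom).toAlgebra
  letI : Algebra K F := ((algebraMap L F).comp (algebraMap K L)).toAlgebra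
  have : IsScalarTower K L F := IsScalarTower.of_algebraMap_eq fun _ => rfl
  have : IsScalarTower K K' F := IsScalarTower.of_algebraMap_eq fun c => by
    exact congrArg φ (((Algebra.TensorProduct.includeRight : L →ₐ[K] K' ⊗[K] L).commutes c).trans
      ((Algebra.TensorProduct.includeLeft : K' →ₐ[K] K' ⊗[K] L).commutes c).symm)
  refine SolSepLib.unramified_baseChange (L := L) (K₁ := K') (M := F) hinj (fun a => ?_) (top_unique fun z _ => ?_) h
  · rw [← IsScalarTower.algebraMap_apply, ← IsScalarTower.algebraMap_apply]
  · obtain ⟨t, rfl⟩ := hF z
    induction t using TensorProduct.induction_on with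
    | zero => rw [map_zero]; exact zero_mem _
    | tmul k l =>
      rw [show (k ⊗ₜ[K] l : K' ⊗[K] L) = k ⊗ₜ 1 * (1 ⊗ₜ l) by rw [Algebra.TensorProduct.tmul_mul_tmul, mul_one, one_mul],
        map_mul]
      exact mul_mem (Algebra.subset_adjoin ⟨k, rfl⟩) (Subalgebra.algebraMap_mem (R := L) _ l)
    | add a b ha hb => rw [map_add]; exact add_mem (ha trivial) (hb trivial)

end Groth.Agent.S9306
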