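import Groth.Statements.S9308
import Groth.Agent.IndRegLib.Limit

set_option autoImplicit false
universe u
open CAlg

namespace Groth.Agent.S9308

/-- Let R be a ring and (A_i, φ_ii') a directed system of smooth R-algebras with colimit Λ (the index
type is taken in the universe of the rings). Suppose that for every prime p of R the ring Λ ⊗_R κ(p)
is Noetherian. Then R → Λ is a regular ring map. -/
theorem result (R : Type u) [CommRing R] {ι : Type u} [Preorder ι]
    [IsDirectedOrder ι] [Nonempty ι] (G : ι → Type u) [∀ i, CommRing (G i)] [∀ i, Algebra R (G i)]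
    (f : ∀ i j : ι, i ≤ j → (G i →ₐ[R] G j)) [DirectedSystem G (fun i j h => f i j h)]
    (hs : ∀ i, Algebra.Smooth R (G i))
    (hN : ∀ (p : Ideal R) [p.IsPrime], IsNoetherianRing (p.Fiber (DirectLimit G f))) :
    CAlg.IsRegularHom R (DirectLimit G f) := by
  refine ⟨IndRegLib.flat_directLimit fun i => haveI := hs i; inferInstance, fun p _ => ⟨hN p, fun k' _ _ hk' => ?_⟩⟩
  haveI := hN p
  let C := TensorProduct p.ResidueField k' (p.Fiber (DirectLimit G f))
  haveI : IsNoetherianRing C := by
    haveI : IsNoetherianRing (TensorProduct p.ResidueField (p.Fiber (DirectLimit G f)) k') :=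
      IsNoetherianRing.of_finite (p.Fiber (DirectLimit G f))
        (TensorProduct p.ResidueField (p.Fiber (DirectLimit G f)) k')
    exact isNoetherianRing_of_ringEquiv _ (Algebra.TensorProduct.comm p.ResidueField (p.Fiber (DirectLimit G f)) k').toRingEquiv
  letI : Algebra R k' := ((algebraMap p.ResidueField k').comp (algebraMap R p.ResidueField)).toAlgebra
  haveI : IsScalarTower R p.ResidueField k' := IsScalarTower.of_algebraMap_eq fun _ => rfl
  let e := (Algebra.TensorProduct.cancelBaseChange R p.ResidueField k' k' (DirectLimit G f)).toRingEquiv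
  haveI : IsNoetherianRing (TensorProduct R k' (DirectLimit G f)) := isNoetherianRing_of_ringEquiv C e
  haveI := IndRegLib.isRegularRing (IndRegLib.indRegRing_baseChange (f := f) hs k')
  exact IsRegularRing.of_ringEquiv e.symm

end Groth.Agent.S9308
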