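import Groth.Statements.S9309
import Groth.Agent.HensColimLib.Stage

set_option autoImplicit false
set_option linter.style.haveILetI false
universe u
open CAlg

namespace Groth.Agent.S9309

/-- Every henselian local ring A is the colimit of a directed system of henselian local G-rings whose
transition maps are local homomorphisms; that is, there is such a system whose direct limit is
isomorphic to A. -/
theorem result (A : Type u) [CommRing A]
    [HenselianLocalRing A] :
    ∃ (ι : Type u) (_ : Preorder ι) (_ : IsDirectedOrder ι) (_ : Nonempty ι) (G : ι → Type u)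
      (_ : ∀ i, CommRing (G i)) (f : ∀ i j : ι, i ≤ j → (G i →+* G j))
      (_ : DirectedSystem G (fun i j h => f i j h)),
      (∀ i, HenselianLocalRing (G i) ∧ CAlg.IsGRing (G i)) ∧
      (∀ (i j : ι) (h : i ≤ j), IsLocalHom (f i j h)) ∧
      Nonempty (A ≃+* DirectLimit G f) := by
  classical
  obtain ⟨G, hmono, hmem, hG⟩ := HensColimLib.exists_stages A
  let f : ∀ i j : Finset A, i ≤ j → (G i →+* G j) := fun i j h => Subring.inclusion (hmono h)
  haveI hds : DirectedSystem (fun i => G i) (fun i j h => f i j h) :=
    { map_self := fun _ _ => rfl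
      map_map := fun _ _ _ _ _ _ => rfl }
  haveI : Nonempty (Finset A) := ⟨∅⟩
  let Φ : DirectLimit (fun i => G i) f →+* A :=
    DirectLimit.Ring.lift (fun i => G i) f A (fun i => (G i).subtype) fun _ _ _ _ => rfl
  refine ⟨Finset A, inferInstance, inferInstance, inferInstance, fun i => G i, inferInstance, f, hds,
    fun i => ⟨(hG i).1, (hG i).2.1⟩, fun i j h => ⟨fun x hx => (hG i).2.2.map_nonunit x (hx.map (G j).subtype)⟩,
    ⟨(RingEquiv.ofBijective Φ ⟨?_, fun a => ?_⟩).symm⟩⟩
  · exact DirectLimit.lift_injective _ (fun i (x : G i) => (x : A)) (fun _ _ _ _ => rfl) fun i => Subtype.val_injective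
  · exact ⟨DirectLimit.Ring.of (fun i => G i) f {a} ⟨a, hmem {a} a (Finset.mem_singleton_self a)⟩, rfl⟩

end Groth.Agent.S9309
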