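import Groth.Statements.S9310
import Groth.Agent.CohenLib.FSRegular
import Mathlib.RingTheory.MvPowerSeries.Substitution
-- import your own Groth.Agent.* helpers here

set_option autoImplicit false
universe u
open CAlg

namespace Groth.Agent.S9310

/-- Let K be a field, A = K[[x_1, ..., x_n]], and y_1, ..., y_n ∈ A a regular system of parameters (n
elements generating the maximal ideal). Then the substitution map K[[y_1, ..., y_n]] → A is an
isomorphism: f ↦ f(y_1, ..., y_n) is a bijection of K[[x_1, ..., x_n]] onto itself. -/
theorem result (K : Type u) [Field K] (n : ℕ)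
    (y : Fin n → MvPowerSeries (Fin n) K)
    (hy : Ideal.span (Set.range y) = IsLocalRing.maximalIdeal (MvPowerSeries (Fin n) K)) :
    Function.Bijective (MvPowerSeries.subst y : MvPowerSeries (Fin n) K → MvPowerSeries (Fin n) K) := by
  have := CohenLib.isRegularLocalRing_mvPowerSeries K n
  have hmax := CohenLib.maximalIdeal_mvPowerSeries_field (L := K) n
  have hy0 : ∀ i, MvPowerSeries.constantCoeff (y i) = 0 := fun i => by
    have hyi : y i ∈ IsLocalRing.maximalIdeal (MvPowerSeries (Fin n) K) := hy ▸ Ideal.subset_span ⟨i, rfl⟩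
    by_contra hne
    exact hyi (MvPowerSeries.isUnit_iff_constantCoeff.2 (IsUnit.mk0 _ hne))
  have hsub : MvPowerSeries.HasSubst y := MvPowerSeries.hasSubst_of_constantCoeff_zero hy0
  let ψ : MvPowerSeries (Fin n) K →ₐ[K] MvPowerSeries (Fin n) K := MvPowerSeries.substAlgHom hsub
  have hmap : (CohenLib.varsIdeal K n).map ψ.toRingHom = IsLocalRing.maximalIdeal (MvPowerSeries (Fin n) K) := by
    rw [← hy, CohenLib.varsIdeal, Ideal.map_span, ← Set.range_comp]
    congr 1
    refine congrArg Set.range (funext fun i => ?_)
    exact MvPowerSeries.substAlgHom_X hsub i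
  haveI := CohenLib.isAdicComplete_varsIdeal (n := n) K
  haveI : IsHausdorff (IsLocalRing.maximalIdeal (MvPowerSeries (Fin n) K)) (MvPowerSeries (Fin n) K) := by
    rw [hmax]; infer_instance
  have hs : Function.Surjective ψ := by
    refine CohenLib.surjective_of_complete (I := IsLocalRing.maximalIdeal _) _ ψ.toRingHom hmap fun r => ?_
    refine ⟨algebraMap K _ (MvPowerSeries.constantCoeff r), ?_⟩
    show r - ψ (algebraMap K _ _) ∈ _
    rw [AlgHom.commutes]
    intro hu
    have := MvPowerSeries.isUnit_iff_constantCoeff.1 hu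
    simp [MvPowerSeries.algebraMap_apply] at this
  have hb := CohenLib.bijective_of_regular K ψ.toRingHom hs (by
    rw [CohenLib.spanFinrank_maximalIdeal_mvPowerSeries])
  have : (MvPowerSeries.subst y : MvPowerSeries (Fin n) K → MvPowerSeries (Fin n) K) = ψ :=
    (MvPowerSeries.coe_substAlgHom hsub).symm
  rw [this]
  exact hb

end Groth.Agent.S9310
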