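import Groth.Statements.S9311
import Groth.Agent.CohenLib.PSLocal
import Groth.Agent.CommAlgDim.RegularRing
import Mathlib.RingTheory.MvPowerSeries.Substitution

set_option autoImplicit false
universe u
open CAlg

namespace Groth.Agent.S9311

/-- Let Λ be a Cohen ring (a complete discrete valuation ring whose maximal ideal is generated by a
prime number p), B = Λ[[x_1, ..., x_n]], and y_1, ..., y_n ∈ B with zero constant terms such that p,
y_1, ..., y_n is a regular system of parameters of B (these n + 1 elements generate the maximal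
ideal). Then the substitution map Λ[[y_1, ..., y_n]] → B is an isomorphism: f ↦ f(y_1, ..., y_n) is
a bijection of Λ[[x_1, ..., x_n]] onto itself. (The published statement allows the y_i to have
constant terms in pΛ, the substitution being defined through the (p, x)-adic topology of B; this row
asks the constant terms to vanish, the case in which substitution is defined coefficientwise with no
topology on Λ.) -/
theorem result (Λ : Type u) [CommRing Λ] [IsDomain Λ]
    [IsDiscreteValuationRing Λ] [IsAdicComplete (IsLocalRing.maximalIdeal Λ) Λ] (p : ℕ) (hp : p.Prime)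
    (hm : IsLocalRing.maximalIdeal Λ = Ideal.span {(p : Λ)}) (n : ℕ)
    (y : Fin n → MvPowerSeries (Fin n) Λ) (hy0 : ∀ i, MvPowerSeries.constantCoeff (y i) = 0)
    (hy : Ideal.span (insert (p : MvPowerSeries (Fin n) Λ) (Set.range y)) =
      IsLocalRing.maximalIdeal (MvPowerSeries (Fin n) Λ)) :
    Function.Bijective (MvPowerSeries.subst y : MvPowerSeries (Fin n) Λ → MvPowerSeries (Fin n) Λ) := by
  have hs : MvPowerSeries.HasSubst y := MvPowerSeries.hasSubst_of_constantCoeff_zero hy0
  let φ : MvPowerSeries (Fin n) Λ →+* MvPowerSeries (Fin n) Λ :=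
    (MvPowerSeries.substAlgHom (R := Λ) hs).toRingHom
  have hφ : ∀ f, φ f = MvPowerSeries.subst y f := fun f => by
    show MvPowerSeries.substAlgHom (R := Λ) hs f = _
    rw [MvPowerSeries.coe_substAlgHom]
  rw [show MvPowerSeries.subst y = ⇑φ from funext fun f => (hφ f).symm]
  have hφC : ∀ c, φ (MvPowerSeries.C c) = MvPowerSeries.C c := fun c => by
    show MvPowerSeries.substAlgHom (R := Λ) hs (algebraMap Λ _ c) = _
    rw [AlgHom.commutes]
    rfl
  have hφX : ∀ i, φ (MvPowerSeries.X i) = y i := fun i => by rw [hφ, MvPowerSeries.subst_X hs]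
  let N := MvPowerSeries (Fin n) Λ
  let a : Ideal N := (IsLocalRing.maximalIdeal Λ).map MvPowerSeries.C ⊔ CohenLib.varsIdeal Λ n
  have : IsAdicComplete a N := CohenLib.isAdicComplete_sup_varsIdeal Λ (IsLocalRing.maximalIdeal Λ)
  have hmap : a.map φ = a := by
    show Ideal.map φ (_ ⊔ _) = _
    rw [Ideal.map_sup, Ideal.map_map, CohenLib.varsIdeal, Ideal.map_span φ, ← Set.range_comp,
      show φ.comp MvPowerSeries.C = MvPowerSeries.C from RingHom.ext hφC,
      show φ ∘ MvPowerSeries.X = y from funext hφX]
    show _ = (IsLocalRing.maximalIdeal Λ).map MvPowerSeries.C ⊔ CohenLib.varsIdeal Λ n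
    rw [← CohenLib.maximalIdeal_mvPowerSeries, ← hy, hm, Ideal.map_span, Set.image_singleton,
      map_natCast, Ideal.span_insert]
  have hsurj : Function.Surjective φ := CohenLib.surjective_of_complete a a φ hmap fun r => by
    refine ⟨MvPowerSeries.C (MvPowerSeries.constantCoeff r), ?_⟩
    rw [hφC]
    refine Submodule.mem_sup_right ?_
    rw [← CohenLib.ker_constantCoeff, RingHom.mem_ker, map_sub, MvPowerSeries.constantCoeff_C, sub_self]
  have := CohenLib.isNoetherianRing_mvPowerSeries (n := n) Λ
  exact ⟨CohenLib.injective_of_surjective_ringEndo φ hsurj, hsurj⟩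

end Groth.Agent.S9311
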