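import Groth.Statements.S9312
import Mathlib.Algebra.MvPolynomial.Eval
import Mathlib.Algebra.MvPolynomial.Rename
import Mathlib.Algebra.Polynomial.Lifts
import Mathlib.RingTheory.TensorProduct.Maps
import Mathlib.RingTheory.Ideal.Quotient.Operations
import Mathlib.Algebra.Ring.Action.Invariant
import Mathlib.Algebra.Polynomial.Degree.Operations

set_option autoImplicit false
universe u
open CAlg

namespace Groth.Agent.S9312


section
open Polynomial
variable {R G : Type u} [CommRing R] [Group G] [MulSemiringAction G R]

/-- Coefficientwise action. -/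
noncomputable def act (σ : G) (τ : Type u) : MvPolynomial τ R →+* MvPolynomial τ R :=
  MvPolynomial.map (MulSemiringAction.toRingHom G R σ)

theorem act_incl (σ : G) (τ : Type u) (z : MvPolynomial τ (FixedPoints.subring R G)) :
    act σ τ (MvPolynomial.map (algebraMap (FixedPoints.subring R G) R) z) =
      MvPolynomial.map (algebraMap (FixedPoints.subring R G) R) z := by
  rw [act, MvPolynomial.map_map]
  congr 2
  exact RingHom.ext fun c => c.2 σ

theorem exists_norm [Fintype G] (τ : Type u) (x : MvPolynomial τ R) :
    ∃ Q : (MvPolynomial τ (FixedPoints.subring R G))[X],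
      Q.map (MvPolynomial.map (algebraMap (FixedPoints.subring R G) R)) =
        ∏ σ : G, (X - C (act σ τ x)) := by
  have hmul : ∀ g σ : G, act g τ (act σ τ x) = act (g * σ) τ x := fun g σ => by
    rw [act, act, act, MvPolynomial.map_map]
    congr 2
    exact RingHom.ext fun r => (mul_smul g σ r).symm
  have hfix : ∀ g : G, (∏ σ : G, (X - C (act σ τ x))).map (act g τ) = ∏ σ : G, (X - C (act σ τ x)) := fun g => by
    rw [Polynomial.map_prod]
    refine Fintype.prod_equiv (Equiv.mulLeft g) _ _ fun σ => ?_
    rw [Polynomial.map_sub, Polynomial.map_X, Polynomial.map_C, hmul]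
    rfl
  have hl : (∏ σ : G, (X - C (act σ τ x))) ∈
      Polynomial.lifts (MvPolynomial.map (σ := τ) (algebraMap (FixedPoints.subring R G) R)) := by
    rw [Polynomial.lifts_iff_coeff_lifts]
    intro n
    refine RingHom.mem_range.1 (MvPolynomial.mem_range_map_iff_coeffs_subset.2 ?_)
    intro c hc
    obtain ⟨m, -, rfl⟩ := MvPolynomial.mem_coeffs_iff.1 hc
    refine ⟨⟨_, fun g => ?_⟩, rfl⟩
    have h := congrArg (fun P => MvPolynomial.coeff m (P.coeff n)) (hfix g)
    simp only [Polynomial.coeff_map, act, MvPolynomial.coeff_map] at h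
    exact h
  exact (Polynomial.mem_lifts _).1 hl

end

/-- Let a finite group G with n elements act on a ring R by ring automorphisms, with invariant ring R^G,
and let A be an algebra over R^G; G acts on A ⊗ R through the factor R. (1) For every G-invariant b
∈ A ⊗ R there is a monic polynomial over A whose image in (A ⊗ R)[T] is (T - b)^n. (2) For every a
in the kernel of A → A ⊗ R, all coefficients of (T - a)^n below degree n vanish, that is (T - a)^n =
T^n in A[T]. -/
theorem result (R G A : Type u) [CommRing R] [Group G] [Fintype G]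
    [MulSemiringAction G R] [CommRing A] [Algebra (FixedPoints.subring R G) A] :
    (∀ b : TensorProduct (FixedPoints.subring R G) A R,
      (∀ σ : G, Algebra.TensorProduct.map (AlgHom.id (FixedPoints.subring R G) A)
        (MulSemiringAction.toAlgHom (FixedPoints.subring R G) R σ) b = b) →
      ∃ P : Polynomial A, P.Monic ∧
        Polynomial.map (algebraMap A (TensorProduct (FixedPoints.subring R G) A R)) P =
          (Polynomial.X - Polynomial.C b) ^ Fintype.card G) ∧
    (∀ a : A, algebraMap A (TensorProduct (FixedPoints.subring R G) A R) a = 0 →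
      ∀ i : ℕ, i < Fintype.card G → ((Polynomial.X - Polynomial.C a) ^ Fintype.card G).coeff i = 0) := by
  classical
  let π : MvPolynomial A (FixedPoints.subring R G) →ₐ[FixedPoints.subring R G] A := MvPolynomial.aeval id
  have hπ : Function.Surjective π := fun a => ⟨MvPolynomial.X a, MvPolynomial.aeval_X _ a⟩
  let j : MvPolynomial A (FixedPoints.subring R G) →ₐ[FixedPoints.subring R G] MvPolynomial A R :=
    MvPolynomial.mapAlgHom (Algebra.ofId (FixedPoints.subring R G) R)
  have hj : Function.Injective j := MvPolynomial.map_injective _ Subtype.val_injective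
  let ρ : MvPolynomial A R →+* TensorProduct (FixedPoints.subring R G) A R :=
    MvPolynomial.eval₂Hom
      ((Algebra.TensorProduct.includeRight : R →ₐ[FixedPoints.subring R G] TensorProduct (FixedPoints.subring R G) A R) : R →+* TensorProduct (FixedPoints.subring R G) A R)
      (fun a => a ⊗ₜ 1)
  have hρj : ρ.comp j.toRingHom = (algebraMap A (TensorProduct (FixedPoints.subring R G) A R)).comp π.toRingHom := by
    refine MvPolynomial.ringHom_ext (fun c => ?_) (fun a => ?_)
    · simp only [RingHom.comp_apply, AlgHom.toRingHom_eq_coe, RingHom.coe_coe, j, ρ, π,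
        MvPolynomial.mapAlgHom_apply, MvPolynomial.map_C, MvPolynomial.eval₂Hom_C, MvPolynomial.aeval_C,
        Algebra.TensorProduct.algebraMap_apply, Algebra.TensorProduct.includeRight_apply]
      rw [Algebra.algebraMap_self_apply]
      show (1 : A) ⊗ₜ[FixedPoints.subring R G] algebraMap (FixedPoints.subring R G) R c = _
      rw [Algebra.algebraMap_eq_smul_one c, Algebra.algebraMap_eq_smul_one c, TensorProduct.tmul_smul,
        TensorProduct.smul_tmul']
    · simp [j, ρ, π]
  refine ⟨fun b hb => ?_, fun a ha i hi => ?_⟩
  · obtain ⟨x, rfl⟩ : ∃ x, ρ x = b := by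
      induction b using TensorProduct.induction_on with
      | zero => exact ⟨0, map_zero _⟩
      | tmul a r => exact ⟨MvPolynomial.X a * MvPolynomial.C r, by simp [ρ]⟩
      | add y z _ _ =>
        clear hb
        have : ∀ w, ∃ x, ρ x = w := fun w => by
          induction w using TensorProduct.induction_on with
          | zero => exact ⟨0, map_zero _⟩
          | tmul a r => exact ⟨MvPolynomial.X a * MvPolynomial.C r, by simp [ρ]⟩
          | add y z hy hz =>
            obtain ⟨u, hu⟩ := hy
            obtain ⟨v, hv⟩ := hz
            exact ⟨u + v, by rw [map_add, hu, hv]⟩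
        exact this _
    obtain ⟨Q, hQ⟩ := exists_norm (G := G) A x
    have hact : ∀ σ : G, ρ (act σ A x) = ρ x := fun σ => by
      have h : ρ.comp (act σ A) = (Algebra.TensorProduct.map (AlgHom.id (FixedPoints.subring R G) A)
          (MulSemiringAction.toAlgHom (FixedPoints.subring R G) R σ)).toRingHom.comp ρ := by
        refine MvPolynomial.ringHom_ext (fun c => ?_) (fun a => ?_) <;> simp [act, ρ]
      exact (RingHom.congr_fun h x).trans (hb σ)
    refine ⟨Q.map π.toRingHom, ?_, ?_⟩
    · refine (Polynomial.monic_of_injective (MvPolynomial.map_injective (algebraMap (FixedPoints.subring R G) R) Subtype.val_injective) ?_).map _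
      rw [hQ]
      exact Polynomial.monic_prod_of_monic _ _ fun σ _ => Polynomial.monic_X_sub_C _
    · rw [Polynomial.map_map, ← hρj, ← Polynomial.map_map]
      show Polynomial.map ρ (Q.map (MvPolynomial.map (algebraMap (FixedPoints.subring R G) R))) = _
      rw [hQ, Polynomial.map_prod]
      simp only [Polynomial.map_sub, Polynomial.map_X, Polynomial.map_C, hact, Finset.prod_const, Finset.card_univ]
  · obtain ⟨q, rfl⟩ := hπ a
    let J : Ideal (MvPolynomial A R) := (RingHom.ker π).map j
    let ψA : A →ₐ[FixedPoints.subring R G] MvPolynomial A R ⧸ J :=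
      (Ideal.Quotient.liftₐ (RingHom.ker π) ((Ideal.Quotient.mkₐ _ J).comp j)
        (fun z hz => Ideal.Quotient.eq_zero_iff_mem.2 (Ideal.mem_map_of_mem j hz))).comp
        (Ideal.quotientKerAlgEquivOfSurjective hπ).symm.toAlgHom
    let ψR : R →ₐ[FixedPoints.subring R G] MvPolynomial A R ⧸ J :=
      IsScalarTower.toAlgHom (FixedPoints.subring R G) R (MvPolynomial A R ⧸ J)
    have hψA : ∀ z, ψA (π z) = Ideal.Quotient.mk J (j z) := fun z => by
      have : (Ideal.quotientKerAlgEquivOfSurjective hπ).symm (π z) = Ideal.Quotient.mk _ z := by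
        rw [AlgEquiv.symm_apply_eq]; rfl
      simp only [ψA, AlgHom.comp_apply]
      show Ideal.Quotient.liftₐ _ _ _ ((Ideal.quotientKerAlgEquivOfSurjective hπ).symm (π z)) = _
      rw [this]
      rfl
    have hmem : j q ∈ J := by
      have h := congrArg (Algebra.TensorProduct.lift ψA ψR fun _ _ => Commute.all _ _) ha
      rw [Algebra.TensorProduct.algebraMap_apply, Algebra.TensorProduct.lift_tmul, map_one, mul_one, map_zero] at h
      exact Ideal.Quotient.eq_zero_iff_mem.1 ((hψA q).symm.trans h)
    obtain ⟨m, f, g, hfg⟩ := Submodule.mem_span_set'.1 hmem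
    choose v hv hjv using fun k => (g k).2
    let x : MvPolynomial (A ⊕ ULift.{u} (Fin m)) R :=
      ∑ k, MvPolynomial.rename Sum.inl (f k) * MvPolynomial.X (Sum.inr ⟨k⟩)
    obtain ⟨Q, hQ⟩ := exists_norm (G := G) _ x
    let eB : (ULift.{u} (Fin m) → MvPolynomial A (FixedPoints.subring R G)) →
        MvPolynomial (A ⊕ ULift.{u} (Fin m)) (FixedPoints.subring R G) →+* MvPolynomial A (FixedPoints.subring R G) :=
      fun w => MvPolynomial.eval₂Hom MvPolynomial.C (Sum.elim MvPolynomial.X w)
    have key : ∀ w, (Q.map (eB w)).map j.toRingHom =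
        ∏ σ : G, (Polynomial.X - Polynomial.C (act σ A (∑ k, f k * j (w ⟨k⟩)))) := by
      intro w
      let eR : MvPolynomial (A ⊕ ULift.{u} (Fin m)) R →+* MvPolynomial A R :=
        MvPolynomial.eval₂Hom MvPolynomial.C (Sum.elim MvPolynomial.X fun k => j (w k))
      have h1 : j.toRingHom.comp (eB w) = eR.comp (MvPolynomial.map (algebraMap (FixedPoints.subring R G) R)) := by
        refine MvPolynomial.ringHom_ext (fun c => ?_) (fun a => ?_)
        · simp [eB, eR, j]
        · rcases a with a | a <;> simp [eB, eR, j]
      have h2 : ∀ σ : G, eR.comp (act σ _) = (act σ A).comp eR := fun σ => by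
        refine MvPolynomial.ringHom_ext (fun c => ?_) (fun a => ?_)
        · simp [eR, act]
        · rcases a with a | a
          · simp [eR, act]
          · simp only [RingHom.comp_apply, act, MvPolynomial.map_X, eR, MvPolynomial.eval₂Hom_X', Sum.elim_inr]
            exact (act_incl σ A (w a)).symm
      have h3 : eR x = ∑ k, f k * j (w ⟨k⟩) := by
        simp only [x, map_sum, map_mul, eR, MvPolynomial.eval₂Hom_X', Sum.elim_inr]
        refine Finset.sum_congr rfl fun k _ => ?_
        congr 1
        rw [MvPolynomial.eval₂Hom_rename]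
        exact MvPolynomial.eval₂_eta _
      rw [Polynomial.map_map, h1, ← Polynomial.map_map, hQ, Polynomial.map_prod]
      refine Finset.prod_congr rfl fun σ _ => ?_
      rw [Polynomial.map_sub, Polynomial.map_X, Polynomial.map_C, ← h3]
      rw [show eR (act σ _ x) = act σ A (eR x) from RingHom.congr_fun (h2 σ) x]
    have hsum : ∑ k, f k * j (v k) = j q := by
      refine Eq.trans (Finset.sum_congr rfl fun k _ => ?_) hfg
      rw [hjv k]
      rfl
    have hQ1 : Q.map (eB fun k => v k.down) = (Polynomial.X - Polynomial.C q) ^ Fintype.card G := by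
      apply Polynomial.map_injective j.toRingHom hj
      rw [key, hsum, Polynomial.map_pow, Polynomial.map_sub, Polynomial.map_X, Polynomial.map_C]
      simp only [show ∀ σ : G, act σ A (j q) = j q from fun σ => act_incl σ A q, Finset.prod_const, Finset.card_univ]
      rfl
    have hQ0 : Q.map (eB 0) = Polynomial.X ^ Fintype.card G := by
      apply Polynomial.map_injective j.toRingHom hj
      rw [key, Polynomial.map_pow, Polynomial.map_X]
      simp
    have heq : π.toRingHom.comp (eB fun k => v k.down) = π.toRingHom.comp (eB 0) := by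
      refine MvPolynomial.ringHom_ext (fun c => ?_) (fun a => ?_)
      · simp [eB]
      · rcases a with a | a
        · simp [eB]
        · simpa [eB] using hv a.down
    have hfin : (Polynomial.X - Polynomial.C (π q)) ^ Fintype.card G = Polynomial.X ^ Fintype.card G := by
      have h := congrArg (fun φ => Polynomial.map φ Q) heq
      simp only [← Polynomial.map_map, hQ1, hQ0, Polynomial.map_pow, Polynomial.map_sub, Polynomial.map_X,
        Polynomial.map_C] at h
      exact h
    rw [hfin, Polynomial.coeff_X_pow, if_neg hi.ne]

end Groth.Agent.S9312
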