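import Groth.Statements.S9313
import Groth.Agent.IdemIntClLib.Basic
-- import your own Groth.Agent.* helpers here

set_option autoImplicit false
universe u
open CAlg

namespace Groth.Agent.S9313

/-- Let A be a ring with an ideal I and A → B a ring map of finite type, and suppose B/IB = C_1 × C_2
(given by an idempotent e of B/IB with C_1 = (B/IB)/(1 - e)) where C_1 is finite over A/I. Writing
B' for the integral closure of A in B, some g ∈ B' has idempotent image in B'/IB' lifting e (so
B'/IB' = C_1' × C_2' compatibly with the decomposition of B/IB), and the map B'_g → B_g is an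
isomorphism (whence C_1' = C_1). -/
theorem result (A B : Type u) [CommRing A] [CommRing B]
    [Algebra A B] [Algebra.FiniteType A B] (I : Ideal A) (e : B ⧸ Ideal.map (algebraMap A B) I)
    (he : IsIdempotentElem e)
    (hfin : Module.Finite (A ⧸ I) ((B ⧸ Ideal.map (algebraMap A B) I) ⧸ Ideal.span {1 - e})) :
    ∃ g : integralClosure A B,
      IsIdempotentElem (Ideal.Quotient.mk (Ideal.map (algebraMap A (integralClosure A B)) I) g) ∧
      Ideal.Quotient.mk (Ideal.map (algebraMap A B) I) (g : B) = e ∧
      Function.Bijective (algebraMap (Localization.Away g)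
        (Localization (Algebra.algebraMapSubmonoid B (Submonoid.powers g)))) := by
  let IB := Ideal.map (algebraMap A B) I
  let C := (B ⧸ IB) ⧸ Ideal.span {1 - e}
  haveI : Module.Finite A C := Module.Finite.trans (A ⧸ I) C
  let f : B →ₐ[A] C := (Ideal.Quotient.mkₐ A _).comp (Ideal.Quotient.mkₐ A IB)
  have hf : Function.Surjective f :=
    (Ideal.Quotient.mk_surjective).comp Ideal.Quotient.mk_surjective
  obtain ⟨e', rfl⟩ := Ideal.Quotient.mk_surjective e
  have he' : f e' = 1 := ((Ideal.Quotient.eq).2 (Ideal.mem_span_singleton_self _)).symm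
  have hker : ∀ x ∈ RingHom.ker f, e' * x ∈ IB := fun x hx => by
    obtain ⟨c, hc⟩ := Ideal.mem_span_singleton.1 (Ideal.Quotient.eq_zero_iff_mem.1 (RingHom.mem_ker.1 hx : f x = 0))
    refine Ideal.Quotient.eq_zero_iff_mem.1 ?_
    rw [map_mul]
    refine (congrArg _ hc).trans ?_
    linear_combination (-c) * he.eq
  have hI : IB ≤ RingHom.ker f := fun x hx => by
    show Ideal.Quotient.mk _ (Ideal.Quotient.mk IB x) = 0
    rw [Ideal.Quotient.eq_zero_iff_mem.2 hx, map_zero]
  have hidem : e' * e' - e' ∈ IB := Ideal.Quotient.eq.1 (by rw [map_mul]; exact he.eq)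
  obtain ⟨g, hg, hg1, hg2⟩ := IdemIntClLib.exists_lift I f hf e' he' hker hI hidem
  haveI : IsScalarTower (integralClosure A B) (Localization (Submonoid.powers g)) (Localization (Algebra.algebraMapSubmonoid B (Submonoid.powers g))) := isScalarTower_localizationAlgebra _ B
  refine ⟨g, hg1, Ideal.Quotient.eq.2 hg2, ?_, ?_⟩
  · refine (injective_iff_map_eq_zero _).2 fun z hz => ?_
    obtain ⟨a, s, rfl⟩ := IsLocalization.exists_mk'_eq (Submonoid.powers g) z
    rw [IsLocalization.algebraMap_mk' B (Localization.Away g), IsLocalization.mk'_eq_zero_iff] at hz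
    obtain ⟨⟨_, _, ⟨m, rfl⟩, rfl⟩, hm⟩ := hz
    exact (IsLocalization.mk'_eq_zero_iff _ _).2 ⟨⟨g, Submonoid.mem_powers g⟩ ^ m, Subtype.ext (by simpa using hm)⟩
  · intro z
    obtain ⟨b, ⟨_, _, ⟨k, rfl⟩, rfl⟩, rfl⟩ := IsLocalization.exists_mk'_eq (Algebra.algebraMapSubmonoid B (Submonoid.powers g)) z
    obtain ⟨n, hn⟩ := hg b
    refine ⟨IsLocalization.mk' _ (⟨_, hn⟩ : integralClosure A B) ((⟨g, Submonoid.mem_powers g⟩ : Submonoid.powers g) ^ (n + k)), ?_⟩
    rw [IsLocalization.algebraMap_mk' B (Localization.Away g), IsLocalization.mk'_eq_iff_eq]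
    congr 1
    show (g : B) ^ k * ((g : B) ^ n * b) = (g ^ (n + k) : integralClosure A B) * b
    push_cast
    ring

end Groth.Agent.S9313
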