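import Groth.Statements.S9320
import Groth.Agent.FldSqLib.Index
import Groth.Agent.FldSqLib.Imperfection
import Groth.Agent.S9319

set_option autoImplicit false
set_option linter.style.haveILetI false
set_option maxHeartbeats 1000000
universe u
open CAlg

namespace Groth.Agent.S9320

open TensorProduct in
/-- Consider a commutative square of fields with maps `k → K`, `k → k'`, `k' → K'` and `K → K'`, where
`k'` is a finitely generated field extension of `k` and `K'` is a finitely generated field extension
of `K`. Let `α : Ω_{K/k} ⊗_K K' → Ω_{K'/k'}` and `β : H_1(L_{K/k}) ⊗_K K' → H_1(L_{K'/k'})` be the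
comparison maps (`H_1(L)` the first homology of the naive cotangent complex). Then the kernels and
cokernels of `α` and `β` are finite-dimensional `K'`-vector spaces, and the difference of
transcendence degrees trdeg_k(k') − trdeg_K(K') equals (dim Ker α + dim Coker β) − (dim Coker α +
dim Ker β). -/
theorem result {k k' K K' : Type u} [Field k] [Field k']
    [Field K] [Field K'] [Algebra k k'] [Algebra k K] [Algebra k K'] [Algebra k' K'] [Algebra K K']
    [IsScalarTower k k' K'] [IsScalarTower k K K']
    [Algebra.EssFiniteType k k'] [Algebra.EssFiniteType K K'] :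
    Module.Finite K' (LinearMap.ker ((KaehlerDifferential.map k k' K K').liftBaseChange K')) ∧
      Module.Finite K' (Ω[K'⁄k'] ⧸ LinearMap.range ((KaehlerDifferential.map k k' K K').liftBaseChange K')) ∧
      Module.Finite K' (LinearMap.ker ((Algebra.H1Cotangent.map k k' K K').liftBaseChange K')) ∧
      Module.Finite K' (Algebra.H1Cotangent k' K' ⧸ LinearMap.range ((Algebra.H1Cotangent.map k k' K K').liftBaseChange K')) ∧
      ((Module.finrank K' (LinearMap.ker ((KaehlerDifferential.map k k' K K').liftBaseChange K')) : ℤ)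
          - Module.finrank K' (Ω[K'⁄k'] ⧸ LinearMap.range ((KaehlerDifferential.map k k' K K').liftBaseChange K'))
          - Module.finrank K' (LinearMap.ker ((Algebra.H1Cotangent.map k k' K K').liftBaseChange K'))
          + Module.finrank K' (Algebra.H1Cotangent k' K' ⧸ LinearMap.range ((Algebra.H1Cotangent.map k k' K K').liftBaseChange K'))
        = (Cardinal.toNat (Algebra.trdeg k k') : ℤ) - Cardinal.toNat (Algebra.trdeg K K')) := by
  let hk := FldSqLib.h1_index k k'
  let hK := FldSqLib.h1_index K K'
  obtain ⟨hΩk, hHk, hk⟩ := hk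
  obtain ⟨hΩK, hHK, hK⟩ := hK
  haveI := hΩk; haveI := hHk; haveI := hΩK; haveI := hHK
  -- the two differentials
  let δ := Algebra.H1Cotangent.δ k K K'
  let δ' := Algebra.H1Cotangent.δ k k' K'
  let f := KaehlerDifferential.mapBaseChange k K K'
  let g := KaehlerDifferential.map k k' K' K'
  let f1 := (Algebra.H1Cotangent.map k k K K').liftBaseChange K'
  let g1 := Algebra.H1Cotangent.map k k' K' K'
  let f2 := (Algebra.H1Cotangent.map k k k' K').liftBaseChange K'
  let h1 := Algebra.H1Cotangent.map k K K' K'
  have hα : (KaehlerDifferential.map k k' K K').liftBaseChange K' = g ∘ₗ f := by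
    refine TensorProduct.AlgebraTensorModule.ext fun c w => ?_
    rw [LinearMap.liftBaseChange_tmul, LinearMap.comp_apply, KaehlerDifferential.mapBaseChange_tmul, map_smul]
    congr 1
    have hw : w ∈ Submodule.span K (Set.range (KaehlerDifferential.D k K)) := by
      rw [KaehlerDifferential.span_range_derivation]; trivial
    induction hw using Submodule.span_induction with
    | mem y hy =>
      obtain ⟨x, rfl⟩ := hy
      simp [g, KaehlerDifferential.map_D]
    | zero => simp
    | add x y _ _ hx hy => rw [map_add, map_add, map_add, hx, hy]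
    | smul c x _ hx =>
      rw [map_smul, map_smul, ← algebraMap_smul K' c ((KaehlerDifferential.map k k K K') x), map_smul, algebraMap_smul, hx]
  have hβ : (Algebra.H1Cotangent.map k k' K K').liftBaseChange K' = g1 ∘ₗ f1 := by
    refine TensorProduct.AlgebraTensorModule.ext fun c w => ?_
    rw [LinearMap.liftBaseChange_tmul, LinearMap.comp_apply]
    show _ = g1 ((Algebra.H1Cotangent.map k k K K').liftBaseChange K' (c ⊗ₜ w))
    rw [LinearMap.liftBaseChange_tmul, map_smul]
    congr 1
    show Algebra.H1Cotangent.map k k' K K' w =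
      Algebra.H1Cotangent.map k k' K' K' (Algebra.H1Cotangent.map k k K K' w)
    unfold Algebra.H1Cotangent.map
    rw [← Algebra.Extension.H1Cotangent.map_comp_apply]
    exact LinearMap.congr_fun (Algebra.Extension.H1Cotangent.map_eq _ _) w
  -- `f`
  have ef : (Ω[K'⁄k] ⧸ LinearMap.range f) ≃ₗ[K'] Ω[K'⁄K] :=
    (Submodule.quotEquivOfEq _ _ (KaehlerDifferential.range_mapBaseChange k K K')).trans
      (LinearMap.quotKerEquivOfSurjective _ (KaehlerDifferential.map_surjective k K K'))
  have ekf : LinearMap.ker f = LinearMap.range δ :=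
    LinearMap.exact_iff.1 (Algebra.H1Cotangent.exact_δ_mapBaseChange k K K')
  haveI : Module.Finite K' (LinearMap.ker f) := ekf ▸ inferInstance
  haveI : Module.Finite K' (Ω[K'⁄k] ⧸ LinearMap.range f) := Module.Finite.equiv ef.symm
  -- `g`
  have ekg : LinearMap.ker g = LinearMap.range (KaehlerDifferential.mapBaseChange k k' K') :=
    (KaehlerDifferential.range_mapBaseChange k k' K').symm
  have hgs : LinearMap.range g = ⊤ := LinearMap.range_eq_top.2 (KaehlerDifferential.map_surjective k k' K')
  haveI : Module.Finite K' (LinearMap.ker g) := ekg ▸ inferInstance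
  haveI : Subsingleton (Ω[K'⁄k'] ⧸ LinearMap.range g) := Submodule.Quotient.subsingleton_iff.2 hgs
  have ng : Module.finrank K' (LinearMap.ker g) + Module.finrank K' (LinearMap.range δ') =
      Module.finrank k' Ω[k'⁄k] := by
    rw [ekg, ← Module.finrank_baseChange (R := K') (S := k') (M' := Ω[k'⁄k]),
      ← LinearMap.finrank_range_add_finrank_ker (KaehlerDifferential.mapBaseChange k k' K'),
      LinearMap.exact_iff.1 (Algebra.H1Cotangent.exact_δ_mapBaseChange k k' K')]
  -- `f1`
  have hf1 : Function.Injective f1 := Groth.Agent.S9319.result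
  have erf : LinearMap.range f1 = LinearMap.ker h1 :=
    (LinearMap.exact_iff.1 (Algebra.H1Cotangent.exact_liftBaseChange_map_of_flat k K K')).symm
  have erh : LinearMap.range h1 = LinearMap.ker δ :=
    (LinearMap.exact_iff.1 (Algebra.H1Cotangent.exact_map_δ k K K')).symm
  have ef1 : (Algebra.H1Cotangent k K' ⧸ LinearMap.range f1) ≃ₗ[K'] LinearMap.ker δ :=
    ((Submodule.quotEquivOfEq _ _ erf).trans h1.quotKerEquivRange).trans (LinearEquiv.ofEq _ _ erh)
  haveI : Module.Finite K' (LinearMap.ker δ) := inferInstance
  haveI : Module.Finite K' (Algebra.H1Cotangent k K' ⧸ LinearMap.range f1) := Module.Finite.equiv ef1.symm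
  have hkf1 : LinearMap.ker f1 = ⊥ := LinearMap.ker_eq_bot.2 hf1
  haveI : Module.Finite K' (LinearMap.ker f1) := hkf1 ▸ inferInstance
  -- `g1`
  have hf2 : Function.Injective f2 := Groth.Agent.S9319.result
  have ekg1 : LinearMap.ker g1 = LinearMap.range f2 :=
    LinearMap.exact_iff.1 (Algebra.H1Cotangent.exact_liftBaseChange_map_of_flat k k' K')
  haveI : Module.Finite K' (LinearMap.ker g1) := ekg1 ▸ inferInstance
  have eg1 : (Algebra.H1Cotangent k' K' ⧸ LinearMap.range g1) ≃ₗ[K'] LinearMap.range δ' :=
    (Submodule.quotEquivOfEq _ _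
      (LinearMap.exact_iff.1 (Algebra.H1Cotangent.exact_map_δ k k' K')).symm).trans δ'.quotKerEquivRange
  haveI : Module.Finite K' (LinearMap.range δ') :=
    (LinearMap.exact_iff.1 (Algebra.H1Cotangent.exact_δ_mapBaseChange k k' K')) ▸ inferInstance
  haveI : Module.Finite K' (Algebra.H1Cotangent k' K' ⧸ LinearMap.range g1) := Module.Finite.equiv eg1.symm
  obtain ⟨a1, a2, a3⟩ := FldSqLib.index_comp f g
  obtain ⟨b1, b2, b3⟩ := FldSqLib.index_comp f1 g1
  rw [hα, hβ]
  refine ⟨a1, a2, b1, b2, ?_⟩
  have nf : Module.finrank K' (LinearMap.ker f) = Module.finrank K' (LinearMap.range δ) := by rw [ekf]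
  have nf' := ef.finrank_eq
  have ng' : Module.finrank K' (Ω[K'⁄k'] ⧸ LinearMap.range g) = 0 := Module.finrank_zero_of_subsingleton
  have nf1 : Module.finrank K' (LinearMap.ker f1) = 0 := by rw [hkf1, finrank_bot]
  have nf1' := ef1.finrank_eq
  have ng1 : Module.finrank K' (LinearMap.ker g1) = Module.finrank k' (Algebra.H1Cotangent k k') := by
    rw [ekg1, LinearMap.finrank_range_of_inj hf2, Module.finrank_baseChange]
  have ng1' := eg1.finrank_eq
  have nδ := LinearMap.finrank_range_add_finrank_ker δ
  omega

end Groth.Agent.S9320
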