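import Groth.Statements.S9321
import Groth.Agent.CohenLib.FSRegular
import Groth.Agent.PerfectFieldLib.FormallySmooth
-- import your own Groth.Agent.* helpers here

set_option autoImplicit false
open CAlg

namespace Groth.Agent.S9321

/-- Let `K` be a field of characteristic zero and `n ≥ 0`. Then `ℚ → K[[x_1, …, x_n]]` is formally
smooth for the adic topology of the maximal ideal of the power series ring. (`K` is taken in the
lowest universe, where `ℚ` lives.) -/
theorem result (K : Type) [Field K] [CharZero K] (n : ℕ) :
    CAlgX.IsAdicFormallySmooth ℚ (MvPowerSeries (Fin n) K)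
      (IsLocalRing.maximalIdeal (MvPowerSeries (Fin n) K)) := by
  have := CohenLib.isRegularLocalRing_mvPowerSeries K n
  haveI : Algebra.FormallySmooth ℚ (IsLocalRing.ResidueField (MvPowerSeries (Fin n) K)) :=
    Groth.Agent.PerfectFieldLib.formallySmooth_of_perfectField _ _
  exact CohenLib.liftsAdic_of_regular _ _

end Groth.Agent.S9321
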