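import Groth.Statements.S9323
import Groth.Agent.CohenLib.Structure
import Groth.Agent.CohenLib.PSLocal
import Mathlib.RingTheory.Noetherian.Nilpotent

set_option autoImplicit false
open CAlg

namespace Groth.Agent.S9323

/-- Let `Λ` be a Cohen ring (a complete discrete valuation ring whose maximal ideal is generated by a
prime number) and `n ≥ 0`. Then `ℤ → Λ[[x_1, …, x_n]]` is formally smooth for the adic topology of
the maximal ideal of the power series ring. (`Λ` is taken in the lowest universe, where `ℤ` lives.) -/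
theorem result (Λ : Type) [CommRing Λ] [IsLocalRing Λ]
    (hΛ : CAlg.IsCohenRing Λ) (n : ℕ) :
    CAlgX.IsAdicFormallySmooth ℤ (MvPowerSeries (Fin n) Λ)
      (IsLocalRing.maximalIdeal (MvPowerSeries (Fin n) Λ)) := by
  obtain ⟨p, hp, hm, hc, -, -, -, -, hl⟩ := CohenLib.cohen_props hΛ
  intro A _ _ J hJ ψ hψ
  obtain ⟨k, hk⟩ := hψ
  have hmem : ∀ z : Λ, z ∈ IsLocalRing.maximalIdeal Λ → MvPowerSeries.C z ∈
      IsLocalRing.maximalIdeal (MvPowerSeries (Fin n) Λ) := fun z hz => by
    rw [CohenLib.maximalIdeal_mvPowerSeries]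
    exact Submodule.mem_sup_left (Ideal.mem_map_of_mem _ hz)
  have hXm : ∀ i, MvPowerSeries.X i ∈ IsLocalRing.maximalIdeal (MvPowerSeries (Fin n) Λ) :=
    fun i => by
      rw [CohenLib.maximalIdeal_mvPowerSeries]
      exact Submodule.mem_sup_right (Submodule.subset_span ⟨i, rfl⟩)
  have hsq : ∀ a : A, Ideal.Quotient.mk J a ^ k = 0 → IsNilpotent a := fun a ha => by
    refine ⟨k * 2, ?_⟩
    rw [← map_pow, Ideal.Quotient.eq_zero_iff_mem] at ha
    have h2 := Ideal.pow_mem_pow ha 2
    rw [hJ, Ideal.mem_bot, ← pow_mul] at h2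
    exact h2
  have hpA : IsNilpotent (p : A) := by
    refine hsq _ ?_
    have h1 := hk _ (Ideal.pow_mem_pow (hmem (p : Λ) (hm ▸ Ideal.mem_span_singleton_self _)) k)
    rwa [map_pow, map_natCast, map_natCast, ← map_natCast (Ideal.Quotient.mk J)] at h1
  obtain ⟨g, hg⟩ := hl A J ⟨2, hJ⟩ hpA (ψ.toRingHom.comp MvPowerSeries.C)
  choose a ha using fun i => Ideal.Quotient.mk_surjective (ψ (MvPowerSeries.X i))
  let I : Ideal A := Ideal.span (Set.range a)
  have hI : IsNilpotent I := by
    refine (Ideal.FG.isNilpotent_iff_le_nilradical (Submodule.fg_span (Set.finite_range a))).2 ?_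
    rw [Ideal.span_le]
    rintro _ ⟨i, rfl⟩
    refine mem_nilradical.2 (hsq _ ?_)
    rw [ha, ← map_pow]
    exact hk _ (Ideal.pow_mem_pow (hXm i) k)
  have := CohenLib.isAdicComplete_of_isNilpotent I hI
  have hai : ∀ i, a i ∈ I := fun i => Ideal.subset_span ⟨i, rfl⟩
  let χ := CohenLib.psHom I g a hai
  obtain ⟨N, hN⟩ := hI
  have hχvars : ∀ f ∈ CohenLib.varsIdeal Λ n ^ (N + k), χ f = 0 := fun f hf => by
    have h1 := Ideal.mem_map_of_mem χ hf
    have h2 : (CohenLib.varsIdeal Λ n).map χ ≤ I := by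
      rw [CohenLib.varsIdeal, Ideal.map_span χ, Ideal.span_le]
      rintro _ ⟨_, ⟨i, rfl⟩, rfl⟩
      show χ _ ∈ I
      rw [CohenLib.psHom_X]
      exact hai i
    rw [Ideal.map_pow] at h1
    have h3 := Ideal.pow_right_mono h2 _ h1
    rw [pow_add, hN, zero_mul] at h3
    exact h3
  have heq : (Ideal.Quotient.mk J).comp χ = ψ.toRingHom := by
    refine CohenLib.ps_hom_ext _ _ (fun c => ?_) (fun i => ?_) (N + k) (fun f hf => ?_) fun f hf => ?_
    · rw [RingHom.comp_apply, CohenLib.psHom_C]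
      exact RingHom.congr_fun hg c
    · rw [RingHom.comp_apply, CohenLib.psHom_X, ha]
      rfl
    · rw [RingHom.comp_apply, hχvars f hf, map_zero]
    · refine hk f (Ideal.pow_le_pow_right (Nat.le_add_left k N) (Ideal.pow_right_mono ?_ _ hf))
      rw [CohenLib.maximalIdeal_mvPowerSeries]
      exact le_sup_right
  refine ⟨{ χ with commutes' := fun z => by simp }, AlgHom.ext fun f => ?_⟩
  exact RingHom.congr_fun heq f

end Groth.Agent.S9323
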