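import Groth.Statements.S9325
import Mathlib

set_option autoImplicit false
universe u
open CAlg

namespace Groth.Agent.S9325

/-- Let `A` be a ring and `I ⊆ J` ideals of `A` such that the ideal `J/I` of `A/I` is `H_1`-regular: for
every prime `𝔮` of `A/I` containing `J/I` there is `g ∉ 𝔮` such that the extension of `J/I` to
`(A/I)_g` is generated by an `H_1`-regular sequence (a finite sequence all of whose linear relations
are combinations of the trivial ones). Then `I ∩ J² = I J`. -/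
theorem result {A : Type u} [CommRing A] (I J : Ideal A)
    (hIJ : I ≤ J)
    (h : ∀ (𝔮 : Ideal (A ⧸ I)) [𝔮.IsPrime], J.map (Ideal.Quotient.mk I) ≤ 𝔮 →
      ∃ g : A ⧸ I, g ∉ 𝔮 ∧ ∃ (c : ℕ) (f : Fin c → Localization.Away g),
        CAlgX.IsH1Regular f ∧
          Ideal.span (Set.range f) =
            (J.map (Ideal.Quotient.mk I)).map (algebraMap (A ⧸ I) (Localization.Away g))) :
    I ⊓ J ^ 2 = I * J := by
  classical
  refine le_antisymm ?_ (le_inf Ideal.mul_le_left ((Ideal.mul_mono_left hIJ).trans (le_of_eq (pow_two J).symm)))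
  rintro x ⟨hxI, hxJ⟩
  by_contra hx
  let K : Ideal A :=
    { carrier := {t | t * x ∈ I * J}
      add_mem' := fun {a b} ha hb => by
        simp only [Set.mem_setOf_eq, add_mul] at *
        exact add_mem ha hb
      zero_mem' := by simp
      smul_mem' := fun c t ht => by
        simp only [Set.mem_setOf_eq, smul_eq_mul, mul_assoc] at *
        exact Ideal.mul_mem_left _ _ ht }
  have hK : ∀ t, t ∈ K ↔ t * x ∈ I * J := fun t => Iff.rfl
  have hKne : K ≠ ⊤ := fun h1 => hx (by simpa using (hK 1).1 (h1 ▸ trivial))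
  obtain ⟨p, hpmax, hKp⟩ := Ideal.exists_le_maximal K hKne
  haveI := hpmax.isPrime
  have hJK : J ≤ K := fun t ht => (hK t).2 (by rw [mul_comm t x]; exact Ideal.mul_mem_mul hxI ht)
  have hIp : I ≤ p := (hIJ.trans hJK).trans hKp
  haveI hq : (p.map (Ideal.Quotient.mk I)).IsPrime :=
    Ideal.map_isPrime_of_surjective Ideal.Quotient.mk_surjective (by rwa [Ideal.mk_ker])
  obtain ⟨gb, hgb, c, f, hf, hfspan⟩ := h (p.map (Ideal.Quotient.mk I)) (Ideal.map_mono (hJK.trans hKp))
  obtain ⟨g, rfl⟩ := Ideal.Quotient.mk_surjective gb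
  let L := Localization.Away (Ideal.Quotient.mk I g)
  let φ : A →+* L := (algebraMap (A ⧸ I) L).comp (Ideal.Quotient.mk I)
  let u : L := φ g
  have hu : IsUnit u := IsLocalization.Away.algebraMap_isUnit (Ideal.Quotient.mk I g)
  have hsurj : ∀ z : L, ∃ (a : A) (k : ℕ), z * u ^ k = φ a := fun z => by
    obtain ⟨⟨b, ⟨_, k, rfl⟩⟩, hb⟩ := IsLocalization.surj (Submonoid.powers (Ideal.Quotient.mk I g)) z
    obtain ⟨a, rfl⟩ := Ideal.Quotient.mk_surjective b
    exact ⟨a, k, by simpa [u, φ] using hb⟩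
  have hzero : ∀ a : A, φ a = 0 → ∃ k, g ^ k * a ∈ I := fun a ha => by
    obtain ⟨⟨_, k, rfl⟩, hk⟩ := (IsLocalization.map_eq_zero_iff (Submonoid.powers (Ideal.Quotient.mk I g)) L _).1 ha
    refine ⟨k, Ideal.Quotient.eq_zero_iff_mem.1 ?_⟩
    rw [map_mul, map_pow]
    exact hk
  rw [Ideal.map_map] at hfspan
  -- generators coming from `J`, up to a common unit
  have hlift : ∀ i, ∃ (y : A) (k : ℕ), y ∈ J ∧ f i * u ^ k = φ y := fun i => by
    have hi : f i ∈ J.map φ := hfspan.le (Ideal.subset_span ⟨i, rfl⟩)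
    refine Submodule.span_induction (p := fun z _ => ∃ (y : A) (k : ℕ), y ∈ J ∧ z * u ^ k = φ y) ?_ ?_ ?_ ?_ hi
    · rintro _ ⟨a, ha, rfl⟩; exact ⟨a, 0, ha, by simp⟩
    · exact ⟨0, 0, J.zero_mem, by simp⟩
    · rintro a b - - ⟨y, k, hy, e⟩ ⟨y', k', hy', e'⟩
      refine ⟨y * g ^ k' + y' * g ^ k, k + k', add_mem (J.mul_mem_right _ hy) (J.mul_mem_right _ hy'), ?_⟩
      rw [map_add, map_mul, map_mul, map_pow, map_pow, ← e, ← e']
      ring
    · rintro r a - ⟨y, k, hy, e⟩
      obtain ⟨b, k', e'⟩ := hsurj r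
      exact ⟨b * y, k' + k, J.mul_mem_left _ hy, by rw [map_mul, ← e, ← e', smul_eq_mul]; ring⟩
  choose y₀ k₀ hy₀ hfy₀ using hlift
  let N := Finset.univ.sup k₀
  let y : Fin c → A := fun i => g ^ (N - k₀ i) * y₀ i
  have hyJ : ∀ i, y i ∈ J := fun i => J.mul_mem_left _ (hy₀ i)
  have hfy : ∀ i, φ (y i) = f i * u ^ N := fun i => by
    have hk : k₀ i + (N - k₀ i) = N := Nat.add_sub_cancel' (Finset.le_sup (Finset.mem_univ i))
    conv_rhs => rw [← hk, pow_add, ← mul_assoc, hfy₀]
    simp only [y, map_mul, map_pow, u]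
    ring
  -- every element of `J` is a combination of the lifts modulo `I`, after inverting `g`
  have hgd : ∀ z ∈ J, ∃ (k : ℕ) (b : Fin c → A), g ^ k * z - ∑ i, b i * y i ∈ I := fun z hz => by
    obtain ⟨a, ha⟩ := (Ideal.mem_span_range_iff_exists_fun (R := L)).1 (hfspan.ge (Ideal.mem_map_of_mem φ hz))
    choose b k hb using fun i => hsurj (a i)
    let M := Finset.univ.sup k
    obtain ⟨l, hl⟩ := hzero (g ^ (M + N) * z - ∑ i, (b i * g ^ (M - k i)) * y i) (by
      rw [map_sub, map_mul, map_pow, map_sum, sub_eq_zero, ← ha, Finset.mul_sum]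
      refine Finset.sum_congr rfl fun i _ => ?_
      rw [map_mul, map_mul, map_pow, ← hb, hfy]
      have hk : k i + (M - k i) = M := Nat.add_sub_cancel' (Finset.le_sup (Finset.mem_univ i))
      show u ^ (M + N) * (a i * f i) = a i * u ^ k i * u ^ (M - k i) * (f i * u ^ N)
      rw [pow_add]
      conv_lhs => rw [← hk, pow_add]
      ring)
    refine ⟨l + (M + N), fun i => g ^ l * (b i * g ^ (M - k i)), ?_⟩
    rw [show (∑ i, g ^ l * (b i * g ^ (M - k i)) * y i) = g ^ l * ∑ i, (b i * g ^ (M - k i)) * y i by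
      rw [Finset.mul_sum]; exact Finset.sum_congr rfl fun i _ => by ring, pow_add, mul_assoc, ← mul_sub]
    exact hl
  -- write `g ^ k * x` with coefficients in `J`
  obtain ⟨k, a, haJ, hxa⟩ : ∃ (k : ℕ) (a : Fin c → A), (∀ i, a i ∈ J) ∧ g ^ k * x - ∑ i, a i * y i ∈ I * J := by
    rw [pow_two] at hxJ
    refine Submodule.mul_induction_on hxJ (fun z hz w hw => ?_) ?_
    · obtain ⟨k, b, hb⟩ := hgd z hz
      refine ⟨k, fun i => b i * w, fun i => J.mul_mem_left _ hw, ?_⟩
      rw [show g ^ k * (z * w) - ∑ i, b i * w * y i = (g ^ k * z - ∑ i, b i * y i) * w by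
        rw [sub_mul, Finset.sum_mul, mul_assoc]; exact congrArg _ (Finset.sum_congr rfl fun i _ => by ring)]
      exact Ideal.mul_mem_mul hb hw
    · rintro z w ⟨k, a, ha, e⟩ ⟨k', a', ha', e'⟩
      refine ⟨k + k', fun i => g ^ k' * a i + g ^ k * a' i,
        fun i => add_mem (J.mul_mem_left _ (ha i)) (J.mul_mem_left _ (ha' i)), ?_⟩
      have := add_mem ((I * J).mul_mem_left (g ^ k') e) ((I * J).mul_mem_left (g ^ k) e')
      convert this using 1
      simp only [add_mul, Finset.sum_add_distrib, mul_sub, Finset.mul_sum, mul_assoc]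
      ring
  -- relations lift to `I * J`
  have hrel : ∀ v ∈ Submodule.span L {v : Fin c → L | ∃ i j : Fin c, v = Pi.single i (f j) - Pi.single j (f i)},
      ∃ (l : ℕ) (w : Fin c → A), (∀ i, φ (w i) = u ^ l * v i) ∧ ∑ i, w i * y i ∈ I * J := by
    intro v hv
    induction hv using Submodule.span_induction with
    | mem v hv =>
      obtain ⟨i, j, rfl⟩ := hv
      refine ⟨N, Pi.single i (y j) - Pi.single j (y i), fun m => ?_, ?_⟩
      · simp only [Pi.sub_apply, map_sub, mul_sub, Pi.single_apply, apply_ite φ, map_zero, hfy, mul_ite, mul_zero,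
          mul_comm (u ^ N)]
        split_ifs <;> ring
      · rw [show ∑ m, (Pi.single i (y j) - Pi.single j (y i) : Fin c → A) m * y m = 0 by
          simp only [Pi.sub_apply, sub_mul, Finset.sum_sub_distrib, Pi.single_apply, ite_mul, zero_mul,
            Finset.sum_ite_eq', Finset.mem_univ, if_true]
          ring]
        exact zero_mem _
    | zero => exact ⟨0, 0, fun i => by simp, by simp⟩
    | add v v' _ _ hv hv' =>
      obtain ⟨l, w, e, hw⟩ := hv
      obtain ⟨l', w', e', hw'⟩ := hv'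
      refine ⟨l + l', fun i => g ^ l' * w i + g ^ l * w' i, fun i => ?_, ?_⟩
      · rw [map_add, map_mul, map_mul, map_pow, map_pow, e, e', Pi.add_apply]; ring
      · simp only [add_mul, Finset.sum_add_distrib, mul_assoc, ← Finset.mul_sum]
        exact add_mem (Ideal.mul_mem_left _ _ hw) (Ideal.mul_mem_left _ _ hw')
    | smul r v _ hv =>
      obtain ⟨l, w, e, hw⟩ := hv
      obtain ⟨b, k', e'⟩ := hsurj r
      refine ⟨l + k', fun i => b * w i, fun i => ?_, ?_⟩
      · rw [map_mul, e, ← e', Pi.smul_apply, smul_eq_mul]; ring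
      · simp only [mul_assoc, ← Finset.mul_sum]
        exact Ideal.mul_mem_left _ _ hw
  obtain ⟨l, w, hw, hwy⟩ := hrel (fun i => φ (a i)) (hf _ (by
    have h1 : ∑ i, a i * y i ∈ I := by
      have := sub_mem (I.mul_mem_left (g ^ k) hxI) (Ideal.mul_le_left hxa)
      rwa [sub_sub_cancel] at this
    have h2 : φ (∑ i, a i * y i) = 0 := by
      rw [RingHom.comp_apply, Ideal.Quotient.eq_zero_iff_mem.2 h1, map_zero]
    rw [map_sum] at h2
    refine (hu.pow N).mul_left_eq_zero.1 ?_
    rw [Finset.sum_mul, ← h2]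
    exact Finset.sum_congr rfl fun i _ => by rw [map_mul, hfy]; ring))
  have hdiff : ∀ i, ∃ t, g ^ t * (g ^ l * a i - w i) ∈ I := fun i => hzero _ (by
    rw [map_sub, map_mul, map_pow, hw, sub_self])
  choose t ht using hdiff
  let T := Finset.univ.sup t
  have hfin : g ^ (T + l + k) ∈ K := (hK _).2 (by
    rw [show g ^ (T + l + k) * x = g ^ (T + l) * (g ^ k * x - ∑ i, a i * y i) +
        (∑ i, g ^ (T - t i) * (g ^ t i * (g ^ l * a i - w i)) * y i + g ^ T * ∑ i, w i * y i) by
      have hT : ∀ i, g ^ (T - t i) * g ^ t i = g ^ T := fun i => by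
        rw [← pow_add, Nat.sub_add_cancel (Finset.le_sup (Finset.mem_univ i))]
      have h3 : ∀ i, g ^ (T - t i) * (g ^ t i * (g ^ l * a i - w i)) * y i = g ^ T * (g ^ l * a i - w i) * y i :=
        fun i => by rw [← mul_assoc (g ^ (T - t i)) (g ^ t i), hT]
      rw [Finset.sum_congr rfl fun i _ => h3 i]
      simp only [mul_sub, sub_mul, Finset.sum_sub_distrib, Finset.mul_sum, ← mul_assoc, ← pow_add]
      ring]
    exact add_mem ((I * J).mul_mem_left _ hxa) (add_mem
      (sum_mem fun i _ => Ideal.mul_mem_mul (I.mul_mem_left _ (ht i)) (hyJ i)) ((I * J).mul_mem_left _ hwy)))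
  exact hgb (Ideal.mem_map_of_mem _ (hpmax.isPrime.mem_of_pow_mem _ (hKp hfin)))

end Groth.Agent.S9325
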