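import Groth.Statements.S9326
import Mathlib
import Mathlib
-- import your own Groth.Agent.* helpers here

set_option autoImplicit false
universe u
open CAlg

namespace Groth.Agent.S9326

/-- Let `u : N → M` be a continuous homomorphism of topological abelian groups. Assume `M` is Hausdorff
and `N` is Hausdorff and complete, linearly topologized (every neighbourhood of zero contains an
open subgroup) and first countable (zero has a countable basis of neighbourhoods). Then exactly one
of two things holds: `u` is an open map; or there is an open subgroup of `N` whose image is nowhere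
dense in `M`. -/
theorem result {N M : Type u} [AddCommGroup N]
    [AddCommGroup M] [UniformSpace N] [IsUniformAddGroup N] [TopologicalSpace M]
    [IsTopologicalAddGroup M] [T2Space M] [T2Space N] [CompleteSpace N] [NonarchimedeanAddGroup N]
    [FirstCountableTopology N] (u : N →+ M) (hu : Continuous u) :
    Xor (IsOpenMap u) (∃ V : OpenAddSubgroup N, IsNowhereDense (u '' (V : Set N))) := by
  classical
  by_cases hop : IsOpenMap u
  · refine Or.inl ⟨hop, ?_⟩
    rintro ⟨V, hV⟩
    have h1 : IsOpen (u '' (V : Set N)) := hop _ V.isOpen'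
    have h2 : u '' (V : Set N) ⊆ interior (closure (u '' (V : Set N))) := interior_maximal subset_closure h1
    rw [hV] at h2
    exact h2 ⟨0, V.zero_mem, rfl⟩
  refine Or.inr ⟨?_, hop⟩
  by_contra hcon
  push_neg at hcon
  refine hop ?_
  have hclo : ∀ V : OpenAddSubgroup N, IsOpen (closure (u '' (V : Set N))) := by
    intro V
    let C : AddSubgroup M := ((V : AddSubgroup N).map u).topologicalClosure
    have hC : (C : Set M) = closure (u '' (V : Set N)) := rfl
    rw [← hC]
    have hne : (interior (closure (u '' (V : Set N)))).Nonempty := Set.nonempty_iff_ne_empty.2 (hcon V)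
    obtain ⟨x, hx⟩ := hne
    exact C.isOpen_of_mem_nhds (g := x) (Filter.mem_of_superset (isOpen_interior.mem_nhds hx) interior_subset)
  have hcl : ∀ V : OpenAddSubgroup N, closure (u '' (V : Set N)) ⊆ u '' (V : Set N) := by
    intro V y hy
    obtain ⟨B, hB⟩ := (nhds (0 : N)).exists_antitone_basis
    have : ∀ n, ∃ W : OpenAddSubgroup N, (W : Set N) ⊆ B n := fun n =>
      NonarchimedeanAddGroup.is_nonarchimedean _ (hB.mem n)
    choose W hW using this
    let Vs : ℕ → OpenAddSubgroup N := fun n => Nat.rec V (fun m prev => prev ⊓ W m) n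
    have hVsW : ∀ n, (Vs (n + 1) : Set N) ⊆ B n := fun n x hx => hW n (OpenAddSubgroup.mem_inf.1 hx).2
    have hVanti : ∀ m n, m ≤ n → Vs n ≤ Vs m := by
      intro m n hmn
      induction hmn with
      | refl => exact le_rfl
      | step _ ih => exact fun x hx => ih (OpenAddSubgroup.mem_inf.1 hx).1
    have step : ∀ (n : ℕ) (z : M), z ∈ closure (u '' (SetLike.coe (Vs n) : Set N)) →
        ∃ x ∈ Vs n, z - u x ∈ closure (u '' (Vs (n + 1) : Set N)) := by
      intro n z hz
      have hopen : IsOpen ((fun m => z - m) ⁻¹' closure (u '' (Vs (n + 1) : Set N))) :=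
        (hclo _).preimage (continuous_const.sub continuous_id)
      obtain ⟨w, hw1, x, hx, rfl⟩ := mem_closure_iff.1 hz _ hopen (by
        simp only [Set.mem_preimage, sub_self]
        exact subset_closure ⟨0, (Vs (n+1)).zero_mem, map_zero u⟩)
      exact ⟨x, hx, hw1⟩
    choose g hg using step
    let S : (n : ℕ) → {s : N // y - u s ∈ closure (u '' (SetLike.coe (Vs n) : Set N))} := fun n =>
      Nat.rec (motive := fun n => {s : N // y - u s ∈ closure (u '' (SetLike.coe (Vs n) : Set N))}) ⟨0, by
        rw [map_zero, sub_zero]; exact hy⟩ (fun m s => ⟨s.1 + g m _ s.2, by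
        have := (hg m _ s.2).2; rwa [map_add, ← sub_sub]⟩) n
    let s : ℕ → N := fun n => (S n).1
    have hstep : ∀ n, s (n + 1) - s n ∈ Vs n := fun n => by
      show (S n).1 + g n _ (S n).2 - (S n).1 ∈ Vs n
      rw [add_sub_cancel_left]; exact (hg n _ (S n).2).1
    have hdiff : ∀ m n, m ≤ n → s n - s m ∈ Vs m := by
      intro m n hmn
      induction hmn with
      | refl => rw [sub_self]; exact (Vs m).zero_mem
      | @step n hmn ih =>
        have := (Vs m).add_mem (hVanti m n hmn (hstep n)) ih
        rwa [sub_add_sub_cancel] at this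
    have hcau : CauchySeq s := by
      rw [cauchySeq_iff]
      intro U hU
      rw [uniformity_eq_comap_nhds_zero N, Filter.mem_comap] at hU
      obtain ⟨T, hT, hTU⟩ := hU
      obtain ⟨i, hi⟩ := hB.toHasBasis.mem_iff.1 hT
      refine ⟨i + 1, fun k hk l hl => hTU ?_⟩
      show s l - s k ∈ T
      refine hi.2 (hVsW i ?_)
      rw [← sub_sub_sub_cancel_right (s l) (s k) (s (i + 1))]
      exact (Vs (i + 1)).sub_mem (hdiff (i + 1) l hl) (hdiff (i + 1) k hk)
    obtain ⟨x, hx⟩ := cauchySeq_tendsto_of_complete hcau
    have hs0 : s 0 = 0 := rfl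
    have hxV : x ∈ V := by
      refine (show IsClosed (V : Set N) from V.isClosed).mem_of_tendsto hx (Filter.Eventually.of_forall fun n => ?_)
      have := hdiff 0 n (Nat.zero_le _)
      rwa [hs0, sub_zero] at this
    refine ⟨x, hxV, ?_⟩
    have h1 : Filter.Tendsto (fun n => y - u (s n)) Filter.atTop (nhds (y - u x)) :=
      tendsto_const_nhds.sub ((hu.tendsto x).comp hx)
    have h2 : Filter.Tendsto (fun n => y - u (s n)) Filter.atTop (nhds 0) := by
      refine (closed_nhds_basis (0 : M)).tendsto_right_iff.2 fun T hT => ?_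
      obtain ⟨i, -, hi⟩ := hB.toHasBasis.mem_iff.1 ((hu.tendsto 0).eventually (show ∀ᶠ m in nhds (u 0), m ∈ T by rw [map_zero]; exact hT.1))
      refine Filter.eventually_atTop.2 ⟨i + 1, fun n hn => ?_⟩
      refine closure_minimal ?_ hT.2 (S n).2
      rintro _ ⟨z, hz, rfl⟩
      exact hi (hVsW i (hVanti (i + 1) n hn hz))
    have := tendsto_nhds_unique h1 h2
    exact (sub_eq_zero.1 this).symm
  intro U hU
  refine isOpen_iff_mem_nhds.2 ?_
  rintro _ ⟨a, ha, rfl⟩
  have : (fun x => a + x) ⁻¹' U ∈ nhds (0 : N) :=
    (hU.preimage (continuous_const.add continuous_id)).mem_nhds (by simpa using ha)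
  obtain ⟨V, hV⟩ := NonarchimedeanAddGroup.is_nonarchimedean _ this
  have h1 : IsOpen ((fun m => m - u a) ⁻¹' closure (u '' (V : Set N))) :=
    (hclo V).preimage (continuous_id.sub continuous_const)
  refine Filter.mem_of_superset (h1.mem_nhds (by simp only [Set.mem_preimage, sub_self]; exact subset_closure ⟨0, V.zero_mem, map_zero u⟩)) fun m hm => ?_
  obtain ⟨v, hv, hvm⟩ := hcl V hm
  exact ⟨a + v, hV hv, by rw [map_add, hvm]; exact add_sub_cancel _ _⟩

end Groth.Agent.S9326
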