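import Groth.Statements.S9327
import Groth.Agent.TensorBranchLib.Basic
import Groth.Agent.TensorBranchLib.SHQuot
import Groth.Agent.EtGenLib.Branches
-- import your own Groth.Agent.* helpers here

set_option autoImplicit false
set_option maxHeartbeats 2000000
set_option backward.isDefEq.respectTransparency false
set_option maxHeartbeats 4000000
set_option synthInstance.maxHeartbeats 400000
set_option backward.isDefEq.respectTransparency false
universe u
open Hensel

namespace Groth.Agent.S9327

open TensorProduct IsLocalRing in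
/-- Let `k` be an algebraically closed field and `A`, `B` henselian local `k`-algebras with residue
field `k` (the composites `k → A → A/m_A` and `k → B → B/m_B` are bijective; as `k` is algebraically
closed, `A` and `B` are strictly henselian). Let `𝔪 = m_A ⊗ B + A ⊗ m_B`, a maximal ideal of `A ⊗_k
B`, and let `C` be a strict henselization of the local ring `(A ⊗_k B)_𝔪`. Then sending a prime of
`C` to the pair of its preimages in `A` and in `B` is a bijection from the set of minimal primes of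
`C` onto the set of pairs (minimal prime of `A`, minimal prime of `B`). -/
theorem result {k A B C : Type u} [Field k]
    [IsAlgClosed k] [CommRing A] [CommRing B] [HenselianLocalRing A] [HenselianLocalRing B]
    [Algebra k A] [Algebra k B]
    (hA : Function.Bijective ((residue A).comp (algebraMap k A)))
    (hB : Function.Bijective ((residue B).comp (algebraMap k B)))
    (𝔪 : Ideal (A ⊗[k] B)) [𝔪.IsPrime]
    (h𝔪 : 𝔪 = (maximalIdeal A).map (Algebra.TensorProduct.includeLeft : A →ₐ[k] A ⊗[k] B) ⊔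
      (maximalIdeal B).map (Algebra.TensorProduct.includeRight : B →ₐ[k] A ⊗[k] B))
    [CommRing C] [IsLocalRing C] [Algebra (Localization.AtPrime 𝔪) C]
    [IsLocalHom (algebraMap (Localization.AtPrime 𝔪) C)]
    [Hensel.IsStrictHenselization (Localization.AtPrime 𝔪) C] :
    Set.BijOn
      (fun 𝔯 : Ideal C =>
        (𝔯.comap ((algebraMap (Localization.AtPrime 𝔪) C).comp
            ((algebraMap (A ⊗[k] B) (Localization.AtPrime 𝔪)).comp
              (Algebra.TensorProduct.includeLeft : A →ₐ[k] A ⊗[k] B).toRingHom)),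
          𝔯.comap ((algebraMap (Localization.AtPrime 𝔪) C).comp
            ((algebraMap (A ⊗[k] B) (Localization.AtPrime 𝔪)).comp
              (Algebra.TensorProduct.includeRight : B →ₐ[k] A ⊗[k] B).toRingHom))))
      (minimalPrimes C) (minimalPrimes A ×ˢ minimalPrimes B) := by
  classical
  let R0 := A ⊗[k] B
  let L := Localization.AtPrime 𝔪
  let iA : A →+* A ⊗[k] B := (Algebra.TensorProduct.includeLeft : A →ₐ[k] A ⊗[k] B).toRingHom
  let iB : B →+* A ⊗[k] B := (Algebra.TensorProduct.includeRight : B →ₐ[k] A ⊗[k] B).toRingHom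
  let θ : A ⊗[k] B →+* C := (algebraMap L C).comp (algebraMap (A ⊗[k] B) L)
  haveI : Module.FaithfullyFlat L C := Groth.Agent.S0539.result L C
  haveI : IsLocalHom (algebraMap L C) := inferInstance
  have hθ : θ.Flat := (RingHom.flat_algebraMap_iff.2 (IsLocalization.flat L 𝔪.primeCompl)).comp
    (RingHom.flat_algebraMap_iff.2 inferInstance)
  have hiA : iA.Flat := RingHom.flat_algebraMap_iff.2 (inferInstance : Module.Flat A (A ⊗[k] B))
  have hiB : iB.Flat := by
    have h : Module.Flat B (B ⊗[k] A) := inferInstance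
    exact (RingHom.flat_algebraMap_iff.2 h).comp
      (RingHom.Flat.of_bijective (f := (Algebra.TensorProduct.comm k B A).toRingHom) (Algebra.TensorProduct.comm k B A).bijective)
        |> fun h' => by convert h' using 1; ext b; simp [iB]
  letI algAC : Algebra A C := (θ.comp iA).toAlgebra
  haveI : Module.Flat A C := hiA.comp hθ
  letI algBC : Algebra B C := (θ.comp iB).toAlgebra
  haveI : Module.Flat B C := hiB.comp hθ
  have key : ∀ p ∈ minimalPrimes A, ∀ q ∈ minimalPrimes B, ∃ J : Ideal (A ⊗[k] B), J.comap iA ≤ p ∧ J.comap iB ≤ q ∧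
      (∃ P : Ideal C, P.IsPrime ∧ P.comap θ = J) ∧
      ∀ P₁ ∈ minimalPrimes C, ∀ P₂ ∈ minimalPrimes C, p ≤ P₁.comap (θ.comp iA) → q ≤ P₁.comap (θ.comp iB) →
        p ≤ P₂.comap (θ.comp iA) → q ≤ P₂.comap (θ.comp iB) → P₁ = P₂ := by
    intro p hp q hq
    haveI := hp.1.1
    haveI := hq.1.1
    haveI : IsLocalRing (A ⧸ p) := IsLocalRing.of_surjective' _ Ideal.Quotient.mk_surjective
    haveI : IsLocalRing (B ⧸ q) := IsLocalRing.of_surjective' _ Ideal.Quotient.mk_surjective
    haveI : HenselianLocalRing (A ⧸ p) := HenselBranchLib.henselianLocalRing_of_isIntegral' A (A ⧸ p)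
    haveI : HenselianLocalRing (B ⧸ q) := HenselBranchLib.henselianLocalRing_of_isIntegral' B (B ⧸ q)
    have hAp : Function.Bijective ((residue (A ⧸ p)).comp (algebraMap k (A ⧸ p))) := by
      refine ⟨RingHom.injective _, fun z => ?_⟩
      obtain ⟨x, rfl⟩ := residue_surjective z
      obtain ⟨a, rfl⟩ := Ideal.Quotient.mk_surjective x
      obtain ⟨c, hc⟩ := hA.2 (residue A a)
      haveI : IsLocalHom (Ideal.Quotient.mk p) := IsLocalHom.of_surjective _ Ideal.Quotient.mk_surjective
      refine ⟨c, ?_⟩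
      have := congrArg (ResidueField.map (Ideal.Quotient.mk p)) hc
      exact this
    have hBq : Function.Bijective ((residue (B ⧸ q)).comp (algebraMap k (B ⧸ q))) := by
      refine ⟨RingHom.injective _, fun z => ?_⟩
      obtain ⟨x, rfl⟩ := residue_surjective z
      obtain ⟨a, rfl⟩ := Ideal.Quotient.mk_surjective x
      obtain ⟨c, hc⟩ := hB.2 (residue B a)
      haveI : IsLocalHom (Ideal.Quotient.mk q) := IsLocalHom.of_surjective _ Ideal.Quotient.mk_surjective
      refine ⟨c, ?_⟩
      have := congrArg (ResidueField.map (Ideal.Quotient.mk q)) hc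
      exact this
    let π : A ⊗[k] B →ₐ[k] (A ⧸ p) ⊗[k] (B ⧸ q) :=
      Algebra.TensorProduct.map (Ideal.Quotient.mkₐ k p) (Ideal.Quotient.mkₐ k q)
    have hπ : Function.Surjective π := fun z => by
      induction z using TensorProduct.induction_on with
      | zero => exact ⟨0, map_zero _⟩
      | tmul x y =>
        obtain ⟨a, rfl⟩ := Ideal.Quotient.mk_surjective x
        obtain ⟨b, rfl⟩ := Ideal.Quotient.mk_surjective y
        exact ⟨a ⊗ₜ b, Algebra.TensorProduct.map_tmul _ _ _ _⟩
      | add x y hx hy =>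
        obtain ⟨a, rfl⟩ := hx
        obtain ⟨b, rfl⟩ := hy
        exact ⟨a + b, map_add _ _ _⟩
    haveI := TensorBranchLib.isDomain_tensor (k := k) (A ⧸ p) (B ⧸ q)
    let J := RingHom.ker π
    haveI hJ : J.IsPrime := RingHom.ker_isPrime _
    have hker : J = p.map (Algebra.TensorProduct.includeLeft : A →ₐ[k] A ⊗[k] B) ⊔
        q.map (Algebra.TensorProduct.includeRight : B →ₐ[k] A ⊗[k] B) := by
      have h := Algebra.TensorProduct.map_ker (Ideal.Quotient.mkₐ k p) (Ideal.Quotient.mkₐ k q)
        Ideal.Quotient.mk_surjective Ideal.Quotient.mk_surjective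
      refine h.trans ?_
      congr 2 <;> exact Ideal.ext fun x => Ideal.Quotient.eq_zero_iff_mem
    have hJm : J ≤ 𝔪 := by
      rw [hker, h𝔪]
      exact sup_le_sup (Ideal.map_mono (le_maximalIdeal hp.1.1.ne_top)) (Ideal.map_mono (le_maximalIdeal hq.1.1.ne_top))
    let Q := 𝔪.map π
    haveI hQ : Q.IsPrime := Ideal.map_isPrime_of_surjective hπ hJm
    have hQc : 𝔪 = Q.comap π.toRingHom := by
      show 𝔪 = (𝔪.map π).comap π
      rw [Ideal.comap_map_of_surjective _ hπ, ← RingHom.ker_eq_comap_bot]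
      exact (sup_eq_left.2 hJm).symm
    let ψ : L →+* Localization.AtPrime Q := Localization.localRingHom 𝔪 Q π.toRingHom hQc
    have hψsurj : Function.Surjective ψ := by
      intro z
      obtain ⟨d, s, rfl⟩ := IsLocalization.exists_mk'_eq Q.primeCompl z
      obtain ⟨x, rfl⟩ := hπ d
      obtain ⟨y, hy⟩ := hπ (s : (A ⧸ p) ⊗[k] (B ⧸ q))
      have hy' : y ∉ 𝔪 := fun h => s.2 (hy ▸ Ideal.mem_map_of_mem π h)
      refine ⟨IsLocalization.mk' L x (⟨y, hy'⟩ : 𝔪.primeCompl), ?_⟩
      rw [Localization.localRingHom_mk']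
      congr 1
      exact Subtype.ext hy
    let JL : Ideal L := J.map (algebraMap (A ⊗[k] B) L)
    have hψker : RingHom.ker ψ = JL := by
      refine le_antisymm (fun z hz => ?_) ?_
      · obtain ⟨x, s, rfl⟩ := IsLocalization.exists_mk'_eq 𝔪.primeCompl z
        rw [RingHom.mem_ker, Localization.localRingHom_mk', IsLocalization.mk'_eq_zero_iff] at hz
        obtain ⟨u, hu⟩ := hz
        have hu0 : (u : (A ⧸ p) ⊗[k] (B ⧸ q)) ≠ 0 := fun h => u.2 (by rw [h]; exact zero_mem _)
        have hx : π x = 0 := (mul_eq_zero.1 hu).resolve_left hu0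
        rw [IsLocalization.mk'_eq_mul_mk'_one]
        exact Ideal.mul_mem_right _ _ (Ideal.mem_map_of_mem _ hx)
      · rw [Ideal.map_le_iff_le_comap]
        intro x hx
        rw [Ideal.mem_comap, RingHom.mem_ker, Localization.localRingHom_to_map]
        rw [show π.toRingHom x = 0 from hx, map_zero]
    have hJL : JL.IsPrime := hψker ▸ (by
      haveI : IsDomain (Localization.AtPrime Q) := IsLocalization.isDomain_localization Q.primeCompl_le_nonZeroDivisors
      exact RingHom.ker_isPrime ψ)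
    haveI := hJL
    haveI : IsLocalRing (L ⧸ JL) := IsLocalRing.of_surjective' _ Ideal.Quotient.mk_surjective
    have hgu : CAlg2.IsGeomUnibranch (L ⧸ JL) := by
      refine HensFormalLib.isGeomUnibranch_of_ringEquiv (Localization.AtPrime Q) (L ⧸ JL)
        ((Ideal.quotEquivOfEq hψker.symm).trans (RingHom.quotientKerEquivOfSurjective hψsurj)).symm ?_
      refine TensorBranchLib.isGeomUnibranch_localization (A ⧸ p) (B ⧸ q) hAp hBq Q ?_ ?_
      · intro a ha
        obtain ⟨a, rfl⟩ := Ideal.Quotient.mk_surjective a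
        rw [← IsLocalRing.map_maximalIdeal_of_surjective (Ideal.Quotient.mk p) Ideal.Quotient.mk_surjective] at ha
        obtain ⟨a', ha', haa'⟩ := (Ideal.mem_map_iff_of_surjective _ Ideal.Quotient.mk_surjective).1 ha
        have h1 : a' ⊗ₜ[k] (1 : B) ∈ 𝔪 := by
          rw [h𝔪]; exact Ideal.mem_sup_left (Ideal.mem_map_of_mem _ ha')
        have h2 := Ideal.mem_map_of_mem π h1
        rw [Algebra.TensorProduct.map_tmul, map_one] at h2
        rw [← haa']
        exact h2
      · intro a ha
        obtain ⟨a, rfl⟩ := Ideal.Quotient.mk_surjective a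
        rw [← IsLocalRing.map_maximalIdeal_of_surjective (Ideal.Quotient.mk q) Ideal.Quotient.mk_surjective] at ha
        obtain ⟨a', ha', haa'⟩ := (Ideal.mem_map_iff_of_surjective _ Ideal.Quotient.mk_surjective).1 ha
        have h1 : (1 : A) ⊗ₜ[k] a' ∈ 𝔪 := by
          rw [h𝔪]; exact Ideal.mem_sup_right (Ideal.mem_map_of_mem _ ha')
        have h2 := Ideal.mem_map_of_mem π h1
        rw [Algebra.TensorProduct.map_tmul, map_one] at h2
        rw [← haa']
        exact h2
    obtain ⟨P, hP⟩ := PrimeSpectrum.comap_surjective_of_faithfullyFlat (B := C) (⟨JL, hJL⟩ : PrimeSpectrum L)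
    have hP' : P.asIdeal.comap (algebraMap L C) = JL := congrArg PrimeSpectrum.asIdeal hP
    have hJback : JL.comap (algebraMap (A ⊗[k] B) L) = J :=
      IsLocalization.comap_map_of_isPrime_disjoint 𝔪.primeCompl L hJ
        (Set.disjoint_left.2 fun x hx hxJ => hx (hJm hxJ))
    refine ⟨J, fun a ha => ?_, fun b hb => ?_, ⟨P.asIdeal, P.2, by rw [← Ideal.comap_comap, hP', hJback]⟩, ?_⟩
    · refine Ideal.Quotient.eq_zero_iff_mem.1 (Algebra.TensorProduct.includeLeft_injective (S := k)
        (FaithfulSMul.algebraMap_injective k (B ⧸ q)) ?_)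
      rw [map_zero]
      exact (Algebra.TensorProduct.map_tmul (Ideal.Quotient.mkₐ k p) (Ideal.Quotient.mkₐ k q) a 1).symm.trans ha
        |> fun h => by rwa [map_one] at h
    · refine Ideal.Quotient.eq_zero_iff_mem.1 (Algebra.TensorProduct.includeRight_injective
        (FaithfulSMul.algebraMap_injective k (A ⧸ p)) ?_)
      rw [map_zero]
      exact (Algebra.TensorProduct.map_tmul (Ideal.Quotient.mkₐ k p) (Ideal.Quotient.mkₐ k q) 1 b).symm.trans hb
        |> fun h => by rwa [map_one] at h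
    intro P₁ hP₁ P₂ hP₂ h1A h1B h2A h2B
    let JC := JL.map (algebraMap L C)
    have hJC : ∀ P' : Ideal C, p ≤ P'.comap (θ.comp iA) → q ≤ P'.comap (θ.comp iB) → JC ≤ P' := by
      intro P' hA' hB'
      show Ideal.map _ (Ideal.map _ J) ≤ P'
      rw [Ideal.map_map, hker, Ideal.map_sup, sup_le_iff, Ideal.map_le_iff_le_comap, Ideal.map_le_iff_le_comap,
        Ideal.map_le_iff_le_comap, Ideal.map_le_iff_le_comap]
      exact ⟨hA', hB'⟩
    haveI : Nontrivial (C ⧸ JC) := Ideal.Quotient.nontrivial_iff.2 fun h =>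
      hP₁.1.1.ne_top (top_le_iff.1 (h.ge.trans (hJC P₁ h1A h1B)))
    haveI : IsLocalRing (C ⧸ JC) := IsLocalRing.of_surjective' _ Ideal.Quotient.mk_surjective
    haveI : IsLocalHom (algebraMap (L ⧸ JL) (C ⧸ JC)) := by
      refine ⟨fun z hz => ?_⟩
      obtain ⟨l, rfl⟩ := Ideal.Quotient.mk_surjective z
      haveI : IsLocalHom (Ideal.Quotient.mk JC) := IsLocalHom.of_surjective _ Ideal.Quotient.mk_surjective
      have hz' : IsUnit (Ideal.Quotient.mk JC (algebraMap L C l)) := by
        rw [Ideal.Quotient.algebraMap_quotient_map_quotient] at hz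
        exact hz
      exact (IsUnit.of_map _ _ (IsUnit.of_map _ _ hz')).map _
    haveI : Hensel.IsStrictHenselization (L ⧸ JL) (C ⧸ JC) := TensorBranchLib.isStrictHenselization_quotient JL
    obtain ⟨P₀, -, huniq⟩ := (Groth.Agent.S2135.result (A := L ⧸ JL) (Ash := C ⧸ JC)).1 hgu
    have hk : ∀ P' : Ideal C, JC ≤ P' → RingHom.ker (Ideal.Quotient.mk JC) ≤ P' := fun P' h => by rwa [Ideal.mk_ker]
    have h1 := huniq _ (EtGenLib.map_mem_minimalPrimes _ Ideal.Quotient.mk_surjective P₁ hP₁ (hk _ (hJC P₁ h1A h1B)))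
    have h2 := huniq _ (EtGenLib.map_mem_minimalPrimes _ Ideal.Quotient.mk_surjective P₂ hP₂ (hk _ (hJC P₂ h2A h2B)))
    have h3 := congrArg (Ideal.comap (Ideal.Quotient.mk JC)) (h1.trans h2.symm)
    rwa [Ideal.comap_map_of_surjective _ Ideal.Quotient.mk_surjective,
      Ideal.comap_map_of_surjective _ Ideal.Quotient.mk_surjective, ← RingHom.ker_eq_comap_bot,
      sup_eq_left.2 (hk _ (hJC P₁ h1A h1B)), sup_eq_left.2 (hk _ (hJC P₂ h2A h2B))] at h3
  refine ⟨fun P hP => ⟨?_, ?_⟩, fun P₁ hP₁ P₂ hP₂ he => ?_, ?_⟩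
  · exact EtGenLib.comap_mem_minimalPrimes (R := A) P hP
  · exact EtGenLib.comap_mem_minimalPrimes (R := B) P hP
  · have hA' : P₁.comap (θ.comp iA) = P₂.comap (θ.comp iA) := (Prod.ext_iff.1 he).1
    have hB' : P₁.comap (θ.comp iB) = P₂.comap (θ.comp iB) := (Prod.ext_iff.1 he).2
    obtain ⟨J, -, -, -, huniq⟩ := key _ (EtGenLib.comap_mem_minimalPrimes (R := A) P₁ hP₁) _
      (EtGenLib.comap_mem_minimalPrimes (R := B) P₁ hP₁)
    exact huniq P₁ hP₁ P₂ hP₂ le_rfl le_rfl hA'.le hB'.le
  · rintro ⟨p, q⟩ ⟨hp, hq⟩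
    obtain ⟨J, hJA, hJB, ⟨P, hP, hPJ⟩, -⟩ := key p hp q hq
    haveI := hP
    obtain ⟨P', hP', hle⟩ := Ideal.exists_minimalPrimes_le (I := (⊥ : Ideal C)) (J := P) bot_le
    haveI := hP'.1.1
    have h1 : P'.comap (θ.comp iA) ≤ p := (Ideal.comap_mono hle).trans (by rw [← Ideal.comap_comap, hPJ]; exact hJA)
    have h2 : P'.comap (θ.comp iB) ≤ q := (Ideal.comap_mono hle).trans (by rw [← Ideal.comap_comap, hPJ]; exact hJB)
    exact ⟨P', hP', Prod.ext (le_antisymm h1 (hp.2 ⟨inferInstance, bot_le⟩ h1))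
      (le_antisymm h2 (hq.2 ⟨inferInstance, bot_le⟩ h2))⟩

end Groth.Agent.S9327
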