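import Groth.Statements.S9328
import Groth.Agent.EtRamTameLib.Adj
import Groth.Agent.S9329
-- import your own Groth.Agent.* helpers here

set_option autoImplicit false
universe u
open EtRam

namespace Groth.Agent.S9328

open Polynomial IsLocalRing in
/-- Let `K` be the fraction field of a discrete valuation ring `A`, let `π` be a uniformizer of `A`, and
let `L` be a finite separable extension of `K`. For `e ≥ 1` write `A' = A[z]/(z^e - π)`, a discrete
valuation ring whose fraction field is `K' = K[π^{1/e}]`. Then `L` is tamely ramified with respect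
to `A` if and only if there exist `e ≥ 1` invertible in the residue field of `A` and a finite
separable extension `L'` of `K` into which `L` embeds over `K`, carrying an `A'`-algebra structure
extending `A → K → L'` (so `K' ⊆ L'`), such that `L'` is unramified with respect to `A'`. (The
local-ring instance on `A'`, which holds, is quantified as a hypothesis.) -/
theorem result {A K L : Type u} [CommRing A] [IsDomain A]
    [IsDiscreteValuationRing A] [Field K] [Algebra A K] [IsFractionRing A K] [Field L] [Algebra K L]
    [Algebra A L] [IsScalarTower A K L] [FiniteDimensional K L] [Algebra.IsSeparable K L]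
    (π : A) (hπ : maximalIdeal A = Ideal.span {π}) :
    EtRam.IsTamelyRamified A (algebraMap A L) ↔
      ∃ e : ℕ, 0 < e ∧ (e : ResidueField A) ≠ 0 ∧
        ∃ (L' : Type u) (_ : Field L') (_ : Algebra K L')
          (_ : Algebra (AdjoinRoot (X ^ e - C π : A[X])) L') (_ : L →ₐ[K] L'),
          FiniteDimensional K L' ∧ Algebra.IsSeparable K L' ∧
          (algebraMap (AdjoinRoot (X ^ e - C π : A[X])) L').comp (AdjoinRoot.of (X ^ e - C π)) =
            (algebraMap K L').comp (algebraMap A K) ∧
          ∀ [IsLocalRing (AdjoinRoot (X ^ e - C π : A[X]))],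
            EtRam.IsUnramifiedExt (AdjoinRoot (X ^ e - C π : A[X]))
              (algebraMap (AdjoinRoot (X ^ e - C π : A[X])) L') := by
  have hirr : Irreducible π := (IsDiscreteValuationRing.irreducible_iff_uniformizer π).2 hπ
  constructor
  · intro h
    obtain ⟨e₀, he₀, hc₀, hall⟩ := Groth.Agent.S9329.result (K := K) (L := L) π hπ h
    exact ⟨1 * e₀, by omega, by rwa [one_mul], hall 1 Nat.one_pos (by simp)⟩
  · rintro ⟨e, he, hc, M, _, _, _, ι, hfd, hsep, hof, h⟩
    rw [IsScalarTower.algebraMap_eq A K L]
    letI : Algebra L M := ι.toRingHom.toAlgebra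
    have : IsScalarTower K L M := IsScalarTower.of_algebraMap_eq fun c => (ι.commutes c).symm
    refine EtRamTameLib.tame_sub (M := M) fun W hW => ?_
    letI : Algebra A W := (RingHom.codRestrict ((algebraMap K M).comp (algebraMap A K)) W hW.1).toAlgebra
    intro _
    let ψ : AdjoinRoot (X ^ e - C π : A[X]) →+* ResidueField A := AdjoinRoot.lift (residue A) 0 (by
      rw [eval₂_sub, eval₂_pow, eval₂_X, eval₂_C, zero_pow he.ne', zero_sub, neg_eq_zero, residue_eq_zero_iff]
      exact hirr.not_isUnit)
    have hloc : IsLocalRing (AdjoinRoot (X ^ e - C π : A[X])) := EtRamTameLib.isLocalRing_adj hirr he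
    obtain ⟨h1, h2⟩ := (EtRamTameLib.unramified_adj_iff hof hirr he).1 h W hW
    exact ⟨h2, h1.symm ▸ (EtRamTameLib.prime_to_iff he).2 hc⟩

end Groth.Agent.S9328
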