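import Groth.Statements.S9336
import Groth.Agent.SweepSix.FtPts
-- import your own Groth.Agent.* helpers here

set_option autoImplicit false
universe u
open QFin

namespace Groth.Agent.S9336

open CategoryTheory CategoryTheory.Limits AlgebraicGeometry

open AlgebraicGeometry CategoryTheory in
/-- Let f : X → Y be surjective and g : Y → S locally of finite type. If g ∘ f is locally quasi-finite
(and locally of finite type), then g is locally quasi-finite. -/
theorem result {X Y S : Scheme.{u}} (f : X ⟶ Y) (g : Y ⟶ S) [Surjective f]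
    [LocallyQuasiFinite (f ≫ g)] [LocallyOfFiniteType (f ≫ g)] [LocallyOfFiniteType g] :
    LocallyQuasiFinite g := by
  rw [locallyQuasiFinite_iff_isDiscrete_preimage_singleton]
  intro s
  suffices DiscreteTopology ↥(g.fiber s) from
    ⟨(g.fiberHomeo s).discreteTopology⟩
  have : LocallyOfFiniteType (g.fiberToSpecResidueField s) :=
    MorphismProperty.pullback_snd _ _ ‹_›
  have : LocallyOfFiniteType ((f ≫ g).fiberToSpecResidueField s) :=
    MorphismProperty.pullback_snd _ _ ‹_›
  have : IsLocallyNoetherian (g.fiber s) :=
    LocallyOfFiniteType.isLocallyNoetherian (g.fiberToSpecResidueField s)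
  have : JacobsonSpace (g.fiber s) :=
    LocallyOfFiniteType.jacobsonSpace (g.fiberToSpecResidueField s)
  have : JacobsonSpace ((f ≫ g).fiber s) :=
    LocallyOfFiniteType.jacobsonSpace ((f ≫ g).fiberToSpecResidueField s)
  let q : (f ≫ g).fiber s ⟶ g.fiber s :=
    pullback.lift ((f ≫ g).fiberι s ≫ f) ((f ≫ g).fiberToSpecResidueField s) (by
      rw [Category.assoc]; exact pullback.condition)
  have hq : q ≫ g.fiberι s = (f ≫ g).fiberι s ≫ f := pullback.lift_fst _ _ _
  have : LocallyOfFiniteType (q ≫ g.fiberToSpecResidueField s) := by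
    rw [show q ≫ g.fiberToSpecResidueField s = _ from pullback.lift_snd _ _ _]; infer_instance
  have : LocallyOfFiniteType q := locallyOfFiniteType_of_comp q (g.fiberToSpecResidueField s)
  have hclosed : ∀ y : g.fiber s, IsClosed ({y} : Set (g.fiber s)) := by
    intro y
    obtain ⟨x, hx⟩ := f.surjective (g.fiberι s y)
    have hxs : (f ≫ g) x = s := by
      rw [Scheme.Hom.comp_apply, hx]
      exact (g.fiberHomeo s y).2
    let z := ((f ≫ g).fiberHomeo s).symm ⟨x, hxs⟩
    have hz : (f ≫ g).fiberι s z = x := (f ≫ g).fiberι_fiberHomeo_symm _ _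
    have : DiscreteTopology ↥((f ≫ g).fiber s) :=
      haveI := ((f ≫ g).isDiscrete_preimage_singleton s).1
      ((f ≫ g).fiberHomeo s).symm.discreteTopology
    have hzy : q z = y := (g.fiberι s).isEmbedding.injective (by
      rw [← Scheme.Hom.comp_apply, hq, Scheme.Hom.comp_apply, hz, hx])
    rw [← hzy, isClosed_singleton_iff_locallyOfFiniteType]
    exact SweepSix.image_mem q
      (isClosed_singleton_iff_locallyOfFiniteType.1 (isClosed_discrete _))
  rw [discreteTopology_iff_isOpen_singleton]
  intro y
  refine SweepSix.isOpen_of_isClosed_of_stableUnderGeneralization (hclosed y) fun a b hab ha => ?_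
  rw [Set.mem_singleton_iff] at ha ⊢
  subst ha
  exact ((hclosed b).stableUnderSpecialization hab rfl).symm

end Groth.Agent.S9336
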