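import Groth.Statements.S9340
import Groth.Agent.SweepSix.FtPts
-- import your own Groth.Agent.* helpers here

set_option autoImplicit false
universe u
open FtPts

namespace Groth.Agent.S9340

open AlgebraicGeometry CategoryTheory in
/-- A surjective morphism locally of finite type maps the set of finite type points of the source onto
the set of finite type points of the target. -/
theorem result {T S : Scheme.{u}} (f : T ⟶ S) [LocallyOfFiniteType f] [Surjective f] :
    f.base '' {t : ↑T | LocallyOfFiniteType (T.fromSpecResidueField t)} =
      {s : ↑S | LocallyOfFiniteType (S.fromSpecResidueField s)} := by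
  refine Set.Subset.antisymm (by rintro _ ⟨t, ht, rfl⟩; exact SweepSix.image_mem f ht) fun s hs => ?_
  obtain ⟨U, hU, hsU, hc⟩ := (SweepSix.mem_iff s).1 hs
  have hlc : IsLocallyClosed ({s} : Set S) := by
    have h := hc.isLocallyClosed.image (f := (Subtype.val : U → S)) Topology.IsInducing.subtypeVal
      (Subtype.range_coe.symm ▸ U.2.isLocallyClosed)
    rwa [Set.image_singleton] at h
  obtain ⟨t, ht, h⟩ := SweepSix.nonempty_inter (hlc.preimage f.continuous) (f.surjective s)
  exact ⟨t, h, ht⟩

end Groth.Agent.S9340
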