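import Groth.Statements.S9346
import Mathlib

set_option autoImplicit false
universe u
open Dom

namespace Groth.Agent.S9346

open CategoryTheory AlgebraicGeometry TopologicalSpace

variable {X Y : Scheme.{u}} [IsIntegral X] [IsIntegral Y] (f : X ⟶ Y)

theorem exists_killed (hne : f (genericPoint X) ≠ genericPoint Y) {V : Y.Opens} (hV : IsAffineOpen V)
    (hmem : f (genericPoint X) ∈ V) :
    ∃ g : Γ(Y, V), g ≠ 0 ∧ f.stalkMap (genericPoint X) (Y.presheaf.germ V _ hmem g) = 0 := by
  have hnsp : ¬ f (genericPoint X) ⤳ genericPoint Y := fun h =>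
    hne (h.antisymm (genericPoint_specializes _)).eq
  obtain ⟨W, hW, hηW, hfW⟩ := not_specializes_iff_exists_open.1 hnsp
  have hηV : genericPoint Y ∈ V := (genericPoint_specializes _).mem_open V.2 hmem
  obtain ⟨g, hg, hηg⟩ := hV.exists_basicOpen_le ⟨genericPoint Y, show genericPoint Y ∈ (⟨W, hW⟩ : Y.Opens) from hηW⟩ hηV
  refine ⟨g, ?_, ?_⟩
  · rintro rfl
    rw [Scheme.basicOpen_zero] at hηg
    exact hηg
  · by_contra h0
    have hu : IsUnit (f.stalkMap (genericPoint X) (Y.presheaf.germ V _ hmem g)) :=
      (isUnit_iff_ne_zero (G₀ := X.functionField)).2 h0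
    have := (Scheme.mem_basicOpen Y g _ hmem).2 (isUnit_of_map_unit (f.stalkMap (genericPoint X)).hom _ hu)
    exact hfW (hg this)

open AlgebraicGeometry CategoryTheory in
/-- For a morphism f : X → Y between integral schemes, these six conditions coincide: (1) f is dominant;
(2) f sends the generic point of X to that of Y; (3) there exist affine opens U ⊆ X, V ⊆ Y with U
nonempty and U ⊆ f⁻¹V such that the induced ring map on sections is injective; (4) the same for all
such pairs; (5) for some x ∈ X the map of local rings O_{Y,f x} → O_{X,x} is injective; (6) the same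
for all x. -/
theorem result {X Y : Scheme.{u}} [AlgebraicGeometry.IsIntegral X] [AlgebraicGeometry.IsIntegral Y] (f : X ⟶ Y) :
    [IsDominant f,
      f.base (genericPoint ↑X) = genericPoint ↑Y,
      ∃ (U : X.Opens) (V : Y.Opens) (hUV : U ≤ f ⁻¹ᵁ V), IsAffineOpen U ∧ IsAffineOpen V ∧ (U : Set ↑X).Nonempty ∧
        Function.Injective (f.appLE V U hUV),
      ∀ (U : X.Opens) (V : Y.Opens) (hUV : U ≤ f ⁻¹ᵁ V), IsAffineOpen U → IsAffineOpen V → (U : Set ↑X).Nonempty →
        Function.Injective (f.appLE V U hUV),
      ∃ x : ↑X, Function.Injective (f.stalkMap x),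
      ∀ x : ↑X, Function.Injective (f.stalkMap x)].TFAE := by
  tfae_have 1 → 2 := fun h => by
    have h1 := (genericPoint_spec X).image f.continuous
    rw [Set.image_univ, (h.1).closure_range] at h1
    exact h1.eq (genericPoint_spec Y)
  tfae_have 2 → 1 := fun h => ⟨fun y => by
    have : y ∈ closure ({f (genericPoint X)} : Set Y) := by
      rw [show f (genericPoint X) = genericPoint Y from h, (genericPoint_spec Y).def]
      trivial
    exact closure_mono (show ({f (genericPoint X)} : Set Y) ⊆ Set.range f from Set.singleton_subset_iff.2 ⟨_, rfl⟩) this⟩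
  tfae_have 2 → 6 := fun h x => by
    have hη : Function.Injective (f.stalkMap (genericPoint X)) := by
      haveI : IsIntegral Y := inferInstance
      have hfld : IsField (Y.presheaf.stalk (f (genericPoint X))) := by
        rw [show f (genericPoint X) = genericPoint Y from h]
        exact Field.toIsField Y.functionField
      letI := hfld.toField
      exact (f.stalkMap (genericPoint X)).hom.injective
    have hsp := Scheme.Hom.stalkSpecializes_stalkMap f (genericPoint X) x (genericPoint_specializes x)
    have hinj : Function.Injective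
        (Y.presheaf.stalkSpecializes ((genericPoint_specializes x).map f.continuous)) := by
      have h2 : f (genericPoint X) = genericPoint Y := h
      have h3 : Function.Injective (Y.presheaf.stalkSpecializes (genericPoint_specializes (f x))) :=
        IsFractionRing.injective (Y.presheaf.stalk (f x)) Y.functionField
      intro a b hab
      apply h3
      have := congrArg (Y.presheaf.stalkSpecializes (specializes_of_eq h2.symm)) hab
      rwa [← CommRingCat.comp_apply, ← CommRingCat.comp_apply, TopCat.Presheaf.stalkSpecializes_comp] at this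
    intro a b hab
    apply hinj
    apply hη
    rw [← CommRingCat.comp_apply, ← CommRingCat.comp_apply, hsp, CommRingCat.comp_apply, CommRingCat.comp_apply, hab]
  tfae_have 6 → 5 := fun h => ⟨genericPoint X, h _⟩
  tfae_have 5 → 2 := fun ⟨x, hx⟩ => by
    by_contra hne
    obtain ⟨V, hV, hxV, -⟩ := exists_isAffineOpen_mem_and_subset (X := Y) (x := f x) (U := ⊤) trivial
    have hmem : f (genericPoint X) ∈ V := ((genericPoint_specializes x).map f.continuous).mem_open V.2 hxV
    obtain ⟨g, hg0, hg⟩ := exists_killed f hne hV hmem
    refine hg0 (germ_injective_of_isIntegral Y (f x) hxV (hx ?_))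
    apply IsFractionRing.injective (X.presheaf.stalk x) X.functionField
    rw [map_zero, map_zero, map_zero]
    show X.presheaf.stalkSpecializes (genericPoint_specializes x) (f.stalkMap x (Y.presheaf.germ V (f x) hxV g)) = 0
    rw [← CommRingCat.comp_apply, ← Scheme.Hom.stalkSpecializes_stalkMap, CommRingCat.comp_apply,
      TopCat.Presheaf.germ_stalkSpecializes_apply]
    exact hg
  tfae_have 2 → 4 := fun h U V hUV hU hV hne => by
    intro a b hab
    have hη : genericPoint X ∈ U := by
      obtain ⟨x, hx⟩ := hne
      exact (genericPoint_specializes x).mem_open U.2 hx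
    have hfld : IsField (Y.presheaf.stalk (f (genericPoint X))) := by
      rw [show f (genericPoint X) = genericPoint Y from h]
      exact Field.toIsField Y.functionField
    letI := hfld.toField
    apply germ_injective_of_isIntegral Y (f (genericPoint X)) (hUV hη)
    apply (f.stalkMap (genericPoint X)).hom.injective
    have := congrArg (X.presheaf.germ U _ hη) hab
    simp only [Scheme.Hom.appLE, CommRingCat.comp_apply, TopCat.Presheaf.germ_res_apply] at this
    show f.stalkMap _ _ = f.stalkMap _ _
    rw [Scheme.Hom.germ_stalkMap_apply, Scheme.Hom.germ_stalkMap_apply]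
    exact this
  tfae_have 4 → 3 := fun h => by
    obtain ⟨V, hV, hxV, -⟩ := exists_isAffineOpen_mem_and_subset (X := Y) (x := f (genericPoint X)) (U := ⊤) trivial
    obtain ⟨U, hU, hxU, hle⟩ := exists_isAffineOpen_mem_and_subset (X := X) (x := genericPoint X) (U := f ⁻¹ᵁ V) (show genericPoint X ∈ f ⁻¹ᵁ V from hxV)
    exact ⟨U, V, hle, hU, hV, ⟨_, hxU⟩, h U V hle hU hV ⟨_, hxU⟩⟩
  tfae_have 3 → 2 := fun ⟨U, V, hUV, hU, hV, hne, hinj⟩ => by
    by_contra hn
    have hη : genericPoint X ∈ U := by
      obtain ⟨x, hx⟩ := hne
      exact (genericPoint_specializes x).mem_open U.2 hx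
    obtain ⟨g, hg0, hg⟩ := exists_killed f hn hV (hUV hη)
    refine hg0 (hinj (Eq.trans ?_ (map_zero _).symm))
    apply germ_injective_of_isIntegral X (genericPoint X) hη
    rw [map_zero]
    refine Eq.trans ?_ hg
    rw [Scheme.Hom.germ_stalkMap_apply]
    simp only [Scheme.Hom.appLE, CommRingCat.comp_apply, TopCat.Presheaf.germ_res_apply]
  tfae_finish

end Groth.Agent.S9346
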