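import Groth.Statements.S9352
import Mathlib
import Groth.Agent.FlatRankLib.Basic
import Groth.Agent.AVAmpleLib.CartierSection
-- import your own Groth.Agent.* helpers here

set_option autoImplicit false
universe u
open FlatMod

namespace Groth.Agent.S9352

open AlgebraicGeometry CategoryTheory in
/-- For a scheme X, every finite type flat quasi-coherent O_X-module is finite locally free if and only
if every closed subset of X that is stable under generalization is open. -/
theorem result (X : Scheme.{u}) :
    (∀ F : X.Modules, Coh.IsQCoh F → CohB1.IsFT F → FlatMod.IsFlat F → FlatMod.IsFinLocFree F) ↔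
      ∀ Z : Set ↑X, IsClosed Z → StableUnderGeneralization Z → IsOpen Z := by
  constructor
  · intro h Z hZ hgen
    obtain ⟨I, hI, hIs⟩ := (Groth.Agent.S9351.result X).1.2.2 (show (⟨Z, hZ⟩ : TopologicalSpace.Closeds X) ∈
      {Z : TopologicalSpace.Closeds ↑X | StableUnderGeneralization (Z : Set ↑X)} from hgen)
    haveI : Flat I.subschemeι := hI
    haveI hq : Coh.IsQCoh (ClSub.quotMod I) :=
      haveI h1 : CohB1.IsFP (Coh.structureModule I.subscheme) := DepthLib.isFP_structureModule
      QCohLib.isQCoh_pushforward I.subschemeι _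
    haveI : Epi (ClSub.toSubscheme I) := CurvLib.epi_toSubscheme I
    haveI h2 : CohB1.IsFP (Coh.structureModule X) := DepthLib.isFP_structureModule
    have hft : CohB1.IsFT (ClSub.quotMod I) := QCohLib.isFT_of_epi (ClSub.toSubscheme I)
      (show CohB1.IsFT (Coh.structureModule X) from inferInstance)
    obtain ⟨-, hfree, hrk⟩ := MiscFlat6.isFinLocFree_iff_isFT_free_rank.1
      (h _ hq hft (FlatRankLib.isFlat_quotMod I))
    have hZ' : Z = {x : X | FlatRankLib.rk (ClSub.quotMod I) x = 0}ᶜ := by
      have hc : Z = (I.support : Set X) := congrArg (fun T : TopologicalSpace.Closeds X => (T : Set X)) hIs.symm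
      rw [hc, ← AVAmpleLib.support_quotMod I]
      ext x
      haveI := FlatRankLib.finite_stalk_of_isFT hft x
      haveI := hfree x
      show ¬ Subsingleton _ ↔ ¬ FlatRankLib.rk _ x = 0
      rw [FlatRankLib.rk, MiscFlat6.finrank_fibre, Module.finrank_eq_zero_iff_of_free]
    rw [hZ']
    exact (hrk.isClosed_fiber 0).isOpen_compl
  · intro h F hq hft hflat
    haveI := hq
    exact MiscFlat6.isFinLocFree_iff_isFT_free_rank.2
      ⟨hft, FlatRankLib.free_stalk hft hflat, FlatRankLib.isLocallyConstant_rk hft hflat h⟩

end Groth.Agent.S9352
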