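import Groth.Statements.S9361
import Mathlib
-- import your own Groth.Agent.* helpers here

set_option autoImplicit false
universe u
open SchImage

namespace Groth.Agent.S9361

open AlgebraicGeometry CategoryTheory in
/-- Let f : X → Y be separated, V ⊆ Y a retrocompact open and s : V → X a section of f over V. If Y' ⊆ X
is the scheme-theoretic image of s, then Y' → Y is an isomorphism over V. -/
theorem result {X Y : Scheme.{u}} (f : X ⟶ Y) [IsSeparated f] (V : Y.Opens) [QuasiCompact V.ι]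
    (s : (↑V : Scheme.{u}) ⟶ X) (hs : s ≫ f = V.ι) :
    IsIso ((s.imageι ≫ f) ∣_ V) := by
  haveI : QuasiCompact s := by
    have : QuasiCompact (s ≫ f) := hs ▸ inferInstance
    exact QuasiCompact.of_comp s f
  let m := s.toImage
  let π := s.imageι ≫ f
  have hm : m ≫ π = V.ι := by rw [← Category.assoc, s.toImage_imageι, hs]
  haveI : QuasiCompact m := inferInstanceAs (QuasiCompact s.toImage)
  have hker : m.ker = ⊥ := by
    refine Scheme.IdealSheafData.ext_of_iSup_eq_top
      (fun U : X.affineOpens => ⟨s.imageι ⁻¹ᵁ U.1, U.2.preimage s.imageι⟩) ?_ fun U => ?_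
    · rw [← Scheme.Hom.preimage_iSup, iSup_affineOpens_eq_top, Scheme.Hom.preimage_top]
    · rw [Scheme.Hom.ker_apply, Scheme.IdealSheafData.ideal_bot, Pi.bot_apply, ← RingHom.injective_iff_ker_eq_bot]
      exact s.toImage_app_injective U
  have hkW : (m ∣_ (π ⁻¹ᵁ V)).ker = ⊥ := by
    refine Scheme.IdealSheafData.ext (funext fun U => ?_)
    rw [Scheme.ker_morphismRestrict_ideal, hker, Scheme.IdealSheafData.ideal_bot, Scheme.IdealSheafData.ideal_bot,
      Pi.bot_apply, Pi.bot_apply]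
    try rfl
  haveI hiso : IsIso ((m ∣_ (π ⁻¹ᵁ V)) ≫ (π ∣_ V)) := by
    have h2 : IsIso ((m ≫ π) ∣_ V) := by
      rw [hm]
      have h3 : V.ι ∣_ V = (V.ι ⁻¹ᵁ V).ι := by
        rw [← cancel_mono V.ι, morphismRestrict_ι]
      rw [h3, V.ι_preimage_self]
      exact inferInstanceAs (IsIso (Scheme.topIso _).hom)
    rw [morphismRestrict_comp] at h2
    exact h2
  haveI : IsSeparated (π ∣_ V) := inferInstance
  haveI : IsClosedImmersion (m ∣_ (π ⁻¹ᵁ V)) := by
    haveI : IsClosedImmersion ((m ∣_ (π ⁻¹ᵁ V)) ≫ (π ∣_ V)) := inferInstance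
    exact IsClosedImmersion.of_comp _ (π ∣_ V)
  haveI : IsIso (m ∣_ (π ⁻¹ᵁ V)) := IsClosedImmersion.isIso_iff_ker_eq_bot.2 hkW
  exact IsIso.of_isIso_comp_left (m ∣_ (π ⁻¹ᵁ V)) (π ∣_ V)

end Groth.Agent.S9361
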