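import Groth.Statements.S9362
import Groth.Agent.KFlatLib.CoprodKFlat
import Groth.Agent.QCohLib.QCoh
import Mathlib.CategoryTheory.Abelian.GrothendieckAxioms.Basic
import Mathlib.CategoryTheory.Subobject.Basic
-- import your own Groth.Agent.* helpers here

set_option autoImplicit false
set_option backward.isDefEq.respectTransparency false
set_option linter.all false
universe u
open QCohSub

namespace Groth.Agent.S9362

open CategoryTheory CategoryTheory.Limits AlgebraicGeometry TopologicalSpace Opposite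

open AlgebraicGeometry CategoryTheory in
/-- Let F be a quasi-coherent O_X-module and G ⊆ F an O_X-submodule. There is a quasi-coherent submodule
G' ⊆ G such that Hom(H, G') → Hom(H, G) is bijective for every quasi-coherent O_X-module H; in
particular G' is the largest quasi-coherent submodule of F contained in G (it is unique up to unique
isomorphism over G). -/
theorem result (X : Scheme.{u}) (F G : X.Modules) (hF : Coh.IsQCoh F) (j : G ⟶ F) [Mono j] :
    ∃ (G' : X.Modules) (k : G' ⟶ G), Coh.IsQCoh G' ∧ Mono k ∧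
      ∀ H : X.Modules, Coh.IsQCoh H → Function.Bijective (fun φ : H ⟶ G' => φ ≫ k) := by
  haveI := hF
  haveI : WellPowered.{u} X.Modules := IsGrothendieckAbelian.wellPowered.{u} X.Modules
  let Q : Set (Subobject F) := {P | Coh.IsQCoh (P : X.Modules) ∧ ∃ a : (P : X.Modules) ⟶ G, a ≫ j = P.arrow}
  let S : Shrink.{u} Q → X.Modules := fun s => ((equivShrink Q).symm s).1
  have hS : ∀ s, Coh.IsQCoh (S s) := fun s => ((equivShrink Q).symm s).2.1
  choose a ha using fun s => ((equivShrink Q).symm s).2.2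
  haveI : Coh.IsQCoh (∐ S) := QCohLib.isQCoh_sigma S hS
  let v : ∐ S ⟶ G := Sigma.desc a
  haveI : Coh.IsQCoh (cokernel (v ≫ j)) := QCohLib.isQCoh_cokernel _
  haveI : Coh.IsQCoh (Abelian.image (v ≫ j)) := QCohLib.isQCoh_kernel (cokernel.π (v ≫ j))
  obtain ⟨k, hk⟩ : ∃ k : Abelian.image (v ≫ j) ⟶ G, k ≫ j = Abelian.image.ι (v ≫ j) := by
    have h0 : Abelian.image.ι (v ≫ j) ≫ cokernel.π j = 0 := by
      rw [← cancel_epi (Abelian.factorThruImage (v ≫ j)), ← Category.assoc, Abelian.image.fac, Category.assoc,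
        cokernel.condition, comp_zero, comp_zero]
    exact ⟨Abelian.monoLift j _ h0, Abelian.monoLift_comp j _ h0⟩
  haveI : Mono k := mono_of_mono_fac hk
  refine ⟨_, k, inferInstance, inferInstance, fun H hH => ⟨fun φ ψ h => (cancel_mono k).1 h, fun φ => ?_⟩⟩
  haveI := hH
  haveI : Coh.IsQCoh (cokernel (φ ≫ j)) := QCohLib.isQCoh_cokernel _
  haveI hIq : Coh.IsQCoh (Abelian.image (φ ≫ j)) := QCohLib.isQCoh_kernel (cokernel.π (φ ≫ j))
  let P := Subobject.mk (Abelian.image.ι (φ ≫ j))
  have hPQ : P ∈ Q := by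
    refine ⟨QCohLib.isQCoh_of_iso (Subobject.underlyingIso (Abelian.image.ι (φ ≫ j))).symm, ?_⟩
    have h0 : P.arrow ≫ cokernel.π j = 0 := by
      rw [← cancel_epi (Subobject.underlyingIso (Abelian.image.ι (φ ≫ j))).inv, comp_zero, ← Category.assoc,
        Subobject.underlyingIso_arrow, ← cancel_epi (Abelian.factorThruImage (φ ≫ j)), ← Category.assoc,
        Abelian.image.fac, Category.assoc, cokernel.condition, comp_zero, comp_zero]
    exact ⟨Abelian.monoLift j _ h0, Abelian.monoLift_comp j _ h0⟩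
  obtain ⟨e, he⟩ : ∃ e : (P : X.Modules) ⟶ ∐ S, e ≫ v ≫ j = P.arrow := by
    let s := equivShrink Q ⟨P, hPQ⟩
    have hs : ((equivShrink Q).symm s).1 = P := by rw [Equiv.symm_apply_apply]
    refine ⟨eqToHom (congrArg (fun P : Subobject F => (P : X.Modules)) hs.symm) ≫ Sigma.ι S s, ?_⟩
    rw [Category.assoc, Sigma.ι_desc_assoc, ha]
    exact Subobject.arrow_congr _ _ hs.symm
  refine ⟨Abelian.factorThruImage (φ ≫ j) ≫ (Subobject.underlyingIso (Abelian.image.ι (φ ≫ j))).inv ≫ e ≫
    Abelian.factorThruImage (v ≫ j), (cancel_mono j).1 ?_⟩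
  simp only [Category.assoc, hk, Abelian.image.fac, he, Subobject.underlyingIso_arrow]
  show Abelian.factorThruImage (φ ≫ j) ≫ (Subobject.underlyingIso (Abelian.image.ι (φ ≫ j))).inv ≫ (Subobject.mk (Abelian.image.ι (φ ≫ j))).arrow = φ ≫ j
  rw [Subobject.underlyingIso_arrow, Abelian.image.fac]

end Groth.Agent.S9362
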