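import Groth.Statements.S9376
import Groth.Agent.DevissLib.KilledImm
import Groth.Agent.QCohLib.Push
-- import your own Groth.Agent.* helpers here

set_option autoImplicit false
set_option backward.isDefEq.respectTransparency false
set_option linter.all false
universe u
open QCohSub

namespace Groth.Agent.S9376

open CategoryTheory CategoryTheory.Limits AlgebraicGeometry TopologicalSpace Opposite

open AlgebraicGeometry CategoryTheory Opposite in
/-- For a closed immersion i : Z → X with ideal sheaf 𝓘 and a quasi-coherent O_X-module G, the unit G →
i_* i^* G is an isomorphism if and only if 𝓘 G = 0 (sections of 𝓘 over affine opens annihilate the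
sections of G). Full faithfulness and exactness of i_* are not restated. -/
theorem result {Z X : Scheme.{u}} (i : Z ⟶ X) [IsClosedImmersion i]
    (G : X.Modules) (hG : Coh.IsQCoh G) :
    IsIso ((Scheme.Modules.pullbackPushforwardAdjunction i).unit.app G) ↔
      ∀ (U : X.affineOpens) (a : Γ(X, U.1)), a ∈ i.ker.ideal U → ∀ s : Γ(G, U.1), a • s = 0 := by
  constructor
  · intro h U a ha s
    haveI := h
    have hinj : Function.Injective
        (((Scheme.Modules.pullbackPushforwardAdjunction i).unit.app G).app U.1) :=
      (ConcreteCategory.bijective_of_isIso _).1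
    refine hinj ?_
    rw [map_zero]
    refine (QCohLib.app_smul ((Scheme.Modules.pullbackPushforwardAdjunction i).unit.app G) U.1 a s).trans ?_
    refine (QCohLib.push_smul i _ a _).trans ?_
    rw [Scheme.Hom.ker_apply, RingHom.mem_ker] at ha
    rw [show (ConcreteCategory.hom (i.app U.1)) a = 0 from ha]
    exact zero_smul Γ(Z, i ⁻¹ᵁ U.1) (show Γ((Scheme.Modules.pullback i).obj G, i ⁻¹ᵁ U.1) from
      ((Scheme.Modules.pullbackPushforwardAdjunction i).unit.app G).app U.1 s)
  · intro h
    exact DevissLib.isIso_unit_of_killed i h

end Groth.Agent.S9376
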