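import Groth.Statements.S9377
import Groth.Agent.DevissLib.AnnIdeal
import Groth.Agent.CycKSuppLib.Killed

set_option autoImplicit false
universe u
open QCohSub

namespace Groth.Agent.S9377

open AlgebraicGeometry CategoryTheory Opposite in
/-- A finite type quasi-coherent O_X-module F has a scheme-theoretic support: a closed subscheme Z
(ideal sheaf J), cut out on each affine open U by the annihilator of F(U), such that F ≅ i_* i^* F
via the unit, any other closed subscheme for which this unit is an isomorphism contains Z (i.e. its
ideal sheaf lies below J), and Z has the same underlying set as Supp(F). (The published statement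
also says that the O_Z-module G with i_*G ≅ F is unique up to unique isomorphism and of finite type;
those clauses are not stated here.) -/
theorem result (X : Scheme.{u}) (F : X.Modules) (hq : Coh.IsQCoh F) (hft : CohB1.IsFT F) :
    ∃ J : X.IdealSheafData,
      (∀ U : X.affineOpens, J.ideal U = Module.annihilator Γ(X, U.1) Γ(F, U.1)) ∧
        IsIso ((Scheme.Modules.pullbackPushforwardAdjunction J.subschemeι).unit.app F) ∧
          (∀ J' : X.IdealSheafData, IsIso ((Scheme.Modules.pullbackPushforwardAdjunction J'.subschemeι).unit.app F) → J' ≤ J) ∧
            (J.support : Set ↑X) = CohB1.support F := by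
  haveI := hq
  refine ⟨DevissLib.annIdeal F hft, fun _ => rfl, DevissLib.isIso_unit_of_killed _ (by
    rw [Scheme.IdealSheafData.ker_subschemeι]; exact DevissLib.killed_annIdeal F hft), fun J' hJ' => ?_,
    DevissLib.support_annIdeal F hft⟩
  haveI := hJ'
  intro U a ha
  show a ∈ Module.annihilator Γ(X, U.1) Γ(F, U.1)
  refine Module.mem_annihilator.mpr fun m => ?_
  let e := asIso ((Scheme.Modules.pullbackPushforwardAdjunction J'.subschemeι).unit.app F)
  have hk := CycKSuppLib.killed_push J'.subschemeι ((Scheme.Modules.pullback J'.subschemeι).obj F) U a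
    (by rw [Scheme.IdealSheafData.ker_subschemeι]; exact ha) (e.hom.app U.1 m)
  have h1 : e.hom.app U.1 (a • m) = 0 := by
    rw [Scheme.Modules.Hom.app_smul]
    exact hk
  have h2 : e.inv.app U.1 (e.hom.app U.1 (a • m)) = a • m := by
    rw [← ConcreteCategory.comp_apply, ← Scheme.Modules.Hom.comp_app, e.hom_inv_id]
    rfl
  rw [← h2, h1, map_zero]

end Groth.Agent.S9377
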