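import Groth.Statements.S9378
import Groth.Agent.DevissLib.AnnIdeal
import Groth.Agent.ConsLib.ModLoci
import Groth.Agent.KFlatLib.AffinePull
import Groth.Agent.RGFlatLib.Local
import Groth.Agent.S6283
-- import your own Groth.Agent.* helpers here

set_option autoImplicit false
set_option maxHeartbeats 2000000
set_option backward.isDefEq.respectTransparency false
universe u
open QCohSub

namespace Groth.Agent.S9378

open AlgebraicGeometry CategoryTheory Opposite in
/-- Let f : Y → X be flat and F a quasi-coherent O_X-module of finite type, where the ideal sheaf J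
(given by annihilators on affine opens) defines the scheme-theoretic support of F. Then the inverse
image ideal sheaf of J along f cuts out the scheme-theoretic support of f^*F. -/
theorem result {Y X : Scheme.{u}} (f : Y ⟶ X) [Flat f] (F : X.Modules)
    (hq : Coh.IsQCoh F) (hft : CohB1.IsFT F) (J : X.IdealSheafData)
    (hJ : ∀ U : X.affineOpens, J.ideal U = Module.annihilator Γ(X, U.1) Γ(F, U.1)) :
    ∀ V : Y.affineOpens, (J.comap f).ideal V =
      Module.annihilator Γ(Y, V.1) Γ((Scheme.Modules.pullback f).obj F, V.1) := by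
  intro V
  haveI : Coh.IsQCoh F := hq
  haveI : Coh.IsQCoh ((Scheme.Modules.pullback f).obj F) := KFlatLib.isQCoh_pullback f F
  have hftY : CohB1.IsFT ((Scheme.Modules.pullback f).obj F) := ConsLib.isFT_pullback f F hft
  suffices h : J.comap f = DevissLib.annIdeal ((Scheme.Modules.pullback f).obj F) hftY by
    rw [h]; rfl
  let ι := {p : Y.affineOpens × X.affineOpens // p.1.1 ≤ f ⁻¹ᵁ p.2.1}
  refine Scheme.IdealSheafData.ext_of_iSup_eq_top (fun p : ι => p.1.1) ?_ ?_
  · refine top_le_iff.mp fun y _ => ?_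
    obtain ⟨U, hU, hyU, -⟩ := exists_isAffineOpen_mem_and_subset (TopologicalSpace.Opens.mem_top (f y))
    obtain ⟨W, hW, hyW, hle⟩ := exists_isAffineOpen_mem_and_subset (U := f ⁻¹ᵁ U) (x := y) hyU
    exact TopologicalSpace.Opens.mem_iSup.mpr ⟨⟨(⟨W, hW⟩, ⟨U, hU⟩), hle⟩, hyW⟩
  rintro ⟨⟨⟨W, hW⟩, ⟨U, hU⟩⟩, hle⟩
  change (J.comap f).ideal ⟨W, hW⟩ = Module.annihilator Γ(Y, W) Γ((Scheme.Modules.pullback f).obj F, W)
  rw [← RGFlatLib.ideal_comap_appLE f J hU hW hle, hJ ⟨U, hU⟩]
  algebraize [(f.appLE U W hle).hom]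
  haveI : Module.Flat Γ(X, U) Γ(Y, W) := by
    have := HasRingHomProperty.appLE (P := @Flat) f inferInstance ⟨U, hU⟩ ⟨W, hW⟩ hle
    exact this
  letI : Module Γ(X, U) Γ((Scheme.Modules.pullback f).obj F, W) :=
    Module.compHom _ (f.appLE U W hle).hom
  haveI : IsScalarTower Γ(X, U) Γ(Y, W) Γ((Scheme.Modules.pullback f).obj F, W) :=
    ⟨fun r s m => mul_smul _ s m⟩
  let ψ : Γ(F, U) →ₗ[Γ(X, U)] Γ((Scheme.Modules.pullback f).obj F, W) :=
    { toFun := KFlatLib.puSecLE f F hle
      map_add' := map_add _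
      map_smul' := fun r m => KFlatLib.puSecLE_smul f F hle r m }
  have hbc := KFlatLib.isBaseChange_puSec f F hU hW hle (fun r => rfl) ψ (fun m => rfl)
  haveI := QCohLib.finite_of_isFT hft hU
  rw [← LinearEquiv.annihilator_eq hbc.equiv]
  exact (Groth.Agent.S6283.result (R := Γ(X, U)) (S := Γ(Y, W)) Γ(F, U)).2 inferInstance

end Groth.Agent.S9378
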