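import Groth.Statements.S9380
import Groth.Agent.QAffFactorLib.Main

set_option autoImplicit false
set_option linter.style.haveILetI false
set_option backward.isDefEq.respectTransparency false
set_option backward.isDefEq.respectTransparency.types false
universe u
open QAff

namespace Groth.Agent.S9380


open AlgebraicGeometry CategoryTheory Opposite


open AlgebraicGeometry CategoryTheory in
/-- A quasi-compact quasi-separated morphism f : X → S is quasi-affine if and only if the canonical
S-morphism X → Spec_S(f_*O_X) (the one inducing the comparison map on direct-image algebras) exists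
as a quasi-compact open immersion. -/
theorem result {X S : Scheme.{u}} (f : X ⟶ S) [QuasiCompact f] [QuasiSeparated f] :
    MoreMor.IsQuasiAffineHom f ↔
      ∃ (c : X ⟶ (RelSpec.QCAlg.directImage f).spec) (e : c ≫ (RelSpec.QCAlg.directImage f).π = f),
        (RelSpec.QCAlg.directImage f).gammaMap = AffAlg.algHom (RelSpec.QCAlg.directImage f).π f c e ∧
          QuasiCompact c ∧ IsOpenImmersion c := by
  constructor
  · rintro ⟨-, hf⟩
    obtain ⟨g, ⟨hg, he⟩, -⟩ := CycBdlLib.pts (RelSpec.QCAlg.directImage f) f (𝟙 _)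
    haveI := CycBdlLib.isIso_gammaMap (RelSpec.QCAlg.directImage f)
    haveI : IsAffineHom (RelSpec.QCAlg.directImage f).π := inferInstance
    refine ⟨g, hg, ?_, ?_, ?_⟩
    · rw [CycBdlLib.toF, IsIso.inv_comp_eq] at he
      exact (he.trans (Category.comp_id _)).symm
    · have : QuasiCompact (g ≫ (RelSpec.QCAlg.directImage f).π) := hg.symm ▸ inferInstance
      exact QuasiCompact.of_comp g (RelSpec.QCAlg.directImage f).π
    · refine IsZariskiLocalAtTarget.of_forall_source_exists_preimage g fun x => ?_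
      obtain ⟨U, hU, hxU, -⟩ := exists_isAffineOpen_mem_and_subset (X := S) (x := f x) (U := ⊤) trivial
      haveI := hf U hU
      have h0 : g.appLE ((RelSpec.QCAlg.directImage f).π ⁻¹ᵁ U) (f ⁻¹ᵁ U) (CycBdlLib.preimage_le hg U) =
          (RelSpec.QCAlg.directImage f).gammaAff U hU ≫ 𝟙 Γ(X, f ⁻¹ᵁ U) := by
        refine CommRingCat.hom_ext (RingHom.ext fun b => ?_)
        obtain ⟨a, rfl⟩ := (ConcreteCategory.bijective_of_isIso
          ((asIso (RelSpec.QCAlg.directImage f).gammaMap).app (op U)).inv).2 b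
        refine (CycBdlLib.toF_algHom_app (RelSpec.QCAlg.directImage f) f g hg U a).symm.trans ?_
        rw [he, ← (RelSpec.QCAlg.directImage f).gammaMap_app U hU]
        exact (congr($(((asIso (RelSpec.QCAlg.directImage f).gammaMap).app (op U)).inv_hom_id) a)).symm
      have hk := QAffFactorLib.exists_chart_factor (RelSpec.QCAlg.directImage f) g hU (CycBdlLib.preimage_le hg U) (𝟙 _) h0
      refine ⟨(RelSpec.QCAlg.directImage f).π ⁻¹ᵁ U, ?_, ?_⟩
      · show (RelSpec.QCAlg.directImage f).π (g x) ∈ U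
        rw [← Scheme.Hom.comp_apply, hg]
        exact hxU
      · have e : g ⁻¹ᵁ ((RelSpec.QCAlg.directImage f).π ⁻¹ᵁ U) = f ⁻¹ᵁ U := by
          rw [← Scheme.Hom.comp_preimage, hg]
        rw [e, hk]
        have key : ∀ {Z : Scheme.{u}} {R : CommRingCat.{u}} (k : R ⟶ Γ((f ⁻¹ᵁ U : Scheme.{u}), ⊤)) (_ : IsIso k)
            (m : Spec R ⟶ Z) [IsOpenImmersion m],
            IsOpenImmersion ((f ⁻¹ᵁ U : Scheme.{u}).toSpecΓ ≫ Spec.map k ≫ m) := by
          intro Z R k _ m _
          infer_instance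
        exact key _ (@IsIso.comp_isIso _ _ _ _ _ _ _ (IsIso.id _) inferInstance) _
  · rintro ⟨c, e, -, hc, hc'⟩
    refine ⟨inferInstance, fun V hV => ?_⟩
    have hV' : IsAffineOpen ((RelSpec.QCAlg.directImage f).π ⁻¹ᵁ V) := hV.preimage _
    haveI : IsAffine ((RelSpec.QCAlg.directImage f).π ⁻¹ᵁ V : Scheme.{u}) := hV'
    haveI : CompactSpace (f ⁻¹ᵁ V : Scheme.{u}) := isCompact_iff_compactSpace.1 (f.isCompact_preimage hV.isCompact)
    have he : c ⁻¹ᵁ ((RelSpec.QCAlg.directImage f).π ⁻¹ᵁ V) = f ⁻¹ᵁ V := by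
      rw [← Scheme.Hom.comp_preimage, e]
    exact Scheme.IsQuasiAffine.of_isImmersion (X.homOfLE he.ge ≫ c ∣_ ((RelSpec.QCAlg.directImage f).π ⁻¹ᵁ V))

end Groth.Agent.S9380
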