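import Groth.Statements.S9385
import Groth.Agent.DevissLib.ClosedImm
import Mathlib
-- import your own Groth.Agent.* helpers here

set_option autoImplicit false
universe u
open SchDense

namespace Groth.Agent.S9385
set_option linter.all false

section
open AlgebraicGeometry CategoryTheory Limits

lemma imm_open_range {Z Y : Scheme.{u}} (g : Z ⟶ Y) [IsImmersion g] (hd : DenseRange g.base) :
    IsOpen (Set.range g.base) := by
  have h := g.isLocallyClosed_range
  obtain ⟨U, C, hU, hC, e⟩ := h
  have hC' : C = Set.univ := by
    apply Set.univ_subset_iff.1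
    rw [← (hd : DenseRange g.base).closure_range]
    exact closure_minimal (e ▸ Set.inter_subset_right) hC
  change IsOpen (Set.range g)
  rw [e, hC', Set.inter_univ]; exact hU

lemma ker_eq_vanishing {Z X : Scheme.{u}} (h : Z ⟶ X) [IsReduced Z] :
    h.ker = Scheme.IdealSheafData.vanishingIdeal ⟨closure (Set.range h.base), isClosed_closure⟩ := by
  set T : TopologicalSpace.Closeds X := ⟨closure (Set.range h.base), isClosed_closure⟩
  apply le_antisymm
  · rw [← Scheme.IdealSheafData.le_support_iff_le_vanishingIdeal]
    exact closure_minimal h.range_subset_ker_support h.ker.support.isClosed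
  · refine Scheme.IdealSheafData.le_ofIdeals_iff.mpr fun U s hs => ?_
    rw [RingHom.mem_ker]
    rw [← AlgebraicGeometry.basicOpen_eq_bot_iff, ← Scheme.preimage_basicOpen, eq_bot_iff]
    intro z hz
    have hzU : h.base z ∈ (U.1 : Set X) := X.basicOpen_le s hz
    have h1 : h.base z ∈ ((Scheme.IdealSheafData.vanishingIdeal T).support : Set X) ∩ U.1 := by
      refine ⟨?_, hzU⟩
      rw [Scheme.IdealSheafData.coe_support_vanishingIdeal]
      exact subset_closure ⟨z, rfl⟩
    rw [Scheme.IdealSheafData.coe_support_inter] at h1
    exact ((X.mem_zeroLocus_iff _ _).1 h1.1 s hs hz).elim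

lemma std_of_qc {Z X : Scheme.{u}} (h : Z ⟶ X) [IsImmersion h] [QuasiCompact h] :
    IsSchemeTheoreticallyDominant h.toImage := by
  constructor
  ext U : 2
  rw [Scheme.Hom.ker_apply, Scheme.IdealSheafData.ideal_bot, Pi.bot_apply,
    ← RingHom.injective_iff_ker_eq_bot]
  exact TopCat.Presheaf.app_injective_of_stalkFunctor_map_injective (F := h.image.sheaf)
    h.toImage.c U.1 fun x _ => h.stalkFunctor_toImage_injective x

lemma std_homOfLE_inf {Y : Scheme.{u}} (V W : Y.Opens)
    (hq : QuasiCompact V.ι) (hs : IsSchemeTheoreticallyDominant V.ι) :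
    IsSchemeTheoreticallyDominant (Y.homOfLE (inf_le_right : V ⊓ W ≤ W)) :=
  IsSchemeTheoreticallyDominant.of_isPullback (isPullback_opens_inf V W)

lemma std_homOfLE_reduced {Y : Scheme.{u}} [IsReduced Y] (V W : Y.Opens) (hV : Dense (V : Set Y)) :
    IsSchemeTheoreticallyDominant (Y.homOfLE (inf_le_right : V ⊓ W ≤ W)) := by
  haveI : IsDominant (Y.homOfLE (inf_le_right : V ⊓ W ≤ W)) := by
    constructor
    rw [DenseRange, W.ι.isOpenEmbedding.isInducing.dense_iff]
    intro x
    have hr : W.ι.base '' Set.range (Y.homOfLE (inf_le_right : V ⊓ W ≤ W)).base =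
        ((V ⊓ W : Y.Opens) : Set Y) := by
      rw [← Set.range_comp, ← TopCat.coe_comp, ← Scheme.Hom.comp_base, Scheme.homOfLE_ι]
      exact Scheme.Opens.range_ι _
    rw [hr, mem_closure_iff]
    intro O hO hxO
    obtain ⟨y, hy⟩ := hV.inter_open_nonempty (O ∩ W) (hO.inter W.2) ⟨_, hxO, x.2⟩
    exact ⟨y, hy.1.1, hy.2, hy.1.2⟩
  exact IsSchemeTheoreticallyDominant.of_isDominant _


end

open AlgebraicGeometry CategoryTheory in
/-- Let h : Z → X be an immersion, and suppose that either Z is reduced or h is quasi-compact. Write Z̄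
⊆ X for the scheme-theoretic image of h. Then Z → Z̄ is an open immersion identifying Z with a
scheme-theoretically dense (in the for-every-open sense) and topologically dense open subscheme of
Z̄. -/
theorem result {Z X : Scheme.{u}} (h : Z ⟶ X) [IsImmersion h]
    (hyp : QuasiCompact h ∨ IsReduced Z) :
    ∃ hI : IsOpenImmersion h.toImage,
      (∀ W : h.image.Opens, IsSchemeTheoreticallyDominant
          (h.image.homOfLE (inf_le_right : @Scheme.Hom.opensRange _ _ h.toImage hI ⊓ W ≤ W))) ∧
        DenseRange h.toImage.base := by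
  rcases hyp with hq | hr
  · haveI := hq
    refine ⟨inferInstance, fun W => ?_, h.toImage.denseRange⟩
    refine std_homOfLE_inf _ W ?_ ?_
    · rw [← MorphismProperty.cancel_left_of_respectsIso @QuasiCompact h.toImage.isoOpensRange.hom,
        Scheme.Hom.isoOpensRange_hom_ι]
      infer_instance
    · constructor
      rw [← Scheme.Hom.ker_comp_of_isIso h.toImage.isoOpensRange.hom,
        Scheme.Hom.isoOpensRange_hom_ι]
      exact (std_of_qc h).ker_eq_bot
  · haveI := hr
    have hk := ker_eq_vanishing h
    haveI hred : IsReduced h.image := by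
      change IsReduced h.ker.subscheme
      rw [hk]; exact DevissLib.isReduced_vanishingIdeal' _
    have hd : DenseRange h.toImage.base := by
      rw [denseRange_iff_closure_range, h.imageι.isEmbedding.closure_eq_preimage_closure_image,
        ← Set.univ_subset_iff, ← Set.image_subset_iff, Set.image_univ,
        Scheme.IdealSheafData.range_subschemeι, ← Set.range_comp,
        ← TopCat.coe_comp, ← Scheme.Hom.comp_base, h.toImage_imageι, hk,
        Scheme.IdealSheafData.coe_support_vanishingIdeal]
      exact subset_rfl
    have hop := imm_open_range h.toImage hd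
    let V : h.image.Opens := ⟨Set.range h.toImage.base, hop⟩
    let g : Z ⟶ V := IsOpenImmersion.lift V.ι h.toImage (by simp [V])
    have hg : g ≫ V.ι = h.toImage := IsOpenImmersion.lift_fac _ _ _
    haveI : IsImmersion (g ≫ V.ι) := by rw [hg]; infer_instance
    haveI : IsPreimmersion g := (IsImmersion.of_comp g V.ι).toIsPreimmersion
    have hsurj : Function.Surjective g.base := by
      intro y
      obtain ⟨z, hz⟩ := (y.2 : y.1 ∈ Set.range h.toImage.base)
      refine ⟨z, V.ι.isOpenEmbedding.injective ?_⟩
      rw [← Scheme.Hom.comp_apply, hg]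
      exact hz
    haveI : Surjective g := ⟨hsurj⟩
    haveI : IsClosedImmersion g := .of_isPreimmersion g (by
      rw [Set.range_eq_univ.mpr hsurj]; exact isClosed_univ)
    haveI : IsIso g := isIso_of_isClosedImmersion_of_surjective g
    haveI hI : IsOpenImmersion h.toImage := by rw [← hg]; infer_instance
    exact ⟨hI, fun W => std_homOfLE_reduced _ W hd, hd⟩

end Groth.Agent.S9385
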