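import Groth.Statements.S9389
import Mathlib.AlgebraicGeometry.Morphisms.UniversallyOpen
-- import your own Groth.Agent.* helpers here

set_option autoImplicit false
universe u
open QFin

namespace Groth.Agent.S9389

open CategoryTheory CategoryTheory.Limits AlgebraicGeometry

open AlgebraicGeometry CategoryTheory in
/-- For f : X → S locally of finite type and a cartesian square with base change f' : X' → S', g' : X' →
X, the quasi-finite locus of f' is the inverse image under g' of the quasi-finite locus of f. -/
theorem result {X S X' S' : Scheme.{u}} (f : X ⟶ S) [LocallyOfFiniteType f] (g : S' ⟶ S)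
    (g' : X' ⟶ X) (f' : X' ⟶ S') (hsq : IsPullback g' f' f g) :
    {x' : ↑X' | f'.QuasiFiniteAt x'} = g'.base ⁻¹' {x : ↑X | f.QuasiFiniteAt x} := by
  have : LocallyOfFiniteType f' := MorphismProperty.of_isPullback hsq ‹_›
  ext x'
  simp only [Set.mem_ofPred_eq, Set.mem_preimage]
  constructor
  · intro h
    rw [Scheme.Hom.quasiFiniteAt_iff_isOpen_singleton_asFiber] at h ⊢
    have hs : g (f' x') = f (g' x') := by
      rw [← Scheme.Hom.comp_apply, ← Scheme.Hom.comp_apply, hsq.w]
    let r := Spec.map (g.residueFieldMap (f' x'))
    have hr : r ≫ S.fromSpecResidueField (g (f' x')) = S'.fromSpecResidueField (f' x') ≫ g :=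
      g.SpecMap_residueFieldMap_fromSpecResidueField (f' x')
    let q : f'.fiber (f' x') ⟶ f.fiber (g (f' x')) :=
      pullback.lift (f'.fiberι (f' x') ≫ g') (f'.fiberToSpecResidueField (f' x') ≫ r) (by
        rw [Category.assoc, hsq.w, ← Category.assoc, Category.assoc _ r, hr, ← Category.assoc]
        exact congrArg (· ≫ g) pullback.condition)
    have hq : q ≫ f.fiberι _ = f'.fiberι (f' x') ≫ g' := pullback.lift_fst _ _ _
    have hq' : q ≫ f.fiberToSpecResidueField _ = f'.fiberToSpecResidueField (f' x') ≫ r :=
      pullback.lift_snd _ _ _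
    have hp : IsPullback q (f'.fiberToSpecResidueField (f' x'))
        (f.fiberToSpecResidueField _) r := by
      refine IsPullback.of_right (h₁₂ := f.fiberι (g (f' x'))) (v₁₃ := f)
        (h₂₂ := S.fromSpecResidueField (g (f' x'))) ?_ hq' (IsPullback.of_hasPullback _ _)
      rw [hq, hr]
      exact (IsPullback.of_hasPullback _ _).paste_horiz hsq
    have : UniversallyOpen r := inferInstance
    have : UniversallyOpen q := MorphismProperty.of_isPullback hp.flip this
    have h' := q.isOpenMap _ h
    rw [Set.image_singleton] at h'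
    have key : ∀ (s : S) (hs : s = f (g' x')) (z : f.fiber s), f.fiberι s z = g' x' →
        IsOpen ({z} : Set (f.fiber s)) → IsOpen ({f.asFiber (g' x')} : Set _) := by
      intro s hs z hz ho
      subst hs
      rwa [show f.asFiber (g' x') = z from
        (f.fiberι _).isEmbedding.injective (by rw [f.fiberι_asFiber, hz])]
    refine key _ hs _ ?_ h'
    rw [← Scheme.Hom.comp_apply, hq, Scheme.Hom.comp_apply, f'.fiberι_asFiber]
  · intro h
    rw [Scheme.Hom.quasiFiniteAt_iff] at h ⊢
    have hP := (IsPullback.of_hasPullback (X.fromSpecStalk (g' x')) g').paste_vert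
      hsq
    let l : Spec (X'.presheaf.stalk x') ⟶ pullback (X.fromSpecStalk (g' x')) g' :=
      pullback.lift (Spec.map (g'.stalkMap x')) (X'.fromSpecStalk x')
        (Scheme.SpecMap_stalkMap_fromSpecStalk g' (x := x'))
    have hl : l ≫ pullback.snd _ _ = X'.fromSpecStalk x' := pullback.lift_snd _ _ _
    have : LocallyQuasiFinite (pullback.snd (X.fromSpecStalk (g' x')) g' ≫ f') :=
      MorphismProperty.of_isPullback (P := @LocallyQuasiFinite) hP h
    have : LocallyQuasiFinite (l ≫ pullback.snd (X.fromSpecStalk (g' x')) g') := by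
      rw [hl]; infer_instance
    have : LocallyQuasiFinite l := .of_comp l (pullback.snd _ _)
    rw [← hl, Category.assoc]
    infer_instance

end Groth.Agent.S9389
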