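import Groth.Statements.S9398
import Groth.Agent.NagataFG.Japanese

set_option autoImplicit false
universe u
open CAlg

namespace Groth.Agent.S9398

/-- An algebra essentially of finite type over a universally Japanese ring is universally Japanese. -/
theorem result (R : Type u) [CommRing R]
    (hR : CAlg.IsUniversallyJapanese R) (T : Type u) [CommRing T] [Algebra R T]
    [Algebra.EssFiniteType R T] : CAlg.IsUniversallyJapanese T := by
  exact NagataFG.isUniversallyJapanese_of_essFiniteType R hR T

end Groth.Agent.S9398
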