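import Groth.Statements.S9401
import Groth.Agent.NagataFG.Main
import Groth.Agent.AlgSpLib.Noeth
import Groth.Agent.S9407

set_option autoImplicit false
universe u
open CAlg

namespace Groth.Agent.S9401

/-- The Nagata property descends along smooth ring maps that are surjective on spectra. -/
theorem result (R : Type u) [CommRing R] (S : Type u)
    [CommRing S] [Algebra R S] [Algebra.Smooth R S]
    (hs : Function.Surjective (PrimeSpectrum.comap (algebraMap R S))) (hS : CAlg.IsNagata S) :
    CAlg.IsNagata R := by
  have hff : Module.FaithfullyFlat R S := Module.FaithfullyFlat.of_comap_surjective hs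
  have := hS.1
  refine ⟨AlgSpLib.isNoetherianRing_of_faithfullyFlat R S, fun p _ => ?_⟩
  have := AlgSpLib.isNoetherianRing_of_faithfullyFlat R S
  intro L _ _ _ _ hL
  let B := TensorProduct R (R ⧸ p) S
  have hB : CAlg.IsNagata B := NagataFG.isNagata_of_surjective
    (Algebra.TensorProduct.includeRight (R := R) (A := R ⧸ p) (B := S)).toRingHom
    (Algebra.TensorProduct.includeRight_surjective _ Ideal.Quotient.mk_surjective) hS
  have : IsReduced (TensorProduct (R ⧸ p) L B) := Groth.Agent.S9407.result L (TensorProduct (R ⧸ p) L B)
  have : IsReduced (TensorProduct (R ⧸ p) B L) := isReduced_of_injective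
    (Algebra.TensorProduct.comm (R ⧸ p) B L) (Algebra.TensorProduct.comm (R ⧸ p) B L).injective
  exact NormalLib.finite_integralClosure_of_isReduced_tensor (B := B) hB (K := FractionRing (R ⧸ p))

end Groth.Agent.S9401
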