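import Groth.Statements.S9402
import Mathlib.RingTheory.Kaehler.Basic
import Mathlib.Algebra.Algebra.Rat
import Mathlib.RingTheory.Nilpotent.Defs
-- import your own Groth.Agent.* helpers here

set_option autoImplicit false
universe u
open CAlg

namespace Groth.Agent.S9402

/-- Let R → S be a ring map with S a nonzero algebra over the rationals and f ∈ S such that some
S-linear form on the module of differentials of S over R sends df to 1 (that is, df spans a free
direct summand of rank one). Then f is not nilpotent. (The published statement asks only that S·df
be a direct summand of the module of differentials, which also holds for the rationals with a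
square-zero element adjoined and for the zero ring, where f is nilpotent; this row asks for an
S-linear form on the differentials sending df to 1, as the published proof uses, and S nonzero.) -/
theorem result (R : Type u) [CommRing R] (S : Type u)
    [CommRing S] [Nontrivial S] [Algebra R S] [Algebra ℚ S] (f : S)
    (θ : Ω[S⁄R] →ₗ[S] S) (hθ : θ (KaehlerDifferential.D R S f) = 1) : ¬ IsNilpotent f := by
  classical
  intro hnil
  obtain ⟨k, hk⟩ : ∃ k, Nat.find hnil = k + 1 := by
    refine ⟨Nat.find hnil - 1, ?_⟩
    have : Nat.find hnil ≠ 0 := fun h0 => one_ne_zero (α := S) (by simpa [h0] using Nat.find_spec hnil)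
    omega
  have h0 : f ^ (k + 1) = 0 := hk ▸ Nat.find_spec hnil
  have h1 := congr_arg (fun z => θ (KaehlerDifferential.D R S z)) h0
  simp only [Derivation.leibniz_pow, map_zero, map_nsmul, map_smul, hθ, smul_eq_mul, mul_one,
    Nat.add_sub_cancel] at h1
  refine Nat.find_min hnil (by omega : k < Nat.find hnil) ?_
  have h2 := congr_arg (fun z => ((k + 1 : ℕ) : ℚ)⁻¹ • z) h1
  simp only [smul_zero] at h2
  rwa [← Nat.cast_smul_eq_nsmul ℚ, smul_smul, inv_mul_cancel₀ (by positivity), one_smul] at h2

end Groth.Agent.S9402
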