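import Groth.Statements.S9403
import Mathlib.RingTheory.Kaehler.Basic
import Mathlib.RingTheory.Filtration
import Mathlib.Algebra.Algebra.Rat
-- import your own Groth.Agent.* helpers here

set_option autoImplicit false
universe u
open CAlg

namespace Groth.Agent.S9403

/-- Let R → S be a ring map with S a Noetherian local ring which is an algebra over the rationals, and f
∈ S such that some S-linear form on the module of differentials of S over R sends df to 1 (df spans
a free direct summand of rank one). Then f is a nonzerodivisor of S. (The published statement asks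
only that S·df be a direct summand of the module of differentials, which also holds for the
rationals with a square-zero element adjoined, where f is a zero divisor; this row asks for an
S-linear form on the differentials sending df to 1, as the published proof uses.) -/
theorem result (R : Type u) [CommRing R]
    (S : Type u) [CommRing S] [IsLocalRing S] [IsNoetherianRing S] [Algebra R S] [Algebra ℚ S]
    (f : S) (θ : Ω[S⁄R] →ₗ[S] S) (hθ : θ (KaehlerDifferential.D R S f) = 1) : f ∈ nonZeroDivisors S := by
  by_cases hf : IsUnit f
  · exact hf.mem_nonZeroDivisors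
  rw [mem_nonZeroDivisors_iff_right]
  intro g hg
  have key : ∀ n : ℕ, g ∈ (Ideal.span {f}) ^ n := by
    intro n
    induction n with
    | zero => simp
    | succ n ih =>
      rw [Ideal.span_singleton_pow, Ideal.mem_span_singleton] at ih ⊢
      obtain ⟨k, rfl⟩ := ih
      have h0 : f ^ (n + 1) * k = 0 := by rw [pow_succ, mul_right_comm]; exact hg
      have h1 := congr_arg (fun z => θ (KaehlerDifferential.D R S z)) h0
      simp only [Derivation.leibniz, Derivation.leibniz_pow, map_add, map_zero, map_nsmul, map_smul, hθ,
        smul_eq_mul, mul_one, Nat.add_sub_cancel] at h1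
      simp only [← smul_eq_mul (f ^ n), map_smul, hθ, smul_eq_mul, mul_one, ← Nat.cast_smul_eq_nsmul ℚ, mul_smul_comm] at h1
      refine ⟨-((((n + 1 : ℕ) : ℚ))⁻¹ • θ (KaehlerDifferential.D R S k)), ?_⟩
      have h2 : ((n + 1 : ℕ) : ℚ) • (k * f ^ n) = -(f ^ (n + 1) * θ (KaehlerDifferential.D R S k)) :=
        eq_neg_of_add_eq_zero_right h1
      have h3 := congr_arg (fun z => ((n + 1 : ℕ) : ℚ)⁻¹ • z) h2
      simp only [smul_smul, inv_mul_cancel₀ (show ((n + 1 : ℕ) : ℚ) ≠ 0 by positivity), one_smul, smul_neg] at h3
      rw [mul_comm (f ^ n) k, h3, mul_neg, mul_smul_comm]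
  have hne : Ideal.span ({f} : Set S) ≠ ⊤ := fun h => hf (Ideal.span_singleton_eq_top.mp h)
  have hmem : g ∈ ⨅ n : ℕ, (Ideal.span {f}) ^ n := Submodule.mem_iInf _ |>.mpr key
  rwa [Ideal.iInf_pow_eq_bot_of_isLocalRing _ hne, Submodule.mem_bot] at hmem

end Groth.Agent.S9403
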