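import Groth.Statements.S9404
import Mathlib.RingTheory.Spectrum.Prime.Homeomorph
import Mathlib.RingTheory.Ideal.GoingUp
import Mathlib.RingTheory.IntegralClosure.IntegrallyClosed
import Mathlib.RingTheory.LocalRing.ResidueField.Basic
import Mathlib.RingTheory.IsTensorProduct
import Mathlib.RingTheory.TensorProduct.Maps
import Mathlib.RingTheory.Flat.FaithfullyFlat.Basic
import Mathlib.RingTheory.Flat.Basic
-- import your own Groth.Agent.* helpers here

set_option autoImplicit false
universe u
open CAlg

namespace Groth.Agent.S9404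

open TensorProduct in
/-- For local homomorphisms of local rings A → B and A → C with A → C integral, if the residue field of
C or that of B is purely inseparable over the residue field of A, then B ⊗_A C is local and both
structure maps into it are local. -/
theorem result (A : Type u) [CommRing A]
    [IsLocalRing A] (B : Type u) [CommRing B] [IsLocalRing B] [Algebra A B]
    [IsLocalHom (algebraMap A B)] (C : Type u) [CommRing C] [IsLocalRing C] [Algebra A C]
    [IsLocalHom (algebraMap A C)] [Algebra.IsIntegral A C]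
    (h : IsPurelyInseparable (IsLocalRing.ResidueField A) (IsLocalRing.ResidueField C) ∨
      IsPurelyInseparable (IsLocalRing.ResidueField A) (IsLocalRing.ResidueField B)) :
    IsLocalRing (B ⊗[A] C) ∧
      IsLocalHom (Algebra.TensorProduct.includeLeft : B →ₐ[A] B ⊗[A] C).toRingHom ∧
      IsLocalHom (Algebra.TensorProduct.includeRight : C →ₐ[A] B ⊗[A] C).toRingHom := by
  let K := IsLocalRing.ResidueField A
  let KB := IsLocalRing.ResidueField B
  let KC := IsLocalRing.ResidueField C
  let R := KB ⊗[K] KC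
  haveI : Nontrivial R := Module.FaithfullyFlat.lTensor_nontrivial K KB KC
  haveI hsub : Subsingleton (PrimeSpectrum R) := by
    rcases h with h | h <;> haveI := h
    · exact (PrimeSpectrum.isHomeomorph_comap_of_isPurelyInseparable K KC KB).injective.subsingleton
    · haveI : Subsingleton (PrimeSpectrum (KC ⊗[K] KB)) :=
        (PrimeSpectrum.isHomeomorph_comap_of_isPurelyInseparable K KB KC).injective.subsingleton
      exact (PrimeSpectrum.comap_injective_of_surjective (Algebra.TensorProduct.comm K KC KB).toRingHom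
        (Algebra.TensorProduct.comm K KC KB).surjective).subsingleton
  let π : B ⊗[A] C →ₐ[A] R := Algebra.TensorProduct.lift
    (((Algebra.TensorProduct.includeLeft : KB →ₐ[K] R).restrictScalars A).comp (IsScalarTower.toAlgHom A B KB))
    (((Algebra.TensorProduct.includeRight : KC →ₐ[K] R).restrictScalars A).comp (IsScalarTower.toAlgHom A C KC))
    (fun _ _ => Commute.all _ _)
  haveI : Nontrivial (B ⊗[A] C) := π.toRingHom.domain_nontrivial
  have hmax : ∀ P : Ideal (B ⊗[A] C), P.IsMaximal → P.comap (Algebra.TensorProduct.includeLeft : B →ₐ[A] B ⊗[A] C).toRingHom = IsLocalRing.maximalIdeal B ∧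
      P.comap (Algebra.TensorProduct.includeRight : C →ₐ[A] B ⊗[A] C).toRingHom = IsLocalRing.maximalIdeal C := by
    intro P hP
    have hB : P.comap (Algebra.TensorProduct.includeLeft : B →ₐ[A] B ⊗[A] C).toRingHom = IsLocalRing.maximalIdeal B :=
      IsLocalRing.eq_maximalIdeal (Ideal.isMaximal_comap_of_isIntegral_of_isMaximal (R := B) P)
    haveI := hP.isPrime
    haveI : (P.comap (Algebra.TensorProduct.includeRight : C →ₐ[A] B ⊗[A] C).toRingHom).IsPrime := Ideal.comap_isPrime _ _
    refine ⟨hB, IsLocalRing.eq_maximalIdeal (Ideal.isMaximal_of_isIntegral_of_isMaximal_comap (R := A) _ ?_)⟩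
    rw [Ideal.comap_comap, AlgHom.toRingHom_eq_coe, AlgHom.comp_algebraMap,
      ← AlgHom.comp_algebraMap (Algebra.TensorProduct.includeLeft : B →ₐ[A] B ⊗[A] C), ← Ideal.comap_comap]
    erw [hB]
    rw [show (IsLocalRing.maximalIdeal B).comap (algebraMap A B) = IsLocalRing.maximalIdeal A from
      ((IsLocalRing.local_hom_TFAE (algebraMap A B)).out 0 4).1 ‹IsLocalHom (algebraMap A B)›]
    infer_instance
  have huniq : ∀ P : Ideal (B ⊗[A] C), P.IsMaximal → ∃ q : PrimeSpectrum R, P = q.asIdeal.comap π.toRingHom := by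
    intro P hP
    obtain ⟨hB, hC⟩ := hmax P hP
    let F := (B ⊗[A] C) ⧸ P
    letI : Field F := Ideal.Quotient.field P
    let ι := Ideal.Quotient.mk P
    let φB : KB →+* F := Ideal.Quotient.lift _ (ι.comp (Algebra.TensorProduct.includeLeft : B →ₐ[A] B ⊗[A] C).toRingHom) fun b hb =>
      Ideal.Quotient.eq_zero_iff_mem.2 (by rw [← hB] at hb; exact hb)
    let φC : KC →+* F := Ideal.Quotient.lift _ (ι.comp (Algebra.TensorProduct.includeRight : C →ₐ[A] B ⊗[A] C).toRingHom) fun c hc =>
      Ideal.Quotient.eq_zero_iff_mem.2 (by rw [← hC] at hc; exact hc)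
    letI : Algebra K F := (φB.comp (algebraMap K KB)).toAlgebra
    let φB' : KB →ₐ[K] F := AlgHom.mk φB (fun x => rfl)
    let φC' : KC →ₐ[K] F := AlgHom.mk φC (fun x => by
      obtain ⟨a, rfl⟩ := IsLocalRing.residue_surjective x
      show ι (Algebra.TensorProduct.includeRight (algebraMap A C a)) = ι (Algebra.TensorProduct.includeLeft (algebraMap A B a))
      rw [AlgHom.commutes, AlgHom.commutes])
    let ψ : R →ₐ[K] F := Algebra.TensorProduct.lift φB' φC' (fun _ _ => Commute.all _ _)
    haveI : (RingHom.ker ψ.toRingHom).IsPrime := RingHom.ker_isPrime _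
    refine ⟨⟨RingHom.ker ψ.toRingHom, this⟩, ?_⟩
    have hcomp : ∀ x, ψ (π x) = ι x := by
      intro x
      induction x using TensorProduct.induction_on with
      | zero => simp
      | tmul b c =>
        rw [show π (b ⊗ₜ c) = (IsLocalRing.residue B b) ⊗ₜ[K] (IsLocalRing.residue C c) by simp [π]; rw [Algebra.TensorProduct.tmul_mul_tmul, mul_one, one_mul]; rfl]
        rw [Algebra.TensorProduct.lift_tmul]
        show ι (b ⊗ₜ 1) * ι (1 ⊗ₜ c) = ι (b ⊗ₜ c)
        rw [← map_mul, Algebra.TensorProduct.tmul_mul_tmul, mul_one, one_mul]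
      | add x y hx hy => rw [map_add, map_add, hx, hy, map_add]
    ext x
    rw [Ideal.mem_comap, RingHom.mem_ker, ← Ideal.Quotient.eq_zero_iff_mem, ← hcomp]
    rfl
  haveI hloc : IsLocalRing (B ⊗[A] C) := by
    refine IsLocalRing.of_unique_max_ideal ?_
    obtain ⟨P, hP⟩ := Ideal.exists_maximal (B ⊗[A] C)
    refine ⟨P, hP, fun Q hQ => ?_⟩
    obtain ⟨q, rfl⟩ := huniq P hP
    obtain ⟨q', rfl⟩ := huniq Q hQ
    rw [Subsingleton.elim q q']
  have hm := hmax _ (IsLocalRing.maximalIdeal.isMaximal (B ⊗[A] C))
  exact ⟨hloc, ((IsLocalRing.local_hom_TFAE _).out 0 4).2 hm.1, ((IsLocalRing.local_hom_TFAE _).out 0 4).2 hm.2⟩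

end Groth.Agent.S9404
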