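import Groth.Statements.S9409
import Groth.Agent.GeomRedFibLib.Directed
-- import your own Groth.Agent.* helpers here

set_option autoImplicit false
universe u
open CAlg

namespace Groth.Agent.S9409

/-- Let k be a field written as a directed union of subfields k_i (given as fields mapping to k whose
images form a directed family covering k) and A a Noetherian k-algebra. Geometric regularity of A
over every one of the k_i implies that A is also geometrically regular as a k-algebra. -/
theorem result (k : Type u) [Field k] {ι : Type u}
    (K : ι → Type u) [∀ i, Field (K i)] [∀ i, Algebra (K i) k]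
    (hdir : ∀ i j, ∃ l, Set.range (algebraMap (K i) k) ⊆ Set.range (algebraMap (K l) k) ∧
      Set.range (algebraMap (K j) k) ⊆ Set.range (algebraMap (K l) k))
    (hcov : ∀ x : k, ∃ i, x ∈ Set.range (algebraMap (K i) k))
    (A : Type u) [CommRing A] [Algebra k A] [IsNoetherianRing A] [∀ i, Algebra (K i) A]
    [∀ i, IsScalarTower (K i) k A] (h : ∀ i, CAlg.IsGeometricallyRegular (K i) A) :
    CAlg.IsGeometricallyRegular k A := by
  intro L _ _ hL
  haveI := hL
  obtain ⟨i, S, _, _, hS, ⟨e⟩⟩ := GeomRedFibLib.exists_descent_finite K hdir hcov L
  haveI := hS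
  haveI : IsRegularRing (TensorProduct (K i) S A) := h i S hS
  let σ : TensorProduct (K i) S A ≃+* TensorProduct k L A :=
    (((Algebra.TensorProduct.comm (K i) S A).toRingEquiv.trans
      (Algebra.TensorProduct.cancelBaseChange (K i) k k A S).toRingEquiv.symm).trans
      (Algebra.TensorProduct.congr AlgEquiv.refl e : TensorProduct k A (TensorProduct (K i) k S) ≃ₐ[k] TensorProduct k A L).toRingEquiv).trans
      (Algebra.TensorProduct.comm k A L).toRingEquiv
  exact IsRegularRing.of_ringEquiv σ

end Groth.Agent.S9409
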