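import Groth.Statements.S9410
import Groth.Agent.GeomRedFibLib.SepAlg
-- import your own Groth.Agent.* helpers here

set_option autoImplicit false
universe u
open CAlg

namespace Groth.Agent.S9410

/-- Given a separable algebraic field extension k'/k and a Noetherian k'-algebra A, geometric regularity
of A over k' is equivalent to geometric regularity of A over k. -/
theorem result (k : Type u) [Field k] (k' : Type u)
    [Field k'] [Algebra k k'] [Algebra.IsSeparable k k'] (A : Type u) [CommRing A] [Algebra k' A]
    [Algebra k A] [IsScalarTower k k' A] [IsNoetherianRing A] :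
    CAlg.IsGeometricallyRegular k A ↔ CAlg.IsGeometricallyRegular k' A := by
  rw [GeomRedFibLib.geomP_regular_iff, GeomRedFibLib.geomP_regular_iff]
  have hc := GeomRedFibLib.isFlatLocalProp_regular.{u}.congr
  exact ⟨fun h L _ _ hL ↦ by
      haveI := hL
      exact GeomRedFibLib.ringP_of_sep_down hc k k' A h L,
    fun h L _ _ hL ↦ by
      haveI := hL
      exact GeomRedFibLib.ringP_of_sep_up hc k k' A h L⟩

end Groth.Agent.S9410
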