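import Groth.Statements.S9411
import Groth.Agent.GeomRedFibLib.SepAlg
-- import your own Groth.Agent.* helpers here

set_option autoImplicit false
universe u
open EGA4

namespace Groth.Agent.S9411

/-- Let k'/k be a separable algebraic field extension and A a k'-algebra. Geometric normality of A over
k' is equivalent to geometric normality of A over k. -/
theorem result (k : Type u) [Field k] (k' : Type u) [Field k']
    [Algebra k k'] [Algebra.IsSeparable k k'] (A : Type u) [CommRing A] [Algebra k' A]
    [Algebra k A] [IsScalarTower k k' A] :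
    EGA4.IsGeomNormal k A ↔ EGA4.IsGeomNormal k' A := by
  have hc : ∀ (R S : Type u) [CommRing R] [CommRing S], (R ≃+* S) → (IsDomain R ∧ IsIntegrallyClosed R) →
      (IsDomain S ∧ IsIntegrallyClosed S) := fun R S _ _ e h ↦ by
    haveI := h.1
    haveI := h.2
    exact ⟨e.symm.toMulEquiv.isDomain R, IsIntegrallyClosed.of_equiv e⟩
  exact ⟨fun h L _ _ hL ↦ by
      haveI := hL
      exact GeomRedFibLib.ringP_of_sep_down (P := fun R _ ↦ IsDomain R ∧ IsIntegrallyClosed R) hc k k' A h L,
    fun h L _ _ hL ↦ by
      haveI := hL
      exact GeomRedFibLib.ringP_of_sep_up (P := fun R _ ↦ IsDomain R ∧ IsIntegrallyClosed R) hc k k' A h L⟩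

end Groth.Agent.S9411
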