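import Groth.Statements.S9414
import Mathlib
-- import your own Groth.Agent.* helpers here

set_option autoImplicit false
universe u
open CAlg

namespace Groth.Agent.S9414

open TensorProduct in
/-- For an algebraically closed field k, a finite type k-algebra S and a maximal ideal m of S with
residue field κ = S/m, the κ-vector spaces κ ⊗_S Ω_{S/k} and m/m² have the same dimension. -/
theorem result (k : Type u) [Field k]
    [IsAlgClosed k] (S : Type u) [CommRing S] [Algebra k S] [Algebra.FiniteType k S]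
    (m : Ideal S) [m.IsMaximal] :
    Module.finrank (S ⧸ m) ((S ⧸ m) ⊗[S] Ω[S⁄k]) = Module.finrank (S ⧸ m) m.Cotangent := by
  classical
  letI := Ideal.Quotient.field m
  haveI : Module.Finite k (S ⧸ m) := finite_of_finite_type_of_isJacobsonRing k (S ⧸ m)
  have hsurj : Function.Surjective (algebraMap k (S ⧸ m)) :=
    (IsAlgClosed.algebraMap_bijective_of_isIntegral (k := k) (K := S ⧸ m)).2
  choose c hc using fun s : S => hsurj (Ideal.Quotient.mk m s)
  have hsub : ∀ s, s - algebraMap k S (c s) ∈ m := fun s => by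
    rw [← Ideal.Quotient.eq_zero_iff_mem, map_sub, sub_eq_zero, ← hc s]
    rfl
  let δ0 : S → m.Cotangent := fun s => m.toCotangent ⟨_, hsub s⟩
  have hδ : ∀ (s : S) (z : m) (r : k), s - algebraMap k S r = z.1 → δ0 s = m.toCotangent z := by
    intro s z r hr
    refine congrArg m.toCotangent (Subtype.ext ?_)
    have hcr : c s = r := by
      refine (algebraMap k (S ⧸ m)).injective ?_
      rw [hc s, IsScalarTower.algebraMap_apply k S (S ⧸ m), Ideal.Quotient.algebraMap_eq, Ideal.Quotient.mk_eq_mk_iff_sub_mem, hr]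
      exact z.2
    show s - algebraMap k S (c s) = z.1
    rw [hcr, hr]
  let δ : Derivation k S m.Cotangent := Derivation.mk'
    { toFun := δ0
      map_add' := fun a b => by
        rw [hδ (a + b) (⟨_, hsub a⟩ + ⟨_, hsub b⟩) (c a + c b) (by simp; ring), map_add]
      map_smul' := fun r a => by
        simp only [RingHom.id_apply]
        rw [hδ (r • a) (algebraMap k S r • ⟨_, hsub a⟩) (r * c a)
          (by rw [Algebra.smul_def]; simp [Algebra.smul_def, mul_sub]), map_smul, algebraMap_smul] }
    fun a b => by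
      show δ0 (a * b) = a • δ0 b + b • δ0 a
      rw [← map_smul, ← map_smul, ← map_add]
      have h : δ0 (a * b) = m.toCotangent (a • ⟨_, hsub b⟩ + (algebraMap k S (c b)) • ⟨_, hsub a⟩) := hδ _ _ (c a * c b) (by simp [Algebra.smul_def]; ring)
      rw [h]
      refine m.toCotangent_eq.mpr ?_
      simp only [Submodule.coe_add, SetLike.val_smul, smul_eq_mul]
      rw [show a * (b - algebraMap k S (c b)) + algebraMap k S (c b) * (a - algebraMap k S (c a)) -
        (a * (b - algebraMap k S (c b)) + b * (a - algebraMap k S (c a))) =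
        -((b - algebraMap k S (c b)) * (a - algebraMap k S (c a))) by ring, pow_two]
      exact neg_mem (Ideal.mul_mem_mul (hsub b) (hsub a))
  let θ : (S ⧸ m) ⊗[S] Ω[S⁄k] →ₗ[S ⧸ m] m.Cotangent := LinearMap.liftBaseChange _ δ.liftKaehlerDifferential
  have hθ : ∀ z : m, θ (1 ⊗ₜ KaehlerDifferential.D k S z.1) = m.toCotangent z := fun z => by
    show θ _ = _
    rw [LinearMap.liftBaseChange_tmul, one_smul, Derivation.liftKaehlerDifferential_comp_D]
    exact hδ z.1 z 0 (by simp)
  have h0 : ∀ y ∈ m, ∀ x : (S ⧸ m) ⊗[S] Ω[S⁄k], y • x = 0 := fun y hy x => by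
    rw [← algebraMap_smul (S ⧸ m) y x, Ideal.Quotient.algebraMap_eq, Ideal.Quotient.eq_zero_iff_mem.mpr hy, zero_smul]
  have hsq : ∀ y ∈ m ^ 2, (1 : S ⧸ m) ⊗ₜ[S] KaehlerDifferential.D k S y = 0 := by
    intro y hy
    rw [pow_two] at hy
    refine Submodule.mul_induction_on hy (fun a ha b hb => ?_) (fun a b ha hb => ?_)
    · rw [Derivation.leibniz, tmul_add, tmul_smul, tmul_smul, h0 a ha, h0 b hb, add_zero]
    · rw [map_add, tmul_add, ha, hb, add_zero]
  have hrep : ∀ x, ∃ z : m, (1 : S ⧸ m) ⊗ₜ[S] KaehlerDifferential.D k S z.1 = x := by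
    intro x
    obtain ⟨w, rfl⟩ := TensorProduct.mk_surjective S Ω[S⁄k] (S ⧸ m) Ideal.Quotient.mk_surjective x
    have hw : w ∈ Submodule.span S (Set.range (KaehlerDifferential.D k S)) := by
      rw [KaehlerDifferential.span_range_derivation]; exact Submodule.mem_top
    induction hw using Submodule.span_induction with
    | mem w hw =>
      obtain ⟨s, rfl⟩ := hw
      refine ⟨⟨_, hsub s⟩, ?_⟩
      simp [TensorProduct.mk_apply]
    | zero => exact ⟨0, by simp⟩
    | add a b _ _ ha hb =>
      obtain ⟨z, hz⟩ := ha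
      obtain ⟨z', hz'⟩ := hb
      exact ⟨z + z', by rw [Submodule.coe_add, map_add, tmul_add, hz, hz', map_add]⟩
    | smul a w _ hw =>
      obtain ⟨z, hz⟩ := hw
      refine ⟨a • z, ?_⟩
      rw [map_smul, ← hz, SetLike.val_smul, smul_eq_mul, Derivation.leibniz, tmul_add, tmul_smul, tmul_smul, h0 z.1 z.2, add_zero]
  have hbij : Function.Bijective θ := by
    refine ⟨(injective_iff_map_eq_zero θ).mpr fun x hx => ?_, fun y => ?_⟩
    · obtain ⟨z, rfl⟩ := hrep x
      rw [hθ] at hx
      exact hsq _ ((m.toCotangent_eq_zero z).mp hx)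
    · obtain ⟨z, rfl⟩ := m.toCotangent_surjective y
      exact ⟨_, hθ z⟩
  exact (LinearEquiv.ofBijective θ hbij).finrank_eq

end Groth.Agent.S9414
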