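import Groth.Statements.S9416
import Mathlib
-- import your own Groth.Agent.* helpers here

set_option autoImplicit false
universe u
open CAlg

namespace Groth.Agent.S9416

open Polynomial in
/-- Suppose R is a normal Noetherian domain whose field of fractions K has prime characteristic p > 0, D
a derivation of K preserving R, and a ∈ K with D(a) ≠ 0. For a field L generated over K by an
element x with x^p = a, the integral closure of R in L is module-finite over R. -/
theorem result (R : Type u) [CommRing R]
    [IsDomain R] [IsNoetherianRing R] [IsIntegrallyClosed R] (K : Type u) [Field K] [Algebra R K]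
    [IsFractionRing R K] (p : ℕ) [Fact p.Prime] [CharP K p] (D : Derivation ℤ K K)
    (hD : ∀ r : R, ∃ s : R, D (algebraMap R K r) = algebraMap R K s) (a : K) (ha : D a ≠ 0)
    (L : Type u) [Field L] [Algebra K L] [Algebra R L] [IsScalarTower R K L] (x : L)
    (hx : x ^ p = algebraMap K L a) (hgen : IntermediateField.adjoin K {x} = ⊤) :
    Module.Finite R (integralClosure R L) := by
  classical
  have hp : p.Prime := Fact.out
  obtain ⟨r, s, hs, hrs⟩ := IsFractionRing.div_surjective (A := R) a
  have hs0 : algebraMap R K s ≠ 0 := IsFractionRing.to_map_ne_zero_of_mem_nonZeroDivisors hs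
  have hinj : Function.Injective (algebraMap R K) := IsFractionRing.injective R K
  set a' := r * s ^ (p - 1) with ha'
  have haa : algebraMap R K a' = algebraMap R K s ^ p * a := by
    rw [ha', map_mul, map_pow, ← hrs]
    conv_rhs => rw [show p = (p - 1) + 1 by have := hp.pos; omega, pow_succ]
    field_simp
  have hDp : ∀ z : K, D (z ^ p) = 0 := fun z => by
    rw [Derivation.leibniz_pow, ← Nat.cast_smul_eq_nsmul K, CharP.cast_eq_zero, zero_smul]
  have hDa' : D (algebraMap R K a') ≠ 0 := by
    rw [haa, Derivation.leibniz, hDp, smul_zero, add_zero, smul_eq_mul]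
    exact mul_ne_zero (pow_ne_zero _ hs0) ha
  obtain ⟨δ, hδ⟩ := hD a'
  have hδ0 : δ ≠ 0 := fun h => hDa' (by rw [hδ, h, map_zero])
  obtain ⟨δ', hδ'⟩ := hD δ
  set A' := algebraMap R K a' with hA'
  set d := algebraMap R K δ with hd
  set x' := algebraMap R L s * x with hx'
  have hxp : x' ^ p = algebraMap K L A' := by
    rw [hx', mul_pow, hx, IsScalarTower.algebraMap_apply R K L, ← map_pow, ← map_mul, haa]
  -- coefficients
  have hrep : ∀ z : L, ∃ c : ℕ → K, z = ∑ j ∈ Finset.range p, algebraMap K L (c j) * x' ^ j := by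
    intro z
    have hxint : IsIntegral K x := ⟨X ^ p - C a, monic_X_pow_sub_C a hp.ne_zero, by simp [hx]⟩
    have hz : z ∈ (IntermediateField.adjoin K {x}).toSubalgebra := by rw [hgen]; trivial
    rw [IntermediateField.adjoin_simple_toSubalgebra_of_isAlgebraic hxint.isAlgebraic,
      Algebra.adjoin_singleton_eq_range_aeval] at hz
    obtain ⟨f, rfl⟩ := hz
    have hg : (X ^ p - C a : K[X]).Monic := monic_X_pow_sub_C a hp.ne_zero
    have hdeg : (f %ₘ (X ^ p - C a)).natDegree < p := by
      have h := natDegree_modByMonic_lt f hg (fun h1 => by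
        have := congrArg natDegree h1
        rw [natDegree_X_pow_sub_C, natDegree_one] at this
        exact hp.ne_zero this)
      rwa [natDegree_X_pow_sub_C] at h
    refine ⟨fun j => (f %ₘ (X ^ p - C a)).coeff j / algebraMap R K s ^ j, ?_⟩
    show aeval x f = _
    have h0 : aeval x (X ^ p - C a : K[X]) = 0 := by simp [hx]
    rw [← aeval_modByMonic_eq_self_of_root h0, aeval_eq_sum_range' hdeg]
    refine Finset.sum_congr rfl fun j _ => ?_
    rw [Algebra.smul_def, hx', mul_pow, IsScalarTower.algebraMap_apply R K L, ← map_pow, ← mul_assoc, ← map_mul,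
      div_mul_cancel₀ _ (pow_ne_zero _ hs0)]
  choose c hc using hrep
  have hu : ∀ i : ℕ, i < p → i ≠ 0 → ∃ u : R, algebraMap R K u * (i : K) = 1 := fun i hi hi0 => by
    have h1 : ((i : ZMod p)) ≠ 0 := fun h => hi0 (Nat.eq_zero_of_dvd_of_lt ((ZMod.natCast_eq_zero_iff i p).1 h) hi)
    refine ⟨((i : ZMod p)⁻¹.val : R), ?_⟩
    have h2 := congrArg (ZMod.castHom dvd_rfl K) (inv_mul_cancel₀ h1)
    rw [map_mul, map_natCast, map_one, ZMod.castHom_apply, ← ZMod.natCast_val] at h2
    rw [map_natCast]
    exact h2
  -- the bound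
  have hz : ∀ z : L, IsIntegral R z → ∀ j, j < p → ∃ e : R, algebraMap R K e = d ^ (4 * p) * c z j := by
    intro z hz
    have hzp : IsIntegral R (∑ j ∈ Finset.range p, c z j ^ p * A' ^ j) := by
      have h2 : z ^ p = algebraMap K L (∑ j ∈ Finset.range p, c z j ^ p * A' ^ j) := by
        haveI : CharP L p := charP_of_injective_algebraMap (algebraMap K L).injective p
        rw [map_sum]
        conv_lhs => rw [hc z, sum_pow_char p]
        refine Finset.sum_congr rfl fun j _ => ?_
        rw [mul_pow, map_mul, map_pow, map_pow, ← pow_mul, mul_comm j p, pow_mul, hxp]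
      refine (isIntegral_algebraMap_iff (A := K) (B := L) (algebraMap K L).injective).1 ?_
      rw [← h2]
      exact hz.pow p
    obtain ⟨e₀, he₀⟩ := IsIntegrallyClosed.isIntegral_iff.1 hzp
    let S : ℕ → K := fun i => ∑ j ∈ Finset.range p, (j.choose i : K) * c z j ^ p * A' ^ (j - i)
    have hS : ∀ i, i < p → ∃ e : R, algebraMap R K e = d ^ (2 * i) * S i := by
      intro i
      induction i with
      | zero => exact fun _ => ⟨e₀, by simpa [S] using he₀⟩
      | succ i ih =>
        intro hi
        obtain ⟨e, he⟩ := ih (by omega)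
        obtain ⟨e', he'⟩ := hD e
        obtain ⟨u, hu⟩ := hu (i + 1) hi (by omega)
        refine ⟨u * (δ * e' - ((2 * i : ℕ) : R) * δ' * e), ?_⟩
        have hDS : D (S i) = ((i + 1 : ℕ) : K) * d * S (i + 1) := by
          simp only [S, map_sum, Finset.mul_sum]
          refine Finset.sum_congr rfl fun j _ => ?_
          rw [Derivation.leibniz, Derivation.leibniz, hDp, Derivation.map_natCast, Derivation.leibniz_pow, hδ]
          simp only [smul_zero, add_zero, smul_eq_mul, nsmul_eq_mul]
          have h := congrArg (Nat.cast : ℕ → K) (Nat.choose_succ_right_eq j i)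
          push_cast at h
          push_cast
          rw [show j - (i + 1) = j - i - 1 by omega]
          linear_combination (-(c z j ^ p * A' ^ (j - i - 1) * d)) * h
        have hde : D (algebraMap R K e) = ((2 * i : ℕ) : K) * d ^ (2 * i - 1) * algebraMap R K δ' * S i +
            d ^ (2 * i) * (((i + 1 : ℕ) : K) * d * S (i + 1)) := by
          rw [he, Derivation.leibniz, hDS, Derivation.leibniz_pow, hδ', smul_eq_mul, smul_eq_mul, nsmul_eq_mul,
            smul_eq_mul]
          ring
        rw [he'] at hde
        rw [map_mul, map_sub, map_mul, map_mul, map_mul, map_natCast, hde, he]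
        rcases Nat.eq_zero_or_pos i with rfl | hi0
        · simp only [mul_zero, zero_mul, Nat.cast_zero, sub_zero, pow_zero, one_mul, zero_add]
          calc algebraMap R K u * (d * (((0 + 1 : ℕ) : K) * d * S (0 + 1)))
              = (algebraMap R K u * ((0 + 1 : ℕ) : K)) * d ^ 2 * S (0 + 1) := by ring
            _ = _ := by rw [hu, one_mul]
        · obtain ⟨m, hm⟩ := Nat.exists_eq_add_of_le' (show 1 ≤ 2 * i by omega)
          rw [show 2 * (i + 1) = m + 1 + 2 by omega, hm, show m + 1 - 1 = m by omega]
          calc algebraMap R K u * (d * (((m + 1 : ℕ) : K) * d ^ m * algebraMap R K δ' * S i +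
                d ^ (m + 1) * (((i + 1 : ℕ) : K) * d * S (i + 1))) -
                ((m + 1 : ℕ) : K) * algebraMap R K δ' * (d ^ (m + 1) * S i))
              = (algebraMap R K u * ((i + 1 : ℕ) : K)) * (d ^ (m + 1 + 2) * S (i + 1)) := by ring
            _ = _ := by rw [hu, one_mul]
    have hT : ∀ k j, j < p → p - j ≤ k → ∃ e : R, algebraMap R K e = d ^ (2 * p) * c z j ^ p := by
      intro k
      induction k with
      | zero => intro j hj hk; omega
      | succ k ih =>
        intro j hj hk
        obtain ⟨e, he⟩ := hS j hj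
        have hrest : ∀ l ∈ Finset.Ico (j + 1) p, ∃ e' : R, algebraMap R K e' = d ^ (2 * p) * ((l.choose j : K) * c z l ^ p * A' ^ (l - j)) := by
          intro l hl
          rw [Finset.mem_Ico] at hl
          obtain ⟨e', he'⟩ := ih l hl.2 (by omega)
          exact ⟨(l.choose j : R) * a' ^ (l - j) * e', by rw [map_mul, map_mul, map_natCast, map_pow, he']; ring⟩
        choose! e' he' using hrest
        refine ⟨δ ^ (2 * p - 2 * j) * e - ∑ l ∈ Finset.Ico (j + 1) p, e' l, ?_⟩
        have hsplit : S j = c z j ^ p + ∑ l ∈ Finset.Ico (j + 1) p, (l.choose j : K) * c z l ^ p * A' ^ (l - j) := by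
          simp only [S]
          rw [← Finset.sum_range_add_sum_Ico _ hj, Finset.sum_range_succ, Finset.sum_eq_zero fun l hl => ?_,
            Nat.choose_self, Nat.sub_self]
          · simp
          · rw [Nat.choose_eq_zero_of_lt (Finset.mem_range.1 hl)]; simp
        rw [map_sub, map_mul, map_pow, he, map_sum, Finset.sum_congr rfl he', ← Finset.mul_sum, hsplit,
          show d ^ (2 * p) = d ^ (2 * p - 2 * j) * d ^ (2 * j) by rw [← pow_add]; congr 1; omega]
        ring
    intro j hj
    obtain ⟨e, he⟩ := hT p j hj (by omega)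
    refine IsIntegrallyClosed.isIntegral_iff.1 (IsIntegral.of_pow hp.pos ?_)
    rw [mul_pow, ← pow_mul, show 4 * p * p = (4 * p * p - 2 * p) + 2 * p from (Nat.sub_add_cancel (by nlinarith [hp.pos])).symm, pow_add,
      mul_assoc, ← he, hd, ← map_pow, ← map_mul]
    exact isIntegral_algebraMap
  let N : Submodule R L := Submodule.span R ((fun j => x' ^ j) '' (Finset.range p : Set ℕ))
  have hNfg : N.FG := Submodule.fg_span ((Finset.finite_toSet _).image _)
  haveI : Module.Finite R N := Module.Finite.iff_fg.2 hNfg
  have hmem : ∀ z : integralClosure R L, algebraMap R L (δ ^ (4 * p)) * (z : L) ∈ N := by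
    intro z
    rw [hc (z : L), Finset.mul_sum]
    refine Submodule.sum_mem _ fun j hj => ?_
    obtain ⟨e, he⟩ := hz (z : L) z.2 j (Finset.mem_range.1 hj)
    rw [← mul_assoc, IsScalarTower.algebraMap_apply R K L, ← map_mul, map_pow, ← hd, ← he, ← IsScalarTower.algebraMap_apply,
      ← Algebra.smul_def]
    exact N.smul_mem e (Submodule.subset_span ⟨j, hj, rfl⟩)
  let φ : integralClosure R L →ₗ[R] N :=
    LinearMap.codRestrict N ((LinearMap.mulLeft R (algebraMap R L (δ ^ (4 * p)))).comp (integralClosure R L).val.toLinearMap) hmem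
  haveI : IsNoetherian R N := isNoetherian_of_isNoetherianRing_of_finite R N
  refine Module.Finite.of_injective φ fun z z' h => Subtype.ext ?_
  have h1 : algebraMap R L (δ ^ (4 * p)) * (z : L) = algebraMap R L (δ ^ (4 * p)) * (z' : L) := congrArg Subtype.val h
  refine mul_left_cancel₀ ?_ h1
  rw [IsScalarTower.algebraMap_apply R K L, ne_eq, map_eq_zero, map_pow]
  exact pow_ne_zero _ ((map_ne_zero_iff _ hinj).2 hδ0)


end Groth.Agent.S9416
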