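import Groth.Statements.S9417
import Mathlib
import Groth.Agent.StageDescentLib.Double
-- import your own Groth.Agent.* helpers here

set_option autoImplicit false
universe u
open CAlg

namespace Groth.Agent.S9417

set_option maxHeartbeats 400000

open TensorProduct in
/-- Let (A_i) be a directed system of A₀-algebras with colimit A (given by compatible maps A_i → A which
are jointly surjective and whose kernels die in the system), and B₀ → C₀ a homomorphism of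
A₀-algebras with C₀ of finite type over B₀. If the base change of B₀ → C₀ along B₀ → B₀ ⊗_{A₀} A is
finite (module-finite), then already its base change along B₀ → B₀ ⊗_{A₀} A_i is finite for some
index i. -/
theorem result {ι : Type u} [Preorder ι] [IsDirected ι (· ≤ ·)] [Nonempty ι]
    (A₀ : Type u) [CommRing A₀] (G : ι → Type u) [∀ i, CommRing (G i)] [∀ i, Algebra A₀ (G i)]
    (f : ∀ i j, i ≤ j → (G i →ₐ[A₀] G j)) (A : Type u) [CommRing A] [Algebra A₀ A]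
    (g : ∀ i, G i →ₐ[A₀] A) (hg : ∀ i j (h : i ≤ j), (g j).comp (f i j h) = g i)
    (hsurj : ∀ a : A, ∃ i, ∃ x : G i, g i x = a)
    (hker : ∀ i (x : G i), g i x = 0 → ∃ j, ∃ h : i ≤ j, f i j h x = 0)
    (B₀ : Type u) [CommRing B₀] [Algebra A₀ B₀] (C₀ : Type u) [CommRing C₀] [Algebra A₀ C₀]
    [Algebra B₀ C₀] [IsScalarTower A₀ B₀ C₀] [Algebra.FiniteType B₀ C₀]
    (h : Module.Finite (B₀ ⊗[A₀] A) ((B₀ ⊗[A₀] A) ⊗[B₀] C₀)) :
    ∃ i, Module.Finite (B₀ ⊗[A₀] G i) ((B₀ ⊗[A₀] G i) ⊗[B₀] C₀) := by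
  classical
  obtain ⟨s, hs⟩ := (inferInstance : Algebra.FiniteType B₀ C₀).out
  haveI := h
  choose P hPm hP using fun c : s => (Algebra.IsIntegral.isIntegral (R := B₀ ⊗[A₀] A)
    ((1 : B₀ ⊗[A₀] A) ⊗ₜ (c : C₀) : (B₀ ⊗[A₀] A) ⊗[B₀] C₀))
  obtain ⟨i, q, hq⟩ := StageDescentLib.bmap_surj_family A₀ f g hg hsurj B₀
    (fun x : (c : s) × Fin (P c).natDegree => (P x.1).coeff x.2)
  let p : (k : ι) → (G i →ₐ[A₀] G k) → s → Polynomial (B₀ ⊗[A₀] G k) := fun k χ c =>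
    Polynomial.X ^ (P c).natDegree +
      ∑ m : Fin (P c).natDegree, Polynomial.C (StageDescentLib.bmap A₀ B₀ χ (q ⟨c, m⟩)) * Polynomial.X ^ (m : ℕ)
  let val : (k : ι) → (G i →ₐ[A₀] G k) → s → (B₀ ⊗[A₀] G k) ⊗[B₀] C₀ := fun k χ c =>
    Polynomial.eval₂ (algebraMap _ _) ((1 : B₀ ⊗[A₀] G k) ⊗ₜ (c : C₀)) (p k χ c)
  have hnat : ∀ (Y : Type u) [CommRing Y] [Algebra A₀ Y] (χ : G i →ₐ[A₀] Y) (c : s),
      StageDescentLib.cmap A₀ B₀ C₀ χ (val i (AlgHom.id _ _) c) =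
        ((1 : B₀ ⊗[A₀] Y) ⊗ₜ (c : C₀) : (B₀ ⊗[A₀] Y) ⊗[B₀] C₀) ^ (P c).natDegree +
          ∑ m : Fin (P c).natDegree, algebraMap (B₀ ⊗[A₀] Y) ((B₀ ⊗[A₀] Y) ⊗[B₀] C₀)
            (StageDescentLib.bmap A₀ B₀ χ (q ⟨c, m⟩)) * ((1 : B₀ ⊗[A₀] Y) ⊗ₜ (c : C₀)) ^ (m : ℕ) := by
    intro Y _ _ χ c
    simp only [val, p, Polynomial.eval₂_add, Polynomial.eval₂_X_pow, Polynomial.eval₂_finset_sum,
      Polynomial.eval₂_mul, Polynomial.eval₂_C, map_add, map_sum, map_mul, map_pow,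
      StageDescentLib.cmap_includeRight, StageDescentLib.cmap_algebraMap, StageDescentLib.bmap_comp,
      AlgHom.comp_id]
  obtain ⟨k, χ, -, hk⟩ := StageDescentLib.cmap_kill A₀ f g hg hsurj hker B₀ C₀ (val i (AlgHom.id _ _)) (fun c => by
    rw [hnat A (g i) c]
    refine Eq.trans ?_ (hP c)
    conv_rhs => rw [(hPm c).as_sum]
    simp only [Polynomial.eval₂_add, Polynomial.eval₂_X_pow, Polynomial.eval₂_finset_sum,
      Polynomial.eval₂_mul, Polynomial.eval₂_C, hq]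
    exact congrArg _ (Fin.sum_univ_eq_sum_range (fun m => algebraMap (B₀ ⊗[A₀] A) ((B₀ ⊗[A₀] A) ⊗[B₀] C₀) ((P c).coeff m) *
      ((1 : B₀ ⊗[A₀] A) ⊗ₜ (c : C₀)) ^ m) _))
  refine ⟨k, ⟨?_⟩⟩
  have := fg_adjoin_of_finite (R := B₀ ⊗[A₀] G k)
    (s := (fun c : C₀ => ((1 : B₀ ⊗[A₀] G k) ⊗ₜ[B₀] c)) '' (s : Set C₀))
    (s.finite_toSet.image _) (by
      rintro _ ⟨c, hc, rfl⟩
      refine ⟨p k χ ⟨c, hc⟩, Polynomial.monic_X_pow_add ?_, ?_⟩
      · refine (Polynomial.degree_sum_fin_lt fun m => StageDescentLib.bmap A₀ B₀ χ (q ⟨⟨c, hc⟩, m⟩))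
      · have h0 := hk ⟨c, hc⟩
        rw [hnat] at h0
        simp only [p, Polynomial.eval₂_add, Polynomial.eval₂_X_pow, Polynomial.eval₂_finset_sum,
          Polynomial.eval₂_mul, Polynomial.eval₂_C]
        exact h0)
  rwa [StageDescentLib.adjoin_one_tmul B₀ C₀ _ (s : Set C₀) hs, Algebra.top_toSubmodule] at this

end Groth.Agent.S9417
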