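import Groth.Statements.S9419
import Mathlib
import Groth.Agent.StageDescentLib.Double
-- import your own Groth.Agent.* helpers here

set_option autoImplicit false
universe u
open CAlg

namespace Groth.Agent.S9419

set_option maxHeartbeats 400000
attribute [local instance] Algebra.TensorProduct.rightAlgebra

open TensorProduct in
/-- Let (A_i) be a directed system of A₀-algebras with colimit A (given by compatible maps A_i → A which
are jointly surjective and whose kernels die in the system), and B₀ → C₀ a homomorphism of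
A₀-algebras with C₀ of finite type over B₀. If the base change of B₀ → C₀ along B₀ → B₀ ⊗_{A₀} A is
unramified (formally unramified and of finite type), then already its base change along B₀ → B₀
⊗_{A₀} A_i is unramified for some index i. -/
theorem result {ι : Type u} [Preorder ι] [IsDirected ι (· ≤ ·)] [Nonempty ι]
    (A₀ : Type u) [CommRing A₀] (G : ι → Type u) [∀ i, CommRing (G i)] [∀ i, Algebra A₀ (G i)]
    (f : ∀ i j, i ≤ j → (G i →ₐ[A₀] G j)) (A : Type u) [CommRing A] [Algebra A₀ A]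
    (g : ∀ i, G i →ₐ[A₀] A) (hg : ∀ i j (h : i ≤ j), (g j).comp (f i j h) = g i)
    (hsurj : ∀ a : A, ∃ i, ∃ x : G i, g i x = a)
    (hker : ∀ i (x : G i), g i x = 0 → ∃ j, ∃ h : i ≤ j, f i j h x = 0)
    (B₀ : Type u) [CommRing B₀] [Algebra A₀ B₀] (C₀ : Type u) [CommRing C₀] [Algebra A₀ C₀]
    [Algebra B₀ C₀] [IsScalarTower A₀ B₀ C₀] [Algebra.FiniteType B₀ C₀]
    (h : Algebra.Unramified (B₀ ⊗[A₀] A) ((B₀ ⊗[A₀] A) ⊗[B₀] C₀)) :
    ∃ i, Algebra.Unramified (B₀ ⊗[A₀] G i) ((B₀ ⊗[A₀] G i) ⊗[B₀] C₀) := by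
  classical
  obtain ⟨s, hs⟩ := (inferInstance : Algebra.FiniteType B₀ C₀).out
  haveI := h
  let e := KaehlerDifferential.tensorKaehlerEquivBase B₀ (B₀ ⊗[A₀] A) C₀ ((B₀ ⊗[A₀] A) ⊗[B₀] C₀)
  obtain ⟨i⟩ := ‹Nonempty ι›
  obtain ⟨k, χ, -, hk⟩ := StageDescentLib.double_kill A₀ f g hg hsurj hker B₀ Ω[C₀⁄B₀]
    (i := i) (s.image fun c => (1 : B₀ ⊗[A₀] G i) ⊗ₜ[B₀] KaehlerDifferential.D B₀ C₀ c) (fun x _ =>
      e.injective (Subsingleton.elim _ _))
  let T := B₀ ⊗[A₀] G k
  have hone : ∀ ω : Ω[C₀⁄B₀], (1 : T) ⊗ₜ[B₀] ω = 0 := by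
    have hsmul : ∀ (c : C₀) (ω : Ω[C₀⁄B₀]), (1 : T) ⊗ₜ[B₀] ω = 0 → (1 : T) ⊗ₜ[B₀] (c • ω) = 0 := by
      intro c ω hω
      have := congrArg ((LinearMap.lsmul C₀ Ω[C₀⁄B₀] c).restrictScalars B₀ |>.lTensor T) hω
      simpa using this
    have hD : ∀ x : C₀, (1 : T) ⊗ₜ[B₀] KaehlerDifferential.D B₀ C₀ x = 0 := by
      intro x
      have hx : x ∈ Algebra.adjoin B₀ (s : Set C₀) := hs ▸ Algebra.mem_top
      induction hx using Algebra.adjoin_induction with
      | mem y hy =>
        have := hk _ (Finset.mem_image_of_mem _ hy)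
        rwa [StageDescentLib.dmap_tmul, map_one] at this
      | algebraMap r => simp
      | add a b _ _ ha hb => rw [map_add, TensorProduct.tmul_add, ha, hb, add_zero]
      | mul a b _ _ ha hb =>
        rw [Derivation.leibniz, TensorProduct.tmul_add, hsmul a _ hb, hsmul b _ ha, add_zero]
    intro ω
    have hω : ω ∈ Submodule.span C₀ (Set.range (KaehlerDifferential.D B₀ C₀)) :=
      KaehlerDifferential.span_range_derivation B₀ C₀ ▸ Submodule.mem_top
    induction hω using Submodule.span_induction with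
    | mem y hy => obtain ⟨x, rfl⟩ := hy; exact hD x
    | zero => simp
    | add a b _ _ ha hb => rw [TensorProduct.tmul_add, ha, hb, add_zero]
    | smul c a _ ha => exact hsmul c a ha
  haveI : Subsingleton (T ⊗[B₀] Ω[C₀⁄B₀]) := subsingleton_of_forall_eq 0 fun z => by
    induction z using TensorProduct.induction_on with
    | zero => rfl
    | add a b ha hb => rw [ha, hb, add_zero]
    | tmul t ω =>
      rw [← mul_one t, ← smul_eq_mul, ← TensorProduct.smul_tmul', hone, smul_zero]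
  haveI : Algebra.FormallyUnramified T (T ⊗[B₀] C₀) :=
    ⟨(KaehlerDifferential.tensorKaehlerEquivBase B₀ T C₀ (T ⊗[B₀] C₀)).symm.injective.subsingleton⟩
  exact ⟨k, ⟨inferInstance, inferInstance⟩⟩

end Groth.Agent.S9419
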