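import Groth.Statements.S9420
import Mathlib
import Groth.Agent.StageDescentLib.Double
-- import your own Groth.Agent.* helpers here

set_option autoImplicit false
universe u
open CAlg

namespace Groth.Agent.S9420

set_option maxHeartbeats 400000

open TensorProduct in
/-- Let (A_i) be a directed system of A₀-algebras with colimit A (given by compatible maps A_i → A which
are jointly surjective and whose kernels die in the system), and B₀ → C₀ a homomorphism of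
A₀-algebras with C₀ of finite presentation over B₀. If the base change of B₀ → C₀ along B₀ → B₀
⊗_{A₀} A is an isomorphism (bijective), then already its base change along B₀ → B₀ ⊗_{A₀} A_i is an
isomorphism for some index i. -/
theorem result {ι : Type u} [Preorder ι] [IsDirected ι (· ≤ ·)] [Nonempty ι]
    (A₀ : Type u) [CommRing A₀] (G : ι → Type u) [∀ i, CommRing (G i)] [∀ i, Algebra A₀ (G i)]
    (f : ∀ i j, i ≤ j → (G i →ₐ[A₀] G j)) (A : Type u) [CommRing A] [Algebra A₀ A]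
    (g : ∀ i, G i →ₐ[A₀] A) (hg : ∀ i j (h : i ≤ j), (g j).comp (f i j h) = g i)
    (hsurj : ∀ a : A, ∃ i, ∃ x : G i, g i x = a)
    (hker : ∀ i (x : G i), g i x = 0 → ∃ j, ∃ h : i ≤ j, f i j h x = 0)
    (B₀ : Type u) [CommRing B₀] [Algebra A₀ B₀] (C₀ : Type u) [CommRing C₀] [Algebra A₀ C₀]
    [Algebra B₀ C₀] [IsScalarTower A₀ B₀ C₀] [Algebra.FinitePresentation B₀ C₀]
    (h : Function.Bijective (algebraMap (B₀ ⊗[A₀] A) ((B₀ ⊗[A₀] A) ⊗[B₀] C₀))) :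
    ∃ i, Function.Bijective (algebraMap (B₀ ⊗[A₀] G i) ((B₀ ⊗[A₀] G i) ⊗[B₀] C₀)) := by
  classical
  obtain ⟨i, hi⟩ := StageDescentLib.surjective_stage A₀ f g hg hsurj hker B₀ C₀ h.2
  have hs := hi i (AlgHom.id _ _)
  obtain ⟨T, hT⟩ := Algebra.FinitePresentation.ker_fG_of_surjective
    (Algebra.ofId (B₀ ⊗[A₀] G i) ((B₀ ⊗[A₀] G i) ⊗[B₀] C₀)) hs
  obtain ⟨k, χ, -, hk⟩ := StageDescentLib.bmap_kill A₀ f g hg hsurj hker B₀ T (by
    intro x hx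
    refine h.1 ?_
    have hx' : algebraMap (B₀ ⊗[A₀] G i) ((B₀ ⊗[A₀] G i) ⊗[B₀] C₀) x = 0 := hT.le (Ideal.subset_span hx)
    rw [← StageDescentLib.cmap_algebraMap, hx', map_zero, map_zero])
  refine ⟨k, ?_, hi k χ⟩
  let χ' := StageDescentLib.bmap A₀ B₀ χ
  have hker' : RingHom.ker (algebraMap (B₀ ⊗[A₀] G i) ((B₀ ⊗[A₀] G i) ⊗[B₀] C₀)) ≤ RingHom.ker χ'.toRingHom :=
    (show RingHom.ker (algebraMap (B₀ ⊗[A₀] G i) ((B₀ ⊗[A₀] G i) ⊗[B₀] C₀)) = Ideal.span T from hT.symm).trans_le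
      (Ideal.span_le.mpr hk)
  let ρ : ((B₀ ⊗[A₀] G i) ⊗[B₀] C₀) →+* B₀ ⊗[A₀] G k :=
    RingHom.liftOfSurjective _ hs ⟨χ'.toRingHom, hker'⟩
  have hρ : ∀ b, ρ (algebraMap (B₀ ⊗[A₀] G i) ((B₀ ⊗[A₀] G i) ⊗[B₀] C₀) b) = χ' b :=
    fun b => RingHom.liftOfSurjective_comp_apply _ _ _ b
  let γ : C₀ →ₐ[B₀] B₀ ⊗[A₀] G k :=
    { ρ.comp (Algebra.TensorProduct.includeRight : C₀ →ₐ[B₀] (B₀ ⊗[A₀] G i) ⊗[B₀] C₀).toRingHom with
      commutes' := fun r => by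
        show ρ ((Algebra.TensorProduct.includeRight : C₀ →ₐ[B₀] (B₀ ⊗[A₀] G i) ⊗[B₀] C₀) (algebraMap B₀ C₀ r)) = _
        rw [AlgHom.commutes, IsScalarTower.algebraMap_apply B₀ (B₀ ⊗[A₀] G i) ((B₀ ⊗[A₀] G i) ⊗[B₀] C₀), hρ]
        exact χ'.commutes r }
  let Λ : ((B₀ ⊗[A₀] G k) ⊗[B₀] C₀) →ₐ[B₀ ⊗[A₀] G k] B₀ ⊗[A₀] G k :=
    Algebra.TensorProduct.lift (Algebra.ofId _ _) γ fun _ _ => Commute.all _ _
  exact Function.LeftInverse.injective (g := Λ) fun b => Λ.commutes b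

end Groth.Agent.S9420
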