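import Groth.Statements.S9423
import Groth.Agent.TransLib.TensorStage
import Groth.Agent.TransLib.DescSynt

set_option autoImplicit false
universe u
open Synt

namespace Groth.Agent.S9423

open TensorProduct in
/-- Let (A_i) be a directed system of A₀-algebras with colimit A (given by compatible maps A_i → A which
are jointly surjective and whose kernels die in the system), and B₀ → C₀ a homomorphism of
A₀-algebras with C₀ of finite presentation over B₀. If the base change of B₀ → C₀ along B₀ → B₀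
⊗_{A₀} A is syntomic (flat, of finite presentation, with local complete intersection fibres), then
already its base change along B₀ → B₀ ⊗_{A₀} A_i is syntomic for some index i. (The published
statement also treats relative global complete intersections; this row states the syntomic case.) -/
theorem result {ι : Type u} [Preorder ι] [IsDirected ι (· ≤ ·)] [Nonempty ι]
    (A₀ : Type u) [CommRing A₀] (G : ι → Type u) [∀ i, CommRing (G i)] [∀ i, Algebra A₀ (G i)]
    (f : ∀ i j, i ≤ j → (G i →ₐ[A₀] G j)) (A : Type u) [CommRing A] [Algebra A₀ A]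
    (g : ∀ i, G i →ₐ[A₀] A) (hg : ∀ i j (h : i ≤ j), (g j).comp (f i j h) = g i)
    (hsurj : ∀ a : A, ∃ i, ∃ x : G i, g i x = a)
    (hker : ∀ i (x : G i), g i x = 0 → ∃ j, ∃ h : i ≤ j, f i j h x = 0)
    (B₀ : Type u) [CommRing B₀] [Algebra A₀ B₀] (C₀ : Type u) [CommRing C₀] [Algebra A₀ C₀]
    [Algebra B₀ C₀] [IsScalarTower A₀ B₀ C₀] [Algebra.FinitePresentation B₀ C₀]
    (h : Synt.IsSyntomic (B₀ ⊗[A₀] A) ((B₀ ⊗[A₀] A) ⊗[B₀] C₀)) :
    ∃ i, Synt.IsSyntomic (B₀ ⊗[A₀] G i) ((B₀ ⊗[A₀] G i) ⊗[B₀] C₀) := by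
  classical
  let π : ∀ i, B₀ ⊗[A₀] G i →ₐ[B₀] B₀ ⊗[A₀] A := fun i => Algebra.TensorProduct.map (AlgHom.id B₀ B₀) (g i)
  have hl : ∀ {i} (x : B₀ ⊗[A₀] G i), π i x = LinearMap.lTensor B₀ (g i).toLinearMap x := fun _ => rfl
  let lift : ∀ {i j} (φ : G i →ₐ[A₀] G j), (g j).comp φ = g i → TransLib.Hom π i j := fun {i j} φ hφ =>
    ⟨Algebra.TensorProduct.map (AlgHom.id B₀ B₀) φ, by
      show (Algebra.TensorProduct.map (AlgHom.id B₀ B₀) (g j)).comp _ = Algebra.TensorProduct.map (AlgHom.id B₀ B₀) (g i)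
      rw [← Algebra.TensorProduct.map_comp, hφ, AlgHom.comp_id]⟩
  refine TransLib.exists_stage_syntomic (π := π) ?_ ?_ ?_ h
  · intro b
    obtain ⟨i, x, hx⟩ := TransLib.exists_stage_tensor hg hsurj b
    exact ⟨i, x, hx⟩
  · intro i j
    obtain ⟨k, hik, hjk⟩ := exists_ge_ge i j
    exact ⟨k, ⟨lift _ (hg i k hik)⟩, ⟨lift _ (hg j k hjk)⟩⟩
  · intro i x hx
    obtain ⟨j, φ, hφ, hk⟩ := TransLib.exists_kill_tensor hg hsurj hker x ((hl x).symm.trans hx)
    exact ⟨j, lift φ hφ, hk⟩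

end Groth.Agent.S9423
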