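import Groth.Statements.S9425
import Mathlib
-- import your own Groth.Agent.* helpers here

set_option autoImplicit false
universe u
open CAlg

namespace Groth.Agent.S9425

set_option maxHeartbeats 400000

/-- A directed colimit of formally étale R-algebras is formally étale over R. The colimit is encoded by
compatible R-algebra maps S_i → S which are jointly surjective and whose kernels die further along
the system. -/
theorem result {ι : Type u} [Preorder ι] [IsDirected ι (· ≤ ·)] [Nonempty ι]
    (R : Type u) [CommRing R] (G : ι → Type u) [∀ i, CommRing (G i)] [∀ i, Algebra R (G i)]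
    (f : ∀ i j, i ≤ j → (G i →ₐ[R] G j)) (S : Type u) [CommRing S] [Algebra R S]
    (g : ∀ i, G i →ₐ[R] S) (hg : ∀ i j (h : i ≤ j), (g j).comp (f i j h) = g i)
    (hsurj : ∀ s : S, ∃ i, ∃ x : G i, g i x = s)
    (hker : ∀ i (x : G i), g i x = 0 → ∃ j, ∃ h : i ≤ j, f i j h x = 0)
    (h : ∀ i, Algebra.FormallyEtale R (G i)) : Algebra.FormallyEtale R S := by
  refine Algebra.FormallyEtale.iff_comp_bijective.mpr fun B _ _ I hI => ?_
  have hb := fun i => (Algebra.FormallyEtale.iff_comp_bijective.mp (h i)) I hI
  refine ⟨fun φ ψ hφψ => AlgHom.ext fun s => ?_, fun φ => ?_⟩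
  · obtain ⟨i, x, rfl⟩ := hsurj s
    have : φ.comp (g i) = ψ.comp (g i) := (hb i).1 (by
      show (Ideal.Quotient.mkₐ R I).comp _ = (Ideal.Quotient.mkₐ R I).comp _
      rw [← AlgHom.comp_assoc, ← AlgHom.comp_assoc]; exact congrArg (AlgHom.comp · (g i)) hφψ)
    exact AlgHom.congr_fun this x
  · choose L hL using fun i => (hb i).2 (φ.comp (g i))
    have hcompat : ∀ i j (hij : i ≤ j), (L j).comp (f i j hij) = L i := fun i j hij => (hb i).1 (by
      show (Ideal.Quotient.mkₐ R I).comp ((L j).comp (f i j hij)) = (Ideal.Quotient.mkₐ R I).comp (L i)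
      rw [← AlgHom.comp_assoc, show (Ideal.Quotient.mkₐ R I).comp (L j) = _ from hL j,
        show (Ideal.Quotient.mkₐ R I).comp (L i) = _ from hL i, AlgHom.comp_assoc, hg])
    have hwd : ∀ i j (x : G i) (y : G j), g i x = g j y → L i x = L j y := by
      intro i j x y hxy
      obtain ⟨k, hik, hjk⟩ := directed_of (· ≤ ·) i j
      obtain ⟨l, hkl, hl⟩ := hker k (f i k hik x - f j k hjk y) (by
        rw [map_sub, ← AlgHom.comp_apply, hg, ← AlgHom.comp_apply (g k), hg, hxy, sub_self])
      have h0 := congrArg (L l) hl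
      rw [← AlgHom.comp_apply, hcompat, map_zero, map_sub, ← AlgHom.comp_apply, hcompat,
        ← AlgHom.comp_apply (L k), hcompat, sub_eq_zero] at h0
      exact h0
    choose i x hx using hsurj
    let Λ : S →ₐ[R] B :=
      { toFun := fun s => L (i s) (x s)
        map_one' := by
          rw [hwd (i 1) (i 1) (x 1) 1 (by rw [hx, map_one]), map_one]
        map_zero' := by
          show L (i 0) (x 0) = 0
          rw [hwd (i 0) (i 0) (x 0) 0 (by rw [hx, map_zero]), map_zero]
        map_mul' := fun a b => by
          obtain ⟨k, hak, hbk⟩ := directed_of (· ≤ ·) (i a) (i b)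
          rw [hwd (i (a * b)) k (x (a * b)) (f _ k hak (x a) * f _ k hbk (x b)) (by
            rw [hx, map_mul, ← AlgHom.comp_apply, hg, ← AlgHom.comp_apply (g k), hg, hx, hx]),
            map_mul, ← AlgHom.comp_apply, hcompat, ← AlgHom.comp_apply (L k), hcompat]
        map_add' := fun a b => by
          show L (i (a + b)) (x (a + b)) = L (i a) (x a) + L (i b) (x b)
          obtain ⟨k, hak, hbk⟩ := directed_of (· ≤ ·) (i a) (i b)
          rw [hwd (i (a + b)) k (x (a + b)) (f _ k hak (x a) + f _ k hbk (x b)) (by
            rw [hx, map_add, ← AlgHom.comp_apply, hg, ← AlgHom.comp_apply (g k), hg, hx, hx]),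
            map_add, ← AlgHom.comp_apply, hcompat, ← AlgHom.comp_apply (L k), hcompat]
        commutes' := fun r => by
          show L (i (algebraMap R S r)) (x (algebraMap R S r)) = _
          rw [hwd (i (algebraMap R S r)) (i (algebraMap R S r)) _ (algebraMap R _ r)
            (by rw [hx, AlgHom.commutes]), AlgHom.commutes] }
    refine ⟨Λ, AlgHom.ext fun s => ?_⟩
    have := AlgHom.congr_fun (hL (i s)) (x s)
    simp only [AlgHom.comp_apply] at this
    rw [hx] at this
    exact this

end Groth.Agent.S9425
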