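import Groth.Statements.S9426
import Groth.Agent.ThickRingLib.Basic
-- import your own Groth.Agent.* helpers here

set_option autoImplicit false
universe u
open OmegaSh

namespace Groth.Agent.S9426

/-- A formally unramified R-algebra S admits a universal first order thickening: an R-algebra surjection
S' → S with square-zero kernel through which every R-algebra map from S into a square-zero quotient
A/I lifts uniquely to A. -/
theorem result (R : Type u) [CommRing R]
    (S : Type u) [CommRing S] [Algebra R S] [Algebra.FormallyUnramified R S] :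
    ∃ (S' : Type u) (_ : CommRing S') (_ : Algebra R S') (π : S' →ₐ[R] S),
      OmegaSh.IsUnivThickeningRing R S S' π := by
  classical
  let f : MvPolynomial S R →ₐ[R] S := MvPolynomial.aeval fun s => s
  have hfX : ∀ s, f (MvPolynomial.X s) = s := fun s => MvPolynomial.aeval_X _ s
  have hf : Function.Surjective f := fun s => ⟨_, hfX s⟩
  letI : Algebra (MvPolynomial S R) S := f.toRingHom.toAlgebra
  haveI : IsScalarTower R (MvPolynomial S R) S := IsScalarTower.of_algebraMap_eq' f.comp_algebraMap.symm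
  let J : Ideal (MvPolynomial S R) := RingHom.ker (algebraMap (MvPolynomial S R) S)
  have hj : ∀ s : S, ∃ j ∈ J, ∀ t, MvPolynomial.pderiv t (MvPolynomial.X s - j) ∈ J := by
    intro s
    have hsurj : Function.Surjective (algebraMap (MvPolynomial S R) S) := hf
    have hz : KaehlerDifferential.mapBaseChange R (MvPolynomial S R) S
        ((1 : S) ⊗ₜ KaehlerDifferential.D R (MvPolynomial S R) (MvPolynomial.X s)) = 0 :=
      Subsingleton.elim _ _
    obtain ⟨c, hc⟩ := ((KaehlerDifferential.exact_kerCotangentToTensor_mapBaseChange R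
      (MvPolynomial S R) S hsurj) _).mp hz
    obtain ⟨⟨j, hjJ⟩, rfl⟩ := Ideal.toCotangent_surjective _ c
    rw [KaehlerDifferential.kerCotangentToTensor_toCotangent] at hc
    refine ⟨j, hjJ, fun t => ?_⟩
    have h2 := congrArg (fun z => TensorProduct.lift
      ((LinearMap.lsmul (MvPolynomial S R) S).flip.compl₂
        ((MvPolynomial.pderiv t).liftKaehlerDifferential)) z) hc
    change algebraMap (MvPolynomial S R) S (MvPolynomial.pderiv t (MvPolynomial.X s - j)) = 0
    simp only [TensorProduct.lift.tmul, LinearMap.compl₂_apply, LinearMap.flip_apply,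
      LinearMap.lsmul_apply, Derivation.liftKaehlerDifferential_comp_D, Algebra.smul_def, mul_one] at h2
    rw [map_sub (MvPolynomial.pderiv (R := R) t), map_sub, h2, sub_self]
  choose j hjJ hjd using hj
  let q := Ideal.Quotient.mk (J ^ 2)
  let ε : MvPolynomial S R →ₐ[R] MvPolynomial S R ⧸ J ^ 2 :=
    MvPolynomial.aeval fun s => q (MvPolynomial.X s - j s)
  let fe : (MvPolynomial S R ⧸ J ^ 2) →ₐ[R] S :=
    Ideal.Quotient.liftₐ (J ^ 2) f fun p hp => Ideal.pow_le_self two_ne_zero hp
  have hfe : ∀ p, fe (q p) = f p := fun p => rfl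
  have hεX : ∀ s, ε (MvPolynomial.X s) = q (MvPolynomial.X s - j s) := fun s => MvPolynomial.aeval_X _ s
  have hI2 : J.map q ^ 2 = ⊥ := by
    rw [← Ideal.map_pow, Ideal.map_quotient_self]
  have hjf : ∀ s, f (j s) = 0 := hjJ
  have hεj : ∀ s, ε (j s) = 0 := by
    intro s
    have hd : ∀ t, ε (MvPolynomial.X t) - Ideal.Quotient.mkₐ R (J ^ 2) (MvPolynomial.X t) ∈ J.map q := by
      intro t
      rw [hεX, show Ideal.Quotient.mkₐ R (J ^ 2) (MvPolynomial.X t) = q (MvPolynomial.X t) from rfl,
        ← map_sub]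
      exact Ideal.mem_map_of_mem _ (by simpa using J.neg_mem (hjJ t))
    have h := ThickRingLib.eq_of_pderiv_mem (Ideal.Quotient.mkₐ R (J ^ 2)) ε hI2 hd
      (J := J) (fun p hp => Ideal.mem_map_of_mem _ hp) (hjd s)
    rw [map_sub ε, hεX, show Ideal.Quotient.mkₐ R (J ^ 2) (MvPolynomial.X s - j s) =
      q (MvPolynomial.X s - j s) from rfl] at h
    simpa using h
  have hfε : fe.comp ε = f := by
    refine MvPolynomial.algHom_ext fun s => ?_
    rw [AlgHom.comp_apply, hεX, hfe, map_sub, hjf, sub_zero]
  refine ⟨ε.range, inferInstance, inferInstance, fe.comp ε.range.val, ?_, ?_, ?_⟩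
  · intro s
    refine ⟨⟨ε (MvPolynomial.X s), _, rfl⟩, ?_⟩
    exact (AlgHom.congr_fun hfε (MvPolynomial.X s)).trans (hfX s)
  · refine eq_bot_iff.mpr ((pow_two _).trans_le (Ideal.mul_le.mpr ?_))
    rintro ⟨x, hx⟩ hx0 ⟨y, hy⟩ hy0
    obtain ⟨x', rfl⟩ := Ideal.Quotient.mk_surjective x
    obtain ⟨y', rfl⟩ := Ideal.Quotient.mk_surjective y
    rw [Ideal.mem_bot]
    refine Subtype.ext ?_
    change q x' * q y' = 0
    rw [← map_mul, Ideal.Quotient.eq_zero_iff_mem, sq]
    exact Ideal.mul_mem_mul (show f x' = 0 from hx0) (show f y' = 0 from hy0)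
  · intro A _ _ I hI a
    choose t ht using fun s => Ideal.Quotient.mk_surjective (a s)
    let φ : MvPolynomial S R →ₐ[R] A := MvPolynomial.aeval t
    have hφ : (Ideal.Quotient.mkₐ R I).comp φ = a.comp f := by
      refine MvPolynomial.algHom_ext fun s => ?_
      simp only [AlgHom.comp_apply, φ, MvPolynomial.aeval_X, hfX, Ideal.Quotient.mkₐ_eq_mk, ht]
    have hφJ : ∀ p ∈ J, φ p ∈ I := by
      intro p hp
      refine Ideal.Quotient.eq_zero_iff_mem.mp ((AlgHom.congr_fun hφ p).trans ?_)
      exact (congrArg a (show f p = 0 from hp)).trans (map_zero a)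
    have hφJ2 : ∀ p ∈ J ^ 2, φ p = 0 := by
      intro p hp
      have : (J ^ 2).map φ.toRingHom ≤ ⊥ := by
        rw [← hI, Ideal.map_pow]
        exact Ideal.pow_right_mono (Ideal.map_le_iff_le_comap.mpr hφJ) 2
      exact (Ideal.mem_bot.mp (this (Ideal.mem_map_of_mem _ hp)))
    refine ⟨(Ideal.Quotient.liftₐ (J ^ 2) φ hφJ2).comp ε.range.val, ?_, ?_⟩
    · refine AlgHom.ext ?_
      rintro ⟨x, hx⟩
      obtain ⟨x', rfl⟩ := Ideal.Quotient.mk_surjective x
      exact AlgHom.congr_fun hφ x'
    · intro b hb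
      refine AlgHom.ext ?_
      rintro ⟨x, p, rfl⟩
      have e : b.comp ε.rangeRestrict = (Ideal.Quotient.liftₐ (J ^ 2) φ hφJ2).comp ε := by
        refine MvPolynomial.algHom_ext fun s => ?_
        have h1 : ε.rangeRestrict (MvPolynomial.X s) = ε.rangeRestrict (MvPolynomial.X s - j s) := by
          refine Subtype.ext ?_
          change ε (MvPolynomial.X s) = ε (MvPolynomial.X s - j s)
          rw [map_sub ε, hεj, sub_zero]
        have h2 : ∀ p, (b.comp ε.rangeRestrict) p - φ p ∈ I := by
          intro p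
          refine Ideal.Quotient.eq.mp ?_
          refine ((AlgHom.congr_fun hb (ε.rangeRestrict p)).trans ?_).trans (AlgHom.congr_fun hφ p).symm
          exact congrArg a (AlgHom.congr_fun hfε p)
        have h3 := ThickRingLib.eq_of_pderiv_mem φ (b.comp ε.rangeRestrict) hI
          (fun s => h2 _) hφJ (hjd s)
        rw [AlgHom.comp_apply] at h3 ⊢
        rw [h1, h3, AlgHom.comp_apply, hεX]
        rfl
      exact AlgHom.congr_fun e p

end Groth.Agent.S9426
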