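import Groth.Statements.S9428
import Mathlib.RingTheory.Etale.Basic
import Mathlib.RingTheory.Ideal.Quotient.Operations
import Mathlib.RingTheory.Ideal.Quotient.PowTransition
-- import your own Groth.Agent.* helpers here

set_option autoImplicit false
set_option linter.style.haveILetI false
universe u
open CAlg

namespace Groth.Agent.S9428

/-- If R → S is formally étale and J ⊆ S is an ideal with R → S/J surjective, I ⊆ R its kernel (the
preimage of J), then R/I^n → S/J^n is bijective for all n. (The published statement adds that the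
associated graded rings are then isomorphic, which follows from these bijections.) -/
theorem result (R : Type u) [CommRing R] (S : Type u)
    [CommRing S] [Algebra R S] [Algebra.FormallyEtale R S] (J : Ideal S)
    (hJ : Function.Surjective (algebraMap R (S ⧸ J))) (n : ℕ) :
    Function.Bijective (Ideal.quotientMap (J ^ n) (algebraMap R S)
      (le_of_le_of_eq (Ideal.le_comap_pow (algebraMap R S) n) rfl :
        (J.comap (algebraMap R S)) ^ n ≤ (J ^ n).comap (algebraMap R S))) := by
  classical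
  set I := J.comap (algebraMap R S) with hI
  rcases Nat.eq_zero_or_pos n with rfl | hn
  · haveI : Subsingleton (R ⧸ I ^ 0) := by
      rw [Ideal.Quotient.subsingleton_iff, pow_zero, Ideal.one_eq_top]
    haveI : Subsingleton (S ⧸ J ^ 0) := by
      rw [Ideal.Quotient.subsingleton_iff, pow_zero, Ideal.one_eq_top]
    exact ⟨fun a b _ => Subsingleton.elim a b, fun b => ⟨0, Subsingleton.elim _ b⟩⟩
  let e : (R ⧸ I) →ₐ[R] (S ⧸ J) := Ideal.Quotient.liftₐ I (Algebra.ofId R (S ⧸ J)) fun a ha =>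
    show Ideal.Quotient.mk J (algebraMap R S a) = 0 from Ideal.Quotient.eq_zero_iff_mem.2 ha
  have he : Function.Bijective e := by
    refine ⟨(injective_iff_map_eq_zero _).2 fun a ha => ?_, fun b => ?_⟩
    · obtain ⟨a, rfl⟩ := Ideal.Quotient.mk_surjective a
      exact Ideal.Quotient.eq_zero_iff_mem.2 (show algebraMap R S a ∈ J from Ideal.Quotient.eq_zero_iff_mem.1 ha)
    · obtain ⟨a, rfl⟩ := hJ b
      exact ⟨Ideal.Quotient.mk I a, rfl⟩
  let g0 : S →ₐ[R] R ⧸ I := (AlgEquiv.ofBijective e he).symm.toAlgHom.comp (Ideal.Quotient.mkₐ R J)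
  let π : (R ⧸ I ^ n) →ₐ[R] (R ⧸ I) := Ideal.Quotient.factorₐ R (Ideal.pow_le_self hn.ne')
  let K : Ideal (R ⧸ I ^ n) := I.map (Ideal.Quotient.mk (I ^ n))
  have hK : IsNilpotent K := ⟨n, by rw [← Ideal.map_pow, Ideal.map_quotient_self]; rfl⟩
  have hπ : RingHom.ker (π : (R ⧸ I ^ n) →+* (R ⧸ I)) = K := by
    show RingHom.ker (Ideal.Quotient.factor (Ideal.pow_le_self hn.ne')) = K
    exact Ideal.Quotient.factor_ker (Ideal.pow_le_self hn.ne')
  let g : S →ₐ[R] R ⧸ I ^ n := Algebra.FormallySmooth.liftOfSurjective g0 π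
    (Ideal.Quotient.factor_surjective (Ideal.pow_le_self hn.ne')) (hπ ▸ hK)
  have hg : ∀ s, π (g s) = g0 s := fun s =>
    Algebra.FormallySmooth.liftOfSurjective_apply _ _ _ _ s
  have hgJ : ∀ s ∈ J ^ n, g s = 0 := by
    intro s hs
    have h1 : Ideal.map g.toRingHom J ≤ K := by
      rw [Ideal.map_le_iff_le_comap, ← hπ]
      intro t ht
      show π (g t) = 0
      rw [hg]
      show (AlgEquiv.ofBijective e he).symm (Ideal.Quotient.mk J t) = 0
      rw [Ideal.Quotient.eq_zero_iff_mem.2 ht, map_zero]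
    have h2 : g.toRingHom s ∈ K ^ n := by
      refine Ideal.pow_right_mono h1 n ?_
      rw [← Ideal.map_pow]
      exact Ideal.mem_map_of_mem _ hs
    rwa [show K ^ n = ⊥ by rw [← Ideal.map_pow, Ideal.map_quotient_self], Ideal.mem_bot] at h2
  let gb : (S ⧸ J ^ n) →ₐ[R] (R ⧸ I ^ n) := Ideal.Quotient.liftₐ (J ^ n) g hgJ
  let h : (R ⧸ I ^ n) →ₐ[R] (S ⧸ J ^ n) := Ideal.Quotient.liftₐ (I ^ n) (Algebra.ofId R (S ⧸ J ^ n)) fun a ha =>
    show Ideal.Quotient.mk (J ^ n) (algebraMap R S a) = 0 from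
      Ideal.Quotient.eq_zero_iff_mem.2 ((Ideal.le_comap_pow (algebraMap R S) n) ha)
  have heq : ∀ x, Ideal.quotientMap (J ^ n) (algebraMap R S)
      (le_of_le_of_eq (Ideal.le_comap_pow (algebraMap R S) n) rfl : I ^ n ≤ (J ^ n).comap (algebraMap R S)) x = h x := by
    intro x
    obtain ⟨a, rfl⟩ := Ideal.Quotient.mk_surjective x
    rfl
  rw [show ⇑(Ideal.quotientMap (J ^ n) (algebraMap R S)
      (le_of_le_of_eq (Ideal.le_comap_pow (algebraMap R S) n) rfl : I ^ n ≤ (J ^ n).comap (algebraMap R S))) = ⇑h from funext heq]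
  have h1 : gb.comp h = AlgHom.id R _ := Ideal.Quotient.algHom_ext R (Subsingleton.elim _ _)
  have h2 : h.comp g = Ideal.Quotient.mkₐ R (J ^ n) := by
    refine Algebra.FormallyUnramified.ext (J.map (Ideal.Quotient.mk (J ^ n))) ⟨n, ?_⟩ fun s => ?_
    · rw [← Ideal.map_pow, Ideal.map_quotient_self]; rfl
    · obtain ⟨r, hr⟩ := Ideal.Quotient.mk_surjective (g s)
      rw [Ideal.Quotient.eq, AlgHom.comp_apply, ← hr]
      show Ideal.Quotient.mk (J ^ n) (algebraMap R S r) - Ideal.Quotient.mk (J ^ n) s ∈ _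
      rw [← map_sub]
      refine Ideal.mem_map_of_mem _ ?_
      rw [← Ideal.Quotient.eq]
      have h3 := hg s
      rw [← hr] at h3
      have h4 := congrArg (AlgEquiv.ofBijective e he) h3
      exact h4.trans ((AlgEquiv.ofBijective e he).apply_symm_apply _)
  refine ⟨Function.LeftInverse.injective (g := gb) fun x => DFunLike.congr_fun h1 x, fun y => ?_⟩
  obtain ⟨s, rfl⟩ := Ideal.Quotient.mk_surjective y
  exact ⟨g s, DFunLike.congr_fun h2 s⟩

end Groth.Agent.S9428
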