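import Groth.Statements.S9431
import Groth.Agent.CohenLib.GeomRed
import Groth.Agent.CohenLib.FSField
import Mathlib.RingTheory.Smooth.Locus
import Mathlib.FieldTheory.IntermediateField.Adjoin.Algebra
-- import your own Groth.Agent.* helpers here

set_option autoImplicit false
universe u
open CAlg

open scoped IntermediateField.algebraAdjoinAdjoin

namespace Groth.Agent.S9431

/-- For a separable (geometrically reduced) field extension K/k, every finite subset of K lies in a
k-subalgebra of K which is smooth over k; in particular K is a filtered colimit of smooth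
k-algebras. -/
theorem result (k : Type u) [Field k]
    (K : Type u) [Field K] [Algebra k K] [Algebra.IsGeometricallyReduced k K] (E : Finset K) :
    ∃ A : Subalgebra k K, (↑E : Set K) ⊆ (A : Set K) ∧ Algebra.Smooth k A := by
  let A₀ := Algebra.adjoin k (E : Set K)
  let F := IntermediateField.adjoin k (E : Set K)
  haveI : Algebra.FiniteType k A₀ := .adjoin_of_finite E.finite_toSet
  haveI : Algebra.FinitePresentation k A₀ :=
    haveI : IsNoetherianRing k := inferInstance
    Algebra.FinitePresentation.of_finiteType.mp inferInstance
  haveI : Algebra.EssFiniteType A₀ F := .of_isLocalization _ (nonZeroDivisors _)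
  haveI : Algebra.EssFiniteType k F := .comp k A₀ F
  haveI : Algebra.IsGeometricallyReduced k F := .of_injective F.val F.val.injective
  haveI : Algebra.FormallySmooth k F := CohenLib.formallySmooth_of_essFiniteType k F
  haveI : IsLocalization (⊥ : Ideal A₀).primeCompl F := by
    rw [Ideal.primeCompl_bot]; exact (inferInstance : IsFractionRing A₀ F)
  haveI : Algebra.IsSmoothAt k (⊥ : Ideal A₀) :=
    Algebra.FormallySmooth.of_equiv
      ((IsLocalization.algEquiv (⊥ : Ideal A₀).primeCompl F (Localization.AtPrime (⊥ : Ideal A₀))).restrictScalars k)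
  obtain ⟨g, hg, hs⟩ := Algebra.IsSmoothAt.exists_notMem_smooth k (⊥ : Ideal A₀)
  have hg0 : (g : K) ≠ 0 := fun h ↦ hg (by simpa using Subtype.ext h)
  have hu : ∀ y : Submonoid.powers g, IsUnit (A₀.val (y : A₀)) := by
    rintro ⟨_, n, rfl⟩
    simpa using (isUnit_iff_ne_zero.mpr hg0).pow n
  let φ : Localization.Away g →ₐ[k] K := IsLocalization.liftAlgHom (M := Submonoid.powers g) (f := A₀.val) hu
  have hφ : ∀ a : A₀, φ (algebraMap A₀ (Localization.Away g) a) = (a : K) := fun a ↦
    IsLocalization.lift_eq hu a
  have hinj : Function.Injective φ := by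
    show Function.Injective (IsLocalization.lift hu : Localization.Away g →+* K)
    rw [IsLocalization.lift_injective_iff]
    exact fun x y ↦ ⟨fun h ↦ congrArg Subtype.val (IsLocalization.injective (Localization.Away g)
      (powers_le_nonZeroDivisors_of_noZeroDivisors (by simpa using hg)) h),
      fun h ↦ congrArg _ (Subtype.ext h)⟩
  haveI : Algebra.Smooth k (Localization.Away g) := hs
  refine ⟨φ.range, fun e he ↦ ⟨algebraMap A₀ (Localization.Away g) ⟨e, Algebra.subset_adjoin he⟩, hφ _⟩, ?_⟩
  exact Algebra.Smooth.of_equiv (AlgEquiv.ofInjective φ hinj)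

end Groth.Agent.S9431
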