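import Groth.Statements.S9433
import Mathlib
-- import your own Groth.Agent.* helpers here

set_option autoImplicit false
universe u
open CAlg

namespace Groth.Agent.S9433

set_option maxHeartbeats 400000

/-- Let R → S be a local homomorphism of local rings with S the localization of an étale R-algebra at a
prime, inducing an isomorphism of residue fields. Then for some t in the maximal ideal of R the maps
R/t^nR → S/t^nS are bijective for all n ≥ 1. -/
theorem result (R : Type u) [CommRing R] [IsLocalRing R] (T : Type u) [CommRing T] [Algebra R T]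
    [Algebra.Etale R T] (q : Ideal T) [q.IsPrime] (S : Type u) [CommRing S] [IsLocalRing S]
    [Algebra T S] [IsLocalization.AtPrime S q] [Algebra R S] [IsScalarTower R T S]
    [IsLocalHom (algebraMap R S)]
    (hres : Function.Bijective (IsLocalRing.ResidueField.map (algebraMap R S))) :
    ∃ t ∈ IsLocalRing.maximalIdeal R, ∀ n : ℕ, 1 ≤ n →
      Function.Bijective (Ideal.quotientMap ((Ideal.span {t ^ n}).map (algebraMap R S))
        (algebraMap R S) Ideal.le_comap_map) := by
  classical
  obtain ⟨f₀, hf₀, hstd⟩ := Algebra.IsEtaleAt.exists_isStandardEtale (R := R) q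
  let U := Localization.Away f₀
  obtain ⟨P⟩ : Nonempty (StandardEtalePresentation R U) := hstd.nonempty_standardEtalePresentation
  let uS : U →ₐ[T] S := IsLocalization.Away.liftAlgHom f₀ (f := Algebra.ofId T S)
    (IsLocalization.map_units S (⟨f₀, hf₀⟩ : q.primeCompl))
  let ι : U →ₐ[R] S := uS.restrictScalars R
  have hι : ∀ v : T, ι (algebraMap T U v) = algebraMap T S v := fun v => uS.commutes v
  set xS : S := ι P.x
  have hev : ∀ p : Polynomial R, ι (Polynomial.aeval P.x p) = Polynomial.aeval xS p := fun p =>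
    (Polynomial.aeval_algHom_apply ι P.x p).symm
  obtain ⟨r0, hr0⟩ := hres.2 (IsLocalRing.residue S xS)
  obtain ⟨r, rfl⟩ := IsLocalRing.residue_surjective r0
  rw [IsLocalRing.ResidueField.map_residue] at hr0
  have hmod : ∀ p : Polynomial R, IsLocalRing.residue S (Polynomial.aeval xS p) =
      IsLocalRing.residue S (algebraMap R S (p.eval r)) := by
    intro p
    rw [Polynomial.aeval_def, Polynomial.hom_eval₂, ← hr0, ← Polynomial.eval₂_at_apply, Polynomial.hom_eval₂]
  have hunit : ∀ p : Polynomial R, IsUnit (Polynomial.aeval xS p) ↔ IsUnit (p.eval r) := fun p => by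
    rw [← IsLocalRing.residue_ne_zero_iff_isUnit, hmod, IsLocalRing.residue_ne_zero_iff_isUnit,
      isUnit_map_iff]
  have hgS : IsUnit (Polynomial.aeval xS P.g) := by rw [← hev]; exact P.hasMap.2.map ι
  have hfS : Polynomial.aeval xS P.f = 0 := by rw [← hev, P.hasMap.1, map_zero]
  have hf'S : IsUnit (Polynomial.aeval xS P.f.derivative) := by
    rw [← hev]; exact (StandardEtalePair.HasMap.isUnit_derivative_f P.P P.hasMap).map ι
  set t := P.f.eval r
  have htm : t ∈ IsLocalRing.maximalIdeal R := fun hu => by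
    have := (hunit P.f).mpr hu
    rw [hfS] at this
    exact not_isUnit_zero this
  obtain ⟨h, hh⟩ : (Polynomial.X - Polynomial.C r) ∣ P.f - Polynomial.C t :=
    Polynomial.dvd_iff_isRoot.mpr (by simp [t])
  have hh' : Polynomial.eval r h = P.f.derivative.eval r := by
    have := congrArg (fun p => (Polynomial.derivative p).eval r) hh
    simpa using this.symm
  have hhu : IsUnit (Polynomial.aeval xS h) := by
    rw [hunit, hh']; exact (hunit _).mp hf'S
  have hxr : xS - algebraMap R S r ∈ Ideal.span {algebraMap R S t} := by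
    have := congrArg (Polynomial.aeval xS) hh
    rw [map_sub, map_mul, map_sub, hfS, Polynomial.aeval_X, Polynomial.aeval_C, Polynomial.aeval_C, zero_sub] at this
    obtain ⟨u, hu⟩ := hhu
    rw [← hu] at this
    exact Ideal.mem_span_singleton'.mpr ⟨-↑u⁻¹, by
      calc -↑u⁻¹ * algebraMap R S t = ↑u⁻¹ * ((xS - algebraMap R S r) * ↑u) := by rw [← this]; ring
        _ = _ := by rw [mul_left_comm, Units.inv_mul, mul_one]⟩
  have hcong : ∀ p : Polynomial R, Polynomial.aeval xS p - algebraMap R S (p.eval r) ∈ Ideal.span {algebraMap R S t} := by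
    intro p
    have key := Ideal.mem_of_dvd _ (Polynomial.sub_dvd_eval_sub xS (algebraMap R S r) (p.map (algebraMap R S))) hxr
    simpa [Polynomial.eval_map, Polynomial.eval₂_at_apply, Polynomial.aeval_def] using key
  have hgen : ∀ v : T, ∃ (p : Polynomial R) (n : ℕ), algebraMap T U v * Polynomial.aeval P.x P.g ^ n = Polynomial.aeval P.x p :=
    fun v => P.exists_mul_aeval_x_g_pow_eq_aeval_x _
  have hS : ∀ s : S, ∃ a : R, s - algebraMap R S a ∈ Ideal.span {algebraMap R S t} := by
    intro s
    obtain ⟨v, w, rfl⟩ := IsLocalization.exists_mk'_eq q.primeCompl s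
    obtain ⟨p, m, hp⟩ := hgen v
    obtain ⟨p', m', hp'⟩ := hgen w
    have e1 : algebraMap T S v * Polynomial.aeval xS P.g ^ m = Polynomial.aeval xS p := by
      rw [← hev, ← hev, ← map_pow, ← hι v, ← map_mul, hp]
    have e2 : algebraMap T S w * Polynomial.aeval xS P.g ^ m' = Polynomial.aeval xS p' := by
      rw [← hev, ← hev, ← map_pow, ← hι w, ← map_mul, hp']
    have hd : IsUnit ((p' * P.g ^ m).eval r) := by
      rw [← hunit, map_mul, map_pow, ← e2]
      exact (((IsLocalization.map_units S w).mul (hgS.pow _))).mul (hgS.pow _)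
    set c : Polynomial R := p * P.g ^ m'
    set d : Polynomial R := p' * P.g ^ m
    have hsd : IsLocalization.mk' S v w * Polynomial.aeval xS d = Polynomial.aeval xS c := by
      simp only [c, d, map_mul, map_pow, ← e1, ← e2]
      rw [← IsLocalization.mk'_spec S v w]; ring
    obtain ⟨ud, hud⟩ := hd
    refine ⟨c.eval r * ↑ud⁻¹, ?_⟩
    have h1 := hcong c
    have h2 := hcong d
    have hu : algebraMap R S (d.eval r) * algebraMap R S ↑ud⁻¹ = 1 := by
      rw [← hud, ← map_mul, Units.mul_inv, map_one]
    have e : IsLocalization.mk' S v w - algebraMap R S (c.eval r * ↑ud⁻¹) =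
        (Polynomial.aeval xS c - algebraMap R S (c.eval r)) * algebraMap R S ↑ud⁻¹ -
          IsLocalization.mk' S v w * algebraMap R S ↑ud⁻¹ * (Polynomial.aeval xS d - algebraMap R S (d.eval r)) := by
      rw [map_mul]
      linear_combination algebraMap R S ↑ud⁻¹ * hsd - IsLocalization.mk' S v w * hu
    rw [e]
    exact Ideal.sub_mem _ (Ideal.mul_mem_right _ _ h1) (Ideal.mul_mem_left _ _ h2)
  have hSn : ∀ (n : ℕ) (s : S), ∃ a : R, s - algebraMap R S a ∈ Ideal.span {algebraMap R S t ^ n} := by
    intro n
    induction n with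
    | zero => exact fun s => ⟨0, by simp⟩
    | succ n ih =>
      intro s
      obtain ⟨a, ha⟩ := hS s
      obtain ⟨b, hb⟩ := Ideal.mem_span_singleton'.mp ha
      obtain ⟨a', ha'⟩ := ih b
      obtain ⟨b', hb'⟩ := Ideal.mem_span_singleton'.mp ha'
      exact ⟨a + a' * t, Ideal.mem_span_singleton'.mpr ⟨b', by
        rw [map_add, map_mul, pow_succ, ← mul_assoc, hb', sub_mul, hb]; ring⟩⟩
  refine ⟨t, htm, fun n hn => ⟨?_, ?_⟩⟩
  · refine (injective_iff_map_eq_zero _).mpr fun y hy => ?_
    obtain ⟨a, rfl⟩ := Ideal.Quotient.mk_surjective y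
    rw [Ideal.quotientMap_mk, Ideal.Quotient.eq_zero_iff_mem] at hy
    refine Ideal.Quotient.eq_zero_iff_mem.mpr ?_
    have ha := hy
    let Rn := R ⧸ Ideal.span {t ^ n}
    let I : Ideal Rn := Ideal.span {Ideal.Quotient.mk (Ideal.span {t ^ n}) t}
    have hI : IsNilpotent I := ⟨n, by
      rw [Ideal.span_singleton_pow, ← map_pow,
        Ideal.Quotient.eq_zero_iff_mem.mpr (Ideal.mem_span_singleton_self _), Ideal.span_singleton_zero]
      rfl⟩
    let r' : Rn ⧸ I := algebraMap R (Rn ⧸ I) r
    have hev' : ∀ p : Polynomial R, Polynomial.aeval r' p = algebraMap R (Rn ⧸ I) (p.eval r) := fun p => by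
      rw [← Polynomial.coe_aeval_eq_eval, ← Polynomial.aeval_algebraMap_apply]
    have hmap : P.HasMap r' := by
      refine ⟨?_, ?_⟩
      · rw [hev']
        exact Ideal.Quotient.eq_zero_iff_mem.mpr (Ideal.mem_span_singleton_self _)
      · rw [hev']
        exact ((hunit _).mp hgS).map _
    let π : U →ₐ[R] Rn ⧸ I := (P.P.lift r' hmap).comp P.equivRing.toAlgHom
    haveI : Algebra.IsStandardEtale R U := hstd
    let ρ : U →ₐ[R] Rn := Algebra.FormallySmooth.lift I hI π
    let ρT : T →+* Rn := ρ.toRingHom.comp (algebraMap T U)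
    have hπx : π P.x = r' := by
      show P.P.lift r' hmap (P.equivRing P.x) = r'
      rw [StandardEtalePresentation.equivRing_x, StandardEtalePair.lift_X]
    have hu : ∀ w : q.primeCompl, IsUnit (ρT w) := by
      intro w
      obtain ⟨p, m, hp⟩ := hgen w
      have hpu : IsUnit (p.eval r) := by
        rw [← hunit, ← hev, ← hp, map_mul, map_pow, hι, hev]
        exact (IsLocalization.map_units S w).mul (hgS.pow _)
      rw [← IsNilpotent.isUnit_quotient_mk_iff (I := I) hI]
      show IsUnit (Ideal.Quotient.mk I (ρ (algebraMap T U w)))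
      rw [Algebra.FormallySmooth.mk_lift]
      have := congrArg π hp
      rw [map_mul, map_pow, ← Polynomial.aeval_algHom_apply, ← Polynomial.aeval_algHom_apply, hπx, hev', hev'] at this
      have h3 : IsUnit (π (algebraMap T U w) * algebraMap R (Rn ⧸ I) (P.g.eval r) ^ m) := by
        rw [this]; exact hpu.map _
      exact (IsUnit.mul_iff.mp h3).1
    let L : S →+* Rn := IsLocalization.lift (g := ρT) hu
    have hL : ∀ b : R, L (algebraMap R S b) = Ideal.Quotient.mk _ b := fun b => by
      rw [IsScalarTower.algebraMap_apply R T S, IsLocalization.lift_eq]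
      show ρ (algebraMap T U (algebraMap R T b)) = _
      rw [← IsScalarTower.algebraMap_apply, AlgHom.commutes]; rfl
    have ha' : algebraMap R S a ∈ (Ideal.span {t ^ n}).map (algebraMap R S) := ha
    rw [Ideal.map_span, Set.image_singleton, Ideal.mem_span_singleton'] at ha'
    obtain ⟨c, hc⟩ := ha'
    have := congrArg L hc
    rw [map_mul, hL, hL, Ideal.Quotient.eq_zero_iff_mem.mpr (Ideal.mem_span_singleton_self _), mul_zero] at this
    exact Ideal.Quotient.eq_zero_iff_mem.mp this.symm
  · intro y
    obtain ⟨s, rfl⟩ := Ideal.Quotient.mk_surjective y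
    obtain ⟨a, ha⟩ := hSn n s
    refine ⟨Ideal.Quotient.mk _ a, ?_⟩
    rw [Ideal.quotientMap_mk]
    refine Ideal.Quotient.eq.mpr ?_
    rw [Ideal.map_span, Set.image_singleton, map_pow, ← neg_sub]
    exact Submodule.neg_mem _ ha

end Groth.Agent.S9433
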