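import Groth.Statements.S9434
import Mathlib
import Groth.Agent.StdEtCoverLib.Basic
-- import your own Groth.Agent.* helpers here

set_option autoImplicit false
universe u
open CAlg

namespace Groth.Agent.S9434

set_option maxHeartbeats 400000

/-- Let R → S be a local homomorphism of local rings with S the localization of an étale R-algebra at a
prime. Then there is a finite, finitely presented, faithfully flat R-algebra S' such that for every
maximal ideal m' of S' the structure map R → S'_{m'} factors through some R-algebra map S → S'_{m'}. -/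
theorem result (R : Type u) [CommRing R] [IsLocalRing R] (T : Type u) [CommRing T] [Algebra R T]
    [Algebra.Etale R T] (q : Ideal T) [q.IsPrime] (S : Type u) [CommRing S] [IsLocalRing S]
    [Algebra T S] [IsLocalization.AtPrime S q] [Algebra R S] [IsScalarTower R T S]
    [IsLocalHom (algebraMap R S)] :
    ∃ (S' : Type u) (_ : CommRing S') (_ : Algebra R S'),
      Module.Finite R S' ∧ Algebra.FinitePresentation R S' ∧ Module.FaithfullyFlat R S' ∧
        ∀ (m' : Ideal S') [m'.IsMaximal], Nonempty (S →ₐ[R] Localization.AtPrime m') := by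
  obtain ⟨f, hf, _⟩ := Algebra.IsEtaleAt.exists_isStandardEtale (R := R) q
  obtain ⟨S', _, _, h1, h2, h3, h4⟩ :=
    Groth.Agent.StdEtCoverLib.exists_cover_of_isStandardEtale R (Localization.Away f)
  refine ⟨S', inferInstance, inferInstance, h1, h2, h3, fun m' hm' => ?_⟩
  let Q : Ideal (Localization.Away f) := q.map (algebraMap T _)
  have hd : Disjoint (Submonoid.powers f : Set T) q :=
    (Ideal.disjoint_powers_iff_notMem_of_isPrime _).mpr hf
  have : Q.IsPrime := IsLocalization.isPrime_of_isPrime_disjoint (.powers f) _ _ ‹_› hd
  have hQT : Q.under T = q := IsLocalization.under_map_of_isPrime_disjoint (.powers f) _ ‹_› hd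
  have hm : m'.under R = IsLocalRing.maximalIdeal R :=
    IsLocalRing.eq_maximalIdeal inferInstance
  have hq : q.under R = IsLocalRing.maximalIdeal R := by
    have hS : (IsLocalRing.maximalIdeal S).comap (algebraMap T S) = q :=
      IsLocalization.AtPrime.under_maximalIdeal S q
    rw [← hS, Ideal.under, Ideal.comap_comap, ← IsScalarTower.algebraMap_eq]
    exact IsLocalRing.maximalIdeal_comap _
  have hQ : m'.under R = Q.under R := by
    rw [hm, ← Ideal.under_under Q (A := R) (B := T), hQT, hq]
  obtain ⟨g, hg, φ, hφ⟩ := h4 Q m' hQ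
  let L := Localization.AtPrime m'
  have hu : IsUnit (IsScalarTower.toAlgHom R S' L g) :=
    IsLocalization.map_units L (⟨g, hg⟩ : m'.primeCompl)
  let ψ : Localization.Away g →ₐ[R] L := IsLocalization.Away.liftAlgHom g hu
  have hψ : (IsLocalRing.maximalIdeal L).comap ψ = m'.map (algebraMap S' (Localization.Away g)) := by
    rw [← IsLocalization.map_under (Submonoid.powers g) (Localization.Away g)
      ((IsLocalRing.maximalIdeal L).comap ψ)]
    congr 1
    ext x
    change ψ (algebraMap _ _ x) ∈ IsLocalRing.maximalIdeal L ↔ _
    rw [show ψ (algebraMap _ _ x) = algebraMap S' L x from IsLocalization.Away.lift_eq g hu x]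
    exact IsLocalization.AtPrime.to_map_mem_maximal_iff L m' x
  let θ : T →ₐ[R] L := (ψ.comp φ).comp (IsScalarTower.toAlgHom R T (Localization.Away f))
  have hθ : ∀ y : q.primeCompl, IsUnit (θ y) := by
    intro y
    by_contra hy
    refine y.2 ?_
    rw [SetLike.mem_coe]
    refine hQT.le ?_
    rw [Ideal.mem_comap, ← hφ, Ideal.mem_comap, ← hψ, Ideal.mem_comap]
    exact hy
  exact ⟨IsLocalization.liftAlgHom hθ⟩

end Groth.Agent.S9434
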