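import Groth.Statements.S9435
import Mathlib.RingTheory.Etale.StandardEtale
import Mathlib.FieldTheory.PrimitiveElement
import Mathlib.RingTheory.Polynomial.ScaleRoots
import Mathlib.RingTheory.Localization.Integer
import Mathlib.RingTheory.LocalRing.ResidueField.Ideal
-- import your own Groth.Agent.* helpers here

set_option autoImplicit false
set_option linter.style.haveILetI false
universe u
open CAlg

namespace Groth.Agent.S9435

/-- Given a prime p of a ring R and a finite separable extension L of κ(p), there is an étale R-algebra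
R' with a prime p' over p whose residue field is κ(p)-isomorphic to L. Stated through an R-algebra
map ψ : R' → L whose image generates the field L: its kernel is such a prime p' and the induced
κ(p') → L is then an isomorphism over κ(p). -/
theorem result (R : Type u) [CommRing R]
    (p : Ideal R) [p.IsPrime] (L : Type u) [Field L] [Algebra p.ResidueField L] [Algebra R L]
    [IsScalarTower R p.ResidueField L] [Module.Finite p.ResidueField L]
    [Algebra.IsSeparable p.ResidueField L] :
    ∃ (R' : Type u) (_ : CommRing R') (_ : Algebra R R') (_ : Algebra.Etale R R') (ψ : R' →ₐ[R] L),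
      Subfield.closure (Set.range ψ) = ⊤ := by
  classical
  let κ := p.ResidueField
  obtain ⟨α, hα⟩ := Field.exists_primitive_element κ L
  set q := minpoly κ α with hq
  obtain ⟨⟨b, hb⟩, hbq⟩ := IsLocalization.exist_integer_multiples (nonZeroDivisors (R ⧸ p)) q.support (fun i => q.coeff i)
  let c : κ := algebraMap (R ⧸ p) κ b
  have hc : c ≠ 0 := (map_ne_zero_iff _ (IsFractionRing.injective (R ⧸ p) κ)).2 (nonZeroDivisors.ne_zero hb)
  have hmk : ∀ r : R, algebraMap (R ⧸ p) κ (Ideal.Quotient.mk p r) = algebraMap R κ r := fun r =>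
    (IsScalarTower.algebraMap_apply R (R ⧸ p) κ r).symm
  have hsurj : ∀ z : R ⧸ p, algebraMap (R ⧸ p) κ z ∈ (algebraMap R κ).range := fun z => by
    obtain ⟨r, rfl⟩ := Ideal.Quotient.mk_surjective z
    exact ⟨r, (hmk r).symm⟩
  have hint : IsIntegral κ α := Algebra.IsIntegral.isIntegral α
  let β : L := algebraMap κ L c * α
  have hβint : IsIntegral κ β := Algebra.IsIntegral.isIntegral β
  have hβtop : IntermediateField.adjoin κ {β} = (⊤ : IntermediateField κ L) := by
    rw [eq_top_iff, ← hα, IntermediateField.adjoin_simple_le_iff]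
    have h1 : (algebraMap κ L c)⁻¹ * β ∈ IntermediateField.adjoin κ {β} :=
      mul_mem (inv_mem (IntermediateField.algebraMap_mem _ _)) (IntermediateField.mem_adjoin_simple_self κ β)
    rwa [show (algebraMap κ L c)⁻¹ * β = α by rw [inv_mul_cancel_left₀ ((map_ne_zero _).2 hc)]] at h1
  have hmin : minpoly κ β = q.scaleRoots c := by
    have hm : (q.scaleRoots c).Monic := (Polynomial.monic_scaleRoots_iff c).2 (minpoly.monic hint)
    refine (Polynomial.eq_of_monic_of_dvd_of_natDegree_le (minpoly.monic hβint) hm
      (minpoly.dvd κ β (Polynomial.scaleRoots_aeval_eq_zero (minpoly.aeval κ α))) ?_).symm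
    rw [Polynomial.natDegree_scaleRoots, ← IntermediateField.adjoin.finrank hint, ← IntermediateField.adjoin.finrank hβint, hα, hβtop]
  have hlift : q.scaleRoots c ∈ Polynomial.lifts (algebraMap R κ) := by
    rw [Polynomial.lifts_iff_coeff_lifts]
    intro i
    rw [Polynomial.coeff_scaleRoots]
    by_cases hi : i ∈ q.support
    · rcases lt_or_ge i q.natDegree with hlt | hge
      · obtain ⟨z, hz⟩ := hbq i hi
        have e : q.coeff i * c ^ (q.natDegree - i) = algebraMap (R ⧸ p) κ (z * b ^ (q.natDegree - i - 1)) := by
          rw [map_mul, map_pow, hz, Algebra.smul_def, show q.natDegree - i = (q.natDegree - i - 1) + 1 by omega, pow_succ]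
          simp only [Nat.add_sub_cancel, c]
          ring
        rw [e]
        exact hsurj _
      · have hie : i = q.natDegree := le_antisymm (Polynomial.le_natDegree_of_mem_supp i hi) hge
        rw [hie, Nat.sub_self, pow_zero, mul_one, ← Polynomial.leadingCoeff, (minpoly.monic hint).leadingCoeff]
        exact ⟨1, map_one _⟩
    · rw [Polynomial.notMem_support_iff.1 hi, zero_mul]
      exact ⟨0, map_zero _⟩
  obtain ⟨f, hf, -, hfm⟩ := Polynomial.lifts_and_natDegree_eq_and_monic hlift (hmin ▸ minpoly.monic hβint)
  let P : StandardEtalePair R := ⟨f, hfm, Polynomial.derivative f, 1, 0, 1, by simp⟩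
  have hev : ∀ g : Polynomial R, Polynomial.aeval β (g.map (algebraMap R κ)) = Polynomial.aeval β g := fun g =>
    Polynomial.aeval_map_algebraMap κ β g
  have hmap : P.HasMap β := by
    refine ⟨?_, isUnit_iff_ne_zero.2 ?_⟩
    · rw [← hev, show P.f.map (algebraMap R κ) = q.scaleRoots c from hf, ← hmin, minpoly.aeval]
    · show Polynomial.aeval β (Polynomial.derivative f) ≠ 0
      rw [← hev, ← Polynomial.derivative_map, hf, ← hmin]
      exact (Algebra.IsSeparable.isSeparable κ β).aeval_derivative_ne_zero (minpoly.aeval κ β)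
  refine ⟨P.Ring, inferInstance, inferInstance, inferInstance, P.lift β hmap, ?_⟩
  set S := Subfield.closure (Set.range (P.lift β hmap)) with hS
  have hκ : ∀ x : κ, algebraMap κ L x ∈ S := by
    intro x
    obtain ⟨a, d, -, rfl⟩ := IsFractionRing.div_surjective (A := R ⧸ p) x
    obtain ⟨a, rfl⟩ := Ideal.Quotient.mk_surjective a
    obtain ⟨d, rfl⟩ := Ideal.Quotient.mk_surjective d
    rw [map_div₀, hmk, hmk, ← IsScalarTower.algebraMap_apply, ← IsScalarTower.algebraMap_apply,
      ← AlgHom.commutes (P.lift β hmap), ← AlgHom.commutes (P.lift β hmap)]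
    exact div_mem (Subfield.subset_closure ⟨_, rfl⟩) (Subfield.subset_closure ⟨_, rfl⟩)
  have hle : IntermediateField.adjoin κ {β} ≤ S.toIntermediateField hκ :=
    IntermediateField.adjoin_simple_le_iff.2 (Subfield.subset_closure ⟨P.X, P.lift_X β hmap⟩)
  rw [hβtop] at hle
  exact eq_top_iff.2 fun x _ => hle IntermediateField.mem_top

end Groth.Agent.S9435
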