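import Groth.Statements.S9438
import Mathlib.RingTheory.Flat.Localization
import Mathlib.RingTheory.Spectrum.Prime.RingHom
import Mathlib.RingTheory.Ideal.KrullsHeightTheorem
import Groth.Agent.RegFlatLib.Basic


-- import your own Groth.Agent.* helpers here

set_option autoImplicit false
universe u
open CAlg

namespace Groth.Agent.S9438

/-- The condition (R_k) descends along faithfully flat ring maps: if S is faithfully flat over R,
Noetherian and (R_k), then R is Noetherian and (R_k). -/
theorem result (k : ℕ) (R : Type u) [CommRing R] (S : Type u) [CommRing S]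
    [Algebra R S] [Module.FaithfullyFlat R S] [IsNoetherianRing S] (hS : LocCoh.HasRk k S) :
    IsNoetherianRing R ∧ LocCoh.HasRk k R := by
  have hN : IsNoetherianRing R := by
    rw [isNoetherianRing_iff, isNoetherian_iff]
    refine StrictMono.wellFoundedGT (f := fun I : Ideal R => I.map (algebraMap R S))
      (Monotone.strictMono_of_injective (fun _ _ h => Ideal.map_mono h) fun I J h => ?_) |>.wf
    simpa [Ideal.comap_map_eq_self_of_faithfullyFlat] using congrArg (Ideal.comap (algebraMap R S)) h
  classical
  refine ⟨hN, fun p _ hp => ?_⟩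
  obtain ⟨⟨Q, hQp⟩, hQ⟩ := PrimeSpectrum.comap_surjective_of_faithfullyFlat (A := R) (B := S) ⟨p, inferInstance⟩
  have hQ' : Q.comap (algebraMap R S) = p := congrArg PrimeSpectrum.asIdeal hQ
  obtain ⟨q, hq, hqQ⟩ := Ideal.exists_minimalPrimes_le (I := p.map (algebraMap R S)) (J := Q)
    (Ideal.map_le_iff_le_comap.2 hQ'.ge)
  have := hq.1.1
  have hqp : q.comap (algebraMap R S) = p :=
    le_antisymm ((Ideal.comap_mono hqQ).trans hQ'.le) (Ideal.map_le_iff_le_comap.1 hq.1.2)
  have : q.LiesOver p := ⟨hqp.symm⟩
  obtain ⟨s, hs, hscard⟩ := Ideal.exists_finset_card_eq_height_of_isNoetherianRing p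
  have hqs : q ∈ (Ideal.span ((s.image (algebraMap R S) : Finset S) : Set S)).minimalPrimes := by
    rw [Finset.coe_image, ← Ideal.map_span]
    refine ⟨⟨inferInstance, (Ideal.map_mono hs.1.2).trans hq.1.2⟩, fun r hr hrq => ?_⟩
    have := hr.1
    have hle : p ≤ r.comap (algebraMap R S) :=
      hs.2 ⟨Ideal.IsPrime.comap _, Ideal.map_le_iff_le_comap.1 hr.2⟩ ((Ideal.comap_mono hrq).trans hqp.le)
    exact hq.2 ⟨hr.1, Ideal.map_le_iff_le_comap.2 hle⟩ hrq
  have hht : q.height ≤ k := (Ideal.height_le_card_of_mem_minimalPrimes_span_finset hqs).trans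
    ((Nat.cast_le.2 Finset.card_image_le).trans (hscard.le.trans hp))
  have hreg : IsRegularLocalRing (Localization.AtPrime q) := hS q hht
  let : Algebra (Localization.AtPrime p) (Localization.AtPrime q) := Localization.AtPrime.algebraOfLiesOver p q
  exact RegFlatLib.isRegularLocalRing_of_flat (Localization.AtPrime p) (Localization.AtPrime q)

end Groth.Agent.S9438
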