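import Groth.Statements.S9439
import Groth.Agent.AdicRingLib.Completion
import Mathlib.RingTheory.AdicCompletion.AsTensorProduct
import Mathlib.RingTheory.TensorProduct.Quotient
import Mathlib.RingTheory.Regular.IsSMulRegular
import Mathlib.RingTheory.Flat.Localization
import Mathlib.RingTheory.Filtration
import Mathlib.RingTheory.Localization.Submodule
import Mathlib.RingTheory.DiscreteValuationRing.TFAE

set_option autoImplicit false
universe u
open CAlg

namespace Groth.Agent.S9439

/-- Let R be a Noetherian local ring, R^ its completion and p a prime with R_p a discrete valuation ring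
and with R^/pR^ reduced (p analytically unramified: the completion of R/p, which is R^/pR^, is
reduced). Then the localization of R^ at any associated prime of R^/pR^ is a discrete valuation
ring. -/
theorem result
    (R : Type u) [CommRing R] [IsLocalRing R] [IsNoetherianRing R] (p : Ideal R) [p.IsPrime]
    [IsDomain (Localization.AtPrime p)] [IsDiscreteValuationRing (Localization.AtPrime p)]
    (hp : IsReduced (AdicCompletion (IsLocalRing.maximalIdeal R) R ⧸
      p.map (algebraMap R (AdicCompletion (IsLocalRing.maximalIdeal R) R))))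
    (q : Ideal (AdicCompletion (IsLocalRing.maximalIdeal R) R)) [q.IsPrime]
    (hq : q ∈ associatedPrimes (AdicCompletion (IsLocalRing.maximalIdeal R) R)
      (AdicCompletion (IsLocalRing.maximalIdeal R) R ⧸
        p.map (algebraMap R (AdicCompletion (IsLocalRing.maximalIdeal R) R)))) :
    ∃ _ : IsDomain (Localization.AtPrime q), IsDiscreteValuationRing (Localization.AtPrime q) := by
  classical
  let B := AdicCompletion (IsLocalRing.maximalIdeal R) R
  have : IsNoetherianRing B := AdicRingLib.isNoetherianRing_adicCompletion _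
  obtain ⟨-, w, hw⟩ := isAssociatedPrime_iff.1 (AssociatedPrimes.mem_iff.1 hq)
  obtain ⟨b, rfl⟩ := Ideal.Quotient.mk_surjective w
  have hmem : ∀ y, y ∈ q ↔ Ideal.Quotient.mk (p.map (algebraMap R B)) (y * b) = 0 := fun y => by
    rw [hw, Submodule.mem_colon_singleton, Submodule.mem_bot, Algebra.smul_def,
      Ideal.Quotient.algebraMap_eq, ← map_mul]
  have hb0 : Ideal.Quotient.mk (p.map (algebraMap R B)) b ≠ 0 := fun h0 =>
    Ideal.IsPrime.ne_top ‹q.IsPrime› ((Ideal.eq_top_iff_one _).2 ((hmem 1).2 (by rwa [one_mul])))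
  have hb : b ∉ q := fun h => hb0 (hp.eq_zero _ ⟨2, by rw [pow_two, ← map_mul]; exact (hmem b).1 h⟩)
  have hcomap : q.comap (algebraMap R B) = p := by
    refine le_antisymm (fun s hs => ?_) fun s hs => ?_
    · by_contra hsp
      have hreg : IsSMulRegular (R ⧸ p) s := IsSMulRegular.of_right_eq_zero_of_smul fun z hz => by
        obtain ⟨z, rfl⟩ := Ideal.Quotient.mk_surjective z
        rw [Algebra.smul_def, Ideal.Quotient.algebraMap_eq, ← map_mul, Ideal.Quotient.eq_zero_iff_mem] at hz
        exact Ideal.Quotient.eq_zero_iff_mem.2 ((Ideal.IsPrime.mem_or_mem ‹p.IsPrime› hz).resolve_left hsp)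
      let e := Algebra.TensorProduct.quotIdealMapEquivTensorQuot B p
      refine hb0 (e.injective ?_)
      rw [map_zero]
      refine (hreg.lTensor B).right_eq_zero_of_smul ?_
      rw [← algebraMap_smul B s, ← map_smul, Algebra.smul_def, Ideal.Quotient.algebraMap_eq, ← map_mul,
        (hmem _).1 (Ideal.mem_comap.1 hs), map_zero]
    · rw [Ideal.mem_comap, hmem]
      exact Ideal.Quotient.eq_zero_iff_mem.2 (Ideal.mul_mem_right _ _ (Ideal.mem_map_of_mem _ hs))
  let Rp := Localization.AtPrime p
  let Bq := Localization.AtPrime q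
  let φ : Rp →+* Bq := Localization.localRingHom p q (algebraMap R B) hcomap.symm
  let _ : Algebra Rp Bq := φ.toAlgebra
  have : IsScalarTower R Rp Bq := IsScalarTower.of_algebraMap_eq fun r => by
    show _ = φ (algebraMap R Rp r)
    rw [show φ (algebraMap R Rp r) = algebraMap B Bq (algebraMap R B r) from
      Localization.localRingHom_to_map p q (algebraMap R B) hcomap.symm r, ← IsScalarTower.algebraMap_apply]
  have : Module.Flat R Bq := Module.Flat.trans R B Bq
  have : Module.Flat Rp Bq := (Module.flat_iff_of_isLocalization Rp p.primeCompl _).2 inferInstance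
  have : IsNoetherianRing Bq := IsLocalization.isNoetherianRing q.primeCompl Bq inferInstance
  obtain ⟨π, hπ⟩ := IsDiscreteValuationRing.exists_irreducible Rp
  let ϖ := algebraMap Rp Bq π
  have hreg : ∀ z : Bq, ϖ * z = 0 → z = 0 := fun z hz =>
    (IsSMulRegular.of_flat (R := Rp) (S := Bq) (x := π) fun a a' h => mul_left_cancel₀ hπ.ne_zero h).right_eq_zero_of_smul
      (by rwa [smul_eq_mul])
  have hle : IsLocalRing.maximalIdeal Bq ≤ Ideal.span {ϖ} := by
    intro z hz
    obtain ⟨y, t, rfl⟩ := IsLocalization.exists_mk'_eq q.primeCompl z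
    have hy : y ∈ q := (IsLocalization.AtPrime.mk'_mem_maximal_iff Bq q y t).1 hz
    have h1 : algebraMap B Bq (y * b) ∈ Ideal.span {ϖ} := by
      have h2 := Ideal.mem_map_of_mem (algebraMap B Bq) (Ideal.Quotient.eq_zero_iff_mem.1 ((hmem y).1 hy))
      refine Ideal.map_le_iff_le_comap.2 (Ideal.map_le_iff_le_comap.2 fun r hr => ?_) h2
      rw [Ideal.mem_comap, Ideal.mem_comap, ← IsScalarTower.algebraMap_apply R B Bq,
        IsScalarTower.algebraMap_apply R Rp Bq]
      have hr' : algebraMap R Rp r ∈ IsLocalRing.maximalIdeal Rp :=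
        (IsLocalization.AtPrime.to_map_mem_maximal_iff Rp p r).2 hr
      rw [hπ.maximalIdeal_eq, Ideal.mem_span_singleton] at hr'
      exact Ideal.mem_span_singleton.2 (map_dvd _ hr')
    have hu : IsUnit (algebraMap B Bq b) := IsLocalization.map_units Bq (⟨b, hb⟩ : q.primeCompl)
    rw [map_mul] at h1
    rw [IsLocalization.mk'_eq_mul_mk'_one]
    exact Ideal.mul_mem_right _ _ ((Ideal.mul_unit_mem_iff_mem _ hu).1 h1)
  have hϖ : ϖ ∈ IsLocalRing.maximalIdeal Bq := by
    obtain ⟨r, t, hrt⟩ := IsLocalization.exists_mk'_eq p.primeCompl π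
    have hr : r ∈ p := (IsLocalization.AtPrime.mk'_mem_maximal_iff Rp p r t).1
      (by rw [hrt, hπ.maximalIdeal_eq]; exact Ideal.mem_span_singleton_self _)
    have h1 : ϖ * algebraMap B Bq (algebraMap R B t) = algebraMap B Bq (algebraMap R B r) := by
      rw [← IsScalarTower.algebraMap_apply R B Bq, ← IsScalarTower.algebraMap_apply R B Bq,
        IsScalarTower.algebraMap_apply R Rp Bq, IsScalarTower.algebraMap_apply R Rp Bq, ← map_mul, ← hrt,
        IsLocalization.mk'_spec]
    have hu : IsUnit (algebraMap B Bq (algebraMap R B t)) :=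
      IsLocalization.map_units Bq (⟨algebraMap R B t, fun h => t.2 (hcomap.le (Ideal.mem_comap.2 h))⟩ : q.primeCompl)
    refine (Ideal.mul_unit_mem_iff_mem _ hu).1 (h1 ▸ ?_)
    exact (IsLocalization.AtPrime.to_map_mem_maximal_iff Bq q _).2 (Ideal.mem_comap.1 (hcomap.ge hr))
  have hmax : IsLocalRing.maximalIdeal Bq = Ideal.span {ϖ} :=
    le_antisymm hle ((Ideal.span_singleton_le_iff_mem _).2 hϖ)
  have hdec : ∀ z : Bq, z ≠ 0 → ∃ n : ℕ, ∃ u, IsUnit u ∧ z = ϖ ^ n * u := by
    intro z hz
    have hex : ∃ n, z ∉ IsLocalRing.maximalIdeal Bq ^ n := by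
      by_contra hall
      push Not at hall
      refine hz ((Submodule.mem_bot (R := Bq)).1 ?_)
      rw [← Ideal.iInf_pow_eq_bot_of_isLocalRing (IsLocalRing.maximalIdeal Bq) (IsLocalRing.maximalIdeal.isMaximal Bq).ne_top]
      exact Submodule.mem_iInf _ |>.2 hall
    obtain ⟨n, hn⟩ : ∃ n, Nat.find hex = n + 1 := ⟨Nat.find hex - 1, by
      have : Nat.find hex ≠ 0 := fun h0 => Nat.find_spec hex (by rw [h0, pow_zero, Ideal.one_eq_top]; trivial)
      omega⟩
    have h1 : z ∈ IsLocalRing.maximalIdeal Bq ^ n := not_not.1 (Nat.find_min hex (by omega))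
    rw [hmax, Ideal.span_singleton_pow, Ideal.mem_span_singleton] at h1
    obtain ⟨u, hu⟩ := h1
    refine ⟨n, u, ?_, hu⟩
    by_contra hnu
    refine Nat.find_spec hex ?_
    rw [hn, hu, pow_succ]
    exact Ideal.mul_mem_mul (Ideal.pow_mem_pow hϖ n) hnu
  have : NoZeroDivisors Bq := ⟨fun {x y} hxy => by
    by_contra hne
    push Not at hne
    obtain ⟨n, u, hu, rfl⟩ := hdec x hne.1
    obtain ⟨k, v, hv, rfl⟩ := hdec y hne.2
    have h1 : ∀ j (w : Bq), ϖ ^ j * w = 0 → w = 0 := by
      intro j
      induction j with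
      | zero => intro w hw; simpa using hw
      | succ j ih => intro w hw; exact hreg w (ih _ (by rwa [pow_succ, mul_assoc] at hw))
    have h2 := h1 (n + k) (u * v) (by rw [pow_add, ← hxy]; ring)
    exact (hu.mul hv).ne_zero h2⟩
  have : IsDomain Bq := NoZeroDivisors.to_isDomain _
  have hnf : ¬ IsField Bq := fun hf => by
    refine one_ne_zero (hreg 1 ?_)
    rw [mul_one, ← Submodule.mem_bot (R := Bq), ← (IsLocalRing.isField_iff_maximalIdeal_eq.1 hf)]
    exact hϖ
  have h := (IsDiscreteValuationRing.TFAE Bq hnf).out 0 4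
  exact ⟨inferInstance, h.2 ⟨ϖ, hmax⟩⟩

end Groth.Agent.S9439
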