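import Groth.Statements.S9440
import Groth.Agent.NormalLib.CompletionReduced

set_option autoImplicit false
universe u
open CAlg

namespace Groth.Agent.S9440

/-- Purely inseparable case. -/
theorem finite_integralClosure_aux {R : Type u} [CommRing R] [IsLocalRing R] [IsNoetherianRing R]
    (h : ∀ (S : Type u) [CommRing S] [IsDomain S] [IsLocalRing S] [Algebra R S]
      [IsLocalHom (algebraMap R S)] [Module.Finite R S],
      IsReduced (AdicCompletion (IsLocalRing.maximalIdeal S) S))
    (p : Ideal R) [p.IsPrime] (K' : Type u) [Field K'] [Algebra (R ⧸ p) K'] [Algebra (FractionRing (R ⧸ p)) K']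
    [IsScalarTower (R ⧸ p) (FractionRing (R ⧸ p)) K'] [FiniteDimensional (FractionRing (R ⧸ p)) K']
    [IsPurelyInseparable (FractionRing (R ⧸ p)) K'] : Module.Finite (R ⧸ p) (integralClosure (R ⧸ p) K') := by
  classical
  let K := FractionRing (R ⧸ p)
  let q₀ := ringExpChar K
  have : ExpChar K q₀ := inferInstance
  have : ExpChar K' q₀ := expChar_of_injective_ringHom (algebraMap K K').injective q₀
  let e := IsPurelyInseparable.exponent K K'
  have hq : 0 < q₀ ^ e := pow_pos (expChar_pos K q₀) e
  let _ : Algebra R K' := ((algebraMap (R ⧸ p) K').comp (Ideal.Quotient.mk p)).toAlgebra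
  have : IsScalarTower R (R ⧸ p) K' := IsScalarTower.of_algebraMap_eq' rfl
  have hinj : Function.Injective (algebraMap (R ⧸ p) K') := by
    rw [IsScalarTower.algebraMap_eq (R ⧸ p) K K']
    exact (algebraMap K K').injective.comp (IsFractionRing.injective (R ⧸ p) K)
  let T₀ : Subring K' := (algebraMap R K').range.comap (iterateFrobenius K' q₀ e)
  let b := Module.finBasis K K'
  have hb : ∀ i, ∃ s : R ⧸ p, s ≠ 0 ∧ algebraMap (R ⧸ p) K' s * b i ∈ T₀ := by
    intro i
    obtain ⟨k, hk⟩ := IsPurelyInseparable.exponent_def' K q₀ (b i)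
    obtain ⟨a, s, hs, rfl⟩ := IsFractionRing.div_surjective (A := R ⧸ p) k
    obtain ⟨r, hr⟩ := Ideal.Quotient.mk_surjective (s ^ (q₀ ^ e - 1) * a)
    refine ⟨s, nonZeroDivisors.ne_zero hs, r, ?_⟩
    rw [iterateFrobenius_def, mul_pow, ← hk, map_div₀, ← IsScalarTower.algebraMap_apply,
      ← IsScalarTower.algebraMap_apply, IsScalarTower.algebraMap_apply R (R ⧸ p) K', Ideal.Quotient.algebraMap_eq, hr]
    have hne : algebraMap (R ⧸ p) K' s ≠ 0 := (map_ne_zero_iff _ hinj).2 (nonZeroDivisors.ne_zero hs)
    conv_rhs => rw [show q₀ ^ e = q₀ ^ e - 1 + 1 by omega, pow_succ]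
    rw [map_mul, map_pow]
    field_simp
  choose s hs0 hs using hb
  let c := fun i => algebraMap (R ⧸ p) K' (s i) * b i
  let S := Algebra.adjoin R (Set.range c)
  have hST : ∀ y : S, ∃ r : R, (y : K') ^ (q₀ ^ e) = algebraMap R K' r := by
    intro y
    have h0 : (y : K') ∈ T₀ := by
      refine Algebra.adjoin_induction (fun x hx => ?_) (fun r => ?_) (fun x z _ _ hx hz => T₀.add_mem hx hz)
        (fun x z _ _ hx hz => T₀.mul_mem hx hz) y.2
      · obtain ⟨i, rfl⟩ := hx; exact hs i
      · exact ⟨r ^ (q₀ ^ e), by rw [iterateFrobenius_def, map_pow]⟩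
    obtain ⟨r, hr⟩ := h0
    exact ⟨r, by rw [hr, iterateFrobenius_def]⟩
  choose N hN using hST
  have : Module.Finite R S := by
    refine Module.Finite.iff_fg.2 (fg_adjoin_of_finite (Set.finite_range c) ?_)
    rintro _ ⟨i, rfl⟩
    obtain ⟨r, hr⟩ := hs i
    refine IsIntegral.of_pow hq ?_
    rw [← iterateFrobenius_def, ← hr]
    exact isIntegral_algebraMap
  have hpow : ∀ y : S, y ^ (q₀ ^ e) = algebraMap R S (N y) := fun y => Subtype.ext (hN y)
  have hker : ∀ r : R, algebraMap R K' r = 0 → r ∈ p := fun r hr => by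
    rw [IsScalarTower.algebraMap_apply R (R ⧸ p) K', map_eq_zero_iff _ hinj] at hr
    exact Ideal.Quotient.eq_zero_iff_mem.1 hr
  have hloc : IsLocalHom (algebraMap R S) := ⟨fun r hr => by
    obtain ⟨y, hy⟩ := hr.exists_right_inv
    have h1 := congrArg (fun z : S => (z : K') ^ (q₀ ^ e)) hy
    simp only [MulMemClass.coe_mul, OneMemClass.coe_one, one_pow, mul_pow, hN y] at h1
    rw [show ((algebraMap R S r : S) : K') = algebraMap R K' r from rfl] at h1
    have h2 : algebraMap R K' (r ^ (q₀ ^ e) * N y - 1) = 0 := by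
      rw [map_sub, map_mul, map_pow, map_one, sub_eq_zero]; exact h1
    by_contra hru
    have h3 : r ^ (q₀ ^ e) * N y ∈ IsLocalRing.maximalIdeal R :=
      Ideal.mul_mem_right _ _ (Ideal.pow_mem_of_mem _ hru _ hq)
    have h4 := sub_mem h3 (IsLocalRing.le_maximalIdeal (Ideal.IsPrime.ne_top ‹_›) (hker _ h2))
    rw [sub_sub_cancel] at h4
    exact (IsLocalRing.maximalIdeal.isMaximal R).ne_top ((Ideal.eq_top_iff_one _).2 h4)⟩
  have : IsLocalRing S := IsLocalRing.of_nonunits_add fun y z hy hz hyz => by
    have hN' : ∀ w : S, IsUnit w ↔ IsUnit (N w) := fun w => by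
      constructor
      · intro hw
        exact isUnit_of_map_unit (algebraMap R S) _ (hpow w ▸ hw.pow _)
      · intro hw
        exact (isUnit_pow_iff hq.ne').1 (hpow w ▸ hw.map (algebraMap R S))
    have h1 : IsUnit (algebraMap R S (N y + N z)) := by
      have h2 : algebraMap R S (N y + N z) = (y + z) ^ (q₀ ^ e) := by
        refine Subtype.ext ?_
        show algebraMap R K' (N y + N z) = ((y : K') + z) ^ (q₀ ^ e)
        rw [map_add, ← hN, ← hN, add_pow_expChar_pow]
      rw [h2]; exact hyz.pow _
    exact IsLocalRing.nonunits_add (fun h => hy ((hN' y).2 h)) (fun h => hz ((hN' z).2 h))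
      (isUnit_of_map_unit (algebraMap R S) _ h1)
  have : IsNoetherianRing S := isNoetherianRing_iff.2 (isNoetherian_of_tower R (isNoetherian_of_isNoetherianRing_of_finite R S))
  have := h S
  have hfield : IsFractionRing S K' := IsFractionRing.of_field S K' fun z => by
    obtain ⟨d, hd⟩ := IsLocalization.exist_integer_multiples (nonZeroDivisors (R ⧸ p)) (S := K) Finset.univ
      fun i => b.repr z i / algebraMap (R ⧸ p) K (s i)
    choose a ha using fun i => hd i (Finset.mem_univ i)
    choose a' ha' using fun i => Ideal.Quotient.mk_surjective (a i)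
    obtain ⟨d', hd'⟩ := Ideal.Quotient.mk_surjective (d : R ⧸ p)
    have hd0 : algebraMap (R ⧸ p) K' d ≠ 0 := (map_ne_zero_iff _ hinj).2 (nonZeroDivisors.coe_ne_zero d)
    refine ⟨∑ i, algebraMap R S (a' i) * ⟨c i, Algebra.subset_adjoin ⟨i, rfl⟩⟩, algebraMap R S d', ?_⟩
    show z = (algebraMap S K' (∑ i, _)) / _
    rw [eq_div_iff (by
      show algebraMap R K' d' ≠ 0
      rwa [IsScalarTower.algebraMap_apply R (R ⧸ p) K', Ideal.Quotient.algebraMap_eq, hd']), map_sum]
    conv_lhs => rw [← b.sum_repr z, Finset.sum_mul]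
    refine Finset.sum_congr rfl fun i _ => ?_
    show _ • b i * algebraMap R K' d' = algebraMap R K' (a' i) * c i
    rw [IsScalarTower.algebraMap_apply R (R ⧸ p) K', IsScalarTower.algebraMap_apply R (R ⧸ p) K',
      Ideal.Quotient.algebraMap_eq, ha', hd', IsScalarTower.algebraMap_apply (R ⧸ p) K K' (a i), ha i,
      Algebra.smul_def, Algebra.smul_def, map_mul, map_div₀, ← IsScalarTower.algebraMap_apply,
      ← IsScalarTower.algebraMap_apply]
    have hne : algebraMap (R ⧸ p) K' (s i) ≠ 0 := (map_ne_zero_iff _ hinj).2 (hs0 i)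
    simp only [c]
    field_simp
  have hN1 : CAlg.IsN1 S := NormalLib.isN1_of_isReduced_completion S
  have : Module.Finite S (integralClosure S (FractionRing S)) := hN1
  have : Module.Finite S (integralClosure S K') :=
    NormalLib.finite_integralClosure_of_algEquiv (IsLocalization.algEquiv (nonZeroDivisors S) (FractionRing S) K')
  have : Module.Finite R (integralClosure S K') := Module.Finite.trans S _
  let g : integralClosure (R ⧸ p) K' →ₗ[R] integralClosure S K' :=
    { toFun := fun x => ⟨x, (isIntegral_trans (R := R) (A := R ⧸ p) (x : K') x.2).tower_top⟩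
      map_add' := fun _ _ => rfl
      map_smul' := fun a x => Subtype.ext (by simp) }
  have : Module.Finite R (integralClosure (R ⧸ p) K') := Module.Finite.of_injective g fun x y hxy =>
    Subtype.ext (congrArg (fun z : integralClosure S K' => (z : K')) hxy)
  exact Module.Finite.of_restrictScalars_finite R (R ⧸ p) _

/-- (1) ⇔ (3): a Noetherian local ring R is a Nagata ring if and only if for every finite local
homomorphism R → S of local rings with S a domain, the completion of S is reduced. -/
theorem result (R : Type u) [CommRing R]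
    [IsLocalRing R] [IsNoetherianRing R] :
    CAlg.IsNagata R ↔ ∀ (S : Type u) [CommRing S] [IsDomain S] [IsLocalRing S] [Algebra R S]
      [IsLocalHom (algebraMap R S)] [Module.Finite R S],
      IsReduced (AdicCompletion (IsLocalRing.maximalIdeal S) S) := by
  constructor
  · intro hR S _ _ _ _ _ _
    have := NormalLib.isReduced_completion_jacobson hR S
    rwa [IsLocalRing.jacobson_eq_maximalIdeal ⊥ bot_ne_top] at this
  · intro h
    refine ⟨inferInstance, fun p _ => ?_⟩
    refine NormalLib.isN2_of_purelyInseparable fun K' _ _ _ _ hfin hpi => ?_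
    exact finite_integralClosure_aux h p K' 

end Groth.Agent.S9440
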