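import Groth.Statements.S9443
import Mathlib
import Groth.Agent.CohenLib.DerExt
-- import your own Groth.Agent.* helpers here

set_option autoImplicit false
universe u
open CAlg

namespace Groth.Agent.S9443

/-- A complete regular local ring R with a coefficient field k (a subfield mapping isomorphically onto
the residue field) is k-isomorphic to a power series ring over k in finitely many variables
(existence of an isomorphism only; the number of variables is then the dimension of R). -/
theorem result (R : Type u)
    [CommRing R] [IsRegularLocalRing R] [IsAdicComplete (IsLocalRing.maximalIdeal R) R]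
    (k : Type u) [Field k] [Algebra k R]
    (hk : Function.Bijective (algebraMap k (IsLocalRing.ResidueField R))) :
    ∃ d : ℕ, Nonempty (R ≃ₐ[k] MvPowerSeries (Fin d) k) := by
  let f : k ≃ₐ[k] IsLocalRing.ResidueField R := AlgEquiv.ofBijective (Algebra.ofId k _) hk
  haveI : Algebra.FormallySmooth k (IsLocalRing.ResidueField R) := Algebra.FormallySmooth.of_equiv f
  obtain ⟨n, e, he⟩ := CohenLib.exists_equiv_of_liftsAdic (CohenLib.liftsAdic_of_regular k R)
  let g : MvPowerSeries (Fin n) (IsLocalRing.ResidueField R) ≃+* MvPowerSeries (Fin n) k :=
    { toFun := MvPowerSeries.map f.symm.toRingHom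
      invFun := MvPowerSeries.map f.toRingHom
      left_inv := fun x => by ext m; simp [MvPowerSeries.coeff_map]
      right_inv := fun x => by ext m; simp [MvPowerSeries.coeff_map]
      map_mul' := map_mul _
      map_add' := map_add _ }
  refine ⟨n, ⟨AlgEquiv.ofRingEquiv (f := ((AdicCompletion.ofAlgEquiv (IsLocalRing.maximalIdeal R)).toRingEquiv.trans e).trans g) fun c => ?_⟩⟩
  show MvPowerSeries.map f.symm.toRingHom (e (AdicCompletion.ofAlgEquiv (IsLocalRing.maximalIdeal R) (algebraMap k R c))) = _
  rw [show AdicCompletion.ofAlgEquiv (IsLocalRing.maximalIdeal R) (algebraMap k R c) = algebraMap R _ (algebraMap k R c) from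
    (AdicCompletion.ofAlgEquiv (IsLocalRing.maximalIdeal R)).commutes _, he]
  simp [MvPowerSeries.map_C]
  rfl

end Groth.Agent.S9443
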