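import Groth.Statements.S9445
import Mathlib

-- import your own Groth.Agent.* helpers here

set_option autoImplicit false
universe u
open CAlg
open scoped TensorProduct

namespace Groth.Agent.S9445

open TensorProduct in
/-- For ring maps R → S → S' with S → S' formally étale and k ≥ 0, let J' ⊆ S' ⊗_R S' be the kernel of
multiplication and I ⊆ S' ⊗_R S its preimage under the map induced by S → S' (I is the kernel of S'
⊗_R S → S', and (S' ⊗_R S)/I^{k+1} is S' ⊗_S P^k_{S/R}); then (S' ⊗_R S)/I^{k+1} → (S' ⊗_R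
S')/J'^{k+1} is bijective. (The consequence S' ⊗_S Ω_{S/R} ≅ Ω_{S'/R} is Mathlib's
KaehlerDifferential.isBaseChange_of_formallyEtale.) -/
theorem result (R : Type u) [CommRing R]
    (S : Type u) [CommRing S] [Algebra R S] (S' : Type u) [CommRing S'] [Algebra R S']
    [Algebra S S'] [IsScalarTower R S S'] [Algebra.FormallyEtale S S'] (k : ℕ) :
    Function.Bijective (Ideal.quotientMap (KaehlerDifferential.ideal R S' ^ (k + 1))
      (Algebra.TensorProduct.map (AlgHom.id S' S') (IsScalarTower.toAlgHom R S S')).toRingHom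
      (Ideal.le_comap_pow
        (Algebra.TensorProduct.map (AlgHom.id S' S') (IsScalarTower.toAlgHom R S S')).toRingHom
        (K := KaehlerDifferential.ideal R S') (k + 1))) := by
  set n := k + 1 with hn
  let m := Algebra.TensorProduct.map (AlgHom.id S' S') (IsScalarTower.toAlgHom R S S')
  let J' := KaehlerDifferential.ideal R S'
  let I : Ideal (S' ⊗[R] S) := J'.comap m.toRingHom
  let Φ : (S' ⊗[R] S) ⧸ I ^ n →+* (S' ⊗[R] S') ⧸ J' ^ n :=
    Ideal.quotientMap (J' ^ n) m.toRingHom (Ideal.le_comap_pow m.toRingHom (K := J') n)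
  show Function.Bijective Φ
  letI algT : Algebra S ((S' ⊗[R] S) ⧸ I ^ n) :=
    ((Ideal.Quotient.mk (I ^ n)).comp (Algebra.TensorProduct.includeRight : S →ₐ[R] S' ⊗[R] S).toRingHom).toAlgebra
  let lm : S' ⊗[R] S' →ₐ[R] S' := Algebra.TensorProduct.lmul' R
  have hJ : ∀ z, z ∈ J' ↔ lm z = 0 := fun z => Iff.rfl
  let μ : S' ⊗[R] S →+* S' := lm.toRingHom.comp m.toRingHom
  let ε₀ : (S' ⊗[R] S) ⧸ I ^ n →+* S' := Ideal.Quotient.lift (I ^ n) μ (fun z hz =>
    (hJ _).1 (Ideal.mem_comap.1 ((Ideal.pow_le_self (Nat.succ_ne_zero k) : I ^ n ≤ I) hz)))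
  let ε : (S' ⊗[R] S) ⧸ I ^ n →ₐ[S] S' := { ε₀ with
    commutes' := fun s => by
      show lm (m ((1 : S') ⊗ₜ[R] s)) = algebraMap S S' s
      simp [m, lm] }
  have hεs : Function.Surjective ε := fun a => ⟨Ideal.Quotient.mk _ (a ⊗ₜ[R] 1), by
    show lm (m (a ⊗ₜ[R] (1 : S))) = a
    simp [m, lm]⟩
  have hkerε : RingHom.ker (ε : (S' ⊗[R] S) ⧸ I ^ n →+* S') = I.map (Ideal.Quotient.mk (I ^ n)) := by
    ext z
    obtain ⟨z, rfl⟩ := Ideal.Quotient.mk_surjective z
    rw [Ideal.mem_quotient_iff_mem (Ideal.pow_le_self (Nat.succ_ne_zero k))]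
    exact Iff.rfl
  have hnil : IsNilpotent (RingHom.ker (ε : (S' ⊗[R] S) ⧸ I ^ n →+* S')) :=
    ⟨n, by rw [hkerε, ← Ideal.map_pow, Ideal.map_quotient_self]; rfl⟩
  let γ : S' →ₐ[S] (S' ⊗[R] S) ⧸ I ^ n :=
    Algebra.FormallySmooth.liftOfSurjective (AlgHom.id S S') ε hεs hnil
  have hγ : ∀ b, ε (γ b) = b := fun b =>
    AlgHom.congr_fun (Algebra.FormallySmooth.comp_liftOfSurjective (AlgHom.id S S') ε hεs hnil) b
  have hγs : ∀ s, γ (algebraMap S S' s) = Ideal.Quotient.mk _ ((1 : S') ⊗ₜ[R] s) := fun s => γ.commutes s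
  let γR : S' →ₐ[R] (S' ⊗[R] S) ⧸ I ^ n := { γ.toRingHom with
    commutes' := fun r => by
      show γ (algebraMap R S' r) = _
      rw [IsScalarTower.algebraMap_apply R S S', hγs, IsScalarTower.algebraMap_apply R (S' ⊗[R] S) ((S' ⊗[R] S) ⧸ I ^ n)]
      congr 1
      exact (Algebra.TensorProduct.includeRight : S →ₐ[R] S' ⊗[R] S).commutes r }
  let ψ : S' ⊗[R] S' →ₐ[R] (S' ⊗[R] S) ⧸ I ^ n := Algebra.TensorProduct.lift
    ((Ideal.Quotient.mkₐ R (I ^ n)).comp Algebra.TensorProduct.includeLeft) γR (fun _ _ => mul_comm _ _)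
  have hψ : ∀ a b, ψ (a ⊗ₜ[R] b) = Ideal.Quotient.mk _ (a ⊗ₜ[R] (1 : S)) * γ b := fun a b => by
    simp [ψ, γR]
  have hεψ : ∀ z, ε (ψ z) = lm z := by
    intro z
    induction z using TensorProduct.induction_on with
    | zero => simp
    | tmul a b =>
      rw [hψ, map_mul, hγ]
      show lm (m (a ⊗ₜ[R] (1 : S))) * b = lm (a ⊗ₜ[R] b)
      simp [m, lm]
    | add x y hx hy => simp only [map_add, hx, hy]
  have hψJ : J' ^ n ≤ RingHom.ker ψ.toRingHom := by
    refine fun z hz => ?_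
    have h1 : ψ z ∈ (J' ^ n).map ψ.toRingHom := Ideal.mem_map_of_mem _ hz
    have h2 : (J' ^ n).map ψ.toRingHom ≤ (RingHom.ker (ε : (S' ⊗[R] S) ⧸ I ^ n →+* S')) ^ n := by
      rw [Ideal.map_pow]
      refine Ideal.pow_right_mono (Ideal.map_le_iff_le_comap.2 fun w hw => ?_) _
      show ε (ψ w) = 0
      rw [hεψ]; exact (hJ w).1 hw
    have h3 := h2 h1
    rw [hkerε, ← Ideal.map_pow, Ideal.map_quotient_self] at h3
    exact h3
  let θ : (S' ⊗[R] S') ⧸ J' ^ n →+* (S' ⊗[R] S) ⧸ I ^ n := Ideal.Quotient.lift _ ψ.toRingHom (fun z hz => hψJ hz)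
  have h1 : θ.comp Φ = RingHom.id _ := by
    refine Ideal.Quotient.ringHom_ext (RingHom.ext fun z => ?_)
    show ψ (m z) = Ideal.Quotient.mk _ z
    induction z using TensorProduct.induction_on with
    | zero => simp
    | tmul a s =>
      rw [show m (a ⊗ₜ[R] s) = a ⊗ₜ[R] algebraMap S S' s by simp [m], hψ, hγs, ← map_mul,
        Algebra.TensorProduct.tmul_mul_tmul, mul_one, one_mul]
    | add x y hx hy => simp only [map_add, hx, hy]
  letI algQ : Algebra S ((S' ⊗[R] S') ⧸ J' ^ n) := (Φ.comp (algebraMap S ((S' ⊗[R] S) ⧸ I ^ n))).toAlgebra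
  let g₁ : S' →ₐ[S] (S' ⊗[R] S') ⧸ J' ^ n := { Φ.comp γ.toRingHom with
    commutes' := fun s => by
      show Φ (γ (algebraMap S S' s)) = _
      rw [γ.commutes]; rfl }
  let g₂ : S' →ₐ[S] (S' ⊗[R] S') ⧸ J' ^ n := { (Ideal.Quotient.mk (J' ^ n)).comp
      (Algebra.TensorProduct.includeRight : S' →ₐ[R] S' ⊗[R] S').toRingHom with
    commutes' := fun s => by
      show Ideal.Quotient.mk _ ((1 : S') ⊗ₜ[R] algebraMap S S' s) = Ideal.Quotient.mk _ (m ((1 : S') ⊗ₜ[R] s))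
      simp [m] }
  let ε' : (S' ⊗[R] S') ⧸ J' ^ n →+* S' := Ideal.Quotient.lift _ lm.toRingHom (fun z hz =>
    (hJ _).1 (Ideal.pow_le_self (Nat.succ_ne_zero k) hz))
  have hnil' : IsNilpotent (RingHom.ker ε') := ⟨n, by
    have : RingHom.ker ε' = J'.map (Ideal.Quotient.mk (J' ^ n)) := by
      ext z
      obtain ⟨z, rfl⟩ := Ideal.Quotient.mk_surjective z
      rw [Ideal.mem_quotient_iff_mem (Ideal.pow_le_self (Nat.succ_ne_zero k))]
      exact Iff.rfl
    rw [this, ← Ideal.map_pow, Ideal.map_quotient_self]; rfl⟩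
  have hg : g₁ = g₂ := Algebra.FormallyUnramified.ext' ε' hnil' g₁ g₂ fun b => by
    have hcomm : ∀ w, ε' (Φ w) = ε w := by
      intro w; obtain ⟨w, rfl⟩ := Ideal.Quotient.mk_surjective w; rfl
    show ε' (Φ (γ b)) = lm ((1 : S') ⊗ₜ[R] b)
    rw [hcomm, hγ]
    simp [lm]
  have h2 : Φ.comp θ = RingHom.id _ := by
    refine Ideal.Quotient.ringHom_ext (RingHom.ext fun z => ?_)
    show Φ (ψ z) = Ideal.Quotient.mk _ z
    induction z using TensorProduct.induction_on with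
    | zero => simp
    | tmul a b =>
      rw [hψ, map_mul, show Φ (γ b) = Ideal.Quotient.mk _ ((1 : S') ⊗ₜ[R] b) from AlgHom.congr_fun hg b]
      show Ideal.Quotient.mk _ (m (a ⊗ₜ[R] (1 : S))) * _ = _
      rw [← map_mul]
      simp [m]
    | add x y hx hy => simp only [map_add, hx, hy]
  exact Function.bijective_iff_has_inverse.2 ⟨θ, RingHom.congr_fun h1, RingHom.congr_fun h2⟩

end Groth.Agent.S9445
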