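import Groth.Statements.S9447
import Mathlib.RingTheory.IsTensorProduct
import Mathlib.RingTheory.Flat.FaithfullyFlat.Basic
import Mathlib.RingTheory.Smooth.Basic
import Mathlib.RingTheory.Kaehler.TensorProduct
import Mathlib.RingTheory.Extension.Cotangent.BaseChange
import Groth.Agent.ProjLib.Descent


-- import your own Groth.Agent.* helpers here

set_option autoImplicit false
universe u
open CAlg

namespace Groth.Agent.S9447

open TensorProduct in
/-- Formal smoothness descends along faithfully flat base change: for R → S arbitrary and R → R'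
faithfully flat, the R-algebra S is formally smooth exactly when the R'-algebra R' ⊗_R S is formally
smooth. No finiteness hypothesis on S. -/
theorem result (R : Type u) [CommRing R]
    (S : Type u) [CommRing S] [Algebra R S] (R' : Type u) [CommRing R'] [Algebra R R']
    [Module.FaithfullyFlat R R'] :
    Algebra.FormallySmooth R S ↔ Algebra.FormallySmooth R' (R' ⊗[R] S) := by
  refine ⟨fun _ => inferInstance, fun h => ⟨?_, ?_⟩⟩
  · let : Algebra S (R' ⊗[R] S) := Algebra.TensorProduct.rightAlgebra
    have : IsScalarTower R S (R' ⊗[R] S) := IsScalarTower.of_algebraMap_eq' (by ext; simp [RingHom.algebraMap_toAlgebra])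
    have : Algebra.IsPushout R R' S (R' ⊗[R] S) := TensorProduct.isPushout
    have : Module.FaithfullyFlat S (R' ⊗[R] S) :=
      Module.FaithfullyFlat.of_linearEquiv S (S ⊗[R] R') ((Algebra.TensorProduct.commRight R S R').toLinearEquiv.symm)
    have : Module.Projective (R' ⊗[R] S) ((R' ⊗[R] S) ⊗[S] Ω[S⁄R]) :=
      Module.Projective.of_equiv (KaehlerDifferential.tensorKaehlerEquiv R R' S (R' ⊗[R] S)).symm
    exact ProjLib.projective_of_faithfullyFlat S (M := Ω[S⁄R]) (S := R' ⊗[R] S)
  · have : Subsingleton (R' ⊗[R] Algebra.H1Cotangent R S) :=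
      (Algebra.tensorH1CotangentOfFlat R S R').subsingleton
    exact Module.FaithfullyFlat.lTensor_reflects_triviality R R' _

end Groth.Agent.S9447
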