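import Groth.Statements.S9448
import Groth.Agent.Unram17Lib.EtaleOrigin
import Groth.Agent.FibDimLib.Formula
-- import your own Groth.Agent.* helpers here

set_option autoImplicit false
universe u
open Unram

namespace Groth.Agent.S9448

/-- For a field k and a finite type algebra A over the polynomial ring k[x_1, …, x_n] (the variables
mapping to a_1, …, a_n), the structure map is étale if and only if (a) the local rings of A at all
maximal ideals have dimension n and (b) da_1, …, da_n generate the module of differentials of A over
k. -/
theorem result (k : Type u) [Field k] (n : ℕ)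
    (A : Type u) [CommRing A] [Algebra k A] [Algebra (MvPolynomial (Fin n) k) A]
    [IsScalarTower k (MvPolynomial (Fin n) k) A] [Algebra.FiniteType (MvPolynomial (Fin n) k) A] :
    Algebra.Etale (MvPolynomial (Fin n) k) A ↔
      (∀ (m : Ideal A) [m.IsMaximal], ringKrullDim (Localization.AtPrime m) = n) ∧
        Submodule.span A (Set.range fun i : Fin n =>
          KaehlerDifferential.D k A (algebraMap (MvPolynomial (Fin n) k) A (MvPolynomial.X i))) = ⊤ := by
  classical
  let P := MvPolynomial (Fin n) k
  haveI : Algebra.FiniteType k A := Algebra.FiniteType.trans (S := P) inferInstance inferInstance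
  haveI : IsNoetherianRing P := MvPolynomial.isNoetherianRing
  haveI : Algebra.FinitePresentation P A := Algebra.FinitePresentation.of_finiteType.mp inferInstance
  let w : Fin n → KaehlerDifferential k A := fun i =>
    KaehlerDifferential.D k A (algebraMap P A (MvPolynomial.X i))
  constructor
  · intro h
    let e := KaehlerDifferential.tensorKaehlerEquivOfFormallyEtale k P A
    let b := (Algebra.TensorProduct.basis A (KaehlerDifferential.mvPolynomialBasis k (Fin n))).map e
    have hb : ∀ i, b i = w i := fun i => by
      simp [b, e, w, KaehlerDifferential.mvPolynomialBasis_apply]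
      exact (KaehlerDifferential.mapBaseChange_tmul k P A _ _).trans ((one_smul _ _).trans (KaehlerDifferential.map_D ..))
    refine ⟨fun m hm => ?_, ?_⟩
    · rw [← FibDimLib.localDim_eq_of_isMaximal (k := k) m]
      haveI : Algebra.Smooth k P := ⟨inferInstance, inferInstance⟩
      haveI : Algebra.Smooth k A := Algebra.Smooth.comp k P A
      haveI : Algebra.IsSmoothAt k m := by
        have hs : (⟨m, hm.isPrime⟩ : PrimeSpectrum A) ∈ Algebra.smoothLocus k A := by
          rw [Algebra.smoothLocus_eq_univ_iff.mpr inferInstance]
          trivial
        exact hs
      obtain ⟨_, -, -, -, hdim⟩ := SmoothDimLib.exists_chart (k := k) m m.ResidueField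
        (Ideal.ker_algebraMap_residueField m)
      rw [hdim, Module.finrank_eq_card_basis (b.baseChange m.ResidueField), Fintype.card_fin]
    · rw [← b.span_eq]
      exact congrArg (Submodule.span A) (congrArg Set.range (funext hb)).symm
  · rintro ⟨hdim, hspan⟩
    change Submodule.span A (Set.range w) = ⊤ at hspan
    suffices h : ∀ (m : Ideal A) [m.IsMaximal], Algebra.IsEtaleAt P m by
      haveI : Algebra.FormallyEtale P A := by
        rw [← Algebra.etaleLocus_eq_univ_iff, Set.eq_univ_iff_forall]
        intro p
        obtain ⟨m, hm, hpm⟩ := Ideal.exists_le_maximal p.asIdeal p.isPrime.ne_top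
        exact ((PrimeSpectrum.le_iff_specializes p ⟨m, hm.isPrime⟩).mp hpm).mem_open
          Algebra.isOpen_etaleLocus (show (⟨m, hm.isPrime⟩ : PrimeSpectrum A) ∈ Algebra.etaleLocus P A from h m)
      exact {}
    intro m _
    let K := m.ResidueField
    let L := Localization.AtPrime m
    let v : Fin n → TensorProduct A K (KaehlerDifferential k A) := fun i => TensorProduct.tmul A (1 : K) (w i)
    have htop : Submodule.span K (Set.range v) = ⊤ := by
      rw [show Set.range v = TensorProduct.mk A K _ 1 '' Set.range w by rw [← Set.range_comp]; rfl,
        ← Submodule.baseChange_span, hspan, Submodule.baseChange_top]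
    have hle : Module.finrank K (TensorProduct A K (KaehlerDifferential k A)) ≤ n := by
      rw [← finrank_top, ← htop]
      exact (finrank_range_le_card _).trans_eq (Fintype.card_fin n)
    have hK : RingHom.ker (algebraMap A K) = m := Ideal.ker_algebraMap_residueField m
    have hld : FlatMor.localDim (PrimeSpectrum A) ⟨m, inferInstance⟩ = (n : WithBot ℕ∞) := by
      rw [FibDimLib.localDim_eq_of_isMaximal (k := k) m, hdim m]
    haveI hsm : Algebra.IsSmoothAt k m := SmoothDimLib.isSmoothAt_of_finrank_le m K hK (by
      rw [hld]
      exact WithBot.coe_le_coe.mpr (Nat.cast_le.mpr hle))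
    haveI : Algebra.FormallySmooth k L := hsm
    obtain ⟨_, -, -, -, hd⟩ := SmoothDimLib.exists_chart (k := k) m K hK
    have heq : Module.finrank K (TensorProduct A K (KaehlerDifferential k A)) = n := by
      have h := hd.symm.trans hld
      exact_mod_cast h
    haveI : Algebra.EssFiniteType k L :=
      haveI : Algebra.EssFiniteType A L := Algebra.EssFiniteType.of_isLocalization L m.primeCompl
      Algebra.EssFiniteType.comp k A L
    haveI : Module.Free L (KaehlerDifferential k L) := Module.free_of_flat_of_isLocalRing
    have hL : Module.finrank L (KaehlerDifferential k L) = n := by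
      rw [← heq, (SmoothDimLib.tensorKaehlerLocEquiv (k := k) A L m.primeCompl K).finrank_eq,
        Module.finrank_baseChange]
    refine Unram17Lib.formallyEtale_mvPolynomial_of_surjective k L n hL ?_
    haveI := Algebra.FormallyEtale.of_isLocalization (Rₘ := L) m.primeCompl
    let φ := KaehlerDifferential.mapBaseChange k P L
    intro z
    suffices hz : z ∈ LinearMap.range φ from hz
    obtain ⟨z, rfl⟩ := (KaehlerDifferential.tensorKaehlerEquivOfFormallyEtale k A L).surjective z
    induction z using TensorProduct.induction_on with
    | zero => rw [map_zero]; exact zero_mem _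
    | add a b ha hb => rw [map_add]; exact add_mem ha hb
    | tmul l x =>
      have hmem : KaehlerDifferential.map k k A L x ∈ LinearMap.range φ := by
        induction (hspan.ge (Submodule.mem_top (x := x))) using Submodule.span_induction with
        | mem x hx =>
          obtain ⟨i, rfl⟩ := hx
          refine ⟨TensorProduct.tmul P (1 : L) (KaehlerDifferential.D k P (MvPolynomial.X i)), ?_⟩
          rw [KaehlerDifferential.mapBaseChange_tmul, one_smul, KaehlerDifferential.map_D,
            KaehlerDifferential.map_D, IsScalarTower.algebraMap_apply P A L]
        | zero => rw [map_zero]; exact zero_mem _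
        | add a b _ _ ha hb => rw [map_add]; exact add_mem ha hb
        | smul c y _ hy => rw [map_smul]; exact Submodule.smul_of_tower_mem _ c hy
      have he : KaehlerDifferential.tensorKaehlerEquivOfFormallyEtale k A L (TensorProduct.tmul A l x) =
          l • KaehlerDifferential.map k k A L x := KaehlerDifferential.mapBaseChange_tmul k A L l x
      rw [he]
      exact Submodule.smul_mem _ l hmem

end Groth.Agent.S9448
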