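import Groth.Statements.S9449
import Groth.Agent.EtLocLib.Algebra
-- import your own Groth.Agent.* helpers here

set_option autoImplicit false
universe u
open Unram
open AlgebraicGeometry CategoryTheory TensorProduct

namespace Groth.Agent.S9449

open TensorProduct in
/-- For an unramified ring map R → S and a prime p of R there exist an étale R-algebra R', a prime p' of
R' lying over p and a decomposition R' ⊗_R S ≅ A_1 × ⋯ × A_n × B of R'-algebras with every R' → A_i
surjective, p'A_i a prime ideal of A_i whose preimage in R' is p', and no prime of B lying over p'. -/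
theorem result (R : Type u) [CommRing R]
    (S : Type u) [CommRing S] [Algebra R S] [Algebra.Unramified R S] (p : Ideal R) [p.IsPrime] :
    ∃ (R' : Type u) (_ : CommRing R') (_ : Algebra R R') (_ : Algebra.Etale R R') (p' : Ideal R')
      (_ : p'.IsPrime) (_ : p'.LiesOver p) (n : ℕ) (A : Fin n → Type u) (_ : ∀ i, CommRing (A i))
      (_ : ∀ i, Algebra R' (A i)) (B : Type u) (_ : CommRing B) (_ : Algebra R' B),
      Nonempty ((R' ⊗[R] S) ≃ₐ[R'] ((∀ i, A i) × B)) ∧
        (∀ i, Function.Surjective (algebraMap R' (A i)) ∧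
          (p'.map (algebraMap R' (A i))).IsPrime ∧
          (p'.map (algebraMap R' (A i))).comap (algebraMap R' (A i)) = p') ∧
        ∀ (q : Ideal B) [q.IsPrime], q.comap (algebraMap R' B) ≠ p' := by
  let f : Spec (CommRingCat.of S) ⟶ Spec (CommRingCat.of R) := Spec.map (CommRingCat.ofHom (algebraMap R S))
  haveI : FormallyUnramified f := (HasRingHomProperty.Spec_iff (P := @FormallyUnramified)).2
    (RingHom.formallyUnramified_algebraMap.2 inferInstance)
  haveI : LocallyOfFiniteType f := (HasRingHomProperty.Spec_iff (P := @LocallyOfFiniteType)).2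
    (RingHom.finiteType_algebraMap.2 inferInstance)
  haveI : Algebra.QuasiFinite R S := inferInstance
  haveI : Finite (p.primesOver S) := (Algebra.QuasiFinite.finite_primesOver p).to_subtype
  obtain ⟨m, ⟨eq⟩⟩ := Finite.exists_equiv_fin (p.primesOver S)
  let x : Fin m → PrimeSpectrum S := fun i => ⟨(eq.symm i).1, (eq.symm i).2.1⟩
  have hW : EtLocLib.UnramOn f ⊤ :=
    ⟨MorphismProperty.comp_mem @LocallyOfFiniteType _ _ inferInstance inferInstance,
      MorphismProperty.comp_mem @FormallyUnramified _ _ inferInstance inferInstance⟩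
  obtain ⟨R', _, _, hR', p', _, hlo, n, lab, e, he, hA, hcov, -⟩ :=
    EtLocLib.exists_idempotents R S ⟨p, inferInstance⟩ x
      (fun i j h => eq.symm.injective (Subtype.ext (congrArg PrimeSpectrum.asIdeal h)))
      (fun i => PrimeSpectrum.ext ((eq.symm i).2.2.over).symm) (fun _ => ⊤) (fun _ => trivial) (fun _ => hW)
  refine ⟨R', inferInstance, inferInstance, hR', p', inferInstance, hlo, n,
    fun k => (R' ⊗[R] S) ⧸ Ideal.span {1 - e k}, fun _ => inferInstance, fun _ => inferInstance,
    (R' ⊗[R] S) ⧸ Ideal.span {∑ k, e k}, inferInstance, inferInstance, ⟨EtLocLib.splitEquiv e he⟩,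
    fun k => ?_, fun q hq hqp => ?_⟩
  · obtain ⟨hs, Q, hQ, hek, hQp, -⟩ := hA k
    have hle : Ideal.span {1 - e k} ≤ Q := by
      rw [Ideal.span_singleton_le_iff_mem]
      exact (hQ.mem_or_mem (show e k * (1 - e k) ∈ Q by
        rw [mul_sub, mul_one, (he.idem k).eq, sub_self]; exact Q.zero_mem)).resolve_left hek
    haveI : (Q.map (Ideal.Quotient.mk (Ideal.span {1 - e k}))).IsPrime :=
      Ideal.map_isPrime_of_surjective Ideal.Quotient.mk_surjective (by rwa [Ideal.mk_ker])
    have hc : (Q.map (Ideal.Quotient.mk (Ideal.span {1 - e k}))).comap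
        (algebraMap R' ((R' ⊗[R] S) ⧸ Ideal.span {1 - e k})) = p' := by
      rw [IsScalarTower.algebraMap_eq R' (R' ⊗[R] S), Ideal.Quotient.algebraMap_eq, ← Ideal.comap_comap,
        Ideal.comap_map_of_surjective' _ Ideal.Quotient.mk_surjective, Ideal.mk_ker, sup_eq_left.mpr hle, hQp]
    refine ⟨hs, ?_⟩
    rw [← hc]
    exact EtLocLib.map_isPrime_and_comap hs _
  · let Q := q.comap (Ideal.Quotient.mk (Ideal.span {∑ k, e k}))
    have hE : ∑ k, e k ∈ Q := by
      change Ideal.Quotient.mk _ _ ∈ q
      rw [Ideal.Quotient.eq_zero_iff_mem.mpr (Ideal.mem_span_singleton_self _)]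
      exact q.zero_mem
    have hQp : Q.comap (algebraMap R' (R' ⊗[R] S)) = p' := hqp
    let P := Q.comap (Algebra.TensorProduct.includeRight (R := R) (A := R') (B := S)).toRingHom
    have hP : P ∈ p.primesOver S := ⟨inferInstance, ⟨by
      rw [show p = p'.under R from hlo.over, ← hQp, Ideal.under, Ideal.under, Ideal.comap_comap, Ideal.comap_comap]
      exact congrArg (fun φ : R →+* R' ⊗[R] S => Q.comap φ) ((IsScalarTower.algebraMap_eq R R' (R' ⊗[R] S)).symm.trans
        (Algebra.TensorProduct.includeRight (R := R) (A := R') (B := S)).comp_algebraMap.symm)⟩⟩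
    obtain ⟨k, -, hk⟩ := hcov Q inferInstance (eq ⟨P, hP⟩) hQp (by
      change P = (eq.symm (eq ⟨P, hP⟩)).1
      rw [Equiv.symm_apply_apply])
    exact hk (by rw [← he.mul_sum_of_mem (Finset.mem_univ k)]; exact Q.mul_mem_left _ hE)

end Groth.Agent.S9449
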