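import Groth.Statements.S9450
import Mathlib.RingTheory.Smooth.Basic
import Mathlib.RingTheory.Kaehler.Basic
import Mathlib.RingTheory.Derivation.ToSquareZero
import Mathlib.RingTheory.Ideal.Cotangent
-- import your own Groth.Agent.* helpers here

set_option autoImplicit false
set_option linter.style.haveILetI false
universe u
open CAlg

namespace Groth.Agent.S9450

/-- For ring maps A → B → C with A → C surjective and A → B formally smooth, writing I = ker(A → C) and
J = ker(B → C), the sequence 0 → I/I² → J/J² → C ⊗_B Ω_{B/A} → 0 is split exact: the first map is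
injective and admits an A-linear retraction, its range is the kernel of the second map (class of x ↦
1 ⊗ dx), and the second map is surjective. -/
theorem result (A : Type u) [CommRing A]
    (B : Type u) [CommRing B] [Algebra A B] [Algebra.FormallySmooth A B] (C : Type u) [CommRing C]
    [Algebra B C] [Algebra A C] [IsScalarTower A B C] (hC : Function.Surjective (algebraMap A C)) :
    Function.Injective (Ideal.mapCotangent (RingHom.ker (algebraMap A C))
        (RingHom.ker (algebraMap B C)) (Algebra.ofId A B)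
        (le_of_eq (congrArg RingHom.ker (IsScalarTower.algebraMap_eq A B C)))) ∧
      (∃ r : (RingHom.ker (algebraMap B C)).Cotangent →ₗ[A] (RingHom.ker (algebraMap A C)).Cotangent,
        r ∘ₗ (Ideal.mapCotangent (RingHom.ker (algebraMap A C)) (RingHom.ker (algebraMap B C))
          (Algebra.ofId A B)
          (le_of_eq (congrArg RingHom.ker (IsScalarTower.algebraMap_eq A B C)))) = LinearMap.id) ∧
      LinearMap.range (Ideal.mapCotangent (RingHom.ker (algebraMap A C))
          (RingHom.ker (algebraMap B C)) (Algebra.ofId A B)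
          (le_of_eq (congrArg RingHom.ker (IsScalarTower.algebraMap_eq A B C)))) =
        LinearMap.ker ((KaehlerDifferential.kerCotangentToTensor A B C).restrictScalars A) ∧
      Function.Surjective (KaehlerDifferential.kerCotangentToTensor A B C) := by
  classical
  set I := RingHom.ker (algebraMap A C) with hI
  set J := RingHom.ker (algebraMap B C) with hJ
  have hIJ : I ≤ J.comap (Algebra.ofId A B) :=
    le_of_eq (congrArg RingHom.ker (IsScalarTower.algebraMap_eq A B C))
  set m := Ideal.mapCotangent I J (Algebra.ofId A B) hIJ with hm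
  -- the lift g : B → A/I²
  let π : (A ⧸ I ^ 2) →ₐ[A] C := Ideal.Quotient.liftₐ (I ^ 2) (Algebra.ofId A C)
    (fun a ha => Ideal.pow_le_self two_ne_zero ha)
  have hπ : Function.Surjective π := fun c => by
    obtain ⟨a, rfl⟩ := hC c
    exact ⟨Ideal.Quotient.mk _ a, rfl⟩
  have hkerπ : RingHom.ker (π : (A ⧸ I ^ 2) →+* C) = I.cotangentIdeal := by
    ext y
    obtain ⟨a, rfl⟩ := Ideal.Quotient.mk_surjective y
    constructor
    · intro h
      exact Submodule.mem_map_of_mem (p := I) h
    · rintro ⟨a', ha', he⟩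
      show π _ = 0
      rw [← he]
      exact ha'
  let g : B →ₐ[A] A ⧸ I ^ 2 := Algebra.FormallySmooth.liftOfSurjective
    (IsScalarTower.toAlgHom A B C) π hπ ⟨2, by rw [hkerπ, Ideal.cotangentIdeal_square]; rfl⟩
  have hg : ∀ b, π (g b) = algebraMap B C b := fun b =>
    Algebra.FormallySmooth.liftOfSurjective_apply _ _ _ _ b
  have hgJ : ∀ b ∈ J, g b ∈ I.cotangentIdeal := by
    intro b hb
    rw [← hkerπ, RingHom.mem_ker]
    exact (hg b).trans hb
  have hgJ2 : ∀ b ∈ J ^ 2, g b = 0 := by
    intro b hb
    have h1 : g b ∈ Ideal.map g (J ^ 2) := Ideal.mem_map_of_mem g hb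
    rw [Ideal.map_pow] at h1
    have hle : J.map g ≤ I.cotangentIdeal := Ideal.map_le_iff_le_comap.2 (fun b hb => hgJ b hb)
    have h2 := Ideal.pow_right_mono hle 2 h1
    rwa [Ideal.cotangentIdeal_square, Ideal.mem_bot] at h2
  -- the retraction
  let q : J →ₗ[A] J.Cotangent := J.toCotangent.restrictScalars A
  have hq : Function.Surjective q := J.toCotangent_surjective
  let r0 : J →ₗ[A] I.Cotangent := I.cotangentEquivIdeal.symm.toLinearMap ∘ₗ
    LinearMap.codRestrict (I.cotangentIdeal.restrictScalars A)
      (g.toLinearMap ∘ₗ (J.subtype.restrictScalars A)) (fun b => hgJ b b.2)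
  have hr0 : LinearMap.ker q ≤ LinearMap.ker r0 := by
    intro x hx
    have hx2 : (x : B) ∈ J ^ 2 := (J.toCotangent_eq_zero x).1 hx
    rw [LinearMap.mem_ker]
    apply I.cotangentEquivIdeal.injective
    rw [map_zero]
    refine (LinearEquiv.apply_symm_apply _ _).trans (Subtype.ext ?_)
    exact hgJ2 _ hx2
  let r : J.Cotangent →ₗ[A] I.Cotangent :=
    (LinearMap.ker q).liftQ r0 hr0 ∘ₗ (q.quotKerEquivOfSurjective hq).symm.toLinearMap
  have hrq : ∀ x, r (J.toCotangent x) = r0 x := by
    intro x
    have : (q.quotKerEquivOfSurjective hq).symm (q x) = Submodule.Quotient.mk x := by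
      rw [LinearEquiv.symm_apply_eq]; rfl
    show (LinearMap.ker q).liftQ r0 hr0 ((q.quotKerEquivOfSurjective hq).symm (q x)) = _
    rw [this]; rfl
  have hrm : r ∘ₗ m = LinearMap.id := by
    refine LinearMap.ext fun y => ?_
    obtain ⟨a, rfl⟩ := I.toCotangent_surjective y
    rw [LinearMap.comp_apply, hm, Ideal.mapCotangent_toCotangent, hrq, LinearMap.id_apply]
    apply I.cotangentEquivIdeal.injective
    refine (LinearEquiv.apply_symm_apply _ _).trans (Subtype.ext ?_)
    rw [Ideal.cotangentEquivIdeal_apply, Ideal.toCotangent_to_quotient_square]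
    exact g.commutes (a : A)
  have hBC : Function.Surjective (algebraMap B C) := fun c => by
    obtain ⟨a, rfl⟩ := hC c
    exact ⟨algebraMap A B a, (IsScalarTower.algebraMap_apply A B C a).symm⟩
  refine ⟨fun x y h => ?_, ⟨r, hrm⟩, le_antisymm ?_ ?_, ?_⟩
  · simpa [← LinearMap.comp_apply, hrm] using congrArg r h
  · rintro _ ⟨y, rfl⟩
    obtain ⟨a, rfl⟩ := I.toCotangent_surjective y
    rw [hm, Ideal.mapCotangent_toCotangent, LinearMap.mem_ker, LinearMap.restrictScalars_apply,
      KaehlerDifferential.kerCotangentToTensor_toCotangent]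
    show (1 : C) ⊗ₜ[B] KaehlerDifferential.D A B (algebraMap A B (a : A)) = 0
    rw [Derivation.map_algebraMap, TensorProduct.tmul_zero]
  · intro z hz
    obtain ⟨x, rfl⟩ := J.toCotangent_surjective z
    rw [LinearMap.mem_ker, LinearMap.restrictScalars_apply,
      KaehlerDifferential.kerCotangentToTensor_toCotangent] at hz
    -- the derivation measuring b - (lift of b)
    have hJJ : I ^ 2 ≤ (J ^ 2).comap (Algebra.ofId A B) :=
      (Ideal.pow_right_mono hIJ 2).trans (Ideal.le_comap_pow _ 2)
    let ι : (A ⧸ I ^ 2) →ₐ[A] B ⧸ J ^ 2 := Ideal.Quotient.liftₐ (I ^ 2) (Algebra.ofId A (B ⧸ J ^ 2))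
      (fun a ha => Ideal.Quotient.eq_zero_iff_mem.2 (hJJ ha))
    have e : (Ideal.Quotient.mkₐ A J.cotangentIdeal).comp (ι.comp g) =
        IsScalarTower.toAlgHom A B ((B ⧸ J ^ 2) ⧸ J.cotangentIdeal) := by
      refine AlgHom.ext fun b => ?_
      obtain ⟨a, ha⟩ := Ideal.Quotient.mk_surjective (g b)
      show Ideal.Quotient.mk J.cotangentIdeal (ι (g b)) =
        Ideal.Quotient.mk J.cotangentIdeal (Ideal.Quotient.mk (J ^ 2) b)
      rw [← ha, Ideal.Quotient.mk_eq_mk_iff_sub_mem]
      refine ⟨algebraMap A B a - b, ?_, (map_sub (Ideal.Quotient.mk (J ^ 2)) _ _)⟩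
      show algebraMap B C (algebraMap A B a - b) = 0
      rw [map_sub, ← IsScalarTower.algebraMap_apply, ← hg b, ← ha, sub_eq_zero]
      rfl
    let δ := derivationToSquareZeroOfLift J.cotangentIdeal (Ideal.cotangentIdeal_square J)
      (ι.comp g) e
    let L := δ.liftKaehlerDifferential
    let eC : (B ⧸ J) ≃ₐ[B] C := Ideal.quotientKerAlgEquivOfSurjective (f := Algebra.ofId B C) hBC
    let Λ : C →ₗ[B] (Ω[B⁄A] →ₗ[B] J.cotangentIdeal) :=
      Submodule.liftQ J (LinearMap.toSpanSingleton B _ L) (fun j hj => by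
        rw [LinearMap.mem_ker, LinearMap.toSpanSingleton_apply]
        refine LinearMap.ext fun w => Subtype.ext ?_
        show j • (L w : B ⧸ J ^ 2) = 0
        rw [Algebra.smul_def]
        have h1 : algebraMap B (B ⧸ J ^ 2) j * (L w : B ⧸ J ^ 2) ∈ J.cotangentIdeal ^ 2 := by
          rw [pow_two J.cotangentIdeal]
          exact Ideal.mul_mem_mul (Submodule.mem_map_of_mem (p := J) hj) (L w).2
        rwa [Ideal.cotangentIdeal_square, Ideal.mem_bot] at h1) ∘ₗ eC.symm.toLinearMap
    have hT := congrArg (TensorProduct.lift Λ) hz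
    rw [TensorProduct.lift.tmul, map_zero] at hT
    have hΛ1 : Λ 1 = L := by
      have h1 : eC.symm 1 = Submodule.Quotient.mk 1 := map_one _
      simp only [Λ, LinearMap.comp_apply]
      erw [h1]
      exact one_smul B L
    rw [hΛ1, Derivation.liftKaehlerDifferential_comp_D] at hT
    have hx : ι (g x) = Ideal.Quotient.mk (J ^ 2) (x : B) := by
      have := congrArg Subtype.val hT
      rwa [derivationToSquareZeroOfLift_apply, Submodule.coe_zero, sub_eq_zero] at this
    obtain ⟨a, ha, hga⟩ := hgJ x x.2
    refine ⟨I.toCotangent ⟨a, ha⟩, ?_⟩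
    rw [hm, Ideal.mapCotangent_toCotangent, Ideal.toCotangent_eq]
    rw [← hga] at hx
    exact Ideal.Quotient.eq.1 hx
  · intro t
    haveI := KaehlerDifferential.subsingleton_of_surjective A C hC
    exact (KaehlerDifferential.exact_kerCotangentToTensor_mapBaseChange A B C hBC t).1
      (Subsingleton.elim _ _)

end Groth.Agent.S9450
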