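import Groth.Statements.S9451
import Mathlib
-- import your own Groth.Agent.* helpers here

set_option autoImplicit false
universe u
open CategoryTheory CategoryTheory.Limits TensorProduct
open CAlg

namespace Groth.Agent.S9451

set_option maxHeartbeats 400000

/-- Let (A_i) be a filtered system of rings with colimit A and B a smooth A-algebra. Then some stage A_i
carries a smooth A_i-algebra B_i with B isomorphic to A ⊗_{A_i} B_i as A-algebras (the base change
along the colimit map A_i → A; existence of an isomorphism). -/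
theorem result {I : Type u} [SmallCategory I] [IsFiltered I]
    (D : I ⥤ CommRingCat.{u}) (c : Cocone D) (hc : IsColimit c) (B : Type u) [CommRing B]
    [Algebra c.pt B] [Algebra.Smooth c.pt B] :
    ∃ (i : I) (Bi : Type u) (_ : CommRing Bi) (_ : Algebra (D.obj i) Bi),
      Algebra.Smooth (D.obj i) Bi ∧
      (letI : Algebra (D.obj i) c.pt := (c.ι.app i).hom.toAlgebra
       Nonempty (B ≃ₐ[c.pt] (c.pt ⊗[D.obj i] Bi))) := by
  obtain ⟨A₀, B₀, _, _, hA₀, hB₀, ⟨e⟩⟩ := Algebra.Smooth.exists_subalgebra_fg (R := ℤ) (A := c.pt) (B := B)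
  haveI : Algebra.FiniteType ℤ A₀ := (Subalgebra.fg_iff_finiteType A₀).mp hA₀
  haveI : Algebra.FinitePresentation ℤ A₀ := Algebra.FinitePresentation.of_finiteType.mp inferInstance
  let R : CommRingCat.{u} := CommRingCat.of (ULift.{u} ℤ)
  let z : ∀ X : CommRingCat.{u}, R ⟶ X := fun X =>
    CommRingCat.ofHom ((Int.castRingHom X).comp (ULift.ringEquiv.{0, u} (R := ℤ)).toRingHom)
  have hz : ∀ (X : CommRingCat.{u}) (φ ψ : R ⟶ X), φ = ψ := fun X φ ψ => by
    apply CommRingCat.hom_ext
    have h : φ.hom.comp (ULift.ringEquiv.{0, u} (R := ℤ)).symm.toRingHom =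
        ψ.hom.comp (ULift.ringEquiv.{0, u} (R := ℤ)).symm.toRingHom := RingHom.ext_int _ _
    ext ⟨n⟩
    exact RingHom.congr_fun h n
  let α : (Functor.const I).obj R ⟶ D := { app := fun i => z _, naturality := fun _ _ _ => hz _ _ _ }
  let S : CommRingCat.{u} := CommRingCat.of A₀
  let g : S ⟶ c.pt := CommRingCat.ofHom A₀.val.toRingHom
  have hf : (z S).hom.FinitePresentation :=
    RingHom.FinitePresentation.comp
      (RingHom.finitePresentation_algebraMap.mpr ‹Algebra.FinitePresentation ℤ A₀›)
      (RingHom.FinitePresentation.of_bijective (ULift.ringEquiv.{0, u} (R := ℤ)).bijective)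
  obtain ⟨i, g', -, hg⟩ := RingHom.EssFiniteType.exists_eq_comp_ι_app_of_isColimit R D α (z S) c hc hf g
    (fun i => hz _ _ _)
  letI : Algebra A₀ (D.obj i) := g'.hom.toAlgebra
  haveI := hB₀
  letI : Algebra (D.obj i) c.pt := (c.ι.app i).hom.toAlgebra
  haveI : IsScalarTower A₀ (D.obj i) c.pt := IsScalarTower.of_algebraMap_eq fun x =>
    congr($(congrArg CommRingCat.Hom.hom hg) x)
  exact ⟨i, D.obj i ⊗[A₀] B₀, inferInstance, inferInstance, inferInstance,
    ⟨e.trans (Algebra.TensorProduct.cancelBaseChange A₀ (D.obj i) c.pt c.pt B₀).symm⟩⟩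

end Groth.Agent.S9451
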