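import Groth.Statements.S9452
import Groth.Agent.EtLocLib.Algebra
-- import your own Groth.Agent.* helpers here

set_option autoImplicit false
universe u
open Unram
open AlgebraicGeometry CategoryTheory TensorProduct

namespace Groth.Agent.S9452

open TensorProduct in
/-- Let R → S be of finite type and unramified at a prime q lying over p. Then there are an étale
R-algebra R', a prime p' of R' over p and an R'-algebra isomorphism e : R' ⊗_R S ≅ A × B with R' → A
surjective and p'A a prime ideal of A lying over p' whose pull-back along S → R' ⊗_R S ≅ A × B → A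
is q. -/
theorem result (R : Type u) [CommRing R]
    (S : Type u) [CommRing S] [Algebra R S] [Algebra.FiniteType R S] (q : Ideal S) [q.IsPrime]
    [Algebra.IsUnramifiedAt R q] :
    ∃ (R' : Type u) (_ : CommRing R') (_ : Algebra R R') (_ : Algebra.Etale R R') (p' : Ideal R')
      (_ : p'.IsPrime) (_ : p'.LiesOver (q.under R)) (A : Type u) (_ : CommRing A) (_ : Algebra R' A)
      (B : Type u) (_ : CommRing B) (_ : Algebra R' B) (e : (R' ⊗[R] S) ≃ₐ[R'] (A × B)),
      Function.Surjective (algebraMap R' A) ∧ (p'.map (algebraMap R' A)).IsPrime ∧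
        (p'.map (algebraMap R' A)).comap (algebraMap R' A) = p' ∧
        (p'.map (algebraMap R' A)).comap (((RingHom.fst A B).comp e.toRingHom).comp
          (Algebra.TensorProduct.includeRight : S →ₐ[R] R' ⊗[R] S).toRingHom) = q := by
  let f : Spec (CommRingCat.of S) ⟶ Spec (CommRingCat.of R) := Spec.map (CommRingCat.ofHom (algebraMap R S))
  obtain ⟨_, ⟨g, rfl⟩, hgq, hgsub⟩ := PrimeSpectrum.isTopologicalBasis_basic_opens.exists_subset_of_mem_open
    (show (⟨q, inferInstance⟩ : PrimeSpectrum S) ∈ Algebra.unramifiedLocus R S from ‹_›)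
    Algebra.isOpen_unramifiedLocus
  have hu : Algebra.FormallyUnramified R (Localization.Away g) :=
    Algebra.basicOpen_subset_unramifiedLocus_iff.mp hgsub
  let am := CommRingCat.ofHom (algebraMap S (Localization.Away g))
  haveI : IsOpenImmersion (Spec.map am) := IsOpenImmersion.of_isLocalization g
  have hW : EtLocLib.UnramOn f (Spec.map am).opensRange := by
    have h2 : Spec.map am ≫ f = Spec.map (CommRingCat.ofHom (algebraMap R (Localization.Away g))) := by
      rw [← Spec.map_comp, IsScalarTower.algebraMap_eq R S (Localization.Away g)]; rfl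
    haveI : FormallyUnramified (Spec.map am ≫ f) := by
      rw [h2]; exact (HasRingHomProperty.Spec_iff (P := @FormallyUnramified)).2
        (RingHom.formallyUnramified_algebraMap.2 hu)
    haveI : LocallyOfFiniteType (Spec.map am ≫ f) := by
      rw [h2]; exact (HasRingHomProperty.Spec_iff (P := @LocallyOfFiniteType)).2
        (RingHom.finiteType_algebraMap.2 inferInstance)
    constructor <;>
    · rw [← Scheme.Hom.isoOpensRange_inv_comp, Category.assoc]
      exact MorphismProperty.comp_mem _ _ _ inferInstance ‹_›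
  have hq : (⟨q, inferInstance⟩ : PrimeSpectrum S) ∈ (Spec.map am).opensRange := by
    change _ ∈ Set.range (PrimeSpectrum.comap (algebraMap S (Localization.Away g)))
    rw [PrimeSpectrum.localization_away_comap_range _ g]
    exact hgq
  obtain ⟨R', _, _, hR', p', _, hlo, n, lab, e, he, hA, hcov, hex⟩ :=
    EtLocLib.exists_idempotents R S ⟨q.under R, inferInstance⟩ (fun _ : Fin 1 => (⟨q, inferInstance⟩ : PrimeSpectrum S))
      (fun i j _ => Subsingleton.elim i j) (fun _ => rfl) (fun _ => (Spec.map am).opensRange)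
      (fun _ => hq) (fun _ => hW)
  obtain ⟨Q, hQ, h1, h2⟩ := hex 0
  obtain ⟨k, -, hk⟩ := hcov Q hQ 0 h1 h2
  have hle : Ideal.span {1 - e k} ≤ Q := by
    rw [Ideal.span_singleton_le_iff_mem]
    exact (hQ.mem_or_mem (show e k * (1 - e k) ∈ Q by
      rw [mul_sub, mul_one, (he.idem k).eq, sub_self]; exact Q.zero_mem)).resolve_left hk
  haveI : (Q.map (Ideal.Quotient.mk (Ideal.span {1 - e k}))).IsPrime :=
    Ideal.map_isPrime_of_surjective Ideal.Quotient.mk_surjective (by rwa [Ideal.mk_ker])
  have hback : (Q.map (Ideal.Quotient.mk (Ideal.span {1 - e k}))).comap (Ideal.Quotient.mk _) = Q := by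
    rw [Ideal.comap_map_of_surjective' _ Ideal.Quotient.mk_surjective, Ideal.mk_ker, sup_eq_left.mpr hle]
  have hc : (Q.map (Ideal.Quotient.mk (Ideal.span {1 - e k}))).comap
      (algebraMap R' ((R' ⊗[R] S) ⧸ Ideal.span {1 - e k})) = p' := by
    rw [IsScalarTower.algebraMap_eq R' (R' ⊗[R] S), Ideal.Quotient.algebraMap_eq, ← Ideal.comap_comap, hback, h1]
  have hmap : p'.map (algebraMap R' ((R' ⊗[R] S) ⧸ Ideal.span {1 - e k})) =
      Q.map (Ideal.Quotient.mk (Ideal.span {1 - e k})) := by
    rw [← hc]
    exact Ideal.map_comap_of_surjective _ (hA k).1 _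
  refine ⟨R', inferInstance, inferInstance, hR', p', inferInstance, hlo,
    (R' ⊗[R] S) ⧸ Ideal.span {1 - e k}, inferInstance, inferInstance,
    (R' ⊗[R] S) ⧸ Ideal.span {e k}, inferInstance, inferInstance,
    AlgEquiv.prodQuotientOfIsIdempotentElem R' (he.idem k).one_sub (he.idem k) (by ring)
      (by rw [sub_mul, one_mul, (he.idem k).eq, sub_self]), (hA k).1, ?_, ?_, ?_⟩
  · rw [hmap]; infer_instance
  · rw [hmap, hc]
  · rw [hmap]
    refine Eq.trans ?_ h2
    conv_rhs => rw [← hback, Ideal.comap_comap]
    rfl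

end Groth.Agent.S9452
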