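import Groth.Statements.S9455
import Groth.Agent.CohenLib.Structure

set_option autoImplicit false
universe u
open CAlg

namespace Groth.Agent.S9455

/-- If Λ is a Cohen ring (a complete discrete valuation ring with maximal ideal generated by a prime
number p) then Λ/p^nΛ is formally smooth over ℤ/p^nℤ for every n ≥ 1; the ℤ/p^nℤ-algebra structure
on Λ/p^nΛ is the unique one and is taken as a hypothesis. -/
theorem result (Λ : Type u) [CommRing Λ] [IsDomain Λ]
    [IsDiscreteValuationRing Λ] [IsAdicComplete (IsLocalRing.maximalIdeal Λ) Λ] (p : ℕ)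
    (hp : p.Prime) (hm : IsLocalRing.maximalIdeal Λ = Ideal.span {(p : Λ)}) (n : ℕ) (hn : 1 ≤ n)
    [Algebra (ZMod (p ^ n)) (Λ ⧸ Ideal.span {((p : Λ) ^ n)})] :
    Algebra.FormallySmooth (ZMod (p ^ n)) (Λ ⧸ Ideal.span {((p : Λ) ^ n)}) := by
  have : Fact p.Prime := ⟨hp⟩
  obtain ⟨q, -, -, -, -, hchar, -, -, -⟩ := CohenLib.cohen_props (Λ := Λ) ⟨inferInstance, inferInstance, inferInstance, p, hp, hm⟩
  exact CohenLib.formallySmooth_zmod (hm ▸ IsLocalRing.maximalIdeal.isMaximal Λ) n hn

end Groth.Agent.S9455
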