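import Groth.Statements.S9456
import Mathlib
import Groth.Agent.FlatLib.StageFlat
-- import your own Groth.Agent.* helpers here

set_option autoImplicit false
universe u
open CAlg

namespace Groth.Agent.S9456

open TensorProduct
attribute [local instance] MvPolynomial.algebraMvPolynomial
set_option synthInstance.maxHeartbeats 200000
set_option maxHeartbeats 1000000

/-- Let R → S be of finite presentation and M a finitely presented S-module which is flat over R. Then
the triple descends to a finite type ℤ-algebra: there are R₀ of finite type over ℤ with R₀ → R, a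
finite type R₀-algebra S₀ with a compatible map S₀ → S making S the base change R ⊗_{R₀} S₀, and a
finite S₀-module M₀ flat over R₀ with an S₀-linear map M₀ → M making M the base change S ⊗_{S₀} M₀. -/
theorem result (R : Type u) [CommRing R]
    (S : Type u) [CommRing S] [Algebra R S] [Algebra.FinitePresentation R S] (M : Type u)
    [AddCommGroup M] [Module S M] [Module R M] [IsScalarTower R S M]
    [Module.FinitePresentation S M] [Module.Flat R M] :
    ∃ (R₀ : Type u) (_ : CommRing R₀) (_ : Algebra R₀ R) (S₀ : Type u) (_ : CommRing S₀)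
      (_ : Algebra R₀ S₀) (_ : Algebra S₀ S) (_ : Algebra R₀ S) (_ : IsScalarTower R₀ R S)
      (_ : IsScalarTower R₀ S₀ S) (M₀ : Type u) (_ : AddCommGroup M₀) (_ : Module S₀ M₀)
      (_ : Module R₀ M₀) (_ : IsScalarTower R₀ S₀ M₀) (_ : Module S₀ M) (_ : IsScalarTower S₀ S M)
      (f : M₀ →ₗ[S₀] M),
      Algebra.FiniteType ℤ R₀ ∧ Algebra.FiniteType R₀ S₀ ∧ Module.Finite S₀ M₀ ∧ Module.Flat R₀ M₀ ∧
        Algebra.IsPushout R₀ R S₀ S ∧ IsBaseChange S f := by
  classical
  obtain ⟨σ, hσ, π, hπ, hker⟩ := Algebra.FinitePresentation.iff_quotient_mvPolynomial'.{_, _, u}.mp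
    (inferInstance : Algebra.FinitePresentation R S)
  obtain ⟨G, hG⟩ := hker
  let P := MvPolynomial σ R
  letI : Algebra P S := π.toRingHom.toAlgebra
  haveI : IsScalarTower R P S := IsScalarTower.of_algebraMap_eq fun r ↦ (π.commutes r).symm
  letI : Module P M := Module.compHom M π.toRingHom
  haveI : IsScalarTower P S M := IsScalarTower.of_algebraMap_smul fun _ _ ↦ rfl
  haveI : IsScalarTower R P M := IsScalarTower.of_algebraMap_smul fun r m ↦ by
    show π (algebraMap R P r) • m = r • m
    rw [π.commutes, algebraMap_smul]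
  haveI : Module.FinitePresentation P S :=
    Module.finitePresentation_of_surjective (Algebra.linearMap P S) hπ ⟨G, hG⟩
  haveI : Module.FinitePresentation P M := Module.FinitePresentation.trans P M S
  have hGker : ∀ g ∈ G, π g = 0 := fun g hg ↦ RingHom.mem_ker.mp (hG ▸ Ideal.subset_span hg)
  obtain ⟨A, M₀, iA, iAm, iPm, iT, hA, hfin, ⟨e⟩, hg₀⟩ := FlatLib.exists_model (σ := σ) (R := R) (M := M) G
    (fun g hg m ↦ by show π g • m = 0; rw [hGker g hg, zero_smul])
  haveI : IsNoetherianRing A := isNoetherianRing_of_fg hA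
  haveI : Module.Flat R (FlatLib.BC σ A M₀ R) :=
    Module.Flat.of_linearEquiv (e.restrictScalars R)
  obtain ⟨F, hF⟩ := FlatLib.exists_flat_stage (σ := σ) (A := A) (M₀ := M₀) (R := R)
  choose g₀ hg₀map hg₀kill using hg₀
  obtain ⟨S₁, i1, i2, i3, i4, i5, i6, i7, i8, f, h1, h2, h3, h4⟩ := FlatLib.exists_quotient_model
    (R₁ := FlatLib.stg A F) π hπ G hG e.toAddEquiv (fun t x ↦ e.map_smul t x) g₀ hg₀map hg₀kill
  haveI : Algebra.FiniteType ℤ A := (Subalgebra.fg_iff_finiteType A).mp hA
  haveI : Algebra.FiniteType A (FlatLib.stg A F) := (Subalgebra.fg_iff_finiteType _).mp ⟨F, rfl⟩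
  exact ⟨FlatLib.stg A F, inferInstance, inferInstance, S₁, i1, i2, i3, inferInstance, inferInstance,
    i4, FlatLib.BC σ A M₀ (FlatLib.stg A F), inferInstance, i5, inferInstance, i6, i7, i8, f,
    Algebra.FiniteType.trans (R := ℤ) (S := A) (A := FlatLib.stg A F) inferInstance inferInstance, h1, h2, hF, h3, h4⟩

end Groth.Agent.S9456
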