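import Groth.Statements.S9462
import Mathlib.RingTheory.Kaehler.Basic
import Mathlib.RingTheory.MvPolynomial.Ideal
import Mathlib.LinearAlgebra.TensorProduct.Quotient
import Mathlib.RingTheory.Smooth.Flat
import Mathlib.RingTheory.Smooth.Fiber
import Groth.Agent.FlatCrit.Basic


-- import your own Groth.Agent.* helpers here

set_option autoImplicit false
universe u
open CAlg

namespace Groth.Agent.S9462

open TensorProduct in
/-- Consider surjections A' → A and B' → B with square-zero kernels I and J and a commutative square A'
→ B', A → B. If A → B is étale and J = I ⊗_A B — that is, J = IB' and the multiplication map B'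
⊗_{A'} I → B' is injective — then A' → B' is étale. -/
theorem result (A' : Type u) [CommRing A'] (A : Type u) [CommRing A]
    [Algebra A' A] (hA : Function.Surjective (algebraMap A' A))
    (hI : RingHom.ker (algebraMap A' A) ^ 2 = ⊥)
    (B' : Type u) [CommRing B'] [Algebra A' B'] (B : Type u) [CommRing B] [Algebra B' B]
    [Algebra A B] [Algebra A' B] [IsScalarTower A' A B] [IsScalarTower A' B' B]
    (hB : Function.Surjective (algebraMap B' B)) (hJ : RingHom.ker (algebraMap B' B) ^ 2 = ⊥)
    [Algebra.Etale A B]
    (hJI : RingHom.ker (algebraMap B' B) = (RingHom.ker (algebraMap A' A)).map (algebraMap A' B'))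
    (hinj : Function.Injective ((RingHom.ker (algebraMap A' A)).subtype.baseChange B')) :
    Algebra.Etale A' B' := by
  classical
  let I := RingHom.ker (algebraMap A' A)
  have hII : I * I = ⊥ := by rw [← sq]; exact hI
  have hIB : I • (⊤ : Submodule A' B') = (RingHom.ker (algebraMap B' B)).restrictScalars A' := by
    rw [Ideal.smul_top_eq_map, hJI]
  -- flatness
  have h1 : Function.Injective (I.subtype.lTensor B') := hinj
  have h2 : Module.Flat (A' ⧸ I) ((A' ⧸ I) ⊗[A'] B') := by
    let φ : (A' ⧸ I) →+* A := RingHom.kerLift (algebraMap A' A)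
    let := φ.toAlgebra
    let : Algebra (A' ⧸ I) B := ((algebraMap A B).comp φ).toAlgebra
    have : IsScalarTower (A' ⧸ I) A B := IsScalarTower.of_algebraMap_eq fun _ => rfl
    have hφbij : Function.Bijective φ := ⟨RingHom.kerLift_injective _, fun a => by
      obtain ⟨x, rfl⟩ := hA a; exact ⟨Ideal.Quotient.mk _ x, rfl⟩⟩
    have : Module.Flat (A' ⧸ I) A := Module.Flat.of_linearEquiv
      (LinearEquiv.ofBijective (Algebra.linearMap (A' ⧸ I) A) hφbij).symm
    have hBflat : Module.Flat (A' ⧸ I) B := Module.Flat.trans (A' ⧸ I) A B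
    have : IsScalarTower A' (A' ⧸ I) B := IsScalarTower.of_algebraMap_eq fun x => by
      rw [IsScalarTower.algebraMap_apply A' A B]; rfl
    let toB : B' →ₗ[A'] B := (IsScalarTower.toAlgHom A' B' B).toLinearMap
    let ψ : B ≃ₗ[A'] (A' ⧸ I) ⊗[A'] B' :=
      (TensorProduct.quotTensorEquivQuotSMul B' I ≪≫ₗ Submodule.quotEquivOfEq _ (LinearMap.ker toB) (by
          rw [hIB]; ext z; simp [toB]) ≪≫ₗ toB.quotKerEquivOfSurjective hB).symm
    exact Module.Flat.of_linearEquiv (ψ.extendScalarsOfSurjective Ideal.Quotient.mk_surjective).symm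
  have hflat : Module.Flat A' B' := by
    rw [Module.Flat.iff_lTensor_injective]
    intro a _
    exact FlatCrit.injective_of_pow_smul_le h1 h2 2 a (by rw [hI, Submodule.bot_smul]; exact bot_le)
  have hII' : ∀ (X : Type u) [AddCommGroup X] [Module A' X] (S : Submodule A' X),
      I • (I • S) = ⊥ := fun X _ _ S => by
    rw [← Submodule.mul_smul, hII, Submodule.bot_smul]
  -- finite type
  have : Algebra.FinitePresentation A B := inferInstance
  have : Algebra.FiniteType A' A := Algebra.FiniteType.of_surjective (Algebra.ofId A' A) hA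
  have : Algebra.FiniteType A' B := Algebra.FiniteType.trans (S := A) inferInstance inferInstance
  obtain ⟨m, fB, hfB⟩ := Algebra.FiniteType.iff_quotient_mvPolynomial''.1 ‹Algebra.FiniteType A' B›
  choose x hx using fun i => hB (fB (MvPolynomial.X i))
  let π : MvPolynomial (Fin m) A' →ₐ[A'] B' := MvPolynomial.aeval x
  have hπB : (IsScalarTower.toAlgHom A' B' B).comp π = fB :=
    MvPolynomial.algHom_ext fun i => by simp [π, hx]
  have hπ : Function.Surjective π := by
    have hle : (⊤ : Submodule A' B') ≤ LinearMap.range π.toLinearMap ⊔ I • ⊤ := by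
      intro b _
      obtain ⟨p, hp⟩ := hfB (algebraMap B' B b)
      rw [← hπB] at hp
      refine Submodule.mem_sup.2 ⟨π p, ⟨p, rfl⟩, b - π p, ?_, add_sub_cancel _ _⟩
      rw [hIB]
      show algebraMap B' B (b - π p) = 0
      rw [map_sub, sub_eq_zero]; exact hp.symm
    intro b
    have h3 : I • (⊤ : Submodule A' B') ≤ LinearMap.range π.toLinearMap := by
      refine (Submodule.smul_mono le_rfl hle).trans ?_
      rw [Submodule.smul_sup, hII', sup_bot_eq]
      exact Submodule.smul_le_right
    exact (hle.trans (sup_le le_rfl h3)) Submodule.mem_top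
  -- finite presentation
  have : Algebra.FinitePresentation A' B' := by
    let K : Submodule A' (MvPolynomial (Fin m) A') := LinearMap.ker π.toLinearMap
    -- the kernel meets `I P` in `I K`
    have hKI : K ⊓ I • ⊤ ≤ I • K := by
      rintro y ⟨hy, hy'⟩
      let P := MvPolynomial (Fin m) A'
      let mul : (I : Submodule A' A') ⊗[A'] P →ₗ[A'] P :=
        (TensorProduct.lid A' P).toLinearMap ∘ₗ (I : Submodule A' A').subtype.rTensor P
      have hsurjmul : y ∈ LinearMap.range mul := by
        refine Submodule.smul_induction_on hy' (fun c hc z _ => ⟨⟨c, hc⟩ ⊗ₜ z, by simp [mul]⟩)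
          fun a b ha hb => add_mem ha hb
      obtain ⟨t, rfl⟩ := hsurjmul
      have ht : π.toLinearMap.lTensor (I : Submodule A' A') t = 0 := by
        have hinj' : Function.Injective ((TensorProduct.lid A' B').toLinearMap ∘ₗ
            (I : Submodule A' A').subtype.rTensor B') :=
          (TensorProduct.lid A' B').injective.comp ((LinearMap.lTensor_inj_iff_rTensor_inj _ _).1 h1)
        apply hinj'
        rw [map_zero]
        have hc : ∀ t, (TensorProduct.lid A' B').toLinearMap ((I : Submodule A' A').subtype.rTensor B'
            (π.toLinearMap.lTensor (I : Submodule A' A') t)) = π.toLinearMap (mul t) := by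
          intro t
          induction t using TensorProduct.induction_on with
          | zero => simp
          | tmul c z => simp [mul]
          | add a b ha hb => simp only [map_add, ha, hb]
        rw [LinearMap.comp_apply, hc]; exact hy
      obtain ⟨s, rfl⟩ := (lTensor_exact (I : Submodule A' A') (f := K.subtype)
        (LinearMap.exact_subtype_ker_map π.toLinearMap) hπ t).1 ht
      clear ht hy hy'
      induction s using TensorProduct.induction_on with
      | zero => simp
      | tmul c z => simp only [mul, LinearMap.lTensor_tmul, LinearMap.comp_apply, LinearMap.rTensor_tmul,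
          LinearEquiv.coe_coe, TensorProduct.lid_tmul]; exact Submodule.smul_mem_smul c.2 z.2
      | add a b ha hb => rw [map_add, map_add]; exact add_mem ha hb
    -- the kernel over `A` is finitely generated
    let q : MvPolynomial (Fin m) A' →+* MvPolynomial (Fin m) A := MvPolynomial.map (algebraMap A' A)
    have hq : Function.Surjective q := MvPolynomial.map_surjective _ hA
    let fA : MvPolynomial (Fin m) A →ₐ[A] B := MvPolynomial.aeval fun i => fB (MvPolynomial.X i)
    have hcomp : fA.toRingHom.comp q = fB.toRingHom := MvPolynomial.ringHom_ext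
      (fun r => by simp [q, fA, ← IsScalarTower.algebraMap_apply]) (fun i => by simp [q, fA])
    have hfA : Function.Surjective fA := fun b => by
      obtain ⟨p, rfl⟩ := hfB b; exact ⟨q p, RingHom.congr_fun hcomp p⟩
    obtain ⟨G, hG⟩ := Algebra.FinitePresentation.ker_fG_of_surjective fA hfA
    have hlift : ∀ g ∈ G, ∃ k, π k = 0 ∧ q k = g := by
      intro g hg
      have hgk : fA g = 0 := RingHom.mem_ker.1 (by
        have : g ∈ RingHom.ker fA.toRingHom := hG ▸ Ideal.subset_span hg
        exact this)
      obtain ⟨p, rfl⟩ := hq g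
      have hp : π p ∈ I • (⊤ : Submodule A' B') := by
        rw [hIB]
        show algebraMap B' B (π p) = 0
        rw [← hgk]
        exact (AlgHom.congr_fun hπB p).trans (RingHom.congr_fun hcomp p).symm
      have : I • (⊤ : Submodule A' B') = (I • (⊤ : Submodule A' (MvPolynomial (Fin m) A'))).map π.toLinearMap := by
        rw [Submodule.map_smul'', Submodule.map_top, LinearMap.range_eq_top.2 hπ]
      rw [this] at hp
      obtain ⟨i, hi, hip⟩ := hp
      refine ⟨p - i, by rw [map_sub, sub_eq_zero]; exact hip.symm, ?_⟩
      rw [map_sub, sub_eq_self]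
      refine Submodule.smul_induction_on hi (fun c hc z _ => ?_) fun a b ha hb => by rw [map_add, ha, hb, add_zero]
      rw [Algebra.smul_def, map_mul, MvPolynomial.algebraMap_eq,
        show q (MvPolynomial.C c) = 0 by simp [q, show algebraMap A' A c = 0 from hc], zero_mul]
    choose k hk hkq using hlift
    let K₀ : Ideal (MvPolynomial (Fin m) A') := Ideal.span (Set.range fun g : G => k g g.2)
    have hK₀ : K₀.restrictScalars A' ≤ K := fun z hz => by
      have : K₀ ≤ RingHom.ker π.toRingHom := Ideal.span_le.2 (by rintro _ ⟨g, rfl⟩; exact hk _ _)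
      exact this hz
    have hle : K ≤ K₀.restrictScalars A' ⊔ I • K := by
      intro z hz
      have h4 : q z ∈ K₀.map q := by
        have : q z ∈ RingHom.ker fA.toRingHom := by
          show fA (q z) = 0
          rw [show fA (q z) = fB z from RingHom.congr_fun hcomp z, ← hπB, AlgHom.comp_apply,
            show π z = 0 from hz, map_zero]
        have hle' : RingHom.ker fA.toRingHom ≤ K₀.map q := by
          refine le_trans (le_of_eq hG.symm) (Ideal.span_le.2 fun g hg => ?_)
          rw [← hkq g hg]
          exact Ideal.mem_map_of_mem q (Ideal.subset_span ⟨⟨g, hg⟩, rfl⟩)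
        exact hle' this
      obtain ⟨z₀, hz₀, hzz⟩ := (Ideal.mem_map_iff_of_surjective _ hq).1 h4
      refine Submodule.mem_sup.2 ⟨z₀, hz₀, z - z₀, hKI ⟨sub_mem hz (hK₀ hz₀), ?_⟩, add_sub_cancel _ _⟩
      have hker : q (z - z₀) = 0 := by rw [map_sub, hzz, sub_self]
      rw [Ideal.smul_top_eq_map]
      show z - z₀ ∈ I.map (algebraMap A' (MvPolynomial (Fin m) A'))
      rw [MvPolynomial.algebraMap_eq, MvPolynomial.mem_map_C_iff]
      intro n
      show algebraMap A' A _ = 0
      rw [← MvPolynomial.coeff_map]
      exact (congrArg (MvPolynomial.coeff n) hker).trans (MvPolynomial.coeff_zero n)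
    have hKeq : RingHom.ker π.toRingHom = K₀ := by
      refine le_antisymm (fun z hz => ?_) (fun z hz => hK₀ hz)
      have h3 : I • K ≤ K₀.restrictScalars A' := by
        refine (Submodule.smul_mono le_rfl hle).trans ?_
        rw [Submodule.smul_sup, hII', sup_bot_eq]
        exact Submodule.smul_le_right
      exact (hle.trans (sup_le le_rfl h3)) hz
    exact Algebra.FinitePresentation.of_surjective hπ (hKeq ▸ Submodule.fg_span (Set.finite_range _))
  -- unramified
  have : Algebra.FormallyUnramified A' B' := by
    have hA'A : Algebra.FormallyUnramified A' A :=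
      Algebra.FormallyUnramified.of_surjective (Algebra.ofId A' A) hA
    have : Algebra.FormallyUnramified A' B := Algebra.FormallyUnramified.comp A' A B
    have : Algebra.FiniteType A' B' := inferInstance
    have hz : ∀ j ∈ RingHom.ker (algebraMap B' B), (1 : B) ⊗ₜ[B'] KaehlerDifferential.D A' B' j = 0 := by
      intro j hj
      have hj' : j ∈ I • (⊤ : Submodule A' B') := hIB ▸ hj
      refine Submodule.smul_induction_on hj' (fun c hc b _ => ?_) fun a b ha hb => by
        rw [map_add, TensorProduct.tmul_add, ha, hb, add_zero]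
      rw [Derivation.map_smul, ← IsScalarTower.algebraMap_smul B' c (KaehlerDifferential.D A' B' b),
        ← TensorProduct.smul_tmul, Algebra.smul_def, ← IsScalarTower.algebraMap_apply,
        IsScalarTower.algebraMap_apply A' A B, show algebraMap A' A c = 0 from hc, map_zero, zero_mul,
        TensorProduct.zero_tmul]
    have hsub : Subsingleton (B ⊗[B'] (Ω[B'⁄A'])) := by
      refine subsingleton_of_forall_eq 0 fun w => ?_
      obtain ⟨e, rfl⟩ := (KaehlerDifferential.exact_kerCotangentToTensor_mapBaseChange A' B' B hB w).1
        (Subsingleton.elim _ _)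
      obtain ⟨e, rfl⟩ := Ideal.toCotangent_surjective _ e
      rw [KaehlerDifferential.kerCotangentToTensor_toCotangent]
      exact hz _ e.2
    have htop : (⊤ : Submodule B' (Ω[B'⁄A'])) ≤ RingHom.ker (algebraMap B' B) • ⊤ := by
      intro w _
      let e := (LinearEquiv.rTensor (Ω[B'⁄A']) ((Ideal.quotientKerAlgEquivOfSurjective
        (f := Algebra.ofId B' B) hB).symm.toLinearEquiv)) ≪≫ₗ
        TensorProduct.quotTensorEquivQuotSMul (Ω[B'⁄A']) (RingHom.ker (algebraMap B' B))
      exact (Submodule.Quotient.mk_eq_zero _).1 (e.symm.injective (Subsingleton.elim _ _))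
    refine ⟨subsingleton_of_forall_eq 0 fun w => ?_⟩
    have h5 : (⊤ : Submodule B' (Ω[B'⁄A'])) ≤ ⊥ := by
      refine (htop.trans (Submodule.smul_mono le_rfl htop)).trans ?_
      rw [← Submodule.mul_smul, ← sq, hJ, Submodule.bot_smul]
    exact h5 (Submodule.mem_top (x := w))
  exact Algebra.Etale.of_formallyUnramified_of_flat

end Groth.Agent.S9462
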