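import Groth.Statements.S9463
import Groth.Agent.ThickRingLib.Basic
-- import your own Groth.Agent.* helpers here

set_option autoImplicit false
universe u
open OmegaSh

namespace Groth.Agent.S9463

/-- Let A → B be formally unramified, π : B' → B a universal first order thickening of B relative to A,
and S ⊆ A a multiplicative subset. Localizing everything at S (A_S, B_S and B'_S with compatible
algebra structures, π_S : B'_S → B_S the A_S-algebra map induced by π), the map π_S is a universal
first order thickening of B_S relative to A_S. (The published statement adds the consequence that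
the conormal module localizes accordingly.) -/
theorem result (A B B' : Type u) [CommRing A] [CommRing B]
    [CommRing B'] [Algebra A B] [Algebra.FormallyUnramified A B] [Algebra A B'] (π : B' →ₐ[A] B)
    (hπ : OmegaSh.IsUnivThickeningRing A B B' π) (S : Submonoid A)
    (AS BS B'S : Type u) [CommRing AS] [CommRing BS] [CommRing B'S]
    [Algebra A AS] [IsLocalization S AS]
    [Algebra B BS] [IsLocalization (Algebra.algebraMapSubmonoid B S) BS]
    [Algebra B' B'S] [IsLocalization (Algebra.algebraMapSubmonoid B' S) B'S]
    [Algebra AS BS] [Algebra A BS] [IsScalarTower A AS BS] [IsScalarTower A B BS]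
    [Algebra AS B'S] [Algebra A B'S] [IsScalarTower A AS B'S] [IsScalarTower A B' B'S]
    (πS : B'S →ₐ[AS] BS) (hπS : ∀ x : B', πS (algebraMap B' B'S x) = algebraMap B BS (π x)) :
    OmegaSh.IsUnivThickeningRing AS BS B'S πS := by
  obtain ⟨hs, hk, hu⟩ := hπ
  obtain ⟨h1, h2⟩ := ThickRingLib.surj_and_ker π.toRingHom hs hk (Algebra.algebraMapSubmonoid B' S)
    (Algebra.algebraMapSubmonoid B S)
    (fun m hm => by
      obtain ⟨s, hs', rfl⟩ := hm
      exact ⟨s, hs', (π.commutes s).symm⟩)
    (fun n hn => by
      obtain ⟨s, hs', rfl⟩ := hn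
      exact ⟨algebraMap A B' s, ⟨s, hs', rfl⟩, π.commutes s⟩) πS.toRingHom hπS
  refine ⟨h1, h2, fun A' _ _ I hI a => ?_⟩
  letI : Algebra A A' := ((algebraMap AS A').comp (algebraMap A AS)).toAlgebra
  let a₀ : B →ₐ[A] A' ⧸ I :=
    { toRingHom := a.toRingHom.comp (algebraMap B BS)
      commutes' := fun r => by
        change a (algebraMap B BS (algebraMap A B r)) = Ideal.Quotient.mk I (algebraMap AS A' (algebraMap A AS r))
        rw [← IsScalarTower.algebraMap_apply A B BS, IsScalarTower.algebraMap_apply A AS BS]
        exact a.commutes _ }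
  obtain ⟨a', ha', huniq⟩ := hu A' I hI a₀
  have hunit : ∀ y : Algebra.algebraMapSubmonoid B' S, IsUnit (a'.toRingHom y) := by
    rintro ⟨_, s, hs', rfl⟩
    change IsUnit (a' (algebraMap A B' s))
    rw [AlgHom.commutes]
    exact (IsLocalization.map_units AS (⟨s, hs'⟩ : S)).map (algebraMap AS A')
  let g : B'S →+* A' := IsLocalization.lift hunit
  have hg : ∀ x, g (algebraMap B' B'S x) = a' x := IsLocalization.lift_eq hunit
  have hgA : g.comp (algebraMap AS B'S) = algebraMap AS A' := by
    refine IsLocalization.ringHom_ext S (RingHom.ext fun r => ?_)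
    change g (algebraMap AS B'S (algebraMap A AS r)) = _
    rw [← IsScalarTower.algebraMap_apply A AS B'S, IsScalarTower.algebraMap_apply A B' B'S, hg]
    exact a'.commutes r
  refine ⟨⟨g, fun r => RingHom.congr_fun hgA r⟩, ?_, ?_⟩
  · refine AlgHom.coe_ringHom_injective (IsLocalization.ringHom_ext (Algebra.algebraMapSubmonoid B' S) ?_)
    refine RingHom.ext fun x => ?_
    change Ideal.Quotient.mk I (g (algebraMap B' B'S x)) = a (πS (algebraMap B' B'S x))
    rw [hg, hπS]
    exact AlgHom.congr_fun ha' x
  · intro b hb
    refine AlgHom.coe_ringHom_injective (IsLocalization.ringHom_ext (Algebra.algebraMapSubmonoid B' S) ?_)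
    refine RingHom.ext fun x => ?_
    let b' : B' →ₐ[A] A' :=
      { toRingHom := b.toRingHom.comp (algebraMap B' B'S)
        commutes' := fun r => by
          change b (algebraMap B' B'S (algebraMap A B' r)) = algebraMap AS A' (algebraMap A AS r)
          rw [← IsScalarTower.algebraMap_apply A B' B'S, IsScalarTower.algebraMap_apply A AS B'S]
          exact b.commutes _ }
    have e : b' = a' := huniq _ <| AlgHom.ext fun y =>
      (AlgHom.congr_fun hb (algebraMap B' B'S y)).trans (congrArg a (hπS y))
    exact (AlgHom.congr_fun e x).trans (hg x).symm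

end Groth.Agent.S9463
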