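import Groth.Statements.S9464
import Groth.Agent.ThickRingLib.Basic
-- import your own Groth.Agent.* helpers here

set_option autoImplicit false
universe u
open OmegaSh

namespace Groth.Agent.S9464

/-- Let A → B be formally unramified, π : B' → B a universal first order thickening of B relative to A,
S ⊆ B a multiplicative subset and S' = π⁻¹(S) ⊆ B'. With B_S the localization of B at S, B'_{S'} the
localization of B' at S' (both as A-algebras) and π' : B'_{S'} → B_S the A-algebra map induced by π,
the map π' is a universal first order thickening of B_S relative to A. (The published statement adds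
the consequence that the conormal module localizes accordingly.) -/
theorem result (A B B' : Type u) [CommRing A] [CommRing B]
    [CommRing B'] [Algebra A B] [Algebra.FormallyUnramified A B] [Algebra A B'] (π : B' →ₐ[A] B)
    (hπ : OmegaSh.IsUnivThickeningRing A B B' π) (S : Submonoid B)
    (BS B'S : Type u) [CommRing BS] [CommRing B'S]
    [Algebra B BS] [IsLocalization S BS]
    [Algebra B' B'S] [IsLocalization (S.comap π.toRingHom.toMonoidHom) B'S]
    [Algebra A BS] [IsScalarTower A B BS] [Algebra A B'S] [IsScalarTower A B' B'S]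
    (πS : B'S →ₐ[A] BS) (hπS : ∀ x : B', πS (algebraMap B' B'S x) = algebraMap B BS (π x)) :
    OmegaSh.IsUnivThickeningRing A BS B'S πS := by
  obtain ⟨hs, hk, hu⟩ := hπ
  obtain ⟨h1, h2⟩ := ThickRingLib.surj_and_ker π.toRingHom hs hk (S.comap π.toRingHom.toMonoidHom) S
    (fun m hm => hm) (fun n hn => by
      obtain ⟨m, rfl⟩ := hs n
      exact ⟨m, hn, rfl⟩) πS.toRingHom hπS
  refine ⟨h1, h2, fun A' _ _ I hI a => ?_⟩
  obtain ⟨a', ha', huniq⟩ := hu A' I hI (a.comp (IsScalarTower.toAlgHom A B BS))
  have hunit : ∀ y : (S.comap π.toRingHom.toMonoidHom), IsUnit (a'.toRingHom y) := fun y =>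
    ThickRingLib.isUnit_of_mk hI (by
      rw [show Ideal.Quotient.mk I (a'.toRingHom y) = a (algebraMap B BS (π (y : B'))) from
        AlgHom.congr_fun ha' (y : B')]
      exact (IsLocalization.map_units BS (⟨π (y : B'), y.2⟩ : S)).map a)
  let g : B'S →+* A' := IsLocalization.lift hunit
  have hg : ∀ x, g (algebraMap B' B'S x) = a' x := IsLocalization.lift_eq hunit
  refine ⟨⟨g, fun r => ?_⟩, ?_, ?_⟩
  · change g (algebraMap A B'S r) = _
    rw [IsScalarTower.algebraMap_apply A B' B'S, hg]
    exact a'.commutes r
  · refine AlgHom.coe_ringHom_injective (IsLocalization.ringHom_ext (S.comap π.toRingHom.toMonoidHom) ?_)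
    refine RingHom.ext fun x => ?_
    change Ideal.Quotient.mk I (g (algebraMap B' B'S x)) = a (πS (algebraMap B' B'S x))
    rw [hg, hπS]
    exact AlgHom.congr_fun ha' x
  · intro b hb
    refine AlgHom.coe_ringHom_injective (IsLocalization.ringHom_ext (S.comap π.toRingHom.toMonoidHom) ?_)
    refine RingHom.ext fun x => ?_
    have e : b.comp (IsScalarTower.toAlgHom A B' B'S) = a' := huniq _ <| AlgHom.ext fun y =>
      (AlgHom.congr_fun hb (algebraMap B' B'S y)).trans (congrArg a (hπS y))
    exact (AlgHom.congr_fun e x).trans (hg x).symm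

end Groth.Agent.S9464
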