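import Groth.Statements.S9465
import Groth.Agent.Diff16EtaleLib.Main

set_option autoImplicit false
universe u
open Diff16

namespace Groth.Agent.S9465

open TensorProduct in
/-- Let R → S → S' be ring maps with S → S' formally étale, M, N modules over S and D : M → N a
differential operator of order at most k relative to R → S. Then D has exactly one extension to a
differential operator D' : S' ⊗_S M → S' ⊗_S N of order at most k relative to R → S', i.e. with D'(1
⊗ m) = 1 ⊗ D(m). (The published statement forms the base change of M over R rather than over S; with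
that reading uniqueness already fails for R the rationals, S = S' a polynomial ring in one variable,
M = N = S, D the identity and k = 1, and the published proof computes with the base change over S,
which is what this row uses. The published statement first identifies the base change to S' of the
module of principal parts of order k of M with that of S' ⊗_S M over R; this row states the
consequence for differential operators.) -/
theorem result (R S S' : Type u) [CommRing R]
    [CommRing S] [CommRing S'] [Algebra R S] [Algebra R S'] [Algebra S S'] [IsScalarTower R S S']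
    [Algebra.FormallyEtale S S'] (M N : Type u) [AddCommGroup M] [Module S M] [Module R M]
    [IsScalarTower R S M] [AddCommGroup N] [Module S N] [Module R N] [IsScalarTower R S N]
    (k : ℕ) (D : M →ₗ[R] N) (hD : Diff16.IsDiffOpLE R S M N k D) :
    ∃! D' : S' ⊗[S] M →ₗ[R] S' ⊗[S] N,
      Diff16.IsDiffOpLE R S' (S' ⊗[S] M) (S' ⊗[S] N) k D' ∧
        D' ∘ₗ (TensorProduct.mk S S' M 1).restrictScalars R =
          (TensorProduct.mk S S' N 1).restrictScalars R ∘ₗ D := by
  haveI : IsScalarTower S S' (S' ⊗[S] N) := inferInstance
  let D1 : M →ₗ[R] S' ⊗[S] N := (TensorProduct.mk S S' N 1).restrictScalars R ∘ₗ D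
  have hmk : Diff16.IsDiffOpLE R S N (S' ⊗[S] N) 0 ((TensorProduct.mk S S' N 1).restrictScalars R) :=
    fun b m => LinearMap.map_smul _ b m
  have hD1 : Diff16.IsDiffOpLE R S M (S' ⊗[S] N) k D1 := by
    have h := DiffOp16Lib.isDiffOpLE_comp k 0 D _ hD hmk
    exact h
  obtain ⟨D', hD', hext⟩ := Diff16EtaleLib.exists_extension (S' := S') k D1 hD1
  refine ⟨D', ⟨hD', LinearMap.ext fun m => hext m⟩, fun E hE => ?_⟩
  obtain ⟨hE, hEext⟩ := hE
  refine sub_eq_zero.1 (Diff16EtaleLib.eq_zero_of_one_tmul (S := S) k (E - D') ?_ fun m => ?_)
  · exact (Diff16EtaleLib.ops R S' _ _ k).sub_mem hE hD'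
  · rw [LinearMap.sub_apply, hext]
    exact sub_eq_zero.2 (LinearMap.congr_fun hEext m)

end Groth.Agent.S9465
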