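import Groth.Statements.S9468
import Mathlib.RingTheory.Etale.Basic
import Mathlib.RingTheory.LocalRing.ResidueField.Ideal

set_option autoImplicit false
universe u
open Hensel

namespace Groth.Agent.S9468

/-- Let R be a ring and p a prime of R. Consider pairs (S, q) with S an étale R-algebra and q a prime of
S lying over p such that κ(p) → κ(q) is bijective; a morphism of pairs is an R-algebra map pulling
the second prime back to the first. Then any two pairs admit morphisms of pairs to a common third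
pair. -/
theorem result (R : Type u) [CommRing R]
    (p : Ideal R) [p.IsPrime] (S₁ : Type u) [CommRing S₁] [Algebra R S₁] [Algebra.Etale R S₁] (q₁ : Ideal S₁) [q₁.IsPrime] (hq₁ : p = q₁.comap (algebraMap R S₁))
    (hq₁κ : Function.Bijective (Ideal.ResidueField.map p q₁ (algebraMap R S₁) hq₁))
    (S₂ : Type u) [CommRing S₂] [Algebra R S₂] [Algebra.Etale R S₂] (q₂ : Ideal S₂) [q₂.IsPrime] (hq₂ : p = q₂.comap (algebraMap R S₂))
    (hq₂κ : Function.Bijective (Ideal.ResidueField.map p q₂ (algebraMap R S₂) hq₂)) :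
    ∃ (S₃ : Type u) (_ : CommRing S₃) (_ : Algebra R S₃) (_ : Algebra.Etale R S₃) (q₃ : Ideal S₃)
      (_ : q₃.IsPrime) (hq₃ : p = q₃.comap (algebraMap R S₃)),
      Function.Bijective (Ideal.ResidueField.map p q₃ (algebraMap R S₃) hq₃) ∧
        ∃ (φ₁ : S₁ →ₐ[R] S₃) (φ₂ : S₂ →ₐ[R] S₃),
          q₃.comap φ₁.toRingHom = q₁ ∧ q₃.comap φ₂.toRingHom = q₂ := by
  let e₁ := RingEquiv.ofBijective _ hq₁κ
  let e₂ := RingEquiv.ofBijective _ hq₂κ
  have hc : ∀ (S : Type u) [CommRing S] [Algebra R S] (q : Ideal S) [q.IsPrime] (hq : p = q.comap (algebraMap R S)) r,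
      Ideal.ResidueField.map p q (algebraMap R S) hq (algebraMap R p.ResidueField r) =
        algebraMap S q.ResidueField (algebraMap R S r) := fun S _ _ q _ hq r =>
    Ideal.ResidueField.map_algebraMap p q (algebraMap R S) hq r
  let θ₁ : S₁ →ₐ[R] p.ResidueField := { e₁.symm.toRingHom.comp (algebraMap S₁ q₁.ResidueField) with
    commutes' := fun r => e₁.injective (by
      show e₁ (e₁.symm (algebraMap S₁ q₁.ResidueField (algebraMap R S₁ r))) = _
      rw [e₁.apply_symm_apply]; exact (hc S₁ q₁ hq₁ r).symm) }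
  let θ₂ : S₂ →ₐ[R] p.ResidueField := { e₂.symm.toRingHom.comp (algebraMap S₂ q₂.ResidueField) with
    commutes' := fun r => e₂.injective (by
      show e₂ (e₂.symm (algebraMap S₂ q₂.ResidueField (algebraMap R S₂ r))) = _
      rw [e₂.apply_symm_apply]; exact (hc S₂ q₂ hq₂ r).symm) }
  let ψ : TensorProduct R S₁ S₂ →ₐ[R] p.ResidueField :=
    Algebra.TensorProduct.lift θ₁ θ₂ fun _ _ => .all _ _
  haveI : Algebra.Etale R (TensorProduct R S₁ S₂) := Algebra.Etale.comp R S₁ _
  let q₃ := RingHom.ker ψ.toRingHom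
  haveI : q₃.IsPrime := RingHom.ker_isPrime _
  have hq₃ : p = q₃.comap (algebraMap R (TensorProduct R S₁ S₂)) := by
    ext r
    rw [Ideal.mem_comap, RingHom.mem_ker]
    show _ ↔ ψ (algebraMap R _ r) = 0
    rw [ψ.commutes, Ideal.algebraMap_residueField_eq_zero]
  let back : q₃.ResidueField →+* p.ResidueField :=
    Ideal.ResidueField.lift q₃ ψ.toRingHom le_rfl fun x hx => (isUnit_iff_ne_zero.2 hx)
  have hback : back.comp (Ideal.ResidueField.map p q₃ (algebraMap R _) hq₃) = RingHom.id _ :=
    Ideal.ResidueField.ringHom_ext (RingHom.ext fun r => by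
      show back (Ideal.ResidueField.map p q₃ (algebraMap R _) hq₃ (algebraMap R p.ResidueField r)) = _
      rw [hc _ q₃ hq₃ r, Ideal.ResidueField.lift_algebraMap]
      exact ψ.commutes r)
  refine ⟨TensorProduct R S₁ S₂, inferInstance, inferInstance, inferInstance, q₃, inferInstance, hq₃,
    ⟨RingHom.injective _, fun y => ⟨back y, back.injective (RingHom.congr_fun hback (back y))⟩⟩,
    Algebra.TensorProduct.includeLeft, Algebra.TensorProduct.includeRight, ?_, ?_⟩
  · ext x
    show ψ (x ⊗ₜ[R] 1) = 0 ↔ _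
    rw [Algebra.TensorProduct.lift_tmul, map_one, mul_one]
    show e₁.symm (algebraMap S₁ q₁.ResidueField x) = 0 ↔ _
    rw [map_eq_zero_iff _ e₁.symm.injective, Ideal.algebraMap_residueField_eq_zero]
  · ext x
    show ψ (1 ⊗ₜ[R] x) = 0 ↔ _
    rw [Algebra.TensorProduct.lift_tmul, map_one, one_mul]
    show e₂.symm (algebraMap S₂ q₂.ResidueField x) = 0 ↔ _
    rw [map_eq_zero_iff _ e₂.symm.injective, Ideal.algebraMap_residueField_eq_zero]

end Groth.Agent.S9468
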