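import Groth.Statements.S9469
import Mathlib
-- import your own Groth.Agent.* helpers here

set_option autoImplicit false
universe u
open scoped TensorProduct
open Hensel

namespace Groth.Agent.S9469

set_option maxHeartbeats 400000

/-- Let R be a ring and p a prime of R. Consider pairs (S, q) with S an étale R-algebra and q a prime of
S lying over p such that κ(p) → κ(q) is bijective; a morphism of pairs is an R-algebra map pulling
the second prime back to the first. Then any two parallel morphisms of pairs φ, ψ : (S₁, q₁) → (S₂,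
q₂) are coequalized by a morphism of pairs (S₂, q₂) → (S₃, q₃). -/
theorem result (R : Type u) [CommRing R]
    (p : Ideal R) [p.IsPrime] (S₁ : Type u) [CommRing S₁] [Algebra R S₁] [Algebra.Etale R S₁] (q₁ : Ideal S₁) [q₁.IsPrime] (hq₁ : p = q₁.comap (algebraMap R S₁))
    (hq₁κ : Function.Bijective (Ideal.ResidueField.map p q₁ (algebraMap R S₁) hq₁))
    (S₂ : Type u) [CommRing S₂] [Algebra R S₂] [Algebra.Etale R S₂] (q₂ : Ideal S₂) [q₂.IsPrime] (hq₂ : p = q₂.comap (algebraMap R S₂))
    (hq₂κ : Function.Bijective (Ideal.ResidueField.map p q₂ (algebraMap R S₂) hq₂))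
    (φ ψ : S₁ →ₐ[R] S₂) (hφ : q₂.comap φ.toRingHom = q₁) (hψ : q₂.comap ψ.toRingHom = q₁) :
    ∃ (S₃ : Type u) (_ : CommRing S₃) (_ : Algebra R S₃) (_ : Algebra.Etale R S₃) (q₃ : Ideal S₃)
      (_ : q₃.IsPrime) (hq₃ : p = q₃.comap (algebraMap R S₃)),
      Function.Bijective (Ideal.ResidueField.map p q₃ (algebraMap R S₃) hq₃) ∧
        ∃ χ : S₂ →ₐ[R] S₃, q₃.comap χ.toRingHom = q₂ ∧ χ.comp φ = χ.comp ψ := by
  classical
  let Θ : S₁ ⊗[R] S₁ →ₐ[R] S₂ := Algebra.TensorProduct.lift φ ψ fun _ _ => Commute.all _ _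
  let e := Algebra.FormallyUnramified.elem R S₁
  let s : S₂ := Θ e
  have hs0 : ∀ x : S₁, (ψ x - φ x) * s = 0 := fun x => by
    have h := congrArg Θ (Algebra.FormallyUnramified.one_tmul_sub_tmul_one_mul_elem (R := R) x)
    rw [map_mul, map_sub, map_zero] at h
    simpa [Θ] using h
  let aφ : q₁.ResidueField →+* q₂.ResidueField := Ideal.ResidueField.map q₁ q₂ φ.toRingHom hφ.symm
  let aψ : q₁.ResidueField →+* q₂.ResidueField := Ideal.ResidueField.map q₁ q₂ ψ.toRingHom hψ.symm
  have heq : aφ = aψ := by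
    refine RingHom.ext fun z => ?_
    obtain ⟨w, rfl⟩ := hq₁κ.2 z
    have : aφ.comp (Ideal.ResidueField.map p q₁ (algebraMap R S₁) hq₁) =
        aψ.comp (Ideal.ResidueField.map p q₁ (algebraMap R S₁) hq₁) := by
      refine Ideal.ResidueField.ringHom_ext (RingHom.ext fun r => ?_)
      simp [aφ, aψ, Ideal.ResidueField.map_algebraMap]
    exact RingHom.congr_fun this w
  have hx : ∀ x : S₁, algebraMap S₂ q₂.ResidueField (φ x) = algebraMap S₂ q₂.ResidueField (ψ x) := fun x => by
    have := RingHom.congr_fun heq (algebraMap S₁ q₁.ResidueField x)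
    simpa [aφ, aψ, Ideal.ResidueField.map_algebraMap] using this
  have hres : ∀ t : S₁ ⊗[R] S₁, algebraMap S₂ q₂.ResidueField (Θ t) =
      algebraMap S₂ q₂.ResidueField (φ (Algebra.TensorProduct.lmul' R t)) := by
    intro t
    induction t using TensorProduct.induction_on with
    | zero => simp
    | tmul a b =>
      simp only [Θ, Algebra.TensorProduct.lift_tmul, Algebra.TensorProduct.lmul'_apply_tmul]
      rw [map_mul, ← hx b, ← map_mul, ← map_mul]
    | add a b ha hb => simp only [map_add, ha, hb]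
  have hsq : s ∉ q₂ := fun hmem => by
    have h := hres e
    rw [Algebra.FormallyUnramified.lmul_elem, map_one, map_one,
      show algebraMap S₂ q₂.ResidueField (Θ e) = 0 from Ideal.algebraMap_residueField_eq_zero.mpr hmem] at h
    exact zero_ne_one h
  let S₃ := Localization.Away s
  have hdisj : Disjoint (Submonoid.powers s : Set S₂) q₂ := Set.disjoint_left.mpr fun y hy hy' => by
    obtain ⟨n, rfl⟩ := hy
    exact hsq (‹q₂.IsPrime›.mem_of_pow_mem n hy')
  let q₃ : Ideal S₃ := q₂.map (algebraMap S₂ S₃)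
  haveI hq₃p : q₃.IsPrime := IsLocalization.isPrime_of_isPrime_disjoint _ _ q₂ ‹_› hdisj
  have hq₃₂ : q₃.comap (algebraMap S₂ S₃) = q₂ :=
    IsLocalization.comap_map_of_isPrime_disjoint _ _ ‹_› hdisj
  have hq₃ : p = q₃.comap (algebraMap R S₃) := by
    rw [IsScalarTower.algebraMap_eq R S₂ S₃, ← Ideal.comap_comap, hq₃₂]; exact hq₂
  refine ⟨S₃, inferInstance, inferInstance, inferInstance, q₃, hq₃p, hq₃, ?_,
    IsScalarTower.toAlgHom R S₂ S₃, hq₃₂, ?_⟩
  · have hb := RingHom.SurjectiveOnStalks.residueFieldMap_bijective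
      (RingHom.surjectiveOnStalks_of_isLocalization (M := Submonoid.powers s) S₃) q₂ q₃ hq₃₂.symm
    have hc : Ideal.ResidueField.map p q₃ (algebraMap R S₃) hq₃ =
        (Ideal.ResidueField.map q₂ q₃ (algebraMap S₂ S₃) hq₃₂.symm).comp
          (Ideal.ResidueField.map p q₂ (algebraMap R S₂) hq₂) := by
      refine Ideal.ResidueField.ringHom_ext (RingHom.ext fun r => ?_)
      simp only [RingHom.comp_apply, Ideal.ResidueField.map_algebraMap]
      rw [← IsScalarTower.algebraMap_apply R S₂ S₃]
    rw [hc]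
    exact hb.comp hq₂κ
  · refine AlgHom.ext fun x => ?_
    have h := congrArg (algebraMap S₂ S₃) (hs0 x)
    rw [map_mul, map_zero, (IsLocalization.Away.algebraMap_isUnit s).mul_left_eq_zero, map_sub, sub_eq_zero] at h
    exact h.symm

end Groth.Agent.S9469
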