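import Groth.Statements.S9472
import Groth.Agent.Diff16EtaleLib.Main

set_option autoImplicit false
universe u
open Diff16

namespace Groth.Agent.S9472

open TensorProduct in
/-- Let R → S → S' be ring maps with S → S' formally étale, M an S-module and (P, D_u) a module of
principal parts of order k of M relative to R → S, i.e. D_u : M → P is a differential operator of
order at most k through which every differential operator of order at most k from M to an S-module
factors by a unique S-linear map. If D_u' : S' ⊗_S M → S' ⊗_S P is a differential operator of order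
at most k relative to R → S' with D_u'(1 ⊗ m) = 1 ⊗ D_u(m), then (S' ⊗_S P, D_u') is a module of
principal parts of order k of S' ⊗_S M relative to R → S'. (The published statement writes this as
an identification of S' ⊗_S P^k_{S/R}(M) with P^k_{S'/R}(M') and forms M' by base change over R
rather than over S; with base change over R the identification fails already for k = 0, R the
rationals, S = S' a polynomial ring in one variable and M = S, and the published proof computes with
the base change over S, used here. Target modules are taken in one universe.) -/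
theorem result (R S S' : Type u) [CommRing R]
    [CommRing S] [CommRing S'] [Algebra R S] [Algebra R S'] [Algebra S S'] [IsScalarTower R S S']
    [Algebra.FormallyEtale S S'] (M : Type u) [AddCommGroup M] [Module S M] [Module R M]
    [IsScalarTower R S M] (k : ℕ) (P : Type u) [AddCommGroup P] [Module S P] [Module R P]
    [IsScalarTower R S P] (Du : M →ₗ[R] P) (hDu : Diff16.IsDiffOpLE R S M P k Du)
    (huniv : ∀ (N : Type u) [AddCommGroup N] [Module S N] [Module R N] [IsScalarTower R S N]
      (D : M →ₗ[R] N), Diff16.IsDiffOpLE R S M N k D → ∃! α : P →ₗ[S] N, α.restrictScalars R ∘ₗ Du = D)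
    (Du' : S' ⊗[S] M →ₗ[R] S' ⊗[S] P) (hDu' : Diff16.IsDiffOpLE R S' (S' ⊗[S] M) (S' ⊗[S] P) k Du')
    (hext : Du' ∘ₗ (TensorProduct.mk S S' M 1).restrictScalars R =
      (TensorProduct.mk S S' P 1).restrictScalars R ∘ₗ Du) :
    ∀ (N' : Type u) [AddCommGroup N'] [Module S' N'] [Module R N'] [IsScalarTower R S' N']
      (D' : S' ⊗[S] M →ₗ[R] N'), Diff16.IsDiffOpLE R S' (S' ⊗[S] M) N' k D' →
        ∃! α : S' ⊗[S] P →ₗ[S'] N', α.restrictScalars R ∘ₗ Du' = D' := by
  intro N' _ _ _ _ D' hD'
  letI : Module S N' := Module.compHom N' (algebraMap S S')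
  haveI : IsScalarTower S S' N' := IsScalarTower.of_algebraMap_smul fun _ _ => rfl
  haveI : IsScalarTower R S N' := IsScalarTower.of_algebraMap_smul fun r n => by
    change algebraMap S S' (algebraMap R S r) • n = r • n
    rw [← IsScalarTower.algebraMap_apply, algebraMap_smul]
  have hres : ∀ (n : ℕ) (E : S' ⊗[S] M →ₗ[R] N'), Diff16.IsDiffOpLE R S' (S' ⊗[S] M) N' n E →
      Diff16.IsDiffOpLE R S M N' n (E ∘ₗ (TensorProduct.mk S S' M 1).restrictScalars R) := by
    have key : ∀ (b : S) (m : M), (1 : S') ⊗ₜ[S] (b • m) = algebraMap S S' b • ((1 : S') ⊗ₜ[S] m) :=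
      fun b m => by rw [TensorProduct.tmul_smul, algebraMap_smul]
    intro n
    induction n with
    | zero =>
      intro E hE b m
      change E ((1 : S') ⊗ₜ[S] (b • m)) = algebraMap S S' b • E ((1 : S') ⊗ₜ[S] m)
      rw [key, hE]
    | succ n ih =>
      intro E hE b
      convert ih _ (hE (algebraMap S S' b)) using 1
      ext m
      change E ((1 : S') ⊗ₜ[S] (b • m)) - algebraMap S S' b • E ((1 : S') ⊗ₜ[S] m) =
        E (algebraMap S S' b • ((1 : S') ⊗ₜ[S] m)) - _
      rw [key]
      rfl
  obtain ⟨α₀, hα₀, huniq⟩ := huniv N' _ (hres k D' hD')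
  have hDu'' : ∀ m : M, Du' ((1 : S') ⊗ₜ[S] m) = (1 : S') ⊗ₜ[S] Du m := fun m => LinearMap.congr_fun hext m
  have hlin : ∀ (β : S' ⊗[S] P →ₗ[S'] N'),
      Diff16.IsDiffOpLE R S' (S' ⊗[S] M) N' k (β.restrictScalars R ∘ₗ Du') := fun β =>
    DiffOp16Lib.isDiffOpLE_comp k 0 Du' _ hDu' (fun b p => LinearMap.map_smul β b p)
  refine ⟨α₀.liftBaseChange S', sub_eq_zero.1 (Diff16EtaleLib.eq_zero_of_one_tmul (S := S) k _
    ((Diff16EtaleLib.ops R S' _ _ k).sub_mem (hlin _) hD') fun m => ?_), fun β hβ => ?_⟩
  · rw [LinearMap.sub_apply, LinearMap.comp_apply, LinearMap.restrictScalars_apply, hDu'',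
      LinearMap.liftBaseChange_tmul, one_smul]
    exact sub_eq_zero.2 (LinearMap.congr_fun hα₀ m)
  · have h : (β.restrictScalars S ∘ₗ (TensorProduct.mk S S' P 1)) = α₀ := by
      refine huniq _ (LinearMap.ext fun m => ?_)
      change β ((1 : S') ⊗ₜ[S] Du m) = D' ((1 : S') ⊗ₜ[S] m)
      rw [← hDu'', ← hβ]
      rfl
    rw [← h]
    ext p
    simp

end Groth.Agent.S9472
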