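import Groth.Statements.S9477
import Mathlib.RingTheory.TensorProduct.Maps

set_option autoImplicit false
universe u
open Pi1

namespace Groth.Agent.S9477

open TensorProduct in
/-- For a finite group G acting on a commutative ring R with invariant ring R^G, an R^G-algebra A, a
prime q of R and a prime q' of A ⊗_{R^G} R whose preimage under r ↦ 1 ⊗ r is q, the inertia group of
q, namely the elements σ of G with σ(x) - x ∈ q for all x ∈ R, equals the inertia group of q' for
the action of G on A ⊗_{R^G} R through the second factor: σ lies in the first if and only if τ(y) -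
y ∈ q' for all y, where τ = id ⊗ σ. -/
theorem result (G R : Type u) [Group G] [Finite G] [CommRing R] [MulSemiringAction G R]
    (A : Type u) [CommRing A] [Algebra (FixedPoints.subring R G) A]
    (q : Ideal R) [q.IsPrime] (q' : Ideal (A ⊗[FixedPoints.subring R G] R)) [q'.IsPrime]
    (hq : q'.comap (Algebra.TensorProduct.includeRight : R →ₐ[FixedPoints.subring R G] A ⊗[FixedPoints.subring R G] R) = q)
    (σ : G) :
    σ ∈ q.inertia G ↔
      ∀ y : A ⊗[FixedPoints.subring R G] R,
        Algebra.TensorProduct.map (AlgHom.id (FixedPoints.subring R G) A)
          (MulSemiringAction.toAlgHom (FixedPoints.subring R G) R σ) y - y ∈ q' := by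
  constructor
  · intro h y
    induction y using TensorProduct.induction_on with
    | zero => simp
    | tmul a x =>
      have h1 : (1 : A) ⊗ₜ[FixedPoints.subring R G] (σ • x - x) ∈ q' := by
        have := h x
        rw [← hq] at this
        exact this
      have h2 := q'.mul_mem_left (a ⊗ₜ[FixedPoints.subring R G] (1 : R)) h1
      rw [Algebra.TensorProduct.tmul_mul_tmul, mul_one, one_mul, TensorProduct.tmul_sub] at h2
      exact h2
    | add y z hy hz =>
      rw [map_add, add_sub_add_comm]
      exact add_mem hy hz
  · intro h x
    have h1 := h (1 ⊗ₜ x)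
    show σ • x - x ∈ q
    rw [← hq, Ideal.mem_comap, map_sub]
    exact h1

end Groth.Agent.S9477
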