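import Groth.Statements.S9480
import Groth.Agent.S3381
import Groth.Agent.ProVanLib.Lef
import Groth.Agent.LeffEtLib.Ext
import Groth.Agent.ProjLefLib.FEtEquiv

set_option autoImplicit false
universe u
open Pi1

namespace Groth.Agent.S9480

open AlgebraicGeometry CategoryTheory CategoryTheory.Limits in
/-- X is proper over a field k, L is an ample invertible O_X-module, s a global section of L and Y =
Z(s) its zero scheme. Assume depth(O_{X,x}) + dim(closure of x) > 2 for every point x of X not in Y.
Then every finite etale cover R of Y is isomorphic, over Y, to the restriction of a finite etale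
cover R' of some open subscheme V of X containing Y; here both R and R' are restricted to Y ×_X V
(which maps isomorphically to Y). Together with full faithfulness of restriction from every such V,
this says that restriction from the system of open neighbourhoods of Y to Y is an equivalence. -/
theorem result (k : Type u) [Field k] (X : Scheme.{u})
    (f : X ⟶ Spec (CommRingCat.of k)) [IsProper f] (L : X.Modules) (hL : CohB1.IsAmple L)
    (s : Coh.structureModule X ⟶ L)
    (hd : ∀ x : X, x ∉ (PicF2.zeroScheme L s).support →
      (2 : WithBot ℕ∞) < (LocCoh.depth (X.presheaf.stalk x) (X.presheaf.stalk x) : WithBot ℕ∞) +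
        topologicalKrullDim (closure ({x} : Set X)))
    (R : FEt.Cat ((PicF2.zeroScheme L s).subscheme)) :
    ∃ (V : X.Opens) (R' : FEt.Cat (V : Scheme.{u})), ((PicF2.zeroScheme L s).support : Set X) ⊆ V ∧
      Nonempty ((FEt.restrict (pullback.snd (PicF2.zeroScheme L s).subschemeι V.ι)).obj R' ≅
        (FEt.restrict (pullback.fst (PicF2.zeroScheme L s).subschemeι V.ι)).obj R) := by
  letI : X.Over (Spec (CommRingCat.of k)) := ⟨f⟩
  haveI : IsProper (X ↘ Spec (CommRingCat.of k)) := ‹IsProper f›
  haveI : IsNoetherian X := CurvLib.isNoetherian k (X := X)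
  have hd2 : ∀ x : X, IsClosed ({x} : Set X) → x ∉ ((PicF2.zeroScheme L s).support : Set X) →
      (2 : ℕ∞) ≤ LocCoh.depth (X.presheaf.stalk x) (X.presheaf.stalk x) := fun x hx hxs => by
    haveI : Subsingleton ↥(closure ({x} : Set X)) := by
      rw [hx.closure_eq]
      infer_instance
    haveI : Nonempty ↥(closure ({x} : Set X)) := ⟨⟨x, subset_closure rfl⟩⟩
    have h' := (hd x hxs).trans_le
      (add_le_add_right (topologicalKrullDim_zero_of_discreteTopology ↥(closure ({x} : Set X))) _)
    rw [add_zero] at h'
    exact WithBot.coe_le_coe.1 h'.le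
  have h : LefX.LeffCond X (PicF2.zeroScheme L s) :=
    ⟨ProVanLib.lefCond_of_closed k s hL hd2, fun 𝔐 h𝔐 => Groth.Agent.S3381.result k X f L hL s hd 𝔐 h𝔐⟩
  obtain ⟨U, R', hU, hR⟩ := LeffEt.exists_nhd_extension h R
  let I := PicF2.zeroScheme L s
  have hr : Set.range I.subschemeι ⊆ Set.range U.ι := by
    rw [Scheme.IdealSheafData.range_subschemeι, Scheme.Opens.range_ι]
    exact hU
  let i := IsOpenImmersion.lift U.ι I.subschemeι hr
  have hi : i ≫ U.ι = I.subschemeι := IsOpenImmersion.lift_fac _ _ _
  obtain ⟨e⟩ := hR i hi
  have hfst : pullback.fst I.subschemeι U.ι ≫ i = pullback.snd I.subschemeι U.ι := by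
    rw [← cancel_mono U.ι, Category.assoc, hi, pullback.condition]
  exact ⟨U, R', hU, ⟨(LeffEt.restrictComp (pullback.fst I.subschemeι U.ι) i _ hfst.symm).app R' ≪≫
    (FEt.restrict (pullback.fst I.subschemeι U.ι)).mapIso e⟩⟩

end Groth.Agent.S9480
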