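import Groth.Statements.S9490
import Groth.Agent.PurSmoothLib.Main

set_option autoImplicit false
set_option backward.isDefEq.respectTransparency false
set_option backward.isDefEq.respectTransparency.types false
set_option maxRecDepth 8000
set_option maxHeartbeats 1000000
universe u
open Pi1

namespace Groth.Agent.S9490

open AlgebraicGeometry CategoryTheory CategoryTheory.Limits in
/-- Let A → B be a local homomorphism of Noetherian local rings. Assume depth A ≥ 2, that the map is
formally smooth when B carries its m_B-adic topology, and that the Krull dimension of A is strictly
below that of B. Let V ⊆ Spec B be an open subset containing every prime q of B whose contraction to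
A is not the maximal ideal m_A, and containing the prime m_A B. Then restriction of finite etale
covers from Spec B to V is an equivalence of categories. (Taking V to be the punctured spectrum
shows that purity holds for B.) -/
theorem result (A B : Type u) [CommRing A] [IsNoetherianRing A] [IsLocalRing A]
    [CommRing B] [IsNoetherianRing B] [IsLocalRing B] [Algebra A B] [IsLocalHom (algebraMap A B)]
    (hdepth : (2 : ℕ∞) ≤ LocCoh.depth A A)
    (hfs : CAlgX.IsAdicFormallySmooth A B (IsLocalRing.maximalIdeal B))
    (hdim : ringKrullDim A < ringKrullDim B)
    (V : (Spec (CommRingCat.of B)).Opens)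
    (hV1 : ∀ q : PrimeSpectrum B, q.asIdeal.comap (algebraMap A B) ≠ IsLocalRing.maximalIdeal A → q ∈ V)
    (hV2 : ∀ q : PrimeSpectrum B, q.asIdeal = (IsLocalRing.maximalIdeal A).map (algebraMap A B) → q ∈ V) :
    (FEt.restrict V.ι).IsEquivalence := by
  exact PurSmooth.restrict_isEquivalence_of_adicFS hdepth hfs V hV1 hV2

end Groth.Agent.S9490
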