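import Groth.Statements.S9494
import Groth.Agent.InertiaEtaleLib.Interp
import Groth.Agent.InertiaEtaleLib.Element
import Groth.Agent.InertiaEtaleLib.Lift
import Groth.Agent.InertiaEtaleLib.IndEt

set_option autoImplicit false
set_option maxHeartbeats 1000000
set_option synthInstance.maxHeartbeats 80000
universe u
open Pi1

namespace Groth.Agent.S9494

open scoped Pointwise

/-- Let A be an integrally closed domain with fraction field K, L/K a (possibly infinite) Galois
extension with group G = Gal(L/K), B the integral closure of A in L and q a prime of B. Let I ⊆ G be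
the inertia group of q: the automorphisms σ with σ(b) - b ∈ q for every b ∈ B. Then the localization
of the ring of invariants B^I = B ∩ L^I at the prime q ∩ B^I is an ind-etale A-algebra, i.e. a
filtered colimit of etale A-algebras. -/
theorem result (A K L : Type u) [CommRing A] [IsDomain A] [IsIntegrallyClosed A]
    [Field K] [Field L] [Algebra A K] [IsFractionRing A K] [Algebra K L] [Algebra A L] [IsScalarTower A K L]
    [IsGalois K L] (q : Ideal (integralClosure A L)) [q.IsPrime]
    (I : Subgroup (L ≃ₐ[K] L))
    (hI : ∀ σ : L ≃ₐ[K] L, σ ∈ I ↔ ∀ b : integralClosure A L, ∃ c ∈ q, (c : L) = σ b - b) :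
    EtPBC.IsIndEtale A (Localization.AtPrime
      (q.comap (Subalgebra.inclusion
        (inf_le_left : integralClosure A L ⊓ (IntermediateField.fixedField I).toSubalgebra.restrictScalars A ≤
          integralClosure A L)))) := by
  classical
  set B' := integralClosure A L ⊓ (IntermediateField.fixedField I).toSubalgebra.restrictScalars A
  set q' := q.comap (Subalgebra.inclusion
    (inf_le_left : B' ≤ integralClosure A L))
  refine InertiaEtaleLib.isIndEtale_of_finset A _ fun s => ?_
  choose num den hnd using fun x : Localization.AtPrime q' =>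
    IsLocalization.exists_mk'_eq q'.primeCompl x
  let d : B' := ∏ x ∈ s, (den x : B')
  have hd : d ∉ q' := fun h => by
    obtain ⟨x, -, hx⟩ := (Ideal.IsPrime.prod_mem_iff (p := q')).1 h
    exact (den x).2 hx
  let t : Finset L := s.image (fun x => ((num x : B') : L)) ∪ s.image (fun x => (((den x : B')) : L))
  let M := FiniteGaloisIntermediateField.adjoin K (t : Set L)
  let E := M.toIntermediateField
  have htE : ∀ y ∈ t, y ∈ E := fun y hy => FiniteGaloisIntermediateField.subset_adjoin K _ hy
  let B := integralClosure A E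
  let ι : B →ₐ[A] integralClosure A L :=
    AlgHom.mapIntegralClosure ((IntermediateField.val E).restrictScalars A)
  let G := E ≃ₐ[K] E
  letI : MulSemiringAction G B :=
    MulSemiringAction.compHom B (
      { toFun := fun γ => (γ.restrictScalars A).mapIntegralClosure.toRingEquiv
        map_one' := RingEquiv.ext fun x => Subtype.ext rfl
        map_mul' := fun _ _ => RingEquiv.ext fun x => Subtype.ext rfl } : G →* (B ≃+* B))
  have hsmul : ∀ (γ : G) (x : B), ((γ • x : B) : E) = γ x := fun _ _ => rfl
  let qE := q.comap ι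
  let H := qE.inertia G
  let BH : Subalgebra A B :=
    { FixedPoints.subring B H with
      algebraMap_mem' := fun r h => Subtype.ext (((h : G).restrictScalars A).commutes r) }
  have hres : ∀ τ ∈ I, ∀ x : BH, τ ((x : B) : E) = (((x : B) : E) : L) := by
    intro τ hτ x
    have hτE : τ.restrictNormal E ∈ H := fun y => by
      obtain ⟨c, hc, hc'⟩ := (hI τ).1 hτ (ι y)
      show ι (τ.restrictNormal E • y - y) ∈ q
      convert hc using 1
      refine Subtype.ext (Eq.trans ?_ hc'.symm)
      rw [map_sub]
      show ((τ.restrictNormal E (y : E) : E) : L) - ((y : E) : L) = _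
      rw [show ((τ.restrictNormal E (y : E) : E) : L) = τ ((y : E) : L) from
        τ.restrictNormal_commutes E _]
      rfl
    have := congrArg (fun z : B => ((z : E) : L)) (x.2 ⟨_, hτE⟩)
    exact (τ.restrictNormal_commutes E _).symm.trans this
  let j : BH →ₐ[A] B' := ((integralClosure A L).val.comp (ι.comp BH.val)).codRestrict B' fun x =>
    ⟨(ι x).2, (IntermediateField.mem_fixedField_iff _ _).2 fun τ hτ => hres τ hτ x⟩
  have hj : Function.Injective j := fun x y h => Subtype.ext (Subtype.ext (Subtype.ext
    (congrArg (fun z : B' => (z : L)) h)))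
  have hlift : ∀ b : B', (b : L) ∈ E → ∃ x : BH, j x = b := by
    intro b hb
    have hint : IsIntegral A (⟨b, hb⟩ : E) :=
      (isIntegral_algHom_iff ((IntermediateField.val E).restrictScalars A) Subtype.val_injective).1 b.2.1
    refine ⟨⟨⟨_, hint⟩, fun γ => Subtype.ext (Subtype.ext ?_)⟩, Subtype.ext rfl⟩
    obtain ⟨g, hg⟩ := AlgEquiv.restrictNormalHom_surjective (K₁ := E) L (γ : G)
    obtain ⟨τ, hτE, hτI⟩ := InertiaEtaleLib.exists_lift_inertia q E g (fun y hy => by
      have hy' : IsIntegral A (⟨y, hy⟩ : E) :=
        (isIntegral_algHom_iff ((IntermediateField.val E).restrictScalars A) Subtype.val_injective).1 y.2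
      have h1 : ι ((γ : G) • (⟨_, hy'⟩ : B) - ⟨_, hy'⟩) ∈ q := γ.2 ⟨_, hy'⟩
      convert h1 using 1
      rw [map_sub]
      refine congrArg (fun z => z - y) (Subtype.ext ?_)
      show g (y : L) = (((γ : G) ⟨(y : L), hy⟩ : E) : L)
      rw [← hg]
      exact (g.restrictNormal_commutes E ⟨(y : L), hy⟩).symm)
    have hmem : τ ∈ I := (hI τ).2 fun z => ⟨_, hτI z, rfl⟩
    show (((γ : G) ⟨(b : L), hb⟩ : E) : L) = b
    rw [← hg]
    exact (g.restrictNormal_commutes E _).trans
      ((hτE _ hb).symm.trans ((IntermediateField.mem_fixedField_iff _ _).1 b.2.2 τ hmem))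
  have : IsScalarTower A BH B := IsScalarTower.of_algebraMap_eq fun _ => rfl
  have hAinj : Function.Injective (algebraMap A B) := fun x y h => IsFractionRing.injective A K
    ((algebraMap K E).injective (by
      rw [← IsScalarTower.algebraMap_apply A K E, ← IsScalarTower.algebraMap_apply A K E]
      exact congrArg Subtype.val h))
  have hA : ∀ y : B, (∀ γ : G, γ • y = y) → y ∈ Set.range (algebraMap A B) := fun y hy => by
    obtain ⟨z, hz⟩ := (IsGalois.mem_range_algebraMap_iff_fixed (F := K) (y : E)).2
      fun γ => congrArg Subtype.val (hy γ)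
    have hint : IsIntegral A z := by
      refine (isIntegral_algHom_iff (IsScalarTower.toAlgHom A K E) (algebraMap K E).injective).1 ?_
      show IsIntegral A (algebraMap K E z)
      rw [hz]
      exact y.2
    obtain ⟨x, rfl⟩ := IsIntegrallyClosed.isIntegral_iff.1 hint
    exact ⟨x, Subtype.ext ((IsScalarTower.algebraMap_apply A K E x).trans hz)⟩
  obtain ⟨a, haI, -, -, hsep⟩ := InertiaEtaleLib.exists_element (G := G) qE
  obtain ⟨P, -, ⟨S₀, hS₀, hg⟩, hstd⟩ := InertiaEtaleLib.exists_isStandardEtale
    (A := A) (B := BH) (R := B) H hAinj Subtype.val_injective hA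
    (fun γ x => Subtype.ext ((γ.restrictScalars A).commutes x)) (fun b h hh => b.2 ⟨h, hh⟩)
    ⟨a, fun h => haI h h.2⟩
  set g := Polynomial.aeval (⟨a, fun h => haI h h.2⟩ : BH) (Polynomial.derivative P)
  have hgq : j g ∉ q' := by
    intro hmem
    change algebraMap BH B g ∈ qE at hmem
    rw [hg] at hmem
    obtain ⟨c, hc, hcq⟩ := (Ideal.IsPrime.prod_mem_iff (p := qE)).1 hmem
    refine hsep c.out (fun h => (hS₀ c).1 hc ?_) ?_
    · rw [← QuotientGroup.out_eq' c, QuotientGroup.eq, mul_one, inv_mem_iff]
      exact h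
    · rw [← neg_mem_iff, neg_sub]
      exact hcq
  obtain ⟨d', hd'⟩ := hlift d (by
    simp only [d]
    rw [SubmonoidClass.coe_finsetProd]
    exact prod_mem fun x hx => htE _ (Finset.mem_union_right _ (Finset.mem_image_of_mem _ hx)))
  let C := Localization.AtPrime q'
  let f : BH →ₐ[A] C := (IsScalarTower.toAlgHom A B' C).comp j
  have hf : Function.Injective f :=
    (IsLocalization.injective C q'.primeCompl_le_nonZeroDivisors).comp hj
  have hu : ∀ x : BH, j x ∉ q' → IsUnit (f x) := fun x hx => IsLocalization.map_units C (⟨j x, hx⟩ : q'.primeCompl)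
  obtain ⟨T, hT, hTf, hTd⟩ := InertiaEtaleLib.exists_etale_subalgebra f hf g d' (hu g hgq)
    (hu d' (by rw [hd']; exact hd))
  refine ⟨T, hT, fun x hx => ?_⟩
  obtain ⟨b, hb⟩ := hlift (num x) (htE _ (Finset.mem_union_left _ (Finset.mem_image_of_mem _ hx)))
  obtain ⟨e, he⟩ := hlift (∏ y ∈ s.erase x, (den y : B')) (by
    rw [SubmonoidClass.coe_finsetProd]
    exact prod_mem fun y hy => htE _ (Finset.mem_union_right _
      (Finset.mem_image_of_mem _ (Finset.mem_of_mem_erase hy))))
  obtain ⟨r, hr⟩ := hu d' (by rw [hd']; exact hd)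
  have hr' : f d' * ↑r⁻¹ = 1 := by rw [← hr, Units.mul_inv]
  suffices f (b * e) * ↑r⁻¹ = x from this ▸ T.mul_mem (hTf _) (hTd _ hr')
  have hsplit : algebraMap B' C d =
      algebraMap B' C (den x : B') * algebraMap B' C (∏ y ∈ s.erase x, (den y : B')) := by
    rw [← map_mul, Finset.mul_prod_erase s (fun y => (den y : B')) hx]
  have hfd : f d' = algebraMap B' C d := congrArg (algebraMap B' C) hd'
  have hfb : f b = algebraMap B' C (num x) := congrArg (algebraMap B' C) hb
  have hfe : f e = algebraMap B' C (∏ y ∈ s.erase x, (den y : B')) := congrArg (algebraMap B' C) he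
  rw [hfd, hsplit] at hr'
  refine ((IsLocalization.eq_mk'_iff_mul_eq).2 ?_).trans (hnd x)
  rw [map_mul, hfb, hfe]
  linear_combination (algebraMap B' C (num x)) * hr'

end Groth.Agent.S9494
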