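import Groth.Statements.S9495
import Mathlib

set_option autoImplicit false
universe u
open SchMor

namespace Groth.Agent.S9495

open AlgebraicGeometry in
open CategoryTheory in
/-- For a quasi-compact morphism of schemes f : X → S, the image f(X) is closed in S if and only if it
is stable under specialization. -/
theorem result
    {X S : Scheme.{u}} (f : X ⟶ S) [QuasiCompact f] :
    IsClosed (Set.range f) ↔ StableUnderSpecialization (Set.range f) := by
  refine ⟨fun h => h.stableUnderSpecialization, fun H => ?_⟩
  rw [TopologicalSpace.IsOpenCover.isClosed_iff_coe_preimage (iSup_affineOpens_eq_top S)]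
  intro W
  have hW : IsAffine (W.1 : Scheme.{u}) := W.2
  let g := f ∣_ W.1
  have hg : QuasiCompact g := IsZariskiLocalAtTarget.restrict ‹_› _
  have hr : Subtype.val ⁻¹' Set.range f = Set.range g := by
    ext ⟨w, hw⟩
    constructor
    · rintro ⟨x, rfl⟩
      exact ⟨⟨x, hw⟩, Subtype.ext (morphismRestrict_base_coe f W.1 ⟨x, hw⟩)⟩
    · rintro ⟨x, hx⟩
      exact ⟨x.1, ((morphismRestrict_base_coe f W.1 x).symm.trans (congrArg Subtype.val hx))⟩
  have hs : StableUnderSpecialization (Set.range g) := by
    rw [← hr]
    exact fun a b hab ha => H (hab.map continuous_subtype_val) ha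
  rw [hr]
  obtain ⟨R, q, hq⟩ := compactSpace_iff_exists.mp (QuasiCompact.compactSpace_of_compactSpace g)
  let e := (W.1 : Scheme.{u}).isoSpec.hom
  obtain ⟨φ, hφ⟩ : ∃ φ, Spec.map φ = q ≫ g ≫ e := ⟨_, Spec.map_preimage _⟩
  have h3 : Set.range (Spec.map φ) = e '' Set.range g := by
    rw [hφ, Scheme.Hom.comp_base, TopCat.coe_comp, Set.range_comp, Scheme.Hom.comp_base,
      TopCat.coe_comp, Set.image_comp]
    congr 1
    rw [← Set.range_comp, hq.range_comp]
  have hcl : IsClosed (e '' Set.range g) := by
    rw [← h3, ← Set.image_univ]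
    refine PrimeSpectrum.isClosed_image_of_stableUnderSpecialization φ.hom Set.univ isClosed_univ ?_
    change StableUnderSpecialization (Spec.map φ '' Set.univ)
    rw [Set.image_univ, h3]
    exact hs.image e.homeomorph.isClosedMap.specializingMap
  have := hcl.preimage e.continuous
  rwa [Set.preimage_image_eq _ e.isEmbedding.injective] at this

end Groth.Agent.S9495
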