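import Groth.Statements.S9502
import Mathlib

set_option autoImplicit false
universe u
open SchMor

namespace Groth.Agent.S9502

open AlgebraicGeometry in
open CategoryTheory in
/-- Let f : X → Y be a morphism of schemes such that (1) the underlying continuous map of f is a
homeomorphism onto a closed subset of Y and (2) the map of sheaves of rings O_Y → f_*O_X is
surjective (locally surjective on sections). Then f is a closed immersion in the sense of locally
ringed spaces: (1) and (2) hold and (3) the kernel of O_Y → f_*O_X is locally generated by sections,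
i.e. around every point of Y there are sections of O_Y killed in f_*O_X whose germs generate the
kernel of the stalk map O_{Y,y} → (f_*O_X)_y at every nearby point y. (For a morphism of schemes (1)
and (2) alone already give surjective stalk maps; the content of this row is condition (3).) -/
theorem result
    {X Y : Scheme.{u}} (f : X ⟶ Y) (h1 : Topology.IsClosedEmbedding f)
    (h2 : TopCat.Presheaf.IsLocallySurjective f.c) :
    LRSImm.IsClosedImmersion f.toLRSHom := by
  refine ⟨h1, h2, fun y => ?_⟩
  obtain ⟨_, ⟨U, hU, rfl⟩, hyU, -⟩ := Y.isBasis_affineOpens.exists_subset_of_mem_open (Set.mem_univ y) isOpen_univ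
  refine ⟨U, hyU, {s : Γ(Y, U) // f.app U s = 0}, fun s => s.1, fun s => s.2, fun y' hy' => le_antisymm ?_ ?_⟩
  · rw [Ideal.span_le]
    rintro _ ⟨s, rfl⟩
    change (TopCat.Presheaf.stalkFunctor CommRingCat y').map f.toLRSHom.c (Y.presheaf.germ U y' hy' s.1) = 0
    erw [TopCat.Presheaf.stalkFunctor_map_germ_apply U y' hy' f.toLRSHom.c s.1]
    erw [show f.toLRSHom.c.app (Opposite.op U) s.1 = 0 from s.2]
    exact map_zero _
  · intro t ht
    obtain ⟨W, hW, a, rfl⟩ := Y.presheaf.exists_germ_eq t
    have ht' : (TopCat.Presheaf.stalkFunctor CommRingCat y').map f.toLRSHom.c (Y.presheaf.germ W y' hW a) = 0 := ht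
    erw [TopCat.Presheaf.stalkFunctor_map_germ_apply W y' hW f.toLRSHom.c a] at ht'
    obtain ⟨W', hW', i, i', hEq⟩ := (f.toLRSHom.base _* X.presheaf).germ_eq y' hW hW _ 0 (ht'.trans (map_zero _).symm)
    rw [map_zero] at hEq
    obtain ⟨g, hgle, hgy⟩ := hU.exists_basicOpen_le (V := W') ⟨y', hW'⟩ hy'
    have hgW : Y.basicOpen g ≤ W := hgle.trans i.le
    let a' := Y.presheaf.map (homOfLE hgW).op a
    have ha' : f.app (Y.basicOpen g) a' = 0 := by
      have e1 := ConcreteCategory.congr_hom (f.toLRSHom.c.naturality (homOfLE hgW).op) a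
      refine e1.trans ?_
      change (f.toLRSHom.base _* X.presheaf).map (homOfLE hgW).op (f.toLRSHom.c.app (Opposite.op W) a) = 0
      rw [show (homOfLE hgW).op = i.op ≫ (homOfLE hgle).op from rfl, Functor.map_comp]
      change (f.toLRSHom.base _* X.presheaf).map (homOfLE hgle).op ((f.toLRSHom.base _* X.presheaf).map i.op _) = 0
      erw [hEq]
      exact map_zero _
    have := hU.isLocalization_basicOpen g
    obtain ⟨⟨b, _, n, rfl⟩, hb⟩ := IsLocalization.surj (Submonoid.powers g) a'
    have hb0 : f.app (Y.basicOpen g) (Y.presheaf.map (homOfLE (Y.basicOpen_le g)).op b) = 0 := by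
      change f.app (Y.basicOpen g) (algebraMap Γ(Y, U) Γ(Y, Y.basicOpen g) b) = 0
      rw [← hb, map_mul, ha', zero_mul]
    have hqc : QuasiCompact f := by
      refine ⟨fun V _ hVc => ?_⟩
      exact h1.isCompact_preimage hVc
    have hres : TopCat.Presheaf.restrictOpen (f.app U b) (X.basicOpen (f.app U g)) (X.basicOpen_le _) = 0 := by
      have e1 := ConcreteCategory.congr_hom (f.naturality (homOfLE (Y.basicOpen_le g)).op) b
      simp only [CategoryTheory.comp_apply] at e1
      rw [hb0] at e1
      have e2 : X.basicOpen (f.app U g) ≤ f ⁻¹ᵁ Y.basicOpen g := (Scheme.preimage_basicOpen f g).ge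
      have e3 := congrArg (X.presheaf.map (homOfLE e2).op) e1.symm
      rw [map_zero, ← CategoryTheory.comp_apply, ← Functor.map_comp] at e3
      exact e3
    obtain ⟨m, hm⟩ := exists_pow_mul_eq_zero_of_res_basicOpen_eq_zero_of_isCompact X
      (U := f ⁻¹ᵁ U) (h1.isCompact_preimage hU.isCompact) (f.app U b) (f.app U g) hres
    have hk : f.app U (g ^ m * b) = 0 := by rw [map_mul, map_pow]; exact hm
    have hu : IsUnit (Y.presheaf.germ U y' hy' g) := (Y.mem_basicOpen g y' hy').1 hgy
    have e4 : Y.presheaf.germ W y' hW a * (Y.presheaf.germ U y' hy' g) ^ n = Y.presheaf.germ U y' hy' b := by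
      have := congrArg (Y.presheaf.germ (Y.basicOpen g) y' hgy) hb
      change Y.presheaf.germ (Y.basicOpen g) y' hgy (a' * Y.presheaf.map (homOfLE (Y.basicOpen_le g)).op (g ^ n)) = Y.presheaf.germ (Y.basicOpen g) y' hgy (Y.presheaf.map (homOfLE (Y.basicOpen_le g)).op b) at this
      simpa [a'] using this
    have e5 : Y.presheaf.germ W y' hW a * (Y.presheaf.germ U y' hy' g) ^ (n + m) = Y.presheaf.germ U y' hy' (g ^ m * b) := by
      rw [pow_add, ← mul_assoc, e4, map_mul, map_pow, mul_comm]
    have e6 : Y.presheaf.germ U y' hy' (g ^ m * b) ∈ Ideal.span (Set.range fun s : {s : Γ(Y, U) // f.app U s = 0} => Y.presheaf.germ U y' hy' s.1) :=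
      Ideal.subset_span ⟨⟨_, hk⟩, rfl⟩
    rw [← e5] at e6
    exact (Ideal.mul_unit_mem_iff_mem _ (hu.pow _)).1 e6

end Groth.Agent.S9502
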