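import Groth.Statements.S9504
import Mathlib
import Groth.Agent.ExtPowLib.Pullback

set_option autoImplicit false
universe u
open AffSch

namespace Groth.Agent.S9504

open AlgebraicGeometry CategoryTheory ExtPowLib Opposite in
set_option maxHeartbeats 1000000 in
theorem aux (A : CommRingCat.{u}) (M : ModuleCat.{u} A) (n : ℕ) :
    ExtPow.IsExtPow n (tilde M) (tilde (ModuleCat.of A ↥(⋀[A]^n (M : Type u)))) := by
  haveI hT : Coh.IsQCoh (tilde M) := inferInstanceAs (tilde M).IsQuasicoherent
  let G := ExtTopLib.ext (tilde M) n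
  haveI : G.IsQuasicoherent := isQCoh_ext (tilde M) n
  let T := tilde M
  let σ : A →+* Γ(Spec A, ⊤) := (Scheme.ΓSpecIso A).inv.hom
  have hσ : Function.Bijective σ := ConcreteCategory.bijective_of_isIso (Scheme.ΓSpecIso A).inv
  have hres : ∀ r : Γ(Spec A, ⊤), (Spec A).presheaf.map (⊤ : (Spec A).Opens).leTop.op r = r := fun r => by
    rw [show (⊤ : (Spec A).Opens).leTop.op = 𝟙 _ from Subsingleton.elim _ _, (Spec A).presheaf.map_id]
    rfl
  let h : (M : Type u) →ₛₗ[σ] T.val.obj (op ⊤) :=
    { toFun := fun m => (show Γ(T, ⊤) from tilde.toOpen M ⊤ m)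
      map_add' := map_add (tilde.toOpen M ⊤).hom
      map_smul' := fun a m => by
        refine ((map_smul (tilde.toOpen M ⊤).hom a m).trans
          (Scheme.Modules.smul_Spec_def (M := tilde M) a _)).trans ?_
        exact congrArg (fun r : Γ(Spec A, ⊤) => r • (show Γ(T, ⊤) from tilde.toOpen M ⊤ m)) (hres _) }
  have hh : Function.Bijective h := ConcreteCategory.bijective_of_isIso (tilde.toOpen M ⊤)
  have hB : letI := σ.toAlgebra; IsLocalization.Away (1 : A) Γ(Spec A, ⊤) := by
    letI := σ.toAlgebra
    exact IsLocalization.away_of_isUnit_of_bijective _ isUnit_one hσ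
  have hs := loc_sMap σ h (1 : A) hB (fun y => ⟨0, (hh.2 y).choose, by rw [(hh.2 y).choose_spec]; simp⟩)
    (fun m hm => ⟨0, by rw [pow_zero, one_smul]; exact hh.1 (hm.trans (map_zero h).symm)⟩) n
  let β₀ : ↥(⋀[A]^n (M : Type u)) → Γ(G, ⊤) := fun z => uS (tilde M) n ⊤ (sMap σ h n z)
  have hb : Function.Bijective β₀ := by
    refine (unit_bijective (tilde M) n (isAffineOpen_top (Spec A))).comp ⟨fun z w hzw => ?_, fun y => ?_⟩
    · obtain ⟨k, hk⟩ := hs.2 (z - w) (by rw [sMap_sub, hzw, sub_self])
      rwa [one_pow, one_smul, sub_eq_zero] at hk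
    · obtain ⟨k, z, hz⟩ := hs.1 y
      exact ⟨z, by rw [hz, map_one, one_pow, one_smul]⟩
  let β : ↥(⋀[A]^n (M : Type u)) →ₗ[A] ↑(moduleSpecΓFunctor.obj G) :=
    { toFun := β₀
      map_add' := fun a b => by
        show uS (tilde M) n ⊤ (sMap σ h n (a + b)) = _
        rw [sMap_add, map_add]
        rfl
      map_smul' := fun a z => by
        show uS (tilde M) n ⊤ (sMap σ h n (a • z)) = _
        rw [sMap_smul, map_smul]
        refine Eq.trans ?_ (Scheme.Modules.smul_Spec_def (M := G) a (β₀ z)).symm
        exact congrArg (fun r : Γ(Spec A, ⊤) => r • β₀ z) (hres _).symm }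
  let e : tilde (ModuleCat.of A ↥(⋀[A]^n (M : Type u))) ≅ G :=
    (tilde.functor A).mapIso ((LinearEquiv.ofBijective β hb).toModuleIso) ≪≫
      (@asIso _ _ _ _ G.fromTildeΓ (Scheme.Modules.isIso_fromTildeΓ_of_isQuasicoherent (R := A) G))
  exact isExtPow_of_iso e.symm (isExtPow_ext (tilde M) n)

open AlgebraicGeometry in
open CategoryTheory in
/-- Let A be a commutative ring, M an A-module and n a natural number. On X = Spec A the O_X-module
associated to the A-module ⋀^n M is an n-th exterior power of M~: on every affine open U its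
sections are identified, linearly over Γ(U, O_X), with the n-th exterior power of the sections of M~
over U, compatibly with restrictions on decomposable elements. -/
theorem result
    (A : Type u) [CommRing A] (M : Type u) [AddCommGroup M] [Module A M] (n : ℕ) :
    ExtPow.IsExtPow n (tilde (R := CommRingCat.of A) (ModuleCat.of A M))
      (tilde (R := CommRingCat.of A) (ModuleCat.of A ↥(⋀[A]^n M))) := by
  exact aux (CommRingCat.of A) (ModuleCat.of A M) n

end Groth.Agent.S9504
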