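import Groth.Statements.S9507
import Mathlib
import Groth.Agent.LRSImmLib.Basic
-- import your own Groth.Agent.* helpers here

set_option autoImplicit false
universe u
open LRSImm

namespace Groth.Agent.S9507

section Helpers
open AlgebraicGeometry CategoryTheory TopologicalSpace Opposite

variable {Z X Y : LocallyRingedSpace.{u}} (i : Z ⟶ X) (f : Y ⟶ X)

/-- sections with the same germ at a point agree on a neighbourhood; here: a section killed at `z` is
killed by `f` at points above. -/
theorem germ_eq_zero (hi : LRSImm.IsClosedImmersion i)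
    (H : ∀ (U : Opens X.toTopCat) (s : X.presheaf.obj (op U)), i.c.app (op U) s = 0 → f.c.app (op U) s = 0)
    {y : Y.toTopCat} {z : Z.toTopCat} (hyz : i.base z = f.base y) (V : Opens X.toTopCat) (hV : i.base z ∈ V)
    (hyV : f.base y ∈ V) (s : X.presheaf.obj (op V))
    (h : Z.presheaf.germ ((Opens.map i.base).obj V) z hV (i.c.app (op V) s) = 0) :
    Y.presheaf.germ ((Opens.map f.base).obj V) y hyV (f.c.app (op V) s) = 0 := by
  obtain ⟨W, hzW, j, j', hEq⟩ := Z.presheaf.germ_eq (U := (Opens.map i.base).obj V) (V := (Opens.map i.base).obj V) z hV hV (i.c.app (op V) s) 0 (h.trans (map_zero _).symm)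
  rw [map_zero] at hEq
  obtain ⟨U, hU, hUW⟩ := hi.1.isInducing.isOpen_iff.mp W.2
  let V' : Opens X.toTopCat := V ⊓ ⟨U, hU⟩
  have hle : V' ≤ V := inf_le_left
  have hW : (Opens.map i.base).obj V' ≤ W := fun a ha => by
    exact (Set.ext_iff.mp hUW a).1 ha.2
  have h1 : i.c.app (op V') (X.presheaf.map (homOfLE hle).op s) = 0 := by
    have e1 := ConcreteCategory.congr_hom (i.c.naturality (homOfLE hle).op) s
    refine e1.trans ?_
    change Z.presheaf.map ((Opens.map i.base).map (homOfLE hle)).op (i.c.app (op V) s) = 0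
    rw [show ((Opens.map i.base).map (homOfLE hle)).op = j.op ≫ (homOfLE hW).op from rfl, Functor.map_comp,
      CommRingCat.comp_apply, hEq, map_zero]
  have hzU : i.base z ∈ V' := ⟨hV, show z ∈ i.base ⁻¹' U by rw [hUW]; exact hzW⟩
  have hyV' : f.base y ∈ V' := hyz ▸ hzU
  have h2 := H V' _ h1
  have e2 := ConcreteCategory.congr_hom (f.c.naturality (homOfLE hle).op) s
  have h3 : Y.presheaf.map ((Opens.map f.base).map (homOfLE hle)).op (f.c.app (op V) s) = 0 :=
    e2.symm.trans h2
  rw [← TopCat.Presheaf.germ_res_apply Y.presheaf ((Opens.map f.base).map (homOfLE hle)) y hyV' (f.c.app (op V) s)]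
  exact (congrArg _ h3).trans (map_zero _)

/-- germ of `f.c s` is determined by the germ of `i.c s`. -/
theorem germ_congr (hi : LRSImm.IsClosedImmersion i)
    (H : ∀ (U : Opens X.toTopCat) (s : X.presheaf.obj (op U)), i.c.app (op U) s = 0 → f.c.app (op U) s = 0)
    {y : Y.toTopCat} {z : Z.toTopCat} (hyz : i.base z = f.base y)
    (V V' : Opens X.toTopCat) (hV : i.base z ∈ V) (hV' : i.base z ∈ V')
    (hyV : f.base y ∈ V) (hyV' : f.base y ∈ V')
    (s : X.presheaf.obj (op V)) (s' : X.presheaf.obj (op V'))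
    (h : Z.presheaf.germ ((Opens.map i.base).obj V) z hV (i.c.app (op V) s) =
      Z.presheaf.germ ((Opens.map i.base).obj V') z hV' (i.c.app (op V') s')) :
    Y.presheaf.germ ((Opens.map f.base).obj V) y hyV (f.c.app (op V) s) =
      Y.presheaf.germ ((Opens.map f.base).obj V') y hyV' (f.c.app (op V') s') := by
  have l1 : V ⊓ V' ≤ V := inf_le_left
  have l2 : V ⊓ V' ≤ V' := inf_le_right
  have key : ∀ (A : LocallyRingedSpace.{u}) (g : A ⟶ X) (a : A.toTopCat) (W W' : Opens X.toTopCat) (l : W' ≤ W)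
      (ha : g.base a ∈ W') (r : X.presheaf.obj (op W)),
      A.presheaf.germ ((Opens.map g.base).obj W') a ha (g.c.app (op W') (X.presheaf.map (homOfLE l).op r)) =
        A.presheaf.germ ((Opens.map g.base).obj W) a (l ha) (g.c.app (op W) r) := by
    intro A g a W W' l ha r
    rw [show g.c.app (op W') (X.presheaf.map (homOfLE l).op r) =
      A.presheaf.map ((Opens.map g.base).map (homOfLE l)).op (g.c.app (op W) r) from
        ConcreteCategory.congr_hom (g.c.naturality (homOfLE l).op) r]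
    exact TopCat.Presheaf.germ_res_apply _ _ _ _ _
  have h0 := germ_eq_zero i f hi H hyz (V ⊓ V') ⟨hV, hV'⟩ ⟨hyV, hyV'⟩
    (X.presheaf.map (homOfLE l1).op s - X.presheaf.map (homOfLE l2).op s')
    (by rw [map_sub, map_sub, key Z i z V (V ⊓ V') l1 ⟨hV, hV'⟩ s, key Z i z V' (V ⊓ V') l2 ⟨hV, hV'⟩ s', h, sub_self])
  rw [map_sub, map_sub, key Y f y V (V ⊓ V') l1 ⟨hyV, hyV'⟩ s, key Y f y V' (V ⊓ V') l2 ⟨hyV, hyV'⟩ s',
    sub_eq_zero] at h0
  exact h0

theorem exists_lift (hi : LRSImm.IsClosedImmersion i) (z : Z.toTopCat) (W : Opens Z.toTopCat) (hz : z ∈ W)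
    (t : Z.presheaf.obj (op W)) :
    ∃ (V : Opens X.toTopCat) (hV : i.base z ∈ V) (s : X.presheaf.obj (op V)),
      Z.presheaf.germ ((Opens.map i.base).obj V) z hV (i.c.app (op V) s) = Z.presheaf.germ W z hz t := by
  obtain ⟨c, hc⟩ := LRSImmLib.stalkMap_surjective i hi z (Z.presheaf.germ W z hz t)
  obtain ⟨V, hV, s, rfl⟩ := X.presheaf.exists_germ_eq c
  exact ⟨V, hV, s, (LocallyRingedSpace.stalkMap_germ_apply i V z hV s).symm.trans hc⟩

theorem val_of_fac (g : Y ⟶ Z) (hg : g ≫ i = f) {y : Y.toTopCat} {z : Z.toTopCat} (hgy : g.base y = z)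
    (W : Opens Z.toTopCat) (hz : z ∈ W) (t : Z.presheaf.obj (op W))
    (V : Opens X.toTopCat) (hV : i.base z ∈ V) (hyV : f.base y ∈ V) (s : X.presheaf.obj (op V))
    (h : Z.presheaf.germ ((Opens.map i.base).obj V) z hV (i.c.app (op V) s) = Z.presheaf.germ W z hz t) :
    Y.presheaf.germ ((Opens.map g.base).obj W) y (show g.base y ∈ W from hgy ▸ hz) (g.c.app (op W) t) =
      Y.presheaf.germ ((Opens.map f.base).obj V) y hyV (f.c.app (op V) s) := by
  subst hgy
  subst hg
  have h' := congrArg (g.stalkMap y) h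
  rw [LocallyRingedSpace.stalkMap_germ_apply, LocallyRingedSpace.stalkMap_germ_apply] at h'
  exact h'.symm

theorem hom_ext_germ {A B : LocallyRingedSpace.{u}} (g g' : A ⟶ B) (hb : g.base = g'.base)
    (hc : ∀ (W : Opens B.toTopCat) (t : B.presheaf.obj (op W)) (a : A.toTopCat) (h : g.base a ∈ W)
      (h' : g'.base a ∈ W), A.presheaf.germ ((Opens.map g.base).obj W) a h (g.c.app (op W) t) =
        A.presheaf.germ ((Opens.map g'.base).obj W) a h' (g'.c.app (op W) t)) : g = g' := by
  apply LocallyRingedSpace.Hom.ext'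
  refine PresheafedSpace.ext g.toHom g'.toHom hb ?_
  refine NatTrans.ext (funext fun W => CommRingCat.hom_ext (RingHom.ext fun t => ?_))
  refine TopCat.Presheaf.section_ext A.sheaf _ _ _ fun a ha => ?_
  have hW : (Opens.map g.base).obj (unop W) = (Opens.map g'.base).obj (unop W) := by rw [hb]
  refine Eq.trans ?_ (hc (unop W) t a (by have := ha; exact hb ▸ this) ha)
  refine Eq.trans (congrArg _ ?_) (TopCat.Presheaf.germ_res_apply A.presheaf (eqToHom hW.symm) a ha (g.c.app W t))
  rw [NatTrans.comp_app, Functor.whiskerRight_app, CategoryTheory.eqToHom_app, eqToHom_op]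
  rfl

theorem exists_section (hi : LRSImm.IsClosedImmersion i)
    (H : ∀ (U : Opens X.toTopCat) (s : X.presheaf.obj (op U)), i.c.app (op U) s = 0 → f.c.app (op U) s = 0)
    (g₀ : Y.toTopCat ⟶ Z.toTopCat) (hg₀ : ∀ y, i.base (g₀ y) = f.base y)
    (W : Opens Z.toTopCat) (t : Z.presheaf.obj (op W)) :
    ∃! v : Y.presheaf.obj (op ((Opens.map g₀).obj W)),
      ∀ (y : Y.toTopCat) (hy : g₀ y ∈ W) (V : Opens X.toTopCat) (hV : i.base (g₀ y) ∈ V) (hyV : f.base y ∈ V)
        (s : X.presheaf.obj (op V)),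
        Z.presheaf.germ ((Opens.map i.base).obj V) (g₀ y) hV (i.c.app (op V) s) = Z.presheaf.germ W (g₀ y) hy t →
        Y.presheaf.germ ((Opens.map g₀).obj W) y hy v =
          Y.presheaf.germ ((Opens.map f.base).obj V) y hyV (f.c.app (op V) s) := by
  have hlift := fun (p : (Opens.map g₀).obj W) => exists_lift i hi (g₀ p.1) W p.2 t
  choose V hV s hs using hlift
  have hnb := fun (p : (Opens.map g₀).obj W) =>
    Z.presheaf.germ_eq (g₀ p.1) (hV p) p.2 (i.c.app (op (V p)) (s p)) t (hs p)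
  choose W' hW' jV jW hres using hnb
  let N : (Opens.map g₀).obj W → Opens Y.toTopCat := fun p =>
    (Opens.map g₀).obj (W' p) ⊓ (Opens.map f.base).obj (V p)
  have hNW : ∀ p, N p ≤ (Opens.map g₀).obj W := fun p a ha => (jW p).le ha.1
  let sf : ∀ p, Y.presheaf.obj (op (N p)) := fun p =>
    Y.presheaf.map (homOfLE (inf_le_right : N p ≤ _)).op (f.c.app (op (V p)) (s p))
  have hval : ∀ p (a : Y.toTopCat) (ha : a ∈ N p) (V₁ : Opens X.toTopCat) (h1 : i.base (g₀ a) ∈ V₁)
      (h1' : f.base a ∈ V₁) (s₁ : X.presheaf.obj (op V₁)),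
      Z.presheaf.germ ((Opens.map i.base).obj V₁) (g₀ a) h1 (i.c.app (op V₁) s₁) =
        Z.presheaf.germ W (g₀ a) ((jW p).le ha.1) t →
      Y.presheaf.germ (N p) a ha (sf p) = Y.presheaf.germ ((Opens.map f.base).obj V₁) a h1' (f.c.app (op V₁) s₁) := by
    intro p a ha V₁ h1 h1' s₁ he
    rw [show Y.presheaf.germ (N p) a ha (sf p) =
      Y.presheaf.germ ((Opens.map f.base).obj (V p)) a ha.2 (f.c.app (op (V p)) (s p)) from
        TopCat.Presheaf.germ_res_apply Y.presheaf _ _ _ _]
    refine germ_congr i f hi H (hg₀ a) (V p) V₁ ((jV p).le ha.1) h1 ha.2 h1' _ _ ?_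
    rw [he, ← TopCat.Presheaf.germ_res_apply Z.presheaf (jV p) (g₀ a) ha.1 (i.c.app (op (V p)) (s p)),
      ← TopCat.Presheaf.germ_res_apply Z.presheaf (jW p) (g₀ a) ha.1 t]
    exact congrArg _ (hres p)
  have hcompat : TopCat.Presheaf.IsCompatible Y.presheaf N sf := by
    intro p q
    refine TopCat.Presheaf.section_ext Y.sheaf _ _ _ fun a ha => ?_
    obtain ⟨V₁, h1, s₁, he⟩ := exists_lift i hi (g₀ a) W ((jW p).le ha.1.1) t
    have h1' : f.base a ∈ V₁ := hg₀ a ▸ h1
    refine (TopCat.Presheaf.germ_res_apply Y.presheaf _ a ha _).trans ?_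
    refine Eq.trans ?_ (TopCat.Presheaf.germ_res_apply Y.presheaf _ a ha _).symm
    exact (hval p a ha.1 V₁ h1 h1' s₁ he).trans (hval q a ha.2 V₁ h1 h1' s₁ he).symm
  obtain ⟨v, hv, hvu⟩ := Y.sheaf.existsUnique_gluing' N ((Opens.map g₀).obj W) (fun p => homOfLE (hNW p))
    (fun a ha => Opens.mem_iSup.2 ⟨⟨a, ha⟩, hW' ⟨a, ha⟩, (hg₀ a ▸ hV ⟨a, ha⟩ : f.base a ∈ V ⟨a, ha⟩)⟩) sf hcompat
  have hspec : ∀ (y : Y.toTopCat) (hy : g₀ y ∈ W) (V₁ : Opens X.toTopCat) (h1 : i.base (g₀ y) ∈ V₁) (h1' : f.base y ∈ V₁)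
        (s₁ : X.presheaf.obj (op V₁)),
        Z.presheaf.germ ((Opens.map i.base).obj V₁) (g₀ y) h1 (i.c.app (op V₁) s₁) = Z.presheaf.germ W (g₀ y) hy t →
        Y.presheaf.germ ((Opens.map g₀).obj W) y hy v =
          Y.presheaf.germ ((Opens.map f.base).obj V₁) y h1' (f.c.app (op V₁) s₁) := by
    intro y hy V₁ h1 h1' s₁ he
    have hyN : y ∈ N ⟨y, hy⟩ := ⟨hW' ⟨y, hy⟩, (hg₀ y ▸ hV ⟨y, hy⟩ : f.base y ∈ V ⟨y, hy⟩)⟩
    rw [← hval ⟨y, hy⟩ y hyN V₁ h1 h1' s₁ he]
    refine Eq.trans ?_ (congrArg _ (hv ⟨y, hy⟩))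
    exact (TopCat.Presheaf.germ_res_apply Y.presheaf _ y hyN _).symm
  refine ⟨v, hspec, fun w hw => TopCat.Presheaf.section_ext Y.sheaf _ _ _ fun a ha => ?_⟩
  obtain ⟨V₁, h1, s₁, he⟩ := exists_lift i hi (g₀ a) W ha t
  have h1' : f.base a ∈ V₁ := hg₀ a ▸ h1
  exact (hw a ha V₁ h1 h1' s₁ he).trans (hspec a ha V₁ h1 h1' s₁ he).symm

theorem exists_fac (hi : LRSImm.IsClosedImmersion i)
    (H : ∀ (U : Opens X.toTopCat) (s : X.presheaf.obj (op U)), i.c.app (op U) s = 0 → f.c.app (op U) s = 0) :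
    ∃ g : Y ⟶ Z, g ≫ i = f := by
  have hrange : ∀ y : Y.toTopCat, f.base y ∈ Set.range i.base := by
    intro y
    by_contra hy
    let W : Opens X.toTopCat := ⟨(Set.range i.base)ᶜ, hi.1.isClosed_range.isOpen_compl⟩
    have he : (Opens.map i.base).obj W = ⊥ := by
      ext a
      simp [W]
    haveI : Subsingleton ((i.base _* Z.presheaf).obj (op W)) :=
      CommRingCat.subsingleton_of_isTerminal (Z.sheaf.isTerminalOfEqEmpty he)
    have h1 := H W 1 (Subsingleton.elim _ _)
    rw [map_one] at h1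
    have h2 := congrArg (Y.presheaf.germ ((Opens.map f.base).obj W) y hy) h1
    rw [map_one, map_zero] at h2
    exact one_ne_zero h2
  choose g₁ hg₁ using hrange
  have hcont : Continuous g₁ := hi.1.isInducing.continuous_iff.2
    (f.base.hom.continuous.congr fun y => (hg₁ y).symm)
  let g₀ : Y.toTopCat ⟶ Z.toTopCat := TopCat.ofHom ⟨g₁, hcont⟩
  have hg₀ : ∀ y, i.base (g₀ y) = f.base y := hg₁
  choose sec hsec huniq using fun W t => exists_section i f hi H g₀ hg₀ W t
  have hmk : ∀ (W : Opens Z.toTopCat) (t : Z.presheaf.obj (op W)) (v : Y.presheaf.obj (op ((Opens.map g₀).obj W))),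
      (∀ (y : Y.toTopCat) (hy : g₀ y ∈ W), ∃ (V : Opens X.toTopCat) (hV : i.base (g₀ y) ∈ V) (hyV : f.base y ∈ V)
        (s : X.presheaf.obj (op V)),
        Z.presheaf.germ ((Opens.map i.base).obj V) (g₀ y) hV (i.c.app (op V) s) = Z.presheaf.germ W (g₀ y) hy t ∧
        Y.presheaf.germ ((Opens.map g₀).obj W) y hy v =
          Y.presheaf.germ ((Opens.map f.base).obj V) y hyV (f.c.app (op V) s)) → v = sec W t := fun W t v hv =>
    TopCat.Presheaf.section_ext Y.sheaf _ _ _ fun y hy => by
      obtain ⟨V, hV, hyV, s, he, e⟩ := hv y hy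
      exact e.trans (hsec W t y hy V hV hyV s he).symm
  let φ : ∀ W : Opens Z.toTopCat, Z.presheaf.obj (op W) →+* Y.presheaf.obj (op ((Opens.map g₀).obj W)) := fun W =>
    { toFun := sec W
      map_one' := (hmk W 1 1 fun y hy => ⟨⊤, trivial, trivial, 1, by rw [map_one]; exact (map_one _).trans (map_one _).symm, by rw [map_one, map_one]; exact (map_one _).symm⟩).symm
      map_zero' := (hmk W 0 0 fun y hy => ⟨⊤, trivial, trivial, 0, by rw [map_zero]; exact (map_zero _).trans (map_zero _).symm, by rw [map_zero, map_zero]; exact (map_zero _).symm⟩).symm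
      map_mul' := fun a b => (hmk W (a * b) _ fun y hy => by
        obtain ⟨V, hV, s, he⟩ := exists_lift i hi (g₀ y) W hy a
        obtain ⟨V', hV', s', he'⟩ := exists_lift i hi (g₀ y) W hy b
        have hyV : f.base y ∈ V := hg₀ y ▸ hV
        have hyV' : f.base y ∈ V' := hg₀ y ▸ hV'
        refine ⟨V ⊓ V', ⟨hV, hV'⟩, ⟨hyV, hyV'⟩,
          X.presheaf.map (homOfLE inf_le_left).op s * X.presheaf.map (homOfLE inf_le_right).op s', ?_, ?_⟩
        · rw [map_mul, map_mul, map_mul, ← he, ← he']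
          simp only [← LocallyRingedSpace.stalkMap_germ_apply, TopCat.Presheaf.germ_res_apply]
        · rw [map_mul, map_mul, map_mul, hsec W a y hy V hV hyV s he, hsec W b y hy V' hV' hyV' s' he']
          simp only [← LocallyRingedSpace.stalkMap_germ_apply, TopCat.Presheaf.germ_res_apply]).symm
      map_add' := fun a b => (hmk W (a + b) _ fun y hy => by
        obtain ⟨V, hV, s, he⟩ := exists_lift i hi (g₀ y) W hy a
        obtain ⟨V', hV', s', he'⟩ := exists_lift i hi (g₀ y) W hy b
        have hyV : f.base y ∈ V := hg₀ y ▸ hV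
        have hyV' : f.base y ∈ V' := hg₀ y ▸ hV'
        refine ⟨V ⊓ V', ⟨hV, hV'⟩, ⟨hyV, hyV'⟩,
          X.presheaf.map (homOfLE inf_le_left).op s + X.presheaf.map (homOfLE inf_le_right).op s', ?_, ?_⟩
        · rw [map_add, map_add, map_add, ← he, ← he']
          simp only [← LocallyRingedSpace.stalkMap_germ_apply, TopCat.Presheaf.germ_res_apply]
        · rw [map_add, map_add, map_add, hsec W a y hy V hV hyV s he, hsec W b y hy V' hV' hyV' s' he']
          simp only [← LocallyRingedSpace.stalkMap_germ_apply, TopCat.Presheaf.germ_res_apply]).symm }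
  let G : PresheafedSpace.Hom Y.toPresheafedSpace Z.toPresheafedSpace :=
    { base := g₀
      c :=
        { app := fun W => CommRingCat.ofHom (φ (unop W))
          naturality := fun W W' l => CommRingCat.hom_ext (RingHom.ext fun t => by
            symm
            change Y.presheaf.map ((Opens.map g₀).map l.unop).op (sec (unop W) t) = sec (unop W') (Z.presheaf.map l t)
            refine hmk _ _ _ fun y hy => ?_
            obtain ⟨V, hV, s, he⟩ := exists_lift i hi (g₀ y) (unop W) (l.unop.le hy) t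
            have hyV : f.base y ∈ V := hg₀ y ▸ hV
            refine ⟨V, hV, hyV, s, he.trans (TopCat.Presheaf.germ_res_apply Z.presheaf l.unop (g₀ y) hy t).symm, ?_⟩
            exact (TopCat.Presheaf.germ_res_apply Y.presheaf ((Opens.map g₀).map l.unop) y hy _).trans
              (hsec (unop W) t y (l.unop.le hy) V hV hyV s he)) } }
  have hloc : ∀ y, IsLocalHom (G.stalkMap y).hom := fun y => ⟨fun a ha => by
    obtain ⟨W, hy, t, rfl⟩ := Z.presheaf.exists_germ_eq a
    obtain ⟨V, hV, s, he⟩ := exists_lift i hi (g₀ y) W hy t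
    have hyV : f.base y ∈ V := hg₀ y ▸ hV
    have e1 : (G.stalkMap y).hom (Z.presheaf.germ W (g₀ y) hy t) =
        f.stalkMap y (X.presheaf.germ V (f.base y) hyV s) := by
      refine (PresheafedSpace.stalkMap_germ_apply G W y hy t).trans ?_
      refine (hsec W t y hy V hV hyV s he).trans ?_
      exact (LocallyRingedSpace.stalkMap_germ_apply f V y hyV s).symm
    rw [e1] at ha
    have h3 : IsUnit (X.presheaf.germ V (f.base y) hyV s) := (isUnit_map_iff (f.stalkMap y).hom _).1 ha
    have h4 : ∀ (x : X.toTopCat) (hx : x ∈ V), f.base y = x → IsUnit (X.presheaf.germ V x hx s) := by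
      intro x hx e
      subst e
      exact h3
    have h5 := (h4 (i.base (g₀ y)) hV (hg₀ y).symm).map (i.stalkMap (g₀ y)).hom
    rw [← he, ← LocallyRingedSpace.stalkMap_germ_apply i V (g₀ y) hV s]
    exact h5⟩
  let g : Y ⟶ Z := ⟨G, hloc⟩
  refine ⟨g, hom_ext_germ _ _ (TopCat.hom_ext (ContinuousMap.ext hg₀)) fun V s y h h' => ?_⟩
  exact hsec ((Opens.map i.base).obj V) (i.c.app (op V) s) y h V h h' s rfl

end Helpers


open AlgebraicGeometry in
open CategoryTheory Opposite TopologicalSpace in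

/-- Take a morphism i : Z → X of locally ringed spaces that is a closed immersion (a homeomorphism onto
a closed subset, O_X → i_*O_Z surjective as a map of sheaves, kernel I locally generated by
sections), and let f : Y → X be a morphism of locally ringed spaces. Then f factors through i if and
only if the composite I → O_X → f_*O_Y vanishes, i.e. every local section of O_X that maps to zero
in i_*O_Z maps to zero in f_*O_Y (equivalently f^*I → O_Y is zero); moreover the factorisation Y → Z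
is unique. (The published statement is phrased for the closed subspace cut out by a sheaf of ideals
locally generated by sections; here it is phrased for any closed immersion of locally ringed spaces
with I the kernel of O_X → i_*O_Z, which is the situation its proof treats.) -/
theorem result
    {Z X Y : LocallyRingedSpace.{u}} (i : Z ⟶ X) (hi : LRSImm.IsClosedImmersion i) (f : Y ⟶ X) :
    ((∃ g : Y ⟶ Z, g ≫ i = f) ↔
      ∀ (U : Opens X.toTopCat) (s : X.presheaf.obj (op U)),
        i.c.app (op U) s = 0 → f.c.app (op U) s = 0) ∧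
    ∀ g g' : Y ⟶ Z, g ≫ i = f → g' ≫ i = f → g = g' := by
  refine ⟨⟨?_, exists_fac i f hi⟩, fun g g' hg hg' => ?_⟩
  · rintro ⟨g, rfl⟩ U s hs
    show g.c.app _ (i.c.app (op U) s) = 0
    rw [hs, map_zero]
  have hb : ∀ y, g.base y = g'.base y := fun y => hi.1.injective (by
    have e1 := congrArg (fun m : Y ⟶ X => m.base y) hg
    have e2 := congrArg (fun m : Y ⟶ X => m.base y) hg'
    exact e1.trans e2.symm)
  refine hom_ext_germ g g' (TopCat.hom_ext (ContinuousMap.ext hb)) fun W t y h h' => ?_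
  obtain ⟨V, hV, s, he⟩ := exists_lift i hi (g.base y) W h t
  have hyV : f.base y ∈ V := by rw [← hg]; exact hV
  exact (val_of_fac i f g hg rfl W h t V hV hyV s he).trans
    (val_of_fac i f g' hg' (hb y).symm W h t V hV hyV s he).symm

end Groth.Agent.S9507
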