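import Groth.Statements.S9511
import Mathlib

-- import your own Groth.Agent.* helpers here

set_option autoImplicit false
universe u
open LRSImm

namespace Groth.Agent.S9511

open AlgebraicGeometry in
open CategoryTheory TopologicalSpace in
/-- Let X be a locally ringed space and U, V ⊆ X open with X = U ⊔ V (they cover X and are disjoint),
such that the open subspaces X|_U and X|_V are affine schemes. Then X is an affine scheme: the
canonical morphism X → Spec Γ(X, O_X) is an isomorphism of locally ringed spaces. -/
theorem result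
    (X : LocallyRingedSpace.{u}) (U V : Opens X.toTopCat) (hUV : IsCompl U V)
    (A B : CommRingCat.{u})
    (eU : X.restrict U.isOpenEmbedding ≅ (Spec A).toLocallyRingedSpace)
    (eV : X.restrict V.isOpenEmbedding ≅ (Spec B).toLocallyRingedSpace) :
    IsIso X.toΓSpec := by
  let S : AlgebraicGeometry.Scheme.{u} :=
    { toLocallyRingedSpace := X
      local_affine := fun x => by
        rcases (show x ∈ U ⊔ V by rw [hUV.sup_eq_top]; trivial) with h | h
        · exact ⟨⟨U, h⟩, A, ⟨eU⟩⟩
        · exact ⟨⟨V, h⟩, B, ⟨eV⟩⟩ }
  let U' : S.Opens := U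
  let V' : S.Opens := V
  have hU : AlgebraicGeometry.IsAffineOpen U' := by
    let e : U'.toScheme ≅ AlgebraicGeometry.Scheme.Spec.obj (Opposite.op A) :=
      AlgebraicGeometry.Scheme.forgetToLocallyRingedSpace.preimageIso eU
    exact AlgebraicGeometry.IsAffine.of_isIso e.hom
  have hV : AlgebraicGeometry.IsAffineOpen V' := by
    let e : V'.toScheme ≅ AlgebraicGeometry.Scheme.Spec.obj (Opposite.op B) :=
      AlgebraicGeometry.Scheme.forgetToLocallyRingedSpace.preimageIso eV
    exact AlgebraicGeometry.IsAffine.of_isIso e.hom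
  have h := hU.sup_of_disjoint hV hUV.disjoint
  rw [show U' ⊔ V' = ⊤ from hUV.sup_eq_top] at h
  haveI : AlgebraicGeometry.IsAffine (AlgebraicGeometry.Scheme.Opens.toScheme (⊤ : S.Opens)) := h
  haveI : AlgebraicGeometry.IsAffine S := AlgebraicGeometry.IsAffine.of_isIso S.topIso.inv
  have h2 : CategoryTheory.IsIso (AlgebraicGeometry.Scheme.forgetToLocallyRingedSpace.map S.toSpecΓ) := inferInstance
  exact h2

end Groth.Agent.S9511
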