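import Groth.Statements.S9521
import Groth.Agent.CohExtLib.PushHom

set_option autoImplicit false
universe u
open Coherent

namespace Groth.Agent.S9521

theorem exists_pi' {R : Type u} [CommRing R] [IsLocalRing R] {N : Type u} [AddCommGroup N] [Module R N]
    [Module.Finite R N] (hk : ∀ a ∈ IsLocalRing.maximalIdeal R, ∀ m : N, a • m = 0) :
    ∃ r : ℕ, Nonempty (N ≃ₗ[R] (Fin r → IsLocalRing.ResidueField R)) := by
  rcases subsingleton_or_nontrivial N with h | h
  · exact ⟨0, ⟨LinearEquiv.ofSubsingleton N _⟩⟩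
  · obtain ⟨r, -, he⟩ := DevissExt.exists_pi_residue hk
    exact ⟨r, he⟩

open CategoryTheory CategoryTheory.Limits AlgebraicGeometry in
/-- Let X be a Noetherian scheme, i : Z → X a closed immersion with Z an integral scheme, ξ ∈ X the
image of the generic point of Z, and F a coherent O_X-module whose stalk F_ξ is annihilated by the
maximal ideal of O_{X,ξ}. Then one can find r ≥ 0 together with a coherent ideal sheaf I ⊆ O_Z and a
monomorphism of O_X-modules i_*(I^⊕r) → F that becomes an isomorphism when restricted to some open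
neighbourhood of ξ. -/
theorem result (X Z : Scheme.{u}) [IsNoetherian X]
    (i : Z ⟶ X) [IsClosedImmersion i] [IsIntegral Z] (F : X.Modules) (hF : Coh.IsCoh F)
    (hann : ∀ a ∈ IsLocalRing.maximalIdeal (X.presheaf.stalk (i (genericPoint Z))),
      ∀ m : ↑(F.presheaf.stalk (i (genericPoint Z))), a • m = 0) :
    ∃ (r : ℕ) (I : Z.Modules) (ι : I ⟶ Coh.structureModule Z) (φ : (Coh.push i).obj (∐ fun _ : Fin r => I) ⟶ F),
      Mono ι ∧ Coh.IsCoh I ∧ Mono φ ∧
      ∃ U : X.Opens, i (genericPoint Z) ∈ U ∧ IsIso ((Scheme.Modules.restrictFunctor U.ι).map φ) := by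
  classical
  haveI : IsLocallyNoetherian Z := LocallyOfFiniteType.isLocallyNoetherian i
  let ξ : X := i (genericPoint Z)
  haveI := DevissLib.isNoetherian_stalk hF ξ
  obtain ⟨r, ⟨eF⟩⟩ := exists_pi' (R := X.presheaf.stalk ξ) (N := (DevissLib.St ξ).obj F) hann
  let O : Z.Modules := Coh.structureModule Z
  let G₀ : Z.Modules := ∐ fun _ : Fin r => O
  let G₁ : Z.Modules := ∐ fun _ : ULift.{u} (Fin r) => O
  let w : G₁ ≅ G₀ := Sigma.whiskerEquiv Equiv.ulift fun _ => Iso.refl O
  have hG₀ : Coh.IsCoh G₀ := QCohLib.isCoh_of_iso w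
    (CycK0Lib.isCoh_sigma (locallyFinite_of_finite _) fun _ => DevissLib.isCoh_structureModule Z)
  haveI := hG₀.1
  haveI := CohExtLib.preservesCoproduct_push i fun _ : ULift.{u} (Fin r) => O
  let M := (Coh.push i).obj O
  let c : (Coh.push i).obj G₀ ≅ ∐ fun _ : ULift.{u} (Fin r) => M :=
    (Coh.push i).mapIso w.symm ≪≫ PreservesCoproduct.iso (Coh.push i) fun _ : ULift.{u} (Fin r) => O
  obtain ⟨-, -, ⟨e₀⟩⟩ := DevissLib.push_generic i O (DevissLib.isCoh_structureModule Z) ⊤
    ⟨genericPoint Z, trivial⟩ fun W _ => DevissLib.exists_gen_structureModule W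
  let es : ((Finset.univ : Finset (ULift.{u} (Fin r))) : Type u) ≃ Fin r :=
    (Equiv.subtypeUnivEquiv fun a => Finset.mem_univ a).trans Equiv.ulift
  let e : (DevissLib.St ξ).obj ((Coh.push i).obj G₀) ≃ₗ[X.presheaf.stalk ξ] (DevissLib.St ξ).obj F :=
    ((DevissLib.St ξ).mapIso c).toLinearEquiv.trans
      ((CycK0Lib.stalkEquiv (F := fun _ : ULift.{u} (Fin r) => M) (S := Finset.univ) (x := ξ)
          fun j hj => absurd (Finset.mem_univ j) hj).trans
        ((LinearEquiv.piCongrRight fun _ => e₀).trans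
          ((LinearEquiv.funCongrLeft (X.presheaf.stalk ξ) _ es).symm.trans eF.symm)))
  obtain ⟨J, β, -, hb⟩ := CohExtLib.exists_hom_idealMul (QCohLib.isCoh_push_finite i _ hG₀) hF ξ e
  obtain ⟨e₉, -⟩ := Groth.Agent.S9523.result i G₀ hG₀.1 J
  let K := J.comap i
  let I : Z.Modules := (Dual3.idealMul K).obj O
  let ι : I ⟶ O := Dual3.idealMulι K O
  let s : (Dual3.idealMul K).obj G₀ ≅ ∐ fun _ : Fin r => I := CohExtLib.idealMulSigmaIso K O
  let φ : (Coh.push i).obj (∐ fun _ : Fin r => I) ⟶ F := (Coh.push i).map s.inv ≫ e₉.inv ≫ β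
  have hφb : Function.Bijective ((DevissLib.St ξ).map φ).hom := by
    simp only [φ, Functor.map_comp, ModuleCat.hom_comp, LinearMap.coe_comp]
    exact (hb.comp ((DevissLib.St ξ).mapIso e₉).symm.toLinearEquiv.bijective).comp
      ((DevissLib.St ξ).mapIso ((Coh.push i).mapIso s)).symm.toLinearEquiv.bijective
  have hcohI : Coh.IsCoh (∐ fun _ : Fin r => I) :=
    QCohLib.isCoh_of_iso s (CohExtLib.isCoh_idealMul K hG₀)
  haveI : Mono φ := by
    refine Preadditive.mono_of_isZero_kernel _ ?_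
    haveI := CohExtLib.preservesCoproduct_push i fun _ : ULift.{u} (Fin r) => I
    let d : (Coh.push i).obj (∐ fun _ : Fin r => I) ≅ ∐ fun _ : ULift.{u} (Fin r) => (Coh.push i).obj I :=
      (Coh.push i).mapIso (Sigma.whiskerEquiv Equiv.ulift fun _ => Iso.refl I).symm ≪≫
        PreservesCoproduct.iso (Coh.push i) fun _ : ULift.{u} (Fin r) => I
    exact DevissExt.tf_sigma (I := ULift.{u} (Fin r)) (DevissExt.tf_push i ι) _ (kernel.ι φ ≫ d.hom)
      (mono_comp _ _) (DevissLib.notMem_support_kernel φ ξ hφb.1)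
  obtain ⟨U, hU, hbij⟩ := CohExtLib.exists_bijective hF (QCohLib.isCoh_push_finite i _ hcohI) φ hφb
  exact ⟨r, I, ι, φ, Dual3.mono_idealMulι K O, CohExtLib.isCoh_idealMul K (DevissLib.isCoh_structureModule Z),
    inferInstance, U, hU, CohExtLib.isIso_restrict_of_stalks φ hbij⟩

end Groth.Agent.S9521
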