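import Groth.Statements.S9525
import Groth.Agent.CohExtLib.Local

set_option autoImplicit false
universe u
open Coherent

namespace Groth.Agent.S9525

open CategoryTheory CategoryTheory.Limits AlgebraicGeometry in
/-- Let X be a locally Noetherian scheme, F and G coherent O_X-modules, φ : G → F a morphism and x ∈ X.
(1) If F_x = 0 there is an open neighbourhood U of x with F|_U = 0. (2) If the stalk map φ_x : G_x →
F_x is injective there is an open neighbourhood U of x with φ|_U injective. (4) If φ_x is bijective
there is an open neighbourhood U of x with φ|_U an isomorphism. (Part (3), surjectivity, is the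
finite-type statement valid on any ringed space and is not restated.) -/
theorem result (X : Scheme.{u}) [IsLocallyNoetherian X]
    (F G : X.Modules) (hF : Coh.IsCoh F) (hG : Coh.IsCoh G) (φ : G ⟶ F) (x : X) :
    (Subsingleton ↑(F.presheaf.stalk x) →
      ∃ U : X.Opens, x ∈ U ∧ IsZero ((Scheme.Modules.restrictFunctor U.ι).obj F)) ∧
    (Function.Injective ((TopCat.Presheaf.stalkFunctor _ x).map φ.mapPresheaf).hom →
      ∃ U : X.Opens, x ∈ U ∧ Mono ((Scheme.Modules.restrictFunctor U.ι).map φ)) ∧
    (Function.Bijective ((TopCat.Presheaf.stalkFunctor _ x).map φ.mapPresheaf).hom →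
      ∃ U : X.Opens, x ∈ U ∧ IsIso ((Scheme.Modules.restrictFunctor U.ι).map φ)) := by
  have hfun : ∀ y : X, (⇑((TopCat.Presheaf.stalkFunctor _ y).map φ.mapPresheaf).hom :
      G.presheaf.stalk y → F.presheaf.stalk y) = ⇑((DevissLib.St y).map φ).hom := by
    intro y
    funext a
    obtain ⟨V, hy, s, rfl⟩ := TopCat.Presheaf.exists_germ_eq G.presheaf (x := y) a
    exact (TopCat.Presheaf.stalkFunctor_map_germ_apply V y hy φ.mapPresheaf s).trans
      (DevissLib.gm_app φ y hy s).symm
  refine ⟨fun h => ⟨CohExtLib.offSupp hF, not_not.mpr h, CohExtLib.isZero_restrict fun y hy => hy⟩,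
    fun h => ?_, fun h => ?_⟩
  · rw [hfun] at h
    obtain ⟨U, hx, hU⟩ := CohExtLib.exists_mono_restrict hF hG φ h
    refine ⟨U, hx, CohExtLib.mono_restrict φ fun V hV => (injective_iff_map_eq_zero _).2 fun s hs => ?_⟩
    refine CohExtLib.eq_zero_of_gm s fun p hp => hU p (hV hp) ?_
    rw [DevissLib.gm_app, hs, map_zero]
    exact DevissLib.gm_zero F p hp
  · rw [hfun] at h
    obtain ⟨U, hx, hU⟩ := CohExtLib.exists_bijective hF hG φ h
    exact ⟨U, hx, CohExtLib.isIso_restrict_of_stalks φ hU⟩

end Groth.Agent.S9525
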