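import Groth.Statements.S9526
import Groth.Agent.CohExtLib.Local

set_option autoImplicit false
universe u
open Coherent

namespace Groth.Agent.S9526

open CategoryTheory CategoryTheory.Limits AlgebraicGeometry in
/-- Let X be a locally Noetherian scheme, F and G coherent O_X-modules, x ∈ X and ψ : G_x → F_x an
O_{X,x}-linear map. Then there are an open neighbourhood U of x and a morphism φ : G|_U → F|_U with
φ_x = ψ (the stalk map of φ at x, composed with the canonical identifications of the stalks of G|_U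
and F|_U at x with G_x and F_x, is ψ). -/
theorem result (X : Scheme.{u}) [IsLocallyNoetherian X]
    (F G : X.Modules) (hF : Coh.IsCoh F) (hG : Coh.IsCoh G) (x : X)
    (ψ : ↑(G.presheaf.stalk x) →ₗ[X.presheaf.stalk x] ↑(F.presheaf.stalk x)) :
    ∃ (U : X.Opens) (hx : x ∈ U)
      (φ : (Scheme.Modules.restrictFunctor U.ι).obj G ⟶ (Scheme.Modules.restrictFunctor U.ι).obj F),
      (Scheme.Modules.restrictStalkNatIso U.ι (⟨x, hx⟩ : U)).inv.app G ≫
          (TopCat.Presheaf.stalkFunctor _ (⟨x, hx⟩ : U)).map φ.mapPresheaf ≫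
            (Scheme.Modules.restrictStalkNatIso U.ι (⟨x, hx⟩ : U)).hom.app F =
        AddCommGrpCat.ofHom ψ.toAddMonoidHom := by
  obtain ⟨H, p₁, p₂, hH, hb, hcomm⟩ := CohExtLib.exists_stalk_graph hG hF x ψ
  obtain ⟨U, hxU, hU⟩ := CohExtLib.exists_bijective hG hH p₁ hb
  haveI hi : IsIso ((Scheme.Modules.restrictFunctor U.ι).map p₁) := CohExtLib.isIso_restrict_of_stalks p₁ hU
  let φ := inv ((Scheme.Modules.restrictFunctor U.ι).map p₁) ≫ (Scheme.Modules.restrictFunctor U.ι).map p₂
  refine ⟨U, hxU, φ, ?_⟩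
  let v : U := ⟨x, hxU⟩
  let N := Scheme.Modules.restrictStalkNatIso U.ι v
  let T := Scheme.Modules.toPresheaf (U : Scheme.{u}) ⋙ TopCat.Presheaf.stalkFunctor Ab.{u} (v : (U : Scheme.{u}).toTopCat)
  let S := Scheme.Modules.toPresheaf X ⋙ TopCat.Presheaf.stalkFunctor Ab.{u} (x : X.toTopCat)
  haveI : IsIso (S.map p₁) := (ConcreteCategory.isIso_iff_bijective _).2 hb
  have h1 : S.map p₁ ≫ N.inv.app G = N.inv.app H ≫ T.map ((Scheme.Modules.restrictFunctor U.ι).map p₁) :=
    N.inv.naturality p₁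
  have h2 : T.map ((Scheme.Modules.restrictFunctor U.ι).map p₁) ≫ T.map φ =
      T.map ((Scheme.Modules.restrictFunctor U.ι).map p₂) := by
    rw [← T.map_comp]
    exact congrArg T.map (IsIso.hom_inv_id_assoc _ _)
  have h3 : T.map ((Scheme.Modules.restrictFunctor U.ι).map p₂) ≫ N.hom.app F = N.hom.app H ≫ S.map p₂ :=
    N.hom.naturality p₂
  show N.inv.app G ≫ T.map φ ≫ N.hom.app F = _
  apply (cancel_epi (S.map p₁)).1
  refine ((Category.assoc _ _ _).symm.trans (congrArg (· ≫ _) h1)).trans ?_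
  refine (Category.assoc _ _ _).trans ((congrArg (N.inv.app H ≫ ·)
    ((Category.assoc _ _ _).symm.trans ((congrArg (· ≫ N.hom.app F) h2).trans h3))).trans ?_)
  refine ((Category.assoc _ _ _).symm.trans ((congrArg (· ≫ S.map p₂) (N.inv_hom_id_app H)).trans
    (Category.id_comp _))).trans ?_
  exact ConcreteCategory.hom_ext _ _ fun z => hcomm z

end Groth.Agent.S9526
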