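import Groth.Statements.S9529
import Groth.Agent.ExtStalkLib.SheafHomStalk


set_option autoImplicit false
universe u
open CategoryTheory CategoryTheory.Limits AlgebraicGeometry
attribute [local instance] HasDerivedCategory.standard
open Coherent

namespace Groth.Agent.S9529

/-- Let X be a locally Noetherian scheme, F and G coherent O_X-modules and H = Hom_{O_X}(F, G). If G has
property (S_1), so has H; if G has property (S_2), so has H. Here a coherent module M has (S_k) when
depth M_x ≥ min(k, dim Supp M_x) for every x ∈ X, with M_x regarded as a module over O_{X,x} (the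
zero module has depth ∞ and support dimension −∞); the sheaf Hom is the right adjoint of F ⊗ − under
its existence binder. -/
theorem result (X : Scheme.{u}) [IsLocallyNoetherian X] (F G : X.Modules)
    (hF : Coh.IsCoh F) (hG : Coh.IsCoh G) [DCoh.HasSheafHom F] (k : ℕ) (hk : k = 1 ∨ k = 2)
    (hS : ∀ x : X, min (k : WithBot ℕ∞) (Module.supportDim (X.presheaf.stalk x) ↑(G.presheaf.stalk x)) ≤
      ((LocCoh.depth (X.presheaf.stalk x) ↑(G.presheaf.stalk x) : ℕ∞) : WithBot ℕ∞)) (x : X) :
    min (k : WithBot ℕ∞)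
        (Module.supportDim (X.presheaf.stalk x) ↑(((DCoh.sheafHom F).obj G).presheaf.stalk x)) ≤
      ((LocCoh.depth (X.presheaf.stalk x) ↑(((DCoh.sheafHom F).obj G).presheaf.stalk x) : ℕ∞) :
        WithBot ℕ∞) := by
  have h12 : ((1 : ℕ∞) ≤ LocCoh.depth (X.presheaf.stalk x) ↑(G.presheaf.stalk x) →
      (1 : ℕ∞) ≤ LocCoh.depth (X.presheaf.stalk x) ↑(((DCoh.sheafHom F).obj G).presheaf.stalk x)) ∧
    ((2 : ℕ∞) ≤ LocCoh.depth (X.presheaf.stalk x) ↑(G.presheaf.stalk x) →
      (2 : ℕ∞) ≤ LocCoh.depth (X.presheaf.stalk x) ↑(((DCoh.sheafHom F).obj G).presheaf.stalk x)) :=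
    Groth.Agent.ExtStalkLib.depth_sheafHom hF hG x
  have hle : Module.supportDim (X.presheaf.stalk x) ↑(((DCoh.sheafHom F).obj G).presheaf.stalk x) ≤
      Module.supportDim (X.presheaf.stalk x) ↑(G.presheaf.stalk x) :=
    Groth.Agent.ExtStalkLib.supportDim_sheafHom_le hF G x
  have hS' := hS x
  revert h12 hle hS'
  generalize LocCoh.depth (X.presheaf.stalk x) ↑(G.presheaf.stalk x) = d
  generalize LocCoh.depth (X.presheaf.stalk x) ↑(((DCoh.sheafHom F).obj G).presheaf.stalk x) = e
  generalize Module.supportDim (X.presheaf.stalk x) ↑(G.presheaf.stalk x) = s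
  generalize Module.supportDim (X.presheaf.stalk x) ↑(((DCoh.sheafHom F).obj G).presheaf.stalk x) = t
  intro h12 hle hS'
  obtain _ | t := t
  · exact min_le_of_right_le bot_le
  obtain _ | s := s
  · exact absurd hle (by exact WithBot.not_coe_le_bot t)
  rcases hk with rfl | rfl
  · rcases eq_or_ne t 0 with rfl | ht
    · exact min_le_of_right_le (WithBot.coe_le_coe.2 zero_le)
    · refine min_le_of_left_le (WithBot.coe_le_coe.2 (h12.1 (le_trans ?_ (WithBot.coe_le_coe.1 hS'))))
      exact le_min le_rfl ((ENat.one_le_iff_ne_zero.2 ht).trans (WithBot.coe_le_coe.1 hle))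
  · rcases le_or_gt (2 : ℕ∞) t with ht | ht
    · refine min_le_of_left_le (WithBot.coe_le_coe.2 (h12.2 (le_trans ?_ (WithBot.coe_le_coe.1 hS'))))
      exact le_min le_rfl (ht.trans (WithBot.coe_le_coe.1 hle))
    · refine min_le_of_right_le (WithBot.coe_le_coe.2 ?_)
      rcases eq_or_ne t 0 with rfl | ht0
      · exact zero_le
      · have ht1 : t ≤ 1 := ENat.lt_add_one_iff (by simp) |>.1 (by simpa [one_add_one_eq_two] using ht)
        exact ht1.trans (h12.1 ((le_min (by norm_num) ((ENat.one_le_iff_ne_zero.2 ht0).trans (WithBot.coe_le_coe.1 hle))).trans (WithBot.coe_le_coe.1 hS')))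


end Groth.Agent.S9529
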