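import Groth.Statements.S9554
import Groth.Agent.EssZeroLib.Completion

set_option autoImplicit false
set_option backward.isDefEq.respectTransparency false
set_option backward.isDefEq.respectTransparency.types false
set_option maxRecDepth 8000
set_option maxHeartbeats 1000000
universe u
open CategoryTheory CategoryTheory.Limits AlgebraicGeometry
open Lef

namespace Groth.Agent.S9554

/-- Let k be a field, X a proper k-scheme, L an ample invertible O_X-module, s a global section of L
(not necessarily regular) with zero scheme Y and ideal 𝓘, Y_n the closed subscheme defined by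
𝓘^(n+1) with closed immersion ι_n, and F a coherent O_X-module with depth(F_x) + dim cl(x) > 1 at
every point x of X outside Y. Then for every open V ⊆ X containing Y the canonical map Γ(V, F) →
lim_n Γ(Y_n, F|_{Y_n}) is bijective. Here Γ(Y_n, F|_{Y_n}) is written as the sections over V of
ι_n,* ι_n^* F (all of its sections, as Y_n ⊆ V), the map from Γ(V, F) is induced by the unit F →
ι_n,* ι_n^* F, and the transition maps come from the units of the inclusions Y_n → Y_(n+1) together
with the identifications of the formal-completion system. -/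
theorem result (k : Type u) [Field k] (X : Scheme.{u})
    (f : X ⟶ Spec (CommRingCat.of k)) [IsProper f] (L : X.Modules) (hL : CohB1.IsAmple L)
    (s : Coh.structureModule X ⟶ L) (F : X.Modules) (hF : Coh.IsCoh F)
    (hd : ∀ x : X, x ∉ ((PicF2.zeroScheme L s).support : Set X) →
      (1 : WithBot ℕ∞) < (LocCoh.depth (X.presheaf.stalk x) (F.presheaf.stalk x) : WithBot ℕ∞) +
        topologicalKrullDim ↥(closure ({x} : Set X)))
    (V : X.Opens) (hV : ((PicF2.zeroScheme L s).support : Set X) ⊆ (V : Set X)) :
    (∀ σ : (Scheme.Modules.presheaf F).obj (Opposite.op V),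
      (∀ n : ℕ, Scheme.Modules.Hom.app ((Scheme.Modules.pullbackPushforwardAdjunction (FSch.completionToX X (PicF2.zeroScheme L s) n)).unit.app F) V σ = 0) → σ = 0) ∧
    (∀ y : (∀ n : ℕ, (Scheme.Modules.presheaf ((Scheme.Modules.pushforward (FSch.completionToX X (PicF2.zeroScheme L s) n)).obj ((FSch.completionMod (PicF2.zeroScheme L s) F).F n))).obj (Opposite.op V)),
      (∀ n : ℕ, Scheme.Modules.Hom.app
          ((Scheme.Modules.pushforward (FSch.completionToX X (PicF2.zeroScheme L s) (n + 1))).map
            ((Scheme.Modules.pullbackPushforwardAdjunction ((FSch.completionAlong X (PicF2.zeroScheme L s)).ι n)).unit.app ((FSch.completionMod (PicF2.zeroScheme L s) F).F (n + 1))) ≫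
          (Scheme.Modules.pushforwardComp ((FSch.completionAlong X (PicF2.zeroScheme L s)).ι n) (FSch.completionToX X (PicF2.zeroScheme L s) (n + 1))).hom.app _ ≫
          (Scheme.Modules.pushforwardCongr (Scheme.IdealSheafData.inclusion_subschemeι (FSch.pow_succ_le X (PicF2.zeroScheme L s) n))).hom.app _ ≫
          (Scheme.Modules.pushforward (FSch.completionToX X (PicF2.zeroScheme L s) n)).map ((FSch.completionMod (PicF2.zeroScheme L s) F).e n).hom) V (y (n + 1)) = y n) →
        ∃ σ : (Scheme.Modules.presheaf F).obj (Opposite.op V),
          ∀ n : ℕ, Scheme.Modules.Hom.app ((Scheme.Modules.pullbackPushforwardAdjunction (FSch.completionToX X (PicF2.zeroScheme L s) n)).unit.app F) V σ = y n) := by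
  letI : X.Over (Spec (CommRingCat.of k)) := ⟨f⟩
  haveI : IsProper (X ↘ Spec (CommRingCat.of k)) := ‹IsProper f›
  haveI : ∀ n, IsClosedImmersion (FSch.completionToX X (PicF2.zeroScheme L s) n) := fun n =>
    inferInstanceAs (IsClosedImmersion ((PicF2.zeroScheme L s) ^ (n + 1)).subschemeι)
  exact EssZeroLib.formal_sections_completion k X F (PicF2.zeroScheme L s) V
    (EssZeroLib.exists_zeroStep_section_coh k hL s F hF 1 (by exact_mod_cast hd))
    (fun n => ((Scheme.IdealSheafData.range_subschemeι _).trans
      (congrArg (fun Z : TopologicalSpace.Closeds X => (Z : Set X))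
        (Scheme.IdealSheafData.support_pow (PicF2.zeroScheme L s) (n + 1) (Nat.succ_ne_zero n)))).trans_subset hV)
    (EssZeroLib.bijective_res_open k hL s hF hd hV)

end Groth.Agent.S9554
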