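import Groth.Statements.S9558
import Groth.Agent.EtLocLib.Unram
-- import your own Groth.Agent.* helpers here

set_option autoImplicit false
universe u
open EtLocal

namespace Groth.Agent.S9558

open AlgebraicGeometry CategoryTheory Limits in
/-- Let f : X ⟶ S be a separated morphism of schemes, s a point of S and x_1, …, x_n pairwise distinct
points of X over s such that f is étale at each x_i (the restriction of f to some open neighbourhood
of x_i is étale). Then there are an étale morphism g : U ⟶ S, a point u of U over s, and a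
decomposition of X_U = X ×_S U into pairwise disjoint open subschemes W and finitely many V_k which
together cover X_U, such that each V_k ⟶ U is an isomorphism and no point of W over u maps to any of
the x_i. -/
theorem result {X S : Scheme.{u}} (f : X ⟶ S)
    [IsSeparated f] (s : S)
    {ι : Type} [Finite ι] (x : ι → ↑X) (hinj : Function.Injective x) (hs : ∀ i, f (x i) = s)
    (hx : ∀ i, ∃ W : X.Opens, x i ∈ W ∧ Etale (W.ι ≫ f)) :
    ∃ (U : Scheme.{u}) (g : U ⟶ S) (u : U), Etale g ∧ g u = s ∧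
      ∃ (K : Type) (_ : Finite K) (W : (pullback f g).Opens) (V : K → (pullback f g).Opens),
        W ⊔ (⨆ k, V k) = ⊤ ∧ (∀ k, Disjoint W (V k)) ∧ (∀ k k', k ≠ k' → Disjoint (V k) (V k')) ∧
        (∀ k, IsIso ((V k).ι ≫ pullback.snd f g)) ∧
        (∀ (w : ↑(pullback f g)) (i : ι), w ∈ W → pullback.snd f g w = u → pullback.fst f g w ≠ x i) := by
  choose W0 hxW hW using hx
  obtain ⟨U, g, hg, u, hgu, K, hK, lab, V, h⟩ :=
    EtLocLib.exists_localisation f s x hinj hs W0 hxW
      (fun i => by haveI := hW i; exact ⟨inferInstance, inferInstance⟩)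
  obtain ⟨O₁, hu₁, hdis₁⟩ := EtLocLib.exists_disjoint f h
  have h₁ := h.shrink f O₁ hu₁
  obtain ⟨O, hu, hiso⟩ := EtLocLib.exists_isIso f hW h₁
  have h' := h₁.shrink f O hu
  let U' : Scheme.{u} := O
  let G : U' ⟶ S := O.ι ≫ O₁.ι ≫ g
  let u' : U' := ⟨_, hu⟩
  have hgu' : G.base u' = s := hgu
  let V' : K → (pullback f G).Opens := fun k =>
    EtLocLib.proj f (O₁.ι ≫ g) O.ι ⁻¹ᵁ (EtLocLib.proj f g O₁.ι ⁻¹ᵁ V k)
  haveI : Etale G := inferInstanceAs (Etale (O.ι ≫ O₁.ι ≫ g))
  have hdis : ∀ k k', k ≠ k' → Disjoint (V' k) (V' k') := fun k k' hne => by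
    rw [disjoint_iff, eq_bot_iff]
    intro v hv
    exact absurd ((disjoint_iff.mp (hdis₁ k k' hne)).le ⟨hv.1, hv.2⟩) (by simp)
  have hcl : ∀ k, IsClosed ((V' k : (pullback f G).Opens) : Set ↥(pullback f G)) :=
    fun k => EtLocLib.isClopen_of_isClosedImmersion f (h'.1 k).1
  refine ⟨U', G, u', inferInstance, hgu', K, hK,
    ⟨(⋃ k, (V' k : Set ↥(pullback f G)))ᶜ, (isClosed_iUnion_of_finite hcl).isOpen_compl⟩, V',
    ?_, ?_, hdis, ?_, ?_⟩
  · refine TopologicalSpace.Opens.ext (Set.eq_univ_of_forall fun v => ?_)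
    by_cases hv : v ∈ ⋃ k, (V' k : Set ↥(pullback f G))
    · refine Or.inr ?_
      simpa using hv
    · exact Or.inl hv
  · intro k
    rw [disjoint_iff, eq_bot_iff]
    rintro v ⟨hv, hv'⟩
    exact absurd (Set.mem_iUnion.mpr ⟨k, hv'⟩) hv
  · exact hiso
  · intro v i hv hvu hvx
    obtain ⟨k, -, hk⟩ := h'.2.2 v i hvu hvx
    exact hv (Set.mem_iUnion.mpr ⟨k, hk⟩)

end Groth.Agent.S9558
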