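import Groth.Statements.S9559
import Mathlib
-- import your own Groth.Agent.* helpers here

set_option autoImplicit false
open CategoryTheory CategoryTheory.Limits AlgebraicGeometry Opposite
universe u
open TensorProduct
open EtLocal

namespace Groth.Agent.S9559

/-- A finite étale morphism f : X ⟶ S becomes, after base change to a suitable étale neighbourhood (U,
u) of any point s of S, a finite disjoint union of copies of U: X_U is isomorphic over U to a finite
coproduct of schemes V_j each of which maps isomorphically onto U. -/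
theorem result {X S : Scheme.{u}} (f : X ⟶ S) [IsFinite f] [Etale f] (s : S) :
    ∃ (U : Scheme.{u}) (g : U ⟶ S) (_ : AlgebraicGeometry.Etale g) (u : U) (_ : g.base u = s)
      (n : ℕ) (V : Fin n → Scheme.{u}) (c : ∀ j, V j ⟶ U) (_ : ∀ j, IsIso (c j))
      (e : (∐ V) ≅ pullback f g), ∀ j, Sigma.ι V j ≫ e.hom ≫ pullback.snd f g = c j := by
  classical
  obtain ⟨_, ⟨W : S.Opens, hW, rfl⟩, hsW, -⟩ :=
    S.isBasis_affineOpens.exists_subset_of_mem_open (Set.mem_univ s) isOpen_univ
  have hV : IsAffineOpen (f ⁻¹ᵁ W) := hW.preimage f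
  let R := Γ(S, W)
  let A := Γ(X, f ⁻¹ᵁ W)
  let φ : R ⟶ A := f.appLE W (f ⁻¹ᵁ W) le_rfl
  letI : Algebra R A := φ.hom.toAlgebra
  haveI : Algebra.Etale R A := RingHom.etale_algebraMap.mp (f.etale_appLE hW hV le_rfl)
  haveI : Module.Finite R A := RingHom.finite_algebraMap.mp (by
    have := f.finite_app W hW
    rwa [Scheme.Hom.app_eq_appLE] at this)
  haveI : Module.FinitePresentation R A := Module.FinitePresentation.of_finite_of_finitePresentation R A
  let p : PrimeSpectrum R := hW.primeIdealOf ⟨s, hsW⟩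
  obtain ⟨_, ⟨r, rfl⟩, hpr, hrk⟩ := PrimeSpectrum.isTopologicalBasis_basic_opens.exists_subset_of_mem_open
    (show p ∈ {q | Module.rankAtStalk (R := R) A q = Module.rankAtStalk A p} from rfl)
    ((Module.isLocallyConstant_rankAtStalk (R := R) (M := A)).isOpen_fiber _)
  let Rr := Localization.Away r
  obtain ⟨T, _, _, hT1, _, hT2, hT3⟩ := Algebra.IsFiniteSplit.exists_tensorProduct_of_etale
    (R := Rr) (S := Rr ⊗[R] A) (n := Module.rankAtStalk A p) (funext fun q => by
      rw [Module.rankAtStalk_baseChange]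
      exact hrk (by
        change _ ∈ PrimeSpectrum.basicOpen r
        rw [← SetLike.mem_coe, ← PrimeSpectrum.localization_away_comap_range Rr r]
        exact ⟨q, rfl⟩))
  letI : Algebra R T := ((algebraMap Rr T).comp (algebraMap R Rr)).toAlgebra
  haveI : IsScalarTower R Rr T := IsScalarTower.of_algebraMap_eq' rfl
  haveI : Algebra.Etale R Rr := Algebra.Etale.of_isLocalizationAway r
  haveI : Algebra.Etale R T := Algebra.Etale.comp R Rr T
  haveI : Algebra.IsFiniteSplit T (T ⊗[R] A) :=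
    .of_algEquiv (Algebra.TensorProduct.cancelBaseChange R Rr T T A)
  obtain ⟨n, ⟨eA⟩⟩ := Algebra.IsFiniteSplit.nonempty_algEquiv_fun T (T ⊗[R] A)
  let gT : Spec (CommRingCat.of T) ⟶ Spec R := Spec.map (CommRingCat.ofHom (algebraMap R T))
  haveI : Etale gT := (HasRingHomProperty.Spec_iff (P := @Etale)).2 (RingHom.etale_algebraMap.2 inferInstance)
  obtain ⟨q₀, hq₀⟩ : p ∈ Set.range (PrimeSpectrum.comap (algebraMap R Rr)) := by
    rw [PrimeSpectrum.localization_away_comap_range Rr r]; exact hpr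
  obtain ⟨q, hq⟩ := PrimeSpectrum.comap_surjective_of_faithfullyFlat (B := T) q₀
  refine ⟨Spec (CommRingCat.of T), gT ≫ hW.fromSpec, inferInstance, q, ?_, n,
    fun _ => Spec (CommRingCat.of T), fun _ => 𝟙 _, fun _ => inferInstance, ?_⟩
  · have h1 : gT.base q = p := by
      rw [← hq₀, ← hq]
      rfl
    rw [Scheme.Hom.comp_apply, h1]
    exact hW.fromSpec_primeIdealOf ⟨s, hsW⟩
  have hA : hV.isoSpec.hom ≫ hV.fromSpec = (f ⁻¹ᵁ W).ι := Iso.hom_inv_id_assoc _ _
  have hR : hW.isoSpec.hom ≫ hW.fromSpec = W.ι := Iso.hom_inv_id_assoc _ _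
  have hnat : (f ∣_ W) ≫ hW.isoSpec.hom = hV.isoSpec.hom ≫ Spec.map φ := by
    rw [← cancel_mono hW.fromSpec, Category.assoc, hR, morphismRestrict_ι, Category.assoc,
      IsAffineOpen.SpecMap_appLE_fromSpec f hW hV le_rfl, ← Category.assoc, hA]
  have sq : IsPullback hV.fromSpec (Spec.map φ) f hW.fromSpec :=
    (isPullback_morphismRestrict f W).flip.of_iso hV.isoSpec (Iso.refl _) hW.isoSpec (Iso.refl _)
      (by rw [Iso.refl_hom, Category.comp_id, hA]) hnat (by simp)
      (by rw [Iso.refl_hom, Category.comp_id, hR])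
  have sq2 : IsPullback (Spec.map (CommRingCat.ofHom (Algebra.TensorProduct.includeLeftRingHom (R := R) (A := T) (B := A))))
      (Spec.map (CommRingCat.ofHom (Algebra.TensorProduct.includeRight (R := R) (A := T) (B := A)).toRingHom))
      gT (Spec.map φ) :=
    isPullback_SpecMap_of_isPushout _ _ _ _ (CommRingCat.isPushout_tensorProduct R T A)
  have sq3 := sq2.flip.paste_horiz sq
  let ε : ULift.{u} (Fin n) ≃ Fin n := Equiv.ulift
  let eP : (T ⊗[R] A) ≃ₐ[T] (ULift.{u} (Fin n) → T) :=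
    eA.trans (AlgEquiv.piCongrLeft' T (fun _ : Fin n => T) ε.symm)
  let ec : CommRingCat.of (ULift.{u} (Fin n) → T) ≅ CommRingCat.of (T ⊗[R] A) := eP.symm.toRingEquiv.toCommRingCatIso
  let F : Fin n → Scheme.{u} := fun _ => Spec (CommRingCat.of T)
  let e : (∐ F) ≅ pullback f (gT ≫ hW.fromSpec) :=
    (Sigma.reindex ε F).symm ≪≫ asIso (sigmaSpec fun _ : ULift.{u} (Fin n) => CommRingCat.of T) ≪≫
      asIso (Spec.map ec.inv) ≪≫ sq3.isoPullback
  refine ⟨e, fun j => ?_⟩
  have h0 : Sigma.ι F j ≫ (Sigma.reindex ε F).inv = Sigma.ι (F ∘ ε) ⟨j⟩ := by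
    rw [Iso.comp_inv_eq]; exact (Sigma.ι_reindex_hom ε F ⟨j⟩).symm
  simp only [e, Iso.trans_hom, Iso.symm_hom, asIso_hom, Category.assoc, IsPullback.isoPullback_hom_snd]
  rw [← Category.assoc, h0]
  erw [← Category.assoc, ι_sigmaSpec, ← Spec.map_comp, ← Spec.map_comp]
  rw [← Spec.map_id]
  congr 1
  ext t
  change eA (t ⊗ₜ[R] (1 : A)) j = t
  rw [show (t ⊗ₜ[R] (1 : A)) = algebraMap T (T ⊗[R] A) t from rfl, eA.commutes]
  rfl

end Groth.Agent.S9559
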