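import Groth.Statements.S9569
import Mathlib
import Groth.Agent.GrowthLib.ZeroQuot
import Groth.Agent.CurvLib.EulerTensor
import Groth.Agent.GenusZeroLib.Mult
import Groth.Agent.PnCohLib.FlatSections
import Groth.Agent.MiscFlat6.TensorGG
import Groth.Agent.MiscFlat6.Untwist
import Groth.Agent.AmpleFinGenLib.Divisor
import Groth.Agent.FormalLib.ModPow
import Groth.Agent.ProjFormLib.Frame
-- import your own Groth.Agent.* helpers here

set_option autoImplicit false
universe u
open CategoryTheory CategoryTheory.Limits AlgebraicGeometry TopologicalSpace Opposite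
open Constr

namespace Groth.Agent.S9569

/-- Let X be a scheme, L an invertible O_X-module and s_0, …, s_n global sections of L, given as module
maps O_X → L, which generate L: the map O_X^{n+1} → L they induce is an epimorphism. Let F be the
kernel of that map. Then F ⊗ L is globally generated, i.e. it is a quotient of a free O_X-module. -/
theorem result (X : Scheme.{u}) (L : X.Modules) (hL : PicF.IsInvertible L)
    (n : ℕ) (s : Fin (n + 1) → (Coh.structureModule X ⟶ L))
    (hs : Epi (Sigma.desc s : FlatMod.freeMod X (n + 1) ⟶ L)) :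
    Curv2.IsGloballyGenerated (CohB1.tensorMod (kernel (Sigma.desc s : FlatMod.freeMod X (n + 1) ⟶ L)) L) := by
  classical
  let O := Coh.structureModule X
  let d : FlatMod.freeMod X (n + 1) ⟶ L := Sigma.desc s
  let F := kernel d
  let ιj : Fin (n + 1) → (O ⟶ FlatMod.freeMod X (n + 1)) := fun j => Sigma.ι (fun _ : Fin (n + 1) => O) j
  let πj : Fin (n + 1) → (FlatMod.freeMod X (n + 1) ⟶ O) := fun j =>
    Sigma.desc fun l => if l = j then 𝟙 O else 0
  have hid : ∑ j, πj j ≫ ιj j = 𝟙 _ := by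
    refine Sigma.hom_ext _ _ fun l => ?_
    rw [Preadditive.comp_sum, Category.comp_id, Finset.sum_eq_single l]
    · simp only [πj, ιj, Sigma.ι_desc_assoc, if_pos]
      exact Category.id_comp _
    · intro j _ hj
      simp [πj, ιj, Ne.symm hj]
    · simp
  choose φ hφ using fun j => GrowthLib.exists_evalSec hL (s j)
  have hco : ∀ (W : X.Opens) (g : Γ(L, W)) (hg : AmpleLib.GenOn L g), ∃ c : Fin (n + 1) → Γ(X, W),
      ∀ j, c j • g = MeroLib.secOn (s j) W ∧ (φ j).app W (MiscFlat6.dualGen ⟨W, g, hg⟩) = c j := fun W g hg => by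
    choose c hc using fun j => (hg W le_rfl).2 (MeroLib.secOn (s j) W)
    simp only [AmpleLib.res_refl] at hc
    exact ⟨c, fun j => ⟨hc j, hφ j W g hg (c j) (hc j)⟩⟩
  have hκ : ∀ i j, (φ j ≫ ιj i - φ i ≫ ιj j) ≫ d = 0 := fun i j => by
    rw [Preadditive.sub_comp, sub_eq_zero]
    simp only [Category.assoc, ιj, d, Sigma.ι_desc]
    refine sub_eq_zero.1 (GrowthLib.hom_zero_of_small _ (fun W => ∃ g : Γ(L, W), AmpleLib.GenOn L g) (fun U x hx => ?_)
      fun W ⟨g, hg⟩ t => ?_)
    · obtain ⟨V, e, hxV, he⟩ := TwistLib.exists_genOn hL x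
      exact ⟨U ⊓ V, ⟨_, he.res (inf_le_right : U ⊓ V ≤ V)⟩, ⟨hx, hxV⟩, inf_le_left⟩
    · obtain ⟨c, hc⟩ := hco W g hg
      obtain ⟨r, hr⟩ := (MiscFlat6.dualGen_genOn ⟨W, g, hg⟩ W le_rfl).2 t
      simp only [AmpleLib.res_refl] at hr
      show (s i).app W ((φ j).app W t) - (s j).app W ((φ i).app W t) = 0
      rw [← hr, QCohLib.app_smul (φ j), QCohLib.app_smul (φ i), (hc j).2, (hc i).2, QCohLib.app_smul (s i),
        QCohLib.app_smul (s j)]
      erw [AmpleFinGenLib.app_eq_smul_secOn, AmpleFinGenLib.app_eq_smul_secOn]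
      rw [← (hc i).1, ← (hc j).1, smul_smul, smul_smul, smul_smul, smul_smul, sub_eq_zero]
      congr 1
      ring
  let κ : Fin (n + 1) → Fin (n + 1) → (MiscFlat6.dual L ⟶ F) := fun i j =>
    kernel.lift d (φ j ≫ ιj i - φ i ≫ ιj j) (hκ i j)
  have hsr : ∀ {A B : X.Modules} {W : X.Opens} (r : Γ(X, W)) (a : Γ(A, W)) (b : Γ(B, W)),
      AmpleLib.shT a (r • b) = r • AmpleLib.shT a b := fun {A B W} r a b => by
    have h := AmpleLib.shT_smul 1 r a b
    rwa [one_smul, one_mul] at h
  refine MiscFlat6.isGloballyGenerated_of_cancel _ fun N q hq => ?_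
  have hkill : ∀ i j (a : AmpleThLib.Gens L),
      q.app a.1 (AmpleLib.shT ((κ i j).app a.1 (MiscFlat6.dualGen a)) a.2.1) = 0 := fun i j a => by
    obtain ⟨u, hu⟩ := TwistLib.exists_hom_of_gens (M := O) (N := CohB1.tensorMod F L)
      (fun b : AmpleThLib.Gens L => b.1) (fun b => (1 : Γ(X, b.1)))
      (fun b => AmpleLib.shT ((κ i j).app b.1 (MiscFlat6.dualGen b)) b.2.1) ((AmpleThLib.gens_cover hL))
      (fun b => AmpleLib.one_genOn b.1) fun b b' V hb hb' r hr => by
        have h1 : r = 1 := by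
          have e : ∀ (U : X.Opens) (h : V ≤ U), AmpleLib.res O h (1 : Γ(X, U)) = (1 : Γ(X, V)) :=
            fun U h => map_one (X.presheaf.map (homOfLE h).op).hom
          rw [e, e] at hr
          exact (mul_one r).symm.trans hr
        rw [h1, one_smul, AmpleLib.shT_res, AmpleLib.shT_res, MiscFlat6.app_res, MiscFlat6.app_res]
        obtain ⟨w, hw⟩ := (b.2.2 V hb).2 (AmpleLib.res L hb' b'.2.1)
        have hd := MiscFlat6.dualGen_trans b b' hb hb' w hw
        dsimp only at hw
        rw [← hd, ← hw, QCohLib.app_smul, PnCohLib.shT_smul_left, hsr]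
    have h0 := hq (u.app ⊤ (1 : Γ(X, ⊤)))
    have h2 := congrArg (AmpleLib.res N (le_top : a.1 ≤ ⊤)) h0
    rw [MiscFlat6.app_res, MiscFlat6.app_res] at h2
    rw [← hu a]
    refine Eq.trans ?_ (h2.trans (map_zero _))
    exact congrArg (fun z : Γ(O, a.1) => q.app a.1 (u.app a.1 z)) (map_one (X.presheaf.map (homOfLE le_top).op).hom).symm
  refine KFlatLib.tens_hom_ext (M := F) (N := L) (P := N) (a := q) (b := 0) fun U v b => ?_
  show q.app U (AmpleLib.shT v b) = (0 : Γ(N, U))
  refine ProjFormLib.section_ext (M := N) _ 0 fun t ht => ?_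
  obtain ⟨V, e, htV, he⟩ := TwistLib.exists_genOn hL t
  obtain ⟨W, hW, htW, hWUV⟩ := exists_isAffineOpen_mem_and_subset (U := U ⊓ V) (x := t) ⟨ht, htV⟩
  have hWU : W ≤ U := fun y hy => (hWUV hy).1
  let g := AmpleLib.res L (fun y hy => (hWUV hy).2 : W ≤ V) e
  have hg : AmpleLib.GenOn L g := he.res _
  rw [← ProjFormLib.ger_res N hWU t htW, ← ProjFormLib.ger_res N hWU t htW (0 : Γ(N, U))]
  refine congrArg (ProjFormLib.ger N t htW) ?_
  refine Eq.trans ?_ (map_zero (N.presheaf.map (homOfLE hWU).op).hom).symm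
  show AmpleLib.res N hWU (q.app U (AmpleLib.shT v b)) = 0
  rw [MiscFlat6.app_res, AmpleLib.shT_res]
  obtain ⟨b', hb'⟩ := (hg W le_rfl).2 (AmpleLib.res L hWU b)
  simp only [AmpleLib.res_refl] at hb'
  rw [← hb', hsr, QCohLib.app_smul]
  refine (congrArg (b' • ·) ?_).trans (smul_zero b')
  obtain ⟨c, hc⟩ := hco W g hg
  let w := AmpleLib.res F hWU v
  show q.app W (AmpleLib.shT w g) = 0
  let y : Γ(FlatMod.freeMod X (n + 1), W) := (kernel.ι d).app W w
  have hsum : ∀ z : Γ(FlatMod.freeMod X (n + 1), W), z = ∑ j, (ιj j).app W ((πj j).app W z) := fun z => by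
    conv_lhs => rw [show z = (𝟙 (FlatMod.freeMod X (n + 1)) : _ ⟶ _).app W z from rfl, ← hid]
    exact map_sum (AddMonoidHom.mk' (fun ψ : FlatMod.freeMod X (n + 1) ⟶ FlatMod.freeMod X (n + 1) => ψ.app W z) fun _ _ => rfl) _ _
  have hdesc : ∀ z : Γ(FlatMod.freeMod X (n + 1), W),
      d.app W z = (∑ j, (show Γ(X, W) from (πj j).app W z) * c j) • g := fun z => by
    conv_lhs => rw [hsum z]
    rw [map_sum, Finset.sum_smul]
    refine Finset.sum_congr rfl fun j _ => ?_
    show (ιj j ≫ d).app W ((πj j).app W z) = _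
    rw [show ιj j ≫ d = s j from Sigma.ι_desc _ _, AmpleFinGenLib.app_eq_smul_secOn, ← (hc j).1, smul_smul]
  have hy : ∑ j, (show Γ(X, W) from (πj j).app W y) * c j = 0 := by
    refine (hg W le_rfl).1 ?_
    simp only [AmpleLib.res_refl, zero_smul]
    rw [← hdesc y]
    exact congr(Scheme.Modules.Hom.app $(kernel.condition d) W w)
  have hci : ∀ i, c i • q.app W (AmpleLib.shT w g) = 0 := fun i => by
    have hw : c i • w = ∑ j, (show Γ(X, W) from (πj j).app W y) • (κ j i).app W (MiscFlat6.dualGen ⟨W, g, hg⟩) := by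
      refine QCohLib.app_injective_of_mono (kernel.ι d) W ?_
      rw [QCohLib.app_smul, map_sum]
      have e : ∀ j, (kernel.ι d).app W ((κ j i).app W (MiscFlat6.dualGen ⟨W, g, hg⟩)) =
          (ιj j).app W (c i) - (ιj i).app W (c j) := fun j => by
        rw [← (hc i).2, ← (hc j).2]
        exact congr(Scheme.Modules.Hom.app $(kernel.lift_ι d (φ i ≫ ιj j - φ j ≫ ιj i) (hκ j i)) W
          (MiscFlat6.dualGen ⟨W, g, hg⟩))
      have hl : ∀ j (r r' : Γ(X, W)), r • (ιj j).app W r' = r' • (ιj j).app W r := fun j r r' => by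
        rw [← QCohLib.app_smul, ← QCohLib.app_smul]
        exact congrArg ((ιj j).app W) (mul_comm r r')
      calc c i • (kernel.ι d).app W w = c i • ∑ j, (ιj j).app W ((πj j).app W y) := by rw [← hsum y]
        _ = ∑ j, (show Γ(X, W) from (πj j).app W y) • (ιj j).app W (c i) -
            (∑ j, (show Γ(X, W) from (πj j).app W y) * c j) • (ιj i).app W (1 : Γ(X, W)) := by
          rw [hy, zero_smul, sub_zero, Finset.smul_sum]
          exact Finset.sum_congr rfl fun j _ => hl j _ _
        _ = _ := by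
          rw [Finset.sum_smul, ← Finset.sum_sub_distrib]
          refine Finset.sum_congr rfl fun j _ => ?_
          rw [QCohLib.app_smul, e j, smul_sub, mul_smul, hl i (c j) (1 : Γ(X, W)), one_smul]
    let ξ : Γ(F, W) → Γ(N, W) := fun x => q.app W (AmpleLib.shT x g)
    have hadd : ∀ x x', ξ (x + x') = ξ x + ξ x' := fun x x' => by
      show q.app W (AmpleLib.shT (x + x') g) = _
      rw [PnCohLib.shT_add_left, map_add]
    let ξ' : Γ(F, W) →+ Γ(N, W) := AddMonoidHom.mk' ξ hadd
    have hlin : ∀ (r : Γ(X, W)) x, ξ' (r • x) = r • ξ' x := fun r x => by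
      show q.app W (AmpleLib.shT (r • x) g) = _
      rw [PnCohLib.shT_smul_left, QCohLib.app_smul]
      rfl
    show c i • ξ' w = 0
    rw [← hlin, hw, map_sum]
    refine Finset.sum_eq_zero fun j _ => ?_
    rw [hlin]
    exact (congrArg (_ • ·) (hkill j i ⟨W, g, hg⟩)).trans (smul_zero _)
  haveI : Coh.IsQCoh L := TwistLib.isQCoh_of_isInvertible hL
  haveI : Epi d := hs
  haveI : Coh.IsQCoh (Coh.structureModule X) := QCohLib.isQCoh_unit
  haveI : Coh.IsQCoh (FlatMod.freeMod X (n + 1)) := CurvLib.isQCoh_freeMod X _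
  obtain ⟨z, hz⟩ := FormalLib.app_surjective_of_epi _ d hW g
  rw [hdesc z] at hz
  have h1 : ∑ j, (show Γ(X, W) from (πj j).app W z) * c j = 1 := (hg W le_rfl).1 (by
    simp only [AmpleLib.res_refl, one_smul]; exact hz)
  rw [← one_smul Γ(X, W) (q.app W (AmpleLib.shT w g)), ← h1, Finset.sum_smul]
  exact Finset.sum_eq_zero fun j _ => by rw [mul_smul, hci, smul_zero]

end Groth.Agent.S9569
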