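import Groth.Statements.S9570
import Groth.Agent.ProjClosedLib.Sections
import Mathlib.RingTheory.MvPolynomial.Ideal
-- import your own Groth.Agent.* helpers here

set_option autoImplicit false
universe u
open CategoryTheory CategoryTheory.Limits AlgebraicGeometry TopologicalSpace Opposite
open Constr

namespace Groth.Agent.S9570

/-- Let R be a ring and i : Z → P^n_R a closed immersion. For d ≥ 0 let I_d be the kernel of the map
from the degree-d forms of R[T_0, …, T_n] to the global sections of i^*O(d), sending a form F to the
inverse image of the global section F of O(d). Then I = ⊕ I_d is a graded ideal and Z is the closed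
subscheme Proj(R[T_0, …, T_n]/I) of P^n_R: for every surjective homomorphism of graded rings φ from
R[T_0, …, T_n] onto a graded ring B whose kernel in each degree d is exactly I_d, there is an
isomorphism Z ≅ Proj B whose composite with the morphism Proj B → P^n_R induced by φ is i. -/
theorem result {R : Type u} [CommRing R] (n : ℕ)
    {Z : Scheme.{u}} (i : Z ⟶ CohB1.ProjSpace n R) [IsClosedImmersion i]
    {B : Type u} [CommRing B] [Algebra R B] (ℬ : ℕ → Submodule R B) [GradedAlgebra ℬ]
    (φ : CohB1.polyGrading n R →+*ᵍ ℬ) (hφs : Function.Surjective φ)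
    (hker : ∀ (d : ℕ) (F : MvPolynomial (Fin (n + 1)) R) (hF : F ∈ CohB1.polyGrading n R d),
      φ F = 0 ↔ ProjUP.pullSec i (Twist.twistProjSpace n R d) (Twist.globalOf (CohB1.polyGrading n R) ⟨F, hF⟩) = 0)
    (hφ : HomogeneousIdeal.irrelevant ℬ ≤ (HomogeneousIdeal.irrelevant (CohB1.polyGrading n R)).map φ) :
    ∃ e : Z ≅ Proj ℬ, e.hom ≫ Proj.map φ hφ = i := by
  classical
  let s : Finset (MvPolynomial (Fin (n + 1)) R) := Finset.univ.image MvPolynomial.X
  have hs1 : ∀ g ∈ s, g ∈ CohB1.polyGrading n R 1 := fun g hg => by
    obtain ⟨j, -, rfl⟩ := Finset.mem_image.mp hg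
    exact MvPolynomial.isHomogeneous_X R j
  have hspan : (HomogeneousIdeal.irrelevant (CohB1.polyGrading n R)).toIdeal ≤
      Ideal.span (s : Set (MvPolynomial (Fin (n + 1)) R)) := by
    intro p hp
    replace hp := (HomogeneousIdeal.mem_irrelevant_iff _ p).mp hp
    rw [GradedRing.proj_apply] at hp
    change ((DirectSum.decompose (CohB1.polyGrading n R) p) 0 : MvPolynomial (Fin (n + 1)) R) = 0 at hp
    replace hp : MvPolynomial.homogeneousComponent 0 p = 0 :=
      (MvPolynomial.decomposition.decompose'_apply p 0).symm.trans hp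
    rw [show (s : Set (MvPolynomial (Fin (n + 1)) R)) = MvPolynomial.X '' Set.univ by simp [s],
      MvPolynomial.mem_ideal_span_X_image]
    intro m hm
    by_contra hne
    push Not at hne
    have hm0 : m = 0 := Finsupp.ext fun j => hne j (Set.mem_univ j)
    subst hm0
    apply MvPolynomial.mem_support_iff.mp hm
    have h0 := congrArg (MvPolynomial.coeff 0) hp
    simpa [MvPolynomial.coeff_homogeneousComponent] using h0
  let i' : Z ⟶ Proj (CohB1.polyGrading n R) := i
  have : IsClosedImmersion i' := ‹IsClosedImmersion i›
  exact ProjClosedLib.exists_iso (CohB1.polyGrading n R) s hs1 i' φ hspan hφs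
    (fun k a ha => (hker k a ha).trans (ProjClosedLib.van_iff_puSec _ s hs1 hspan i' ha).symm) hφ

end Groth.Agent.S9570
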