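import Groth.Statements.S9571
import Mathlib
import Mathlib
-- import your own Groth.Agent.* helpers here

set_option autoImplicit false
universe u
open CategoryTheory CategoryTheory.Limits AlgebraicGeometry TopologicalSpace Opposite
open Constr

namespace Groth.Agent.S9571

/-- Let S be a graded ring, X = Proj S and d ≥ 1; let W_d be the union of the opens D_+(ab) over pairs
of homogeneous a, b with deg a = deg b + d (the open over which the twisting sheaves O_X(nd) are
invertible with compatible multiplications). For n ≥ 1 and f homogeneous of degree nd, with s the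
section of O_X(nd) over W_d defined by f, the non-vanishing locus (W_d)_s equals D_+(f) ∩ W_d.
Pointwise: for p in some D_+(ab) as above, p ∈ D_+(f) if and only if the value f/1 of s at p
generates the module of degree-nd fractions at p (the span of the fractions c/t with t ∉ p and deg c
= deg t + nd, over the degree-zero local ring at p). -/
theorem result {R A : Type u} [CommRing R] [CommRing A] [Algebra R A] (𝒜 : ℕ → Submodule R A) [GradedAlgebra 𝒜]
    {d : ℕ} (hd : 0 < d) {i j : ℕ} {a b : A} (ha : a ∈ 𝒜 i) (hb : b ∈ 𝒜 j) (hij : i = j + d)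
    (p : ProjectiveSpectrum 𝒜) (hp : p ∈ ProjectiveSpectrum.basicOpen 𝒜 (a * b))
    {n : ℕ} (hn : 0 < n) (f : 𝒜 (n * d)) :
    p ∈ ProjectiveSpectrum.basicOpen 𝒜 (f : A) ↔
      Submodule.span (Twist.A0 𝒜 p) {(Twist.globalOf 𝒜 f).1 ⟨p, trivial⟩} = ⊤ := by
  have hab : a ∉ p.asHomogeneousIdeal ∧ b ∉ p.asHomogeneousIdeal :=
    ⟨fun h => hp (Ideal.mul_mem_right b _ h), fun h => hp (Ideal.mul_mem_left _ a h)⟩
  constructor
  · intro hf
    refine eq_top_iff.2 fun q _ => ?_
    obtain ⟨q, hq⟩ := q
    induction hq using Submodule.span_induction with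
    | mem x hx =>
      obtain ⟨i', j', a', s, hs, hdeg, rfl⟩ := hx
      have hd : i' = j' + n * d := by exact_mod_cast hdeg
      subst hd
      let c : Twist.A0 𝒜 p := HomogeneousLocalization.mk ⟨j' + n * d, a', ⟨s.1 * f.1, SetLike.mul_mem_graded s.2 f.2⟩,
        fun h => (p.isPrime.mem_or_mem h).elim hs hf⟩
      refine Submodule.mem_span_singleton.2 ⟨c, Subtype.ext ?_⟩
      show c • (Localization.mk f.1 (⟨1, _⟩ : p.asHomogeneousIdeal.toIdeal.primeCompl)) = _
      rw [Algebra.smul_def]
      show c.val * _ = _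
      rw [HomogeneousLocalization.val_mk, Localization.mk_mul, Localization.mk_eq_mk_iff, Localization.r_iff_exists]
      exact ⟨1, by simp; ring⟩
    | zero => exact Submodule.zero_mem _
    | add x y hx hy ihx ihy => exact Submodule.add_mem _ (ihx Submodule.mem_top) (ihy Submodule.mem_top)
    | smul c x hx ihx => exact Submodule.smul_mem _ c (ihx Submodule.mem_top)
  · intro h hf
    have ha' : a ^ n ∈ 𝒜 (n * i) := by simpa using SetLike.pow_mem_graded n ha
    have hb' : b ^ n ∈ 𝒜 (n * j) := by simpa using SetLike.pow_mem_graded n hb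
    have hbn : b ^ n ∉ p.asHomogeneousIdeal := fun hb => hab.2 (p.isPrime.mem_of_pow_mem n hb)
    have hg : Localization.mk (a ^ n) (⟨b ^ n, hbn⟩ : p.asHomogeneousIdeal.toIdeal.primeCompl) ∈
        Twist.twistAt 𝒜 ((n * d : ℕ) : ℤ) p :=
      Submodule.subset_span ⟨n * i, n * j, ⟨_, ha'⟩, ⟨_, hb'⟩, hbn, by rw [hij]; push_cast; ring, rfl⟩
    obtain ⟨c, hc⟩ := Submodule.mem_span_singleton.1
      (h ▸ Submodule.mem_top : (⟨_, hg⟩ : Twist.twistAt 𝒜 ((n * d : ℕ) : ℤ) p) ∈ _)
    obtain ⟨x, rfl⟩ := HomogeneousLocalization.mk_surjective c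
    have h' : (HomogeneousLocalization.mk x : Twist.A0 𝒜 p).val *
        Localization.mk f.1 (⟨1, fun h => p.isPrime.ne_top ((Ideal.eq_top_iff_one _).mpr h)⟩ :
          p.asHomogeneousIdeal.toIdeal.primeCompl) = Localization.mk (a ^ n) ⟨b ^ n, hbn⟩ := congrArg Subtype.val hc
    rw [HomogeneousLocalization.val_mk, Localization.mk_mul, Localization.mk_eq_mk_iff, Localization.r_iff_exists] at h'
    obtain ⟨t, ht⟩ := h'
    have hmem : t.1 * ((x.den : A) * 1 * a ^ n) ∈ p.asHomogeneousIdeal.toIdeal := by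
      have e : t.1 * (b ^ n * ((x.num : A) * f.1)) = t.1 * ((x.den : A) * 1 * a ^ n) := ht
      rw [← e]
      exact Ideal.mul_mem_left _ _ (Ideal.mul_mem_left _ _ (Ideal.mul_mem_left _ _ hf))
    rcases p.isPrime.mem_or_mem hmem with h1 | h1
    · exact t.2 h1
    rcases p.isPrime.mem_or_mem h1 with h2 | h2
    · exact x.den_mem (by simpa using h2)
    · exact hab.1 (p.isPrime.mem_of_pow_mem n h2)

end Groth.Agent.S9571
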