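import Groth.Statements.S9572
import Groth.Agent.ConeRetrLib.PCone

set_option autoImplicit false
set_option backward.isDefEq.respectTransparency false
set_option backward.isDefEq.respectTransparency.types false
set_option maxHeartbeats 1000000
universe u
open CategoryTheory CategoryTheory.Limits AlgebraicGeometry TopologicalSpace Opposite
open Constr

namespace Groth.Agent.S9572

open HomogeneousLocalization
variable {R A : Type u} [CommRing R] [CommRing A] [Algebra R A] {𝒜 : ℕ → Submodule R A} [GradedAlgebra 𝒜]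
  {B : Type u} [CommRing B] [Algebra R B] {ℬ : ℕ → Submodule R B} [GradedAlgebra ℬ] (ψ : 𝒜 →+*ᵍ ℬ)

theorem isIso_morphismRestrict_of_charts {X Y Z Z' : Scheme.{u}} (r : X ⟶ Y) (c : Z ⟶ X) (j : Z' ⟶ Y)
    [IsOpenImmersion c] [IsOpenImmersion j] (e : Z ⟶ Z') [IsIso e] (hcomm : c ≫ r = e ≫ j)
    (hpre : r ⁻¹ᵁ j.opensRange = c.opensRange) : IsIso (r ∣_ j.opensRange) := by
  have h : (c.isoOpensRange ≪≫ X.isoOfEq hpre.symm).hom ≫ (r ∣_ j.opensRange) = e ≫ j.isoOpensRange.hom := by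
    rw [← cancel_mono j.opensRange.ι]
    simp only [Iso.trans_hom, Category.assoc, morphismRestrict_ι, Scheme.isoOfEq_hom_ι_assoc,
      Scheme.Hom.isoOpensRange_hom_ι_assoc, Scheme.Hom.isoOpensRange_hom_ι]
    exact hcomm
  have : IsIso ((c.isoOpensRange ≪≫ X.isoOfEq hpre.symm).hom ≫ (r ∣_ j.opensRange)) := by
    rw [h]; infer_instance
  exact IsIso.of_isIso_comp_left (c.isoOpensRange ≪≫ X.isoOfEq hpre.symm).hom _

theorem away_map_bijective {d₀ : ℕ} (hbij : ∀ d : ℕ, d₀ ≤ d → Set.BijOn ψ (𝒜 d) (ℬ d)) {d : ℕ} {f : A}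
    (hd : 0 < d) (hf : f ∈ 𝒜 d) : Function.Bijective (Away.map ψ f) := by
  have hψf : ψ f ∈ ℬ d := ψ.2 hf
  have hdeg : ∀ k : ℕ, ∀ m, d₀ ≤ m → d₀ ≤ m * d + k := fun k m hm =>
    le_trans hm (le_trans (Nat.le_mul_of_pos_right m hd) (Nat.le_add_right _ _))
  constructor
  · rw [injective_iff_map_eq_zero]
    intro x hx
    obtain ⟨n, a, ha, rfl⟩ := x.mk_surjective _ hf
    rw [Away.map_mk] at hx
    have h1 := congrArg HomogeneousLocalization.val hx
    rw [Away.val_mk, HomogeneousLocalization.val_zero, Localization.mk_eq_mk',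
      IsLocalization.mk'_eq_zero_iff] at h1
    obtain ⟨⟨_, m, rfl⟩, hm⟩ := h1
    simp only at hm
    have hz : f ^ (m + d₀) * a = 0 := by
      have hmem : f ^ (m + d₀) * a ∈ 𝒜 ((m + d₀) * d + n * d) :=
        SetLike.mul_mem_graded (by simpa using SetLike.pow_mem_graded (m + d₀) hf) (by simpa using ha)
      refine (hbij _ (hdeg _ _ (Nat.le_add_left d₀ m))).injOn hmem (zero_mem _) ?_
      rw [map_mul, map_pow, map_zero, pow_add, mul_right_comm, hm, zero_mul]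
    refine HomogeneousLocalization.val_injective _ ?_
    rw [Away.val_mk, HomogeneousLocalization.val_zero, Localization.mk_eq_mk',
      IsLocalization.mk'_eq_zero_iff]
    exact ⟨⟨f ^ (m + d₀), m + d₀, rfl⟩, hz⟩
  · intro y
    obtain ⟨n, b, hb, rfl⟩ := y.mk_surjective _ hψf
    have hmem : (ψ f) ^ d₀ * b ∈ ℬ (d₀ * d + n * d) :=
      SetLike.mul_mem_graded (by simpa using SetLike.pow_mem_graded d₀ hψf) (by simpa using hb)
    obtain ⟨a, ha, hab⟩ := (hbij _ (hdeg _ _ le_rfl)).surjOn hmem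
    refine ⟨Away.mk 𝒜 hf (d₀ + n) a (by simpa [add_mul] using ha), ?_⟩
    refine HomogeneousLocalization.val_injective _ ?_
    rw [Away.map_mk, Away.val_mk, Away.val_mk, Localization.mk_eq_mk_iff, Localization.r_iff_exists]
    refine ⟨1, ?_⟩
    simp only [OneMemClass.coe_one, one_mul]
    rw [hab]
    ring

theorem dom_eq_top {d₀ : ℕ} (hbij : ∀ d : ℕ, d₀ ≤ d → Set.BijOn ψ (𝒜 d) (ℬ d)) : PCone.dom ψ = ⊤ := by
  refine top_le_iff.mp fun y _ => ?_
  obtain ⟨i, hi⟩ := ConeRetrLib.exists_mem_basicOpen (𝒜 := ℬ) y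
  have hmem : i.el ^ (d₀ + 1) ∈ ℬ ((d₀ + 1) * i.deg) := by
    simpa using SetLike.pow_mem_graded (d₀ + 1) i.mem
  obtain ⟨a, ha, hab⟩ := (hbij _ (le_trans (Nat.le_succ d₀)
    (Nat.le_mul_of_pos_right (d₀ + 1) i.pos))).surjOn hmem
  refine Opens.mem_iSup.mpr ⟨⟨a, (d₀ + 1) * i.deg, Nat.mul_pos (Nat.succ_pos _) i.pos, ha⟩, ?_⟩
  show y ∈ Proj.basicOpen ℬ (ψ a)
  rw [hab, Proj.mem_basicOpen]
  intro h
  exact (Proj.mem_basicOpen ℬ i.el y).mp hi (y.isPrime.mem_of_pow_mem _ h)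

/-- Let ψ : A → B be a homomorphism of graded rings such that A_d → B_d is bijective for all d ≥ d₀. Let
U(ψ) ⊆ Proj B be the union of the opens D_+(ψ f) over homogeneous f of positive degree, and r_ψ :
U(ψ) → Proj A the morphism whose restriction to each chart Spec B_(ψ f) is Spec of the induced map
A_(f) → B_(ψ f) followed by the chart of Proj A. Then U(ψ) = Proj B and r_ψ is an isomorphism. (Here
r_ψ is any morphism with that chart description; it is unique.) -/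
theorem result {R A : Type u} [CommRing R] [CommRing A] [Algebra R A] (𝒜 : ℕ → Submodule R A) [GradedAlgebra 𝒜]
    {B : Type u} [CommRing B] [Algebra R B] (ℬ : ℕ → Submodule R B) [GradedAlgebra ℬ] (ψ : 𝒜 →+*ᵍ ℬ)
    (d₀ : ℕ) (hbij : ∀ d : ℕ, d₀ ≤ d → Set.BijOn ψ (𝒜 d) (ℬ d))
    (r : (PCone.dom ψ : Scheme.{u}) ⟶ Proj 𝒜)
    (hr : ∀ (d : ℕ) (f : A) (hd : 0 < d) (hf : f ∈ 𝒜 d),
      PCone.chart ψ hf hd ≫ r =
        Spec.map (CommRingCat.ofHom (HomogeneousLocalization.Away.map ψ f)) ≫ Proj.awayι 𝒜 f hf hd) :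
    PCone.dom ψ = ⊤ ∧ IsIso r := by
  refine ⟨dom_eq_top ψ hbij, ?_⟩
  have hp : ∀ i : ConeRetrLib.Idx 𝒜, ConeRetrLib.pChart ψ i ≫ r = ConeRetrLib.pTarget ψ i :=
    fun i => hr _ _ i.pos i.mem
  refine IsZariskiLocalAtTarget.of_iSup_eq_top (P := MorphismProperty.isomorphisms Scheme)
    (fun i : ConeRetrLib.Idx 𝒜 => (Proj.awayι 𝒜 i.el i.mem i.pos).opensRange)
    (top_le_iff.mp fun y _ => ?_) fun i => ?_
  · obtain ⟨i, hi⟩ := ConeRetrLib.exists_mem_basicOpen (𝒜 := 𝒜) y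
    exact Opens.mem_iSup.mpr ⟨i, (ConeRetrLib.awayι_opensRange i).ge hi⟩
  · haveI : IsIso (CommRingCat.ofHom (Away.map ψ i.el)) :=
      (ConcreteCategory.isIso_iff_bijective _).mpr (away_map_bijective ψ hbij i.pos i.mem)
    refine isIso_morphismRestrict_of_charts r (ConeRetrLib.pChart ψ i) _
      (Spec.map (CommRingCat.ofHom (Away.map ψ i.el))) (hp i) ?_
    rw [ConeRetrLib.awayι_opensRange, ConeRetrLib.pMap_preimage ψ r hp i.mem i.pos,
      ConeRetrLib.pChart_opensRange]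

end Groth.Agent.S9572
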