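import Groth.Statements.S9573
import Groth.Agent.GrTwCompLib.Basic
import Groth.Agent.MiscFlat6.ProjLocalize
import Groth.Agent.CohGenLib.Compare


set_option autoImplicit false
set_option backward.isDefEq.respectTransparency false
set_option backward.isDefEq.respectTransparency.types false
set_option maxHeartbeats 1000000
universe u
open CategoryTheory CategoryTheory.Limits AlgebraicGeometry TopologicalSpace Opposite
open scoped HomogeneousIdeal
open Constr

namespace Groth.Agent.S9573

/-- Let A be a graded ring, g an element of degree zero and ψ : A → B = A_g the localization map, B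
carrying the induced grading (B_n consists of the b with g^k b = ψ(a) for some k and some a ∈ A_n).
Then the morphism r_ψ : Proj B → Proj A induced by ψ is everywhere defined, it is an open immersion
whose image is the inverse image of the basic open D(g) of Spec A_0 under the structure morphism
Proj A → Spec A_0, and for every integer n the canonical map θ : r_ψ^* O_{Proj A}(n) → O_{Proj B}(n)
(adjoint to a/f ↦ ψ(a)/ψ(f)) is an isomorphism. (The containment of B_+ in the ideal generated by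
ψ(A_+), through which r_ψ is Proj.map here, follows from the other hypotheses and is carried as
data.) -/
theorem result {R A : Type u} [CommRing R] [CommRing A] [Algebra R A] (𝒜 : ℕ → Submodule R A) [GradedAlgebra 𝒜]
    {B : Type u} [CommRing B] [Algebra R B] (ℬ : ℕ → Submodule R B) [GradedAlgebra ℬ] (ψ : 𝒜 →+*ᵍ ℬ)
    (g : A) (hg : g ∈ 𝒜 0) [Algebra A B] (hψA : ∀ a : A, ψ a = algebraMap A B a) [IsLocalization.Away g B]
    (hdeg : ∀ (n : ℕ) (b : B), b ∈ ℬ n ↔ ∃ (k : ℕ) (a : A), a ∈ 𝒜 n ∧ ψ g ^ k * b = ψ a)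
    (hψ : HomogeneousIdeal.irrelevant ℬ ≤ (HomogeneousIdeal.irrelevant 𝒜).map ψ) :
    IsOpenImmersion (Proj.map ψ hψ) ∧
      Set.range (Proj.map ψ hψ).base =
        (Proj.toSpecZero 𝒜).base ⁻¹' (PrimeSpectrum.basicOpen (⟨g, hg⟩ : 𝒜 0) : Set (PrimeSpectrum (𝒜 0))) ∧
      ∀ n : ℤ, IsIso (((Scheme.Modules.pullbackPushforwardAdjunction (Proj.map ψ hψ)).homEquiv _ _).symm
        (GrTwist.comap ψ hψ n)) := by
  have hu : IsUnit (ψ g) := by rw [hψA]; exact IsLocalization.Away.algebraMap_isUnit g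
  have hug : ∀ (y : ProjectiveSpectrum ℬ) (k : ℕ), ψ g ^ k ∉ y.asHomogeneousIdeal := fun y k h =>
    y.isPrime.ne_top (Ideal.eq_top_of_isUnit_mem _ h (hu.pow k))
  have hsurj : ∀ b : B, ∃ (M : ℕ) (x : A), b * ψ g ^ M = ψ x := by
    intro b
    obtain ⟨⟨x, _, M, rfl⟩, h⟩ := IsLocalization.surj (Submonoid.powers g) b
    refine ⟨M, x, ?_⟩
    rw [hψA g, hψA x, ← map_pow]
    exact h
  have hker : ∀ a : A, ψ a = 0 → ∃ M : ℕ, g ^ M * a = 0 := by
    intro a ha
    rw [hψA a, IsLocalization.map_eq_zero_iff (Submonoid.powers g) B a] at ha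
    obtain ⟨⟨_, M, rfl⟩, h⟩ := ha
    exact ⟨M, h⟩
  obtain ⟨hoi, hrange⟩ := MiscFlat6.isOpenImmersion_map_localization 𝒜 ℬ ψ hψ hg hu hsurj hker
  refine ⟨hoi, ?_, fun n => ?_⟩
  · exact (congrArg SetLike.coe hrange).trans
      (congrArg SetLike.coe (MiscFlat6.toSpecZero_preimage_basicOpen 𝒜 ⟨g, hg⟩)).symm
  have hI : GrTwCompLib.Inj ψ := by
    intro y i a ha u hu' hua
    obtain ⟨k, a', hk⟩ := hsurj u
    obtain ⟨l, hl⟩ := hker (a' * a) (by rw [map_mul, ← hk, mul_right_comm, hua, zero_mul])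
    refine ⟨g ^ l * a', ?_, by rw [mul_assoc]; exact hl⟩
    rw [map_mul, map_pow, ← hk]
    exact fun h => (y.isPrime.mem_or_mem h).elim (hug y l)
      (fun h' => (y.isPrime.mem_or_mem h').elim hu' (hug y k))
  have hL : GrTwCompLib.Lift ψ := by
    intro y i j b hb w hw hwy
    obtain ⟨k, a, ha, hka⟩ := (hdeg i b).mp hb
    obtain ⟨l, c, hc, hlc⟩ := (hdeg j w).mp hw
    refine ⟨0, g ^ l * a, g ^ k * c, ψ g ^ (k + l), ?_, ?_, hug y _, ?_, ?_⟩
    · simpa using SetLike.mul_mem_graded (SetLike.pow_mem_graded l hg) ha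
    · simpa using SetLike.mul_mem_graded (SetLike.pow_mem_graded k hg) hc
    · rw [map_mul, map_pow, ← hka]; ring
    · rw [map_mul, map_pow, ← hlc]; ring
  haveI := hoi
  let j := Proj.map ψ hψ
  have hc : IsIso ((Scheme.Modules.restrictFunctor j).map (GrTwist.comap ψ hψ n)) := by
    rw [Scheme.Modules.Hom.isIso_iff_isIso_app]
    intro V
    rw [ConcreteCategory.isIso_iff_bijective]
    exact GrTwCompLib.bijective_comap_app hψ hI hL j.isOpenEmbedding.isOpenMap n (j ''ᵁ V)
      (by rintro x ⟨y, -, rfl⟩; exact ⟨y, rfl⟩) _ rfl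
  haveI : IsIso ((Scheme.Modules.pullback j).map (GrTwist.comap ψ hψ n)) :=
    (NatIso.isIso_map_iff (Scheme.Modules.restrictFunctorIsoPullback j) _).mp hc
  haveI := CohGenLib.isIso_counit_open j
  rw [Adjunction.homEquiv_counit]
  infer_instance

end Groth.Agent.S9573
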