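import Groth.Statements.S9574
import Groth.Agent.GrTwCompLib.Basic
import Groth.Agent.S9572
import Mathlib.CategoryTheory.Adjunction.FullyFaithful


set_option autoImplicit false
set_option backward.isDefEq.respectTransparency false
set_option backward.isDefEq.respectTransparency.types false
universe u
open CategoryTheory CategoryTheory.Limits AlgebraicGeometry TopologicalSpace Opposite
open scoped HomogeneousIdeal
open Constr

namespace Groth.Agent.S9574

theorem pushforward_isEquivalence {X Y : Scheme.{u}} (h : X ⟶ Y) [IsIso h] :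
    (Scheme.Modules.pushforward h).IsEquivalence :=
  (CategoryTheory.Equivalence.mk (Scheme.Modules.pushforward h) (Scheme.Modules.pushforward (inv h))
    ((Scheme.Modules.pushforwardId X).symm ≪≫ Scheme.Modules.pushforwardCongr (IsIso.hom_inv_id h).symm ≪≫
      (Scheme.Modules.pushforwardComp h (inv h)).symm)
    (Scheme.Modules.pushforwardComp (inv h) h ≪≫ Scheme.Modules.pushforwardCongr (IsIso.inv_hom_id h) ≪≫
      Scheme.Modules.pushforwardId Y)).isEquivalence_functor

/-- Let ψ : A → B be a homomorphism of graded rings such that A_d → B_d is bijective for all d ≥ d₀, so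
that the induced morphism r_ψ : Proj B → Proj A is everywhere defined and an isomorphism. Then for
every integer n the canonical map θ : r_ψ^* O_{Proj A}(n) → O_{Proj B}(n), adjoint to the map
O_{Proj A}(n) → (r_ψ)_* O_{Proj B}(n) sending a/f to ψ(a)/ψ(f), is an isomorphism. (This row assumes
in addition that B_+ lies in the ideal generated by ψ(A_+), under which the induced morphism is
defined by the graded homomorphism on all of Proj B; the published statement assumes only the
eventual bijectivity, so it also covers maps such as the inclusion of k ⊕ x²k[x] in k[x], which this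
row excludes.) -/
theorem result {R A : Type u} [CommRing R] [CommRing A] [Algebra R A] (𝒜 : ℕ → Submodule R A) [GradedAlgebra 𝒜]
    {B : Type u} [CommRing B] [Algebra R B] (ℬ : ℕ → Submodule R B) [GradedAlgebra ℬ] (ψ : 𝒜 →+*ᵍ ℬ)
    (d₀ : ℕ) (hbij : ∀ d : ℕ, d₀ ≤ d → Set.BijOn ψ (𝒜 d) (ℬ d))
    (hψ : HomogeneousIdeal.irrelevant ℬ ≤ (HomogeneousIdeal.irrelevant 𝒜).map ψ) (n : ℤ) :
    IsIso (((Scheme.Modules.pullbackPushforwardAdjunction (Proj.map ψ hψ)).homEquiv _ _).symm
      (GrTwist.comap ψ hψ n)) := by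
  have hiso : IsIso (Proj.map ψ hψ) := by
    refine IsZariskiLocalAtTarget.of_iSup_eq_top (P := MorphismProperty.isomorphisms Scheme)
      (fun i : ConeRetrLib.Idx 𝒜 => (Proj.awayι 𝒜 i.el i.mem i.pos).opensRange)
      (top_le_iff.mp fun x _ => ?_) fun i => ?_
    · obtain ⟨i, hi⟩ := ConeRetrLib.exists_mem_basicOpen (𝒜 := 𝒜) x
      exact Opens.mem_iSup.mpr ⟨i, (ConeRetrLib.awayι_opensRange i).ge hi⟩
    · haveI : IsIso (CommRingCat.ofHom (HomogeneousLocalization.Away.map ψ i.el)) :=
        (ConcreteCategory.isIso_iff_bijective _).mpr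
          (Groth.Agent.S9572.away_map_bijective ψ hbij i.pos i.mem)
      refine Groth.Agent.S9572.isIso_morphismRestrict_of_charts (Proj.map ψ hψ)
        (Proj.awayι ℬ (ψ i.el) (ψ.2 i.mem) i.pos) _
        (Spec.map (CommRingCat.ofHom (HomogeneousLocalization.Away.map ψ i.el)))
        (Proj.awayι_comp_map ψ hψ i.pos i.el i.mem) ?_
      rw [Proj.opensRange_awayι, Proj.opensRange_awayι]
      rfl
  have hL : GrTwCompLib.Lift ψ := by
    intro y i j b hb w hw hwy
    obtain ⟨g, hg⟩ := ConeRetrLib.exists_mem_basicOpen (𝒜 := 𝒜) (ProjectiveSpectrum.comap ψ hψ y)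
    have hgy : ψ g.el ∉ y.asHomogeneousIdeal := hg
    have hgd : ψ g.el ^ d₀ ∈ ℬ (d₀ * g.deg) := by
      simpa using SetLike.pow_mem_graded d₀ (ψ.2 g.mem)
    have hle : d₀ ≤ d₀ * g.deg := Nat.le_mul_of_pos_right _ g.pos
    obtain ⟨a, ha, hab⟩ := (hbij (d₀ * g.deg + i) (by omega)).surjOn (SetLike.mul_mem_graded hgd hb)
    obtain ⟨c, hc, hcb⟩ := (hbij (d₀ * g.deg + j) (by omega)).surjOn (SetLike.mul_mem_graded hgd hw)
    exact ⟨d₀ * g.deg, a, c, ψ g.el ^ d₀, ha, hc, fun h => hgy (y.isPrime.mem_of_pow_mem _ h), hab, hcb⟩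
  have hI : GrTwCompLib.Inj ψ := by
    intro y i a ha u hu hua
    classical
    obtain ⟨k, hk⟩ : ∃ k, ((DirectSum.decompose ℬ u k : ℬ k) : B) ∉ y.asHomogeneousIdeal := by
      by_contra h
      push Not at h
      refine hu ?_
      rw [← DirectSum.sum_support_decompose ℬ u]
      exact sum_mem fun k _ => h k
    have hku : ((DirectSum.decompose ℬ u k : ℬ k) : B) * ψ a = 0 := by
      have h := DirectSum.coe_decompose_mul_add_of_right_mem ℬ (a := u) (i := k) (ψ.map_mem ha)
      erw [hua, DirectSum.decompose_zero] at h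
      exact h.symm
    obtain ⟨m, c, -, v, hc, -, hv, hcv, -⟩ := hL y k 0 _ (DirectSum.decompose ℬ u k).2 1
      SetLike.GradedOne.one_mem (fun h => y.isPrime.ne_top ((Ideal.eq_top_iff_one _).mpr h))
    have hcy : ψ c ∉ y.asHomogeneousIdeal := by
      rw [hcv]; exact fun h => (y.isPrime.mem_or_mem h).elim hv hk
    obtain ⟨g, hg⟩ := ConeRetrLib.exists_mem_basicOpen (𝒜 := 𝒜) (ProjectiveSpectrum.comap ψ hψ y)
    have hgy : ψ g.el ∉ y.asHomogeneousIdeal := hg
    refine ⟨g.el ^ d₀ * c, ?_, ?_⟩
    · rw [map_mul, map_pow]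
      exact fun h => (y.isPrime.mem_or_mem h).elim (fun h' => hgy (y.isPrime.mem_of_pow_mem _ h')) hcy
    · have hle : d₀ ≤ d₀ * g.deg := Nat.le_mul_of_pos_right _ g.pos
      have hmem : g.el ^ d₀ * c * a ∈ 𝒜 (d₀ * g.deg + (m + k) + i) :=
        SetLike.mul_mem_graded (SetLike.mul_mem_graded (by simpa using SetLike.pow_mem_graded d₀ g.mem) hc) ha
      refine (hbij _ (by omega)).injOn hmem (zero_mem _) ?_
      rw [map_mul, map_mul, map_zero, hcv, mul_assoc, mul_assoc, hku, mul_zero, mul_zero]
  haveI := hiso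
  have hhomeo : IsHomeomorph (Proj.map ψ hψ).base := (Proj.map ψ hψ).homeomorph.isHomeomorph
  have hc : IsIso (GrTwist.comap ψ hψ n) := by
    rw [Scheme.Modules.Hom.isIso_iff_isIso_app]
    intro U
    rw [ConcreteCategory.isIso_iff_bijective]
    exact GrTwCompLib.bijective_comap_app hψ hI hL hhomeo.isOpenMap n U
      (fun x _ => hhomeo.surjective x) _ rfl
  haveI := pushforward_isEquivalence (Proj.map ψ hψ)
  let adj := Scheme.Modules.pullbackPushforwardAdjunction (Proj.map ψ hψ)
  haveI := adj.isEquivalence_left_of_isEquivalence_right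
  rw [Adjunction.homEquiv_counit]
  infer_instance

end Groth.Agent.S9574
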