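import Groth.Statements.S9576
import Mathlib.RingTheory.MvPolynomial.Ideal
import Groth.Agent.GradedCechLib.Chart


-- import your own Groth.Agent.* helpers here

set_option autoImplicit false
universe u
open CategoryTheory CategoryTheory.Limits AlgebraicGeometry TopologicalSpace Opposite
open Constr

namespace Groth.Agent.S9576

/-- For a ring R and n ≥ 0, projective n-space Proj R[T_0, …, T_n] is covered by the n + 1 standard
opens D_+(T_i), and each D_+(T_i) = Spec R[T_0, …, T_n]_(T_i) is an affine n-space: the ring
homomorphism from the polynomial ring over R in the variables T_j, j ≠ i, to the degree-zero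
localization R[T_0, …, T_n]_(T_i), sending T_j to T_j/T_i and a constant r to r/1, is bijective.
(The published statement is over ℤ; this row is over any ring R.) -/
theorem result (n : ℕ) (R : Type u) [CommRing R] :
    (⨆ i : Fin (n + 1), Proj.basicOpen (CohB1.polyGrading n R) (MvPolynomial.X i)) = ⊤ ∧
      ∀ i : Fin (n + 1), Function.Bijective
        (MvPolynomial.eval₂Hom
          ((HomogeneousLocalization.fromZeroRingHom (CohB1.polyGrading n R) (Submonoid.powers (MvPolynomial.X i))).comp
            (algebraMap R (CohB1.polyGrading n R 0)))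
          (fun j : {j : Fin (n + 1) // j ≠ i} =>
            (HomogeneousLocalization.mk ⟨1, ⟨MvPolynomial.X j.1, MvPolynomial.isHomogeneous_X R j.1⟩,
              ⟨MvPolynomial.X i, MvPolynomial.isHomogeneous_X R i⟩, ⟨1, pow_one _⟩⟩ :
              HomogeneousLocalization.Away (CohB1.polyGrading n R) (MvPolynomial.X i)))) := by
  classical
  refine ⟨?_, fun i => ?_⟩
  · refine eq_top_iff.mpr fun x _ => ?_
    rw [TopologicalSpace.Opens.mem_iSup]
    by_contra hne
    simp only [not_exists] at hne
    refine x.not_irrelevant_le ?_
    intro a ha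
    have hle : MvPolynomial.idealOfVars (Fin (n + 1)) R ≤ x.asHomogeneousIdeal.toIdeal := Ideal.span_le.2 (by
      rintro _ ⟨j, rfl⟩
      exact not_not.1 (hne j))
    refine hle ?_
    have h0 : MvPolynomial.homogeneousComponent 0 a = 0 := by
      have := (HomogeneousIdeal.mem_irrelevant_iff (CohB1.polyGrading n R) a).mp ha
      rw [GradedRing.proj_apply] at this
      rwa [show (↑((DirectSum.decompose (CohB1.polyGrading n R) a) 0) : MvPolynomial (Fin (n + 1)) R) =
        MvPolynomial.homogeneousComponent 0 a from MvPolynomial.decomposition.decompose'_apply a 0] at this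
    rw [← pow_one (MvPolynomial.idealOfVars (Fin (n + 1)) R), MvPolynomial.mem_pow_idealOfVars_iff]
    intro d hd
    by_contra hd0
    have hd1 : d = 0 := (Finsupp.degree_eq_zero_iff d).1 (by omega)
    rw [MvPolynomial.mem_support_iff, hd1] at hd
    rw [MvPolynomial.homogeneousComponent_zero, MvPolynomial.C_eq_zero] at h0
    exact hd h0
  · let φ := MvPolynomial.eval₂Hom
      ((HomogeneousLocalization.fromZeroRingHom (CohB1.polyGrading n R) (Submonoid.powers (MvPolynomial.X i))).comp
        (algebraMap R (CohB1.polyGrading n R 0)))
      (fun j : {j : Fin (n + 1) // j ≠ i} =>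
        (HomogeneousLocalization.mk ⟨1, ⟨MvPolynomial.X j.1, MvPolynomial.isHomogeneous_X R j.1⟩,
          ⟨MvPolynomial.X i, MvPolynomial.isHomogeneous_X R i⟩, ⟨1, pow_one _⟩⟩ :
          HomogeneousLocalization.Away (CohB1.polyGrading n R) (MvPolynomial.X i)))
    change Function.Bijective φ
    let sub : MvPolynomial (Fin (n + 1)) R →+* MvPolynomial {j : Fin (n + 1) // j ≠ i} R :=
      (MvPolynomial.aeval fun j => if h : j = i then 1 else MvPolynomial.X ⟨j, h⟩).toRingHom
    have hX : ∀ j : {j : Fin (n + 1) // j ≠ i}, φ (MvPolynomial.X j) =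
        GradedCechLib.deh₀ n R i (MvPolynomial.X j.1) := by
      intro j
      refine HomogeneousLocalization.val_injective _ ?_
      rw [GradedCechLib.val_deh₀_X]
      simp only [φ, MvPolynomial.eval₂Hom_X', HomogeneousLocalization.val_mk]
      exact congrArg (Localization.mk _) (Subtype.ext (pow_one _).symm)
    have hfac : GradedCechLib.deh₀ n R i = φ.comp sub := by
      refine MvPolynomial.ringHom_ext (fun r => ?_) (fun j => ?_)
      · simp [φ, sub, GradedCechLib.deh₀, GradedCechLib.cst]
      · rw [RingHom.comp_apply]
        by_cases h : j = i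
        · subst h
          rw [GradedCechLib.deh₀_X_self]
          simp [sub]
        · rw [show sub (MvPolynomial.X j) = MvPolynomial.X ⟨j, h⟩ by simp [sub, h], hX]
    refine ⟨?_, fun z => ?_⟩
    · have hu : IsUnit (sub (MvPolynomial.X i)) := by simp [sub]
      let ψ : HomogeneousLocalization.Away (CohB1.polyGrading n R) (MvPolynomial.X i : MvPolynomial (Fin (n + 1)) R) →+*
          MvPolynomial {j : Fin (n + 1) // j ≠ i} R :=
        (IsLocalization.Away.lift (MvPolynomial.X i : MvPolynomial (Fin (n + 1)) R)
          (S := Localization.Away (MvPolynomial.X i : MvPolynomial (Fin (n + 1)) R)) hu).comp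
          (algebraMap _ (Localization.Away (MvPolynomial.X i : MvPolynomial (Fin (n + 1)) R)))
      have hψ : ψ.comp φ = RingHom.id _ := by
        refine MvPolynomial.ringHom_ext (fun r => ?_) (fun j => ?_)
        · simp only [φ, ψ, RingHom.comp_apply, MvPolynomial.eval₂Hom_C, RingHom.id_apply,
            HomogeneousLocalization.algebraMap_apply]
          rw [show (HomogeneousLocalization.fromZeroRingHom (CohB1.polyGrading n R) (Submonoid.powers (MvPolynomial.X i))
              (algebraMap R (CohB1.polyGrading n R 0) r)).val = algebraMap (MvPolynomial (Fin (n + 1)) R) _ (MvPolynomial.C r) from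
            GradedCechLib.val_cst n R (MvPolynomial.X i) r, IsLocalization.Away.lift_eq]
          simp [sub]
        · simp only [ψ, RingHom.comp_apply, RingHom.id_apply, hX, HomogeneousLocalization.algebraMap_apply,
            GradedCechLib.val_deh₀_X, Localization.mk_eq_mk']
          rw [IsLocalization.Away.lift, IsLocalization.lift_mk'_spec]
          simp [sub, GradedCechLib.xpw, j.2]
      intro a b hab
      have ea := RingHom.congr_fun hψ a
      have eb := RingHom.congr_fun hψ b
      rw [RingHom.comp_apply, RingHom.id_apply] at ea eb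
      rw [← ea, ← eb, hab]
    · obtain ⟨p, rfl⟩ := GradedCechLib.deh₀_surjective n R i z
      exact ⟨sub p, (RingHom.congr_fun hfac p).symm⟩

end Groth.Agent.S9576
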