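import Groth.Statements.S9580
import Mathlib
import Groth.Agent.MiscFlat6.RelTwist
import Groth.Agent.MiscFlat6.QALocus
import Groth.Agent.S9575
import Groth.Agent.ConeRetrLib.Idx
import Groth.Agent.ParaFLib.Basic
import Groth.Agent.HilbPolyLib.Twist
-- import your own Groth.Agent.* helpers here

set_option autoImplicit false
set_option maxHeartbeats 2000000
set_option backward.isDefEq.respectTransparency false
universe u
open CategoryTheory CategoryTheory.Limits AlgebraicGeometry TopologicalSpace Opposite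
open Constr

namespace Groth.Agent.S9580

open AlgebraicGeometry CategoryTheory in
theorem isInvertible_restrict_of_forall {X : Scheme.{u}} (L : X.Modules) (Y : X.Opens)
    (h : ∀ y : X, y ∈ Y → ∃ D : X.Opens, y ∈ D ∧ PicF.IsInvertible (L.restrict D.ι)) :
    PicF.IsInvertible (L.restrict Y.ι) := by
  refine MiscFlat6.isInvertible_of_restrict_openCover _ fun y => ?_
  obtain ⟨D, hyD, hD⟩ := h y.1 y.2
  refine ⟨(D ⊓ Y : X.Opens), X.homOfLE inf_le_right, inferInstance,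
    ⟨(⟨y.1, hyD, y.2⟩ : (D ⊓ Y : X.Opens)), ?_⟩, ?_⟩
  · exact Subtype.ext (X.homOfLE_apply inf_le_right (⟨y.1, hyD, y.2⟩ : (D ⊓ Y : X.Opens)))
  · let j₁ := X.homOfLE (inf_le_left : D ⊓ Y ≤ D)
    let j₂ := X.homOfLE (inf_le_right : D ⊓ Y ≤ Y)
    have hj : j₁ ≫ D.ι = j₂ ≫ Y.ι := (X.homOfLE_ι _).trans (X.homOfLE_ι _).symm
    let a := (Scheme.Modules.restrictFunctorComp j₁ D.ι).app L
    let b := (Scheme.Modules.restrictFunctorCongr hj).app L
    let c := (Scheme.Modules.restrictFunctorComp j₂ Y.ι).app L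
    exact HilbPolyLib.isInvertible_of_iso (a.symm ≪≫ b ≪≫ c) (ParaFLib.isInvertible_restrict j₁ hD)


/-- Let S be a graded ring, X = Proj S and Y ⊆ X a quasi-compact open subscheme. Then there is an
integer d ≥ 1 such that Y is contained in the open W_d, the union of the standard opens D_+(ab) over
homogeneous a, b with deg a = deg b + d, and such that the restriction O_Y(nd) of O_X(nd) to Y is
invertible for every integer n. (The remaining assertions — the multiplication maps among the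
O_Y(nd) and M~(nd) are isomorphisms, D_+(f) ∩ Y = Y_s, and the loci Y_s form a basis — are not
stated here.) -/
theorem result {R A : Type u} [CommRing R] [CommRing A] [Algebra R A] (𝒜 : ℕ → Submodule R A) [GradedAlgebra 𝒜]
    (Y : (Proj 𝒜).Opens) (hY : IsCompact (Y : Set (Proj 𝒜))) :
    ∃ d : ℕ, 0 < d ∧
      (∀ y : Proj 𝒜, y ∈ Y → ∃ (i j : ℕ) (a b : A), a ∈ 𝒜 i ∧ b ∈ 𝒜 j ∧ i = j + d ∧ y ∈ Proj.basicOpen 𝒜 (a * b)) ∧
      ∀ n : ℤ, PicF.IsInvertible ((Twist.twist 𝒜 (n * d)).restrict Y.ι) := by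
  classical
  choose i hi using fun y : Proj 𝒜 => ConeRetrLib.exists_mem_basicOpen (𝒜 := 𝒜) y
  obtain ⟨s, hs⟩ := hY.elim_finite_subcover
    (fun y : Proj 𝒜 => ((Proj.basicOpen 𝒜 (i y).el : (Proj 𝒜).Opens) : Set (Proj 𝒜)))
    (fun y => (Proj.basicOpen 𝒜 (i y).el).isOpen) (fun y _ => Set.mem_iUnion.2 ⟨y, hi y⟩)
  let d := ∏ y ∈ s, (i y).deg
  have hd : 0 < d := Finset.prod_pos fun y _ => (i y).pos
  have key : ∀ y : Proj 𝒜, y ∈ Y → ∃ a : A, a ∈ 𝒜 d ∧ y ∈ Proj.basicOpen 𝒜 (a * 1) := fun y hy => by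
    obtain ⟨z, hz, hyz⟩ := Set.mem_iUnion₂.1 (hs hy)
    obtain ⟨m, hm⟩ := Finset.dvd_prod_of_mem (fun y => (i y).deg) hz
    refine ⟨(i z).el ^ m, ?_, ?_⟩
    · have h := SetLike.pow_mem_graded m (i z).mem
      rwa [show m • (i z).deg = d by rw [smul_eq_mul, mul_comm]; exact hm.symm] at h
    · rw [mul_one, Proj.mem_basicOpen]
      exact fun h => (Proj.mem_basicOpen 𝒜 _ y).1 hyz (y.isPrime.mem_of_pow_mem m h)
  refine ⟨d, hd, fun y hy => ?_, fun n => ?_⟩
  · obtain ⟨a, ha, hy'⟩ := key y hy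
    exact ⟨d, 0, a, 1, ha, SetLike.one_mem_graded 𝒜, (Nat.zero_add d).symm, hy'⟩
  refine isInvertible_restrict_of_forall _ Y fun y hy => ?_
  obtain ⟨a, ha, hy'⟩ := key y hy
  obtain ⟨e⟩ := Groth.Agent.S9575.result 𝒜 hd ha (SetLike.one_mem_graded 𝒜) (Nat.zero_add d).symm n
  exact ⟨Proj.basicOpen 𝒜 (a * 1), hy',
    HilbPolyLib.isInvertible_of_iso e.symm (MiscFlat6.isInvertible_structureModule _)⟩

end Groth.Agent.S9580
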