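import Groth.Statements.S9581
import Groth.Agent.WeakAssLib.Basic
-- import your own Groth.Agent.* helpers here

set_option autoImplicit false
set_option linter.style.haveILetI false
universe u
open CAlg

namespace Groth.Agent.S9581

/-- (1) ⇔ (3): for a ring R, an R-module M and a prime p of R, the prime p is weakly associated to M
(minimal among the primes containing the annihilator of some element of M) if and only if the
localization M_p contains an element whose annihilator in R_p has radical equal to the maximal ideal
p R_p. -/
theorem result {R : Type u} [CommRing R] (M : Type u) [AddCommGroup M] [Module R M] (p : Ideal R) [p.IsPrime] :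
    p ∈ FlatCA.weakAss R M ↔ IsAssociatedPrime (IsLocalRing.maximalIdeal (Localization.AtPrime p)) (LocalizedModule p.primeCompl M) := by
  open Groth.Agent.WeakAssLib in
  have key : ∀ (m : M) (s t : p.primeCompl) (r : R),
      Localization.mk r t ∈ (⊥ : Submodule (Localization.AtPrime p) (LocalizedModule p.primeCompl M)).colon {LocalizedModule.mk m s} ↔
        ∃ u, u ∉ p ∧ (u * r) • m = 0 := by
    intro m s t r
    rw [Submodule.mem_colon_singleton, Submodule.mem_bot, LocalizedModule.mk_smul_mk,
      ← LocalizedModule.zero_mk (t * s), LocalizedModule.mk_eq]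
    constructor
    · rintro ⟨u, hu⟩
      refine ⟨u * (t * s : p.primeCompl), fun h => ?_, ?_⟩
      · exact (u * (t * s)).2 (by simpa using h)
      · simp only [smul_zero, Submonoid.smul_def] at hu
        rw [mul_smul, mul_smul]
        exact hu
    · rintro ⟨u, hu, hum⟩
      refine ⟨⟨u, hu⟩, ?_⟩
      simp only [smul_zero, Submonoid.smul_def]
      rw [smul_comm u, smul_smul u r, hum, smul_zero]
  rw [Groth.Agent.WeakAssLib.mem_weakAss_iff]
  constructor
  · rintro ⟨hp, m, h1, h2⟩
    refine ⟨(IsLocalRing.maximalIdeal.isMaximal _).isPrime, LocalizedModule.mk m 1, le_antisymm ?_ ?_⟩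
    · intro a ha
      induction a using Localization.induction_on with
      | H y =>
        obtain ⟨r, t⟩ := y
        rw [Localization.mk_eq_mk', IsLocalization.AtPrime.mk'_mem_maximal_iff _ p] at ha
        obtain ⟨u, hu, n, hn⟩ := h2 r ha
        exact ⟨n, by rw [Localization.mk_pow]; exact (key m 1 _ _).2 ⟨u, hu, hn⟩⟩
    · refine IsLocalRing.le_maximalIdeal fun htop => ?_
      obtain ⟨n, hn⟩ := (Ideal.eq_top_iff_one _).1 htop
      rw [one_pow, ← Localization.mk_one] at hn
      obtain ⟨u, hu, hum⟩ := (key m 1 1 1).1 hn
      exact hu (h1 u (by simpa using hum))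
  · rintro ⟨-, x, hx⟩
    induction x using LocalizedModule.induction_on with
    | _ m s =>
      refine ⟨inferInstance, m, fun r hr => ?_, fun r hr => ?_⟩
      · by_contra hrp
        have h : Localization.mk r 1 ∈ ((⊥ : Submodule (Localization.AtPrime p) (LocalizedModule p.primeCompl M)).colon {LocalizedModule.mk m s}).radical :=
          Ideal.le_radical ((key m s 1 r).2 ⟨1, p.primeCompl.one_mem, by simp [hr]⟩)
        rw [← hx, Localization.mk_eq_mk', IsLocalization.AtPrime.mk'_mem_maximal_iff _ p] at h
        exact hrp h
      · have h : Localization.mk r (1 : p.primeCompl) ∈ IsLocalRing.maximalIdeal (Localization.AtPrime p) := by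
          rwa [Localization.mk_eq_mk', IsLocalization.AtPrime.mk'_mem_maximal_iff _ p]
        rw [hx] at h
        obtain ⟨n, hn⟩ := h
        rw [Localization.mk_pow] at hn
        obtain ⟨u, hu, hum⟩ := (key m s _ _).1 hn
        exact ⟨u, hu, n, hum⟩

end Groth.Agent.S9581
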