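import Groth.Statements.S9582
import Groth.Agent.WeakAssLib.Basic
-- import your own Groth.Agent.* helpers here

set_option autoImplicit false
set_option linter.style.haveILetI false
universe u
open CAlg

namespace Groth.Agent.S9582

/-- For a reduced ring R, the primes weakly associated to the R-module R (primes minimal over the
annihilator of some element) are exactly the minimal primes of R. -/
theorem result {R : Type u} [CommRing R] [IsReduced R] :
    FlatCA.weakAss R R = minimalPrimes R := by
  ext p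
  rw [Groth.Agent.WeakAssLib.mem_weakAss_iff]
  constructor
  · rintro ⟨hp, m, h1, h2⟩
    haveI := hp
    refine ⟨⟨hp, bot_le⟩, ?_⟩
    rintro Q ⟨hQ, -⟩ hQp
    have hnot : ∀ Q' : Ideal R, Q'.IsPrime → Q' ≤ p → m ∉ Q' → p ≤ Q' := by
      intro Q' hQ' hle hm x hx
      obtain ⟨s, hs, n, hn⟩ := h2 x hx
      rw [smul_eq_mul] at hn
      have h0 : s * x ^ n ∈ Q' := (hQ'.mem_or_mem (hn ▸ Q'.zero_mem)).resolve_right hm
      exact hQ'.mem_of_pow_mem n ((hQ'.mem_or_mem h0).resolve_left fun h => hs (hle h))
    have hmp : m ∉ p := by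
      intro hmp
      have : ∀ Q' : Ideal R, Q'.IsPrime → (⊥ : Ideal R) ≤ Q' → Q' ≤ p → m ∈ Q' := by
        intro Q' hQ' _ hle
        by_contra hm
        exact hm (hnot Q' hQ' hle hm hmp)
      obtain ⟨s, hs, n, hn⟩ := Groth.Agent.WeakAssLib.exists_mul_pow_mem ⊥ p m this
      have h3 : (s * m) ^ (n + 1) = 0 := by
        rw [Ideal.mem_bot] at hn
        linear_combination (s ^ n * m) * hn
      exact hs (h1 s (by simpa using IsReduced.eq_zero _ ⟨n + 1, h3⟩))
    exact hnot Q hQ hQp fun h => hmp (hQp h)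
  · intro hp
    obtain ⟨h1, h2, h3⟩ := (Groth.Agent.WeakAssLib.mem_minimalPrimes_iff _ _).1 (show p ∈ (⊥ : Ideal R).minimalPrimes from hp)
    exact ⟨h1, 1, fun r hr => h2 (by simpa using hr), fun x hx => by simpa using h3 x hx⟩

end Groth.Agent.S9582
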