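import Groth.Statements.S9583
import Groth.Agent.WeakAssLib.Basic
-- import your own Groth.Agent.* helpers here

set_option autoImplicit false
set_option linter.style.haveILetI false
universe u
open CAlg

namespace Groth.Agent.S9583

/-- For a ring R and a short exact sequence 0 → M' → M → M'' → 0 of R-modules, every prime weakly
associated to M' is weakly associated to M, and every prime weakly associated to M is weakly
associated to M' or to M''. -/
theorem result {R : Type u} [CommRing R] {M' M M'' : Type u} [AddCommGroup M'] [Module R M'] [AddCommGroup M] [Module R M] [AddCommGroup M''] [Module R M''] (f : M' →ₗ[R] M) (g : M →ₗ[R] M'') (hf : Function.Injective f) (hg : Function.Surjective g) (hfg : Function.Exact f g) :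
    FlatCA.weakAss R M' ⊆ FlatCA.weakAss R M ∧ FlatCA.weakAss R M ⊆ FlatCA.weakAss R M' ∪ FlatCA.weakAss R M'' := by
  refine ⟨fun p hp => ?_, fun p hp => ?_⟩
  · obtain ⟨h, m, h1, h2⟩ := (Groth.Agent.WeakAssLib.mem_weakAss_iff p).1 hp
    refine (Groth.Agent.WeakAssLib.mem_weakAss_iff p).2 ⟨h, f m, fun r hr => h1 r (hf (by simpa using hr)), fun x hx => ?_⟩
    obtain ⟨s, hs, n, hn⟩ := h2 x hx
    exact ⟨s, hs, n, by rw [← map_smul, hn, map_zero]⟩
  · obtain ⟨h, m, h1, h2⟩ := (Groth.Agent.WeakAssLib.mem_weakAss_iff p).1 hp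
    by_cases hm : ∀ r : R, r • g m = 0 → r ∈ p
    · refine Or.inr ((Groth.Agent.WeakAssLib.mem_weakAss_iff p).2 ⟨h, g m, hm, fun x hx => ?_⟩)
      obtain ⟨s, hs, n, hn⟩ := h2 x hx
      exact ⟨s, hs, n, by rw [← map_smul, hn, map_zero]⟩
    · push_neg at hm
      obtain ⟨t, ht, htp⟩ := hm
      rw [← map_smul] at ht
      obtain ⟨m', hm'⟩ := (hfg _).1 ht
      refine Or.inl ((Groth.Agent.WeakAssLib.mem_weakAss_iff p).2 ⟨h, m', fun r hr => ?_, fun x hx => ?_⟩)
      · refine (h.mem_or_mem (h1 (r * t) ?_)).resolve_right htp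
        rw [mul_smul, ← hm', ← map_smul, hr, map_zero]
      · obtain ⟨s, hs, n, hn⟩ := h2 x hx
        refine ⟨s, hs, n, hf ?_⟩
        rw [map_smul, map_zero, hm', smul_comm, hn, smul_zero]

end Groth.Agent.S9583
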