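import Groth.Statements.S9584
-- import your own Groth.Agent.* helpers here

set_option autoImplicit false
set_option linter.style.haveILetI false
universe u
open CAlg

namespace Groth.Agent.S9584

/-- For a ring R and an R-module M, M has no weakly associated prime (no prime minimal over the
annihilator of an element) if and only if M = 0. -/
theorem result {R : Type u} [CommRing R] (M : Type u) [AddCommGroup M] [Module R M] :
    FlatCA.weakAss R M = ∅ ↔ Subsingleton M := by
  constructor
  · intro h
    by_contra hne
    rw [not_subsingleton_iff_nontrivial] at hne
    obtain ⟨m, hm⟩ := exists_ne (0 : M)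
    have hA : (Submodule.span R {m}).annihilator ≠ ⊤ := by
      simpa [Ideal.eq_top_iff_one, Submodule.mem_annihilator_span_singleton] using hm
    obtain ⟨p, hp⟩ := Ideal.nonempty_minimalPrimes hA
    have : p ∈ FlatCA.weakAss R M := ⟨m, hp⟩
    simp [h] at this
  · intro h
    rw [Set.eq_empty_iff_forall_notMem]
    rintro p ⟨m, hp⟩
    apply hp.1.1.ne_top
    refine top_le_iff.1 (le_trans ?_ hp.1.2)
    intro r _
    rw [Submodule.mem_annihilator_span_singleton]
    exact Subsingleton.elim _ _

end Groth.Agent.S9584
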