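import Groth.Statements.S9586
import Groth.Agent.WeakAssLib.Basic
-- import your own Groth.Agent.* helpers here

set_option autoImplicit false
set_option linter.style.haveILetI false
universe u
open CAlg

namespace Groth.Agent.S9586

/-- For a ring R, an R-module M and a finitely generated prime ideal p of R, p is associated to M (equal
to the annihilator of an element) if and only if p is weakly associated to M (minimal over the
annihilator of an element). -/
theorem result {R : Type u} [CommRing R] (M : Type u) [AddCommGroup M] [Module R M] (p : Ideal R) [p.IsPrime] (hp : p.FG) :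
    p ∈ FlatCA.ass R M ↔ p ∈ FlatCA.weakAss R M := by
  classical
  constructor
  · rintro ⟨h, m, hm⟩
    exact ⟨m, by rw [← hm, Ideal.minimalPrimes_eq_subsingleton_self]; rfl⟩
  · intro hp'
    obtain ⟨-, m, h1, h2⟩ := (Groth.Agent.WeakAssLib.mem_weakAss_iff p).1 hp'
    let J : Ideal R :=
      { carrier := {r | ∃ s, s ∉ p ∧ (s * r) • m = 0}
        add_mem' := by
          rintro a b ⟨s, hs, hsa⟩ ⟨t, ht, htb⟩
          refine ⟨s * t, fun h => (Ideal.IsPrime.mem_or_mem inferInstance h).elim hs ht, ?_⟩
          rw [show s * t * (a + b) = t * (s * a) + s * (t * b) by ring, add_smul, mul_smul, hsa,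
            mul_smul, htb, smul_zero, smul_zero, add_zero]
        zero_mem' := ⟨1, p.primeCompl.one_mem, by simp⟩
        smul_mem' := by
          rintro c a ⟨s, hs, hsa⟩
          refine ⟨s, hs, ?_⟩
          rw [smul_eq_mul, show s * (c * a) = c * (s * a) by ring, mul_smul, hsa, smul_zero] }
    have hrad : p ≤ J.radical := fun x hx => by
      obtain ⟨s, hs, n, hn⟩ := h2 x hx
      exact ⟨n, s, hs, hn⟩
    have hex : ∃ N, p ^ N ≤ J := Ideal.exists_pow_le_of_le_radical_of_fg hrad hp
    have hN0 : Nat.find hex ≠ 0 := by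
      intro h0
      have h := Nat.find_spec hex
      rw [h0, pow_zero, Ideal.one_eq_top] at h
      obtain ⟨s, hs, hs1⟩ := h (Submodule.mem_top (x := (1 : R)))
      exact hs (h1 s (by simpa using hs1))
    obtain ⟨N, hN⟩ := Nat.exists_eq_succ_of_ne_zero hN0
    have hlt : ¬ p ^ N ≤ J := Nat.find_min hex (by omega)
    obtain ⟨z, hz, hzJ⟩ := SetLike.not_le_iff_exists.1 hlt
    have hpz : ∀ x ∈ p, x * z ∈ J := fun x hx => by
      have h := Nat.find_spec hex
      rw [hN, pow_succ'] at h
      exact h (Ideal.mul_mem_mul hx hz)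
    obtain ⟨G, hG⟩ := id hp
    have : ∀ x ∈ G, ∃ s, s ∉ p ∧ (s * (x * z)) • m = 0 := fun x hx =>
      hpz x (hG ▸ Ideal.subset_span hx)
    choose s hs hsx using this
    let u := ∏ x ∈ G.attach, s x x.2
    have hu : u ∉ p := fun h => by
      obtain ⟨x, -, hx⟩ := (Ideal.IsPrime.prod_mem_iff (hp := inferInstance)).1 h
      exact hs x x.2 hx
    refine ⟨inferInstance, (u * z) • m, le_antisymm (fun x hx => ?_) fun r hr => ?_⟩
    · rw [Groth.Agent.WeakAssLib.mem_ann]
      rw [← hG] at hx
      induction hx using Submodule.span_induction with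
      | mem x hx =>
        obtain ⟨d, hd⟩ : s x hx ∣ u := Finset.dvd_prod_of_mem (fun g : {x // x ∈ G} => s g g.2) (Finset.mem_attach _ ⟨x, hx⟩)
        rw [smul_smul, show x * (u * z) = d * (s x hx * (x * z)) by rw [hd]; ring, mul_smul, hsx x hx, smul_zero]
      | zero => exact zero_smul R _
      | add a b _ _ ha hb => rw [add_smul, ha, hb, add_zero]
      | smul c a _ ha => rw [smul_assoc, ha, smul_zero]
    · rw [Groth.Agent.WeakAssLib.mem_ann, smul_smul] at hr
      by_contra hrp
      refine hzJ ⟨r * u, fun h => (Ideal.IsPrime.mem_or_mem inferInstance h).elim hrp hu, ?_⟩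
      rw [mul_assoc]
      exact hr

end Groth.Agent.S9586
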