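import Groth.Statements.S9590
import Groth.Agent.WeakAssLib.Basic
-- import your own Groth.Agent.* helpers here

set_option autoImplicit false
set_option linter.style.haveILetI false
universe u
open CAlg

namespace Groth.Agent.S9590

/-- For a ring R, an R-module M and a multiplicative subset S of R such that every element of S is a
nonzerodivisor on M, the primes of R weakly associated to M are the same as those weakly associated
to the R-module S⁻¹M. -/
theorem result {R : Type u} [CommRing R] (S : Submonoid R) (M : Type u) [AddCommGroup M] [Module R M] (hS : ∀ s ∈ S, IsSMulRegular M s) :
    FlatCA.weakAss R M = FlatCA.weakAss R (LocalizedModule S M) := by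
  ext p
  have key : ∀ (m : M) (s : S), (Submodule.span R {LocalizedModule.mk m s}).annihilator =
      (Submodule.span R {m}).annihilator := by
    intro m s
    ext r
    rw [Submodule.mem_annihilator_span_singleton, Submodule.mem_annihilator_span_singleton,
      LocalizedModule.smul'_mk]
    constructor
    · intro h
      rw [← LocalizedModule.zero_mk s, LocalizedModule.mk_eq] at h
      obtain ⟨t, ht⟩ := h
      simp only [smul_zero, Submonoid.smul_def] at ht
      exact (hS _ s.2).right_eq_zero_of_smul ((hS _ t.2).right_eq_zero_of_smul ht)
    · intro h
      rw [h, LocalizedModule.zero_mk]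
  constructor
  · rintro ⟨m, hm⟩
    exact ⟨LocalizedModule.mk m 1, by rwa [key]⟩
  · rintro ⟨x, hx⟩
    induction x using LocalizedModule.induction_on with
    | _ m s => exact ⟨m, by rwa [key] at hx⟩

end Groth.Agent.S9590
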