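import Groth.Statements.S9592
import Groth.Agent.WeakAssTensLib.Main

set_option autoImplicit false
set_option backward.isDefEq.respectTransparency false
set_option backward.isDefEq.respectTransparency.types false
set_option maxHeartbeats 1000000
universe u
open CAlg

namespace Groth.Agent.S9592


section Helpers

open TensorProduct

theorem exists_ann_not_mem {S RK W : Type u} [CommRing S] [CommRing RK] [Algebra S RK] [Module.Flat S RK]
    [AddCommGroup W] [Module S W] (q : Ideal RK) [q.IsPrime] (w : W) (s : RK) (hs : s ∉ q)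
    (h : s • ((1 : RK) ⊗ₜ[S] w) = 0) : ∃ t : S, t ∉ q.comap (algebraMap S RK) ∧ t • w = 0 := by
  let L := Localization.AtPrime q
  haveI : Module.Flat RK L := IsLocalization.flat L q.primeCompl
  haveI : Module.Flat S L := Module.Flat.trans S RK L
  let φ : RK ⊗[S] W →ₗ[S] L ⊗[S] W := LinearMap.rTensor W (IsScalarTower.toAlgHom S RK L).toLinearMap
  have h1 : (algebraMap RK L s) • ((1 : L) ⊗ₜ[S] w) = 0 := by
    have h2 : φ (s ⊗ₜ[S] w) = 0 := by
      rw [show s ⊗ₜ[S] w = s • ((1 : RK) ⊗ₜ[S] w) by rw [TensorProduct.smul_tmul', smul_eq_mul, mul_one], h, map_zero]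
    rw [TensorProduct.smul_tmul', smul_eq_mul, mul_one]
    exact h2
  have h3 : (1 : L) ⊗ₜ[S] w = 0 :=
    (IsLocalization.map_units L (⟨s, hs⟩ : q.primeCompl)).smul_eq_zero.1 h1
  have htop := FlatInjLib.map_annihilator_eq_top_of_tmul_eq_zero (S' := L) w h3
  by_contra hcon
  refine (IsLocalRing.maximalIdeal.isMaximal L).ne_top (top_le_iff.1 (htop.ge.trans ?_))
  rw [Ideal.map_le_iff_le_comap]
  intro t ht
  rw [Ideal.mem_comap, IsScalarTower.algebraMap_apply S RK L, IsLocalization.AtPrime.to_map_mem_maximal_iff L q]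
  by_contra htq
  exact hcon ⟨t, htq, (Submodule.mem_annihilator_span_singleton _ _).1 ht⟩

theorem flat_field_of_subalgebra {k K : Type u} [Field k] [Field K] [Algebra k K] (B : Subalgebra k K) :
    Module.Flat B K := by
  let F := FractionRing B
  letI : Algebra F K := (IsFractionRing.lift (A := B) (K := F) (g := algebraMap B K) Subtype.val_injective).toAlgebra
  haveI : IsScalarTower B F K := IsScalarTower.of_algebraMap_eq fun b =>
    (IsFractionRing.lift_algebraMap (A := B) (K := F) (g := algebraMap B K) Subtype.val_injective b).symm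
  haveI : Module.Flat B F := IsLocalization.flat F (nonZeroDivisors B)
  exact Module.Flat.trans B F K

theorem exists_fg_preimage {k K R RK : Type u} [Field k] [Field K] [Algebra k K] [CommRing R] [Algebra k R]
    [CommRing RK] [Algebra k RK] [Algebra K RK] [Algebra R RK] [IsScalarTower k K RK] [IsScalarTower k R RK]
    [Algebra.IsPushout k K R RK] {M MK : Type u} [AddCommGroup M] [Module R M] [AddCommGroup MK] [Module RK MK]
    [Module R MK] [IsScalarTower R RK MK] (f : M →ₗ[R] MK) (hf : IsBaseChange RK f) (z : MK) :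
    ∃ B : Subalgebra k K, B.FG ∧ z ∈ AddSubgroup.closure
      {y : MK | ∃ (b : B) (r : R) (m : M), y = (algebraMap K RK (b : K) * algebraMap R RK r) • f m} := by
  have mono : ∀ B C : Subalgebra k K, B ≤ C →
      ({y : MK | ∃ (b : B) (r : R) (m : M), y = (algebraMap K RK (b : K) * algebraMap R RK r) • f m}) ⊆
        {y : MK | ∃ (b : C) (r : R) (m : M), y = (algebraMap K RK (b : K) * algebraMap R RK r) • f m} :=
    fun B C h y ⟨b, r, m, e⟩ => ⟨⟨b, h b.2⟩, r, m, e⟩
  have add_case : ∀ x y : MK, (∃ B : Subalgebra k K, B.FG ∧ x ∈ AddSubgroup.closure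
        {y : MK | ∃ (b : B) (r : R) (m : M), y = (algebraMap K RK (b : K) * algebraMap R RK r) • f m}) →
      (∃ B : Subalgebra k K, B.FG ∧ y ∈ AddSubgroup.closure
        {y : MK | ∃ (b : B) (r : R) (m : M), y = (algebraMap K RK (b : K) * algebraMap R RK r) • f m}) →
      ∃ B : Subalgebra k K, B.FG ∧ x + y ∈ AddSubgroup.closure
        {y : MK | ∃ (b : B) (r : R) (m : M), y = (algebraMap K RK (b : K) * algebraMap R RK r) • f m} := by
    rintro x y ⟨B, hB, hx⟩ ⟨C, hC, hy⟩
    exact ⟨B ⊔ C, Subalgebra.FG.sup hB hC, add_mem (AddSubgroup.closure_mono (mono B _ le_sup_left) hx)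
      (AddSubgroup.closure_mono (mono C _ le_sup_right) hy)⟩
  obtain ⟨t, rfl⟩ := hf.equiv.surjective z
  induction t using TensorProduct.induction_on with
  | zero => exact ⟨⊥, Subalgebra.fg_bot, by rw [map_zero]; exact zero_mem _⟩
  | add x y hx hy => rw [map_add]; exact add_case _ _ hx hy
  | tmul c m =>
    rw [IsBaseChange.equiv_tmul]
    obtain ⟨c, rfl⟩ := (Algebra.IsPushout.equiv k K R RK).surjective c
    induction c using TensorProduct.induction_on with
    | zero => exact ⟨⊥, Subalgebra.fg_bot, by rw [map_zero, zero_smul]; exact zero_mem _⟩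
    | add x y hx hy => rw [map_add, add_smul]; exact add_case _ _ hx hy
    | tmul a r =>
      refine ⟨Algebra.adjoin k {a}, ⟨{a}, by simp⟩, AddSubgroup.subset_closure ?_⟩
      refine ⟨⟨a, Algebra.subset_adjoin rfl⟩, r, m, ?_⟩
      rw [Algebra.IsPushout.equiv_tmul]

theorem of_model {R S RK : Type u} [CommRing R] [CommRing S] [CommRing RK] [Algebra R S] [Algebra R RK] [Algebra S RK]
    [IsScalarTower R S RK] [Algebra.FiniteType R S] [Module.Flat R S] [Module.Flat S RK] {M MK : Type u}
    [AddCommGroup M] [Module R M] [AddCommGroup MK] [Module RK MK] [Module R MK] [Module S MK]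
    [IsScalarTower R RK MK] [IsScalarTower S RK MK] [IsScalarTower R S MK] (f : M →ₗ[R] MK)
    (hf : IsBaseChange RK f) (q : Ideal RK) [q.IsPrime] (z : MK)
    (hz : q ∈ (Submodule.span RK {z}).annihilator.minimalPrimes)
    (hzr : z ∈ LinearMap.range (LinearMap.liftBaseChange S f)) :
    q.comap (algebraMap R RK) ∈ FlatCA.weakAss R M := by
  let h : S ⊗[R] M →ₗ[S] MK := LinearMap.liftBaseChange S f
  have hhf : (h : S ⊗[R] M →ₗ[R] MK) ∘ₗ (TensorProduct.mk R S M 1) = f := LinearMap.ext fun m => by
    show h ((1 : S) ⊗ₜ m) = f m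
    rw [LinearMap.liftBaseChange_tmul, one_smul]
  have hh : IsBaseChange RK h :=
    (IsBaseChange.comp_iff (TensorProduct.isBaseChange R M S)).1 (by rw [hhf]; exact hf)
  obtain ⟨w, hw⟩ : z ∈ LinearMap.range h := hzr
  let q' := q.comap (algebraMap S RK)
  have hq' : q' ∈ FlatCA.weakAss S (S ⊗[R] M) := by
    obtain ⟨hqp, hann, hmin⟩ := (Groth.Agent.WeakAssLib.mem_minimalPrimes_ann z q).1 hz
    refine ⟨w, (Groth.Agent.WeakAssLib.mem_minimalPrimes_ann w q').2 ⟨inferInstance, fun t ht => ?_, fun x hx => ?_⟩⟩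
    · refine hann _ ?_
      rw [algebraMap_smul, ← hw, ← map_smul, ht, map_zero]
    · obtain ⟨s, hs, n, hn⟩ := hmin _ hx
      have h0 : s • ((1 : RK) ⊗ₜ[S] (x ^ n • w)) = 0 := hh.equiv.injective (by
        rw [map_zero, map_smul, IsBaseChange.equiv_tmul, one_smul, map_smul, hw,
          ← algebraMap_smul RK (x ^ n) z, map_pow, smul_smul]
        exact hn)
      obtain ⟨t, ht, htw⟩ := exists_ann_not_mem q (x ^ n • w) s hs h0
      exact ⟨t, ht, n, by rw [mul_smul]; exact htw⟩
  let p := q.comap (algebraMap R RK)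
  haveI : q'.LiesOver p := ⟨by
    show q.comap (algebraMap R RK) = (q.comap (algebraMap S RK)).comap (algebraMap R S)
    rw [Ideal.comap_comap, ← IsScalarTower.algebraMap_eq]⟩
  have hflat : FlatCA.FlatAt R q' S := by
    haveI : Module.Flat S (LocalizedModule q'.primeCompl S) := inferInstance
    exact Module.Flat.trans R S (LocalizedModule q'.primeCompl S)
  exact WeakAssTensLib.mem_weakAss_base (R := R) (S := S) (N := S) (M := M) p q' hflat hq'

theorem core {k K R : Type u} [Field k] [Field K] [Algebra k K] [CommRing R] [Algebra k R] {RK : Type u}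
    [CommRing RK] [Algebra k RK] [Algebra K RK] [Algebra R RK] [IsScalarTower k K RK] [IsScalarTower k R RK]
    [Algebra.IsPushout k K R RK] {M MK : Type u} [AddCommGroup M] [Module R M] [AddCommGroup MK] [Module RK MK]
    [Module R MK] [IsScalarTower R RK MK] (f : M →ₗ[R] MK) (hf : IsBaseChange RK f) (q : Ideal RK) [q.IsPrime]
    (hq : q ∈ FlatCA.weakAss RK MK) : q.comap (algebraMap R RK) ∈ FlatCA.weakAss R M := by
  obtain ⟨z, hz⟩ := hq
  obtain ⟨B, hB, hzB⟩ := exists_fg_preimage (k := k) (K := K) f hf z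
  haveI : Algebra.FiniteType k B := ⟨(Subalgebra.fg_top _).mpr hB⟩
  haveI : Module.Flat B K := flat_field_of_subalgebra B
  let S := R ⊗[k] B
  haveI : Algebra.FiniteType R S := inferInstance
  letI : Algebra B S := Algebra.TensorProduct.rightAlgebra
  haveI : Algebra.IsPushout k B R S := Algebra.IsPushout.symm inferInstance
  haveI : IsScalarTower B K RK := inferInstance
  haveI : IsScalarTower k B RK := IsScalarTower.of_algebraMap_eq fun a => by
    rw [IsScalarTower.algebraMap_apply k K RK]; rfl
  letI : Algebra S RK := (Algebra.TensorProduct.lift (IsScalarTower.toAlgHom k R RK)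
    (IsScalarTower.toAlgHom k B RK) fun _ _ => Commute.all _ _).toRingHom.toAlgebra
  haveI : IsScalarTower R S RK := IsScalarTower.of_algebraMap_eq fun r => by
    show algebraMap R RK r = (Algebra.TensorProduct.lift (IsScalarTower.toAlgHom k R RK)
      (IsScalarTower.toAlgHom k B RK) fun _ _ => Commute.all _ _) (r ⊗ₜ 1)
    rw [Algebra.TensorProduct.lift_tmul, map_one, mul_one]
    rfl
  haveI : IsScalarTower B S RK := IsScalarTower.of_algebraMap_eq fun b => by
    show algebraMap B RK b = (Algebra.TensorProduct.lift (IsScalarTower.toAlgHom k R RK)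
      (IsScalarTower.toAlgHom k B RK) fun _ _ => Commute.all _ _) (1 ⊗ₜ b)
    rw [Algebra.TensorProduct.lift_tmul, map_one, one_mul]
    rfl
  haveI : IsScalarTower k S RK := IsScalarTower.of_algebraMap_eq (R := k) (S := S) (A := RK) fun a => by
    rw [IsScalarTower.algebraMap_apply k R RK, IsScalarTower.algebraMap_apply k R S,
      ← IsScalarTower.algebraMap_apply R S RK]
  haveI : Algebra.IsPushout B K S RK :=
    (Algebra.IsPushout.comp_iff (R := k) (S := B) (T := K) (R' := R) (S' := S) (T' := RK)).1 ‹_›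
  haveI : Module.Flat S RK := by
    haveI : Algebra.IsPushout B S K RK := Algebra.IsPushout.symm ‹_›
    exact Module.Flat.of_linearEquiv (Algebra.IsPushout.equiv B S K RK).toLinearEquiv.symm
  letI : Module S MK := Module.compHom MK (algebraMap S RK)
  haveI : IsScalarTower S RK MK := IsScalarTower.of_algebraMap_smul fun _ _ => rfl
  haveI : IsScalarTower R S MK := ⟨fun r a x => by
    show algebraMap S RK (r • a) • x = r • (algebraMap S RK a • x)
    rw [← smul_assoc r (algebraMap S RK a) x]
    exact congrArg (· • x) ((IsScalarTower.toAlgHom R S RK).toLinearMap.map_smul r a)⟩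
  refine of_model (S := S) f hf q z hz ?_
  refine (AddSubgroup.closure_le (LinearMap.range (LinearMap.liftBaseChange S f)).toAddSubgroup).2 ?_ hzB
  rintro y ⟨b, r, m, rfl⟩
  refine ⟨(r ⊗ₜ[k] b) ⊗ₜ m, ?_⟩
  rw [LinearMap.liftBaseChange_tmul, ← algebraMap_smul RK (r ⊗ₜ[k] b) (f m)]
  congr 1
  show (Algebra.TensorProduct.lift (IsScalarTower.toAlgHom k R RK)
    (IsScalarTower.toAlgHom k B RK) fun _ _ => Commute.all _ _) (r ⊗ₜ b) = _
  rw [Algebra.TensorProduct.lift_tmul, mul_comm]
  rfl

end Helpers

/-- Let K/k be a field extension, R a k-algebra and M an R-module; let R_K = R ⊗_k K (any pushout of k →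
K along k → R) and let M_K be the base change of M to R_K. If a prime q of R_K is weakly associated
to M_K, then its inverse image in R is weakly associated to M. -/
theorem result {k K R : Type u} [Field k] [Field K] [Algebra k K] [CommRing R] [Algebra k R] (RK : Type u) [CommRing RK] [Algebra k RK] [Algebra K RK] [Algebra R RK] [IsScalarTower k K RK] [IsScalarTower k R RK] [Algebra.IsPushout k K R RK] (M : Type u) [AddCommGroup M] [Module R M] (MK : Type u) [AddCommGroup MK] [Module RK MK] [Module R MK] [IsScalarTower R RK MK] (f : M →ₗ[R] MK) (hf : IsBaseChange RK f) (q : Ideal RK) [q.IsPrime] (hq : q ∈ FlatCA.weakAss RK MK) :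
    q.comap (algebraMap R RK) ∈ FlatCA.weakAss R M := by
  exact core (k := k) (K := K) f hf q hq

end Groth.Agent.S9592
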