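import Groth.Statements.S9594
import Groth.Agent.WeakAssLib.Basic
-- import your own Groth.Agent.* helpers here

set_option autoImplicit false
set_option linter.style.haveILetI false
universe u
open CAlg

namespace Groth.Agent.S9594

/-- For a ring R, an R-module M and a multiplicative subset S of R, (1) the primes of R associated to
the R-module S⁻¹M are the inverse images of the primes of S⁻¹R associated to S⁻¹M, and (2) a prime
of R associated to M which does not meet S is associated to the R-module S⁻¹M. Here a prime is
associated to a module when it equals the annihilator of some element. -/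
theorem result {R : Type u} [CommRing R] (S : Submonoid R) (M : Type u) [AddCommGroup M] [Module R M] :
    FlatCA.ass R (LocalizedModule S M) = Ideal.comap (algebraMap R (Localization S)) '' FlatCA.ass (Localization S) (LocalizedModule S M) ∧
      ∀ p ∈ FlatCA.ass R M, Disjoint (S : Set R) (p : Set R) → p ∈ FlatCA.ass R (LocalizedModule S M) := by
  refine ⟨?_, ?_⟩
  · ext p
    constructor
    · rintro ⟨hp, x, hx⟩
      rw [Groth.Agent.WeakAssLib.ann_eq_comap (A := Localization S)] at hx
      refine ⟨(Submodule.span (Localization S) {x}).annihilator, ⟨?_, x, rfl⟩, hx.symm⟩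
      rw [IsLocalization.isPrime_iff_isPrime_disjoint S (Localization S)]
      refine ⟨(show (Ideal.comap (algebraMap R (Localization S)) _).IsPrime by rw [← hx]; exact hp), ?_⟩
      rw [IsLocalization.disjoint_under_iff S (Localization S)]
      intro htop
      exact hp.ne_top (by rw [hx, htop, Ideal.comap_top])
    · rintro ⟨Q, ⟨hQ, x, rfl⟩, rfl⟩
      exact ⟨hQ.comap _, x, (Groth.Agent.WeakAssLib.ann_eq_comap x).symm⟩
  · rintro p ⟨hp, m, hm⟩ hdis
    refine ⟨hp, LocalizedModule.mk m 1, ?_⟩
    ext r
    rw [Groth.Agent.WeakAssLib.mem_ann, LocalizedModule.smul'_mk, ← LocalizedModule.zero_mk (1 : S),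
      LocalizedModule.mk_eq]
    have hmem : ∀ a : R, a ∈ p ↔ a • m = 0 := fun a => by rw [hm, Groth.Agent.WeakAssLib.mem_ann]
    constructor
    · intro hr
      exact ⟨1, by simp [(hmem r).1 hr]⟩
    · rintro ⟨t, ht⟩
      simp only [smul_zero, one_smul, Submonoid.smul_def] at ht
      rw [smul_smul, ← hmem] at ht
      exact (hp.mem_or_mem ht).resolve_left fun h => Set.disjoint_left.1 hdis t.2 h

end Groth.Agent.S9594
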