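import Groth.Statements.S9597
import Groth.Agent.WeakAssLib.Basic
-- import your own Groth.Agent.* helpers here

set_option autoImplicit false
set_option linter.style.haveILetI false
universe u
open CAlg

namespace Groth.Agent.S9597

/-- Let R be a Noetherian ring, M a finite R-module whose associated primes are pairwise incomparable
under inclusion (M has no embedded associated primes), and I the annihilator of M. Then the
associated primes of R/I, viewed as a module over itself, are again pairwise incomparable: R/I has
no embedded primes either. -/
theorem result {R : Type u} [CommRing R] [IsNoetherianRing R] (M : Type u) [AddCommGroup M] [Module R M] [Module.Finite R M] (hM : ∀ p ∈ associatedPrimes R M, ∀ q ∈ associatedPrimes R M, p ≤ q → p = q) :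
    ∀ p ∈ associatedPrimes (R ⧸ Module.annihilator R M) (R ⧸ Module.annihilator R M), ∀ q ∈ associatedPrimes (R ⧸ Module.annihilator R M) (R ⧸ Module.annihilator R M), p ≤ q → p = q := by
  set I := Module.annihilator R M with hI
  obtain ⟨G, hG⟩ := Module.Finite.fg_top (R := R) (M := M)
  have key : ∀ P ∈ associatedPrimes (R ⧸ I) (R ⧸ I), P.comap (Ideal.Quotient.mk I) ∈ associatedPrimes R M := by
    intro P hP
    obtain ⟨hPp, x, hx⟩ := isAssociatedPrime_iff.1 hP
    obtain ⟨r, rfl⟩ := Ideal.Quotient.mk_surjective x
    haveI := hPp
    have hmem : ∀ a : R, a ∈ P.comap (Ideal.Quotient.mk I) ↔ ∀ g ∈ G, (a * r) • g = 0 := by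
      intro a
      rw [Ideal.mem_comap, hx, Submodule.mem_colon_singleton, Submodule.mem_bot, smul_eq_mul, ← map_mul,
        Ideal.Quotient.eq_zero_iff_mem, hI, Module.mem_annihilator]
      refine ⟨fun h g _ => h g, fun h g => ?_⟩
      have hg : g ∈ Submodule.span R (G : Set M) := hG ▸ Submodule.mem_top
      induction hg using Submodule.span_induction with
      | mem g hg => exact h g hg
      | zero => simp
      | add a b _ _ ha hb => rw [smul_add, ha, hb, add_zero]
      | smul c b _ hb => rw [smul_comm, hb, smul_zero]
    have hinf : G.inf (fun g => (⊥ : Submodule R M).colon {r • g}) ≤ P.comap (Ideal.Quotient.mk I) := by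
      intro a ha
      rw [hmem]
      intro g hg
      have := Finset.inf_le (f := fun g => (⊥ : Submodule R M).colon {r • g}) hg ha
      rw [Submodule.mem_colon_singleton, Submodule.mem_bot, smul_smul] at this
      exact this
    obtain ⟨g, hg, hle⟩ := (Ideal.IsPrime.inf_le' (hPp.comap _)).1 hinf
    refine isAssociatedPrime_iff.2 ⟨hPp.comap _, r • g, le_antisymm (fun a ha => ?_) hle⟩
    rw [Submodule.mem_colon_singleton, Submodule.mem_bot, smul_smul]
    exact (hmem a).1 ha g hg
  intro p hp q hq hpq
  exact Ideal.comap_injective_of_surjective _ Ideal.Quotient.mk_surjective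
    (hM _ (key p hp) _ (key q hq) (Ideal.comap_mono hpq))

end Groth.Agent.S9597
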