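import Groth.Statements.S9598
import Mathlib.RingTheory.Jacobson.Ring
import Mathlib.RingTheory.Ideal.AssociatedPrime.Finiteness
import Mathlib.RingTheory.KrullDimension.Zero
-- import your own Groth.Agent.* helpers here

set_option autoImplicit false
set_option linter.style.haveILetI false
universe u
open CAlg

namespace Groth.Agent.S9598

/-- For a field k and a finite type k-algebra S with dim S > 0, some element of S is a nonzerodivisor
and a nonunit. -/
theorem result {k S : Type u} [Field k] [CommRing S] [Algebra k S] [Algebra.FiniteType k S] (hdim : 0 < ringKrullDim S) :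
    ∃ f : S, f ∈ nonZeroDivisors S ∧ ¬ IsUnit f := by
  by_contra hcon
  push_neg at hcon
  haveI : IsNoetherianRing S := Algebra.FiniteType.isNoetherianRing k S
  haveI : IsJacobsonRing S := isJacobsonRing_of_finiteType (A := k)
  have hfin : (associatedPrimes S S).Finite := associatedPrimes.finite S S
  have hmax : ∀ m : Ideal S, m.IsMaximal → m ∈ associatedPrimes S S := by
    intro m hm
    have hsub : (m : Set S) ⊆ ⋃ p ∈ hfin.toFinset, (p : Set S) := by
      intro x hx
      have h1 : x ∉ nonZeroDivisors S := fun h => hm.ne_top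
        (Ideal.eq_top_of_isUnit_mem _ hx (hcon x h))
      rw [show (⋃ p ∈ hfin.toFinset, (p : Set S)) = ⋃ p ∈ associatedPrimes S S, (p : Set S) by simp,
        biUnion_associatedPrimes_eq_compl_nonZeroDivisors]
      exact h1
    obtain ⟨p, hp, hle⟩ := (Ideal.subset_union_prime ⊥ ⊥ (fun p hp _ _ =>
      IsAssociatedPrime.isPrime (hfin.mem_toFinset.1 hp))).1 hsub
    have hp' := hfin.mem_toFinset.1 hp
    rwa [hm.eq_of_le (IsAssociatedPrime.isPrime hp').ne_top hle]
  haveI : Ring.KrullDimLE 0 S := by
    refine Ring.krullDimLE_zero_iff.2 fun I hI => ?_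
    have hs : {m : Ideal S | I ≤ m ∧ m.IsMaximal}.Finite := hfin.subset fun m hm => hmax m hm.2
    have hJ : I.jacobson = I := by
      rw [← Ideal.radical_eq_jacobson]
      exact hI.isRadical.radical
    have h2 : hs.toFinset.inf id ≤ I := by
      refine le_trans ?_ hJ.le
      exact le_sInf fun m hm => Finset.inf_le (f := id) (hs.mem_toFinset.2 hm)
    obtain ⟨m, hm, hmI⟩ := (Ideal.IsPrime.inf_le' hI).1 h2
    obtain ⟨h3, h4⟩ := hs.mem_toFinset.1 hm
    rwa [← le_antisymm hmI h3]
  have h0 : ringKrullDim S ≤ 0 := by simpa [ringKrullDim] using Order.KrullDimLE.krullDim_le (α := PrimeSpectrum S) (n := 0)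
  exact absurd hdim (not_lt.2 h0)

end Groth.Agent.S9598
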