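import Groth.Statements.S9599
import Groth.Agent.AdicExactLib.Basic
import Mathlib.RingTheory.Flat.Tensor
import Mathlib.LinearAlgebra.TensorProduct.RightExactness
-- import your own Groth.Agent.* helpers here

set_option autoImplicit false
set_option linter.style.haveILetI false
universe u
open CAlg

namespace Groth.Agent.S9599

/-- For a ring R, an ideal I of R and a short exact sequence 0 → K → M → N → 0 of R-modules with N flat
over R, the induced sequence of I-adic completions 0 → K^ → M^ → N^ → 0 is again short exact. -/
theorem result {R : Type u} [CommRing R] (I : Ideal R) {K M N : Type u} [AddCommGroup K] [Module R K] [AddCommGroup M] [Module R M] [AddCommGroup N] [Module R N] [Module.Flat R N] (i : K →ₗ[R] M) (g : M →ₗ[R] N) (hi : Function.Injective i) (hg : Function.Surjective g) (hig : Function.Exact i g) :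
    Function.Injective (AdicCompletion.map I i) ∧ Function.Exact (AdicCompletion.map I i) (AdicCompletion.map I g) ∧ Function.Surjective (AdicCompletion.map I g) := by
  have key : ∀ n (k : K), i k ∈ (I ^ (n + 0) • ⊤ : Submodule R M) → k ∈ (I ^ n • ⊤ : Submodule R K) := by
    intro n k hk
    rw [add_zero] at hk
    let φ : (X : Type u) → [AddCommGroup X] → [Module R X] → TensorProduct R (I ^ n : Ideal R) X →ₗ[R] X :=
      fun X _ _ => TensorProduct.lift ((LinearMap.lsmul R X).comp (I ^ n).subtype)
    have hφK : ∀ s, φ K s ∈ (I ^ n • ⊤ : Submodule R K) := by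
      intro s
      induction s using TensorProduct.induction_on with
      | zero => simp
      | tmul a b => exact Submodule.smul_mem_smul a.2 Submodule.mem_top
      | add a b ha hb => rw [map_add]; exact Submodule.add_mem _ ha hb
    have hnat : ∀ s, φ M (LinearMap.lTensor _ i s) = i (φ K s) := by
      intro s
      induction s using TensorProduct.induction_on with
      | zero => simp
      | tmul a b => simp [φ]
      | add a b ha hb => simp only [map_add, ha, hb]
    have hnat' : ∀ s, φ N (LinearMap.lTensor _ g s) = g (φ M s) := by
      intro s
      induction s using TensorProduct.induction_on with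
      | zero => simp
      | tmul a b => simp [φ]
      | add a b ha hb => simp only [map_add, ha, hb]
    have hsurj : ∀ x ∈ (I ^ n • ⊤ : Submodule R M), ∃ t, φ M t = x := by
      intro x hx
      induction hx using Submodule.smul_induction_on' with
      | smul a ha b _ => exact ⟨TensorProduct.tmul R (⟨a, ha⟩ : (I ^ n : Ideal R)) b, by simp [φ]⟩
      | add a _ b _ ha hb =>
        obtain ⟨t, rfl⟩ := ha
        obtain ⟨t', rfl⟩ := hb
        exact ⟨t + t', map_add _ _ _⟩
    obtain ⟨t, ht⟩ := hsurj _ hk
    have ht0 : LinearMap.lTensor (I ^ n : Ideal R) g t = 0 := by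
      have e : φ N = (TensorProduct.lid R N).toLinearMap ∘ₗ LinearMap.rTensor N (I ^ n).subtype :=
        TensorProduct.ext' fun a b => by simp [φ]
      have hinj : Function.Injective (φ N) := by
        rw [e]
        exact (TensorProduct.lid R N).injective.comp (Module.Flat.iff_rTensor_injective'.1 inferInstance (I ^ n))
      apply hinj
      rw [hnat', ht, map_zero, hig.apply_apply_eq_zero]
    obtain ⟨s, rfl⟩ := (lTensor_exact (I ^ n : Ideal R) hig hg t).1 ht0
    rw [hnat] at ht
    rw [← hi ht]
    exact hφK s
  exact ⟨Groth.Agent.AdicExactLib.map_injective_of_shift I i 0 key,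
    Groth.Agent.AdicExactLib.map_exact_of_shift I i g hg hig 0 key, AdicCompletion.map_surjective I hg⟩

end Groth.Agent.S9599
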