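import Groth.Statements.S9600
import Groth.Agent.AdicExactLib.Basic
-- import your own Groth.Agent.* helpers here

set_option autoImplicit false
set_option linter.style.haveILetI false
universe u
open CAlg

namespace Groth.Agent.S9600

/-- Let R be a ring, I an ideal of R and 0 → M → N → Q → 0 a short exact sequence of R-modules in which
Q is killed by some power I^c of I. Then on I-adic completions the map M^ → N^ is injective, N^ → Q^
is surjective with kernel equal to the image of M^, and the canonical map Q → Q^ is bijective; so 0
→ M^ → N^ → Q → 0 is again short exact. -/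
theorem result {R : Type u} [CommRing R] (I : Ideal R) {M N Q : Type u} [AddCommGroup M] [Module R M] [AddCommGroup N] [Module R N] [AddCommGroup Q] [Module R Q] (i : M →ₗ[R] N) (g : N →ₗ[R] Q) (hi : Function.Injective i) (hg : Function.Surjective g) (hig : Function.Exact i g) (c : ℕ) (hc : ∀ x ∈ I ^ c, ∀ q : Q, x • q = 0) :
    Function.Injective (AdicCompletion.map I i) ∧ Function.Exact (AdicCompletion.map I i) (AdicCompletion.map I g) ∧ Function.Surjective (AdicCompletion.map I g) ∧ Function.Bijective (AdicCompletion.of I Q) := by
  have key : ∀ n (m : M), i m ∈ (I ^ (n + c) • ⊤ : Submodule R N) → m ∈ (I ^ n • ⊤ : Submodule R M) := by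
    intro n m hm
    have h1 : (I ^ c • ⊤ : Submodule R N) ≤ LinearMap.range i := by
      refine Submodule.smul_le.2 fun a ha b _ => (hig _).1 ?_
      rw [map_smul, hc a ha]
    rw [← Submodule.comap_map_eq_of_injective hi (I ^ n • ⊤ : Submodule R M), Submodule.mem_comap,
      Submodule.map_smul'', Submodule.map_top]
    refine Submodule.smul_mono le_rfl h1 ?_
    rwa [← Submodule.mul_smul, ← pow_add]
  have hbot : ∀ n, c ≤ n → (I ^ n • ⊤ : Submodule R Q) = ⊥ := by
    intro n hn
    refine le_bot_iff.1 (Submodule.smul_le.2 fun a ha b _ => ?_)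
    simp [hc a (Ideal.pow_le_pow_right hn ha)]
  refine ⟨Groth.Agent.AdicExactLib.map_injective_of_shift I i c key,
    Groth.Agent.AdicExactLib.map_exact_of_shift I i g hg hig c key, AdicCompletion.map_surjective I hg, ?_⟩
  rw [AdicCompletion.of_bijective_iff]
  refine { haus' := fun x hx => ?_, prec' := fun f hf => ⟨f c, fun n => ?_⟩ }
  · have := hx c
    rwa [SModEq.zero, hbot c le_rfl, Submodule.mem_bot] at this
  · rcases le_total n c with h | h
    · exact hf h
    · have := hf h
      rw [SModEq.sub_mem, hbot c le_rfl, Submodule.mem_bot, sub_eq_zero] at this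
      rw [this]

end Groth.Agent.S9600
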