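import Groth.Statements.S9601
import Groth.Agent.AdicExactLib.Basic
-- import your own Groth.Agent.* helpers here

set_option autoImplicit false
set_option linter.style.haveILetI false
universe u
open CAlg

namespace Groth.Agent.S9601

/-- For a ring R, an ideal I of R and an R-module M, let M^ be the I-adic completion and K_n the kernel
of the projection M^ → M/IⁿM. The completion M^ is I-adically complete exactly when K_n = Iⁿ M^
holds for every n ≥ 1. -/
theorem result {R : Type u} [CommRing R] (I : Ideal R) (M : Type u) [AddCommGroup M] [Module R M] :
    IsAdicComplete I (AdicCompletion I M) ↔ ∀ n : ℕ, 1 ≤ n → LinearMap.ker (AdicCompletion.eval I M n) = I ^ n • (⊤ : Submodule R (AdicCompletion I M)) := by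
  constructor
  · intro hA n _
    refine le_antisymm (fun x hx => ?_) (AdicCompletion.pow_smul_top_le_ker_eval (I := I) (M := M) (n := n))
    have step : ∀ (j : ℕ) (z : AdicCompletion I M), AdicCompletion.eval I M j z = 0 →
        ∃ z', AdicCompletion.eval I M (j + 1) z' = 0 ∧
          z - z' ∈ (I ^ j • ⊤ : Submodule R (AdicCompletion I M)) := by
      intro j z hz
      obtain ⟨a, ha⟩ := Submodule.Quotient.mk_surjective _ (z.val (j + 1))
      have haj : a ∈ (I ^ j • ⊤ : Submodule R M) := by
        have h := z.property (Nat.le_succ j)
        rw [← ha] at h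
        rw [← Submodule.Quotient.mk_eq_zero]
        exact h.trans hz
      refine ⟨z - AdicCompletion.of I M a, ?_, ?_⟩
      · rw [map_sub, AdicCompletion.eval_of, AdicCompletion.eval_apply, ← ha, Submodule.mkQ_apply, sub_self]
      · rw [sub_sub_cancel]
        have h1 : AdicCompletion.of I M a ∈ Submodule.map (AdicCompletion.of I M) (I ^ j • ⊤ : Submodule R M) :=
          Submodule.mem_map_of_mem haj
        rw [Submodule.map_smul''] at h1
        exact Submodule.smul_mono le_rfl le_top h1
    choose next hn1 hn2 using step
    let z : (k : ℕ) → {z : AdicCompletion I M // AdicCompletion.eval I M (n + k) z = 0} :=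
      fun k => Nat.rec ⟨x, hx⟩ (fun k z => ⟨next (n + k) z.1 z.2, hn1 _ _ _⟩) k
    let f : ℕ → AdicCompletion I M := fun j => (z (j - n)).1
    have hfk : ∀ k, f (n + k) = (z k).1 := fun k => congrArg (fun i => (z i).1) (Nat.add_sub_cancel_left n k)
    have hlow : ∀ j, j ≤ n → f j = x := fun j hj => congrArg (fun i => (z i).1) (Nat.sub_eq_zero_of_le hj)
    have hf : ∀ j, f j ≡ f (j + 1) [SMOD (I ^ j • ⊤ : Submodule R (AdicCompletion I M))] := by
      intro j
      rcases lt_or_ge j n with h | h
      · rw [hlow j h.le, hlow (j + 1) h]
      · obtain ⟨k, rfl⟩ := Nat.exists_eq_add_of_le h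
        rw [hfk k, add_assoc, hfk (k + 1), SModEq.sub_mem]
        exact hn2 (n + k) (z k).1 (z k).2
    obtain ⟨L, hL⟩ := IsPrecomplete.prec (I := I) inferInstance
      (f := f) (fun {a b} hab => (AdicCompletion.isAdicCauchy_iff I (AdicCompletion I M) f).2 hf hab)
    have hL0 : L = 0 := by
      ext j
      have h1 : AdicCompletion.eval I M j (f (n + j) - L) = 0 := by
        refine AdicCompletion.pow_smul_top_le_ker_eval (I := I) (M := M) (n := j) ?_
        exact Submodule.smul_mono_left (Ideal.pow_le_pow_right (by omega)) (SModEq.sub_mem.1 (hL (n + j)))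
      rw [map_sub] at h1
      have h2 : AdicCompletion.eval I M (n + j) (f (n + j)) = 0 := by
        rw [hfk j]
        exact (z j).2
      have h3 : AdicCompletion.eval I M j (f (n + j)) = 0 := by
        rw [AdicCompletion.eval_apply] at h2 ⊢
        rw [← (f (n + j)).property (show j ≤ n + j by omega), h2, map_zero]
      rw [h3, zero_sub, neg_eq_zero] at h1
      simpa using h1
    have := SModEq.sub_mem.1 (hL n)
    rwa [hlow n le_rfl, hL0, sub_zero] at this
  · intro h
    have h' : ∀ n, LinearMap.ker (AdicCompletion.eval I M n) = I ^ n • (⊤ : Submodule R (AdicCompletion I M)) := by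
      intro n
      rcases Nat.eq_zero_or_pos n with rfl | hn
      · refine le_antisymm ?_ (AdicCompletion.pow_smul_top_le_ker_eval (I := I) (M := M) (n := 0))
        simp
      · exact h n hn
    exact
      { prec' := fun x hx => by
          let L : AdicCompletion I M := {
            val i := (x i).val i
            property {m n} h'' := by
              simp only [AdicCompletion.transitionMap_comp_eval_apply]
              specialize hx h''
              rwa [SModEq.sub_mem, ← h', LinearMap.mem_ker, map_sub,
                sub_eq_zero, AdicCompletion.eval_apply, AdicCompletion.eval_apply, eq_comm] at hx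
          }
          use L
          intro i
          rw [SModEq.sub_mem, ← h']
          simp [L] }

end Groth.Agent.S9601
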