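import Groth.Statements.S9602
import Mathlib.RingTheory.AdicCompletion.Algebra
import Mathlib.Tactic.LinearCombination
import Mathlib.Algebra.Ring.GeomSum
-- import your own Groth.Agent.* helpers here

set_option autoImplicit false
set_option linter.style.haveILetI false
universe u
open CAlg

namespace Groth.Agent.S9602

/-- Let R be a ring, I an ideal of R and R^ = lim R/Iⁿ the I-adic completion. An element of R^ whose
image in R/I is invertible is itself invertible in R^; and the kernel of R^ → R/I as well as the
extended ideal I R^ both lie inside the Jacobson radical of R^. -/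
theorem result {R : Type u} [CommRing R] (I : Ideal R) :
    (∀ x : AdicCompletion I R, IsUnit (AdicCompletion.evalOneₐ I x) → IsUnit x) ∧
      RingHom.ker (AdicCompletion.evalOneₐ I).toRingHom ≤ (⊥ : Ideal (AdicCompletion I R)).jacobson ∧
      I.map (algebraMap R (AdicCompletion I R)) ≤ (⊥ : Ideal (AdicCompletion I R)).jacobson := by
  have hunit : ∀ x : AdicCompletion I R, IsUnit (AdicCompletion.evalOneₐ I x) → IsUnit x := by
    intro x
    induction x using AdicCompletion.induction_on with
    | _ a =>
      intro hx
      obtain ⟨y, hy⟩ := hx.exists_right_inv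
      obtain ⟨u, rfl⟩ := Ideal.Quotient.mk_surjective y
      rw [← AdicCompletion.factorₐ_evalₐ_one, AdicCompletion.evalₐ_mk, Ideal.Quotient.factor_mk,
        ← map_mul, ← map_one (Ideal.Quotient.mk I), Ideal.Quotient.eq] at hy
      have hI : ∀ n, (1 - a n * u) ^ n ∈ I ^ n := by
        intro n
        rcases Nat.eq_zero_or_pos n with rfl | hn
        · simp
        · refine Ideal.pow_mem_pow ?_ n
          have h := SModEq.sub_mem.1 (a.property (show 1 ≤ n from hn))
          rw [pow_one, smul_eq_mul, Ideal.mul_top] at h
          have e : 1 - a n * u = -(a.1 1 * u - 1) + (a.1 1 - a n) * u := by ring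
          rw [e]
          exact I.add_mem (I.neg_mem hy) (I.mul_mem_right _ h)
      let b : ℕ → R := fun n => u * ∑ k ∈ Finset.range n, (1 - a n * u) ^ k
      have hab : ∀ n, 1 - a n * b n ∈ I ^ n := by
        intro n
        have e : 1 - a n * b n = (1 - a n * u) ^ n := by
          have := geom_sum_mul (1 - a n * u) n
          simp only [b]
          linear_combination this
        rw [e]
        exact hI n
      have hb : ∀ n, b n ≡ b (n + 1) [SMOD (I ^ n • ⊤ : Ideal R)] := by
        intro n
        rw [SModEq.sub_mem, smul_eq_mul, Ideal.mul_top]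
        have h1 := SModEq.sub_mem.1 (a.property (Nat.le_succ n))
        rw [smul_eq_mul, Ideal.mul_top] at h1
        have h2 := Ideal.pow_le_pow_right (Nat.le_succ n) (hab (n + 1))
        have e : b n - b (n + 1) = b n * (1 - a (n + 1) * b (n + 1)) - b (n + 1) * (1 - a n * b n)
            - b n * b (n + 1) * (a.1 n - a.1 (n + 1)) := by ring
        rw [e]
        exact Submodule.sub_mem _ (Submodule.sub_mem _ (Ideal.mul_mem_left _ _ h2)
          (Ideal.mul_mem_left _ _ (hab n))) (Ideal.mul_mem_left _ _ h1)
      refine IsUnit.of_mul_eq_one (AdicCompletion.mk I R (AdicCompletion.AdicCauchySequence.mk I R b hb)) ?_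
      refine AdicCompletion.ext_evalₐ fun n => ?_
      rw [map_mul, map_one, AdicCompletion.evalₐ_mk, AdicCompletion.evalₐ_mk, ← map_mul,
        ← map_one (Ideal.Quotient.mk (I ^ n)), Ideal.Quotient.eq, ← neg_sub]
      exact (I ^ n).neg_mem (hab n)
  refine ⟨hunit, ?_, ?_⟩
  · intro x hx
    rw [Ideal.mem_jacobson_bot]
    intro y
    apply hunit
    rw [RingHom.mem_ker] at hx
    have hx' : AdicCompletion.evalOneₐ I x = 0 := hx
    simp [map_add, map_mul, hx']
  · rw [Ideal.map_le_iff_le_comap]
    intro r hr
    rw [Ideal.mem_comap, Ideal.mem_jacobson_bot]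
    intro y
    apply hunit
    have hx' : AdicCompletion.evalOneₐ I (algebraMap R _ r) = 0 := by
      rw [AdicCompletion.algebraMap_apply, Algebra.algebraMap_self, RingHom.id_apply, AdicCompletion.evalOneₐ_of]
      exact Ideal.Quotient.eq_zero_iff_mem.2 hr
    simp only [map_add, map_mul, map_one, hx', zero_mul, zero_add]
    exact isUnit_one

end Groth.Agent.S9602
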