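import Groth.Statements.S9603
import Groth.Agent.AdicExactLib.Basic
import Mathlib.RingTheory.Finiteness.Ideal
-- import your own Groth.Agent.* helpers here

set_option autoImplicit false
set_option linter.style.haveILetI false
universe u
open CAlg

namespace Groth.Agent.S9603

/-- For a ring A, elements f_1, …, f_r generating an ideal I and an A-module M, if the canonical map
from M to its (f_i)-adic completion is surjective for every i, then the canonical map from M to its
I-adic completion is surjective. -/
theorem result {A : Type u} [CommRing A] {r : ℕ} (f : Fin r → A) (M : Type u) [AddCommGroup M] [Module A M] (h : ∀ i, Function.Surjective (AdicCompletion.of (Ideal.span {f i}) M)) :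
    Function.Surjective (AdicCompletion.of (Ideal.span (Set.range f)) M) := by
  classical
  intro x
  induction x using AdicCompletion.induction_on with
  | _ a =>
    let I : Ideal A := Ideal.span (Set.range f)
    have hc : ∀ n : ℕ, ∃ c, I ^ c ≤ Ideal.span (Set.range fun i => f i ^ n) := by
      intro n
      refine Ideal.exists_pow_le_of_le_radical_of_fg ?_ ⟨Finset.univ.image f, by simp [I]⟩
      refine Ideal.span_le.2 ?_
      rintro _ ⟨i, rfl⟩
      exact ⟨n, Ideal.subset_span ⟨i, rfl⟩⟩
    choose c hc using hc
    let φ : ℕ → ℕ := fun n => n + ∑ k ∈ Finset.range (n + 1), c k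
    have hφn : ∀ n, n ≤ φ n := fun n => Nat.le_add_right _ _
    have hφc : ∀ n, c n ≤ φ n := fun n => le_trans
      (Finset.single_le_sum (fun _ _ => Nat.zero_le _) (Finset.self_mem_range_succ n)) (Nat.le_add_left _ _)
    have hφs : ∀ n, φ n ≤ φ (n + 1) := fun n => by
      simp only [φ]
      rw [Finset.sum_range_succ c (n + 1)]
      omega
    have hd : ∀ n, ∃ m : Fin r → M, ∑ i, f i ^ n • m i = a (φ (n + 1)) - a (φ n) := by
      intro n
      apply Groth.Agent.AdicExactLib.exists_sum_of_mem_span_smul
      refine Submodule.smul_mono_left (hc n) ?_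
      refine Submodule.smul_mono_left (Ideal.pow_le_pow_right (hφc n)) ?_
      rw [← Submodule.Quotient.eq]
      exact AdicCompletion.AdicCauchySequence.mk_eq_mk (hφs n) a
    choose m hm using hd
    have hL : ∀ i, ∃ L : M, ∀ n, (∑ k ∈ Finset.range n, f i ^ k • m k i) ≡ L
        [SMOD (Ideal.span {f i} ^ n • ⊤ : Submodule A M)] := by
      intro i
      refine (AdicCompletion.of_surjective_iff.1 (h i)).prec ?_
      intro p q hpq
      rw [SModEq.sub_mem, ← neg_sub, ← Finset.sum_Ico_eq_sub _ hpq]
      refine Submodule.neg_mem _ (Submodule.sum_mem _ fun k hk => ?_)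
      exact Submodule.smul_mem_smul (Ideal.pow_le_pow_right (Finset.mem_Ico.1 hk).1
        (Ideal.pow_mem_pow (Ideal.mem_span_singleton_self _) k)) Submodule.mem_top
    choose L hL using hL
    refine ⟨a (φ 0) + ∑ i, L i, ?_⟩
    ext n
    simp only [AdicCompletion.of_apply, AdicCompletion.mk_apply_coe, Submodule.mkQ_apply]
    rw [← AdicCompletion.AdicCauchySequence.mk_eq_mk (hφn n) a, Submodule.Quotient.eq]
    have htel : a (φ n) = a (φ 0) + ∑ i, ∑ k ∈ Finset.range n, f i ^ k • m k i := by
      rw [Finset.sum_comm]
      simp only [hm]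
      rw [Finset.sum_range_sub (fun k => a (φ k))]
      abel
    rw [htel, add_sub_add_left_eq_sub, ← Finset.sum_sub_distrib]
    refine Submodule.sum_mem _ fun i _ => ?_
    rw [← Submodule.neg_mem_iff, neg_sub]
    refine Submodule.smul_mono_left (Ideal.pow_right_mono ?_ n) (SModEq.sub_mem.1 (hL i n))
    exact Ideal.span_mono (Set.singleton_subset_iff.2 ⟨i, rfl⟩)

end Groth.Agent.S9603
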