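import Groth.Statements.S9605
import Mathlib.RingTheory.AdicCompletion.Exactness
-- import your own Groth.Agent.* helpers here

set_option autoImplicit false
set_option linter.style.haveILetI false
universe u
open CAlg

namespace Groth.Agent.S9605

/-- For a ring R, an ideal I of R, an I-adically complete R-module M and a submodule K of M, the
quotient M/K is I-adically complete if and only if K = ⋂ₙ (K + IⁿM). -/
theorem result {R : Type u} [CommRing R] (I : Ideal R) (M : Type u) [AddCommGroup M] [Module R M] [IsAdicComplete I M] (K : Submodule R M) :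
    IsAdicComplete I (M ⧸ K) ↔ K = ⨅ n : ℕ, K ⊔ I ^ n • (⊤ : Submodule R M) := by
  have hmap : ∀ n : ℕ, (I ^ n • ⊤ : Submodule R (M ⧸ K)) = Submodule.map K.mkQ (I ^ n • ⊤) := by
    intro n
    rw [Submodule.map_smul'', Submodule.map_top, Submodule.range_mkQ]
  have hmem : ∀ (n : ℕ) (x : M), K.mkQ x ≡ 0 [SMOD (I ^ n • ⊤ : Submodule R (M ⧸ K))] ↔ x ∈ K ⊔ I ^ n • ⊤ := by
    intro n x
    rw [SModEq.zero, hmap, ← Submodule.mem_comap, Submodule.comap_map_mkQ]
  constructor
  · intro h
    refine le_antisymm (le_iInf fun n => le_sup_left) fun x hx => ?_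
    rw [← Submodule.Quotient.mk_eq_zero]
    exact IsHausdorff.haus h.toIsHausdorff _ fun n => (hmem n x).2 (Submodule.mem_iInf _ |>.1 hx n)
  · intro h
    haveI : IsPrecomplete I (M ⧸ K) := by
      rw [← AdicCompletion.of_surjective_iff]
      intro y
      obtain ⟨z, rfl⟩ := AdicCompletion.map_surjective I K.mkQ_surjective y
      obtain ⟨x, rfl⟩ := AdicCompletion.of_surjective I M z
      exact ⟨K.mkQ x, (AdicCompletion.map_of I K.mkQ x).symm⟩
    refine { haus' := fun q hq => ?_ }
    obtain ⟨x, rfl⟩ := K.mkQ_surjective q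
    rw [Submodule.mkQ_apply, Submodule.Quotient.mk_eq_zero, h, Submodule.mem_iInf]
    exact fun n => (hmem n x).1 (hq n)

end Groth.Agent.S9605
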