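import Groth.Statements.S9606
import Mathlib.RingTheory.Spectrum.Prime.Topology
import Mathlib.RingTheory.LocalRing.ResidueField.Ideal


-- import your own Groth.Agent.* helpers here

set_option autoImplicit false
universe u
open CAlg

namespace Groth.Agent.S9606

/-- Let R → S be a ring map with locally nilpotent kernel such that S is generated over R by elements x
with x² and x³ in the image of R. Then the induced map on spectra is a homeomorphism and every
residue field map κ(p) → κ(q), for q a prime of S with inverse image p, is bijective. -/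
theorem result {R S : Type u} [CommRing R] [CommRing S] [Algebra R S]
    (hgen : Algebra.adjoin R {x : S | x ^ 2 ∈ Set.range (algebraMap R S) ∧ x ^ 3 ∈ Set.range (algebraMap R S)} = ⊤)
    (hker : ∀ r : R, algebraMap R S r = 0 → IsNilpotent r) :
    IsHomeomorph (PrimeSpectrum.comap (algebraMap R S)) ∧
      ∀ (q : Ideal S) [q.IsPrime], Function.Bijective (Ideal.ResidueField.map (q.comap (algebraMap R S)) q (algebraMap R S) rfl) := by
  classical
  have hint : Algebra.IsIntegral R S := ⟨fun s => by
    have hs : s ∈ Algebra.adjoin R {x : S | x ^ 2 ∈ Set.range (algebraMap R S) ∧ x ^ 3 ∈ Set.range (algebraMap R S)} :=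
      hgen ▸ Algebra.mem_top
    induction hs using Algebra.adjoin_induction with
    | mem x hx =>
      obtain ⟨a, ha⟩ := hx.1
      exact IsIntegral.of_pow (by norm_num : 0 < 2) (ha ▸ isIntegral_algebraMap)
    | algebraMap c => exact isIntegral_algebraMap
    | add x y _ _ hx hy => exact hx.add hy
    | mul x y _ _ hx hy => exact hx.mul hy⟩
  have key : ∀ (p : Ideal R) [p.IsPrime] (s : S), ∃ c d : R, c ∉ p ∧
      ∀ q : Ideal S, q.IsPrime → q.comap (algebraMap R S) = p → algebraMap R S c * s - algebraMap R S d ∈ q := by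
    intro p hp s
    have hs : s ∈ Algebra.adjoin R {x : S | x ^ 2 ∈ Set.range (algebraMap R S) ∧ x ^ 3 ∈ Set.range (algebraMap R S)} :=
      hgen ▸ Algebra.mem_top
    induction hs using Algebra.adjoin_induction with
    | mem x hx =>
      obtain ⟨a, ha⟩ := hx.1
      obtain ⟨b, hb⟩ := hx.2
      by_cases hap : a ∈ p
      · refine ⟨1, 0, fun h => hp.ne_top ((Ideal.eq_top_iff_one _).2 h), fun q hq hqp => ?_⟩
        rw [map_one, one_mul, map_zero, sub_zero]
        refine hq.mem_of_pow_mem 2 ?_
        rw [← ha, ← Ideal.mem_comap, hqp]; exact hap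
      · refine ⟨a, b, hap, fun q _ _ => ?_⟩
        rw [ha, hb, ← pow_succ, sub_self]; exact zero_mem _
    | algebraMap c =>
      exact ⟨1, c, fun h => hp.ne_top ((Ideal.eq_top_iff_one _).2 h), fun q _ _ => by rw [map_one, one_mul, sub_self]; exact zero_mem _⟩
    | add x y _ _ hx hy =>
      obtain ⟨c, d, hc, h1⟩ := hx; obtain ⟨c', d', hc', h2⟩ := hy
      refine ⟨c * c', c' * d + c * d', fun h => (hp.mem_or_mem h).elim hc hc', fun q hq hqp => ?_⟩
      have := add_mem (q.mul_mem_left (algebraMap R S c') (h1 q hq hqp)) (q.mul_mem_left (algebraMap R S c) (h2 q hq hqp))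
      convert this using 1
      simp only [map_add, map_mul]; ring
    | mul x y _ _ hx hy =>
      obtain ⟨c, d, hc, h1⟩ := hx; obtain ⟨c', d', hc', h2⟩ := hy
      refine ⟨c * c', d * d', fun h => (hp.mem_or_mem h).elim hc hc', fun q hq hqp => ?_⟩
      have := add_mem (q.mul_mem_left (algebraMap R S c' * y) (h1 q hq hqp)) (q.mul_mem_left (algebraMap R S d) (h2 q hq hqp))
      convert this using 1
      simp only [map_mul]; ring
  have huniq : ∀ q q' : Ideal S, q.IsPrime → q'.IsPrime → q.comap (algebraMap R S) = q'.comap (algebraMap R S) → q ≤ q' := by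
    intro q q' hq hq' h s hs
    obtain ⟨c, d, hc, hk⟩ := key (q.comap (algebraMap R S)) s
    have h1 : algebraMap R S d ∈ q := by
      have := sub_mem (q.mul_mem_left (algebraMap R S c) hs) (hk q hq rfl)
      simpa using this
    have h2 : algebraMap R S d ∈ q' := by rw [← Ideal.mem_comap, ← h, Ideal.mem_comap]; exact h1
    have h3 : algebraMap R S c * s ∈ q' := by
      have := add_mem (hk q' hq' h.symm) h2
      simpa using this
    exact (hq'.mem_or_mem h3).resolve_left fun h4 => hc (by rw [h]; exact h4)
  refine ⟨?_, fun q _ => ?_⟩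
  · refine isHomeomorph_iff_continuous_isClosedMap_bijective.2
      ⟨PrimeSpectrum.continuous_comap _, PrimeSpectrum.isClosedMap_comap_of_isIntegral _ (algebraMap_isIntegral_iff.2 hint), ?_, ?_⟩
    · intro a b hab
      have h : a.asIdeal.comap (algebraMap R S) = b.asIdeal.comap (algebraMap R S) := congrArg PrimeSpectrum.asIdeal hab
      exact PrimeSpectrum.ext (le_antisymm (huniq _ _ a.isPrime b.isPrime h) (huniq _ _ b.isPrime a.isPrime h.symm))
    · intro p
      obtain ⟨Q, -, hQ, hQp⟩ := Ideal.exists_ideal_over_prime_of_isIntegral p.asIdeal (⊥ : Ideal S) (fun r hr => by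
        obtain ⟨m, hm⟩ := hker r hr
        exact p.isPrime.mem_of_pow_mem m (hm ▸ zero_mem _))
      exact ⟨⟨Q, hQ⟩, PrimeSpectrum.ext hQp⟩
  · refine ⟨RingHom.injective _, fun z => ?_⟩
    let p := q.comap (algebraMap R S)
    let φ := Ideal.ResidueField.map p q (algebraMap R S) rfl
    have hS : ∀ s : S, algebraMap S q.ResidueField s ∈ φ.range := by
      intro s
      obtain ⟨c, d, hc, hk⟩ := key p s
      have h0 := Ideal.algebraMap_residueField_eq_zero.2 (hk q inferInstance rfl)
      rw [map_sub, map_mul, sub_eq_zero] at h0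
      refine ⟨algebraMap R p.ResidueField d * (algebraMap R p.ResidueField c)⁻¹, ?_⟩
      have hc0 : algebraMap S q.ResidueField (algebraMap R S c) ≠ 0 := fun h => hc (Ideal.algebraMap_residueField_eq_zero (I := q).1 h)
      rw [map_mul, map_inv₀, Ideal.ResidueField.map_algebraMap, Ideal.ResidueField.map_algebraMap, ← h0, mul_comm, ← mul_assoc,
        inv_mul_cancel₀ hc0, one_mul]
    obtain ⟨z', rfl⟩ := IsLocalRing.residue_surjective z
    obtain ⟨a, b, rfl⟩ := IsLocalization.exists_mk'_eq q.primeCompl z'
    obtain ⟨α, hα⟩ := hS a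
    obtain ⟨β, hβ⟩ := hS b
    refine ⟨α * β⁻¹, ?_⟩
    have hb0 : algebraMap S q.ResidueField b ≠ 0 := fun h => b.2 (Ideal.algebraMap_residueField_eq_zero.1 h)
    show φ (α * β⁻¹) = _
    rw [map_mul, map_inv₀, hα, hβ, mul_inv_eq_iff_eq_mul₀ hb0,
      IsScalarTower.algebraMap_apply S (Localization.AtPrime q) q.ResidueField a,
      IsScalarTower.algebraMap_apply S (Localization.AtPrime q) q.ResidueField b]
    show IsLocalRing.residue _ _ = IsLocalRing.residue _ _ * IsLocalRing.residue _ _
    rw [← map_mul, IsLocalization.mk'_spec]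

end Groth.Agent.S9606
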