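import Groth.Statements.S9607
import Mathlib.Data.Nat.Choose.Basic
import Mathlib.Tactic.Ring
import Mathlib.Data.Nat.Choose.Sum
import Mathlib.Data.Nat.Factorization.Basic
import Mathlib.Data.Nat.GCD.Basic
-- import your own Groth.Agent.* helpers here

set_option autoImplicit false
set_option linter.style.haveILetI false
universe u
open CAlg

namespace Groth.Agent.S9607

/-- For a prime number p and integers n, m > 0 there exists an integer a such that (x + y)^(p^a) and p^a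
(x + y) both belong to the subring ℤ[x^(p^n), p^n x, y^(p^m), p^m y] of the polynomial ring ℤ[x, y]. -/
theorem result (p : ℕ) (hp : p.Prime) (n m : ℕ) (hn : 0 < n) (hm : 0 < m) :
    ∃ a : ℕ, ((MvPolynomial.X 0 + MvPolynomial.X 1 : MvPolynomial (Fin 2) ℤ) ^ (p ^ a) ∈ Algebra.adjoin ℤ ({MvPolynomial.X 0 ^ (p ^ n), (p : MvPolynomial (Fin 2) ℤ) ^ n * MvPolynomial.X 0, MvPolynomial.X 1 ^ (p ^ m), (p : MvPolynomial (Fin 2) ℤ) ^ m * MvPolynomial.X 1} : Set (MvPolynomial (Fin 2) ℤ)) ∧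
      (p : MvPolynomial (Fin 2) ℤ) ^ a * (MvPolynomial.X 0 + MvPolynomial.X 1) ∈ Algebra.adjoin ℤ ({MvPolynomial.X 0 ^ (p ^ n), (p : MvPolynomial (Fin 2) ℤ) ^ n * MvPolynomial.X 0, MvPolynomial.X 1 ^ (p ^ m), (p : MvPolynomial (Fin 2) ℤ) ^ m * MvPolynomial.X 1} : Set (MvPolynomial (Fin 2) ℤ))) := by
  classical
  set A := Algebra.adjoin ℤ ({MvPolynomial.X 0 ^ (p ^ n), (p : MvPolynomial (Fin 2) ℤ) ^ n * MvPolynomial.X 0, MvPolynomial.X 1 ^ (p ^ m), (p : MvPolynomial (Fin 2) ℤ) ^ m * MvPolynomial.X 1} : Set (MvPolynomial (Fin 2) ℤ)) with hA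
  have hpA : ∀ e : ℕ, (p : MvPolynomial (Fin 2) ℤ) ^ e ∈ A := fun e => pow_mem (natCast_mem A p) e
  have aux : ∀ (x : MvPolynomial (Fin 2) ℤ) (n : ℕ), x ^ (p ^ n) ∈ A → (p : MvPolynomial (Fin 2) ℤ) ^ n * x ∈ A →
      ∀ i e : ℕ, n * (i % p ^ n) ≤ e → (p : MvPolynomial (Fin 2) ℤ) ^ e * x ^ i ∈ A := by
    intro x n h1 h2 i e he
    obtain ⟨c, rfl⟩ := Nat.exists_eq_add_of_le he
    have : (p : MvPolynomial (Fin 2) ℤ) ^ (n * (i % p ^ n) + c) * x ^ i =
        (p : MvPolynomial (Fin 2) ℤ) ^ c * ((p : MvPolynomial (Fin 2) ℤ) ^ n * x) ^ (i % p ^ n) * (x ^ (p ^ n)) ^ (i / p ^ n) := by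
      conv_lhs => rw [← Nat.mod_add_div i (p ^ n)]
      rw [mul_pow, ← pow_mul, ← pow_mul, pow_add, pow_add, Nat.add_mul_mod_self_left, Nat.mod_mod]
      ring
    rw [this]
    exact mul_mem (mul_mem (hpA c) (pow_mem h2 _)) (pow_mem h1 _)
  let N := max n m
  let a := N + n * p ^ n + m * p ^ m
  refine ⟨a, ?_, ?_⟩
  · rw [add_pow]
    refine sum_mem fun i hi => ?_
    have hi' : i ≤ p ^ a := by simpa [Nat.lt_succ_iff] using hi
    have hX : ∀ k, n * (i % p ^ n) ≤ k → (p : MvPolynomial (Fin 2) ℤ) ^ k * MvPolynomial.X 0 ^ i ∈ A :=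
      aux _ n (Algebra.subset_adjoin (by simp)) (Algebra.subset_adjoin (by simp)) i
    have hY : ∀ k, m * ((p ^ a - i) % p ^ m) ≤ k → (p : MvPolynomial (Fin 2) ℤ) ^ k * MvPolynomial.X 1 ^ (p ^ a - i) ∈ A :=
      aux _ m (Algebra.subset_adjoin (by simp)) (Algebra.subset_adjoin (by simp)) _
    by_cases hN : p ^ N ∣ i
    · have h1 : i % p ^ n = 0 := Nat.mod_eq_zero_of_dvd ((pow_dvd_pow p (le_max_left n m)).trans hN)
      have h2 : (p ^ a - i) % p ^ m = 0 := Nat.mod_eq_zero_of_dvd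
        (Nat.dvd_sub (pow_dvd_pow p (show m ≤ a by simp only [a]; have := le_max_right n m; omega))
          ((pow_dvd_pow p (le_max_right n m)).trans hN))
      have hx0 := hX 0 (by simp [h1])
      have hy0 := hY 0 (by simp [h2])
      rw [pow_zero, one_mul] at hx0 hy0
      exact mul_mem (mul_mem hx0 hy0) (natCast_mem A _)
    · have hi0 : i ≠ 0 := fun h => hN (h ▸ dvd_zero _)
      obtain ⟨v, u, hu, hiu⟩ := Nat.exists_eq_pow_mul_and_not_dvd hi0 p hp.ne_one
      have hvN : v < N := by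
        by_contra hc
        exact hN (hiu ▸ (pow_dvd_pow p (not_lt.1 hc)).trans (dvd_mul_right _ _))
      have hdvd : p ^ a ∣ i * (p ^ a).choose i := by
        obtain ⟨i', rfl⟩ := Nat.exists_eq_succ_of_ne_zero hi0
        obtain ⟨q, hq⟩ := Nat.exists_eq_succ_of_ne_zero (pow_pos hp.pos a).ne'
        rw [hq, mul_comm, ← Nat.add_one_mul_choose_eq]
        exact dvd_mul_right _ _
      have hva : v ≤ a := by simp only [a]; omega
      have hdvd' : p ^ v * p ^ (a - v) ∣ p ^ v * (u * (p ^ a).choose i) := by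
        rwa [← pow_add, Nat.add_sub_cancel' hva, ← mul_assoc, ← hiu]
      have hdvd2 : p ^ (a - v) ∣ (p ^ a).choose i :=
        ((hp.coprime_iff_not_dvd.2 hu).pow_left (a - v)).dvd_of_dvd_mul_left
          ((Nat.mul_dvd_mul_iff_left (pow_pos hp.pos v)).1 hdvd')
      obtain ⟨c, hc⟩ := (pow_dvd_pow p (show n * p ^ n + m * p ^ m ≤ a - v by omega)).trans hdvd2
      rw [hc, Nat.cast_mul, Nat.cast_pow, pow_add (p : MvPolynomial (Fin 2) ℤ) (n * p ^ n) (m * p ^ m)]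
      have e1 : ∀ (P Q X Y : MvPolynomial (Fin 2) ℤ) (Z : MvPolynomial (Fin 2) ℤ),
          X * Y * (P * Q * Z) = (P * X) * (Q * Y) * Z := fun P Q X Y Z => by ring
      rw [e1]
      exact mul_mem (mul_mem (hX _ (Nat.mul_le_mul_left n (Nat.mod_lt _ (pow_pos hp.pos n)).le))
        (hY _ (Nat.mul_le_mul_left m (Nat.mod_lt _ (pow_pos hp.pos m)).le))) (natCast_mem A c)
  · rw [mul_add]
    have e : ∀ (k e : ℕ) (x : MvPolynomial (Fin 2) ℤ), k ≤ e → (p : MvPolynomial (Fin 2) ℤ) ^ k * x ∈ A →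
        (p : MvPolynomial (Fin 2) ℤ) ^ e * x ∈ A := fun k e x hk hx => by
      obtain ⟨c, rfl⟩ := Nat.exists_eq_add_of_le hk
      rw [pow_add, mul_right_comm]
      exact mul_mem hx (hpA c)
    exact add_mem (e n a _ (by simp only [a]; have := le_max_left n m; omega) (Algebra.subset_adjoin (by simp)))
      (e m a _ (by simp only [a]; have := le_max_right n m; omega) (Algebra.subset_adjoin (by simp)))

end Groth.Agent.S9607
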