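import Groth.Statements.S9608
import Mathlib.FieldTheory.PurelyInseparable.Basic
import Mathlib.FieldTheory.PurelyInseparable.PerfectClosure
-- import your own Groth.Agent.* helpers here

set_option autoImplicit false
set_option linter.style.haveILetI false
universe u
open CAlg

namespace Groth.Agent.S9608

/-- Let k'/k be a field extension and p a prime number. Then k' is generated over k by elements x for
which some n > 0 has x^(p^n) ∈ k and p^n x ∈ k, if and only if either k' = k, or k has
characteristic p and k'/k is purely inseparable. -/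
theorem result {k k' : Type u} [Field k] [Field k'] [Algebra k k'] (p : ℕ) (hp : p.Prime) :
    IntermediateField.adjoin k {x : k' | ∃ n : ℕ, 0 < n ∧ x ^ (p ^ n) ∈ Set.range (algebraMap k k') ∧ (p : k') ^ n * x ∈ Set.range (algebraMap k k')} = ⊤ ↔
      (Function.Surjective (algebraMap k k') ∨ (CharP k p ∧ IsPurelyInseparable k k')) := by
  haveI : Fact p.Prime := ⟨hp⟩
  constructor
  · intro h
    by_cases hp0 : (p : k) = 0
    · haveI hc : CharP k p := by
        obtain ⟨q, hq⟩ := CharP.exists k
        have hd : q ∣ p := (CharP.cast_eq_zero_iff k q p).1 hp0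
        rcases (Nat.dvd_prime hp).1 hd with h1 | h1
        · subst h1
          exact absurd (CharP.ringChar_of_prime_eq_zero hp hp0) (by rw [ringChar.eq k 1]; exact hp.one_lt.ne)
        · rwa [← h1]
      haveI : ExpChar k p := ExpChar.prime hp
      refine Or.inr ⟨hc, ?_⟩
      have h2 := (IntermediateField.isPurelyInseparable_adjoin_iff_pow_mem k k' p
        (S := {x : k' | ∃ n : ℕ, 0 < n ∧ x ^ (p ^ n) ∈ Set.range (algebraMap k k') ∧ (p : k') ^ n * x ∈ Set.range (algebraMap k k')})).2
        fun x ⟨n, _, hn, _⟩ => ⟨n, hn⟩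
      rw [h] at h2
      exact IntermediateField.topEquiv.isPurelyInseparable_iff.1 h2
    · refine Or.inl fun y => ?_
      have hle : IntermediateField.adjoin k {x : k' | ∃ n : ℕ, 0 < n ∧ x ^ (p ^ n) ∈ Set.range (algebraMap k k') ∧ (p : k') ^ n * x ∈ Set.range (algebraMap k k')} ≤ ⊥ := by
        rw [IntermediateField.adjoin_le_iff]
        rintro x ⟨n, -, -, r, hr⟩
        refine IntermediateField.mem_bot.2 ⟨((p : k) ^ n)⁻¹ * r, ?_⟩
        have hne : (p : k') ^ n ≠ 0 := by
          rw [← map_natCast (algebraMap k k'), ← map_pow]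
          exact (map_ne_zero _).2 (pow_ne_zero _ hp0)
        rw [map_mul, hr, map_inv₀, map_pow, map_natCast, inv_mul_cancel_left₀ hne]
      rw [h] at hle
      exact IntermediateField.mem_bot.1 (hle IntermediateField.mem_top)
  · intro h
    rw [eq_top_iff]
    intro x _
    apply IntermediateField.subset_adjoin
    rcases h with h | ⟨hc, hpi⟩
    · exact ⟨1, one_pos, h _, h _⟩
    · haveI := hc
      haveI := hpi
      haveI : ExpChar k p := ExpChar.prime hp
      obtain ⟨n, r, hr⟩ := IsPurelyInseparable.pow_mem k p x
      refine ⟨n + 1, n.succ_pos, ⟨r ^ p, by rw [map_pow, hr, ← pow_mul, ← pow_succ]⟩, 0, ?_⟩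
      have : (p : k') = 0 := by rw [← map_natCast (algebraMap k k'), CharP.cast_eq_zero, map_zero]
      rw [this, map_zero, zero_pow n.succ_ne_zero, zero_mul]

end Groth.Agent.S9608
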