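import Groth.Statements.S9610
import Mathlib.LinearAlgebra.Dimension.Constructions
import Mathlib.RingTheory.Polynomial.Basic
-- import your own Groth.Agent.* helpers here

set_option autoImplicit false
set_option linter.style.haveILetI false
universe u
open CAlg

namespace Groth.Agent.S9610

/-- Let k be a field and V a nonzero k-vector space with dim_k V < #k as cardinals. Then every k-linear
endomorphism T of V admits a monic polynomial P over k for which P(T) is not invertible. -/
theorem result {k V : Type u} [Field k] [AddCommGroup V] [Module k V] [Nontrivial V] (hV : Module.rank k V < Cardinal.mk k) (T : Module.End k V) :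
    ∃ P : Polynomial k, P.Monic ∧ ¬ IsUnit (Polynomial.aeval T P) := by
  classical
  by_contra hcon
  push_neg at hcon
  obtain ⟨v, hv⟩ := exists_ne (0 : V)
  have hu : ∀ a : k, IsUnit (Polynomial.aeval T (Polynomial.X - Polynomial.C a)) :=
    fun a => hcon _ (Polynomial.monic_X_sub_C a)
  let w : k → V := fun a => (↑(hu a).unit⁻¹ : Module.End k V) v
  have hw : ∀ a, Polynomial.aeval T (Polynomial.X - Polynomial.C a) (w a) = v := fun a => by
    show (Polynomial.aeval T (Polynomial.X - Polynomial.C a) * (↑(hu a).unit⁻¹ : Module.End k V)) v = v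
    rw [IsUnit.mul_val_inv]
    rfl
  have hli : LinearIndependent k w := by
    rw [linearIndependent_iff']
    intro S c hc a ha
    by_contra hca
    let P : Polynomial k := ∑ b ∈ S, Polynomial.C (c b) * ∏ d ∈ S.erase b, (Polynomial.X - Polynomial.C d)
    have hP : P ≠ 0 := by
      intro h0
      have h1 : P.eval a = c a * ∏ d ∈ S.erase a, (a - d) := by
        simp only [P, Polynomial.eval_finset_sum, Polynomial.eval_mul, Polynomial.eval_C, Polynomial.eval_prod,
          Polynomial.eval_sub, Polynomial.eval_X]
        refine Finset.sum_eq_single_of_mem a ha fun b _ hba => ?_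
        rw [Finset.prod_eq_zero (Finset.mem_erase.2 ⟨Ne.symm hba, ha⟩) (sub_self a), mul_zero]
      rw [h0, Polynomial.eval_zero] at h1
      rcases mul_eq_zero.1 h1.symm with h | h
      · exact hca h
      · obtain ⟨d, hd, hd0⟩ := Finset.prod_eq_zero_iff.1 h
        exact (Finset.mem_erase.1 hd).1 (sub_eq_zero.1 hd0).symm
    have hPv : Polynomial.aeval T P v = 0 := by
      have h2 : ∀ b ∈ S, Polynomial.aeval T (Polynomial.C (c b) * ∏ d ∈ S.erase b, (Polynomial.X - Polynomial.C d)) v
          = Polynomial.aeval T (∏ d ∈ S, (Polynomial.X - Polynomial.C d)) (c b • w b) := by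
        intro b hb
        rw [← hw b, ← Module.End.mul_apply, ← map_mul, mul_assoc, Finset.prod_erase_mul _ _ hb,
          map_smul, map_mul, Polynomial.aeval_C]
        rfl
      simp only [P, map_sum, LinearMap.sum_apply]
      rw [Finset.sum_congr rfl h2, ← map_sum, hc, map_zero]
    have hu2 : IsUnit (Polynomial.aeval T P) := by
      have h3 := hcon _ (Polynomial.monic_mul_leadingCoeff_inv hP)
      rw [map_mul, Polynomial.aeval_C] at h3
      have h4 : IsUnit (algebraMap k (Module.End k V) P.leadingCoeff⁻¹) :=
        (IsUnit.mk0 _ (inv_ne_zero (Polynomial.leadingCoeff_ne_zero.2 hP))).map _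
      obtain ⟨u, hu'⟩ := h4
      rw [← hu'] at h3
      exact (Units.isUnit_mul_units _ u).1 h3
    refine hv (((Module.End.isUnit_iff _).1 hu2).1 ?_)
    rw [hPv, map_zero]
  exact absurd hli.cardinal_le_rank (not_le.2 hV)

end Groth.Agent.S9610
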