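import Groth.Statements.S9611
-- import your own Groth.Agent.* helpers here

set_option autoImplicit false
set_option linter.style.haveILetI false
universe u
open CAlg

namespace Groth.Agent.S9611

/-- Let R be a Jacobson ring, p a prime ideal of R which is not maximal, and f an element of R not in p.
Then the set of primes of R containing p and not containing f is infinite. -/
theorem result {R : Type u} [CommRing R] [IsJacobsonRing R] (p : Ideal R) [p.IsPrime] (hp : ¬ p.IsMaximal) (f : R) (hf : f ∉ p) :
    {q : PrimeSpectrum R | p ≤ q.asIdeal ∧ f ∉ q.asIdeal}.Infinite := by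
  intro hfin
  classical
  let F : Finset (Ideal R) := hfin.toFinset.image PrimeSpectrum.asIdeal
  have hJ : p.jacobson = p := by
    rw [← Ideal.radical_eq_jacobson]
    exact Ideal.IsPrime.radical inferInstance
  let G : Finset (Ideal R) := F.filter Ideal.IsMaximal
  have h1 : G.inf id ≤ p := by
    intro g hg
    have h2 : f * g ∈ p.jacobson := by
      rw [Ideal.jacobson, Submodule.mem_sInf]
      rintro m ⟨hpm, hm⟩
      by_cases hfm : f ∈ m
      · exact Ideal.mul_mem_right _ m hfm
      · refine Ideal.mul_mem_left m _ ?_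
        have hmG : m ∈ G := Finset.mem_filter.2 ⟨Finset.mem_image.2
          ⟨⟨m, hm.isPrime⟩, hfin.mem_toFinset.2 ⟨hpm, hfm⟩, rfl⟩, hm⟩
        exact Finset.inf_le (f := id) hmG hg
    rw [hJ] at h2
    exact (Ideal.IsPrime.mem_or_mem inferInstance h2).resolve_left hf
  obtain ⟨m, hm, hmp⟩ := (Ideal.IsPrime.inf_le' inferInstance).1 h1
  obtain ⟨hmF, hmm⟩ := Finset.mem_filter.1 hm
  obtain ⟨q, hq, rfl⟩ := Finset.mem_image.1 hmF
  exact hp (by rwa [le_antisymm (hfin.mem_toFinset.1 hq).1 hmp])

end Groth.Agent.S9611
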