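import Groth.Statements.S9612
import Mathlib.RingTheory.DedekindDomain.Basic
import Mathlib.RingTheory.PrincipalIdealDomain
-- import your own Groth.Agent.* helpers here

set_option autoImplicit false
set_option linter.style.haveILetI false
universe u
open CAlg

namespace Groth.Agent.S9612

/-- A finite type ℤ-algebra is a Jacobson ring. -/
theorem result {S : Type u} [CommRing S] [Algebra.FiniteType ℤ S] :
    IsJacobsonRing S := by
  haveI : IsJacobsonRing ℤ := by
    rw [isJacobsonRing_iff_prime_eq]
    intro P hP
    by_cases h : P = ⊥
    · subst h
      refine le_antisymm (fun x hx => ?_) Ideal.le_jacobson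
      rw [Ideal.mem_jacobson_bot] at hx
      have := Int.isUnit_iff.1 (hx 3)
      rw [Ideal.mem_bot]
      omega
    · haveI := hP.isMaximal h
      exact Ideal.jacobson_eq_self_of_isMaximal
  exact isJacobsonRing_of_finiteType (A := ℤ)

end Groth.Agent.S9612
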