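import Groth.Statements.S9613
import Mathlib.RingTheory.Jacobson.Ring
import Mathlib.RingTheory.Algebraic.Integral
import Mathlib.RingTheory.Localization.FractionRing
-- import your own Groth.Agent.* helpers here

set_option autoImplicit false
set_option linter.style.haveILetI false
universe u
open CAlg

namespace Groth.Agent.S9613

/-- Let R → K be an injective ring map into a field K which makes K an R-algebra of finite type. Then
for some nonzero f ∈ R the localization R_f is a field over which K is finite; here R_f is realised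
as the R-subalgebra of K that is a localization of R away from f. -/
theorem result {R K : Type u} [CommRing R] [Field K] [Algebra R K] (hinj : Function.Injective (algebraMap R K)) [Algebra.FiniteType R K] :
    ∃ f : R, f ≠ 0 ∧ ∃ Rf : Subalgebra R K, IsLocalization.Away f Rf ∧ IsField Rf ∧ Module.Finite Rf K := by
  classical
  haveI : IsDomain R := hinj.isDomain _
  obtain ⟨t, ht⟩ := Algebra.FiniteType.out (R := R) (A := K)
  letI : Algebra (FractionRing R) K := (IsFractionRing.lift hinj).toAlgebra
  haveI : IsScalarTower R (FractionRing R) K := IsScalarTower.of_algebraMap_eq fun x => by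
    exact (IsFractionRing.lift_algebraMap hinj x).symm
  haveI : Algebra.FiniteType (FractionRing R) K := Algebra.FiniteType.of_restrictScalars_finiteType R _ _
  haveI : Module.Finite (FractionRing R) K := finite_of_finite_type_of_isJacobsonRing _ _
  have halg : ∀ x : K, ∃ y ≠ (0 : R), IsIntegral R (y • x) := fun x =>
    ((IsFractionRing.isAlgebraic_iff R (FractionRing R) K).2
      (Algebra.IsIntegral.isIntegral (R := FractionRing R) x).isAlgebraic).exists_integral_multiple
  choose y hy0 hyint using halg
  let f : R := ∏ x ∈ t, y x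
  have hf : f ≠ 0 := Finset.prod_ne_zero_iff.2 fun x _ => hy0 x
  have hF : algebraMap R K f ≠ 0 := fun h => hf (hinj (by rw [h, map_zero]))
  let Rf : Subalgebra R K :=
    { carrier := {z | ∃ (n : ℕ) (r : R), z * algebraMap R K f ^ n = algebraMap R K r}
      mul_mem' := by
        rintro a b ⟨n, r, hr⟩ ⟨m, s, hs⟩
        exact ⟨n + m, r * s, by rw [map_mul, ← hr, ← hs, pow_add]; ring⟩
      add_mem' := by
        rintro a b ⟨n, r, hr⟩ ⟨m, s, hs⟩
        exact ⟨n + m, r * f ^ m + s * f ^ n, by rw [map_add, map_mul, map_mul, map_pow, map_pow, ← hr, ← hs, pow_add]; ring⟩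
      algebraMap_mem' := fun r => ⟨0, r, by simp⟩ }
  haveI hloc : IsLocalization.Away f Rf := by
    constructor
    constructor
    · rintro ⟨_, n, rfl⟩
      have hmem : (algebraMap R K f ^ n)⁻¹ ∈ Rf := ⟨n, 1, by rw [inv_mul_cancel₀ (pow_ne_zero _ hF), map_one]⟩
      refine IsUnit.of_mul_eq_one ⟨_, hmem⟩ ?_
      apply Subtype.ext
      show algebraMap R K (f ^ n) * (algebraMap R K f ^ n)⁻¹ = 1
      rw [map_pow, mul_inv_cancel₀ (pow_ne_zero _ hF)]
    · rintro ⟨z, n, r, hr⟩
      refine ⟨(r, ⟨f ^ n, n, rfl⟩), ?_⟩
      apply Subtype.ext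
      show z * algebraMap R K (f ^ n) = algebraMap R K r
      rw [map_pow, hr]
    · intro a b hab
      exact ⟨1, by rw [hinj (congrArg Subtype.val hab)]⟩
  have hint : ∀ x ∈ t, IsIntegral Rf x := by
    intro x hx
    have h1 : IsIntegral Rf (y x • x) := (hyint x).tower_top
    have hu : (algebraMap R K (y x))⁻¹ ∈ Rf := by
      refine ⟨1, ∏ z ∈ t.erase x, y z, ?_⟩
      rw [pow_one, show f = y x * ∏ z ∈ t.erase x, y z from (Finset.mul_prod_erase t y hx).symm, map_mul,
        ← mul_assoc, inv_mul_cancel₀ (fun h => hy0 x (hinj (by rw [h, map_zero]))), one_mul]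
    have h2 := h1.smul (⟨_, hu⟩ : Rf)
    rw [Algebra.smul_def (y x) x, Subalgebra.smul_def, smul_eq_mul, ← mul_assoc,
      inv_mul_cancel₀ (fun h => hy0 x (hinj (by rw [h, map_zero]))), one_mul] at h2
    exact h2
  have htop : Algebra.adjoin Rf (t : Set K) = ⊤ := by
    rw [eq_top_iff]
    rintro z -
    have hz : z ∈ Algebra.adjoin R (t : Set K) := ht ▸ Algebra.mem_top
    exact Algebra.adjoin_le (S := (Algebra.adjoin Rf (t : Set K)).restrictScalars R) Algebra.subset_adjoin hz
  have hfin : Module.Finite Rf K := by
    refine ⟨?_⟩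
    have := fg_adjoin_of_finite t.finite_toSet hint
    rwa [htop, Algebra.top_toSubmodule] at this
  haveI := hfin
  exact ⟨f, hf, Rf, hloc, isField_of_isIntegral_of_isField (R := Rf) (S := K) (FaithfulSMul.algebraMap_injective _ _)
    (Field.toIsField K), hfin⟩

end Groth.Agent.S9613
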