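import Groth.Statements.S9615
import Mathlib.RingTheory.Polynomial.IsIntegral
import Mathlib.RingTheory.GradedAlgebra.Basic
import Mathlib.Algebra.DirectSum.Ring
import Mathlib.RingTheory.PolynomialAlgebra
import Mathlib.Algebra.Polynomial.Lifts

set_option autoImplicit false
universe u
open CAlg

namespace Groth.Agent.S9615
variable {R : Type u} [CommRing R] (ℛ : ℕ → AddSubgroup R) [GradedRing ℛ]

/-- `r ↦ ∑ rᵢ Tⁱ`. -/
noncomputable def toT : R →+* Polynomial R :=
  (DirectSum.toSemiring (fun i => ((Polynomial.monomial i).toAddMonoidHom).comp (ℛ i).subtype)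
    (Polynomial.monomial_zero_one)
    (fun {i j} a b => (Polynomial.monomial_mul_monomial i j (a : R) (b : R)).symm)).comp
    (DirectSum.decomposeRingEquiv ℛ).toRingHom

theorem toT_of_mem {i : ℕ} {r : R} (hr : r ∈ ℛ i) : toT ℛ r = Polynomial.monomial i r := by
  have h : DirectSum.decomposeRingEquiv ℛ r = DirectSum.of (fun i => ℛ i) i ⟨r, hr⟩ :=
    DirectSum.decompose_coe ℛ (⟨r, hr⟩ : ℛ i)
  simp [toT, h, DirectSum.toSemiring_of]

theorem coeff_toT (r : R) (n : ℕ) : (toT ℛ r).coeff n = (DirectSum.decompose ℛ r n : R) := by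
  classical
  induction r using DirectSum.Decomposition.inductionOn ℛ with
  | zero => simp
  | add a b ha hb =>
    rw [map_add, Polynomial.coeff_add, ha, hb, DirectSum.decompose_add, DirectSum.add_apply, AddSubgroup.coe_add]
  | @homogeneous i m =>
    rw [toT_of_mem ℛ m.2, Polynomial.coeff_monomial, DirectSum.decompose_coe]
    by_cases h : i = n
    · subst h; rw [if_pos rfl, DirectSum.of_eq_same]
    · rw [if_neg h, DirectSum.of_eq_of_ne _ _ _ (Ne.symm h), ZeroMemClass.coe_zero]

/-- Let R → S be a homomorphism of ℕ-graded rings, i.e. the structure map carries each graded piece R_i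
into S_i. If an element s of S is integral over R, then each homogeneous component of s is integral
over R; so the integral closure of R in S is a graded subring of S. -/
theorem result {R S : Type u} [CommRing R] [CommRing S] [Algebra R S] (ℛ : ℕ → AddSubgroup R) [GradedRing ℛ] (𝒮 : ℕ → AddSubgroup S) [GradedRing 𝒮]
    (hmap : ∀ i : ℕ, ∀ r ∈ ℛ i, algebraMap R S r ∈ 𝒮 i) (s : S) (hs : IsIntegral R s) (i : ℕ) :
    IsIntegral R ((DirectSum.decompose 𝒮 s i : 𝒮 i) : S) := by
  have hcomm : ∀ r : R, toT 𝒮 (algebraMap R S r) = (toT ℛ r).map (algebraMap R S) := by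
    intro r
    induction r using DirectSum.Decomposition.inductionOn ℛ with
    | zero => simp
    | add a b ha hb => simp only [map_add, ha, hb, Polynomial.map_add]
    | @homogeneous j m => rw [toT_of_mem 𝒮 (hmap j m m.2), toT_of_mem ℛ m.2, Polynomial.map_monomial]
  obtain ⟨P, hP, he⟩ := hs
  letI := Polynomial.algebra R S
  have h2 : IsIntegral (Polynomial R) (toT 𝒮 s) := by
    refine ⟨P.map (toT ℛ), hP.map _, ?_⟩
    rw [Polynomial.eval₂_map, show (algebraMap (Polynomial R) (Polynomial S)).comp (toT ℛ) =
      (toT 𝒮).comp (algebraMap R S) from RingHom.ext fun r => by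
        rw [RingHom.comp_apply, RingHom.comp_apply, hcomm, Polynomial.algebraMap_def, Polynomial.coe_mapRingHom],
      ← Polynomial.hom_eval₂, he, map_zero]
  have h3 := Polynomial.isIntegral_iff_isIntegral_coeff.1 h2 i
  rwa [coeff_toT] at h3

end Groth.Agent.S9615
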