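import Groth.Statements.S9616
import Mathlib.RingTheory.GradedAlgebra.Homogeneous.Ideal
-- import your own Groth.Agent.* helpers here

set_option autoImplicit false
set_option linter.style.haveILetI false
universe u
open CAlg

namespace Groth.Agent.S9616

/-- Let S be an ℕ-graded ring, p_1, …, p_r homogeneous prime ideals of S and I ⊆ S₊ a homogeneous ideal
not contained in any p_i. Then there is a homogeneous element x ∈ I of positive degree with x ∉ p_i
for all i. -/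
theorem result {R S : Type u} [CommRing R] [CommRing S] [Algebra R S] (𝒜 : ℕ → Submodule R S) [GradedAlgebra 𝒜]
    {r : ℕ} (p : Fin r → HomogeneousIdeal 𝒜) (hp : ∀ i, (p i).toIdeal.IsPrime) (I : HomogeneousIdeal 𝒜) (hI : I ≤ HomogeneousIdeal.irrelevant 𝒜) (h : ∀ i, ¬ I ≤ p i) :
    ∃ x : S, ∃ d : ℕ, 0 < d ∧ x ∈ 𝒜 d ∧ x ∈ I ∧ ∀ i, x ∉ p i := by
  classical
  have hcomp : ∀ (J : HomogeneousIdeal 𝒜) (q : Ideal S), ¬ J.toIdeal ≤ q →
      ∃ (d : ℕ) (u : S), u ∈ 𝒜 d ∧ u ∈ J ∧ u ∉ q := by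
    intro J q hJ
    obtain ⟨a, ha, haq⟩ := SetLike.not_le_iff_exists.1 hJ
    rw [← DirectSum.sum_support_decompose 𝒜 a] at haq
    obtain ⟨d, -, hd⟩ : ∃ d ∈ (DirectSum.decompose 𝒜 a).support, (DirectSum.decompose 𝒜 a d : S) ∉ q := by
      by_contra hcon
      push_neg at hcon
      exact haq (q.sum_mem hcon)
    exact ⟨d, _, SetLike.coe_mem _, J.isHomogeneous d ha, hd⟩
  have hbase : ∀ i, ∃ (d : ℕ) (u : S), 0 < d ∧ u ∈ 𝒜 d ∧ u ∈ I ∧ u ∉ p i := by
    intro i
    obtain ⟨d, u, hu, huI, hup⟩ := hcomp I (p i).toIdeal (h i)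
    refine ⟨d, u, Nat.pos_of_ne_zero ?_, hu, huI, hup⟩
    rintro rfl
    have h0 : GradedRing.proj 𝒜 0 u = 0 := (HomogeneousIdeal.mem_irrelevant_iff 𝒜 u).1 (hI huI)
    rw [GradedRing.proj_apply, DirectSum.decompose_of_mem_same 𝒜 hu] at h0
    exact hup (h0 ▸ (p i).toIdeal.zero_mem)
  suffices ∀ s : Finset (Fin r), ∃ x : S, ∃ d : ℕ, 0 < d ∧ x ∈ 𝒜 d ∧ x ∈ I ∧ ∀ i ∈ s, x ∉ p i by
    obtain ⟨x, d, h1, h2, h3, h4⟩ := this Finset.univ
    exact ⟨x, d, h1, h2, h3, fun i => h4 i (Finset.mem_univ i)⟩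
  intro s
  induction s using Finset.strongInduction with
  | H s ih =>
    by_cases hs : ∃ i ∈ s, ∃ j ∈ s, i ≠ j ∧ p i ≤ p j
    · obtain ⟨i, hi, j, hj, hij, hle⟩ := hs
      obtain ⟨x, d, h1, h2, h3, h4⟩ := ih (s.erase i) (Finset.erase_ssubset hi)
      refine ⟨x, d, h1, h2, h3, fun k hk => ?_⟩
      by_cases hki : k = i
      · subst hki
        exact fun hx => h4 j (Finset.mem_erase.2 ⟨fun e => hij e.symm, hj⟩) (hle hx)
      · exact h4 k (Finset.mem_erase.2 ⟨hki, hk⟩)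
    · push_neg at hs
      have hy : ∀ i ∈ s, ∃ (d : ℕ) (y : S), 0 < d ∧ y ∈ 𝒜 d ∧ y ∈ I ∧ y ∉ p i ∧ ∀ j ∈ s, j ≠ i → y ∈ p j := by
        intro i hi
        obtain ⟨d, u, hd, hu, huI, hup⟩ := hbase i
        suffices ∀ T : Finset (Fin r), T ⊆ s.erase i → ∃ (d : ℕ) (y : S), 0 < d ∧ y ∈ 𝒜 d ∧ y ∈ I ∧ y ∉ p i ∧ ∀ j ∈ T, y ∈ p j by
          obtain ⟨d, y, h1, h2, h3, h4, h5⟩ := this _ subset_rfl
          exact ⟨d, y, h1, h2, h3, h4, fun j hj hji => h5 j (Finset.mem_erase.2 ⟨hji, hj⟩)⟩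
        intro T hT
        induction T using Finset.induction_on with
        | empty => exact ⟨d, u, hd, hu, huI, hup, by simp⟩
        | insert j T _ ihT =>
          obtain ⟨e, y, h1, h2, h3, h4, h5⟩ := ihT (fun a ha => hT (Finset.mem_insert_of_mem ha))
          obtain ⟨hji, hjs⟩ := Finset.mem_erase.1 (hT (Finset.mem_insert_self j T))
          obtain ⟨g, w, hw, hwj, hwi⟩ := hcomp (p j) (p i).toIdeal (fun hle => hs j hjs i hi hji hle)
          refine ⟨e + g, y * w, by omega, SetLike.mul_mem_graded h2 hw, I.toIdeal.mul_mem_right _ h3,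
            fun hyw => ((hp i).mem_or_mem hyw).elim h4 hwi, fun k hk => ?_⟩
          rcases Finset.mem_insert.1 hk with rfl | hk
          · exact (p k).toIdeal.mul_mem_left _ hwj
          · exact (p k).toIdeal.mul_mem_right _ (h5 k hk)
      choose d y hd hyd hyI hyn hym using hy
      by_cases hse : s.Nonempty
      swap
      · rw [Finset.not_nonempty_iff_eq_empty] at hse
        subst hse
        exact ⟨0, 1, one_pos, Submodule.zero_mem _, I.toIdeal.zero_mem, by simp⟩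
      let D := ∏ i ∈ s.attach, d i i.2
      have hD : 0 < D := Finset.prod_pos fun i _ => hd i i.2
      let e : {x // x ∈ s} → ℕ := fun i => ∏ k ∈ s.attach.erase i, d k k.2
      have he : ∀ i : {x // x ∈ s}, e i * d i i.2 = D := fun i =>
        Finset.prod_erase_mul s.attach (fun k : {x // x ∈ s} => d k k.2) (Finset.mem_attach _ i)
      have hepos : ∀ i, 0 < e i := fun i => Finset.prod_pos fun k _ => hd k k.2
      refine ⟨∑ i ∈ s.attach, y i i.2 ^ e i, D, hD, Submodule.sum_mem _ fun i _ => ?_,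
        I.toIdeal.sum_mem fun i _ => Ideal.pow_mem_of_mem _ (hyI i i.2) _ (hepos i), fun i hi hx => ?_⟩
      · rw [← he i, ← smul_eq_mul]
        exact SetLike.pow_mem_graded _ (hyd i i.2)
      · have h1 : ∑ k ∈ s.attach.erase ⟨i, hi⟩, y k k.2 ^ e k ∈ (p i).toIdeal := by
          refine Ideal.sum_mem _ fun k hk => Ideal.pow_mem_of_mem _ (hym k k.2 i hi ?_) _ (hepos k)
          exact fun hik => (Finset.mem_erase.1 hk).1 (Subtype.ext hik.symm)
        rw [← Finset.add_sum_erase _ _ (Finset.mem_attach _ ⟨i, hi⟩)] at hx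
        exact hyn i hi ((hp i).mem_of_pow_mem _ ((Submodule.add_mem_iff_left _ h1).1 hx))

end Groth.Agent.S9616
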