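import Groth.Statements.S9617
import Groth.Agent.GrNakLib.Basic
import Mathlib.RingTheory.FiniteType
import Mathlib.RingTheory.Finiteness.Lattice
-- import your own Groth.Agent.* helpers here

set_option autoImplicit false
set_option linter.style.haveILetI false
universe u
open CAlg

namespace Groth.Agent.S9617

/-- Let S be an ℕ-graded ring, presented as a graded algebra over a ring A mapping onto S₀, such that S
is of finite type over A, i.e. over S₀. If M is a finitely generated graded S-module, graded in
nonnegative degrees (the source allows all integer degrees), then each graded piece M_n is a finite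
module over A, i.e. over S₀. -/
theorem result {A S : Type u} [CommRing A] [CommRing S] [Algebra A S] (𝒜 : ℕ → Submodule A S) [GradedAlgebra 𝒜]
    (h0 : ∀ s ∈ 𝒜 0, s ∈ Set.range (algebraMap A S)) [Algebra.FiniteType A S]
    (M : Type u) [AddCommGroup M] [Module A M] [Module S M] [IsScalarTower A S M] [Module.Finite S M] (ℳ : ℕ → Submodule A M) [DirectSum.Decomposition ℳ] [SetLike.GradedSMul 𝒜 ℳ] (n : ℕ) :
    Module.Finite A (ℳ n) := by
  classical
  haveI : SetLike.GradedSMul 𝒜 𝒜 := ⟨fun i j a b ha hb => SetLike.mul_mem_graded ha hb⟩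
  obtain ⟨G, hG⟩ := Algebra.FiniteType.out (R := A) (A := S)
  let F : Finset (ℕ × S) := G.biUnion fun g => (DirectSum.decompose 𝒜 g).support.image fun d => (d, (DirectSum.decompose 𝒜 g d : S))
  have hF : ∀ x ∈ F, x.2 ∈ 𝒜 x.1 := by
    intro x hx
    simp only [F, Finset.mem_biUnion, Finset.mem_image] at hx
    obtain ⟨g, -, d, -, rfl⟩ := hx
    exact SetLike.coe_mem _
  let Q : ℕ → Submodule A S := fun i => (F.filter fun x => 1 ≤ x.1 ∧ x.1 ≤ i).sup
    fun x => Submodule.map (LinearMap.mulLeft A x.2) (𝒜 (i - x.1))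
  have hQmul : ∀ a b, ∀ u ∈ Q a, ∀ v ∈ 𝒜 b, u * v ∈ Q (a + b) := by
    intro a b u hu v hv
    suffices Q a ≤ Submodule.comap (LinearMap.mulRight A v) (Q (a + b)) from this hu
    refine Finset.sup_le fun x hx => ?_
    rintro _ ⟨w, hw, rfl⟩
    obtain ⟨hxF, hx1, hx2⟩ := Finset.mem_filter.1 hx
    refine Finset.le_sup (f := fun x : ℕ × S => Submodule.map (LinearMap.mulLeft A x.2) (𝒜 (a + b - x.1)))
      (Finset.mem_filter.2 ⟨hxF, hx1, by omega⟩) ⟨w * v, ?_, ?_⟩
    · have := SetLike.mul_mem_graded hw hv
      rwa [show a - x.1 + b = a + b - x.1 by omega] at this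
    · simp [mul_assoc]
  have hP : ∀ c : S, ∀ i, 0 < i → (DirectSum.decompose 𝒜 c i : S) ∈ Q i := by
    intro c
    have hc : c ∈ Algebra.adjoin A (G : Set S) := hG ▸ Algebra.mem_top
    induction hc using Algebra.adjoin_induction with
    | mem g hg =>
      intro i hi
      by_cases hz : i ∈ (DirectSum.decompose 𝒜 g).support
      · refine Finset.le_sup (f := fun x : ℕ × S => Submodule.map (LinearMap.mulLeft A x.2) (𝒜 (i - x.1)))
          (b := (i, (DirectSum.decompose 𝒜 g i : S))) (Finset.mem_filter.2 ⟨?_, hi, le_rfl⟩) ⟨1, ?_, ?_⟩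
        · exact Finset.mem_biUnion.2 ⟨g, hg, Finset.mem_image.2 ⟨i, hz, rfl⟩⟩
        · rw [Nat.sub_self]
          exact SetLike.one_mem_graded 𝒜
        · simp
      · rw [DFinsupp.notMem_support_iff.1 hz]
        exact zero_mem _
    | algebraMap r =>
      intro i hi
      rw [DirectSum.decompose_of_mem_ne 𝒜 (SetLike.algebraMap_mem_graded 𝒜 r) hi.ne]
      exact zero_mem _
    | add a b _ _ ha hb =>
      intro i hi
      rw [DirectSum.decompose_add, DirectSum.add_apply, Submodule.coe_add]
      exact add_mem (ha i hi) (hb i hi)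
    | mul a b _ _ ha hb =>
      intro i hi
      refine Groth.Agent.GrNakLib.decompose_smul_mem 𝒜 𝒜 (Q i) i a b fun p q hpq => ?_
      rcases Nat.eq_zero_or_pos p with rfl | hp
      · obtain ⟨r, hr⟩ := h0 _ (SetLike.coe_mem (DirectSum.decompose 𝒜 a 0))
        rw [← hr, smul_eq_mul, ← Algebra.smul_def]
        refine Submodule.smul_mem _ _ ?_
        rw [zero_add] at hpq
        subst hpq
        exact hb q hi
      · subst hpq
        exact hQmul p q _ (ha p hp) _ (SetLike.coe_mem _)
  have hfg : ∀ i, (𝒜 i).FG := by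
    intro i
    induction i using Nat.strong_induction_on with
    | _ i ih =>
      rcases Nat.eq_zero_or_pos i with rfl | hi
      · have e : 𝒜 0 = Submodule.span A {(1 : S)} := by
          refine le_antisymm (fun s hs => ?_) (Submodule.span_le.2 (Set.singleton_subset_iff.2 (SetLike.one_mem_graded 𝒜)))
          obtain ⟨r, rfl⟩ := h0 s hs
          exact Submodule.mem_span_singleton.2 ⟨r, by rw [Algebra.smul_def, mul_one]⟩
        rw [e]
        exact Submodule.fg_span_singleton _
      · have e : 𝒜 i = Q i := by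
          refine le_antisymm (fun s hs => ?_) (Finset.sup_le fun x hx => ?_)
          · have := hP s i hi
            rwa [DirectSum.decompose_of_mem_same 𝒜 hs] at this
          · rintro _ ⟨w, hw, rfl⟩
            obtain ⟨hxF, hx1, hx2⟩ := Finset.mem_filter.1 hx
            have := SetLike.mul_mem_graded (hF x hxF) hw
            rwa [show x.1 + (i - x.1) = i by omega] at this
        rw [e]
        exact Submodule.fg_finset_sup _ _ fun x hx => (ih _ (by
          obtain ⟨-, hx1, -⟩ := Finset.mem_filter.1 hx
          omega)).map _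
  obtain ⟨FM, hFM, hspan⟩ := Groth.Agent.GrNakLib.exists_homogeneous_generators (S := S) ℳ
  let T : ℕ → Submodule A M := fun d => (FM.filter fun x => x.1 ≤ d).sup
    fun x => Submodule.map ((LinearMap.toSpanSingleton S M x.2).restrictScalars A) (𝒜 (d - x.1))
  have hTsmul : ∀ i d, ∀ c ∈ 𝒜 i, ∀ u ∈ T d, c • u ∈ T (i + d) := by
    intro i d c hc u hu
    suffices T d ≤ Submodule.comap ((LinearMap.lsmul S M c).restrictScalars A) (T (i + d)) from this hu
    refine Finset.sup_le fun x hx => ?_
    rintro _ ⟨w, hw, rfl⟩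
    obtain ⟨hxF, hx1⟩ := Finset.mem_filter.1 hx
    refine Finset.le_sup (f := fun x : ℕ × M => Submodule.map ((LinearMap.toSpanSingleton S M x.2).restrictScalars A) (𝒜 (i + d - x.1)))
      (Finset.mem_filter.2 ⟨hxF, by omega⟩) ⟨c * w, ?_, ?_⟩
    · have := SetLike.mul_mem_graded hc hw
      rwa [show i + (d - x.1) = i + d - x.1 by omega] at this
    · exact mul_smul c w x.2
  have hT : ∀ y : M, ∀ d, (DirectSum.decompose ℳ y d : M) ∈ T d := by
    intro y
    have hy : y ∈ Submodule.span S (Prod.snd '' (FM : Set (ℕ × M))) := hspan ▸ Submodule.mem_top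
    induction hy using Submodule.span_induction with
    | mem z hz =>
      intro d
      obtain ⟨x, hx, rfl⟩ := hz
      by_cases hd : x.1 = d
      · subst hd
        rw [DirectSum.decompose_of_mem_same ℳ (hFM x hx)]
        refine Finset.le_sup (f := fun z : ℕ × M => Submodule.map ((LinearMap.toSpanSingleton S M z.2).restrictScalars A) (𝒜 (x.1 - z.1)))
          (Finset.mem_filter.2 ⟨hx, Nat.le_refl x.1⟩) ⟨1, ?_, ?_⟩
        · rw [Nat.sub_self]
          exact SetLike.one_mem_graded 𝒜
        · simp
      · rw [DirectSum.decompose_of_mem_ne ℳ (hFM x hx) hd]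
        exact zero_mem _
    | zero => intro d; simp
    | add a b _ _ ha hb =>
      intro d
      rw [DirectSum.decompose_add, DirectSum.add_apply, Submodule.coe_add]
      exact add_mem (ha d) (hb d)
    | smul c a _ ha =>
      intro d
      refine Groth.Agent.GrNakLib.decompose_smul_mem 𝒜 ℳ (T d) d c a fun i j hij => ?_
      subst hij
      exact hTsmul i j _ (SetLike.coe_mem _) _ (ha j)
  have e : ℳ n = T n := by
    refine le_antisymm (fun y hy => ?_) (Finset.sup_le fun x hx => ?_)
    · have := hT y n
      rwa [DirectSum.decompose_of_mem_same ℳ hy] at this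
    · rintro _ ⟨w, hw, rfl⟩
      obtain ⟨hxF, hx1⟩ := Finset.mem_filter.1 hx
      have := SetLike.GradedSMul.smul_mem (A := 𝒜) (B := ℳ) hw (hFM x hxF)
      rwa [show (n - x.1) +ᵥ x.1 = n by show n - x.1 + x.1 = n; omega] at this
  rw [Module.Finite.iff_fg, e]
  exact Submodule.fg_finset_sup _ _ fun x _ => (hfg _).map _

end Groth.Agent.S9617
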