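import Groth.Statements.S9621
-- import your own Groth.Agent.* helpers here

set_option autoImplicit false
set_option linter.style.haveILetI false
universe u
open CAlg

namespace Groth.Agent.S9621

/-- Let R be a ring, p a minimal prime of R and W a quasi-compact open subset of Spec R not containing
p. Then there is an f ∈ R, f ∉ p, whose basic open D(f) is disjoint from W. -/
theorem result {R : Type u} [CommRing R] (p : PrimeSpectrum R) (hp : p.asIdeal ∈ minimalPrimes R) (W : Set (PrimeSpectrum R)) (hWo : IsOpen W) (hWc : IsCompact W) (hpW : p ∉ W) :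
    ∃ f : R, f ∉ p.asIdeal ∧ Disjoint (PrimeSpectrum.basicOpen f : Set (PrimeSpectrum R)) W := by
  classical
  obtain ⟨s, hs⟩ := (PrimeSpectrum.isCompact_isOpen_iff (s := W)).1 ⟨hWc, hWo⟩
  have hg : ∀ g ∈ s, ∃ t, t ∉ p.asIdeal ∧ IsNilpotent (t * g) := by
    intro g hgs
    have hgp : g ∈ p.asIdeal := by
      by_contra hc
      exact hpW (hs ▸ fun hz => hc (hz hgs))
    have h1 : g ∈ ⋃ q ∈ (⊥ : Ideal R).minimalPrimes, (q : Set R) := Set.mem_biUnion hp hgp
    haveI := p.2
    let L := Localization.AtPrime p.asIdeal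
    have hn : IsNilpotent (algebraMap R L g) := by
      rw [← mem_nilradical, nilradical, Ideal.radical_eq_sInf, Submodule.mem_sInf]
      rintro Q ⟨-, hQ⟩
      have h2 := (IsLocalization.isPrime_iff_isPrime_disjoint p.asIdeal.primeCompl L Q).1 hQ
      have h3 : Ideal.under R Q ≤ p.asIdeal := fun x hx => by
        by_contra hc
        exact Set.disjoint_left.1 h2.2 hc hx
      exact hp.2 ⟨h2.1, bot_le⟩ h3 hgp
    obtain ⟨n, hn⟩ := hn
    rw [← map_pow, IsLocalization.map_eq_zero_iff p.asIdeal.primeCompl] at hn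
    obtain ⟨⟨t, ht⟩, htn⟩ := hn
    refine ⟨t, ht, n + 1, ?_⟩
    rw [mul_pow, pow_succ t, pow_succ g]
    linear_combination (t ^ n * g) * htn
  choose t ht htn using hg
  refine ⟨∏ g ∈ s.attach, t g g.2, fun h => ?_, ?_⟩
  · obtain ⟨g, -, hg⟩ := (Ideal.IsPrime.prod_mem_iff (hp := p.2)).1 h
    exact ht g g.2 hg
  · rw [Set.disjoint_left]
    intro q hq hqW
    rw [← hs, Set.mem_compl_iff, PrimeSpectrum.mem_zeroLocus, Set.not_subset] at hqW
    obtain ⟨g, hgs, hgq⟩ := hqW
    obtain ⟨n, hn⟩ := htn g hgs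
    have : t g hgs * g ∈ q.asIdeal := q.2.mem_of_pow_mem n (hn ▸ q.asIdeal.zero_mem)
    rcases q.2.mem_or_mem this with h | h
    · refine (PrimeSpectrum.mem_basicOpen _ q).1 hq ?_
      exact Ideal.mem_of_dvd _ (Finset.dvd_prod_of_mem (fun g : {x // x ∈ s} => t g g.2) (Finset.mem_attach _ ⟨g, hgs⟩)) h
    · exact hgq h

end Groth.Agent.S9621
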