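import Groth.Statements.S9622
import Mathlib.RingTheory.FiniteType
import Mathlib.RingTheory.IntegralClosure.IsIntegralClosure.Basic
import Mathlib.RingTheory.Ideal.Maps
import Mathlib.RingTheory.Artinian.Ring
import Mathlib.RingTheory.HopkinsLevitzki
-- import your own Groth.Agent.* helpers here

set_option autoImplicit false
set_option linter.style.haveILetI false
universe u
open CAlg

namespace Groth.Agent.S9622

/-- Let R → S be a ring map whose target S is a local Artinian ring, and write m for the maximal ideal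
of S. Then S is a finite R-module exactly when S/m is, and S is an R-algebra of finite type exactly
when S/m is. -/
theorem result {R S : Type u} [CommRing R] [CommRing S] [Algebra R S] [IsArtinianRing S] [IsLocalRing S] :
    (Module.Finite R S ↔ Module.Finite R (S ⧸ IsLocalRing.maximalIdeal S)) ∧
      (Algebra.FiniteType R S ↔ Algebra.FiniteType R (S ⧸ IsLocalRing.maximalIdeal S)) := by
  classical
  set m := IsLocalRing.maximalIdeal S with hm
  obtain ⟨N, hN⟩ : ∃ N, m ^ N = ⊥ := by
    obtain ⟨N, hN⟩ := IsArtinianRing.isNilpotent_jacobson_bot (R := S)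
    exact ⟨N, by rw [hm, ← IsLocalRing.jacobson_eq_maximalIdeal ⊥ bot_ne_top]; exact hN⟩
  have hft : Algebra.FiniteType R (S ⧸ m) → Algebra.FiniteType R S := by
    rintro ⟨t, ht⟩
    obtain ⟨G, hG⟩ := (IsNoetherian.noetherian m : m.FG)
    choose lift hlift using fun q : S ⧸ m => Ideal.Quotient.mk_surjective q
    let B := Algebra.adjoin R ((t.image lift ∪ G : Finset S) : Set S)
    have h0 : ∀ s : S, ∃ b ∈ B, s - b ∈ m := by
      intro s
      have hle : Algebra.adjoin R (t : Set (S ⧸ m)) ≤ B.map (Ideal.Quotient.mkₐ R m) := by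
        refine Algebra.adjoin_le fun q hq => ⟨lift q, Algebra.subset_adjoin ?_, hlift q⟩
        simp only [Finset.coe_union, Finset.coe_image]
        exact Or.inl ⟨q, hq, rfl⟩
      rw [ht] at hle
      obtain ⟨b, hb, hbs⟩ := hle (Algebra.mem_top : Ideal.Quotient.mk m s ∈ (⊤ : Subalgebra R (S ⧸ m)))
      exact ⟨b, hb, Ideal.Quotient.eq.1 hbs.symm⟩
    have h1 : ∀ x ∈ m, ∃ b ∈ B, x - b ∈ m ^ 2 := by
      intro x hx
      rw [← hG] at hx
      induction hx using Submodule.span_induction with
      | mem g hg => exact ⟨g, Algebra.subset_adjoin (by simp [hg]), by simp⟩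
      | zero => exact ⟨0, zero_mem _, by simp⟩
      | add a b _ _ ha hb =>
        obtain ⟨a', ha', ha''⟩ := ha
        obtain ⟨b', hb', hb''⟩ := hb
        exact ⟨a' + b', add_mem ha' hb', by rw [add_sub_add_comm]; exact add_mem ha'' hb''⟩
      | smul c a hspan ha =>
        obtain ⟨a', ha', ha''⟩ := ha
        obtain ⟨c', hc', hc''⟩ := h0 c
        refine ⟨c' * a', mul_mem hc' ha', ?_⟩
        have e : c • a - c' * a' = (c - c') * a + c' * (a - a') := by rw [smul_eq_mul]; ring
        rw [e]
        refine add_mem ?_ (Ideal.mul_mem_left _ _ ha'')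
        rw [pow_two]
        exact Ideal.mul_mem_mul hc'' (hG ▸ hspan)
    have h2 : ∀ i, ∀ x ∈ m ^ i, ∃ b ∈ B, x - b ∈ m ^ (i + 1) := by
      intro i
      induction i with
      | zero =>
        intro x _
        obtain ⟨b, hb, hb'⟩ := h0 x
        exact ⟨b, hb, by simpa using hb'⟩
      | succ i ih =>
        intro x hx
        rw [pow_succ] at hx
        induction hx using Submodule.mul_induction_on' with
        | mem_mul_mem a ha c hc =>
          obtain ⟨a', ha', ha''⟩ := ih a ha
          obtain ⟨c', hc', hc''⟩ := h1 c hc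
          refine ⟨a' * c', mul_mem ha' hc', ?_⟩
          have e : a * c - a' * c' = (a - a') * c + a * (c - c') - (a - a') * (c - c') := by ring
          rw [e]
          refine sub_mem (add_mem ?_ ?_) ?_
          · rw [pow_succ]; exact Ideal.mul_mem_mul ha'' hc
          · rw [show i + 1 + 1 = i + 2 by omega, pow_add]; exact Ideal.mul_mem_mul ha hc''
          · refine Ideal.pow_le_pow_right (show i + 1 + 1 ≤ (i + 1) + 2 by omega) ?_
            rw [pow_add]; exact Ideal.mul_mem_mul ha'' hc''
        | add a _ c _ ha hc =>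
          obtain ⟨a', ha', ha''⟩ := ha
          obtain ⟨c', hc', hc''⟩ := hc
          exact ⟨a' + c', add_mem ha' hc', by rw [add_sub_add_comm]; exact add_mem ha'' hc''⟩
    have h3 : ∀ i, ∀ x : S, ∃ b ∈ B, x - b ∈ m ^ i := by
      intro i
      induction i with
      | zero => exact fun x => ⟨0, zero_mem _, by simp⟩
      | succ i ih =>
        intro x
        obtain ⟨b, hb, hb'⟩ := ih x
        obtain ⟨c, hc, hc'⟩ := h2 i _ hb'
        exact ⟨b + c, add_mem hb hc, by rwa [← sub_sub]⟩
    refine ⟨t.image lift ∪ G, eq_top_iff.2 fun x _ => ?_⟩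
    obtain ⟨b, hb, hb'⟩ := h3 N x
    rw [hN, Ideal.mem_bot, sub_eq_zero] at hb'
    exact hb' ▸ hb
  refine ⟨⟨fun h => Module.Finite.of_surjective (Ideal.Quotient.mkₐ R m).toLinearMap Ideal.Quotient.mk_surjective, fun h => ?_⟩,
    fun h => h.of_surjective (Ideal.Quotient.mkₐ R m) Ideal.Quotient.mk_surjective, hft⟩
  haveI : Algebra.FiniteType R S := hft inferInstance
  haveI : Algebra.IsIntegral R S := by
    refine ⟨fun s => ?_⟩
    obtain ⟨q, hq, hq0⟩ := Algebra.IsIntegral.isIntegral (R := R) (Ideal.Quotient.mk m s)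
    refine ⟨q ^ N, hq.pow N, ?_⟩
    have hs : Polynomial.aeval s q ∈ m := by
      rw [← Ideal.Quotient.eq_zero_iff_mem, ← Ideal.Quotient.mkₐ_eq_mk R, ← Polynomial.aeval_algHom_apply]
      exact hq0
    show Polynomial.aeval s (q ^ N) = 0
    rw [map_pow, ← Ideal.mem_bot, ← hN]
    exact Ideal.pow_mem_pow hs N
  exact Algebra.IsIntegral.finite

end Groth.Agent.S9622
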