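import Groth.Statements.S9623
import Mathlib
import Groth.Agent.SweepSix.GeomConn

set_option autoImplicit false
universe u
open CAlg

namespace Groth.Agent.S9623

open AlgebraicGeometry CategoryTheory CategoryTheory.Limits

open TensorProduct in
/-- Let k be a separably closed field and R, S two k-algebras with connected (nonempty) spectra. Then
Spec(R ⊗_k S) is connected. -/
theorem result {k R S : Type u} [Field k] [IsSepClosed k] [CommRing R] [CommRing S] [Algebra k R] [Algebra k S]
    [ConnectedSpace (PrimeSpectrum R)] [ConnectedSpace (PrimeSpectrum S)] :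
    ConnectedSpace (PrimeSpectrum (R ⊗[k] S)) := by
  let f := Spec.map (CommRingCat.ofHom (algebraMap k R))
  let g := Spec.map (CommRingCat.ofHom (algebraMap k S))
  haveI : ConnectedSpace ↥(Spec (CommRingCat.of R)) := ‹ConnectedSpace (PrimeSpectrum R)›
  haveI : ConnectedSpace ↥(Spec (CommRingCat.of S)) := ‹ConnectedSpace (PrimeSpectrum S)›
  obtain ⟨x⟩ := (inferInstance : Nonempty ↥(Spec (CommRingCat.of R)))
  let φ : k →+* (Spec (CommRingCat.of R)).residueField x :=
    (Spec.preimage ((Spec (CommRingCat.of R)).fromSpecResidueField x ≫ f)).hom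
  haveI hgc : GeometricallyConnected f := by
    letI := φ.toAlgebra
    refine SweepSix.GeomConn.gc_of_point f x φ (Spec.map_preimage _) ?_
    exact IntermediateField.eq_bot_of_isSepClosed_of_isSeparable _
  haveI : UniversallyOpen f := inferInstance
  have hc : ConnectedSpace ↥(pullback f g) := inferInstance
  exact ((pullbackSpecIso k R S).hom.homeomorph.connectedSpace_iff).mp hc

end Groth.Agent.S9623
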