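import Groth.Statements.S9625
import Mathlib.RingTheory.Spectrum.Prime.Topology
import Mathlib.RingTheory.Flat.Basic
import Mathlib.RingTheory.TensorProduct.Maps
-- import your own Groth.Agent.* helpers here

set_option autoImplicit false
set_option linter.style.haveILetI false
universe u
open CAlg

namespace Groth.Agent.S9625

open TensorProduct in
/-- Let k be a field and S a k-algebra such that Spec(k' ⊗_k S) is irreducible for every field extension
k'/k. Then every k-subalgebra of S has the same property. Here the test fields range over field
extensions in the universe of k; this is equivalent to the unrestricted notion, since an algebraic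
closure of k suffices as a test. -/
theorem result {k S : Type u} [Field k] [CommRing S] [Algebra k S]
    (hS : ∀ (k' : Type u) [Field k'] [Algebra k k'], IrreducibleSpace (PrimeSpectrum (k' ⊗[k] S))) (S' : Subalgebra k S) :
    ∀ (k' : Type u) [Field k'] [Algebra k k'], IrreducibleSpace (PrimeSpectrum (k' ⊗[k] S')) := by
  intro k' _ _
  haveI := hS k'
  let f : k' ⊗[k] S' →ₐ[k] k' ⊗[k] S := Algebra.TensorProduct.map (AlgHom.id k k') S'.val
  have hf : Function.Injective f := Module.Flat.lTensor_preserves_injective_linearMap (M := k') S'.val.toLinearMap Subtype.val_injective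
  have hd : DenseRange (PrimeSpectrum.comap f.toRingHom) := by
    rw [PrimeSpectrum.denseRange_comap_iff_ker_le_nilRadical,
      (RingHom.injective_iff_ker_eq_bot f.toRingHom).1 hf]
    exact bot_le
  haveI : Nonempty (PrimeSpectrum (k' ⊗[k] S')) := ⟨PrimeSpectrum.comap f.toRingHom (Classical.arbitrary _)⟩
  have h1 : IsPreirreducible (Set.range (PrimeSpectrum.comap f.toRingHom)) := by
    rw [← Set.image_univ]
    exact PreirreducibleSpace.isPreirreducible_univ.image _ (PrimeSpectrum.continuous_comap _).continuousOn
  have h2 := h1.closure
  rw [hd.closure_range] at h2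
  haveI : PreirreducibleSpace (PrimeSpectrum (k' ⊗[k] S')) := ⟨h2⟩
  exact { toNonempty := inferInstance }

end Groth.Agent.S9625
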