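import Groth.Statements.S9626
import Mathlib
import Groth.Agent.GeomIrrLib.Basic

set_option autoImplicit false
universe u
open CAlg

namespace Groth.Agent.S9626

open CategoryTheory CategoryTheory.Limits AlgebraicGeometry TensorProduct

theorem gi_tensor (k R S : Type u) [Field k] [CommRing R] [CommRing S] [Algebra k R] [Algebra k S]
    [GeometricallyIrreducible (Spec.map (CommRingCat.ofHom (algebraMap k S)))] :
    GeometricallyIrreducible (Spec.map (CommRingCat.ofHom (algebraMap R (R ⊗[k] S)))) := by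
  rw [show Spec.map (CommRingCat.ofHom (algebraMap R (R ⊗[k] S))) =
    (pullbackSpecIso k R S).inv ≫ pullback.fst _ _ from (pullbackSpecIso_inv_fst k R S).symm,
    MorphismProperty.cancel_left_of_respectsIso @GeometricallyIrreducible]
  infer_instance

open TensorProduct in
/-- Let k be a field, S a k-algebra with Spec(k' ⊗_k S) irreducible for every field extension k'/k, and
R any k-algebra. Then Spec(R ⊗_k S) → Spec(R) induces a bijection on irreducible components: taking
inverse images along R → R ⊗_k S maps the set of minimal primes of R ⊗_k S bijectively onto the set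
of minimal primes of R. Here the test fields range over field extensions in the universe of k; this
is equivalent to the unrestricted notion, since an algebraic closure of k suffices as a test. -/
theorem result {k R S : Type u} [Field k] [CommRing R] [CommRing S] [Algebra k R] [Algebra k S]
    (hS : ∀ (k' : Type u) [Field k'] [Algebra k k'], IrreducibleSpace (PrimeSpectrum (k' ⊗[k] S))) :
    Set.BijOn (Ideal.comap (algebraMap R (R ⊗[k] S))) (minimalPrimes (R ⊗[k] S)) (minimalPrimes R) := by
  haveI : GeometricallyIrreducible (Spec.map (CommRingCat.ofHom (algebraMap k S))) := GeomIrrLib.gi_iff_tensor.2 hS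
  haveI := gi_tensor k R S
  let f := Spec.map (CommRingCat.ofHom (algebraMap R (R ⊗[k] S)))
  have ho : IsOpenMap f := PrimeSpectrum.isOpenMap_comap_algebraMap_tensorProduct_of_field
  have hmaps : ∀ P ∈ minimalPrimes (R ⊗[k] S), P.comap (algebraMap R (R ⊗[k] S)) ∈ minimalPrimes R := by
    intro P hP
    haveI : P.IsPrime := hP.1.1
    obtain ⟨q, hq, hqle⟩ := Ideal.exists_minimalPrimes_le (bot_le : ⊥ ≤ P.comap (algebraMap R (R ⊗[k] S)))
    haveI : q.IsPrime := hq.1.1
    haveI : P.LiesOver (P.comap (algebraMap R (R ⊗[k] S))) := ⟨rfl⟩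
    obtain ⟨Q, hQP, hQprime, hQq⟩ := Ideal.exists_ideal_le_liesOver_of_le (p := q)
      (q := P.comap (algebraMap R (R ⊗[k] S))) P hqle
    have hQ : Q = P := le_antisymm hQP (hP.2 ⟨hQprime, bot_le⟩ hQP)
    have : q = P.comap (algebraMap R (R ⊗[k] S)) := by rw [← hQ]; exact hQq.over
    exact this ▸ hq
  refine ⟨hmaps, fun P hP Q hQ he => ?_, fun p hp => ?_⟩
  · let P' : PrimeSpectrum (R ⊗[k] S) := ⟨P, hP.1.1⟩
    let Q' : PrimeSpectrum (R ⊗[k] S) := ⟨Q, hQ.1.1⟩
    haveI := hP.1.1
    let y : PrimeSpectrum R := ⟨P.comap (algebraMap R (R ⊗[k] S)), inferInstance⟩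
    have h1 : IsIrreducible (f ⁻¹' {(y : Spec (CommRingCat.of R))}) := f.isIrreducible_preimage ho isIrreducible_singleton
    obtain ⟨ξ, hξ⟩ := QuasiSober.sober h1.closure isClosed_closure
    have key : ∀ Z : PrimeSpectrum (R ⊗[k] S), Z.asIdeal ∈ minimalPrimes (R ⊗[k] S) →
        Z ∈ f ⁻¹' {(y : Spec (CommRingCat.of R))} → (ξ : PrimeSpectrum (R ⊗[k] S)) = Z := fun Z hZ hZm => by
      have h2 : (ξ : PrimeSpectrum (R ⊗[k] S)).asIdeal ≤ Z.asIdeal :=
        (PrimeSpectrum.le_iff_specializes _ _).2 (hξ.specializes (subset_closure hZm))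
      exact PrimeSpectrum.ext (le_antisymm h2
        (hZ.2 ⟨(ξ : PrimeSpectrum (R ⊗[k] S)).isPrime, bot_le⟩ h2))
    exact congrArg PrimeSpectrum.asIdeal
      ((key P' hP rfl).symm.trans (key Q' hQ (PrimeSpectrum.ext he.symm)))
  · haveI : p.IsPrime := hp.1.1
    obtain ⟨P, hP⟩ := f.surjective (⟨p, inferInstance⟩ : PrimeSpectrum R)
    obtain ⟨Q, hQ, hQP⟩ := Ideal.exists_minimalPrimes_le (bot_le : ⊥ ≤ (P : PrimeSpectrum (R ⊗[k] S)).asIdeal)
    haveI := hQ.1.1
    have hle : Q.comap (algebraMap R (R ⊗[k] S)) ≤ p :=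
      (Ideal.comap_mono hQP).trans (congrArg PrimeSpectrum.asIdeal (show PrimeSpectrum.comap (algebraMap R (R ⊗[k] S)) P = ⟨p, inferInstance⟩ from hP)).le
    exact ⟨Q, hQ, le_antisymm hle (hp.2 ⟨inferInstance, bot_le⟩ hle)⟩

end Groth.Agent.S9626
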