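import Groth.Statements.S9627
import Mathlib
import Groth.Agent.GeomIrrLib.Basic

set_option autoImplicit false
universe u
open CAlg

namespace Groth.Agent.S9627

open CategoryTheory CategoryTheory.Limits AlgebraicGeometry

open TensorProduct in
/-- Let K/k be a field extension such that Spec(k' ⊗_k K) is irreducible for every field extension k'/k,
and let S be a K-algebra such that Spec(K' ⊗_K S) is irreducible for every field extension K'/K.
Then Spec(k' ⊗_k S) is irreducible for every field extension k'/k: S is geometrically irreducible
over k. Here the test fields k'/k and K'/K range over field extensions in the common universe of k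
and K; this is equivalent to the unrestricted notions, since an algebraic closure of the base field
suffices as a test. -/
theorem result {k K S : Type u} [Field k] [Field K] [Algebra k K] [CommRing S] [Algebra K S] [Algebra k S] [IsScalarTower k K S]
    (hK : ∀ (k' : Type u) [Field k'] [Algebra k k'], IrreducibleSpace (PrimeSpectrum (k' ⊗[k] K)))
    (hS : ∀ (K' : Type u) [Field K'] [Algebra K K'], IrreducibleSpace (PrimeSpectrum (K' ⊗[K] S))) :
    ∀ (k' : Type u) [Field k'] [Algebra k k'], IrreducibleSpace (PrimeSpectrum (k' ⊗[k] S)) := by
  let f := Spec.map (CommRingCat.ofHom (algebraMap K S))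
  let g := Spec.map (CommRingCat.ofHom (algebraMap k K))
  haveI : GeometricallyIrreducible f := GeomIrrLib.gi_iff_tensor.2 hS
  haveI : GeometricallyIrreducible g := GeomIrrLib.gi_iff_tensor.2 hK
  have h := GeometricallyIrreducible.comp f g
  rw [show f ≫ g = Spec.map (CommRingCat.ofHom (algebraMap k S)) from by
    rw [← Spec.map_comp, ← CommRingCat.ofHom_comp, ← IsScalarTower.algebraMap_eq]] at h
  exact GeomIrrLib.gi_iff_tensor.1 h

end Groth.Agent.S9627
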