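import Groth.Statements.S9629
import Mathlib.FieldTheory.IntermediateField.Adjoin.Basic
import Mathlib.FieldTheory.IsAlgClosed.AlgebraicClosure
import Mathlib.Tactic.TFAE
import Groth.Agent.SweepSix.TensorDomain


-- import your own Groth.Agent.* helpers here

set_option autoImplicit false
universe u
open CAlg

namespace Groth.Agent.S9629

open TensorProduct in
/-- For a field k and a k-algebra S the following are equivalent: (1) S is geometrically integral, i.e.
k' ⊗_k S is an integral domain for every field extension k'/k; (2) k' ⊗_k S is an integral domain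
for every finite field extension k'/k; (3) k̄ ⊗_k S is an integral domain for the algebraic closure
k̄ of k. Here the test fields range over field extensions in the universe of k; this is equivalent
to the unrestricted notion, since an algebraic closure of k suffices as a test. -/
theorem result {k S : Type u} [Field k] [CommRing S] [Algebra k S] :
    [∀ (k' : Type u) [Field k'] [Algebra k k'], IsDomain (k' ⊗[k] S),
      ∀ (k' : Type u) [Field k'] [Algebra k k'] [Module.Finite k k'], IsDomain (k' ⊗[k] S),
      IsDomain (AlgebraicClosure k ⊗[k] S)].TFAE := by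
  classical
  tfae_have 1 → 2 := fun h k' _ _ _ => h k'
  tfae_have 2 → 3 := by
    intro h
    have : Nontrivial (AlgebraicClosure k ⊗[k] S) := by
      have := h k
      have : Nontrivial S := (Algebra.TensorProduct.lid k S).toEquiv.symm.nontrivial
      exact Algebra.TensorProduct.nontrivial_of_algebraMap_injective_of_flat_left (R := k) (A := AlgebraicClosure k)
        (B := S) (FaithfulSMul.algebraMap_injective k S)
    have : NoZeroDivisors (AlgebraicClosure k ⊗[k] S) := by
      refine ⟨fun {x y} hxy => ?_⟩
      obtain ⟨s, hs⟩ := TensorProduct.exists_finset (R := k) x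
      obtain ⟨t, ht⟩ := TensorProduct.exists_finset (R := k) y
      let L := IntermediateField.adjoin k (((s ∪ t).image Prod.fst : Finset (AlgebraicClosure k)) : Set (AlgebraicClosure k))
      have : FiniteDimensional k L :=
        IntermediateField.finiteDimensional_adjoin fun a _ => Algebra.IsIntegral.isIntegral a
      have hdomL := h L
      have : NoZeroDivisors (L ⊗[k] S) := @IsDomain.to_noZeroDivisors _ _ hdomL
      let f : L ⊗[k] S →ₐ[k] AlgebraicClosure k ⊗[k] S := Algebra.TensorProduct.map L.val (AlgHom.id k S)
      have hf : Function.Injective f :=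
        Module.Flat.rTensor_preserves_injective_linearMap (M := S) L.val.toLinearMap Subtype.val_injective
      have hmem : ∀ U : Finset (AlgebraicClosure k × S), U ⊆ s ∪ t → ∑ p ∈ U, p.1 ⊗ₜ[k] p.2 ∈ f.range := fun U hU =>
        Subalgebra.sum_mem _ fun p hp => ⟨(⟨p.1, IntermediateField.subset_adjoin k _
          (Finset.mem_coe.2 (Finset.mem_image_of_mem Prod.fst (hU hp)))⟩ : L) ⊗ₜ p.2, rfl⟩
      obtain ⟨a, rfl⟩ : x ∈ f.range := hs ▸ hmem s Finset.subset_union_left
      obtain ⟨b, rfl⟩ : y ∈ f.range := ht ▸ hmem t Finset.subset_union_right
      rcases mul_eq_zero.1 (hf ((map_mul f.toRingHom a b).trans (hxy.trans (map_zero f.toRingHom).symm)) : a * b = 0) with e | e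
      · exact Or.inl (e ▸ map_zero f.toRingHom)
      · exact Or.inr (e ▸ map_zero f.toRingHom)
    exact NoZeroDivisors.to_isDomain _
  tfae_have 3 → 1 := by
    intro h k' _ _
    let K := AlgebraicClosure k'
    let : Algebra (AlgebraicClosure k) K := (IsAlgClosed.lift (R := k) (S := AlgebraicClosure k) (M := K)).toRingHom.toAlgebra
    have : IsScalarTower k (AlgebraicClosure k) K := IsScalarTower.of_algebraMap_eq fun x =>
      ((IsAlgClosed.lift (R := k) (S := AlgebraicClosure k) (M := K)).commutes x).symm
    have := SweepSix.isDomain_tensor (k := AlgebraicClosure k) K (AlgebraicClosure k ⊗[k] S)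
    have : IsDomain (K ⊗[k] S) :=
      (Algebra.TensorProduct.cancelBaseChange k (AlgebraicClosure k) (AlgebraicClosure k) K S).symm.toMulEquiv.isDomain
    let g : k' ⊗[k] S →ₐ[k] K ⊗[k] S := Algebra.TensorProduct.map (IsScalarTower.toAlgHom k k' K) (AlgHom.id k S)
    have hg : Function.Injective g :=
      Module.Flat.rTensor_preserves_injective_linearMap (M := S) (IsScalarTower.toAlgHom k k' K).toLinearMap
        (algebraMap k' K).injective
    exact hg.isDomain (g.toRingHom)
  tfae_finish

end Groth.Agent.S9629
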