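import Groth.Statements.S9631
-- import your own Groth.Agent.* helpers here

set_option autoImplicit false
set_option linter.style.haveILetI false
universe u
open CAlg

namespace Groth.Agent.S9631

/-- For a ring map φ : R → S the following are equivalent: (1) the induced map Spec(S) → Spec(R) is
surjective; (2) every ideal I of R satisfies φ⁻¹(√(IS)) = √I; (3) every radical ideal I of R
satisfies φ⁻¹(IS) = I; (4) every prime ideal p of R satisfies φ⁻¹(pS) = p. -/
theorem result {R S : Type u} [CommRing R] [CommRing S] (φ : R →+* S) :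
    [Function.Surjective (PrimeSpectrum.comap φ),
      ∀ I : Ideal R, ((I.map φ).radical).comap φ = I.radical,
      ∀ I : Ideal R, I.IsRadical → (I.map φ).comap φ = I,
      ∀ p : Ideal R, p.IsPrime → (p.map φ).comap φ = p].TFAE := by
  tfae_have 1 → 2 := by
    intro h I
    refine le_antisymm ?_ ?_
    · rw [I.radical_eq_sInf]
      refine le_sInf fun P ⟨hIP, hP⟩ => ?_
      obtain ⟨Q, hQ⟩ := h ⟨P, hP⟩
      have hQ' : Q.asIdeal.comap φ = P := congrArg PrimeSpectrum.asIdeal hQ
      rw [← hQ']
      refine Ideal.comap_mono (Q.2.radical_le_iff.2 (Ideal.map_le_iff_le_comap.2 ?_))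
      rwa [hQ']
    · rw [Ideal.comap_radical]
      exact Ideal.radical_mono Ideal.le_comap_map
  tfae_have 2 → 3 := by
    intro h I hI
    refine le_antisymm ?_ Ideal.le_comap_map
    refine le_trans (Ideal.comap_mono Ideal.le_radical) ?_
    rw [h I, hI.radical]
  tfae_have 3 → 4 := fun h p hp => h p hp.isRadical
  tfae_have 4 → 1 := by
    intro h p
    obtain ⟨q, hq, hqp⟩ := (Ideal.comap_map_eq_self_iff_of_isPrime (f := φ) p.asIdeal).1 (h p.asIdeal p.2)
    exact ⟨⟨q, hq⟩, PrimeSpectrum.ext hqp⟩
  tfae_finish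

end Groth.Agent.S9631
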