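import Groth.Statements.S9636
import Mathlib.RingTheory.Unramified.Finite
import Mathlib.RingTheory.Etale.Field
import Mathlib.RingTheory.Unramified.Field
import Mathlib.FieldTheory.IntermediateField.Adjoin.Basic
import Mathlib.RingTheory.Localization.Basic
import Mathlib.RingTheory.TensorProduct.Maps
-- import your own Groth.Agent.* helpers here

set_option autoImplicit false
universe u
open CAlg

namespace Groth.Agent.S9636

open TensorProduct in
/-- Let k'/k be a separable algebraic field extension. Then for some multiplicative subset S of k' ⊗_k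
k' the multiplication map k' ⊗_k k' → k' is a localization at S: there is a ring isomorphism S⁻¹(k'
⊗_k k') ≅ k' carrying the localization map to the multiplication map. -/
theorem result {k k' : Type u} [Field k] [Field k'] [Algebra k k'] [Algebra.IsSeparable k k'] :
    ∃ (S : Submonoid (k' ⊗[k] k')) (e : Localization S ≃+* k'), ∀ x : k' ⊗[k] k', e (algebraMap (k' ⊗[k] k') (Localization S) x) = Algebra.TensorProduct.lmul' (S := k') k x := by
  classical
  let μ : k' ⊗[k] k' →ₐ[k] k' := Algebra.TensorProduct.lmul' (S := k') k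
  let S : Submonoid (k' ⊗[k] k') :=
    { carrier := {s | μ s = 1}
      mul_mem' := fun {a b} ha hb => by simp only [Set.mem_setOf_eq, map_mul] at ha hb ⊢; rw [ha, hb, one_mul]
      one_mem' := map_one μ }
  have key : ∀ x : k' ⊗[k] k', ∃ t : k' ⊗[k] k', μ t = 1 ∧ x * t = (μ x ⊗ₜ[k] (1 : k')) * t := by
    intro x
    obtain ⟨T, hT⟩ := TensorProduct.exists_finset x
    let L := IntermediateField.adjoin k (T.image Prod.snd : Set k')
    haveI : FiniteDimensional k L := IntermediateField.finiteDimensional_adjoin fun y _ => Algebra.IsIntegral.isIntegral y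
    haveI : Algebra.IsSeparable k L := Algebra.isSeparable_tower_bot_of_isSeparable k L k'
    haveI : Algebra.FormallyUnramified k L := Algebra.FormallyUnramified.of_isSeparable k L
    obtain ⟨t, ht, htμ⟩ := (Algebra.FormallyUnramified.iff_exists_tensorProduct (R := k) (S := L)).mp inferInstance
    let ι := Algebra.TensorProduct.map L.val L.val
    have hμι : ∀ w, μ (ι w) = L.val (Algebra.TensorProduct.lmul' k w) := fun w => by
      induction w using TensorProduct.induction_on with
      | zero => simp only [map_zero]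
      | tmul a b => simp [μ, ι]
      | add a b ha hb => simp only [map_add, ha, hb]
    refine ⟨ι t, by rw [hμι, htμ, map_one], ?_⟩
    have hs : ∀ s ∈ L, ((1 : k') ⊗ₜ[k] s) * ι t = (s ⊗ₜ[k] (1 : k')) * ι t := fun s hs => by
      rw [← sub_eq_zero, ← sub_mul]
      have := congrArg ι (ht ⟨s, hs⟩)
      simpa [ι] using this
    rw [hT, map_sum, TensorProduct.sum_tmul, Finset.sum_mul, Finset.sum_mul]
    refine Finset.sum_congr rfl fun p hp => ?_
    show (p.1 ⊗ₜ[k] p.2) * ι t = ((μ (p.1 ⊗ₜ[k] p.2)) ⊗ₜ[k] (1 : k')) * ι t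
    have e1 : p.1 ⊗ₜ[k] p.2 = (p.1 ⊗ₜ[k] (1 : k')) * ((1 : k') ⊗ₜ[k] p.2) := by simp
    rw [e1, mul_assoc, hs p.2 (IntermediateField.subset_adjoin k _ (by
      simp only [Finset.coe_image, Set.mem_image, Finset.mem_coe]
      exact ⟨p, hp, rfl⟩)), ← mul_assoc]
    congr 1
    simp [μ]
  letI : Algebra (k' ⊗[k] k') k' := μ.toRingHom.toAlgebra
  haveI : IsLocalization S k' :=
    { map_units := fun s => by
        show IsUnit (μ (s : k' ⊗[k] k'))
        rw [show μ (s : k' ⊗[k] k') = 1 from s.2]
        exact isUnit_one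
      surj := fun z => ⟨(z ⊗ₜ[k] 1, 1), by
        show z * μ ((1 : S) : k' ⊗[k] k') = μ (z ⊗ₜ[k] 1)
        simp [μ]⟩
      exists_of_eq := fun {x y} h => by
        obtain ⟨t, ht, hx⟩ := key (x - y)
        refine ⟨⟨t, ht⟩, ?_⟩
        show t * x = t * y
        have h0 : μ (x - y) = 0 := by rw [map_sub]; exact sub_eq_zero.mpr h
        rw [h0, TensorProduct.zero_tmul, zero_mul] at hx
        rw [← sub_eq_zero, ← mul_sub, mul_comm, hx] }
  exact ⟨S, (IsLocalization.algEquiv S (Localization S) k').toRingEquiv,
    fun x => (IsLocalization.algEquiv S (Localization S) k').commutes x⟩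

end Groth.Agent.S9636
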