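import Groth.Statements.S9638
import Mathlib.RingTheory.Flat.TorsionFree
import Mathlib.RingTheory.Localization.Ideal
import Mathlib.Algebra.Module.LocalizedModule.Basic
import Mathlib.RingTheory.Localization.AtPrime.Basic
-- import your own Groth.Agent.* helpers here

set_option autoImplicit false
universe u
open CAlg

namespace Groth.Agent.S9638

/-- Let R → S be a ring map with R a domain with fraction field K, and N an S-module flat over R.
Writing T for the image in S of the nonzero elements of R, so that T⁻¹S = S ⊗_R K and T⁻¹N = N ⊗_R
K, the associated primes of N over S (primes equal to the annihilator of an element) coincide with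
those of T⁻¹N over S, and these are exactly the inverse images in S of the associated primes of T⁻¹N
over T⁻¹S. -/
theorem result {R S : Type u} [CommRing R] [IsDomain R] [CommRing S] [Algebra R S] (N : Type u) [AddCommGroup N] [Module S N] [Module R N] [IsScalarTower R S N] [Module.Flat R N] :
    FlatCA.ass S N = FlatCA.ass S (LocalizedModule (Algebra.algebraMapSubmonoid S (nonZeroDivisors R)) N) ∧
      FlatCA.ass S N = Ideal.comap (algebraMap S (Localization (Algebra.algebraMapSubmonoid S (nonZeroDivisors R)))) '' FlatCA.ass (Localization (Algebra.algebraMapSubmonoid S (nonZeroDivisors R))) (LocalizedModule (Algebra.algebraMapSubmonoid S (nonZeroDivisors R)) N) := by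
  let T := Algebra.algebraMapSubmonoid S (nonZeroDivisors R)
  let L := Localization T
  have hzero : ∀ (m : N) (t : T), LocalizedModule.mk m t = 0 ↔ m = 0 := by
    intro m t
    refine ⟨fun h => ?_, fun h => by rw [h, LocalizedModule.zero_mk]⟩
    rw [← LocalizedModule.zero_mk t, LocalizedModule.mk_eq] at h
    obtain ⟨⟨_, r, hr, rfl⟩, hu⟩ := h
    simp only [smul_zero, Submonoid.smul_def] at hu
    obtain ⟨r', hr', ht⟩ := (show (t : S) ∈ T from t.2)
    rw [← ht, algebraMap_smul, algebraMap_smul, smul_smul] at hu
    exact (Module.IsTorsionFree.isSMulRegular (isRegular_of_ne_zero (mul_ne_zero (nonZeroDivisors.ne_zero hr) (nonZeroDivisors.ne_zero hr')))).right_eq_zero_of_smul hu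
  have hann : ∀ (m : N) (t : T), (Submodule.span S {LocalizedModule.mk m t}).annihilator = (Submodule.span S {m}).annihilator := by
    intro m t
    ext s
    rw [Submodule.mem_annihilator_span_singleton, Submodule.mem_annihilator_span_singleton, LocalizedModule.smul'_mk, hzero]
  have hcomap : ∀ (m : N) (t : T), ((Submodule.span L {LocalizedModule.mk m t}).annihilator).comap (algebraMap S L) = (Submodule.span S {m}).annihilator := by
    intro m t
    rw [← hann m t]
    ext s
    rw [Ideal.mem_comap, Submodule.mem_annihilator_span_singleton, Submodule.mem_annihilator_span_singleton, algebraMap_smul]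
  refine ⟨?_, ?_⟩
  · ext p
    constructor
    · rintro ⟨hp, m, rfl⟩
      exact ⟨hp, LocalizedModule.mk m 1, (hann m 1).symm⟩
    · rintro ⟨hp, z, rfl⟩
      induction z using LocalizedModule.induction_on with
      | h m t => exact ⟨hp, m, hann m t⟩
  · ext p
    constructor
    · rintro ⟨hp, m, rfl⟩
      refine ⟨(Submodule.span L {LocalizedModule.mk m (1 : T)}).annihilator, ⟨?_, _, rfl⟩, hcomap m 1⟩
      rw [IsLocalization.isPrime_iff_isPrime_disjoint T L, Ideal.under_def, hcomap]
      refine ⟨hp, Set.disjoint_left.2 ?_⟩
      intro s hsT hs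
      have hm0 : m = 0 := by
        have h0 := Submodule.mem_annihilator_span_singleton _ _ |>.1 hs
        exact (hzero m ⟨s, hsT⟩).1 (by
          rw [← LocalizedModule.mk_cancel_common_left ⟨s, hsT⟩ ⟨s, hsT⟩ m, show (⟨s, hsT⟩ : T) • m = 0 from h0, LocalizedModule.zero_mk])
      exact hp.ne_top (by rw [hm0, Ideal.eq_top_iff_one, Submodule.mem_annihilator_span_singleton, smul_zero])
    · rintro ⟨q, ⟨hq, z, rfl⟩, rfl⟩
      induction z using LocalizedModule.induction_on with
      | h m t => exact ⟨Ideal.comap_isPrime _ _, m, hcomap m t⟩

end Groth.Agent.S9638
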