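import Groth.Statements.S9639
import Mathlib.RingTheory.Spectrum.Prime.Topology
import Mathlib.RingTheory.Flat.Basic
import Mathlib.RingTheory.TensorProduct.Maps
import Mathlib.Topology.Connected.Clopen
-- import your own Groth.Agent.* helpers here

set_option autoImplicit false
universe u
open CAlg

namespace Groth.Agent.S9639

open TensorProduct in
/-- Let k be a field and S a k-algebra such that Spec(k' ⊗_k S) is connected for every field extension
k'/k. Then every k-subalgebra of S has the same property. Here the test fields range over field
extensions in the universe of k; this is equivalent to the unrestricted notion, since an algebraic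
closure of k suffices as a test. -/
theorem result {k S : Type u} [Field k] [CommRing S] [Algebra k S]
    (hS : ∀ (k' : Type u) [Field k'] [Algebra k k'], ConnectedSpace (PrimeSpectrum (k' ⊗[k] S))) (S' : Subalgebra k S) :
    ∀ (k' : Type u) [Field k'] [Algebra k k'], ConnectedSpace (PrimeSpectrum (k' ⊗[k] S')) := by
  intro k' _ _
  have hc := hS k'
  let g : k' ⊗[k] S' →ₐ[k] k' ⊗[k] S := Algebra.TensorProduct.map (AlgHom.id k k') S'.val
  have hg : Function.Injective g := fun a b h =>
    Module.Flat.lTensor_preserves_injective_linearMap (M := k') S'.val.toLinearMap Subtype.val_injective h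
  have hne : Nontrivial (k' ⊗[k] S) := PrimeSpectrum.nonempty_iff_nontrivial.mp inferInstance
  have : Nontrivial (k' ⊗[k] S') := g.toRingHom.domain_nontrivial
  rw [connectedSpace_iff_clopen]
  refine ⟨inferInstance, fun s hs => ?_⟩
  obtain ⟨e, he, rfl⟩ := PrimeSpectrum.isClopen_iff.mp hs
  have he' : IsIdempotentElem (g e) := by show g e * g e = g e; rw [← map_mul, he.eq]
  rcases isClopen_iff.mp (PrimeSpectrum.isClopen_iff.mpr ⟨g e, he', rfl⟩) with h | h
  · left
    have : g e = 0 := PrimeSpectrum.basicOpen_injOn_isIdempotentElem he' IsIdempotentElem.zero
      (SetLike.ext' (by rw [h]; simp))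
    rw [← map_zero g] at this
    rw [hg this]; simp
  · right
    have : g e = 1 := PrimeSpectrum.basicOpen_injOn_isIdempotentElem he' IsIdempotentElem.one
      (SetLike.ext' (by rw [h]; simp))
    rw [← map_one g] at this
    rw [hg this]; simp

end Groth.Agent.S9639
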