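import Groth.Statements.S9641
import Mathlib.RingTheory.Nilpotent.Basic
import Mathlib.RingTheory.Flat.Basic
import Mathlib.LinearAlgebra.Basis.VectorSpace
import Mathlib.LinearAlgebra.TensorProduct.Finiteness
import Mathlib.RingTheory.Adjoin.FG
import Mathlib.RingTheory.TensorProduct.Maps
-- import your own Groth.Agent.* helpers here

set_option autoImplicit false
universe u
open CAlg

namespace Groth.Agent.S9641

open TensorProduct in
/-- Let k be a field and R, S two k-algebras. If R ⊗_k S is not reduced then there are finitely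
generated k-subalgebras R' ⊆ R and S' ⊆ S such that R' ⊗_k S' is not reduced. -/
theorem result {k R S : Type u} [Field k] [CommRing R] [CommRing S] [Algebra k R] [Algebra k S] (h : ¬ IsReduced (R ⊗[k] S)) :
    ∃ (R' : Subalgebra k R) (S' : Subalgebra k S), R'.FG ∧ S'.FG ∧ ¬ IsReduced (R' ⊗[k] S') := by
  classical
  obtain ⟨x, hx, hx0⟩ : ∃ x : R ⊗[k] S, IsNilpotent x ∧ x ≠ 0 := by
    by_contra h'
    push Not at h'
    exact h ⟨fun x hx => h' x hx⟩
  obtain ⟨T, hT⟩ := TensorProduct.exists_finset x
  let R' := Algebra.adjoin k (T.image Prod.fst : Set R)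
  let S' := Algebra.adjoin k (T.image Prod.snd : Set S)
  refine ⟨R', S', Subalgebra.fg_adjoin_finset _, Subalgebra.fg_adjoin_finset _, fun hred => ?_⟩
  let ι := Algebra.TensorProduct.map R'.val S'.val
  have hι : Function.Injective ι := by
    have := TensorProduct.map_injective_of_flat_flat (R := k) R'.val.toLinearMap S'.val.toLinearMap Subtype.val_injective Subtype.val_injective
    exact this
  obtain ⟨y, hy⟩ : ∃ y, ι y = x := by
    refine ⟨∑ p ∈ T.attach, (⟨p.1.1, Algebra.subset_adjoin (Finset.mem_image_of_mem _ p.2)⟩ : R') ⊗ₜ[k]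
      (⟨p.1.2, Algebra.subset_adjoin (Finset.mem_image_of_mem _ p.2)⟩ : S'), ?_⟩
    rw [map_sum, hT, ← Finset.sum_attach T]
    exact Finset.sum_congr rfl fun p _ => rfl
  have : IsNilpotent y := by
    obtain ⟨n, hn⟩ := hx
    exact ⟨n, hι (by rw [map_pow, hy, hn, map_zero])⟩
  exact hx0 (by rw [← hy, this.eq_zero, map_zero])

end Groth.Agent.S9641
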