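import Groth.Statements.S9642
import Mathlib.RingTheory.LocalRing.ResidueField.Fiber
import Mathlib.Topology.Irreducible
-- import your own Groth.Agent.* helpers here

set_option autoImplicit false
universe u
open CAlg

namespace Groth.Agent.S9642

/-- In the general form stated there: let R → S be a ring map inducing an open map Spec(S) → Spec(R),
with Spec(R) irreducible, such that for a dense set of primes p of R the fibre ring κ(p) ⊗_R S has
irreducible spectrum. Then Spec(S) is irreducible. The flat and finitely presented case is the
special case in which the map on spectra is open by fppf-openness. -/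
theorem result {R S : Type u} [CommRing R] [CommRing S] [Algebra R S]
    (hopen : IsOpenMap (PrimeSpectrum.comap (algebraMap R S))) [IrreducibleSpace (PrimeSpectrum R)]
    (D : Set (PrimeSpectrum R)) (hD : Dense D) (hfib : ∀ p ∈ D, IrreducibleSpace (PrimeSpectrum (p.asIdeal.Fiber S))) :
    IrreducibleSpace (PrimeSpectrum S) := by
  let f := PrimeSpectrum.comap (algebraMap R S)
  have hne : Nonempty (PrimeSpectrum S) := by
    obtain ⟨p, hp⟩ := hD.nonempty
    have := hfib p hp
    exact ⟨((PrimeSpectrum.preimageHomeomorphFiber R S p).symm (Classical.arbitrary _)).1⟩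
  have hfp : ∀ p ∈ D, IsPreirreducible (f ⁻¹' {p}) := by
    intro p hp
    have := hfib p hp
    have h1 := (PreirreducibleSpace.isPreirreducible_univ (X := PrimeSpectrum (p.asIdeal.Fiber S))).image
      (Subtype.val ∘ (PrimeSpectrum.preimageHomeomorphFiber R S p).symm)
      (continuous_subtype_val.comp (Homeomorph.continuous _)).continuousOn
    rwa [Set.image_univ, Set.range_comp, EquivLike.range_eq_univ, Set.image_univ, Subtype.range_coe] at h1
  have hpre : IsPreirreducible (f ⁻¹' Set.univ) := by
    refine (PreirreducibleSpace.isPreirreducible_univ (X := PrimeSpectrum R)).preimage_of_dense_isPreirreducible_fiber f hopen ?_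
    intro z _
    exact closure_mono (show D ⊆ Set.univ ∩ {x | IsPreirreducible (f ⁻¹' {x})} from
      fun p hp => ⟨Set.mem_univ p, hfp p hp⟩) (hD z)
  haveI : PreirreducibleSpace (PrimeSpectrum S) := ⟨by simpa using hpre⟩
  exact ⟨hne⟩

end Groth.Agent.S9642
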