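import Groth.Statements.S9643
import Mathlib.RingTheory.Support
import Mathlib.RingTheory.Ideal.Quotient.Operations
import Mathlib.RingTheory.Noetherian.Basic
-- import your own Groth.Agent.* helpers here

set_option autoImplicit false
universe u
open CAlg

namespace Groth.Agent.S9643

/-- Let R be a Noetherian ring, M a finite R-module and 0 = M_0 ⊆ M_1 ⊆ ⋯ ⊆ M_n = M a chain of
submodules whose successive quotients M_i/M_{i-1} are isomorphic to R/p_i for prime ideals p_i. Then
the primes minimal among p_1, …, p_n are exactly the primes minimal in the support of M. -/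
theorem result {R : Type u} [CommRing R] [IsNoetherianRing R] (M : Type u) [AddCommGroup M] [Module R M] [Module.Finite R M]
    {n : ℕ} (N : Fin (n + 1) → Submodule R M) (hN : Monotone N) (h0 : N 0 = ⊥) (hlast : N (Fin.last n) = ⊤)
    (p : Fin n → PrimeSpectrum R)
    (hquot : ∀ i : Fin n, Nonempty ((↥(N i.succ) ⧸ Submodule.comap (N i.succ).subtype (N i.castSucc)) ≃ₗ[R] (R ⧸ (p i).asIdeal))) :
    {q : PrimeSpectrum R | Minimal (fun x => x ∈ Set.range p) q} = {q : PrimeSpectrum R | Minimal (fun x => x ∈ Module.support R M) q} := by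
  have hsupp : ∀ i : Fin (n + 1), Module.support R (N i) = ⋃ j : Fin n, ⋃ (_ : j.castSucc < i),
      PrimeSpectrum.zeroLocus ((p j).asIdeal : Set R) := by
    intro i
    induction i using Fin.induction with
    | zero =>
      rw [h0, Module.support_eq_empty]
      symm
      simp only [Set.iUnion_eq_empty]
      exact fun j hj => absurd hj (Fin.not_lt_zero _)
    | succ i ih =>
      obtain ⟨e⟩ := hquot i
      have hle : N i.castSucc ≤ N i.succ := hN (Fin.castSucc_lt_succ).le
      rw [Module.support_of_exact (f := Submodule.inclusion hle)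
        (g := (Submodule.comap (N i.succ).subtype (N i.castSucc)).mkQ)
        (by rw [LinearMap.exact_iff, Submodule.ker_mkQ, Submodule.range_inclusion])
        (Submodule.inclusion_injective hle) (Submodule.mkQ_surjective _), ih, e.support_eq,
        Module.support_eq_zeroLocus, Ideal.annihilator_quotient]
      ext x
      simp only [Set.mem_union, Set.mem_iUnion, exists_prop, Fin.castSucc_lt_succ_iff, Fin.castSucc_lt_castSucc_iff]
      constructor
      · rintro (⟨j, hj, hx⟩ | hx)
        · exact ⟨j, hj.le, hx⟩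
        · exact ⟨i, le_rfl, hx⟩
      · rintro ⟨j, hj, hx⟩
        rcases hj.lt_or_eq with hj | rfl
        · exact Or.inl ⟨j, hj, hx⟩
        · exact Or.inr hx
  have hM : Module.support R M = ⋃ j : Fin n, PrimeSpectrum.zeroLocus ((p j).asIdeal : Set R) := by
    have h1 := hsupp (Fin.last n)
    rw [hlast, LinearEquiv.support_eq Submodule.topEquiv] at h1
    rw [h1]
    simp [Fin.castSucc_lt_last]
  have hin : ∀ x ∈ Module.support R M, ∃ j, p j ≤ x := fun x hx => by
    rw [hM] at hx
    obtain ⟨j, hj⟩ := Set.mem_iUnion.mp hx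
    exact ⟨j, hj⟩
  have hpm : ∀ j, p j ∈ Module.support R M := fun j => by
    rw [hM]; exact Set.mem_iUnion.mpr ⟨j, fun _ h => h⟩
  ext q
  constructor
  · rintro ⟨⟨j, rfl⟩, hmin⟩
    refine ⟨hpm j, fun x hx hxle => ?_⟩
    obtain ⟨k, hk⟩ := hin x hx
    exact (hmin ⟨k, rfl⟩ (hk.trans hxle)).trans hk
  · rintro ⟨hq, hmin⟩
    obtain ⟨j, hj⟩ := hin q hq
    have heq : q = p j := le_antisymm (hmin (hpm j) hj) hj
    exact ⟨⟨j, heq.symm⟩, fun x hx hxle => by obtain ⟨k, rfl⟩ := hx; exact hmin (hpm k) hxle⟩

end Groth.Agent.S9643
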