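import Groth.Statements.S9645
import Mathlib.RingTheory.Localization.Integral
-- import your own Groth.Agent.* helpers here

set_option autoImplicit false
universe u
open CAlg

namespace Groth.Agent.S9645

/-- Integral closure commutes with localization. Let A → B be a ring map, S a multiplicative subset of
A, and A_S, B_S the localizations of A at S and of B at the image of S. Then an element x of B_S is
integral over A_S if and only if x·s = b for some s ∈ S and some b ∈ B integral over A (images taken
in B_S); that is, the integral closure of A_S in B_S is S⁻¹B' for B' the integral closure of A in B. -/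
theorem result {A B As Bs : Type u} [CommRing A] [CommRing B] [CommRing As] [CommRing Bs] [Algebra A B] [Algebra A As] [Algebra B Bs] [Algebra As Bs] [Algebra A Bs] [IsScalarTower A B Bs] [IsScalarTower A As Bs]
    (S : Submonoid A) [IsLocalization S As] [IsLocalization (Algebra.algebraMapSubmonoid B S) Bs] (x : Bs) :
    IsIntegral As x ↔ ∃ b : B, IsIntegral A b ∧ ∃ s ∈ S, x * algebraMap A Bs s = algebraMap B Bs b := by
  constructor
  · intro hx
    obtain ⟨⟨m, hm⟩, hint⟩ := IsIntegral.exists_multiple_integral_of_isLocalization S (Rₘ := As) x hx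
    obtain ⟨⟨b, ⟨_, t, ht, rfl⟩⟩, hb⟩ := IsLocalization.surj (Algebra.algebraMapSubmonoid B S) (m • x : Bs)
    have htb : IsIntegral A (algebraMap B Bs b) := by
      rw [← hb, ← IsScalarTower.algebraMap_apply A B Bs]
      exact hint.mul isIntegral_algebraMap
    obtain ⟨m', hm', hm'b⟩ := IsLocalization.exists_isIntegral_smul_of_isIntegral_map S htb
    refine ⟨m' • b, hm'b, m' * (m * t), S.mul_mem hm' (S.mul_mem hm ht), ?_⟩
    simp only [Algebra.smul_def, ← IsScalarTower.algebraMap_apply A B Bs] at hb
    rw [Algebra.smul_def, map_mul, map_mul (algebraMap B Bs), ← hb, ← IsScalarTower.algebraMap_apply A B Bs, map_mul]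
    ring
  · rintro ⟨b, hb, s, hs, he⟩
    have h1 : IsIntegral As (algebraMap B Bs b) :=
      (hb.map (IsScalarTower.toAlgHom A B Bs)).tower_top
    rw [← he] at h1
    obtain ⟨v, hv⟩ := (IsLocalization.map_units As (⟨s, hs⟩ : S)).exists_left_inv
    have h2 := h1.mul (isIntegral_algebraMap (R := As) (A := Bs) (x := v))
    rwa [IsScalarTower.algebraMap_apply A As Bs, mul_assoc, ← map_mul, mul_comm (algebraMap A As s) v,
      hv, map_one, mul_one] at h2

end Groth.Agent.S9645
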