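import Groth.Statements.S9646
import Groth.Agent.S9645
import Mathlib.RingTheory.IntegralClosure.IsIntegralClosure.Basic
import Mathlib.RingTheory.Localization.AtPrime.Basic
-- import your own Groth.Agent.* helpers here

set_option autoImplicit false
universe u
open CAlg

namespace Groth.Agent.S9646

/-- (2) ⇒ (1): let R → S be a ring map and x ∈ S. If for every prime ideal p of R the image of x in S_p
(the localization of S at the image of R ∖ p) is integral over R_p, then x is integral over R. Here
R_p and S_p are any rings satisfying the localization universal properties. -/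
theorem result {R S : Type u} [CommRing R] [CommRing S] [Algebra R S] (x : S)
    (h : ∀ (p : Ideal R) [p.IsPrime] (Rp Sp : Type u) [CommRing Rp] [CommRing Sp] [Algebra R Rp] [Algebra S Sp] [Algebra Rp Sp] [Algebra R Sp] [IsScalarTower R S Sp] [IsScalarTower R Rp Sp] [IsLocalization.AtPrime Rp p] [IsLocalization (Algebra.algebraMapSubmonoid S p.primeCompl) Sp], IsIntegral Rp (algebraMap S Sp x)) :
    IsIntegral R x := by
  classical
  let J : Ideal R :=
    { carrier := {r | IsIntegral R (algebraMap R S r * x)}
      zero_mem' := by simpa using isIntegral_zero
      add_mem' := fun {a b} ha hb => by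
        show IsIntegral R _
        rw [map_add, add_mul]; exact ha.add hb
      smul_mem' := fun c a ha => by
        show IsIntegral R _
        rw [smul_eq_mul, map_mul, mul_assoc]; exact isIntegral_algebraMap.mul ha }
  suffices J = ⊤ by
    have h1 : (1 : R) ∈ J := by rw [this]; trivial
    have h2 : IsIntegral R (algebraMap R S 1 * x) := h1
    simpa using h2
  by_contra hne
  obtain ⟨p, hp, hJp⟩ := Ideal.exists_le_maximal J hne
  let M := Algebra.algebraMapSubmonoid S p.primeCompl
  letI : Algebra (Localization.AtPrime p) (Localization M) := localizationAlgebra p.primeCompl S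
  haveI : IsScalarTower R (Localization.AtPrime p) (Localization M) :=
    IsScalarTower.of_algebraMap_eq fun r => by
      show _ = IsLocalization.map (Localization M) (algebraMap R S) _ (algebraMap R (Localization p.primeCompl) r)
      rw [IsLocalization.map_eq]
      exact IsScalarTower.algebraMap_apply R S (Localization M) r
  obtain ⟨b, hb, s, hs, he⟩ := (S9645.result (A := R) (B := S) (As := Localization.AtPrime p)
    (Bs := Localization M) p.primeCompl _).mp (h p (Localization.AtPrime p) (Localization M))
  rw [IsScalarTower.algebraMap_apply R S (Localization M), ← map_mul] at he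
  obtain ⟨⟨_, t, ht, rfl⟩, hte⟩ := IsLocalization.exists_of_eq (M := M) he
  refine (p.primeCompl.mul_mem ht hs) (hJp ?_)
  show IsIntegral R (algebraMap R S (t * s) * x)
  have : algebraMap R S (t * s) * x = algebraMap R S t * b := by rw [← hte, map_mul]; ring
  rw [this]
  exact isIntegral_algebraMap.mul hb

end Groth.Agent.S9646
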