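import Groth.Statements.S9647
import Mathlib.FieldTheory.IsSepClosed
import Mathlib.FieldTheory.Galois.Profinite
import Mathlib.RingTheory.TensorProduct.Free
import Mathlib.FieldTheory.Galois.Infinite
import Mathlib.RingTheory.Invariant.Profinite


-- import your own Groth.Agent.* helpers here

set_option autoImplicit false
universe u
open CAlg

namespace Groth.Agent.S9647

open TensorProduct in
/-- Let K/k be a field extension and k^sep a separable algebraic closure of k. Then the automorphism
group of k^sep over k acts transitively on the primes of k^sep ⊗_k K: for any two primes P, Q there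
is a k-automorphism σ of k^sep with Q the inverse image of P under σ ⊗ id_K. -/
theorem result {k K : Type u} [Field k] [Field K] [Algebra k K]
    (P Q : Ideal (SeparableClosure k ⊗[k] K)) [P.IsPrime] [Q.IsPrime] :
    ∃ σ : SeparableClosure k ≃ₐ[k] SeparableClosure k, Q = P.comap (Algebra.TensorProduct.map (σ : SeparableClosure k →ₐ[k] SeparableClosure k) (AlgHom.id k K)) := by
  classical
  let L := SeparableClosure k
  let B := L ⊗[k] K
  let G := L ≃ₐ[k] L
  have hsmul : ∀ (σ : G) (z : B), σ • z = Algebra.TensorProduct.congr σ AlgEquiv.refl z := by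
    intro σ z
    induction z using TensorProduct.induction_on with
    | zero => simp
    | tmul x y => rw [TensorProduct.smul_tmul']; simp; rfl
    | add x y hx hy => rw [smul_add, hx, hy, map_add]
  letI : MulSemiringAction G B :=
    { (inferInstance : DistribMulAction G B) with
      smul_one := fun σ => by rw [hsmul, map_one]
      smul_mul := fun σ x y => by rw [hsmul, hsmul, hsmul, map_mul] }
  letI : Algebra K B := Algebra.TensorProduct.rightAlgebra
  have hK : ∀ y : K, algebraMap K B y = (1 : L) ⊗ₜ[k] y := fun y => Algebra.TensorProduct.includeRight_apply y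
  haveI : SMulCommClass G K B := ⟨fun σ y z => by
    rw [Algebra.smul_def, Algebra.smul_def, hsmul, hsmul, map_mul, hK]
    congr 1
    simp⟩
  letI : TopologicalSpace B := ⊥
  haveI : DiscreteTopology B := ⟨rfl⟩
  haveI : ContinuousSMul G B := by
    refine continuousSMul_iff_stabilizer_isOpen.2 fun z => ?_
    induction z using TensorProduct.induction_on with
    | zero =>
      convert isOpen_univ using 1
      exact Set.eq_univ_of_forall fun σ => by simp [MulAction.mem_stabilizer_iff]
    | tmul x y =>
      have : FiniteDimensional k (IntermediateField.adjoin k {x} : IntermediateField k L) :=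
        IntermediateField.adjoin.finiteDimensional (Algebra.IsIntegral.isIntegral x)
      refine Subgroup.isOpen_mono (H₁ := (IntermediateField.adjoin k ({x} : Set L)).fixingSubgroup) ?_ (IntermediateField.fixingSubgroup_isOpen _)
      intro σ hσ
      rw [MulAction.mem_stabilizer_iff, hsmul, Algebra.TensorProduct.congr_apply, Algebra.TensorProduct.map_tmul]
      rw [show (σ : L →ₐ[k] L) x = x from (IntermediateField.mem_fixingSubgroup_iff _ _).1 hσ x (IntermediateField.mem_adjoin_simple_self k x)]
      rfl
    | add x y hx hy =>
      refine Subgroup.isOpen_mono (H₁ := MulAction.stabilizer G x ⊓ MulAction.stabilizer G y) ?_ (hx.inter hy)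
      intro σ hσ
      rw [Subgroup.mem_inf, MulAction.mem_stabilizer_iff, MulAction.mem_stabilizer_iff] at hσ
      rw [MulAction.mem_stabilizer_iff, smul_add, hσ.1, hσ.2]
  haveI : IsGalois k L := IsSepClosure.isGalois
  haveI : Algebra.IsInvariant K B G := ⟨fun z hz => by
    let b := Module.Basis.ofVectorSpace k K
    let c := Algebra.TensorProduct.basis L b
    have hfix : ∀ i, ∀ σ : G, σ (c.repr z i) = c.repr z i := by
      intro i σ
      have key : ∀ w : B, c.repr (σ • w) i = σ (c.repr w i) := by
        intro w
        induction w using TensorProduct.induction_on with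
        | zero => simp
        | tmul x y =>
          rw [hsmul, Algebra.TensorProduct.congr_apply, Algebra.TensorProduct.map_tmul, Algebra.TensorProduct.basis_repr_tmul,
            Algebra.TensorProduct.basis_repr_tmul]
          simp
          exact Or.inl (σ.commutes _).symm
        | add u v hu hv => rw [smul_add, map_add, Finsupp.add_apply, hu, hv, map_add, Finsupp.add_apply, map_add]
      rw [← key]
      exact congrArg (fun w : B => c.repr w i) (hz σ)
    choose d hd using fun i => (InfiniteGalois.mem_range_algebraMap_iff_fixed _).2 (hfix i)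
    refine ⟨∑ i ∈ (c.repr z).support, d i • b i, ?_⟩
    conv_rhs => rw [← c.linearCombination_repr z]
    rw [Finsupp.linearCombination_apply, Finsupp.sum, map_sum]
    refine Finset.sum_congr rfl fun i _ => ?_
    rw [hK, Algebra.TensorProduct.basis_apply, ← hd i, TensorProduct.tmul_smul, algebraMap_smul]⟩
  have hPQ : P.under K = Q.under K := by
    have h : ∀ (I : Ideal B) [I.IsPrime], I.under K = ⊥ := fun I hI =>
      ((Ideal.eq_bot_or_top _).resolve_right (Ideal.IsPrime.ne_top inferInstance))
    rw [h P, h Q]
  obtain ⟨g, hg⟩ := Algebra.IsInvariant.exists_smul_of_under_eq_of_profinite (A := K) (B := B) (G := G) P Q hPQ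
  refine ⟨g⁻¹, ?_⟩
  rw [hg, Ideal.pointwise_smul_eq_comap]
  refine Ideal.ext fun z => ?_
  rw [Ideal.mem_comap, Ideal.mem_comap]
  show g⁻¹ • z ∈ P ↔ _
  rw [hsmul]
  rfl

end Groth.Agent.S9647
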