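import Groth.Statements.S9648
import Groth.Agent.FibAssLib.Flat
import Mathlib.RingTheory.Ideal.AssociatedPrime.Finiteness


-- import your own Groth.Agent.* helpers here

set_option autoImplicit false
universe u
open CAlg

namespace Groth.Agent.S9648

open TensorProduct in
/-- The inclusion, valid for any ring R: let R → S be a ring map, M an R-module and N an S-module which
is flat over R. For an associated prime p of M (a prime equal to the annihilator of an element) and
an associated prime Q of the fibre module N ⊗_R κ(p) over the fibre ring S ⊗_R κ(p), the inverse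
image of Q in S is an associated prime of N ⊗_R M. -/
theorem result {R S : Type u} [CommRing R] [CommRing S] [Algebra R S] (M : Type u) [AddCommGroup M] [Module R M] (N : Type u) [AddCommGroup N] [Module S N] [Module R N] [IsScalarTower R S N] [Module.Flat R N]
    (p : Ideal R) [p.IsPrime] (hp : p ∈ FlatCA.ass R M) (Q : Ideal (p.Fiber S)) (hQ : Q ∈ FlatCA.ass (p.Fiber S) (FlatCA.fiberMod p S N)) :
    Q.comap (Algebra.TensorProduct.includeRight (R := R) (A := p.ResidueField) (B := S)).toRingHom ∈ FlatCA.ass S (N ⊗[R] M) := by
  have h1 := (FibAssLib.ass_quot_eq (S := S) (N := N) p).ge (FibAssLib.comap_mem_ass p hQ)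
  obtain ⟨-, m, hm⟩ := hp
  have hpm : ∀ r, r ∈ p ↔ r • m = 0 := fun r => by rw [hm, Submodule.mem_annihilator_span_singleton]
  let f : (R ⧸ p) →ₗ[R] M := Submodule.liftQ p (LinearMap.toSpanSingleton R M m) (fun r hr => (hpm r).1 hr)
  have hf : Function.Injective f := by
    refine (injective_iff_map_eq_zero _).2 fun x hx => ?_
    obtain ⟨r, rfl⟩ := Ideal.Quotient.mk_surjective x
    exact Ideal.Quotient.eq_zero_iff_mem.2 ((hpm r).2 hx)
  exact FibAssLib.mem_ass_of_injective
    ((TensorProduct.AlgebraTensorModule.lTensor S N f).comp (FibAssLib.toTensor S N p))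
    ((Module.Flat.lTensor_preserves_injective_linearMap (M := N) f hf).comp (FibAssLib.toTensor_bijective p).1) h1

end Groth.Agent.S9648
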