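import Groth.Statements.S9650
import Mathlib


-- import your own Groth.Agent.* helpers here

set_option autoImplicit false
universe u
open CAlg

namespace Groth.Agent.S9650

/-- Let K/k be a finitely generated field extension that is separably generated, i.e. admits a
transcendence basis over whose generated subfield K is separable algebraic. Then K is generated over
k by finitely many elements x_1, …, x_r, y such that the x_i form a transcendence basis of K/k and y
is separable over the subfield k(x_1, …, x_r). -/
theorem result {k K : Type u} [Field k] [Field K] [Algebra k K]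
    (hfg : ∃ s : Finset K, IntermediateField.adjoin k (s : Set K) = ⊤)
    (hsep : ∃ (ι : Type u) (x : ι → K), IsTranscendenceBasis k x ∧ Algebra.IsSeparable (IntermediateField.adjoin k (Set.range x)) K) :
    ∃ (r : ℕ) (x : Fin r → K) (y : K), IsTranscendenceBasis k x ∧ IntermediateField.adjoin k (insert y (Set.range x)) = ⊤ ∧ IsSeparable (IntermediateField.adjoin k (Set.range x)) y := by
  classical
  obtain ⟨ι, x, hx, hs⟩ := hsep
  obtain ⟨s, hsK⟩ := hfg
  haveI : Algebra.IsAlgebraic (Algebra.adjoin k (s : Set K)) K := by
    rw [← IntermediateField.isAlgebraic_adjoin_iff_top, hsK, Algebra.isAlgebraic_iff_isIntegral]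
    exact Algebra.isIntegral_of_surjective IntermediateField.topEquiv.surjective
  have hfin : Finite ι := by
    rw [← Cardinal.lt_aleph0_iff_finite, hx.cardinalMk_eq_trdeg]
    exact (Algebra.IsAlgebraic.trdeg_le_cardinalMk k (s : Set K)).trans_lt (Cardinal.lt_aleph0_of_finite _)
  obtain ⟨r, ⟨e⟩⟩ := Finite.exists_equiv_fin ι
  have hr : Set.range (x ∘ e.symm) = Set.range x := e.symm.surjective.range_comp x
  have hfd : FiniteDimensional (IntermediateField.adjoin k (Set.range x)) K := by
    have h1 := IntermediateField.finiteDimensional_adjoin (K := IntermediateField.adjoin k (Set.range x)) (L := K)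
      (S := (s : Set K)) fun y _ => Algebra.IsSeparable.isIntegral _ y
    have h2 : IntermediateField.adjoin (IntermediateField.adjoin k (Set.range x)) (s : Set K) = ⊤ := by
      apply IntermediateField.restrictScalars_injective k
      rw [IntermediateField.restrictScalars_top, IntermediateField.restrictScalars_adjoin, eq_top_iff, ← hsK]
      exact IntermediateField.adjoin.mono _ _ _ Set.subset_union_right
    rw [h2] at h1
    exact Module.Finite.equiv IntermediateField.topEquiv.toLinearEquiv
  obtain ⟨y, hy⟩ := Field.exists_primitive_element (IntermediateField.adjoin k (Set.range x)) K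
  refine ⟨r, x ∘ e.symm, y, hx.comp_equiv e.symm, ?_, ?_⟩
  · have h3 := congrArg (IntermediateField.restrictScalars k) hy
    rw [IntermediateField.adjoin_adjoin_left, Set.union_singleton, IntermediateField.restrictScalars_top] at h3
    rw [hr]
    exact h3
  · rw [hr]
    exact Algebra.IsSeparable.isSeparable _ y

end Groth.Agent.S9650
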