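import Groth.Statements.S9652
import Mathlib.RingTheory.Jacobson.Ring
import Mathlib.RingTheory.Spectrum.Prime.Jacobson
import Mathlib.Topology.Constructible
import Mathlib.Topology.JacobsonSpace
import Mathlib.Topology.LocallyClosed
import Mathlib.RingTheory.Ideal.GoingUp
import Mathlib.RingTheory.IntegralClosure.IntegrallyClosed
-- import your own Groth.Agent.* helpers here

set_option autoImplicit false
universe u
open CAlg

namespace Groth.Agent.S9652

/-- Let R and S be Jacobson rings, R → S a ring map of finite type with induced map f : Spec(S) →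
Spec(R), and E ⊆ Spec(S) a constructible subset. Writing T₀ for the set of points of a subspace T
which are closed in T, one has f(E)₀ = f(E₀) = (Spec R)₀ ∩ f(E). -/
theorem result {R S : Type u} [CommRing R] [CommRing S] [Algebra R S] [IsJacobsonRing R] [IsJacobsonRing S] [Algebra.FiniteType R S]
    (E : Set (PrimeSpectrum S)) (hE : Topology.IsConstructible E) :
    {x | x ∈ PrimeSpectrum.comap (algebraMap R S) '' E ∧ closure {x} ∩ PrimeSpectrum.comap (algebraMap R S) '' E = {x}} =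
        PrimeSpectrum.comap (algebraMap R S) '' {y | y ∈ E ∧ closure {y} ∩ E = {y}} ∧
      PrimeSpectrum.comap (algebraMap R S) '' {y | y ∈ E ∧ closure {y} ∩ E = {y}} =
        {x | IsClosed ({x} : Set (PrimeSpectrum R))} ∩ PrimeSpectrum.comap (algebraMap R S) '' E := by
  let f := PrimeSpectrum.comap (algebraMap R S)
  have hLC : ∀ (T : Set (PrimeSpectrum S)), Topology.IsConstructible T →
      (∀ y ∈ T, ∃ L, IsLocallyClosed L ∧ L ⊆ T ∧ y ∈ L) ∧ (∀ y ∈ Tᶜ, ∃ L, IsLocallyClosed L ∧ L ⊆ Tᶜ ∧ y ∈ L) := by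
    intro T hT
    induction hT using Topology.IsConstructible.empty_union_induction with
    | open_retrocompact U hU _ => exact ⟨fun y hy => ⟨U, hU.isLocallyClosed, le_rfl, hy⟩, fun y hy => ⟨Uᶜ, hU.isClosed_compl.isLocallyClosed, le_rfl, hy⟩⟩
    | compl s hs ih => exact ⟨ih.2, by rw [compl_compl]; exact ih.1⟩
    | union s hs t ht ihs iht =>
      refine ⟨fun y hy => ?_, fun y hy => ?_⟩
      · rcases hy with hy | hy
        · obtain ⟨L, h1, h2, h3⟩ := ihs.1 y hy
          exact ⟨L, h1, h2.trans Set.subset_union_left, h3⟩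
        · obtain ⟨L, h1, h2, h3⟩ := iht.1 y hy
          exact ⟨L, h1, h2.trans Set.subset_union_right, h3⟩
      · obtain ⟨L, h1, h2, h3⟩ := ihs.2 y fun h => hy (Or.inl h)
        obtain ⟨L', h1', h2', h3'⟩ := iht.2 y fun h => hy (Or.inr h)
        exact ⟨L ∩ L', h1.inter h1', fun z hz h => h.elim (h2 hz.1) (h2' hz.2), h3, h3'⟩
  have hclosed : ∀ y : PrimeSpectrum S, IsClosed ({y} : Set (PrimeSpectrum S)) → IsClosed ({f y} : Set (PrimeSpectrum R)) := by
    intro y hy
    rw [PrimeSpectrum.isClosed_singleton_iff_isMaximal] at hy ⊢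
    letI := Ideal.Quotient.field y.asIdeal
    haveI : Algebra.FiniteType R (S ⧸ y.asIdeal) := Algebra.FiniteType.of_surjective (Ideal.Quotient.mkₐ R y.asIdeal) Ideal.Quotient.mk_surjective
    haveI : Module.Finite R (S ⧸ y.asIdeal) := finite_of_finite_type_of_isJacobsonRing R (S ⧸ y.asIdeal)
    haveI : Algebra.IsIntegral R (S ⧸ y.asIdeal) := Algebra.IsIntegral.of_finite R _
    have h := Ideal.isMaximal_comap_of_isIntegral_of_isMaximal (R := R) (⊥ : Ideal (S ⧸ y.asIdeal))
    rw [← RingHom.ker_eq_comap_bot, IsScalarTower.algebraMap_eq R S (S ⧸ y.asIdeal), ← RingHom.comap_ker, Ideal.Quotient.algebraMap_eq, Ideal.mk_ker] at h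
    exact h
  have hkey : ∀ y ∈ E, ∃ y' ∈ E, IsClosed ({y'} : Set (PrimeSpectrum S)) ∧ y' ∈ closure {y} := by
    intro y hy
    obtain ⟨L, h1, h2, h3⟩ := (hLC E hE).1 y hy
    obtain ⟨y', ⟨hy'L, hy'c⟩, hy'⟩ := nonempty_inter_closedPoints (Z := L ∩ closure {y})
      ⟨y, h3, subset_closure rfl⟩ (h1.inter isClosed_closure.isLocallyClosed)
    exact ⟨y', h2 hy'L, hy', hy'c⟩
  have hE0 : ∀ y, y ∈ E ∧ closure {y} ∩ E = {y} → IsClosed ({y} : Set (PrimeSpectrum S)) := by
    rintro y ⟨hy, hcl⟩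
    obtain ⟨y', hy', hc, hmem⟩ := hkey y hy
    have : y' ∈ closure {y} ∩ E := ⟨hmem, hy'⟩
    rw [hcl] at this
    rw [← Set.mem_singleton_iff.1 this]
    exact hc
  have hmapcl : ∀ y y' : PrimeSpectrum S, y' ∈ closure {y} → f y' ∈ closure ({f y} : Set (PrimeSpectrum R)) := fun y y' h => by
    rw [← Set.image_singleton]
    exact image_closure_subset_closure_image (PrimeSpectrum.continuous_comap _) ⟨y', h, rfl⟩
  constructor
  · ext x
    constructor
    · rintro ⟨⟨y, hy, rfl⟩, hcl⟩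
      obtain ⟨y', hy', hc, hmem⟩ := hkey y hy
      have : f y' ∈ closure {f y} ∩ f '' E := ⟨hmapcl y y' hmem, y', hy', rfl⟩
      rw [hcl] at this
      exact ⟨y', ⟨hy', by rw [hc.closure_eq]; exact Set.inter_eq_left.2 (Set.singleton_subset_iff.2 hy')⟩, this⟩
    · rintro ⟨y, hy, rfl⟩
      refine ⟨⟨y, hy.1, rfl⟩, ?_⟩
      rw [(hclosed y (hE0 y hy)).closure_eq]
      exact Set.inter_eq_left.2 (Set.singleton_subset_iff.2 ⟨y, hy.1, rfl⟩)
  · ext x
    constructor
    · rintro ⟨y, hy, rfl⟩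
      exact ⟨hclosed y (hE0 y hy), y, hy.1, rfl⟩
    · rintro ⟨hx, y, hy, rfl⟩
      obtain ⟨y', hy', hc, hmem⟩ := hkey y hy
      have := hmapcl y y' hmem
      rw [IsClosed.closure_eq hx] at this
      exact ⟨y', ⟨hy', by rw [hc.closure_eq]; exact Set.inter_eq_left.2 (Set.singleton_subset_iff.2 hy')⟩, this⟩

end Groth.Agent.S9652
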