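import Groth.Statements.S9653
import Groth.Agent.S9652
import Mathlib.RingTheory.Spectrum.Prime.ConstructibleSet
-- import your own Groth.Agent.* helpers here

set_option autoImplicit false
universe u
open CAlg

namespace Groth.Agent.S9653

/-- Let R and S be Jacobson rings, R → S a ring map of finite type with induced map f : Spec(S) →
Spec(R), E ⊆ Spec(S) constructible and E₀ the set of points of E closed in E. Then a point ξ of
Spec(R) lies in f(E) if and only if cl{ξ} ∩ f(E₀) is dense in the closure cl{ξ}. -/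
theorem result {R S : Type u} [CommRing R] [CommRing S] [Algebra R S] [IsJacobsonRing R] [IsJacobsonRing S] [Algebra.FiniteType R S]
    (E : Set (PrimeSpectrum S)) (hE : Topology.IsConstructible E) (ξ : PrimeSpectrum R) :
    ξ ∈ PrimeSpectrum.comap (algebraMap R S) '' E ↔
      closure ({ξ} : Set (PrimeSpectrum R)) ⊆ closure (closure {ξ} ∩ PrimeSpectrum.comap (algebraMap R S) '' {y | y ∈ E ∧ closure {y} ∩ E = {y}}) := by
  obtain ⟨-, hE0⟩ := Groth.Agent.S9652.result (R := R) E hE
  constructor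
  · intro hξ
    rw [hE0]
    refine closure_minimal (Set.singleton_subset_iff.2 ?_) isClosed_closure
    obtain ⟨η, hη, rfl⟩ := hξ
    obtain ⟨D, rfl⟩ := PrimeSpectrum.exists_constructibleSetData_iff.2 hE
    simp only [PrimeSpectrum.ConstructibleSetData.toSet, Set.mem_iUnion] at hη
    obtain ⟨C, hC, hηC⟩ := hη
    rw [mem_closure_iff]
    intro U hU hmem
    have hlc : IsLocallyClosed (C.toSet ∩ (closure {η} ∩ PrimeSpectrum.comap (algebraMap R S) ⁻¹' U)) := by
      rw [PrimeSpectrum.BasicConstructibleSetData.toSet, Set.diff_eq]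
      exact ((PrimeSpectrum.isClosed_zeroLocus _).isLocallyClosed.inter
        (PrimeSpectrum.isClosed_zeroLocus _).isOpen_compl.isLocallyClosed).inter
        (isClosed_closure.isLocallyClosed.inter (hU.preimage (PrimeSpectrum.continuous_comap _)).isLocallyClosed)
    obtain ⟨y, ⟨hyC, hycl, hyU⟩, hyc⟩ := nonempty_inter_closedPoints (Z := C.toSet ∩ (closure {η} ∩ PrimeSpectrum.comap (algebraMap R S) ⁻¹' U)) ⟨η, hηC, subset_closure rfl, hmem⟩ hlc
    refine ⟨PrimeSpectrum.comap (algebraMap R S) y, hyU, ?_, ?_, ⟨y, Set.mem_biUnion hC hyC, rfl⟩⟩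
    · rw [← Set.image_singleton]
      exact image_closure_subset_closure_image (PrimeSpectrum.continuous_comap _) ⟨y, hycl, rfl⟩
    · show IsClosed _
      rw [PrimeSpectrum.isClosed_singleton_iff_isMaximal]
      have := (PrimeSpectrum.isClosed_singleton_iff_isMaximal y).1 hyc
      letI := Ideal.Quotient.field y.asIdeal
      haveI : Algebra.FiniteType R (S ⧸ y.asIdeal) := Algebra.FiniteType.of_surjective (Ideal.Quotient.mkₐ R y.asIdeal) Ideal.Quotient.mk_surjective
      haveI : Module.Finite R (S ⧸ y.asIdeal) := finite_of_finite_type_of_isJacobsonRing R (S ⧸ y.asIdeal)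
      haveI : Algebra.IsIntegral R (S ⧸ y.asIdeal) := Algebra.IsIntegral.of_finite R _
      have h := Ideal.isMaximal_comap_of_isIntegral_of_isMaximal (R := R) (⊥ : Ideal (S ⧸ y.asIdeal))
      rw [← RingHom.ker_eq_comap_bot, IsScalarTower.algebraMap_eq R S (S ⧸ y.asIdeal), ← RingHom.comap_ker, Ideal.Quotient.algebraMap_eq, Ideal.mk_ker] at h
      exact h
  · intro h
    by_contra hξ
    obtain ⟨D, rfl⟩ := PrimeSpectrum.exists_constructibleSetData_iff.2 hE
    have key : ∀ C ∈ D, ∃ a : R, a ∉ ξ.asIdeal ∧ ∀ q ∈ C.toSet,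
        PrimeSpectrum.comap (algebraMap R S) q ∈ closure {ξ} → a ∈ (PrimeSpectrum.comap (algebraMap R S) q).asIdeal := by
      intro C hC
      let J : Ideal S := Ideal.map (algebraMap R S) ξ.asIdeal ⊔ Ideal.span (Set.range C.g)
      let M : Submonoid S := ξ.asIdeal.primeCompl.map (algebraMap R S) ⊔ Submonoid.powers C.f
      have hnd : ¬ Disjoint (J : Set S) (M : Set S) := by
        intro hd
        obtain ⟨Q, hQp, hJQ, hQ⟩ := Ideal.exists_le_prime_disjoint J M hd
        refine hξ ⟨⟨Q, hQp⟩, Set.mem_biUnion hC ⟨?_, ?_⟩, PrimeSpectrum.ext (le_antisymm ?_ ?_)⟩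
        · rw [PrimeSpectrum.mem_zeroLocus]
          exact fun x hx => hJQ (Submodule.mem_sup_right (Ideal.subset_span hx))
        · rw [PrimeSpectrum.mem_zeroLocus, Set.singleton_subset_iff]
          exact Set.disjoint_right.1 hQ (Submonoid.mem_sup_right (Submonoid.mem_powers _))
        · intro r hr
          by_contra hr'
          exact Set.disjoint_right.1 hQ (Submonoid.mem_sup_left ⟨r, hr', rfl⟩) hr
        · exact fun r hr => hJQ (Submodule.mem_sup_left (Ideal.mem_map_of_mem _ hr))
      obtain ⟨x, hxJ, hxM⟩ := Set.not_disjoint_iff.1 hnd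
      obtain ⟨_, ⟨a, ha, rfl⟩, _, ⟨n, rfl⟩, rfl⟩ := Submonoid.mem_sup.1 hxM
      refine ⟨a, ha, fun q hq hqcl => ?_⟩
      have hle : ξ.asIdeal ≤ (PrimeSpectrum.comap (algebraMap R S) q).asIdeal :=
        (PrimeSpectrum.le_iff_mem_closure ξ _).2 hqcl
      have hJq : J ≤ q.asIdeal :=
        sup_le (Ideal.map_le_iff_le_comap.2 hle) (Ideal.span_le.2 hq.1)
      have hf : C.f ∉ q.asIdeal := fun h' => hq.2 (by rw [PrimeSpectrum.mem_zeroLocus, Set.singleton_subset_iff]; exact h')
      exact (q.isPrime.mem_or_mem (hJq hxJ)).resolve_right fun h' => hf (q.isPrime.mem_of_pow_mem n h')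
    choose a ha hmem using key
    let A : R := ∏ C : D, a C.1 C.2
    have hA : A ∉ ξ.asIdeal := by
      intro hA
      obtain ⟨C, -, hC⟩ := (Ideal.IsPrime.prod_mem_iff).1 hA
      exact ha _ _ hC
    have hsub : closure {ξ} ∩ PrimeSpectrum.comap (algebraMap R S) ''
        {y | y ∈ D.toSet ∧ closure {y} ∩ D.toSet = {y}} ⊆ PrimeSpectrum.zeroLocus {A} := by
      rintro _ ⟨hcl, q, ⟨hq, -⟩, rfl⟩
      simp only [PrimeSpectrum.ConstructibleSetData.toSet, Set.mem_iUnion] at hq
      obtain ⟨C, hC, hqC⟩ := hq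
      rw [PrimeSpectrum.mem_zeroLocus, Set.singleton_subset_iff]
      exact Ideal.IsPrime.prod_mem_iff.2 ⟨⟨C, hC⟩, Finset.mem_univ _, hmem C hC q hqC hcl⟩
    have := closure_minimal hsub (PrimeSpectrum.isClosed_zeroLocus _) (h (subset_closure rfl))
    rw [PrimeSpectrum.mem_zeroLocus, Set.singleton_subset_iff] at this
    exact hA this

end Groth.Agent.S9653
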