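import Groth.Statements.S9654
-- import your own Groth.Agent.* helpers here

set_option autoImplicit false
universe u
open CAlg

namespace Groth.Agent.S9654

variable {R L : Type u} [CommRing R] [CommRing L] [Algebra R L]

/-- Elements of `R[a]` are values of polynomials, with bounded powers. -/
theorem mem_span_of_mem_adjoin (a z : L) (hz : z ∈ Algebra.adjoin R ({a} : Set L)) :
    ∃ m : ℕ, z ∈ Submodule.span R ((fun i => a ^ i) '' (Set.Iic m)) := by
  rw [Algebra.adjoin_singleton_eq_range_aeval] at hz
  obtain ⟨p, rfl⟩ := hz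
  refine ⟨p.natDegree, ?_⟩
  show Polynomial.aeval a p ∈ _
  rw [Polynomial.aeval_eq_sum_range]
  exact Submodule.sum_mem _ fun i hi => Submodule.smul_mem _ _
    (Submodule.subset_span ⟨i, Finset.mem_range_succ_iff.1 hi, rfl⟩)

theorem isIntegral_of_mem (a b z : L) (hab : a * b = 1)
    (ha : z ∈ Algebra.adjoin R ({a} : Set L)) (hb : z ∈ Algebra.adjoin R ({b} : Set L)) : IsIntegral R z := by
  obtain ⟨m, hm⟩ := mem_span_of_mem_adjoin a z ha
  obtain ⟨n, hn⟩ := mem_span_of_mem_adjoin b z hb
  let M : Submodule R L := Submodule.span R ((fun i => a ^ i) '' (Set.Iic (m + n)))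
  have hmul : ∀ w ∈ M, z * w ∈ M := by
    intro w hw
    induction hw using Submodule.span_induction with
    | mem w hw =>
      obtain ⟨i, hi, rfl⟩ := hw
      show z * a ^ i ∈ M
      by_cases hin : n ≤ i
      · refine Submodule.span_induction (p := fun z _ => z * a ^ i ∈ M) ?_ (by simp) (fun u v _ _ hu hv => by
          rw [add_mul]; exact add_mem hu hv) (fun r u _ hu => by rw [smul_mul_assoc]; exact M.smul_mem r hu) hn
        rintro _ ⟨j, hj, rfl⟩
        have hj' : j ≤ i := le_trans hj hin
        obtain ⟨k, rfl⟩ := Nat.exists_eq_add_of_le hj'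
        rw [pow_add, ← mul_assoc, ← mul_pow, mul_comm b a, hab, one_pow, one_mul]
        exact Submodule.subset_span ⟨k, le_trans (Nat.le_add_left k j) hi, rfl⟩
      · refine Submodule.span_induction (p := fun z _ => z * a ^ i ∈ M) ?_ (by simp) (fun u v _ _ hu hv => by
          rw [add_mul]; exact add_mem hu hv) (fun r u _ hu => by rw [smul_mul_assoc]; exact M.smul_mem r hu) hm
        rintro _ ⟨j, hj, rfl⟩
        rw [← pow_add]
        refine Submodule.subset_span ⟨j + i, ?_, rfl⟩
        have : j ≤ m := hj
        show j + i ≤ m + n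
        omega
    | zero => rw [mul_zero]; exact M.zero_mem
    | add u v _ _ hu hv => rw [mul_add]; exact add_mem hu hv
    | smul r u _ hu => rw [mul_smul_comm]; exact M.smul_mem r hu
  haveI : Module.Finite R M := Module.Finite.iff_fg.2 (Submodule.fg_span ((Set.finite_Iic _).image _))
  let φ : M →ₗ[R] M := (LinearMap.mulLeft R z).restrict hmul
  obtain ⟨p, hp, hpφ⟩ := LinearMap.exists_monic_and_aeval_eq_zero R (φ : Module.End R M)
  refine ⟨p, hp, ?_⟩
  have hpow : ∀ (k : ℕ) (w : M), ((φ ^ k) w : L) = z ^ k * (w : L) := by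
    intro k
    induction k with
    | zero => intro w; simp
    | succ k ih =>
      intro w
      rw [pow_succ', Module.End.mul_apply, pow_succ', mul_assoc, ← ih]
      rfl
  have h1 : (1 : L) ∈ M := Submodule.subset_span ⟨0, Nat.zero_le _, pow_zero a⟩
  have h0 := congrArg (fun g : M →ₗ[R] M => (g ⟨1, h1⟩ : L)) hpφ
  show Polynomial.aeval z p = 0
  rw [Polynomial.aeval_eq_sum_range] at h0 ⊢
  simpa [LinearMap.sum_apply, hpow] using h0

theorem sup_eq (a b : L) (hab : a * b = 1) :
    (Algebra.adjoin R ({a} : Set L)).toSubmodule ⊔ (Algebra.adjoin R ({b} : Set L)).toSubmodule =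
      (Algebra.adjoin R ({a, b} : Set L)).toSubmodule := by
  refine le_antisymm (sup_le (Algebra.adjoin_mono (by simp)) (Algebra.adjoin_mono (by simp))) ?_
  have key : ∀ w ∈ Submonoid.closure ({a, b} : Set L), ∃ k : ℕ, w = a ^ k ∨ w = b ^ k := by
    intro w hw
    induction hw using Submonoid.closure_induction with
    | mem w hw => exact ⟨1, by rcases hw with rfl | rfl <;> simp⟩
    | one => exact ⟨0, by simp⟩
    | mul u v _ _ hu hv =>
      have mix : ∀ i j : ℕ, ∃ k : ℕ, a ^ i * b ^ j = a ^ k ∨ a ^ i * b ^ j = b ^ k := fun i j => by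
        rcases le_total i j with h | h
        · obtain ⟨k, rfl⟩ := Nat.exists_eq_add_of_le h
          exact ⟨k, Or.inr (by rw [pow_add, ← mul_assoc, ← mul_pow, hab, one_pow, one_mul])⟩
        · obtain ⟨k, rfl⟩ := Nat.exists_eq_add_of_le h
          exact ⟨k, Or.inl (by rw [pow_add, mul_right_comm, ← mul_pow, hab, one_pow, one_mul])⟩
      obtain ⟨i, hi⟩ := hu
      obtain ⟨j, hj⟩ := hv
      rcases hi with rfl | rfl <;> rcases hj with rfl | rfl
      · exact ⟨i + j, Or.inl (pow_add a i j).symm⟩
      · exact mix i j
      · rw [mul_comm]; exact mix j i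
      · exact ⟨i + j, Or.inr (pow_add b i j).symm⟩
  rw [Algebra.adjoin_eq_span, Submodule.span_le]
  intro w hw
  obtain ⟨k, hk | hk⟩ := key w hw <;> rw [hk]
  · exact Submodule.mem_sup_left ((Subalgebra.mem_toSubmodule _).2
      ((Algebra.adjoin R ({a} : Set L)).pow_mem (Algebra.subset_adjoin (Set.mem_singleton a)) k))
  · exact Submodule.mem_sup_right ((Subalgebra.mem_toSubmodule _).2
      ((Algebra.adjoin R ({b} : Set L)).pow_mem (Algebra.subset_adjoin (Set.mem_singleton b)) k))

/-- An element of `R[v * t]`, with `t` inverse to `u`, becomes an element of the image of `R` after multiplying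
by a power of `u`; so if it is integral and `R` is integrally closed in `R[1/u]`, it lies in `R`. -/
theorem mem_bot (u v : R) (t z : L) (hu : algebraMap R L u * t = 1) (hinjL : Function.Injective (algebraMap R L))
    (hint : IsIntegrallyClosedIn R (Localization.Away u))
    (hz : z ∈ Algebra.adjoin R ({algebraMap R L v * t} : Set L)) (hzi : IsIntegral R z) :
    z ∈ (⊥ : Subalgebra R L) := by
  let f : Localization.Away u →ₐ[R] L := IsLocalization.liftAlgHom (M := Submonoid.powers u) (f := Algebra.ofId R L)
    (fun y => by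
      obtain ⟨k, hk⟩ := y.2
      show IsUnit (algebraMap R L y.1)
      rw [← hk, map_pow]
      exact (IsUnit.of_mul_eq_one t hu).pow k)
  have hfinj : Function.Injective f := by
    rw [injective_iff_map_eq_zero]
    intro w hw
    obtain ⟨r, s, rfl⟩ := IsLocalization.exists_mk'_eq (Submonoid.powers u) w
    have h1 : f (algebraMap R (Localization.Away u) r) = 0 := by
      rw [← IsLocalization.mk'_spec (Localization.Away u) r s, map_mul, hw, zero_mul]
    rw [f.commutes, map_eq_zero_iff _ hinjL] at h1
    rw [h1, IsLocalization.mk'_zero]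
  have hmem : z ∈ f.range := by
    refine Algebra.adjoin_le (Set.singleton_subset_iff.2 ?_) hz
    refine ⟨algebraMap R _ v * IsLocalization.Away.invSelf u, ?_⟩
    show f _ = _
    rw [map_mul, f.commutes]
    congr 1
    refine (IsUnit.of_mul_eq_one t hu).mul_left_cancel ?_
    rw [hu, ← f.commutes, ← map_mul, IsLocalization.Away.mul_invSelf, map_one]
  obtain ⟨w, rfl⟩ := hmem
  obtain ⟨r, hr⟩ := IsIntegrallyClosedIn.isIntegral_iff.1 ((isIntegral_algHom_iff f hfinj).1 hzi)
  exact Algebra.mem_bot.2 ⟨r, by rw [← f.commutes, hr]; rfl⟩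

/-- Let R be a ring and x, y ∈ R nonzerodivisors. In the localization R_{xy} let a = x/y and b = y/x,
and let R[a], R[b], R[a, b] be the R-subalgebras they generate. If R is integrally closed in R_x or
in R_y, then the sequence 0 → R → R[a] ⊕ R[b] → R[a, b] → 0 (difference map, then sum map) is short
exact; equivalently R[a] ∩ R[b] is the image of R and R[a] + R[b] = R[a, b] inside R_{xy}. -/
theorem result {R : Type u} [CommRing R] (x y : R) (hx : x ∈ nonZeroDivisors R) (hy : y ∈ nonZeroDivisors R)
    (hint : IsIntegrallyClosedIn R (Localization.Away x) ∨ IsIntegrallyClosedIn R (Localization.Away y)) :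
    (Algebra.adjoin R {algebraMap R (Localization.Away (x * y)) (x * x) * IsLocalization.Away.invSelf (x * y)}).toSubmodule ⊓
        (Algebra.adjoin R {algebraMap R (Localization.Away (x * y)) (y * y) * IsLocalization.Away.invSelf (x * y)}).toSubmodule =
        (⊥ : Subalgebra R (Localization.Away (x * y))).toSubmodule ∧
      (Algebra.adjoin R {algebraMap R (Localization.Away (x * y)) (x * x) * IsLocalization.Away.invSelf (x * y)}).toSubmodule ⊔
        (Algebra.adjoin R {algebraMap R (Localization.Away (x * y)) (y * y) * IsLocalization.Away.invSelf (x * y)}).toSubmodule =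
        (Algebra.adjoin R {algebraMap R (Localization.Away (x * y)) (x * x) * IsLocalization.Away.invSelf (x * y), algebraMap R (Localization.Away (x * y)) (y * y) * IsLocalization.Away.invSelf (x * y)}).toSubmodule := by
  set L := Localization.Away (x * y)
  set i : L := IsLocalization.Away.invSelf (x * y) with hi
  have hxy : algebraMap R L (x * y) * i = 1 := IsLocalization.Away.mul_invSelf _
  have hab : (algebraMap R L (x * x) * i) * (algebraMap R L (y * y) * i) = 1 := by
    calc _ = (algebraMap R L (x * y) * i) * (algebraMap R L (x * y) * i) := by simp only [map_mul]; ring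
      _ = 1 := by rw [hxy, one_mul]
  have hinj : Function.Injective (algebraMap R L) :=
    IsLocalization.injective L (M := Submonoid.powers (x * y))
      (Submonoid.powers_le.2 (mul_mem hx hy))
  refine ⟨le_antisymm (fun z hz => ?_) (le_inf (fun z hz => ?_) (fun z hz => ?_)), sup_eq _ _ hab⟩
  · obtain ⟨hza, hzb⟩ := hz
    have hzi := isIntegral_of_mem _ _ z hab hza hzb
    rcases hint with h | h
    · refine mem_bot x y (algebraMap R L y * i) z (by rw [← mul_assoc, ← map_mul, hxy]) hinj h ?_ hzi
      rw [← mul_assoc, ← map_mul]; exact hzb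
    · refine mem_bot y x (algebraMap R L x * i) z (by rw [← mul_assoc, ← map_mul, mul_comm y x, hxy]) hinj h ?_ hzi
      rw [← mul_assoc, ← map_mul]; exact hza
  · exact bot_le (a := Algebra.adjoin R _) hz
  · exact bot_le (a := Algebra.adjoin R _) hz

end Groth.Agent.S9654
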