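import Groth.Statements.S9655
import Mathlib.RingTheory.Valuation.LocalSubring
import Mathlib.RingTheory.EssentialFiniteness


-- import your own Groth.Agent.* helpers here

set_option autoImplicit false
universe u
open CAlg

namespace Groth.Agent.S9655

/-- Let R and S be local rings and R → S a ring map, not necessarily local, that is essentially of
finite type. Then for some n there is a maximal ideal m of the polynomial ring R[x_1, …, x_n] lying
over the maximal ideal of R, together with an R-algebra map φ : R[x_1, …, x_n]_m → S making S a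
localization of the image of φ; thus S arises from R[x_1, …, x_n]_m by passing to a quotient and
then localizing. -/
theorem result {R S : Type u} [CommRing R] [CommRing S] [Algebra R S] [IsLocalRing R] [IsLocalRing S] [Algebra.EssFiniteType R S] :
    ∃ (n : ℕ) (m : Ideal (MvPolynomial (Fin n) R)) (_ : m.IsMaximal), m.under R = IsLocalRing.maximalIdeal R ∧
      ∃ (φ : Localization.AtPrime m →ₐ[R] S) (T : Submonoid φ.range), IsLocalization T S := by
  classical
  obtain ⟨s, hs⟩ : ∃ s : Finset S, s = Algebra.EssFiniteType.finset R S := ⟨_, rfl⟩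
  let k := IsLocalRing.ResidueField S
  let ρ : R →+* k := (IsLocalRing.residue S).comp (algebraMap R S)
  let mR := IsLocalRing.maximalIdeal R
  obtain ⟨V, hle, hlocal⟩ := IsLocalRing.exists_factor_valuationRing ρ
  let y : S → S := fun x => if IsLocalRing.residue S x ∈ V then x else Ring.inverse x
  have hyV : ∀ x, IsLocalRing.residue S (y x) ∈ V := by
    intro x
    by_cases h : IsLocalRing.residue S x ∈ V
    · simp only [y, if_pos h]; exact h
    · simp only [y, if_neg h]
      have h0 : IsLocalRing.residue S x ≠ 0 := fun h0 => h (h0 ▸ zero_mem _)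
      have hu : IsUnit x := (IsLocalRing.residue_ne_zero_iff_isUnit x).1 h0
      rw [show IsLocalRing.residue S (Ring.inverse x) = (IsLocalRing.residue S x)⁻¹ from by
        refine eq_inv_of_mul_eq_one_left ?_
        rw [← map_mul, Ring.inverse_mul_cancel _ hu, map_one]]
      exact (V.mem_or_inv_mem _).resolve_left h
  let n := s.card
  let gen : Fin n → S := fun i => y (s.equivFin.symm i).1
  let Φ : MvPolynomial (Fin n) R →ₐ[R] S := MvPolynomial.aeval gen
  have hΦV : ∀ p, IsLocalRing.residue S (Φ p) ∈ V.toSubring := by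
    intro p
    induction p using MvPolynomial.induction_on with
    | C r => rw [show Φ (MvPolynomial.C r) = algebraMap R S r from MvPolynomial.aeval_C _ r]; exact hle r
    | add a b ha hb => rw [map_add, map_add]; exact add_mem ha hb
    | mul_X a i ha => rw [map_mul, map_mul, show Φ (MvPolynomial.X i) = gen i from MvPolynomial.aeval_X _ i]; exact mul_mem ha (hyV _)
  let θ : MvPolynomial (Fin n) R →+* V := ((IsLocalRing.residue S).comp Φ.toRingHom).codRestrict V.toSubring hΦV
  let m' : Ideal (MvPolynomial (Fin n) R) := (IsLocalRing.maximalIdeal V).comap θ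
  obtain ⟨m, hm, hm'm⟩ := Ideal.exists_le_maximal m' (Ideal.comap_ne_top _ (IsLocalRing.maximalIdeal.isMaximal V).ne_top)
  have hunder : m.under R = mR := by
    refine le_antisymm (IsLocalRing.le_maximalIdeal (Ideal.comap_ne_top _ hm.ne_top)) fun r hr => hm'm ?_
    show θ (MvPolynomial.C r) ∈ IsLocalRing.maximalIdeal V
    rw [IsLocalRing.mem_maximalIdeal, mem_nonunits_iff]
    intro hu
    have heq : (θ (MvPolynomial.C r) : V) = (ρ.codRestrict V.toSubring hle r : V) := Subtype.ext (by
      show IsLocalRing.residue S (Φ (MvPolynomial.C r)) = ρ r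
      simp [ρ, Φ])
    rw [heq] at hu
    exact hr (IsUnit.of_map (ρ.codRestrict V.toSubring hle) r hu)
  have hunit : ∀ p : m.primeCompl, IsUnit (Φ p) := by
    rintro ⟨p, hp⟩
    refine (IsLocalRing.residue_ne_zero_iff_isUnit _).1 fun h0 => hp (hm'm ?_)
    show θ p ∈ IsLocalRing.maximalIdeal V
    rw [show θ p = 0 from Subtype.ext h0]; exact zero_mem _
  let φ : Localization.AtPrime m →ₐ[R] S := IsLocalization.liftAlgHom (M := m.primeCompl) hunit
  refine ⟨n, m, hm, hunder, φ, (IsUnit.submonoid S).comap φ.range.val, ?_⟩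
  let Fr : Subalgebra R S :=
    { carrier := {z | ∃ a b, a ∈ φ.range ∧ b ∈ φ.range ∧ IsUnit b ∧ z * b = a}
      mul_mem' := by
        rintro z w ⟨a, b, ha, hb, hub, h1⟩ ⟨c, d, hc, hd, hud, h2⟩
        exact ⟨a * c, b * d, mul_mem ha hc, mul_mem hb hd, hub.mul hud, by rw [← h1, ← h2]; ring⟩
      add_mem' := by
        rintro z w ⟨a, b, ha, hb, hub, h1⟩ ⟨c, d, hc, hd, hud, h2⟩
        exact ⟨a * d + c * b, b * d, add_mem (mul_mem ha hd) (mul_mem hc hb), mul_mem hb hd, hub.mul hud, by rw [← h1, ← h2]; ring⟩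
      algebraMap_mem' := fun r => ⟨algebraMap R S r, 1, Subalgebra.algebraMap_mem _ r, one_mem _, isUnit_one, mul_one _⟩ }
  have hrange : ∀ p, Φ p ∈ φ.range := fun p => ⟨algebraMap _ _ p, IsLocalization.lift_eq _ p⟩
  have hsub : Algebra.EssFiniteType.subalgebra R S ≤ Fr := by
    refine Algebra.adjoin_le fun x hx => ?_
    rw [← hs] at hx
    have hg : y x ∈ φ.range := by
      have := hrange (MvPolynomial.X (s.equivFin ⟨x, hx⟩))
      simpa [Φ, gen] using this
    by_cases h : IsLocalRing.residue S x ∈ V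
    · simp only [y, if_pos h] at hg
      exact ⟨x, 1, hg, one_mem _, isUnit_one, mul_one _⟩
    · simp only [y, if_neg h] at hg
      have hu : IsUnit x := (IsLocalRing.residue_ne_zero_iff_isUnit x).1 fun h0 => h (h0 ▸ zero_mem _)
      exact ⟨1, Ring.inverse x, one_mem _, hg, hu.ringInverse, Ring.mul_inverse_cancel _ hu⟩
  constructor; constructor
  · exact fun t => t.2
  · intro z
    obtain ⟨⟨⟨a, ha⟩, ⟨⟨b, hb⟩, hbu⟩⟩, hz⟩ := (Algebra.EssFiniteType.isLocalization (R := R) (S := S)).surj (Algebra.EssFiniteType.submonoid R S) z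
    obtain ⟨a1, a2, ha1, ha2, hau, haeq⟩ := hsub ha
    obtain ⟨b1, b2, hb1, hb2, hbu2, hbeq⟩ := hsub hb
    have hub1 : IsUnit b1 := hbeq ▸ (show IsUnit b from hbu).mul hbu2
    refine ⟨⟨⟨a1 * b2, mul_mem ha1 hb2⟩, ⟨⟨b1 * a2, mul_mem hb1 ha2⟩, hub1.mul hau⟩⟩, ?_⟩
    show z * (b1 * a2) = a1 * b2
    rw [← haeq, ← hbeq, show a = z * b from hz.symm]
    ring
  · exact fun {x y} e => ⟨1, by rw [Subtype.ext (show (x : S) = y from e)]⟩

end Groth.Agent.S9655
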