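import Groth.Statements.S9656
import Mathlib.RingTheory.IntegralClosure.IsIntegral.Basic
import Mathlib.Algebra.Ring.Pi
import Mathlib.Algebra.Polynomial.Monic
-- import your own Groth.Agent.* helpers here

set_option autoImplicit false
universe u
open CAlg

namespace Groth.Agent.S9656

/-- Let R_i → S_i be ring maps indexed by a finite type ι, with product map R = Π R_i → S = Π S_i. Then
an element (s_i) of S is integral over R exactly when s_i is integral over R_i for every i; so
integral closure in a finite product is computed factor by factor. -/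
theorem result {ι : Type u} [Fintype ι] {R S : ι → Type u} [∀ i, CommRing (R i)] [∀ i, CommRing (S i)] (f : ∀ i, R i →+* S i) (s : ∀ i, S i) :
    (RingHom.pi fun i => (f i).comp (Pi.evalRingHom R i)).IsIntegralElem s ↔ ∀ i, (f i).IsIntegralElem (s i) := by
  classical
  constructor
  · rintro ⟨p, hp, he⟩ i
    refine ⟨p.map (Pi.evalRingHom R i), hp.map _, ?_⟩
    rw [Polynomial.eval₂_map]
    have := congr_arg (Pi.evalRingHom S i) he
    rwa [Polynomial.hom_eval₂, map_zero] at this
  · intro h
    choose p hp he using h
    let N := Finset.univ.sup fun i => (p i).natDegree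
    let P : Polynomial (∀ i, R i) := Polynomial.X ^ N +
      ∑ k ∈ Finset.range N, Polynomial.C (fun i => (p i * Polynomial.X ^ (N - (p i).natDegree)).coeff k) * Polynomial.X ^ k
    refine ⟨P, Polynomial.monic_X_pow_add (?_), funext fun i => ?_⟩
    · exact lt_of_le_of_lt (Polynomial.degree_sum_le _ _) ((Finset.sup_lt_iff (WithBot.bot_lt_coe N)).mpr fun k hk =>
        lt_of_le_of_lt (Polynomial.degree_C_mul_X_pow_le k _) (WithBot.coe_lt_coe.mpr (Finset.mem_range.mp hk)))
    · change Pi.evalRingHom S i (Polynomial.eval₂ _ s P) = 0
      rw [Polynomial.hom_eval₂, show (Pi.evalRingHom S i).comp (RingHom.pi fun i => (f i).comp (Pi.evalRingHom R i)) =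
        (f i).comp (Pi.evalRingHom R i) from RingHom.ext fun _ => rfl, ← Polynomial.eval₂_map]
      have hm : P.map (Pi.evalRingHom R i) = p i * Polynomial.X ^ (N - (p i).natDegree) := by
        rcases subsingleton_or_nontrivial (R i) with hR | hR
        · exact Subsingleton.elim _ _
        have hd : (p i * Polynomial.X ^ (N - (p i).natDegree)).natDegree = N := by
          rw [(hp i).natDegree_mul (Polynomial.monic_X_pow _), Polynomial.natDegree_X_pow]
          have : (p i).natDegree ≤ N := Finset.le_sup (f := fun i => (p i).natDegree) (Finset.mem_univ i)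
          omega
        conv_rhs => rw [((hp i).mul (Polynomial.monic_X_pow _)).as_sum, hd]
        simp only [P, Polynomial.map_add, Polynomial.map_pow, Polynomial.map_X, Polynomial.map_sum, Polynomial.map_mul,
          Polynomial.map_C, Pi.evalRingHom_apply]
      rw [hm, Polynomial.eval₂_mul, Pi.evalRingHom_apply, he, zero_mul]

end Groth.Agent.S9656
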