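import Groth.Statements.S9658
import Mathlib
import Mathlib
-- import your own Groth.Agent.* helpers here

set_option autoImplicit false
universe u
open CAlg

namespace Groth.Agent.S9658

/-- Let R be a ring, f_1, …, f_n ∈ R generating the unit ideal and M an R-module. With M_i = M_{f_i},
M_ij = M_{f_i f_j} (any localizations, with the canonical compatible maps M → M_i → M_ij), the
sequence 0 → M → ⊕ M_i → ⊕ M_ij is exact: an element of M whose image vanishes in every M_i is zero,
and every family (m_i ∈ M_i) such that m_i and m_j have the same image in M_ij for all i, j is the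
image of an element of M. -/
theorem result {R : Type u} [CommRing R] {ι : Type u} [Fintype ι] (f : ι → R) (hf : Ideal.span (Set.range f) = ⊤)
    (M : Type u) [AddCommGroup M] [Module R M]
    (Mi : ι → Type u) [∀ i, AddCommGroup (Mi i)] [∀ i, Module R (Mi i)] (g : ∀ i, M →ₗ[R] Mi i) [∀ i, IsLocalizedModule (Submonoid.powers (f i)) (g i)]
    (Mij : ι → ι → Type u) [∀ i j, AddCommGroup (Mij i j)] [∀ i j, Module R (Mij i j)] (gij : ∀ i j, M →ₗ[R] Mij i j) [∀ i j, IsLocalizedModule (Submonoid.powers (f i * f j)) (gij i j)]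
    (ρ₁ : ∀ i j, Mi i →ₗ[R] Mij i j) (hρ₁ : ∀ i j, ρ₁ i j ∘ₗ g i = gij i j) (ρ₂ : ∀ i j, Mi j →ₗ[R] Mij i j) (hρ₂ : ∀ i j, ρ₂ i j ∘ₗ g j = gij i j) :
    (∀ m : M, (∀ i, g i m = 0) → m = 0) ∧
      ∀ s : ∀ i, Mi i, (∀ i j, ρ₁ i j (s i) = ρ₂ i j (s j)) → ∃ m : M, ∀ i, g i m = s i := by
  classical
  haveI : Finite ι := inferInstance
  have hspan : ∀ N : ℕ, Ideal.span (Set.range fun i => f i ^ N) = ⊤ := fun N => by
    have h := Ideal.span_pow_eq_top _ hf N
    rwa [← Set.range_comp] at h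
  constructor
  · intro m hm
    have hN : ∀ i, ∃ N, ∀ M', N ≤ M' → f i ^ M' • m = 0 := fun i => by
      obtain ⟨⟨_, N, rfl⟩, h⟩ := (IsLocalizedModule.eq_zero_iff (Submonoid.powers (f i)) (g i)).1 (hm i)
      refine ⟨N, fun M' hM' => ?_⟩
      rw [← Nat.sub_add_cancel hM', pow_add, mul_smul, show f i ^ N • m = 0 from h, smul_zero]
    choose N hN using hN
    obtain ⟨a, ha⟩ := Ideal.mem_span_range_iff_exists_fun.1
      (show (1 : R) ∈ Ideal.span (Set.range fun i => f i ^ (∑ j, N j)) by rw [hspan]; trivial)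
    rw [← one_smul R m, ← ha, Finset.sum_smul]
    refine Finset.sum_eq_zero fun i _ => ?_
    rw [mul_smul, hN i _ (Finset.single_le_sum (f := N) (fun _ _ => Nat.zero_le _) (Finset.mem_univ i)), smul_zero]
  intro s hs
  have hrep : ∀ i, ∃ n, ∀ N, n ≤ N → ∃ m, g i m = f i ^ N • s i := fun i => by
    obtain ⟨⟨m, ⟨_, n, rfl⟩⟩, h⟩ := IsLocalizedModule.surj (Submonoid.powers (f i)) (g i) (s i)
    refine ⟨n, fun N hN => ⟨f i ^ (N - n) • m, ?_⟩⟩
    rw [map_smul, ← h]
    show f i ^ (N - n) • (f i ^ n • s i) = _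
    rw [smul_smul, ← pow_add, Nat.sub_add_cancel hN]
  choose n hn using hrep
  set N := ∑ j, n j
  choose m hm using fun i => hn i N (Finset.single_le_sum (f := n) (fun _ _ => Nat.zero_le _) (Finset.mem_univ i))
  have hcomp : ∀ i j, ∃ K, ∀ K', K ≤ K' → (f i * f j) ^ K' • (f j ^ N • m i - f i ^ N • m j) = 0 := fun i j => by
    have h0 : gij i j (f j ^ N • m i - f i ^ N • m j) = 0 := by
      rw [map_sub, map_smul, map_smul, sub_eq_zero]
      conv_lhs => rw [← hρ₁ i j, LinearMap.comp_apply, hm, map_smul, hs]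
      conv_rhs => rw [← hρ₂ i j, LinearMap.comp_apply, hm, map_smul]
      exact smul_comm _ _ _
    obtain ⟨⟨_, K, rfl⟩, h⟩ := (IsLocalizedModule.eq_zero_iff (Submonoid.powers (f i * f j)) (gij i j)).1 h0
    refine ⟨K, fun K' hK' => ?_⟩
    rw [← Nat.sub_add_cancel hK', pow_add, mul_smul]
    exact (congrArg (_ • ·) h).trans (smul_zero _)
  choose K hK using hcomp
  set L := ∑ i, ∑ j, K i j
  obtain ⟨a, ha⟩ := Ideal.mem_span_range_iff_exists_fun.1
    (show (1 : R) ∈ Ideal.span (Set.range fun i => f i ^ (N + L)) by rw [hspan]; trivial)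
  refine ⟨∑ j, (a j * f j ^ L) • m j, fun i => ?_⟩
  have key : f i ^ (N + L) • (∑ j, (a j * f j ^ L) • m j) = f i ^ L • m i := by
    conv_rhs => rw [← one_smul R (f i ^ L • m i), ← ha, Finset.sum_smul]
    rw [Finset.smul_sum]
    refine Finset.sum_congr rfl fun j _ => ?_
    have h := hK i j L ((Finset.single_le_sum (f := K i) (fun _ _ => Nat.zero_le _) (Finset.mem_univ j)).trans
      (Finset.single_le_sum (f := fun i => ∑ j, K i j) (fun _ _ => Nat.zero_le _) (Finset.mem_univ i)))
    rw [smul_sub, smul_smul, smul_smul, sub_eq_zero] at h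
    have h' := congrArg (a j • ·) h
    simp only [smul_smul] at h' ⊢
    convert h'.symm using 2 <;> ring
  have h := congrArg (g i) key
  rw [map_smul, map_smul, hm, smul_smul, ← pow_add, add_comm L N] at h
  refine ((Module.End.isUnit_iff _).1 (IsLocalizedModule.map_units (S := Submonoid.powers (f i)) (g i) ⟨f i ^ (N + L), N + L, rfl⟩)).1 ?_
  exact h

end Groth.Agent.S9658
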