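import Groth.Statements.S9659
import Mathlib.RingTheory.GradedAlgebra.Radical
import Mathlib.RingTheory.Spectrum.Prime.Topology
-- import your own Groth.Agent.* helpers here

set_option autoImplicit false
universe u
open CAlg

namespace Groth.Agent.S9659

/-- Let S be a ℤ-graded ring which contains an invertible homogeneous element of positive degree. Then
the set of homogeneous prime ideals of S, with the topology induced from Spec(S), maps
homeomorphically onto Spec(S₀) by p ↦ p ∩ S₀. -/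
theorem result {R S : Type u} [CommRing R] [CommRing S] [Algebra R S] (𝒜 : ℤ → Submodule R S) [GradedAlgebra 𝒜]
    (f : S) (d : ℤ) (hd : 0 < d) (hf : f ∈ 𝒜 d) (hu : IsUnit f) :
    IsHomeomorph (fun p : {p : PrimeSpectrum S // p.asIdeal.IsHomogeneous 𝒜} => PrimeSpectrum.comap (SetLike.GradeZero.subring 𝒜).subtype p.1) := by
  classical
  let S0 := SetLike.GradeZero.subring 𝒜
  obtain ⟨u, rfl⟩ := hu
  have huinv : ((u⁻¹ : Sˣ) : S) ∈ 𝒜 (-d) := by
    rw [← DirectSum.sum_support_decompose 𝒜 ((u⁻¹ : Sˣ) : S)]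
    refine Submodule.sum_mem _ fun j _ => ?_
    by_cases hj : j = -d
    · subst hj; exact SetLike.coe_mem _
    · have h1 : (u : S) * (DirectSum.decompose 𝒜 ((u⁻¹ : Sˣ) : S) j : S) = 0 := by
        rw [← DirectSum.coe_decompose_mul_add_of_left_mem 𝒜 hf, Units.mul_inv,
          DirectSum.decompose_of_mem_ne 𝒜 (SetLike.GradedOne.one_mem) (by omega)]
      rw [(Units.mul_right_eq_zero u).1 h1]
      exact Submodule.zero_mem _
  have hpow : ∀ n : ℤ, ((u ^ n : Sˣ) : S) ∈ 𝒜 (n * d) := fun n => by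
    rcases n with k | k
    · simpa using SetLike.pow_mem_graded k hf
    · have := SetLike.pow_mem_graded (k + 1) huinv
      simp only [zpow_negSucc, Units.val_pow_eq_pow_val, ← inv_pow]
      convert this using 2
      rw [nsmul_eq_mul, Int.negSucc_eq]; push_cast; ring
  let D : ℕ := d.toNat
  have hD : (D : ℤ) = d := Int.toNat_of_nonneg hd.le
  have hD0 : D ≠ 0 := by omega
  let e : S → ℤ → S0 := fun x n => ⟨(DirectSum.decompose 𝒜 x n : S) ^ D * ((u ^ (-n) : Sˣ) : S), by
    have := SetLike.GradedMul.mul_mem (SetLike.pow_mem_graded D (SetLike.coe_mem (DirectSum.decompose 𝒜 x n))) (hpow (-n))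
    show _ ∈ 𝒜 0
    convert this using 2
    rw [nsmul_eq_mul, hD]; ring⟩
  have he : ∀ (P : Ideal S) [P.IsPrime] (x : S) (n : ℤ),
      e x n ∈ P.comap S0.subtype ↔ (DirectSum.decompose 𝒜 x n : S) ∈ P := fun P hP x n => by
    show (DirectSum.decompose 𝒜 x n : S) ^ D * ((u ^ (-n) : Sˣ) : S) ∈ P ↔ _
    rw [Ideal.mul_unit_mem_iff_mem P (Units.isUnit _), hP.pow_mem_iff_mem D (Nat.pos_of_ne_zero hD0)]
  have hmem : ∀ (P : Ideal S), P.IsHomogeneous 𝒜 → ∀ x : S, x ∈ P ↔ ∀ n : ℤ, (DirectSum.decompose 𝒜 x n : S) ∈ P :=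
    fun P hP x => ⟨fun hx n => hP n hx, fun hx => by
      rw [← DirectSum.sum_support_decompose 𝒜 x]; exact Ideal.sum_mem _ fun n _ => hx n⟩
  let F := fun p : {p : PrimeSpectrum S // p.asIdeal.IsHomogeneous 𝒜} => PrimeSpectrum.comap S0.subtype p.1
  have hcont : Continuous F := (PrimeSpectrum.continuous_comap _).comp continuous_subtype_val
  have hinj : Function.Injective F := by
    intro p p' h
    refine Subtype.ext (PrimeSpectrum.ext (Ideal.ext fun x => ?_))
    have h' : p.1.asIdeal.comap S0.subtype = p'.1.asIdeal.comap S0.subtype := congrArg PrimeSpectrum.asIdeal h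
    rw [hmem _ p.2, hmem _ p'.2]
    exact forall_congr' fun n => by rw [← he _ x n, ← he _ x n, h']
  have hsurj : Function.Surjective F := fun q => by
    let I : Ideal S := q.asIdeal.map S0.subtype
    have hI : I.IsHomogeneous 𝒜 := Ideal.homogeneous_span 𝒜 _ (by
      rintro _ ⟨a, -, rfl⟩
      exact ⟨0, a.2⟩)
    have hcomp : ∀ x ∈ I, ∀ c : S,
        (⟨(DirectSum.decompose 𝒜 (c * x) 0 : S), SetLike.coe_mem _⟩ : S0) ∈ q.asIdeal := by
      intro x hx
      induction hx using Submodule.span_induction with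
      | mem x hx =>
        obtain ⟨a, ha, rfl⟩ := hx
        intro c
        have : (⟨(DirectSum.decompose 𝒜 (c * S0.subtype a) 0 : S), SetLike.coe_mem _⟩ : S0) =
            ⟨(DirectSum.decompose 𝒜 c 0 : S), SetLike.coe_mem _⟩ * a := Subtype.ext (by
          have := DirectSum.coe_decompose_mul_add_of_right_mem 𝒜 (a := c) (i := (0 : ℤ)) (a.2 : (a : S) ∈ 𝒜 0)
          rw [zero_add] at this
          exact this)
        rw [this]
        exact Ideal.mul_mem_left _ _ ha
      | zero =>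
        intro c
        convert q.asIdeal.zero_mem using 1
        exact Subtype.ext (by simp)
      | add x y _ _ hx hy =>
        intro c
        convert add_mem (hx c) (hy c) using 1
        exact Subtype.ext (by simp only [mul_add, DirectSum.decompose_add, DirectSum.add_apply]; rfl)
      | smul r x _ hx =>
        intro c
        convert hx (c * r) using 4
        rw [smul_eq_mul, mul_assoc]
    have hIq : ∀ a : S0, (a : S) ∈ I → a ∈ q.asIdeal := fun a ha => by
      convert hcomp _ ha 1 using 1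
      exact Subtype.ext (by rw [one_mul]; exact (DirectSum.decompose_of_mem_same 𝒜 a.2).symm)
    obtain ⟨P, hP, hIP, hdisj⟩ := I.exists_le_prime_disjoint (q.asIdeal.primeCompl.map S0.subtype) (by
      rw [Set.disjoint_left]
      rintro _ hx ⟨a, ha, rfl⟩
      exact ha (hIq a hx))
    refine ⟨⟨⟨(P.homogeneousCore 𝒜).toIdeal, hP.homogeneousCore⟩, (P.homogeneousCore 𝒜).isHomogeneous⟩,
      PrimeSpectrum.ext (Ideal.ext fun a => ⟨fun ha => ?_, fun ha => ?_⟩)⟩
    · by_contra hn
      exact Set.disjoint_left.1 hdisj (Ideal.toIdeal_homogeneousCore_le 𝒜 P ha) ⟨a, hn, rfl⟩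
    · exact Ideal.mem_homogeneousCore_of_homogeneous_of_mem ⟨0, a.2⟩ (hIP (Ideal.mem_map_of_mem _ ha))
  refine ⟨hcont, ?_, hinj, hsurj⟩
  intro U hU
  obtain ⟨V, hV, rfl⟩ := isOpen_induced_iff.1 hU
  refine isOpen_iff_forall_mem_open.2 ?_
  rintro _ ⟨p, hp, rfl⟩
  obtain ⟨_, ⟨x, rfl⟩, hxp, hxV⟩ := PrimeSpectrum.isTopologicalBasis_basic_opens.exists_subset_of_mem_open hp hV
  obtain ⟨n, hn⟩ : ∃ n : ℤ, (DirectSum.decompose 𝒜 x n : S) ∉ p.1.asIdeal := by
    by_contra hne
    push Not at hne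
    exact (PrimeSpectrum.mem_basicOpen _ _).1 hxp ((hmem _ p.2 x).2 hne)
  refine ⟨PrimeSpectrum.basicOpen (e x n), fun q hq => ?_, PrimeSpectrum.isOpen_basicOpen, fun h => hn ((he _ x n).1 h)⟩
  obtain ⟨p', rfl⟩ := hsurj q
  exact ⟨p', hxV fun hx' => hq ((he _ x n).2 ((hmem _ p'.2 x).1 hx' n)), rfl⟩

end Groth.Agent.S9659
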