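import Groth.Statements.S9660
import Mathlib.RingTheory.GradedAlgebra.Radical
import Mathlib.AlgebraicGeometry.ProjectiveSpectrum.Topology
-- import your own Groth.Agent.* helpers here

set_option autoImplicit false
universe u
open CAlg

namespace Groth.Agent.S9660

/-- Let S be an ℕ-graded ring and I a homogeneous ideal of S. Then V₊(I) ⊆ Proj(S) is empty if and only
if S₊ ⊆ √I. -/
theorem result {R S : Type u} [CommRing R] [CommRing S] [Algebra R S] (𝒜 : ℕ → Submodule R S) [GradedAlgebra 𝒜] (I : HomogeneousIdeal 𝒜) :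
    ProjectiveSpectrum.zeroLocus 𝒜 (I : Set S) = ∅ ↔ (HomogeneousIdeal.irrelevant 𝒜).toIdeal ≤ I.toIdeal.radical := by
  constructor
  · intro h
    rw [Ideal.radical_eq_sInf]
    refine le_sInf fun P ⟨hIP, hP⟩ => ?_
    by_contra hc
    have hle : I.toIdeal ≤ (P.homogeneousCore 𝒜).toIdeal := by
      rw [← I.toIdeal_homogeneousCore_eq_self]
      exact Ideal.homogeneousCore_mono 𝒜 hIP
    let x : ProjectiveSpectrum 𝒜 := ⟨P.homogeneousCore 𝒜, hP.homogeneousCore,
      fun hle' => hc (le_trans hle' (Ideal.toIdeal_homogeneousCore_le 𝒜 P))⟩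
    exact (Set.eq_empty_iff_forall_notMem.mp h x) hle
  · intro h
    refine Set.eq_empty_iff_forall_notMem.mpr fun x hx => x.not_irrelevant_le ?_
    exact h.trans (x.isPrime.radical_le_iff.mpr hx)

end Groth.Agent.S9660
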