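import Groth.Statements.S9661
import Groth.Agent.GradedHilbLib.Components

set_option autoImplicit false
universe u
attribute [local instance] MvPolynomial.gradedAlgebra
open CAlg

namespace Groth.Agent.S9661

/-- Let k be a field, d ≥ 1, and I a nonzero homogeneous ideal of the standard-graded polynomial ring
k[X_1, …, X_d]; put M = k[X_1, …, X_d]/I. Then the function n ↦ dim_k M_n (equal to dim_k of the
degree-n part of the polynomial ring minus dim_k of the degree-n part of I) coincides for all large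
n with a polynomial of degree < d - 1, the zero polynomial if d = 1. -/
theorem result {k : Type u} [Field k] (d : ℕ) (hd : 0 < d)
    (I : HomogeneousIdeal (MvPolynomial.homogeneousSubmodule (Fin d) k)) (hI : I ≠ ⊥) :
    ∃ P : Polynomial ℚ, P.degree < ((d - 1 : ℕ) : WithBot ℕ) ∧ ∃ N : ℕ, ∀ n : ℕ, N ≤ n →
      ((Module.finrank k ↥(MvPolynomial.homogeneousSubmodule (Fin d) k n) : ℚ) -
        (Module.finrank k ↥(I.toIdeal.restrictScalars k ⊓ MvPolynomial.homogeneousSubmodule (Fin d) k n) : ℚ)) = P.eval (n : ℚ) := by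
  open GradedHilbLib Polynomial in
  obtain ⟨n, rfl⟩ : ∃ n, d = n + 1 := ⟨d - 1, by omega⟩
  have hIh : I.toIdeal.IsHomogeneous (CohB1.polyGrading n k) := I.2
  refine ⟨hilb I.toIdeal, ?_, Filter.eventually_atTop.1 (isHP_hilb hIh)⟩
  have hbot : (⊥ : Ideal (MvPolynomial (Fin (n + 1)) k)).IsHomogeneous (CohB1.polyGrading n k) :=
    Ideal.IsHomogeneous.bot _
  have : (⊥ : Ideal (MvPolynomial (Fin (n + 1)) k)).IsPrime := Ideal.isPrime_bot
  have hne : I.toIdeal ≠ ⊥ := fun h => hI (HomogeneousIdeal.toIdeal_injective (h.trans HomogeneousIdeal.toIdeal_bot.symm))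
  obtain ⟨e, g, hg, hgI, hg0⟩ := exists_homogeneous_notMem (p := (⊥ : Ideal (MvPolynomial (Fin (n + 1)) k))) hIh
    (fun h => hne (le_bot_iff.1 h))
  have hmono := degree_hilb_mono (sup_span_isHomogeneous hbot hg) hIh
    (sup_le bot_le ((Ideal.span_singleton_le_iff_mem _).2 hgI))
  rw [← eq_hilb ((isHP_hilb hbot).sup_span_prime hbot hg hg0)] at hmono
  by_cases h0 : hilb (⊥ : Ideal (MvPolynomial (Fin (n + 1)) k)) = 0
  · rw [h0, zero_comp, sub_zero, degree_zero, le_bot_iff] at hmono
    rw [hmono]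
    exact WithBot.bot_lt_coe _
  refine hmono.trans_lt ((degree_sub_comp_lt h0 _).trans_le ?_)
  have hdim := (ringKrullDim_quotient hbot bot_ne_top).2 h0
  rw [ringKrullDim_eq_of_ringEquiv (RingEquiv.quotientBot _),
    MvPolynomial.ringKrullDim_of_isNoetherianRing, ringKrullDim_eq_zero_of_field, zero_add] at hdim
  have hdim' : n + 1 = (hilb (⊥ : Ideal (MvPolynomial (Fin (n + 1)) k))).natDegree + 1 := by
    simp only [Fintype.card_fin, Nat.card_eq_fintype_card] at hdim
    exact_mod_cast hdim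
  rw [degree_eq_natDegree h0, show n + 1 - 1 = (hilb (⊥ : Ideal (MvPolynomial (Fin (n + 1)) k))).natDegree by omega]

end Groth.Agent.S9661
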