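import Groth.Statements.S9663
import Mathlib.Algebra.Module.LocalizedModule.Basic


-- import your own Groth.Agent.* helpers here

set_option autoImplicit false
universe u
open CAlg

namespace Groth.Agent.S9663

/-- Let R be a ring and f_i, i in a finite index set, elements of R (no condition on the ideal they
generate). Suppose given for each i an R-module M_i on which f_i acts invertibly, for each pair (i,
j) an R-linear isomorphism ψ_ij : (M_i)_{f_j} → (M_j)_{f_i}, and suppose the cocycle condition ψ_jk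
∘ ψ_ij = ψ_ik holds as maps (M_i)_{f_j f_k} → (M_k)_{f_i f_j} for all triples (i, j, k). All
localizations are given through their universal properties: (M_i)_{f_j} with its map g from M_i;
(M_i)_{f_j f_k} with its map t from M_i and the compatible maps u from (M_i)_{f_j} and v from
(M_i)_{f_k}; and the three localized isomorphisms Ψ₁ (ψ_ij on (M_i)_{f_j f_k}), Ψ₂ (ψ_jk on
(M_j)_{f_i f_k}) and Ψ₃ (ψ_ik on (M_i)_{f_j f_k}) are given as maps compatible with the ψ's. Let M ⊆
Π_i M_i be the submodule of families (m_i) with m_i/1 = ψ_ji(m_j/1) in (M_i)_{f_j} for all i, j.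
Then for each i the projection M → M_i exhibits M_i as the localization of M at f_i. -/
theorem result {R : Type u} [CommRing R] {ι : Type u} [Finite ι] (f : ι → R)
    (Mi : ι → Type u) [∀ i, AddCommGroup (Mi i)] [∀ i, Module R (Mi i)]
    (hMi : ∀ i, IsUnit (algebraMap R (Module.End R (Mi i)) (f i)))
    (Mij : ι → ι → Type u) [∀ i j, AddCommGroup (Mij i j)] [∀ i j, Module R (Mij i j)]
    (g : ∀ i j, Mi i →ₗ[R] Mij i j) [∀ i j, IsLocalizedModule (Submonoid.powers (f j)) (g i j)]
    (ψ : ∀ i j, Mij i j ≃ₗ[R] Mij j i)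
    (T : ι → ι → ι → Type u) [∀ i j k, AddCommGroup (T i j k)] [∀ i j k, Module R (T i j k)]
    (t : ∀ i j k, Mi i →ₗ[R] T i j k) [∀ i j k, IsLocalizedModule (Submonoid.powers (f j * f k)) (t i j k)]
    (u : ∀ i j k, Mij i j →ₗ[R] T i j k) (hu : ∀ i j k, u i j k ∘ₗ g i j = t i j k)
    (v : ∀ i j k, Mij i k →ₗ[R] T i j k) (hv : ∀ i j k, v i j k ∘ₗ g i k = t i j k)
    (Ψ₁ : ∀ i j k, T i j k →ₗ[R] T j i k) (hΨ₁ : ∀ i j k, Ψ₁ i j k ∘ₗ u i j k = u j i k ∘ₗ (ψ i j).toLinearMap)
    (Ψ₂ : ∀ i j k, T j i k →ₗ[R] T k i j) (hΨ₂ : ∀ i j k, Ψ₂ i j k ∘ₗ v j i k = v k i j ∘ₗ (ψ j k).toLinearMap)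
    (Ψ₃ : ∀ i j k, T i j k →ₗ[R] T k i j) (hΨ₃ : ∀ i j k, Ψ₃ i j k ∘ₗ v i j k = u k i j ∘ₗ (ψ i k).toLinearMap)
    (hcoc : ∀ i j k, Ψ₂ i j k ∘ₗ Ψ₁ i j k = Ψ₃ i j k)
    (M : Submodule R (∀ i, Mi i)) (hM : ∀ m : ∀ i, Mi i, m ∈ M ↔ ∀ i j, g i j (m i) = ψ j i (g j i (m j))) (i : ι) :
    IsLocalizedModule (Submonoid.powers (f i)) ((LinearMap.proj i).comp M.subtype : ↥M →ₗ[R] Mi i) := by
  classical
  have := Fintype.ofFinite ι
  have hpow : ∀ a (n : ℕ), IsUnit (algebraMap R (Module.End R (Mi a)) (f a ^ n)) := fun a n => by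
    rw [map_pow]; exact (hMi a).pow n
  have hginj : ∀ a, Function.Injective (g a a) := fun a x y h => by
    obtain ⟨⟨_, n, rfl⟩, hc⟩ := IsLocalizedModule.exists_of_eq (S := Submonoid.powers (f a)) h
    exact ((Module.End.isUnit_iff _).1 (hpow a n)).1 hc
  have hgsurj : ∀ a, Function.Surjective (g a a) := fun a z => by
    obtain ⟨⟨y, ⟨_, n, rfl⟩⟩, hz⟩ := IsLocalizedModule.surj (Submonoid.powers (f a)) (g a a) z
    obtain ⟨w, hw⟩ := ((Module.End.isUnit_iff _).1 (hpow a n)).2 y
    refine ⟨w, ((Module.End.isUnit_iff _).1 (IsLocalizedModule.map_units (S := Submonoid.powers (f a))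
      (g a a) ⟨_, n, rfl⟩)).1 ?_⟩
    simp only [Module.algebraMap_end_apply] at hw ⊢
    rw [← map_smul, hw]
    exact hz.symm
  have huv : ∀ a b c x, u a b c (g a b x) = t a b c x := fun a b c x => LinearMap.congr_fun (hu a b c) x
  have hvt : ∀ a b c x, v a b c (g a c x) = t a b c x := fun a b c x => LinearMap.congr_fun (hv a b c) x
  have h1 : ∀ a b c z, Ψ₁ a b c (u a b c z) = u b a c (ψ a b z) := fun a b c z => LinearMap.congr_fun (hΨ₁ a b c) z
  have h2 : ∀ a b c z, Ψ₂ a b c (v b a c z) = v c a b (ψ b c z) := fun a b c z => LinearMap.congr_fun (hΨ₂ a b c) z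
  have h3 : ∀ a b c z, Ψ₃ a b c (v a b c z) = u c a b (ψ a c z) := fun a b c z => LinearMap.congr_fun (hΨ₃ a b c) z
  have hψ : ∀ a z, ψ a a z = z := fun a z => by
    have huveq : ∀ w, u a a a w = v a a a w := fun w => by
      obtain ⟨x, rfl⟩ := hgsurj a w
      rw [huv, hvt]
    have huinj : Function.Injective (u a a a) := fun z w h => by
      obtain ⟨x, rfl⟩ := hgsurj a z
      obtain ⟨y, rfl⟩ := hgsurj a w
      rw [huv, huv] at h
      obtain ⟨⟨_, n, rfl⟩, hc⟩ := IsLocalizedModule.exists_of_eq (S := Submonoid.powers (f a * f a)) h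
      rw [((Module.End.isUnit_iff (algebraMap R (Module.End R (Mi a)) ((f a * f a) ^ n))).1 (by
        rw [map_pow, map_mul]; exact ((hMi a).mul (hMi a)).pow n)).1 hc]
    apply (ψ a a).injective
    apply huinj
    have := LinearMap.congr_fun (hcoc a a a) (u a a a z)
    rw [LinearMap.comp_apply, h1, huveq z, h3, huveq (ψ a a z), h2, ← huveq] at this
    exact this.trans (huveq _).symm
  refine { map_units := ?_, surj := ?_, exists_of_eq := ?_ }
  · rintro ⟨_, n, rfl⟩; exact hpow i n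
  · intro m
    choose p hp using fun j => IsLocalizedModule.surj (Submonoid.powers (f i)) (g j i) (ψ i j (g i j m))
    choose n hn using fun j => (p j).2.2
    let N := ∑ j, n j
    let x : ∀ j, Mi j := fun j => f i ^ (N - n j) • (p j).1
    have hx : ∀ j, g j i (x j) = ψ i j (g i j (f i ^ N • m)) := fun j => by
      simp only [x, map_smul]
      rw [← hp j, Submonoid.smul_def, ← show f i ^ n j = _ from hn j, smul_smul, ← pow_add,
        Nat.sub_add_cancel (Finset.single_le_sum (f := n) (fun _ _ => Nat.zero_le _) (Finset.mem_univ j))]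
    have hd : ∀ j k, ∃ e : ℕ, f i ^ e • (ψ j k (g j k (x j)) - g k j (x k)) = 0 := fun j k => by
      have e1 : Ψ₁ i j k (t i j k (f i ^ N • m)) = t j i k (x j) := by
        rw [← huv, h1, ← hx, huv]
      have e3 : Ψ₃ i j k (t i j k (f i ^ N • m)) = t k i j (x k) := by
        rw [← hvt, h3, ← hx, huv]
      have e : v k i j (ψ j k (g j k (x j)) - g k j (x k)) = 0 := by
        rw [map_sub, ← h2, hvt, hvt, ← e1, ← LinearMap.comp_apply, hcoc, e3, sub_self]
      obtain ⟨⟨z, ⟨_, a, rfl⟩⟩, hz⟩ := IsLocalizedModule.surj (Submonoid.powers (f j)) (g k j)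
        (ψ j k (g j k (x j)) - g k j (x k))
      simp only [Submonoid.smul_def] at hz
      have htz : t k i j z = 0 := by rw [← hvt, ← hz, map_smul, e, smul_zero]
      obtain ⟨⟨_, b, rfl⟩, hb⟩ := (IsLocalizedModule.eq_zero_iff (Submonoid.powers (f i * f j)) _).1 htz
      refine ⟨b, ((Module.End.isUnit_iff _).1 (IsLocalizedModule.map_units (S := Submonoid.powers (f j))
        (g k j) ⟨_, b + a, rfl⟩)).1 ?_⟩
      simp only [Module.algebraMap_end_apply, smul_zero]
      simp only [Submonoid.smul_def] at hb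
      rw [pow_add, mul_smul, smul_comm (f j ^ a), hz, smul_smul, ← map_smul, mul_comm, ← mul_pow, hb, map_zero]
    choose e he using hd
    let E := ∑ j, ∑ k, e j k
    have hle : ∀ j k, e j k ≤ E := fun j k =>
      (Finset.single_le_sum (f := e j) (fun _ _ => Nat.zero_le _) (Finset.mem_univ k)).trans
        (Finset.single_le_sum (f := fun j => ∑ k, e j k) (fun _ _ => Nat.zero_le _) (Finset.mem_univ j))
    have hmem : (fun j => f i ^ E • x j) ∈ M := by
      rw [hM]
      intro a b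
      have : f i ^ E • (ψ b a (g b a (x b)) - g a b (x a)) = 0 := by
        rw [← Nat.sub_add_cancel (hle b a), pow_add, mul_smul, he, smul_zero]
      rw [smul_sub, sub_eq_zero] at this
      simp only [map_smul]
      exact this.symm
    refine ⟨⟨⟨_, hmem⟩, ⟨f i ^ (E + N), E + N, rfl⟩⟩, ?_⟩
    show f i ^ (E + N) • m = f i ^ E • x i
    rw [show x i = f i ^ N • m from hginj i ((hx i).trans (hψ i _)), smul_smul, pow_add]
  · intro a b hab
    have hz : ∀ j, ∃ n : ℕ, f i ^ n • ((a : ∀ j, Mi j) j - (b : ∀ j, Mi j) j) = 0 := fun j => by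
      have := (hM _).1 (sub_mem a.2 b.2) j i
      simp only [Pi.sub_apply] at this
      rw [show (a : ∀ j, Mi j) i - (b : ∀ j, Mi j) i = 0 from sub_eq_zero.2 hab, map_zero, map_zero] at this
      obtain ⟨⟨_, n, rfl⟩, hn⟩ := (IsLocalizedModule.eq_zero_iff (Submonoid.powers (f i)) _).1 this
      exact ⟨n, hn⟩
    choose n hn using hz
    refine ⟨⟨f i ^ ∑ j, n j, _, rfl⟩, Subtype.ext (funext fun j => ?_)⟩
    have hle := Finset.single_le_sum (f := n) (fun _ _ => Nat.zero_le _) (Finset.mem_univ j)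
    show f i ^ (∑ j, n j) • (a : ∀ j, Mi j) j = f i ^ (∑ j, n j) • (b : ∀ j, Mi j) j
    rw [← sub_eq_zero, ← smul_sub, ← Nat.sub_add_cancel hle, pow_add, mul_smul, hn, smul_zero]

end Groth.Agent.S9663
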