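import Groth.Statements.S9665
import Mathlib.RingTheory.Localization.AtPrime.Basic
import Mathlib.Algebra.Module.LocalizedModule.Basic
import Mathlib.RingTheory.LocalRing.ResidueField.Fiber


-- import your own Groth.Agent.* helpers here

set_option autoImplicit false
universe u
open CAlg

namespace Groth.Agent.S9665

/-- Part (2): (A_fin ⊆ A): let R → S be a ring map, N an S-module, q a prime of S and p the prime of R
below q; an associated prime of a module is a prime ideal equal to the annihilator of some element.
If q is an associated prime of the S-module N/pN, then q is an associated prime of the S-module N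
⊗_R κ(p) (the fibre module over p, an S-module by restriction of scalars). -/
theorem result {R S : Type u} [CommRing R] [CommRing S] [Algebra R S] (N : Type u) [AddCommGroup N] [Module S N] [Module R N] [IsScalarTower R S N]
    (p : Ideal R) [p.IsPrime] (q : Ideal S) [q.IsPrime] (hq : q.comap (algebraMap R S) = p)
    (h : q ∈ FlatCA.ass S (N ⧸ (p.map (algebraMap R S)) • (⊤ : Submodule S N))) :
    q ∈ FlatCA.ass S (FlatCA.fiberMod p S N) := by
  classical
  letI : Algebra S (p.Fiber S) := Algebra.TensorProduct.rightAlgebra
  obtain ⟨hqp, m, hm⟩ := h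
  refine ⟨hqp, ?_⟩
  obtain ⟨m, rfl⟩ := Submodule.mkQ_surjective _ m
  refine ⟨FlatCA.toFiberMod p S N m, le_antisymm (fun s hs => ?_) fun s hs => ?_⟩
  · rw [Submodule.mem_annihilator_span_singleton, ← map_smul]
    have hsm : s • m ∈ (p.map (algebraMap R S)) • (⊤ : Submodule S N) := by
      rw [hm, Submodule.mem_annihilator_span_singleton, ← map_smul] at hs
      exact (Submodule.Quotient.mk_eq_zero _).1 hs
    refine (Submodule.smul_le.2 (fun a ha n _ => LinearMap.mem_ker.2 ?_) :
      (p.map (algebraMap R S)) • (⊤ : Submodule S N) ≤ LinearMap.ker (FlatCA.toFiberMod p S N)) hsm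
    rw [map_smul]
    have h1 : (p.map (algebraMap R S)) ≤ RingHom.ker (Algebra.TensorProduct.includeRight (R := R) (A := p.ResidueField) (B := S)).toRingHom := by
      refine Ideal.map_le_iff_le_comap.2 fun r hr => ?_
      show (Algebra.TensorProduct.includeRight (R := R) (A := p.ResidueField) (B := S)) (algebraMap R S r) = 0
      rw [AlgHom.commutes, Algebra.TensorProduct.algebraMap_apply, Ideal.algebraMap_residueField_eq_zero.2 hr, TensorProduct.zero_tmul]
    show a • ((1 : p.Fiber S) ⊗ₜ[S] n) = 0
    rw [TensorProduct.smul_tmul', Algebra.smul_def, mul_one]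
    erw [show (Algebra.TensorProduct.includeRight (R := R) (A := p.ResidueField) (B := S)) a = 0 from h1 ha]
    exact TensorProduct.zero_tmul _ _
  · let Q := N ⧸ (p.map (algebraMap R S)) • (⊤ : Submodule S N)
    let L := LocalizedModule p.primeCompl Q
    let ℓ := LocalizedModule.mkLinearMap p.primeCompl Q
    have hkill : ∀ (a : Localization.AtPrime p) (_ : a ∈ IsLocalRing.maximalIdeal (Localization.AtPrime p)) (z : L), a • z = 0 := by
      intro a ha z
      rw [← Localization.AtPrime.map_eq_maximalIdeal] at ha
      refine (Ideal.span_le (I := (Module.annihilator (Localization.AtPrime p) L))).2 ?_ ha |> Module.mem_annihilator.1 <| z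
      rintro _ ⟨r, hr, rfl⟩
      refine Module.mem_annihilator.2 fun w => ?_
      obtain ⟨⟨x, t⟩, rfl⟩ := IsLocalizedModule.mk'_surjective p.primeCompl ℓ w
      rw [algebraMap_smul, Function.uncurry_apply_pair, ← IsLocalizedModule.mk'_smul]
      obtain ⟨n, rfl⟩ := Submodule.mkQ_surjective _ x
      have : r • (Submodule.mkQ ((p.map (algebraMap R S)) • (⊤ : Submodule S N))) n = 0 := by
        rw [← algebraMap_smul S r, ← map_smul]
        exact (Submodule.Quotient.mk_eq_zero _).2 (Submodule.smul_mem_smul (Ideal.mem_map_of_mem _ hr) trivial)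
      rw [this, IsLocalizedModule.mk'_zero]
    let φ : Localization.AtPrime p →ₗ[R] (L →ₗ[R] L) :=
      LinearMap.mk₂ R (fun (a : Localization.AtPrime p) (z : L) => a • z) (fun a a' z => add_smul a a' z)
        (fun c a z => smul_assoc c a z) (fun a z z' => smul_add a z z') (fun c a z => smul_comm a c z)
    let res : Localization.AtPrime p →ₗ[R] p.ResidueField := (IsScalarTower.toAlgHom R (Localization.AtPrime p) p.ResidueField).toLinearMap
    have hres : Function.Surjective res := IsLocalRing.residue_surjective
    have hwd : ∀ a b, res a = res b → φ a = φ b := fun a b hab => LinearMap.ext fun z => by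
      have h1 := hkill (a - b) ((IsLocalRing.residue_eq_zero_iff _).1 ((map_sub res a b).trans (sub_eq_zero.2 hab))) z
      have h2 : a • z = b • z := by rw [← sub_add_cancel a b, add_smul, h1, zero_add]
      exact h2
    have hsi : ∀ c, res (Function.surjInv hres c) = c := Function.surjInv_eq hres
    let act : p.ResidueField →ₗ[R] (L →ₗ[R] L) :=
      { toFun := fun c => φ (Function.surjInv hres c)
        map_add' := fun c c' => by rw [← map_add]; exact hwd _ _ (by simp only [map_add, hsi])
        map_smul' := fun r c => by rw [RingHom.id_apply, ← map_smul]; exact hwd _ _ (by simp only [map_smul, hsi]) }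
    have hact : ∀ a, act (res a) = φ a := fun a => hwd _ _ (hsi _)
    let G : p.Fiber S →ₗ[R] (N →ₗ[R] L) := TensorProduct.lift (LinearMap.mk₂ R
      (fun c s => act c ∘ₗ ℓ ∘ₗ ((Submodule.mkQ ((p.map (algebraMap R S)) • (⊤ : Submodule S N))) ∘ₗ (s • LinearMap.id : N →ₗ[S] N)).restrictScalars R)
      (fun c c' s => LinearMap.ext fun n => by simp)
      (fun r c s => LinearMap.ext fun n => by simp)
      (fun c s s' => LinearMap.ext fun n => by simp [add_smul])
      (fun r c s => LinearMap.ext fun n => by simp [LinearMap.map_smul_of_tower]))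
    have hbal : ∀ (s : S) (f : p.Fiber S) (n : N), G (s • f) n = G f (s • n) := by
      intro s f n
      induction f using TensorProduct.induction_on with
      | zero => simp
      | add x y hx hy => simp only [smul_add, map_add, LinearMap.add_apply, hx, hy]
      | tmul c x =>
        rw [show s • (c ⊗ₜ[R] x : p.Fiber S) = c ⊗ₜ[R] (s * x) by
          rw [Algebra.smul_def]
          show (1 : p.ResidueField) ⊗ₜ[R] s * (c ⊗ₜ[R] x) = _
          rw [Algebra.TensorProduct.tmul_mul_tmul, one_mul]]
        simp [G, mul_smul, smul_comm s x n]
    let F : FlatCA.fiberMod p S N →+ L := TensorProduct.liftAddHom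
      { toFun := fun f => (G f).toAddMonoidHom, map_zero' := by ext; simp, map_add' := fun a b => by ext; simp }
      (fun s f n => hbal s f n)
    rw [Submodule.mem_annihilator_span_singleton, ← map_smul] at hs
    have h0 : F (FlatCA.toFiberMod p S N (s • m)) = 0 := by rw [hs, map_zero]
    replace h0 : ℓ (Submodule.mkQ ((p.map (algebraMap R S)) • (⊤ : Submodule S N)) (s • m)) = 0 := by
      rw [← h0]
      show _ = G (1 : p.Fiber S) (s • m)
      rw [Algebra.TensorProduct.one_def]
      simp only [G, TensorProduct.lift.tmul, LinearMap.mk₂_apply, LinearMap.comp_apply, LinearMap.coe_restrictScalars,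
        LinearMap.smul_apply, LinearMap.id_apply, one_smul]
      rw [show (1 : p.ResidueField) = res 1 from (map_one (algebraMap (Localization.AtPrime p) p.ResidueField)).symm, hact]
      exact (one_smul (Localization.AtPrime p) _).symm
    obtain ⟨t, ht⟩ := (IsLocalizedModule.eq_zero_iff p.primeCompl ℓ).1 h0
    have hts : algebraMap R S t * s ∈ q := by
      rw [hm, Submodule.mem_annihilator_span_singleton, mul_smul, algebraMap_smul, ← map_smul]
      exact ht
    exact (hqp.mem_or_mem hts).resolve_left fun ht' => t.2 (hq ▸ ht')

end Groth.Agent.S9665
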