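import Groth.Statements.S9666
import Groth.Agent.FibAssLib.Flat
import Mathlib.RingTheory.Ideal.AssociatedPrime.Finiteness


-- import your own Groth.Agent.* helpers here

set_option autoImplicit false
universe u
open CAlg

namespace Groth.Agent.S9666

/-- Part (3): (A ⊆ A_fin): let R → S be a ring map with S Noetherian, N an S-module, q a prime of S and
p the prime of R below q; an associated prime of a module is a prime ideal equal to the annihilator
of some element. If q is an associated prime of the S-module N ⊗_R κ(p) (the fibre module over p, an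
S-module by restriction of scalars), then q is an associated prime of the S-module N/pN. -/
theorem result {R S : Type u} [CommRing R] [CommRing S] [Algebra R S] (N : Type u) [AddCommGroup N] [Module S N] [Module R N] [IsScalarTower R S N] [IsNoetherianRing S]
    (p : Ideal R) [p.IsPrime] (q : Ideal S) [q.IsPrime] (hq : q.comap (algebraMap R S) = p)
    (h : q ∈ FlatCA.ass S (FlatCA.fiberMod p S N)) :
    q ∈ FlatCA.ass S (N ⧸ (p.map (algebraMap R S)) • (⊤ : Submodule S N)) := by
  classical
  obtain ⟨z, hz⟩ := FibAssLib.exists_β_of_mem_ass p h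
  have hmem : ∀ g, g ∈ q ↔ g • FibAssLib.β p z = 0 := fun g => by rw [hz, Submodule.mem_annihilator_span_singleton]
  obtain ⟨G, hG⟩ := IsNoetherian.noetherian q
  have step : ∀ G : Finset S, (∀ g ∈ G, g ∈ q) → ∃ t ∉ p, ∀ g ∈ G, t • g • z = 0 := by
    intro G
    induction G using Finset.induction_on with
    | empty => exact fun _ => ⟨1, p.ne_top_iff_one.1 (Ideal.IsPrime.ne_top inferInstance), fun g hg => absurd hg (Finset.notMem_empty g)⟩
    | insert g G hg ih =>
      intro hq'
      obtain ⟨t, ht, hk⟩ := ih fun a ha => hq' a (Finset.mem_insert_of_mem ha)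
      obtain ⟨t', ht', hk'⟩ := FibAssLib.exists_smul_eq_zero_of_β p (z := g • z)
        (by rw [map_smul]; exact (hmem g).1 (hq' g (Finset.mem_insert_self g G)))
      refine ⟨t * t', fun h => (Ideal.IsPrime.mem_or_mem inferInstance h).elim ht ht', fun a ha => ?_⟩
      rcases Finset.mem_insert.1 ha with rfl | ha
      · rw [mul_smul, hk', smul_zero]
      · rw [mul_comm, mul_smul, hk a ha, smul_zero]
  obtain ⟨t, ht, hk⟩ := step G fun g hg => hG ▸ Submodule.subset_span hg
  refine ⟨inferInstance, t • z, le_antisymm ?_ fun s hs => ?_⟩
  · rw [← hG]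
    refine Submodule.span_le.2 fun g hg => ?_
    rw [SetLike.mem_coe, Submodule.mem_annihilator_span_singleton, smul_comm]
    exact hk g hg
  · rw [Submodule.mem_annihilator_span_singleton, ← algebraMap_smul S t z, ← mul_smul] at hs
    have h2 : s * algebraMap R S t ∈ q := (hmem _).2 (by rw [← map_smul, hs, map_zero])
    exact (Ideal.IsPrime.mem_or_mem inferInstance h2).resolve_right fun h' => ht (hq ▸ h')

end Groth.Agent.S9666
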