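import Groth.Statements.S9667
import Mathlib.RingTheory.TensorProduct.DirectLimitFG
import Mathlib.RingTheory.Noetherian.Basic
-- import your own Groth.Agent.* helpers here

set_option autoImplicit false
universe u
open CAlg

namespace Groth.Agent.S9667

open TensorProduct in
/-- Part (3): (B = B_fin): let R → S be a ring map with S Noetherian, N an S-module, M an R-module and q
a prime of S; an associated prime of a module is a prime ideal equal to the annihilator of some
element. If q is an associated prime of the S-module N ⊗_R M, then there is a finitely generated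
R-submodule M' ⊆ M such that q is an associated prime of the S-module N ⊗_R M'. -/
theorem result {R S : Type u} [CommRing R] [CommRing S] [Algebra R S] (N : Type u) [AddCommGroup N] [Module S N] [Module R N] [IsScalarTower R S N] [IsNoetherianRing S]
    (M : Type u) [AddCommGroup M] [Module R M] (q : Ideal S) [q.IsPrime] (h : q ∈ FlatCA.ass S (N ⊗[R] M)) :
    ∃ M' : Submodule R M, M'.FG ∧ q ∈ FlatCA.ass S (N ⊗[R] ↥M') := by
  classical
  obtain ⟨hqp, z, hz⟩ := h
  obtain ⟨P, hP, w, hw⟩ := TensorProduct.exists_of_fg (TensorProduct.comm R N M z)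
  -- compatibility of the `S`-action with `N ⊗ P → N ⊗ M`
  let ι (P : Submodule R M) : N ⊗[R] P →ₗ[S] N ⊗[R] M :=
    TensorProduct.AlgebraTensorModule.map LinearMap.id P.subtype
  let inc {P Q : Submodule R M} (h : P ≤ Q) : N ⊗[R] P →ₗ[S] N ⊗[R] Q :=
    TensorProduct.AlgebraTensorModule.map LinearMap.id (Submodule.inclusion h)
  have hι : ∀ (P : Submodule R M) v, TensorProduct.comm R N M (ι P v) = LinearMap.rTensor N P.subtype (TensorProduct.comm R N P v) := fun P v => by
    induction v using TensorProduct.induction_on with
    | zero => simp only [map_zero]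
    | tmul n m => rfl
    | add a b ha hb => simp only [map_add, ha, hb]
  have hinc : ∀ {P Q : Submodule R M} (h : P ≤ Q) v, TensorProduct.comm R N Q (inc h v) = LinearMap.rTensor N (Submodule.inclusion h) (TensorProduct.comm R N P v) := fun h v => by
    induction v using TensorProduct.induction_on with
    | zero => simp only [map_zero]
    | tmul n m => rfl
    | add a b ha hb => simp only [map_add, ha, hb]
  have hcomp : ∀ {P Q : Submodule R M} (h : P ≤ Q) v, ι Q (inc h v) = ι P v := fun h v => by
    induction v using TensorProduct.induction_on with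
    | zero => simp only [map_zero]
    | tmul n m => rfl
    | add a b ha hb => simp only [map_add, ha, hb]
  have hcomp2 : ∀ {P Q T : Submodule R M} (h : P ≤ Q) (h' : Q ≤ T) v, inc h' (inc h v) = inc (h.trans h') v := fun h h' v => by
    induction v using TensorProduct.induction_on with
    | zero => simp only [map_zero]
    | tmul n m => rfl
    | add a b ha hb => simp only [map_add, ha, hb]
  let v := (TensorProduct.comm R N P).symm w
  have hv : ι P v = z := (TensorProduct.comm R N M).injective (by rw [hι]; simp [v, hw])
  have hmem : ∀ {X : Type u} [AddCommGroup X] [Module S X] (x : X) (s : S), s ∈ (Submodule.span S {x}).annihilator ↔ s • x = 0 :=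
    fun x s => Submodule.mem_annihilator_span_singleton x s
  obtain ⟨G, hG⟩ := IsNoetherian.noetherian q
  have step : ∀ G : Finset S, (∀ s ∈ G, s • z = 0) → ∃ (Q : Submodule R M) (hPQ : P ≤ Q), Q.FG ∧ ∀ s ∈ G, s • inc hPQ v = 0 := by
    intro G
    induction G using Finset.induction_on with
    | empty => exact fun _ => ⟨P, le_rfl, hP, fun s hs => absurd hs (Finset.notMem_empty s)⟩
    | insert s G hs ih =>
      intro h
      obtain ⟨Q, hPQ, hQ, hk⟩ := ih fun t ht => h t (Finset.mem_insert_of_mem ht)
      have h0 : LinearMap.rTensor N Q.subtype (TensorProduct.comm R N Q (s • inc hPQ v)) = 0 := by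
        rw [← hι, map_smul, hcomp, hv, h s (Finset.mem_insert_self s G), map_zero]
      obtain ⟨T, hQT, hT, hz0⟩ := TensorProduct.eq_zero_of_fg_of_subtype_eq_zero hQ h0
      refine ⟨T, hPQ.trans hQT, hT, fun t ht => ?_⟩
      rw [← hcomp2 hPQ hQT, ← map_smul]
      rcases Finset.mem_insert.mp ht with rfl | ht'
      · apply (TensorProduct.comm R N T).injective
        rw [hinc, hz0, map_zero]
      · rw [hk t ht', map_zero]
  obtain ⟨Q, hPQ, hQ, hkill⟩ := step G fun s hs => (hmem z s).mp (hz ▸ (hG ▸ Submodule.subset_span hs : s ∈ q))
  refine ⟨Q, hQ, hqp, inc hPQ v, le_antisymm ?_ fun s hs => ?_⟩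
  · rw [← hG]
    exact Submodule.span_le.mpr fun s hs => (hmem _ s).mpr (hkill s hs)
  · rw [hz, hmem, ← hv, ← hcomp hPQ v, ← map_smul, (hmem _ s).mp hs, map_zero]

end Groth.Agent.S9667
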