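import Groth.Statements.S9668
import Mathlib.RingTheory.Flat.Basic


-- import your own Groth.Agent.* helpers here

set_option autoImplicit false
universe u
open CAlg

namespace Groth.Agent.S9668

open TensorProduct in
/-- Part (4): (B = B_fin): let R → S be a ring map, N an S-module flat over R, M an R-module and q a
prime of S; an associated prime of a module is a prime ideal equal to the annihilator of some
element. If q is an associated prime of the S-module N ⊗_R M, then there is a finitely generated
R-submodule M' ⊆ M such that q is an associated prime of the S-module N ⊗_R M'. -/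
theorem result {R S : Type u} [CommRing R] [CommRing S] [Algebra R S] (N : Type u) [AddCommGroup N] [Module S N] [Module R N] [IsScalarTower R S N] [Module.Flat R N]
    (M : Type u) [AddCommGroup M] [Module R M] (q : Ideal S) [q.IsPrime] (h : q ∈ FlatCA.ass S (N ⊗[R] M)) :
    ∃ M' : Submodule R M, M'.FG ∧ q ∈ FlatCA.ass S (N ⊗[R] ↥M') := by
  obtain ⟨hq, m, hm⟩ := h
  obtain ⟨M', hM', m', rfl⟩ : ∃ M' : Submodule R M, M'.FG ∧ ∃ m' : N ⊗[R] ↥M', TensorProduct.AlgebraTensorModule.lTensor S N M'.subtype m' = m := by
    clear hm
    induction m using TensorProduct.induction_on with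
    | zero => exact ⟨⊥, Submodule.fg_bot, 0, map_zero _⟩
    | tmul a b => exact ⟨Submodule.span R {b}, Submodule.fg_span_singleton b, a ⊗ₜ ⟨b, Submodule.mem_span_singleton_self b⟩, by simp⟩
    | add x y hx hy =>
      obtain ⟨M₁, h₁, x', rfl⟩ := hx
      obtain ⟨M₂, h₂, y', rfl⟩ := hy
      refine ⟨M₁ ⊔ M₂, h₁.sup h₂, TensorProduct.AlgebraTensorModule.lTensor S N (Submodule.inclusion le_sup_left) x' +
        TensorProduct.AlgebraTensorModule.lTensor S N (Submodule.inclusion le_sup_right) y', ?_⟩
      simp only [map_add, TensorProduct.AlgebraTensorModule.coe_lTensor, ← LinearMap.comp_apply, ← LinearMap.lTensor_comp,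
        Submodule.subtype_comp_inclusion]
  refine ⟨M', hM', hq, m', hm.trans ?_⟩
  have hinj : Function.Injective (TensorProduct.AlgebraTensorModule.lTensor S N M'.subtype) :=
    Module.Flat.lTensor_preserves_injective_linearMap _ Subtype.val_injective
  ext s
  rw [Submodule.mem_annihilator_span_singleton, Submodule.mem_annihilator_span_singleton, ← map_smul, ← hinj.eq_iff, map_zero]

end Groth.Agent.S9668
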