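import Groth.Statements.S9671
import Groth.Agent.ProjClosedLib.Quot
import Mathlib


-- import your own Groth.Agent.* helpers here

set_option autoImplicit false
universe u
open CAlg

namespace Groth.Agent.S9671

/-- Let R be a ring and R' an R-algebra of finite type. Then there are an ℕ-graded R-algebra S such that
R → S₀ is bijective and S is generated as an R-algebra by a finite set of degree-1 elements, an
element f ∈ S₁, and a ring isomorphism e between the degree-zero part S_(f) of the localization S_f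
and R' which matches r/1 with the image of r in R' for every r ∈ R (so R' is identified with S_(f)
as an R-algebra). The published statement also produces, from a finite R'-module, a finite graded
S-module whose degree-zero localization at f recovers it; that half is not part of this row. -/
theorem result (R R' : Type u) [CommRing R] [CommRing R'] [Algebra R R'] [Algebra.FiniteType R R'] :
    ∃ (S : Type u) (_ : CommRing S) (_ : Algebra R S) (𝒜 : ℕ → Submodule R S) (_ : GradedAlgebra 𝒜) (f : S) (_ : f ∈ 𝒜 1) (s : Finset S)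
      (e : HomogeneousLocalization.Away 𝒜 f ≃+* R'),
      Function.Injective (algebraMap R S) ∧ (∀ x ∈ 𝒜 0, x ∈ Set.range (algebraMap R S)) ∧
      (↑s ⊆ (𝒜 1 : Set S)) ∧ Algebra.adjoin R (s : Set S) = ⊤ ∧
      ∀ r : R, (e.symm (algebraMap R R' r)).val = algebraMap S (Localization.Away f) (algebraMap R S r) := by
  classical
  obtain ⟨T, hT⟩ := (Algebra.FiniteType.out : (⊤ : Subalgebra R R').FG)
  let σ := Option (Fin (T.card))
  let P := MvPolynomial σ R
  let HP := MvPolynomial.homogeneousSubmodule σ R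
  let _ : GradedAlgebra HP := MvPolynomial.gradedAlgebra
  let ev : P →ₐ[R] R' := MvPolynomial.aeval (fun o => o.elim 1 (fun i => (T.equivFin.symm i : R')))
  let K : Ideal P := Ideal.span {x | ∃ k, 1 ≤ k ∧ x ∈ HP k ∧ ev x = 0}
  have hK : K.IsHomogeneous HP := Ideal.homogeneous_span _ _ fun x ⟨k, _, hx, _⟩ => ⟨k, hx⟩
  let S := P ⧸ K
  let q : P →+* S := Ideal.Quotient.mk K
  let 𝒜 := ProjClosedLib.quotGr HP K
  let _ : GradedAlgebra 𝒜 := ProjClosedLib.gradedQuot HP K hK
  let g : S →+* R' := Ideal.Quotient.lift K ev.toRingHom fun x hx => by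
    have hle : K ≤ RingHom.ker ev.toRingHom := Ideal.span_le.2 fun y ⟨k, _, _, hy⟩ => hy
    exact hle hx
  let f : S := q (MvPolynomial.X none)
  have hf : f ∈ 𝒜 1 := ⟨_, MvPolynomial.isHomogeneous_X R none, rfl⟩
  have hgf : g f = 1 := by
    show ev (MvPolynomial.X none) = 1
    exact MvPolynomial.aeval_X _ none
  have hzero : ∀ (k : ℕ) (x : S), 1 ≤ k → x ∈ 𝒜 k → g x = 0 → x = 0 := by
    rintro k x hk ⟨p, hp, rfl⟩ hx
    exact Ideal.Quotient.eq_zero_iff_mem.2 (Ideal.subset_span ⟨k, hk, hp, hx⟩)
  have hgu : IsUnit (g f) := by rw [hgf]; exact isUnit_one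
  let L : Localization.Away f →+* R' := IsLocalization.Away.lift f hgu
  let v : HomogeneousLocalization.Away 𝒜 f →+* Localization.Away f := algebraMap _ _
  let ψ : HomogeneousLocalization.Away 𝒜 f →+* R' := L.comp v
  have hψ : ∀ (n : ℕ) (x : S) (hx : x ∈ 𝒜 (n • 1)), ψ (HomogeneousLocalization.Away.mk 𝒜 hf n x hx) = g x := by
    intro n x hx
    show L (Localization.mk x (⟨f ^ n, n, rfl⟩ : Submonoid.powers f)) = g x
    have h1 : (Localization.mk x (⟨f ^ n, n, rfl⟩ : Submonoid.powers f) : Localization.Away f) * algebraMap S _ (f ^ n) = algebraMap S _ x := by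
      rw [Localization.mk_eq_mk']
      exact IsLocalization.mk'_spec (Localization.Away f) x (⟨f ^ n, n, rfl⟩ : Submonoid.powers f)
    have h2 := congrArg L h1
    rw [map_mul, IsLocalization.Away.lift_eq, IsLocalization.Away.lift_eq, map_pow, hgf, one_pow, mul_one] at h2
    exact h2
  have hinj : Function.Injective ψ := (injective_iff_map_eq_zero _).2 fun z hz => by
    obtain ⟨n, x, hx, rfl⟩ := HomogeneousLocalization.Away.mk_surjective 𝒜 hf z
    rw [hψ] at hz
    have hxf : x * f = 0 := hzero (n + 1) _ (by omega) (by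
      have := SetLike.mul_mem_graded hx hf
      rwa [smul_eq_mul, mul_one] at this) (by rw [map_mul, hz, zero_mul])
    apply HomogeneousLocalization.val_injective
    show Localization.mk x (⟨f ^ n, n, rfl⟩ : Submonoid.powers f) = (0 : HomogeneousLocalization.Away 𝒜 f).val
    rw [HomogeneousLocalization.val_zero, ← Localization.mk_zero (1 : Submonoid.powers f), Localization.mk_eq_mk_iff, Localization.r_iff_exists]
    exact ⟨⟨f, 1, pow_one f⟩, by simp [mul_comm f x, hxf]⟩
  have hsurj : Function.Surjective ψ := by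
    let V : Subalgebra R R' :=
      { carrier := {z | ∃ (n : ℕ) (x : S), x ∈ 𝒜 n ∧ g x = z}
        one_mem' := ⟨0, 1, SetLike.GradedOne.one_mem, map_one g⟩
        mul_mem' := fun {a b} ⟨n, x, hx, ha⟩ ⟨m, y, hy, hb⟩ =>
          ⟨n + m, x * y, SetLike.mul_mem_graded hx hy, by rw [map_mul, ha, hb]⟩
        zero_mem' := ⟨0, 0, zero_mem _, map_zero g⟩
        add_mem' := fun {a b} ⟨n, x, hx, ha⟩ ⟨m, y, hy, hb⟩ =>
          ⟨n + m, x * f ^ m + f ^ n * y,
            add_mem (by
              have h1 := SetLike.mul_mem_graded hx (SetLike.pow_mem_graded m hf)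
              rwa [smul_eq_mul, mul_one] at h1) (by
              have h1 := SetLike.mul_mem_graded (SetLike.pow_mem_graded n hf) hy
              rwa [smul_eq_mul, mul_one] at h1),
            by rw [map_add, map_mul, map_mul, map_pow, map_pow, hgf, ha, hb]; simp⟩
        algebraMap_mem' := fun r => ⟨0, q (MvPolynomial.C r), ⟨_, MvPolynomial.isHomogeneous_C σ r, rfl⟩,
          MvPolynomial.aeval_C _ r⟩ }
    have hle : Algebra.adjoin R (T : Set R') ≤ V := Algebra.adjoin_le fun t ht =>
      ⟨1, q (MvPolynomial.X (some (T.equivFin ⟨t, ht⟩))), ⟨_, MvPolynomial.isHomogeneous_X R _, rfl⟩, by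
        show ev (MvPolynomial.X (some (T.equivFin ⟨t, ht⟩))) = t
        exact (MvPolynomial.aeval_X _ _).trans (by simp)⟩
    intro z
    obtain ⟨n, x, hx, rfl⟩ := hle (hT.ge (Algebra.mem_top : z ∈ (⊤ : Subalgebra R R')))
    exact ⟨HomogeneousLocalization.Away.mk 𝒜 hf n x (by rwa [smul_eq_mul, mul_one]), hψ _ _ _⟩
  let e : HomogeneousLocalization.Away 𝒜 f ≃+* R' := RingEquiv.ofBijective ψ ⟨hinj, hsurj⟩
  refine ⟨S, inferInstance, inferInstance, 𝒜, inferInstance, f, hf,
    Finset.univ.image (fun o : σ => q (MvPolynomial.X o)), e, ?_, ?_, ?_, ?_, ?_⟩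
  · refine (injective_iff_map_eq_zero _).2 fun r hr => ?_
    have hle : K ≤ RingHom.ker (MvPolynomial.constantCoeff : P →+* R) := Ideal.span_le.2 fun y ⟨k, hk, hy, _⟩ => by
      show MvPolynomial.constantCoeff y = 0
      rw [MvPolynomial.constantCoeff_eq]
      exact MvPolynomial.IsHomogeneous.coeff_eq_zero hy (by simp; omega)
    have hm : (MvPolynomial.C r : P) ∈ K := Ideal.Quotient.eq_zero_iff_mem.1 hr
    have := hle hm
    rwa [RingHom.mem_ker, MvPolynomial.constantCoeff_C] at this
  · rintro x ⟨p, hp, rfl⟩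
    refine ⟨MvPolynomial.coeff 0 p, ?_⟩
    have h0 : MvPolynomial.homogeneousComponent 0 p = p := by
      rw [MvPolynomial.homogeneousComponent_of_mem hp, if_pos rfl]
    rw [MvPolynomial.homogeneousComponent_zero] at h0
    exact congrArg q h0
  · intro x hx
    obtain ⟨o, -, rfl⟩ := Finset.mem_image.1 (Finset.mem_coe.1 hx)
    exact ⟨_, MvPolynomial.isHomogeneous_X R o, rfl⟩
  · rw [Finset.coe_image, Finset.coe_univ, Set.image_univ]
    show Algebra.adjoin R (Set.range ((Ideal.Quotient.mkₐ R K) ∘ MvPolynomial.X)) = ⊤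
    rw [Set.range_comp, Algebra.adjoin_image, MvPolynomial.adjoin_range_X, Algebra.map_top]
    exact (AlgHom.range_eq_top _).2 (Ideal.Quotient.mkₐ_surjective R K)
  · intro r
    have hC : algebraMap R S r ∈ 𝒜 (0 • 1) := by
      rw [zero_smul]; exact ⟨_, MvPolynomial.isHomogeneous_C σ r, rfl⟩
    have h1 : e (HomogeneousLocalization.Away.mk 𝒜 hf 0 (algebraMap R S r) hC) = algebraMap R R' r :=
      (hψ _ _ _).trans (MvPolynomial.aeval_C _ r)
    rw [← h1, e.symm_apply_apply, ← Localization.mk_one_eq_algebraMap]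
    show Localization.mk _ _ = Localization.mk _ _
    congr 1

end Groth.Agent.S9671
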