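import Groth.Statements.S9672
import Mathlib
import Groth.Agent.FFDescLib.Closure
-- import your own Groth.Agent.* helpers here

set_option autoImplicit false
universe u
open CategoryTheory CategoryTheory.Limits AlgebraicGeometry
open Mor

namespace Groth.Agent.S9672

/-- Let f : Y ⟶ X be quasi-compact and quasi-separated, and write X' for the normalization of X relative
to Y. If x' ∈ X' is the generic point of some irreducible component of X', then there is a point y ∈
Y that is generic in an irreducible component of Y and is sent to x' by the canonical morphism Y ⟶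
X'. -/
theorem result {X Y : Scheme.{u}} (f : Y ⟶ X)
    [QuasiCompact f] [QuasiSeparated f] (x' : ↥f.normalization)
    (hx' : closure {x'} ∈ irreducibleComponents ↥f.normalization) :
    ∃ y : Y, closure {y} ∈ irreducibleComponents ↥Y ∧ f.toNormalization.base y = x' := by
  let Z := closure {x'}
  let φ := f.toNormalization
  have hfin : ∃ y : Y, φ y = x' := by
    obtain ⟨y, hy⟩ := FFDescLib.exists_specializes_of_mem_closure_range (f := φ)
      (y := x') (φ.denseRange.closure_eq.symm ▸ Set.mem_univ _)
    exact ⟨y, (hy.antisymm (specializes_iff_closure_subset.2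
      (hx'.2 isIrreducible_singleton.closure (specializes_iff_closure_subset.1 hy)))).eq⟩
  obtain ⟨y₁, hy₁⟩ := hfin
  obtain ⟨C, hC, hyC⟩ : ∃ C ∈ irreducibleComponents Y, y₁ ∈ C :=
    ⟨irreducibleComponent y₁, irreducibleComponent_mem_irreducibleComponents y₁, mem_irreducibleComponent⟩
  obtain ⟨y, hy⟩ := QuasiSober.sober hC.1 (isClosed_of_mem_irreducibleComponents _ hC)
  refine ⟨y, by rwa [hy.def], ?_⟩
  have hle : φ y ⤳ φ y₁ := (hy.specializes hyC).map φ.continuous
  rw [hy₁] at hle
  have h1 : closure {x'} ⊆ closure {φ y} := specializes_iff_closure_subset.1 hle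
  have h2 : closure {φ y} ⊆ closure {x'} := hx'.2 isIrreducible_singleton.closure h1
  exact (hle.antisymm (specializes_iff_closure_subset.2 h2)).eq

end Groth.Agent.S9672
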