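import Groth.Statements.S9677
-- import your own Groth.Agent.* helpers here

set_option autoImplicit false
universe u
open CategoryTheory CategoryTheory.Limits AlgebraicGeometry
open Mor

namespace Groth.Agent.S9677

/-- Suppose X and Y have finitely many irreducible components and f : X ⟶ Y is birational, i.e. f
restricts to a bijection between the generic points of the irreducible components of X and those of
Y and induces an isomorphism of local rings at every generic point of an irreducible component of X.
Then for any generic point y of a component of Y, pulling f back along the canonical map Spec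
O_{Y,y} ⟶ Y gives an isomorphism onto Spec O_{Y,y}. -/
theorem result {X Y : Scheme.{u}} (f : X ⟶ Y)
    (hXfin : (irreducibleComponents ↥X).Finite) (hYfin : (irreducibleComponents ↥Y).Finite)
    (hbij : Set.BijOn (fun x : X => f.base x) {x : X | closure {x} ∈ irreducibleComponents ↥X}
      {y : Y | closure {y} ∈ irreducibleComponents ↥Y})
    (hiso : ∀ x : X, closure {x} ∈ irreducibleComponents ↥X → IsIso (f.stalkMap x))
    (y : Y) (hy : closure {y} ∈ irreducibleComponents ↥Y) :
    IsIso (pullback.snd f (Y.fromSpecStalk y)) := by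
  have hymax : ∀ z : Y, z ⤳ y → z = y := fun z hz => by
    have h1 : closure ({z} : Set Y) ⊆ closure {y} := hy.le_of_ge isIrreducible_singleton.closure
      (closure_minimal (Set.singleton_subset_iff.2 hz.mem_closure) isClosed_closure)
    exact ((specializes_iff_closure_subset.2 h1).antisymm hz).eq.symm
  obtain ⟨x, hx, hfx⟩ := hbij.surjOn hy
  replace hfx : f x = y := hfx
  haveI := hiso x hx
  have hfib : ∀ x' : X, f x' = y → x' = x := fun x' hx' => by
    let Z := irreducibleComponent x'
    have hZ : IsIrreducible Z := isIrreducible_irreducibleComponent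
    have hg : closure {hZ.genericPoint} = Z := by
      rw [hZ.genericPoint_closure_eq, isClosed_irreducibleComponent.closure_eq]
    have hsp : hZ.genericPoint ⤳ x' := by
      rw [specializes_iff_mem_closure, hg]
      exact mem_irreducibleComponent
    have hxg : hZ.genericPoint = x := by
      refine hbij.injOn ?_ hx ?_
      · show closure {hZ.genericPoint} ∈ irreducibleComponents ↥X
        rw [hg]
        exact irreducibleComponent_mem_irreducibleComponents x'
      · show f hZ.genericPoint = f x
        rw [hfx]
        exact hymax _ (hx' ▸ hsp.map f.continuous)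
    rw [hxg] at hsp
    have e := Scheme.Hom.stalkSpecializes_stalkMap f x x' hsp
    haveI : IsIso (Y.presheaf.stalkSpecializes (hsp.map f.continuous)) := by
      refine ⟨Y.presheaf.stalkSpecializes (specializes_of_eq (hx'.trans hfx.symm)), ?_, ?_⟩ <;>
        simp [TopCat.Presheaf.stalkSpecializes_comp, TopCat.Presheaf.stalkSpecializes_refl]
    have hsurj : Function.Surjective (X.presheaf.stalkSpecializes hsp) := by
      have h1 : Function.Bijective (Y.presheaf.stalkSpecializes (hsp.map f.continuous) ≫ f.stalkMap x) :=
        (ConcreteCategory.isIso_iff_bijective _).1 inferInstance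
      rw [e] at h1
      intro z
      obtain ⟨w, hw⟩ := h1.2 z
      exact ⟨_, hw⟩
    haveI : IsLocalHom (X.presheaf.stalkSpecializes hsp).hom := .of_surjective _ hsurj
    have h2 := congrArg (fun m => m.base (IsLocalRing.closedPoint (X.presheaf.stalk x)))
      (Scheme.SpecMap_stalkSpecializes_fromSpecStalk (X := X) hsp)
    simp only [Scheme.Hom.comp_base, TopCat.comp_app] at h2
    have h3 : (Spec.map (X.presheaf.stalkSpecializes hsp)).base (IsLocalRing.closedPoint (X.presheaf.stalk x)) =
        IsLocalRing.closedPoint (X.presheaf.stalk x') :=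
      IsLocalRing.comap_closedPoint (X.presheaf.stalkSpecializes hsp).hom
    rw [h3] at h2
    exact (Scheme.fromSpecStalk_closedPoint.symm.trans h2).trans Scheme.fromSpecStalk_closedPoint
  subst hfx
  haveI : IsIso (Spec.map (f.stalkMap x)) := inferInstance
  let j := Y.fromSpecStalk (f x)
  have hj : ∀ z, j z = f x := fun z => hymax _ (by
    have : j z ∈ Set.range j := ⟨z, rfl⟩
    rw [Scheme.range_fromSpecStalk] at this
    exact this)
  let P := pullback f j
  have hP : ∀ p : P, pullback.fst f j p = x := fun p => hfib _ (by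
    rw [← Scheme.Hom.comp_apply, pullback.condition, Scheme.Hom.comp_apply, hj])
  let s : Spec (X.presheaf.stalk x) ⟶ P :=
    pullback.lift (X.fromSpecStalk x) (Spec.map (f.stalkMap x)) (Scheme.SpecMap_stalkMap_fromSpecStalk f).symm
  haveI : IsPreimmersion (pullback.fst f j) := MorphismProperty.pullback_fst _ _ inferInstance
  haveI : Subsingleton P := ⟨fun p q => (pullback.fst f j).isEmbedding.injective ((hP p).trans (hP q).symm)⟩
  haveI : Nonempty P := ⟨s (IsLocalRing.closedPoint _)⟩
  let p₀ : P := Classical.arbitrary P
  haveI : Subsingleton (PrimeSpectrum Γ(P, ⊤)) :=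
    P.isoSpec.inv.homeomorph.injective.subsingleton
  haveI : Nonempty (PrimeSpectrum Γ(P, ⊤)) := ⟨P.isoSpec.hom p₀⟩
  haveI : Nontrivial Γ(P, ⊤) := PrimeSpectrum.nonempty_iff_nontrivial.1 inferInstance
  haveI : IsLocalRing Γ(P, ⊤) := by
    refine IsLocalRing.of_unique_max_ideal ?_
    obtain ⟨m, hm⟩ := Ideal.exists_maximal Γ(P, ⊤)
    exact ⟨m, hm, fun m' hm' => congrArg PrimeSpectrum.asIdeal
      (Subsingleton.elim (⟨m', hm'.isPrime⟩ : PrimeSpectrum Γ(P, ⊤)) ⟨m, hm.isPrime⟩)⟩
  let g : Spec Γ(P, ⊤) ⟶ X := P.isoSpec.inv ≫ pullback.fst f j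
  have hg : g (IsLocalRing.closedPoint _) = x := hP _
  let φ := X.presheaf.stalkSpecializes (specializes_of_eq hg) ≫ Scheme.stalkClosedPointTo g
  have hφ : Spec.map φ ≫ X.fromSpecStalk x = g := by
    rw [Spec.map_comp, Category.assoc, Scheme.SpecMap_stalkSpecializes_fromSpecStalk,
      Scheme.Spec_stalkClosedPointTo_fromSpecStalk]
  let t : P ⟶ Spec (X.presheaf.stalk x) := P.isoSpec.hom ≫ Spec.map φ
  have ht : t ≫ X.fromSpecStalk x = pullback.fst f j := by
    simp [t, hφ, g]
  have hst : t ≫ s = 𝟙 P := by
    rw [← cancel_mono (pullback.fst f j), Category.assoc, pullback.lift_fst, ht, Category.id_comp]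
  have hts : s ≫ t = 𝟙 _ := by
    rw [← cancel_mono (X.fromSpecStalk x), Category.assoc, ht, pullback.lift_fst, Category.id_comp]
  haveI : IsIso s := ⟨t, hts, hst⟩
  have hsnd : pullback.snd f j = t ≫ Spec.map (f.stalkMap x) := by
    rw [← pullback.lift_snd (X.fromSpecStalk x) (Spec.map (f.stalkMap x))
      (Scheme.SpecMap_stalkMap_fromSpecStalk f).symm (f := f) (g := j), ← Category.assoc, hst, Category.id_comp]
  haveI : IsIso t := ⟨s, hst, hts⟩
  show IsIso (pullback.snd f j)
  rw [hsnd]
  infer_instance
end Groth.Agent.S9677
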