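import Groth.Statements.S9680
import Mathlib
import Groth.Agent.BiratFPLib.Basic

set_option autoImplicit false
universe u
open CategoryTheory CategoryTheory.Limits AlgebraicGeometry
open Mor

namespace Groth.Agent.S9680

/-- Suppose X and Y are irreducible S-schemes, each locally of finite presentation over S, with generic
points x and y. Then X and Y are S-birational (they admit S-isomorphic nonempty opens) if and only
if x and y map to the same point s of S and the local rings of X at x and of Y at y are isomorphic
as algebras over the local ring of S at s. -/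
theorem result {S X Y : Scheme.{u}}
    [IrreducibleSpace ↥X] [IrreducibleSpace ↥Y] (sX : X ⟶ S) (sY : Y ⟶ S)
    [LocallyOfFinitePresentation sX] [LocallyOfFinitePresentation sY] :
    Scheme.BirationalOver sX sY ↔
      ∃ (hs : sX.base (genericPoint ↥X) = sY.base (genericPoint ↥Y))
        (e : X.presheaf.stalk (genericPoint ↥X) ≅ Y.presheaf.stalk (genericPoint ↥Y)),
        sX.stalkMap (genericPoint ↥X) ≫ e.hom =
          eqToHom (congrArg S.presheaf.stalk hs) ≫ sY.stalkMap (genericPoint ↥Y) := by
  constructor
  · rintro ⟨P, hP⟩
    have hxP : genericPoint X ∈ P.source :=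
      (genericPoint_specializes _).mem_open P.source.2 P.dense_source.nonempty.choose_spec
    haveI : IrreducibleSpace P.source.toScheme := by
      have hg : IsGenericPoint (⟨_, hxP⟩ : P.source.toScheme) Set.univ :=
        isGenericPoint_iff_specializes.2 fun z =>
          iff_of_true (P.source.ι.isOpenEmbedding.isInducing.specializes_iff.1
            (genericPoint_specializes _)) trivial
      exact (irreducibleSpace_def _).2 hg.isIrreducible
    have cong' : ∀ {a b : S} (e : a = b),
        (S.presheaf.stalkCongr (.of_eq e)).hom = eqToHom (congrArg S.presheaf.stalk e) := by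
      intro a b e; subst e; simp
    have main : ∀ (i : P.source.toScheme ⟶ X) (j : P.source.toScheme ⟶ Y) [IsOpenImmersion i]
        [IsOpenImmersion j], i ≫ sX = j ≫ sY → ∀ (u : P.source.toScheme) (x' : X) (y' : Y),
        i u = x' → j u = y' →
        ∃ (hs : sX.base x' = sY.base y') (e : X.presheaf.stalk x' ≅ Y.presheaf.stalk y'),
          sX.stalkMap x' ≫ e.hom =
            eqToHom (congrArg S.presheaf.stalk hs) ≫ sY.stalkMap y' := by
      intro i j _ _ h u x' y' hx hy
      subst hx hy
      refine ⟨congr($h u), asIso (i.stalkMap u) ≪≫ (asIso (j.stalkMap u)).symm, ?_⟩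
      have h1 := Scheme.Hom.stalkMap_congr_hom _ _ h u
      rw [Scheme.Hom.stalkMap_comp, Scheme.Hom.stalkMap_comp] at h1
      simp only [Iso.trans_hom, asIso_hom, Iso.symm_hom, asIso_inv]
      rw [← Category.assoc, IsIso.comp_inv_eq, h1, Category.assoc]
      congr 1
      exact cong' congr($h u)
    exact main P.source.ι (P.iso.hom ≫ P.target.ι) (by rw [Category.assoc]; exact Eq.symm hP)
      (genericPoint P.source.toScheme) _ _ (genericPoint_eq_of_isOpenImmersion _)
      (genericPoint_eq_of_isOpenImmersion _)
  · rintro ⟨hs, e, he⟩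
    obtain ⟨U, V, θ, hxU, hyV, hθ⟩ := BiratFPLib.exists_iso_of_stalk sX sY _ _ hs e he
    exact ⟨⟨U, U.2.dense ⟨_, hxU⟩, V, V.2.dense ⟨_, hyV⟩, θ⟩, hθ⟩

end Groth.Agent.S9680
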