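import Groth.Statements.S9685
import Mathlib
import Groth.Agent.DimIneqLib.Dim
-- import your own Groth.Agent.* helpers here

set_option autoImplicit false
universe u
open CategoryTheory CategoryTheory.Limits AlgebraicGeometry
open Mor

namespace Groth.Agent.S9685

/-- Let X and Y be integral schemes with Y locally Noetherian and f : X ⟶ Y dominant and locally of
finite type. If n is the transcendence degree of the function field of X over the function field of
Y (computed on residue fields at the generic points), then dim X ≤ dim Y + n, and equality holds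
when the underlying map of f is closed. -/
theorem result {X Y : Scheme.{u}} [IsIntegral X] [IsIntegral Y]
    [IsLocallyNoetherian Y] (f : X ⟶ Y) [IsDominant f] [LocallyOfFiniteType f] (n : ℕ)
    (hn : letI := (f.residueFieldMap (genericPoint ↥X)).hom.toAlgebra
      Algebra.trdeg (Y.residueField (f.base (genericPoint ↥X))) (X.residueField (genericPoint ↥X)) = n) :
    topologicalKrullDim ↥X ≤ topologicalKrullDim ↥Y + n ∧
      (IsClosedMap f.base → topologicalKrullDim ↥X = topologicalKrullDim ↥Y + n) := by
  have hξ : ∀ ξ : X, (∀ z, z ⤳ ξ → z = ξ) → ξ = genericPoint X := fun ξ h => (h _ (genericPoint_specializes ξ)).symm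
  have htr : DimIneqLib.trH (f.residueFieldMap (genericPoint ↥X)).hom = n := DimIneqLib.trH_eq_natCast hn
  refine ⟨?_, fun hcl => le_antisymm ?_ ?_⟩
  rotate_left
  case _ =>
    refine UOpenLib.le_of_forall_nat_le fun m hm => ?_
    obtain ⟨x, hx⟩ := DimIneqLib.exists_stalk_of_chain hm
    obtain ⟨ξ, hmax, hξx, h⟩ := DimIneqLib.stalk_le f x
    obtain rfl := hξ ξ hmax
    refine hx.trans (le_trans ?_ (h.trans (add_le_add (DimIneqLib.stalk_dim_le_dim _) (le_of_eq ?_))))
    · exact le_add_of_nonneg_right (WithBot.coe_le_coe.mpr zero_le)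
    · rw [htr]; rfl
  case _ =>
    have key : ∀ m : ℕ, (m : WithBot ℕ∞) ≤ topologicalKrullDim ↥Y → ((m + n : ℕ) : WithBot ℕ∞) ≤ topologicalKrullDim ↥X := by
      intro m hm
      obtain ⟨c, hinj, hc⟩ := FibDimLib.exists_specChain hm
      have hd : (n : WithBot ℕ∞) ≤ UOpenLib.fibreClosureDim f (genericPoint ↥X) := by
        rw [DimIneqLib.fibreClosureDim_eq_trH, htr]; exact le_rfl
      have hη : f.base (genericPoint ↥X) = genericPoint ↥Y :=
        ((genericPoint_spec X).image f.continuous).eq (by
          rw [Set.image_univ, f.denseRange.closure_eq]; exact genericPoint_spec Y)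
      have key : ∀ k (hk : k < m + 1), ∃ x : X, f.base x = c ⟨k, hk⟩ ∧ DimIneqLib.ChainTo x k ∧
          (n : WithBot ℕ∞) ≤ UOpenLib.fibreClosureDim f x := fun k => by
        induction k with
        | zero =>
          intro hk
          by_cases h0 : f.base (genericPoint ↥X) = c ⟨0, hk⟩
          · exact ⟨_, h0, DimIneqLib.chainTo_zero _, hd⟩
          · obtain ⟨x, hx, -, hdx⟩ := DimIneqLib.exists_chain_down f hcl n (DimIneqLib.chainTo_zero _) hd
              (by rw [hη]; exact genericPoint_specializes _) h0
            exact ⟨x, hx, DimIneqLib.chainTo_zero _, hdx⟩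
        | succ k ih =>
          intro hk
          obtain ⟨x, hx, hch, hdx⟩ := ih (Nat.lt_of_succ_lt hk)
          refine DimIneqLib.exists_chain_down f hcl n hch hdx (hx.symm ▸ hc _ _ (Nat.le_succ k)) fun e => ?_
          have := congrArg Fin.val (hinj (hx.symm.trans e))
          simp at this
      obtain ⟨x, -, hch, hdx⟩ := key m (Nat.lt_succ_self m)
      obtain ⟨z, hz⟩ := DimIneqLib.exists_chain_fibre f hch hdx
      exact hz.le_dim
    have h0 : ((0 : ℕ) : WithBot ℕ∞) ≤ topologicalKrullDim ↥Y :=
      (DimIneqLib.chainTo_zero (genericPoint ↥Y)).le_dim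
    generalize topologicalKrullDim ↥Y = d at key h0 ⊢
    induction d with
    | bot => exact absurd h0 (by simp)
    | coe d =>
      induction d using ENat.recTopCoe with
      | coe m => exact_mod_cast key m le_rfl
      | top =>
        refine UOpenLib.le_of_forall_nat_le fun m _ => le_trans ?_ (key m (WithBot.coe_le_coe.mpr le_top))
        exact_mod_cast Nat.le_add_right m n
  case _ =>
    refine UOpenLib.le_of_forall_nat_le fun m hm => ?_
    obtain ⟨x, hx⟩ := DimIneqLib.exists_stalk_of_chain hm
    obtain ⟨ξ, hmax, hξx, h⟩ := DimIneqLib.stalk_le f x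
    obtain rfl := hξ ξ hmax
    refine hx.trans (le_trans ?_ (h.trans (add_le_add (DimIneqLib.stalk_dim_le_dim _) (le_of_eq ?_))))
    · exact le_add_of_nonneg_right (WithBot.coe_le_coe.mpr zero_le)
    · rw [htr]; rfl

end Groth.Agent.S9685
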