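import Groth.Statements.S9686
import Mathlib
import Groth.Agent.DimIneqLib.Dim
-- import your own Groth.Agent.* helpers here

set_option autoImplicit false
universe u
open CategoryTheory CategoryTheory.Limits AlgebraicGeometry
open Mor

namespace Groth.Agent.S9686

/-- Let Y be locally Noetherian and f : X ⟶ Y locally of finite type. If E bounds the transcendence
degree of κ(ξ) over κ(f ξ) for every generic point ξ of an irreducible component of X, then dim X ≤
dim Y + E. (The published bound is the supremum of these transcendence degrees; the statement with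
any upper bound E is equivalent.) -/
theorem result {X Y : Scheme.{u}} [IsLocallyNoetherian Y]
    (f : X ⟶ Y) [LocallyOfFiniteType f] (E : ℕ)
    (hE : ∀ ξ : X, closure {ξ} ∈ irreducibleComponents ↥X →
      letI := (f.residueFieldMap ξ).hom.toAlgebra
      Algebra.trdeg (Y.residueField (f.base ξ)) (X.residueField ξ) ≤ E) :
    topologicalKrullDim ↥X ≤ topologicalKrullDim ↥Y + E := by
  refine UOpenLib.le_of_forall_nat_le fun n hn => ?_
  obtain ⟨x, hx⟩ := DimIneqLib.exists_stalk_of_chain hn
  obtain ⟨ξ, hmax, hξx, h⟩ := DimIneqLib.stalk_le f x
  refine hx.trans (le_trans ?_ (h.trans (add_le_add (DimIneqLib.stalk_dim_le_dim _) ?_)))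
  · exact le_add_of_nonneg_right (WithBot.coe_le_coe.mpr zero_le)
  · exact_mod_cast DimIneqLib.trH_natCast_le (hE ξ (DimIneqLib.closure_mem_components hmax))

end Groth.Agent.S9686
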