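import Groth.Statements.S9689
import Groth.Agent.BirUnibLib.Scheme
import Groth.Agent.LocFFLib.Norm
import Groth.Agent.S0415
-- import your own Groth.Agent.* helpers here

set_option autoImplicit false
universe u
open CategoryTheory CategoryTheory.Limits AlgebraicGeometry
open Mor

namespace Groth.Agent.S9689

/-- For an integral scheme X: if every local ring of X is geometrically unibranch, then the
normalization morphism X^ν ⟶ X is a universal homeomorphism. (The published statement assumes only X
irreducible; this row takes X integral, which loses nothing since the normalization of X equals that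
of its reduction.) (The quasi-compactness and quasi-separatedness binders on Spec K(X) ⟶ X always
hold; they are only needed to form the normalization.) -/
theorem result (X : Scheme.{u}) [IsIntegral X] [QuasiCompact (X.fromSpecStalk (genericPoint ↥X))] [QuasiSeparated (X.fromSpecStalk (genericPoint ↥X))]
    (hX : ∀ x : X, CAlg2.IsGeomUnibranch (X.presheaf.stalk x)) :
    FlatMor.IsUnivHomeo (Curv2.normalizationι X) := by
  let ν := Curv2.normalizationι X
  obtain ⟨hη, hiso⟩ := LocFFLib.normalization_bir X
  have hf : RadPt.IsBirational ν := by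
    unfold RadPt.IsBirational
    rw [genericPoints_eq_singleton, genericPoints_eq_singleton]
    refine ⟨⟨fun x hx => ?_, fun x hx y hy _ => hx.trans hy.symm, fun y hy => ⟨_, rfl, hη.trans hy.symm⟩⟩,
      fun y hy => ?_⟩
    · rw [Set.mem_singleton_iff] at hx
      subst hx
      exact hη
    · rw [Set.mem_singleton_iff] at hy
      subst hy
      refine ⟨fun x x' hx hx' => (PurBirLib.eq_generic_of_map_generic _ ⟨hη, hiso⟩ hx).trans
        (PurBirLib.eq_generic_of_map_generic _ ⟨hη, hiso⟩ hx').symm, fun x hx => ?_⟩
      obtain rfl := PurBirLib.eq_generic_of_map_generic _ ⟨hη, hiso⟩ hx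
      refine ⟨RingHom.injective _, fun z => ?_⟩
      obtain ⟨z, rfl⟩ := Ideal.Quotient.mk_surjective z
      haveI := hiso
      obtain ⟨a, rfl⟩ := ((ConcreteCategory.isIso_iff_bijective (ν.stalkMap _)).1 hiso).2 z
      exact ⟨X.residue _ a, congr($(Scheme.residue_residueFieldMap ν _) a)⟩
  have hpt := fun y => (BirUnibLib.isGeomUnibranch_stalk_iff ν hf y).1 (hX y)
  refine (Groth.Agent.S0415.result ν).2 ⟨inferInstance, ?_, ⟨fun y => ?_⟩⟩
  · rw [((tfae_universallyInjective ν).out 0 2 :)]
    exact ⟨fun x x' e => (hpt _).1.1 x x' e rfl, fun x => (hpt _).1.2 x rfl⟩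
  · exact (ν.isClosedMap.isClosed_range.closure_eq.subset (closure_mono (Set.singleton_subset_iff.2 (show genericPoint ↥X ∈ Set.range ν from ⟨_, hη⟩)) (by
      rw [show closure {genericPoint ↥X} = Set.univ from genericPoint_spec _]; trivial)))

end Groth.Agent.S9689
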