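import Groth.Statements.S9695
import Mathlib
import Groth.Agent.EGA2SymLib.PnVA
import Groth.Agent.MiscFlat6.RelAmpleLocal
import Groth.Agent.S5721
-- import your own Groth.Agent.* helpers here

set_option autoImplicit false
universe u
open CategoryTheory CategoryTheory.Limits AlgebraicGeometry
open Mor

namespace Groth.Agent.S9695

/-- Suppose f : X ⟶ S is a morphism of finite type and L is an invertible O_X-module. Then L is
f-relatively ample exactly when S can be covered by open subsets V with the following property: for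
every such V there is an integer d ≥ 1 for which the tensor power L^{⊗d}, restricted to f⁻¹(V), is
isomorphic to the pullback of O(1) under some V-immersion of f⁻¹(V) into a projective space P^n_V. -/
theorem result {X S : Scheme.{u}} (f : X ⟶ S)
    [LocallyOfFiniteType f] [QuasiCompact f] (L : X.Modules) (hLinv : PicF.IsInvertible L) :
    RelAmple.IsRelAmple f L ↔
      ∃ (ι : Type u) (V : ι → S.Opens), (⨆ j, V j) = ⊤ ∧
        ∀ j, ∃ d : ℕ, 0 < d ∧
          RelAmple.IsRelVeryAmplePn (f ∣_ V j) ((CohB1.tensorPow L d).restrict (f ⁻¹ᵁ V j).ι) := by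
  have isoPn : ∀ {A B : Scheme.{u}} {g : A ⟶ B} {M M' : A.Modules}, (M ≅ M') →
      RelAmple.IsRelVeryAmplePn g M → RelAmple.IsRelVeryAmplePn g M' := by
    rintro A B g M M' φ ⟨n, i, hi, hg, ⟨e⟩⟩
    exact ⟨n, i, hi, hg, ⟨φ.symm ≪≫ e⟩⟩
  constructor
  · intro h
    refine ⟨S.affineOpens, fun V => V.1, QCohLib.iSup_affineOpens_val, fun V => ?_⟩
    have hV := AmpleThLib.restrict_isInvertible hLinv (f ⁻¹ᵁ V.1).ι
    obtain ⟨N, hN⟩ := LinSysLib.exists_data_gen (f ∣_ V.1) hV (h.2 V)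
    obtain ⟨m, v, K, hcov, haff, hsurj⟩ := hN (N + 1) (Nat.le_succ N)
    obtain ⟨φ, -⟩ := AmpleThLib.exists_restrIso hLinv (f ⁻¹ᵁ V.1).ι (N + 1)
    exact ⟨N + 1, Nat.succ_pos N, isoPn φ (LinSysLib.exists_immersion_gen (f ∣_ V.1) _ v K hcov haff hsurj)⟩
  · rintro ⟨ι, V, hV, h⟩
    refine (MiscFlat6.isRelAmple_iff_openCover f L V hV).mpr fun j => ?_
    obtain ⟨d, hd, hP⟩ := h j
    have hj := AmpleThLib.restrict_isInvertible hLinv (f ⁻¹ᵁ V j).ι
    have hd' := AmpleThLib.tensorPow_isInvertible hj d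
    obtain ⟨φ, -⟩ := AmpleThLib.exists_restrIso hLinv (f ⁻¹ᵁ V j).ι d
    refine (MiscFlat6.isRelAmple_tensorPow_iff (f ∣_ V j) hj hd).mpr ?_
    exact Groth.Agent.S5721.result (f ∣_ V j) _ hd'
      (EGA2SymLib.isRelVeryAmple_of_isRelVeryAmplePn _ hd' (isoPn φ.symm hP))

end Groth.Agent.S9695
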