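import Groth.Statements.S9698
import Mathlib
-- import your own Groth.Agent.* helpers here

set_option autoImplicit false
universe u
open CategoryTheory CategoryTheory.Limits AlgebraicGeometry
open Mor

namespace Groth.Agent.S9698

open AlgebraicGeometry CategoryTheory Limits in
theorem appLE_congr_hom {X Y : Scheme.{u}} {f g : X ⟶ Y} (h : f = g) (U : Y.Opens) (V : X.Opens) (e) (e')
    (a : Γ(Y, U)) : f.appLE U V e a = g.appLE U V e' a := by
  subst h; rfl

open AlgebraicGeometry CategoryTheory Limits in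
theorem appLE_res_top {X Y : Scheme.{u}} (f : X ⟶ Y) (U : Y.Opens) (V : X.Opens) (e : V ≤ f ⁻¹ᵁ U) (a : Γ(Y, ⊤)) :
    f.appLE U V e (Y.presheaf.map (homOfLE (le_top : U ≤ ⊤)).op a) =
      X.presheaf.map (homOfLE (le_top : V ≤ ⊤)).op (f.appTop a) := by
  have h : Y.presheaf.map (homOfLE (le_top : U ≤ ⊤)).op ≫ f.appLE U V e =
      f.app ⊤ ≫ X.presheaf.map (homOfLE (le_top : V ≤ ⊤)).op := Scheme.Hom.map_appLE f e _
  exact congr($h a)

open AlgebraicGeometry CategoryTheory Limits in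
/-- A morphism is an immersion when it restricts to closed immersions over opens covering its image. -/
theorem isImmersion_of_cover {X Y : Scheme.{u}} (i : X ⟶ Y) {ι : Type*} (U : ι → Y.Opens)
    (hcov : ∀ x, ∃ j, i.base x ∈ U j) (h : ∀ j, IsClosedImmersion (i ∣_ U j)) : IsImmersion i := by
  let V : Y.Opens := ⨆ j, U j
  have hV : IsClosedImmersion (i ∣_ V) := by
    refine IsZariskiLocalAtTarget.of_iSup_eq_top (P := @IsClosedImmersion) (fun j => V.ι ⁻¹ᵁ U j) ?_ fun j => ?_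
    · refine top_le_iff.mp fun z _ => ?_
      obtain ⟨j, hj⟩ := TopologicalSpace.Opens.mem_iSup.mp (show z.1 ∈ ⨆ j, U j from z.2)
      exact TopologicalSpace.Opens.mem_iSup.mpr ⟨j, hj⟩
    · have e : V.ι ''ᵁ (V.ι ⁻¹ᵁ U j) = U j := by
        rw [Scheme.Hom.image_preimage_eq_opensRange_inf, Scheme.Opens.opensRange_ι]
        exact inf_eq_right.mpr (le_iSup U j)
      rw [MorphismProperty.arrow_mk_iso_iff @IsClosedImmersion (morphismRestrictRestrict i V (V.ι ⁻¹ᵁ U j)), e]
      exact h j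
  have htop : i ⁻¹ᵁ V = ⊤ := top_le_iff.mp fun x _ => by
    obtain ⟨j, hj⟩ := hcov x
    exact le_iSup U j hj
  have : IsIso (i ⁻¹ᵁ V).ι := by
    have hs : Surjective (i ⁻¹ᵁ V).ι := ⟨fun x => ⟨⟨x, by rw [htop]; trivial⟩, rfl⟩⟩
    exact (isIso_iff_isOpenImmersion_and_epi_base _).mpr ⟨inferInstance,
      (TopCat.epi_iff_surjective _).mpr hs.surj⟩
  have he : i = inv (i ⁻¹ᵁ V).ι ≫ (i ∣_ V) ≫ V.ι := by
    rw [morphismRestrict_ι, IsIso.inv_hom_id_assoc]
  rw [he]
  infer_instance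


/-- Let π : X ⟶ S be locally of finite type with X quasi-affine. Then there exist n ≥ 0 and an immersion
i : X ⟶ A^n_S over S (affine n-space on the index type Fin n, lifted to the ambient universe). -/
theorem result {X S : Scheme.{u}} (π : X ⟶ S)
    [LocallyOfFiniteType π] [X.IsQuasiAffine] :
    ∃ (n : ℕ) (i : X ⟶ 𝔸(ULift.{u} (Fin n); S)), IsImmersion i ∧ i ≫ (𝔸(ULift.{u} (Fin n); S) ↘ S) = π := by
  classical
  -- affine basic opens mapping into affine opens of the base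
  have hpt : ∀ x : X, ∃ (r : Γ(X, ⊤)) (W : S.Opens), IsAffineOpen (X.basicOpen r) ∧ IsAffineOpen W ∧
      X.basicOpen r ≤ π ⁻¹ᵁ W ∧ x ∈ X.basicOpen r := fun x => by
    obtain ⟨_, ⟨W, hW, rfl⟩, hxW, -⟩ :=
      S.isBasis_affineOpens.exists_subset_of_mem_open (Set.mem_univ (π.base x)) isOpen_univ
    obtain ⟨_, ⟨_, ⟨r, hr, rfl⟩, rfl⟩, hxr, hle⟩ := (Scheme.IsQuasiAffine.isBasis_basicOpen X).exists_subset_of_mem_open
      (show x ∈ π ⁻¹ᵁ W from hxW) (π ⁻¹ᵁ W).isOpen
    exact ⟨r, W, hr, hW, hle, hxr⟩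
  choose r W hr hW hle hmem using hpt
  obtain ⟨s, hs⟩ := CompactSpace.isCompact_univ.elim_finite_subcover (fun x => (X.basicOpen (r x) : Set X))
    (fun x => (X.basicOpen (r x)).isOpen) fun x _ => Set.mem_iUnion.mpr ⟨x, hmem x⟩
  have hgen : ∀ x : X, ∃ T : Finset Γ(X, ⊤), ∀ z : Γ(X, X.basicOpen (r x)),
      z ∈ Subring.closure (Set.range (π.appLE (W x) (X.basicOpen (r x)) (hle x)).hom ∪
        (X.presheaf.map (homOfLE le_top).op).hom '' (T : Set Γ(X, ⊤)) ∪
        {z | z * (X.presheaf.map (homOfLE le_top).op) (r x) = 1}) := by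
    intro x
    let A := Γ(X, X.basicOpen (r x))
    letI : Algebra Γ(S, W x) A := (π.appLE (W x) (X.basicOpen (r x)) (hle x)).hom.toAlgebra
    have hft : Algebra.FiniteType Γ(S, W x) A := π.finiteType_appLE (hW x) (hr x) (hle x)
    obtain ⟨G, hG⟩ := hft.out
    haveI hloc : IsLocalization.Away (r x) Γ(X, X.basicOpen (r x)) :=
      isLocalization_basicOpen_of_qcqs isCompact_univ isQuasiSeparated_univ (r x)
    have hnum : ∀ g : A, ∃ b : Γ(X, ⊤), ∃ n : ℕ,
        g * (X.presheaf.map (homOfLE le_top).op) (r x) ^ n = (X.presheaf.map (homOfLE le_top).op) b := fun g => by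
      obtain ⟨⟨b, ⟨_, n, rfl⟩⟩, hb⟩ := IsLocalization.surj (Submonoid.powers (r x)) g
      refine ⟨b, n, ?_⟩
      simp only [map_pow] at hb
      exact hb
    choose b n hbn using hnum
    refine ⟨G.image b, fun z => ?_⟩
    let K := Subring.closure (Set.range (π.appLE (W x) (X.basicOpen (r x)) (hle x)).hom ∪
      (X.presheaf.map (homOfLE le_top).op).hom '' ((G.image b : Finset _) : Set Γ(X, ⊤)) ∪
      {z | z * (X.presheaf.map (homOfLE le_top).op) (r x) = 1})
    let B : Subalgebra Γ(S, W x) A :=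
      { K with algebraMap_mem' := fun a => Subring.subset_closure (Or.inl (Or.inl ⟨a, rfl⟩)) }
    have hzB : z ∈ B := by
      have hzA : z ∈ Algebra.adjoin Γ(S, W x) (G : Set A) := by rw [hG]; exact Algebra.mem_top
      refine Algebra.adjoin_le (fun g hg => ?_) hzA
      obtain ⟨u, hu⟩ := (IsLocalization.Away.algebraMap_isUnit (S := Γ(X, X.basicOpen (r x))) (r x))
      have hg' : g = (X.presheaf.map (homOfLE le_top).op) (b g) * (↑u⁻¹ : A) ^ n g := by
        rw [← hbn g, show (X.presheaf.map (homOfLE le_top).op) (r x) = (u : A) from hu.symm, mul_assoc,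
          ← mul_pow, Units.mul_inv, one_pow, mul_one]
      show g ∈ K
      rw [hg']
      refine K.mul_mem (Subring.subset_closure (Or.inl (Or.inr ⟨_, Finset.mem_image_of_mem b hg, rfl⟩)))
        (K.pow_mem (Subring.subset_closure (Or.inr ?_)) _)
      show (↑u⁻¹ : A) * (X.presheaf.map (homOfLE le_top).op) (r x) = 1
      rw [show (X.presheaf.map (homOfLE le_top).op) (r x) = (u : A) from hu.symm, Units.inv_mul]
    exact hzB
  choose T hT using hgen
  let F : Finset Γ(X, ⊤) := s.image r ∪ s.biUnion T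
  let v : ULift.{u} (Fin F.card) → Γ(X, ⊤) := fun i => (F.equivFin.symm i.down).1
  let i := AffineSpace.homOfVector π v
  refine ⟨F.card, i, ?_, AffineSpace.homOfVector_over π v⟩
  have hco : ∀ a ∈ F, ∃ c, i.appTop (AffineSpace.coord S c) = a := fun a ha =>
    ⟨⟨F.equivFin ⟨a, ha⟩⟩, by rw [AffineSpace.homOfVector_appTop_coord]; simp [v]⟩
  have hrF : ∀ x : s, r x.1 ∈ F := fun x => Finset.mem_union_left _ (Finset.mem_image_of_mem r x.2)
  choose c hc using fun x : s => hco _ (hrF x)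
  let U : s → (𝔸(ULift.{u} (Fin F.card); S)).Opens := fun x =>
    ((𝔸(ULift.{u} (Fin F.card); S) ↘ S) ⁻¹ᵁ W x.1) ⊓ (𝔸(ULift.{u} (Fin F.card); S)).basicOpen (AffineSpace.coord S (c x))
  have hpre : ∀ x : s, i ⁻¹ᵁ U x = X.basicOpen (r x.1) := fun x => by
    show i ⁻¹ᵁ (((𝔸(ULift.{u} (Fin F.card); S) ↘ S) ⁻¹ᵁ W x.1) ⊓ _) = _
    rw [Scheme.Hom.preimage_inf, ← Scheme.Hom.comp_preimage, AffineSpace.homOfVector_over,
      Scheme.preimage_basicOpen_top, hc]
    exact inf_eq_right.mpr (hle x.1)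
  refine isImmersion_of_cover i U (fun z => ?_) fun x => ?_
  · obtain ⟨x, hxs, hzx⟩ := Set.mem_iUnion₂.mp (hs (Set.mem_univ z))
    exact ⟨⟨x, hxs⟩, show z ∈ i ⁻¹ᵁ U ⟨x, hxs⟩ by rw [hpre]; exact hzx⟩
  have hUaff : IsAffineOpen (U x) := by
    have h1 : IsAffineOpen ((𝔸(ULift.{u} (Fin F.card); S) ↘ S) ⁻¹ᵁ W x.1) := (hW x.1).preimage _
    have h2 := h1.basicOpen ((𝔸(ULift.{u} (Fin F.card); S)).presheaf.map
      (homOfLE (le_top : ((𝔸(ULift.{u} (Fin F.card); S) ↘ S) ⁻¹ᵁ W x.1) ≤ ⊤)).op (AffineSpace.coord S (c x)))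
    rwa [Scheme.basicOpen_res] at h2
  haveI : IsAffine (U x : Scheme.{u}) := hUaff
  have hsurj : Function.Surjective (i.appLE (U x) (X.basicOpen (r x.1)) (hpre x).ge).hom := by
    intro z
    let K := (i.appLE (U x) (X.basicOpen (r x.1)) (hpre x).ge).hom.range
    have hcoordK : ∀ a ∈ F, (X.presheaf.map (homOfLE le_top).op) a ∈ K := fun a ha => by
      obtain ⟨d, hd⟩ := hco a ha
      refine ⟨(𝔸(ULift.{u} (Fin F.card); S)).presheaf.map (homOfLE le_top).op (AffineSpace.coord S d), ?_⟩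
      rw [← hd]
      exact appLE_res_top i _ _ _ _
    refine (Subring.closure_le (t := K)).mpr ?_ (hT x.1 z)
    rintro w ((⟨a, rfl⟩ | ⟨a, ha, rfl⟩) | hw)
    · refine ⟨(𝔸(ULift.{u} (Fin F.card); S) ↘ S).appLE (W x.1) (U x) inf_le_left a, ?_⟩
      rw [← CommRingCat.comp_apply, Scheme.Hom.appLE_comp_appLE]
      exact appLE_congr_hom (AffineSpace.homOfVector_over π v) _ _ _ _ _
    · exact hcoordK a (Finset.mem_union_right _ (Finset.mem_biUnion.mpr ⟨x.1, x.2, ha⟩))
    · have hu : IsUnit ((𝔸(ULift.{u} (Fin F.card); S)).presheaf.map (homOfLE (le_top : U x ≤ ⊤)).op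
          (AffineSpace.coord S (c x))) := by
        let Am := 𝔸(ULift.{u} (Fin F.card); S)
        have h2 : IsUnit (Am.presheaf.map (homOfLE (Am.basicOpen_le (AffineSpace.coord S (c x)))).op
            (AffineSpace.coord S (c x))) := RingedSpace.isUnit_res_basicOpen _ _
        have h3 := h2.map (Am.presheaf.map (homOfLE (inf_le_right : U x ≤ _)).op).hom
        have h4 := congr($(Am.presheaf.map_comp (homOfLE (Am.basicOpen_le (AffineSpace.coord S (c x)))).op
            (homOfLE (inf_le_right : U x ≤ _)).op) (AffineSpace.coord S (c x)))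
        exact h4 ▸ h3
      obtain ⟨e, he⟩ := hu
      refine ⟨(↑e⁻¹ : Γ(𝔸(ULift.{u} (Fin F.card); S), U x)), ?_⟩
      have h1 : (i.appLE (U x) (X.basicOpen (r x.1)) (hpre x).ge).hom (e : Γ(𝔸(ULift.{u} (Fin F.card); S), U x)) =
          (X.presheaf.map (homOfLE le_top).op) (r x.1) := by
        rw [he]
        exact (appLE_res_top i _ _ _ _).trans (congrArg _ (hc x))
      have hw' : w * (X.presheaf.map (homOfLE le_top).op) (r x.1) = 1 := hw
      calc _ = (i.appLE (U x) (X.basicOpen (r x.1)) (hpre x).ge).hom ↑e⁻¹ *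
            (w * (X.presheaf.map (homOfLE le_top).op) (r x.1)) := by rw [hw', mul_one]
        _ = w := by
          rw [← h1, mul_comm w, ← mul_assoc, ← map_mul, Units.inv_mul, map_one, one_mul]
  haveI : IsAffine (i ⁻¹ᵁ U x : Scheme.{u}) := by rw [hpre]; exact hr x.1
  refine (HasAffineProperty.iff_of_isAffine (P := @IsClosedImmersion)).mpr ⟨inferInstance, ?_⟩
  simp only [Scheme.Hom.appTop, morphismRestrict_app', TopologicalSpace.Opens.map_top]
  exact (Scheme.Hom.appLE_congr i _ (U x).ι_image_top (((i ⁻¹ᵁ U x).ι_image_top).trans (hpre x))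
    (fun φ => Function.Surjective φ.hom)).mpr hsurj

end Groth.Agent.S9698
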