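import Groth.Statements.S9700
import Groth.Agent.DvrDom.Dense

set_option autoImplicit false
universe u
open CategoryTheory CategoryTheory.Limits AlgebraicGeometry
open Mor

namespace Groth.Agent.S9700

/-- Let f : X ⟶ S and h : U ⟶ X be quasi-compact with h(U) dense in X. Suppose each valuative square
over f, whose map Spec K ⟶ X factors through h, has a unique diagonal lift. Then f is universally
closed, and f is also separated provided it is quasi-separated. -/
theorem result {U X S : Scheme.{u}} (f : X ⟶ S) (h : U ⟶ X)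
    [QuasiCompact f] [QuasiCompact h] (hd : DenseRange h.base)
    (H : ∀ sq : ValuativeCommSq f, (∃ i : Spec (.of sq.K) ⟶ U, i ≫ h = sq.i₁) →
      Nonempty (Unique sq.commSq.LiftStruct)) :
    UniversallyClosed f ∧ (QuasiSeparated f → IsSeparated f) := by
  have hG : ∀ x : X, ∃ v ∈ (Set.univ : Set U), h v ⤳ x := fun x ↦ by
    obtain ⟨v, hv⟩ := DvrDomLib.exists_specializes_of_mem_closure_range h x (hd x)
    exact ⟨v, trivial, hv⟩
  let sq : ∀ (v : U) (V : ValuationSubring (U.residueField v)) (y : Spec (CommRingCat.of V) ⟶ S),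
      Spec.map (CommRingCat.ofHom V.subtype) ≫ y = U.fromSpecResidueField v ≫ h ≫ f →
      ValuativeCommSq f := fun v V y hy ↦
    { R := V, K := U.residueField v, i₁ := U.fromSpecResidueField v ≫ h, i₂ := y
      commSq := ⟨(Category.assoc _ _ _).trans hy.symm⟩ }
  have huniq : ∀ v ∈ (Set.univ : Set U), ∀ V : ValuationSubring (U.residueField v),
      ∀ l₁ l₂ : Spec (CommRingCat.of V) ⟶ X, l₁ ≫ f = l₂ ≫ f →
        Spec.map (CommRingCat.ofHom V.subtype) ≫ l₁ = U.fromSpecResidueField v ≫ h →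
        Spec.map (CommRingCat.ofHom V.subtype) ≫ l₂ = U.fromSpecResidueField v ≫ h → l₁ = l₂ := by
    intro v _ V l₁ l₂ hl h₁ h₂
    have hy : Spec.map (CommRingCat.ofHom V.subtype) ≫ l₁ ≫ f =
        U.fromSpecResidueField v ≫ h ≫ f := by rw [← Category.assoc, h₁, Category.assoc]
    obtain ⟨hu⟩ := H (sq v V (l₁ ≫ f) hy) ⟨U.fromSpecResidueField v, rfl⟩
    exact congrArg CommSq.LiftStruct.l
      ((hu.uniq ⟨l₁, h₁, rfl⟩).trans (hu.uniq ⟨l₂, h₂, hl.symm⟩).symm)
  refine ⟨DvrDomLib.universallyClosed_of_valuationSubring_lifts f h Set.univ hG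
    (fun v _ V y hy ↦ ?_) huniq,
    fun _ ↦ DvrDomLib.isSeparated_of_valuationSubring f h Set.univ hG huniq⟩
  obtain ⟨hu⟩ := H (sq v V y hy) ⟨U.fromSpecResidueField v, rfl⟩
  exact ⟨hu.default.l, hu.default.fac_right, hu.default.fac_left⟩

end Groth.Agent.S9700
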