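import Groth.Statements.S9703
import Groth.Agent.Sweep9Lib.SplitAlg

set_option autoImplicit false
universe u
open CategoryTheory CategoryTheory.Limits AlgebraicGeometry
open Mor

namespace Groth.Agent.S9703

open Polynomial in
/-- the algebra obtained by adjoining `n` independent roots of a monic polynomial -/
lemma exists_rootsAlg {R : Type u} [CommRing R] (P : R[X]) (hP : P.Monic) :
    ∀ n : ℕ, ∃ (C : Type u) (_ : CommRing C) (_ : Algebra R C) (t : Fin n → C),
      Module.Free R C ∧ Module.Finite R C ∧ (∀ i, Polynomial.aeval (t i) P = 0) ∧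
      Algebra.adjoin R (Set.range t) = ⊤ ∧
      ∀ (D : Type u) [CommRing D] [Algebra R D] (s : Fin n → D),
        (∀ i, Polynomial.aeval (s i) P = 0) → ∃ φ : C →ₐ[R] D, ∀ i, φ (t i) = s i
  | 0 => ⟨R, inferInstance, Algebra.id R, Fin.elim0, inferInstance, inferInstance, fun i => i.elim0,
      by rw [eq_top_iff]; rintro x -; exact (Algebra.adjoin R _).algebraMap_mem x,
      fun D _ _ s _ => ⟨Algebra.ofId R D, fun i => i.elim0⟩⟩
  | n + 1 => by
    obtain ⟨C, _, _, t, hfree, hfin, ht, hgen, huniv⟩ := exists_rootsAlg P hP n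
    let Q : C[X] := P.map (algebraMap R C)
    have hQ : Q.Monic := hP.map _
    have : Module.Free C (AdjoinRoot Q) := .of_basis (AdjoinRoot.powerBasis' hQ).basis
    have : Module.Finite C (AdjoinRoot Q) := .of_basis (AdjoinRoot.powerBasis' hQ).basis
    let E := AdjoinRoot Q
    refine ⟨E, inferInstance, inferInstance,
      Fin.cons (AdjoinRoot.root Q) (fun i => algebraMap C E (t i)),
      Module.Free.trans (S := C), Module.Finite.trans C _, ?_, ?_, ?_⟩
    · refine Fin.cases ?_ (fun i => ?_)
      · have := AdjoinRoot.eval₂_root Q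
        rw [Polynomial.eval₂_map] at this
        simp only [Fin.cons_zero]
        rw [Polynomial.aeval_def, IsScalarTower.algebraMap_eq R C E]
        exact this
      · simp only [Fin.cons_succ]
        rw [Polynomial.aeval_algebraMap_apply, ht i, map_zero]
    · rw [eq_top_iff]
      rintro x -
      have hC : ∀ c : C, algebraMap C E c ∈ Algebra.adjoin R
          (Set.range (Fin.cons (AdjoinRoot.root Q) (fun i => algebraMap C E (t i)) : Fin (n+1) → E)) := by
        intro c
        have hc : c ∈ Algebra.adjoin R (Set.range t) := hgen ▸ trivial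
        have : IsScalarTower.toAlgHom R C E c ∈ (Algebra.adjoin R (Set.range t)).map (IsScalarTower.toAlgHom R C E) :=
          Subalgebra.mem_map.mpr ⟨c, hc, rfl⟩
        rw [AlgHom.map_adjoin] at this
        refine Algebra.adjoin_mono ?_ this
        rintro _ ⟨_, ⟨i, rfl⟩, rfl⟩
        exact ⟨i.succ, by simp⟩
      induction x using AdjoinRoot.induction_on with
      | ih p =>
        induction p using Polynomial.induction_on' with
        | add p q hp hq => rw [map_add]; exact add_mem hp hq
        | monomial k c =>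
          rw [← Polynomial.C_mul_X_pow_eq_monomial, map_mul, map_pow, AdjoinRoot.mk_C,
            AdjoinRoot.mk_X]
          exact mul_mem (hC c) (pow_mem (Algebra.subset_adjoin
            (Set.mem_range.mpr ⟨0, Fin.cons_zero _ _⟩)) k)
    · intro D _ _ s hs
      obtain ⟨φ, hφ⟩ := huniv D (fun i => s i.succ) (fun i => hs i.succ)
      have h0 : Q.eval₂ φ.toRingHom (s 0) = 0 := by
        rw [Polynomial.eval₂_map, AlgHom.toRingHom_eq_coe, AlgHom.comp_algebraMap,
          ← Polynomial.aeval_def]
        exact hs 0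
      refine ⟨{ AdjoinRoot.lift φ.toRingHom (s 0) h0 with
          commutes' := fun r => ?_ }, Fin.cases ?_ (fun i => ?_)⟩
      · change AdjoinRoot.lift φ.toRingHom (s 0) h0 (algebraMap R E r) = _
        rw [IsScalarTower.algebraMap_apply R C E]
        exact (AdjoinRoot.lift_of h0).trans (φ.commutes r)
      · simp only [Fin.cons_zero]
        exact AdjoinRoot.lift_root h0
      · simp only [Fin.cons_succ]
        exact (AdjoinRoot.lift_of h0).trans (hφ i)

open Polynomial in
lemma range_union {R : Type u} [CommRing R] {C : Type u} [CommRing C] [Algebra R C] {n r : ℕ}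
    (P : R[X]) (α : Fin r → R) (hP : P = ∏ k, (Polynomial.X - Polynomial.C (α k)))
    (t : Fin n → C) (ht : ∀ i, Polynomial.aeval (t i) P = 0)
    (hgen : Algebra.adjoin R (Set.range t) = ⊤)
    (s : (Fin n → Fin r) → (C →ₐ[R] R)) (hs : ∀ k i, s k (t i) = α (k i))
    (q : PrimeSpectrum C) : ∃ k, RingHom.ker (s k).toRingHom ≤ q.asIdeal := by
  have h : ∀ i, ∃ k, t i - algebraMap R C (α k) ∈ q.asIdeal := fun i => by
    have h0 := ht i
    rw [hP, map_prod] at h0
    simp only [map_sub, Polynomial.aeval_X, Polynomial.aeval_C] at h0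
    have : ∏ k, (t i - algebraMap R C (α k)) ∈ q.asIdeal := by rw [h0]; exact zero_mem _
    obtain ⟨k, _, hk⟩ := (Ideal.IsPrime.prod_mem_iff).mp this
    exact ⟨k, hk⟩
  choose k hk using h
  refine ⟨k, fun c hc => ?_⟩
  have key : ∀ c ∈ Algebra.adjoin R (Set.range t), c - algebraMap R C (s k c) ∈ q.asIdeal := by
    intro c hc
    induction hc using Algebra.adjoin_induction with
    | mem x hx => obtain ⟨i, rfl⟩ := hx; rw [hs]; exact hk i
    | algebraMap x => simp
    | add x y _ _ hx hy =>
      have e : x + y - algebraMap R C (s k (x + y)) =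
        (x - algebraMap R C (s k x)) + (y - algebraMap R C (s k y)) := by simp only [map_add]; ring
      rw [e]; exact add_mem hx hy
    | mul x y _ _ hx hy =>
      have e : x * y - algebraMap R C (s k (x * y)) =
        (x - algebraMap R C (s k x)) * y + algebraMap R C (s k x) * (y - algebraMap R C (s k y)) := by
        simp only [map_mul]; ring
      rw [e]; exact add_mem (Ideal.mul_mem_right _ _ hx) (Ideal.mul_mem_left _ _ hy)
  have := key c (hgen ▸ trivial)
  rw [show s k c = 0 from hc, map_zero, sub_zero] at this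
  exact this

lemma isFinLocFree_spec (R S : Type u) [CommRing R] [CommRing S] [Algebra R S] [Module.Free R S]
    [Module.Finite R S] : Mor2.IsFinLocFree (Spec.map (CommRingCat.ofHom (algebraMap R S))) := by
  have : Module.FinitePresentation R S := Module.finitePresentation_of_projective R S
  refine ⟨?_, ?_, ?_⟩
  · rw [IsFinite.SpecMap_iff]
    exact RingHom.finite_algebraMap.mpr inferInstance
  · rw [HasRingHomProperty.Spec_iff (P := @Flat)]
    exact RingHom.flat_algebraMap_iff.mpr inferInstance
  · rw [HasRingHomProperty.Spec_iff (P := @LocallyOfFinitePresentation)]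
    exact RingHom.finitePresentation_algebraMap.mpr inferInstance

lemma exists_split {A : Type u} [CommRing A] (P : Polynomial A) (hPm : P.Monic) :
    ∃ (A' : Type u) (_ : CommRing A') (_ : Algebra A A') (_ : Module.Free A A') (_ : Module.Finite A A'),
      Function.Injective (algebraMap A A') ∧ ∃ (r : ℕ) (α : Fin r → A'),
        P.map (algebraMap A A') = ∏ k, (Polynomial.X - Polynomial.C (α k)) := by
  obtain ⟨bas⟩ := Sweep9Lib.nonempty_basis_splitAlg P.natDegree P hPm rfl
  refine ⟨Sweep9Lib.SplitAlg P.natDegree P, inferInstance, inferInstance, .of_basis bas,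
    .of_basis bas, ?_, _, _, Sweep9Lib.map_eq_prod_sroot P.natDegree hPm rfl⟩
  rw [injective_iff_map_eq_zero]
  intro a ha
  let k : Fin P.natDegree.factorial := ⟨0, Nat.factorial_pos _⟩
  have h0 : a • bas k = 0 :=
    (Algebra.smul_def a (bas k)).trans (by rw [ha, zero_mul])
  have h1 := congrArg (fun x => bas.repr x k) h0
  simpa [Module.Basis.repr_self] using h1

open TensorProduct in
lemma core {X Y : Scheme.{u}} (f : Y ⟶ X) (A B : Type u) [CommRing A] [CommRing B] [Algebra A B]
    [Module.Finite A B] (eX : Spec (CommRingCat.of A) ≅ X) (eY : Spec (CommRingCat.of B) ≅ Y)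
    (hf : eY.hom ≫ f = Spec.map (CommRingCat.ofHom (algebraMap A B)) ≫ eX.hom) :
    ∃ (X' : Scheme.{u}) (b : X' ⟶ X) (Z' : Scheme.{u}) (c : Z' ⟶ X') (i : pullback f b ⟶ Z'),
      Mor2.IsFinLocFree b ∧ Surjective b ∧ Mor2.IsFinLocFree c ∧ IsClosedImmersion i ∧
      i ≫ c = pullback.snd f b ∧
      ∃ (m : ℕ) (Zj : Fin m → Scheme.{u}) (ιj : ∀ j, Zj j ⟶ Z'),
        (∀ j, IsClosedImmersion (ιj j)) ∧ (∀ j, IsIso (ιj j ≫ c)) ∧
        (⋃ j, Set.range (ιj j).base) = Set.univ := by
  classical
  obtain ⟨n, g, hg⟩ :=
    Algebra.FiniteType.iff_quotient_mvPolynomial''.mp (inferInstance : Algebra.FiniteType A B)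
  have hint : ∀ i : Fin n, IsIntegral A (g (MvPolynomial.X i)) := fun i =>
    Algebra.IsIntegral.isIntegral _
  choose p hpm hp using hint
  let P : Polynomial A := ∏ i, p i
  have hPm : P.Monic := Polynomial.monic_prod_of_monic _ _ fun i _ => hpm i
  have hPy : ∀ i, Polynomial.aeval (g (MvPolynomial.X i)) P = 0 := fun i => by
    rw [map_prod]
    exact Finset.prod_eq_zero (Finset.mem_univ i) (hp i)
  obtain ⟨A', _, _, _, _, hinj, r, α, hP'⟩ := exists_split P hPm
  let P' : Polynomial A' := P.map (algebraMap A A')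
  obtain ⟨C, _, _, t, hfree, hfin, ht, hgen, huniv⟩ := exists_rootsAlg P' (hPm.map _) n
  have hα : ∀ k, Polynomial.aeval (α k) P' = 0 := fun k => by
    rw [show P' = _ from hP', map_prod]
    refine Finset.prod_eq_zero (Finset.mem_univ k) ?_
    rw [map_sub, Polynomial.aeval_X, Polynomial.aeval_C, Algebra.algebraMap_self, RingHom.id_apply,
      sub_self]
  have hy : ∀ i, Polynomial.aeval ((1 : A') ⊗ₜ[A] g (MvPolynomial.X i)) P' = 0 := fun i => by
    rw [Polynomial.aeval_map_algebraMap,
      ← Algebra.TensorProduct.includeRight_apply, Polynomial.aeval_algHom_apply, hPy i, map_zero]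
  obtain ⟨π, hπ⟩ := huniv (A' ⊗[A] B) (fun i => (1 : A') ⊗ₜ[A] g (MvPolynomial.X i)) hy
  have hπs : Function.Surjective π := by
    have hB : ∀ x : MvPolynomial (Fin n) A, (1 : A') ⊗ₜ[A] g x ∈ π.range := by
      intro x
      induction x using MvPolynomial.induction_on with
      | C a =>
        refine ⟨algebraMap A' C (algebraMap A A' a), ?_⟩
        change π (algebraMap A' C _) = _
        rw [π.commutes, ← MvPolynomial.algebraMap_eq, g.commutes, ← IsScalarTower.algebraMap_apply]
        exact ((Algebra.TensorProduct.includeRight (R := A) (A := A') (B := B)).commutes a).symm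
      | add x y hx hy => rw [map_add, TensorProduct.tmul_add]; exact add_mem hx hy
      | mul_X x i hx =>
        rw [map_mul, show (1 : A') ⊗ₜ[A] (g x * g (MvPolynomial.X i)) =
          ((1 : A') ⊗ₜ[A] g x) * ((1 : A') ⊗ₜ[A] g (MvPolynomial.X i)) by rw [Algebra.TensorProduct.tmul_mul_tmul, one_mul]]
        exact mul_mem hx ⟨t i, hπ i⟩
    intro z
    suffices z ∈ π.range from this
    induction z using TensorProduct.induction_on with
    | zero => exact zero_mem _
    | add x y hx hy => exact add_mem hx hy
    | tmul a b =>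
      obtain ⟨x, rfl⟩ := hg b
      rw [show a ⊗ₜ[A] g x = a • ((1 : A') ⊗ₜ[A] g x) by
        rw [TensorProduct.smul_tmul', smul_eq_mul, mul_one]]
      exact Subalgebra.smul_mem _ (hB x) a
  have hS : ∀ k : Fin n → Fin r, ∃ s : C →ₐ[A'] A', ∀ i, s (t i) = α (k i) := fun k =>
    huniv A' (fun i => α (k i)) (fun i => hα (k i))
  choose s hs using hS
  let b : Spec (CommRingCat.of A') ⟶ X := Spec.map (CommRingCat.ofHom (algebraMap A A')) ≫ eX.hom
  let c : Spec (CommRingCat.of C) ⟶ Spec (CommRingCat.of A') :=
    Spec.map (CommRingCat.ofHom (algebraMap A' C))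
  have hpb : IsPullback
      (Spec.map (CommRingCat.ofHom (Algebra.TensorProduct.includeRight (R := A) (A := A') (B := B)).toRingHom) ≫ eY.hom)
      (Spec.map (CommRingCat.ofHom (Algebra.TensorProduct.includeLeftRingHom (R := A) (A := A') (B := B))))
      f b :=
    ((isPullback_SpecMap_of_isPushout _ _ _ _
      (CommRingCat.isPushout_tensorProduct A A' B)).flip).of_iso (Iso.refl _) eY (Iso.refl _) eX
      (by simp) (by simp) (by simpa using hf.symm) (by simp [b])
  obtain ⟨hbf, hbflat, hbfp⟩ := isFinLocFree_spec A A'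
  have hcl : IsClosedImmersion (Spec.map (CommRingCat.ofHom π.toRingHom)) :=
    IsClosedImmersion.spec_of_surjective _ hπs
  refine ⟨_, b, _, c, hpb.isoPullback.inv ≫ Spec.map (CommRingCat.ofHom π.toRingHom),
    ⟨inferInstance, inferInstance, inferInstance⟩, ?_, isFinLocFree_spec A' C, inferInstance, ?_,
    Fintype.card (Fin n → Fin r), fun _ => Spec (CommRingCat.of A'),
    fun j => Spec.map (CommRingCat.ofHom (s ((Fintype.equivFin _).symm j)).toRingHom), ?_, ?_, ?_⟩
  · have : Surjective (Spec.map (CommRingCat.ofHom (algebraMap A A'))) := by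
      constructor
      intro x
      exact PrimeSpectrum.comap_surjective_iff_injective_of_finite.mpr hinj x
    infer_instance
  · rw [Category.assoc, ← hpb.isoPullback_inv_snd]
    congr 1
    rw [← Spec.map_comp]
    congr 1
    ext a
    exact π.commutes a
  · exact fun j => IsClosedImmersion.spec_of_surjective _ fun a =>
      ⟨algebraMap A' C a, (s _).commutes a⟩
  · intro j
    have : Spec.map (CommRingCat.ofHom (s ((Fintype.equivFin _).symm j)).toRingHom) ≫ c = 𝟙 _ := by
      rw [← Spec.map_comp, ← Spec.map_id]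
      congr 1
      ext a
      exact (s _).commutes a
    rw [this]; infer_instance
  · refine Set.eq_univ_of_forall fun q => ?_
    obtain ⟨k, hk⟩ := range_union P' α hP' t ht hgen s hs q
    refine Set.mem_iUnion.mpr ⟨Fintype.equivFin _ k, ?_⟩
    simp only [Equiv.symm_apply_apply]
    change q ∈ Set.range (PrimeSpectrum.comap (s k).toRingHom)
    rw [range_comap_of_surjective _ _ fun a => ⟨algebraMap A' C a, (s k).commutes a⟩]
    exact hk

/-- Let f : Y ⟶ X be finite with X affine. Then there exist a surjective finite locally free b : X' ⟶ X,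
a finite locally free c : Z' ⟶ X' and a closed immersion i of Y' = X' ×_X Y into Z' over X' such
that Z' is, as a set, the union of finitely many closed subschemes each mapping isomorphically onto
X'. (The published statement also records that Y' ⟶ Y is surjective finite locally free, which
follows by base change; this row omits it.) -/
theorem result {X Y : Scheme.{u}} [IsAffine X] (f : Y ⟶ X)
    [IsFinite f] :
    ∃ (X' : Scheme.{u}) (b : X' ⟶ X) (Z' : Scheme.{u}) (c : Z' ⟶ X') (i : pullback f b ⟶ Z'),
      Mor2.IsFinLocFree b ∧ Surjective b ∧ Mor2.IsFinLocFree c ∧ IsClosedImmersion i ∧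
      i ≫ c = pullback.snd f b ∧
      ∃ (m : ℕ) (Zj : Fin m → Scheme.{u}) (ιj : ∀ j, Zj j ⟶ Z'),
        (∀ j, IsClosedImmersion (ιj j)) ∧ (∀ j, IsIso (ιj j ≫ c)) ∧
        (⋃ j, Set.range (ιj j).base) = Set.univ := by
  have : IsAffine Y := isAffine_of_isAffineHom f
  have hfin : f.appTop.hom.Finite := IsFinite.finite_app f ⊤ (isAffineOpen_top X)
  letI : Algebra Γ(X, ⊤) Γ(Y, ⊤) := f.appTop.hom.toAlgebra
  haveI : Module.Finite Γ(X, ⊤) Γ(Y, ⊤) := hfin
  exact core f Γ(X, ⊤) Γ(Y, ⊤) X.isoSpec.symm Y.isoSpec.symm (by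
    rw [Iso.symm_hom, Iso.symm_hom]
    exact (Scheme.isoSpec_inv_naturality f).symm)

end Groth.Agent.S9703
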