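import Groth.Statements.S9712
import Groth.Agent.MiscFlat6.AmpleSep
import Groth.Agent.AmpleLib.Ample
import Groth.Agent.AmpleLib.HProjBasic
import Groth.Agent.AmpleThLib.VeryAmple


-- import your own Groth.Agent.* helpers here

set_option autoImplicit false
universe u
open CategoryTheory CategoryTheory.Limits AlgebraicGeometry
open Mor

namespace Groth.Agent.S9712

/-- A morphism f : X ⟶ S is locally quasi-projective (S is covered by opens U with f⁻¹(U) ⟶ U
quasi-projective) if and only if S is covered by opens U such that f⁻¹(U) ⟶ U is H-quasi-projective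
(a quasi-compact immersion into some P^n_U followed by the projection). -/
theorem result {X S : Scheme.{u}} (f : X ⟶ S) :
    (∀ s : S, ∃ U : S.Opens, s ∈ U ∧ RelProj.IsQuasiProjective (f ∣_ U)) ↔
      (∀ s : S, ∃ U : S.Opens, s ∈ U ∧ RelProj.IsHQuasiProjective (f ∣_ U)) := by
  constructor
  · intro h s
    obtain ⟨U, hsU, hlft, hqc, L, hLq, hL⟩ := h s
    obtain ⟨_, ⟨V, hV, rfl⟩, hsV, -⟩ :=
      (U : Scheme.{u}).isBasis_affineOpens.exists_subset_of_mem_open
        (show (⟨s, hsU⟩ : (U : Scheme.{u})) ∈ ((⊤ : (U : Scheme.{u}).Opens) : Set (U : Scheme.{u})) from trivial) isOpen_univ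
    haveI := hlft
    haveI := hqc
    have hA := hL ⟨V, hV⟩
    haveI : IsAffine (V : Scheme.{u}) := hV
    haveI := MiscFlat6.isSeparated_of_isAmple hA
    haveI : IsSeparated (f ∣_ U ∣_ V) :=
      have : (f ∣_ U ∣_ V) ≫ terminal.from _ = terminal.from _ := Subsingleton.elim _ _
      haveI : IsSeparated ((f ∣_ U ∣_ V) ≫ terminal.from _) := this ▸ Scheme.IsSeparated.isSeparated_terminal_from
      IsSeparated.of_comp _ (terminal.from _)
    haveI : LocallyOfFiniteType (f ∣_ U ∣_ V) := IsZariskiLocalAtTarget.restrict hlft V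
    haveI : QuasiCompact (f ∣_ U ∣_ V) := IsZariskiLocalAtTarget.restrict hqc V
    obtain ⟨n₀, hn⟩ := AmpleThLib.eventually_veryAmple (f ∣_ U ∣_ V) hA.1 hA
    obtain ⟨n, i, hi, hif, -⟩ := hn n₀ le_rfl
    haveI := hi
    change i ≫ CohB1.ProjSpaceOver.toBase n _ = _ at hif
    refine ⟨U.ι ''ᵁ V, ⟨⟨s, hsU⟩, hsV, rfl⟩, ?_⟩
    let e := morphismRestrictRestrict f U V
    let i' := e.inv.left ≫ i ≫ AmpleLib.poMap n e.hom.right
    have h1 : i' ≫ CohB1.ProjSpaceOver.toBase n _ = f ∣_ (U.ι ''ᵁ V) := by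
      have hw : (f ∣_ U ∣_ V) ≫ e.hom.right = e.hom.left ≫ (f ∣_ (U.ι ''ᵁ V)) := (Arrow.w e.hom).symm
      simp only [i', Category.assoc, AmpleLib.poMap_toBase]
      rw [reassoc_of% hif, hw, ← Category.assoc, ← Arrow.comp_left, e.inv_hom_id]
      exact Category.id_comp _
    haveI : IsIso (AmpleLib.poMap n e.hom.right) :=
      (MorphismProperty.isomorphisms _).of_isPullback (AmpleLib.isPullback_poMap n e.hom.right).flip
        (inferInstanceAs (IsIso e.hom.right))
    haveI : IsImmersion i' := inferInstance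
    haveI : QuasiCompact (f ∣_ (U.ι ''ᵁ V)) := by
      exact ((MorphismProperty.arrow_mk_iso_iff @QuasiCompact e).1 (inferInstance : QuasiCompact (f ∣_ U ∣_ V)))
    haveI : QuasiCompact (i' ≫ CohB1.ProjSpaceOver.toBase n _) := by rw [h1]; infer_instance
    exact ⟨n, i', inferInstance, QuasiCompact.of_comp i' (CohB1.ProjSpaceOver.toBase n _), h1⟩
  · intro h s
    obtain ⟨U, hsU, hU⟩ := h s
    exact ⟨U, hsU, AmpleLib.isQuasiProjective_of_isHQuasiProjective hU⟩

end Groth.Agent.S9712
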