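import Groth.Statements.S9724
import Groth.Agent.Unram17Lib.SmoothCartier
import Groth.Agent.CMFlatLib.FibreDepth

set_option autoImplicit false
universe u
open FlatMor

namespace Groth.Agent.S9724

open IsLocalRing TensorProduct

theorem one_tmul_D_ne_zero {R O : Type u} [CommRing R] [IsLocalRing R] [CommRing O] [IsLocalRing O] [Algebra R O]
    [IsLocalHom (algebraMap R O)]
    (hsep : Algebra.FormallySmooth (ResidueField R) (ResidueField O))
    {h : O} (hm : h ∈ maximalIdeal O)
    (hh : h ∉ (maximalIdeal R).map (algebraMap R O) ⊔ maximalIdeal O ^ 2) :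
    (1 : ResidueField O) ⊗ₜ[O] KaehlerDifferential.D R O h ≠ 0 := by
  let I := (maximalIdeal R).map (algebraMap R O) ⊔ maximalIdeal O ^ 2
  have hIm : I ≤ maximalIdeal O :=
    sup_le (((local_hom_TFAE (algebraMap R O)).out 0 2).1 ‹IsLocalHom (algebraMap R O)›) (Ideal.pow_le_self two_ne_zero)
  let Q := O ⧸ I
  let φ : ResidueField R →+* Q := Ideal.Quotient.lift (maximalIdeal R)
    ((Ideal.Quotient.mk I).comp (algebraMap R O))
    (fun r hr => Ideal.Quotient.eq_zero_iff_mem.2 (Ideal.mem_sup_left (Ideal.mem_map_of_mem _ hr)))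
  letI : Algebra (ResidueField R) Q := φ.toAlgebra
  have hres : ∀ r : R, algebraMap (ResidueField R) (ResidueField O) (residue R r) = residue O (algebraMap R O r) :=
    fun r => rfl
  let g : Q →ₐ[ResidueField R] ResidueField O :=
    { Ideal.Quotient.factor hIm with
      commutes' := fun c => by
        obtain ⟨r, rfl⟩ := residue_surjective c
        rfl }
  have hgs : Function.Surjective g := Ideal.Quotient.factor_surjective hIm
  have hsq : ∀ a b : Q, g a = 0 → g b = 0 → a * b = 0 := by
    intro a b ha hb
    obtain ⟨a, rfl⟩ := Ideal.Quotient.mk_surjective a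
    obtain ⟨b, rfl⟩ := Ideal.Quotient.mk_surjective b
    have ha' : a ∈ maximalIdeal O := Ideal.Quotient.eq_zero_iff_mem.1 ha
    have hb' : b ∈ maximalIdeal O := Ideal.Quotient.eq_zero_iff_mem.1 hb
    rw [← map_mul, Ideal.Quotient.eq_zero_iff_mem]
    exact Ideal.mem_sup_right (by rw [pow_two]; exact Ideal.mul_mem_mul ha' hb')
  have hnil : IsNilpotent (RingHom.ker (g : Q →+* ResidueField O)) := by
    refine ⟨2, le_bot_iff.1 ?_⟩
    rw [pow_two, Ideal.mul_le]
    exact fun a ha b hb => hsq a b ha hb
  let σ := Algebra.FormallySmooth.liftOfSurjective (AlgHom.id (ResidueField R) (ResidueField O)) g hgs hnil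
  have hσ : ∀ c, g (σ c) = c := Algebra.FormallySmooth.liftOfSurjective_apply _ g hgs hnil
  let δ : O → Q := fun a => Ideal.Quotient.mk I a - σ (residue O a)
  have hδ : ∀ a, g (δ a) = 0 := fun a => by
    show g (Ideal.Quotient.mk I a - σ (residue O a)) = 0
    rw [map_sub, hσ]
    exact sub_self _
  let D : Derivation R O Q := Derivation.mk'
    { toFun := δ
      map_add' := fun a b => by simp [δ]; ring
      map_smul' := fun r a => by
        have h1 : σ (residue O (algebraMap R O r)) = Ideal.Quotient.mk I (algebraMap R O r) := by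
          rw [← hres, σ.commutes]
          rfl
        have h2 : r • δ a = Ideal.Quotient.mk I (algebraMap R O r) * δ a := by
          rw [← IsScalarTower.algebraMap_smul O r (δ a), Algebra.smul_def]; rfl
        rw [RingHom.id_apply, h2]
        simp only [δ, Algebra.smul_def, map_mul, h1]
        ring }
    (fun a b => by
      show δ (a * b) = a • δ b + b • δ a
      have h0 := hsq _ _ (hδ a) (hδ b)
      simp only [δ] at h0
      simp only [δ, map_mul, Algebra.smul_def, Ideal.Quotient.algebraMap_eq]
      linear_combination -h0)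
  let L := D.liftKaehlerDifferential
  have hL : ∀ x, g (L x) = 0 := by
    intro x
    induction (KaehlerDifferential.span_range_derivation R O).ge (Submodule.mem_top : x ∈ ⊤) using
      Submodule.span_induction with
    | mem y hy =>
      obtain ⟨a, rfl⟩ := hy
      rw [Derivation.liftKaehlerDifferential_comp_D]
      exact hδ a
    | zero => simp
    | add y z _ _ hy hz => rw [map_add, map_add, hy, hz, add_zero]
    | smul a y _ hy => rw [map_smul, Algebra.smul_def, map_mul, hy, mul_zero]
  intro h0
  have h1 : KaehlerDifferential.D R O h ∈ (maximalIdeal O) • (⊤ : Submodule O (Ω[O⁄R])) := by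
    have h2 := congrArg (TensorProduct.quotTensorEquivQuotSMul (Ω[O⁄R]) (maximalIdeal O)) h0
    rw [← Submodule.Quotient.mk_eq_zero]
    exact ((TensorProduct.quotTensorEquivQuotSMul_mk_one_tmul (maximalIdeal O) (KaehlerDifferential.D R O h)).symm.trans
      (h2.trans (LinearEquiv.map_zero _)))
  have h3 : ∀ x ∈ (maximalIdeal O) • (⊤ : Submodule O (Ω[O⁄R])), L x = 0 := by
    intro x hx
    refine Submodule.smul_induction_on hx (fun a ha y _ => ?_) fun y z hy hz => ?_
    · rw [map_smul, Algebra.smul_def]
      exact hsq _ _ (Ideal.Quotient.eq_zero_iff_mem.2 ha) (hL y)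
    · rw [map_add, hy, hz, add_zero]
  have h4 := h3 _ h1
  rw [Derivation.liftKaehlerDifferential_comp_D] at h4
  have h5 : Ideal.Quotient.mk I h = 0 := by
    have : residue O h = 0 := (residue_eq_zero_iff h).2 hm
    simpa [D, δ, this] using h4
  exact hh (Ideal.Quotient.eq_zero_iff_mem.1 h5)

open AlgebraicGeometry CategoryTheory Limits in
/-- Let f : X ⟶ S be a morphism and x a point such that f is smooth on an open neighbourhood of x, the
residue field extension κ(x)/κ(f x) is separable (formally smooth), and x is not the generic point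
of any irreducible component of the fibre over f x, i.e. (the fibre being smooth over a field near
x) the maximal ideal of the local ring of the fibre at x is nonzero. Then there are an affine open U
∋ x and a nonzerodivisor h' of Γ(X, U) vanishing at x such that the closed subscheme V(h') of U, an
effective Cartier divisor through x, is smooth over S. -/
theorem result {X S : Scheme.{u}} (f : X ⟶ S) (x : X)
    (W : X.Opens) (hxW : x ∈ W) (hW : Smooth (W.ι ≫ f))
    (hsep : letI := (f.residueFieldMap x).hom.toAlgebra
      Algebra.FormallySmooth (S.residueField (f x)) (X.residueField x))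
    (hgen : IsLocalRing.maximalIdeal ↑((f.fiber (f x)).presheaf.stalk (f.asFiber x)) ≠ ⊥) :
    ∃ (U : X.Opens) (hU : IsAffineOpen U) (hx : x ∈ U) (h' : Γ(X, U)), h' ∈ nonZeroDivisors Γ(X, U) ∧
      X.presheaf.germ U x hx h' ∈ IsLocalRing.maximalIdeal ↑(X.presheaf.stalk x) ∧
      Smooth (Spec.map (CommRingCat.ofHom (Ideal.Quotient.mk (Ideal.span {h'}))) ≫ hU.fromSpec ≫ f) := by
  letI := (f.stalkMap x).hom.toAlgebra
  let R := S.presheaf.stalk (f x)
  let O := X.presheaf.stalk x
  haveI : IsLocalHom (algebraMap R O) := f.toLRSHom.prop x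
  let g := W.ι ≫ f
  let w : (W : Scheme) := ⟨x, hxW⟩
  have hgw : g w = f x := rfl
  obtain ⟨e⟩ := CMFlatLib.nonempty_fibre_equiv f x
  let m := (maximalIdeal R).map (algebraMap R O)
  haveI : IsLocalRing (GorLib.Fib R O) := RingEquiv.isLocalRing e
  haveI : IsNoetherianRing (GorLib.Fib R O) := by
    haveI : LocallyOfFiniteType g := inferInstance
    haveI : LocallyOfFiniteType (g.fiberToSpecResidueField (g w)) :=
      inferInstanceAs (LocallyOfFiniteType (pullback.snd g (S.fromSpecResidueField (g w))))
    haveI : IsLocallyNoetherian (g.fiber (g w)) :=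
      LocallyOfFiniteType.isLocallyNoetherian (g.fiberToSpecResidueField (g w))
    obtain ⟨e'⟩ := CMFlatLib.nonempty_fibre_equiv g w
    haveI : IsIso (W.ι.stalkMap w) := inferInstance
    let i := (asIso (W.ι.stalkMap w)).commRingCatIsoToRingEquiv
    have hi : ((maximalIdeal ↑(S.presheaf.stalk (g w))).map (g.stalkMap w).hom) = m.map i.toRingHom := by
      rw [show g.stalkMap w = f.stalkMap x ≫ W.ι.stalkMap w from Scheme.Hom.stalkMap_comp W.ι f w]
      exact (Ideal.map_map _ _).symm
    exact isNoetherianRing_of_ringEquiv ((g.fiber (g w)).presheaf.stalk (g.asFiber w))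
      (e'.trans (Ideal.quotientEquiv m _ i hi).symm)
  obtain ⟨h, hm, hh⟩ : ∃ h ∈ maximalIdeal O, h ∉ m ⊔ maximalIdeal O ^ 2 := by
    by_contra hcon
    push Not at hcon
    apply hgen
    let π : O →+* GorLib.Fib R O := Ideal.Quotient.mk m
    have hmax : maximalIdeal (GorLib.Fib R O) = (maximalIdeal O).map π :=
      (IsLocalRing.map_maximalIdeal_of_surjective π Ideal.Quotient.mk_surjective).symm
    have h0 : maximalIdeal (GorLib.Fib R O) = ⊥ := by
      refine Submodule.eq_bot_of_le_smul_of_le_jacobson_bot (maximalIdeal _) _ (IsNoetherian.noetherian _) ?_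
        (maximalIdeal_le_jacobson _)
      rw [smul_eq_mul, ← pow_two, hmax, ← Ideal.map_pow]
      refine (Ideal.map_mono (fun z hz => hcon z hz)).trans ?_
      rw [Ideal.map_sup, Ideal.map_quotient_self, bot_sup_eq]
    rw [← le_bot_iff]
    intro z hz
    have hz' : e z ∈ maximalIdeal (GorLib.Fib R O) := fun hu => hz ((MulEquiv.isUnit_map e).1 hu)
    rw [h0] at hz'
    exact e.injective (hz'.trans (map_zero e).symm)
  have hsep' : Algebra.FormallySmooth (ResidueField R) (ResidueField O) := by
    have h1 : RingHom.FormallySmooth (f.residueFieldMap x).hom := hsep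
    have e1 : algebraMap (ResidueField R) (ResidueField O) = (f.residueFieldMap x).hom :=
      RingHom.ext fun c => by obtain ⟨r, rfl⟩ := residue_surjective c; rfl
    rw [← RingHom.formallySmooth_algebraMap, e1]
    exact h1
  have hd := one_tmul_D_ne_zero (R := R) (O := O) hsep' hm hh
  obtain ⟨U, hU, hx, h', hg, hr, hs⟩ := Unram17Lib.exists_smooth_effCartier f x W hxW hW h hm hd
  exact ⟨U, hU, hx, h', hr, hg ▸ hm, hs⟩

end Groth.Agent.S9724
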