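import Groth.Statements.S9727
import Groth.Agent.EtFibreLiftLib.Alg
import Groth.Agent.SpreadClosedLib.Piece
import Mathlib.AlgebraicGeometry.Morphisms.Etale
import Mathlib.RingTheory.Unramified.LocalStructure
import Mathlib.AlgebraicGeometry.Fiber

set_option autoImplicit false
universe u
open FlatMor

open scoped TensorProduct

namespace Groth.Agent.S9727

open AlgebraicGeometry CategoryTheory Limits in
/-- Let f : X ⟶ S be a morphism, x a point of X with image s, and (V, v) ⟶ (X_s, x) an étale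
neighbourhood of x in its fibre. Then there is an étale neighbourhood (U, u) ⟶ (X, x) whose fibre
U_s over s admits a morphism of étale neighbourhoods (U_s, u) ⟶ (V, v) over X_s which is an open
immersion. -/
theorem result {X S V : Scheme.{u}} (f : X ⟶ S) (x : X)
    (g : V ⟶ f.fiber (f x)) [Etale g] (v : V) (hv : g v = f.asFiber x) :
    ∃ (U : Scheme.{u}) (p : U ⟶ X) (u : U) (m : (p ≫ f).fiber (f x) ⟶ V) (u' : ↑((p ≫ f).fiber (f x))),
      Etale p ∧ p u = x ∧ IsOpenImmersion m ∧ m ≫ g = MoreMor.fiberMap p f (f x) ∧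
      (p ≫ f).fiberι (f x) u' = u ∧ m u' = v := by
  classical
  let s := f x
  obtain ⟨U₀, hU₀, hsU, -⟩ := exists_isAffineOpen_mem_and_subset (X := S) (x := s) (U := ⊤) trivial
  obtain ⟨W, hW, hxW, hWU⟩ := exists_isAffineOpen_mem_and_subset (X := X) (x := x) (U := f ⁻¹ᵁ U₀) hsU
  replace hWU : W ≤ f ⁻¹ᵁ U₀ := hWU
  let φ : Γ(S, U₀) ⟶ S.residueField s := S.presheaf.germ U₀ s hsU ≫ S.residue s
  have hs : Spec.map φ ≫ hU₀.fromSpec = S.fromSpecResidueField s := by
    rw [Scheme.fromSpecResidueField, Spec.map_comp, Category.assoc]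
    exact congrArg (Spec.map (S.residue s) ≫ ·) (hU₀.fromSpecStalk_eq_fromSpecStalk hsU)
  letI algA : Algebra Γ(S, U₀) Γ(X, W) := (f.appLE U₀ W hWU).hom.toAlgebra
  letI algK : Algebra Γ(S, U₀) (S.residueField s) := φ.hom.toAlgebra
  have hden : ∀ z : S.residueField s, ∃ a σ : Γ(S, U₀), algebraMap Γ(S, U₀) (S.residueField s) σ ≠ 0 ∧
      z * algebraMap Γ(S, U₀) (S.residueField s) σ = algebraMap Γ(S, U₀) (S.residueField s) a := by
    intro z
    obtain ⟨w, rfl⟩ := S.residue_surjective s z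
    letI := S.presheaf.algebra_section_stalk (⟨s, hsU⟩ : U₀)
    haveI := hU₀.isLocalization_stalk ⟨s, hsU⟩
    obtain ⟨⟨a, σ⟩, h⟩ := IsLocalization.surj (hU₀.primeIdealOf ⟨s, hsU⟩).asIdeal.primeCompl w
    refine ⟨a, σ, ?_, ?_⟩
    · exact ((IsLocalization.map_units (S.presheaf.stalk s) σ).map (S.residue s).hom).ne_zero
    · exact (map_mul (S.residue s).hom _ _).symm.trans (congrArg (S.residue s).hom h)
  have he : Spec.map (CommRingCat.ofHom (algebraMap Γ(S, U₀) Γ(X, W))) ≫ hU₀.fromSpec = hW.fromSpec ≫ f :=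
    hU₀.SpecMap_appLE_fromSpec f hW hWU
  have hh : Spec.map (CommRingCat.ofHom (algebraMap Γ(S, U₀) (S.residueField s))) ≫ hU₀.fromSpec =
      𝟙 _ ≫ S.fromSpecResidueField s := hs.trans (Category.id_comp _).symm
  let π : Spec (CommRingCat.of (Γ(X, W) ⊗[Γ(S, U₀)] S.residueField s)) ⟶ f.fiber s :=
    SpreadClosedLib.piece he hh
  haveI : IsOpenImmersion π := SpreadClosedLib.isOpenImmersion_piece he hh
  have hπι : π ≫ f.fiberι s = Spec.map (CommRingCat.ofHom (Algebra.TensorProduct.includeLeftRingHom :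
      Γ(X, W) →+* Γ(X, W) ⊗[Γ(S, U₀)] S.residueField s)) ≫ hW.fromSpec :=
    SpreadClosedLib.piece_fst he hh
  have hπr : ∀ y : f.fiber s, f.fiberι s y ∈ W → y ∈ Set.range π := fun y hy => by
    change y ∈ Set.range (SpreadClosedLib.piece he hh)
    rw [SpreadClosedLib.range_piece he hh]
    exact ⟨hW.range_fromSpec ▸ hy, ⟨_, rfl⟩⟩
  have hgv : g v ∈ π.opensRange := by
    refine hπr _ ?_
    rw [hv, show f.fiberι s (f.asFiber x) = x from Scheme.Hom.fiberι_asFiber f x]
    exact hxW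
  obtain ⟨V', hV', hvV', hV'le⟩ := exists_isAffineOpen_mem_and_subset (X := V) (x := v)
    (U := g ⁻¹ᵁ π.opensRange) hgv
  let l := IsOpenImmersion.lift π (hV'.fromSpec ≫ g) (by
    rintro _ ⟨w, rfl⟩
    exact hV'le (hV'.range_fromSpec.subset ⟨w, rfl⟩))
  have hl : l ≫ π = hV'.fromSpec ≫ g := IsOpenImmersion.lift_fac _ _ _
  haveI : Etale l := by
    haveI : Etale (l ≫ π) := hl ▸ inferInstance
    exact Etale.of_comp l π
  obtain ⟨ψ, hψ⟩ := Spec.map_surjective l
  letI algC : Algebra (Γ(X, W) ⊗[Γ(S, U₀)] S.residueField s) Γ(V, V') := ψ.hom.toAlgebra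
  haveI : Algebra.Etale (Γ(X, W) ⊗[Γ(S, U₀)] S.residueField s) Γ(V, V') := by
    have h : Etale (Spec.map ψ) := hψ ▸ inferInstance
    rw [HasRingHomProperty.Spec_iff (P := @Etale)] at h
    exact h
  obtain ⟨r, hr, hstd⟩ := Algebra.IsEtaleAt.exists_isStandardEtale
    (R := Γ(X, W) ⊗[Γ(S, U₀)] S.residueField s) (hV'.primeIdealOf ⟨v, hvV'⟩).asIdeal
  obtain ⟨Pp⟩ := hstd.nonempty_standardEtalePresentation
  obtain ⟨σ, hσ, lam, Q, hlam, hQf, hQg⟩ := EtFibreLiftLib.exists_pair_lift hden Pp.P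
  obtain ⟨θ, -, hpo⟩ := EtFibreLiftLib.exists_pushout lam Q Pp.P hQf hQg
  let e' : Spec (CommRingCat.of (Localization.Away (algebraMap Γ(S, U₀) Γ(X, W) σ))) ⟶ X :=
    Spec.map (CommRingCat.ofHom (algebraMap Γ(X, W) _)) ≫ hW.fromSpec
  haveI : IsOpenImmersion (Spec.map (CommRingCat.ofHom (algebraMap Γ(X, W)
      (Localization.Away (algebraMap Γ(S, U₀) Γ(X, W) σ))))) :=
    IsOpenImmersion.of_isLocalization (algebraMap Γ(S, U₀) Γ(X, W) σ)
  haveI : IsOpenImmersion e' := inferInstance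
  have hle' : lam.comp (algebraMap Γ(X, W) _) = (Algebra.TensorProduct.includeLeftRingHom :
      Γ(X, W) →+* Γ(X, W) ⊗[Γ(S, U₀)] S.residueField s) := RingHom.ext hlam
  have hsq : IsPullback (Spec.map (CommRingCat.ofHom lam)) π e' (f.fiberι s) := by
    refine IsOpenImmersion.isPullback _ _ _ _ ?_ (le_antisymm (fun y hy => ?_) ?_)
    · rw [hπι, show e' = Spec.map (CommRingCat.ofHom (algebraMap Γ(X, W) _)) ≫ hW.fromSpec from rfl,
        ← Category.assoc, ← Spec.map_comp, ← CommRingCat.ofHom_comp, hle']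
    · exact hπr y (by
        obtain ⟨w, hw⟩ := hy
        have h1 : e' w ∈ W := hW.range_fromSpec.subset ⟨Spec.map (CommRingCat.ofHom
          (algebraMap Γ(X, W) _)) w, rfl⟩
        exact hw ▸ h1)
    · rintro _ ⟨q, rfl⟩
      change f.fiberι s (π q) ∈ Set.range e'
      rw [← Scheme.Hom.comp_apply, hπι, ← hle', CommRingCat.ofHom_comp, Spec.map_comp, Category.assoc]
      exact ⟨_, rfl⟩
  let p : Spec (CommRingCat.of Q.Ring) ⟶ X :=
    Spec.map (CommRingCat.ofHom (algebraMap _ Q.Ring)) ≫ e'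
  haveI : Etale (Spec.map (CommRingCat.ofHom (algebraMap
      (Localization.Away (algebraMap Γ(S, U₀) Γ(X, W) σ)) Q.Ring))) := by
    rw [HasRingHomProperty.Spec_iff (P := @Etale)]
    exact RingHom.etale_algebraMap.mpr inferInstance
  haveI : Etale p := inferInstance
  have hX : IsPullback (Spec.map (CommRingCat.ofHom θ))
      (Spec.map (CommRingCat.ofHom (algebraMap _ Pp.P.Ring)) ≫ π) p (f.fiberι s) :=
    (isPullback_SpecMap_of_isPushout _ _ _ _ hpo).paste_vert hsq
  have hT : IsPullback (Spec.map (CommRingCat.ofHom θ))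
      ((Spec.map (CommRingCat.ofHom (algebraMap _ Pp.P.Ring)) ≫ π) ≫ f.fiberToSpecResidueField s)
      (p ≫ f) (S.fromSpecResidueField s) :=
    hX.paste_vert (IsPullback.of_hasPullback f (S.fromSpecResidueField s))
  let I := hT.isoPullback
  let eC : Γ(V, V') →+* Pp.P.Ring :=
    (Pp.equivRing : Localization.Away r →+* Pp.P.Ring).comp (algebraMap Γ(V, V') (Localization.Away r))
  let j : Spec (CommRingCat.of Pp.P.Ring) ⟶ V := Spec.map (CommRingCat.ofHom eC) ≫ hV'.fromSpec
  haveI : IsIso (Spec.map (CommRingCat.ofHom (Pp.equivRing : Localization.Away r →+* Pp.P.Ring))) :=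
    inferInstanceAs (IsIso (Scheme.Spec.map (Pp.equivRing.toRingEquiv.toCommRingCatIso).hom.op))
  haveI : IsOpenImmersion (Spec.map (CommRingCat.ofHom (algebraMap Γ(V, V') (Localization.Away r)))) :=
    IsOpenImmersion.of_isLocalization r
  haveI : IsOpenImmersion j := by
    simp only [j, eC]
    rw [CommRingCat.ofHom_comp, Spec.map_comp]
    infer_instance
  have hj : j ≫ g = Spec.map (CommRingCat.ofHom (algebraMap _ Pp.P.Ring)) ≫ π := by
    simp only [j, Category.assoc]
    rw [← hl, ← hψ, ← Category.assoc, ← Spec.map_comp]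
    congr 2
    refine CommRingCat.hom_ext (RingHom.ext fun a => ?_)
    change Pp.equivRing (algebraMap Γ(V, V') (Localization.Away r) (algebraMap _ Γ(V, V') a)) = _
    rw [← IsScalarTower.algebraMap_apply, AlgEquiv.commutes]
    rfl
  obtain ⟨c, hc⟩ : v ∈ Set.range j := by
    obtain ⟨qr, hqr⟩ : hV'.primeIdealOf ⟨v, hvV'⟩ ∈
        Set.range (PrimeSpectrum.comap (algebraMap Γ(V, V') (Localization.Away r))) := by
      rw [PrimeSpectrum.localization_away_comap_range (Localization.Away r) r]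
      exact hr
    obtain ⟨c, hc⟩ := (Spec.map (CommRingCat.ofHom
      (Pp.equivRing : Localization.Away r →+* Pp.P.Ring))).homeomorph.surjective qr
    refine ⟨c, ?_⟩
    have h1 : Spec.map (CommRingCat.ofHom eC) c = hV'.primeIdealOf ⟨v, hvV'⟩ := by
      simp only [eC]
      rw [CommRingCat.ofHom_comp, Spec.map_comp, Scheme.Hom.comp_apply]
      exact (congrArg _ hc).trans hqr
    rw [Scheme.Hom.comp_apply, h1]
    exact hV'.fromSpec_primeIdealOf ⟨v, hvV'⟩
  refine ⟨_, p, (p ≫ f).fiberι s (I.hom c), I.inv ≫ j, I.hom c, inferInstance, ?_, inferInstance, ?_,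
    rfl, ?_⟩
  · have h1 : I.hom ≫ (p ≫ f).fiberι s = Spec.map (CommRingCat.ofHom θ) := hT.isoPullback_hom_fst
    change ((I.hom ≫ (p ≫ f).fiberι s) ≫ p) c = x
    rw [h1, hX.w, ← hj, Category.assoc, Scheme.Hom.comp_apply, hc, Scheme.Hom.comp_apply, hv]
    exact Scheme.Hom.fiberι_asFiber f x
  · refine (Category.assoc _ _ _).trans ((Iso.inv_comp_eq I).mpr ?_)
    rw [hj]
    apply Limits.pullback.hom_ext
    · refine Eq.trans ?_ ((Category.assoc _ _ _).trans
        (congrArg (I.hom ≫ ·) (Limits.pullback.lift_fst _ _ _))).symm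
      refine hX.w.symm.trans ?_
      refine Eq.trans ?_ (Category.assoc _ _ _)
      exact congrArg (· ≫ p) hT.isoPullback_hom_fst.symm
    · refine Eq.trans ?_ ((Category.assoc _ _ _).trans
        (congrArg (I.hom ≫ ·) (Limits.pullback.lift_snd _ _ _))).symm
      exact hT.isoPullback_hom_snd.symm
  · change (I.hom ≫ I.inv ≫ j) c = v
    rw [Iso.hom_inv_id_assoc]
    exact hc

end Groth.Agent.S9727
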