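import Groth.Statements.S9728
import Groth.Agent.KoszAtLib.Basic

set_option autoImplicit false
universe u
open FlatMor

namespace Groth.Agent.S9728

open AlgebraicGeometry CategoryTheory Limits in
/-- Given S-schemes U, P, P' with P and P' smooth over S, immersions i : U ⟶ P and i' : U ⟶ P'
compatible with the structure maps to S, and a point u of U, some restriction of i to an open
neighbourhood of u is a Koszul-regular immersion exactly when some restriction of i' to an open
neighbourhood of u is. -/
theorem result {S U P P' : Scheme.{u}} (q : U ⟶ S)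
    (p : P ⟶ S) (p' : P' ⟶ S) [Smooth p] [Smooth p'] (i : U ⟶ P) (i' : U ⟶ P') [IsImmersion i] [IsImmersion i']
    (hi : i ≫ p = q) (hi' : i' ≫ p' = q) (u : U) :
    (∃ V : U.Opens, u ∈ V ∧ RegImm.IsRegularImmersion RegImm.Kind.koszul (V.ι ≫ i)) ↔
      (∃ V : U.Opens, u ∈ V ∧ RegImm.IsRegularImmersion RegImm.Kind.koszul (V.ι ≫ i')) := by
  constructor <;> rintro ⟨V, hu, hV⟩ <;> refine ⟨V, hu, ?_⟩
  · refine KoszAtLib.koszul_of_immersion_smooth (V.ι ≫ i') p' ?_
    rw [Category.assoc, hi', ← hi, ← Category.assoc]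
    exact KoszAtLib.lciMor_of_regularImmersion_smooth (V.ι ≫ i) p hV
  · refine KoszAtLib.koszul_of_immersion_smooth (V.ι ≫ i) p ?_
    rw [Category.assoc, hi, ← hi', ← Category.assoc]
    exact KoszAtLib.lciMor_of_regularImmersion_smooth (V.ι ≫ i') p' hV

end Groth.Agent.S9728
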