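import Groth.Statements.S9740
import Mathlib.AlgebraicGeometry.IdealSheaf.Basic
-- import your own Groth.Agent.* helpers here

set_option autoImplicit false
universe u
open OmegaSh

namespace Groth.Agent.S9740

open AlgebraicGeometry CategoryTheory Limits in
/-- Let h : Z ⟶ X be formally unramified with universal first order thickening (i : Z ⟶ Z', h' : Z' ⟶
X), let V ⊆ Z and U ⊆ X be opens with h(V) ⊆ U, and let V' ⊆ Z' be the open with i⁻¹(V') = V (so
h'(V') ⊆ U). Then the restricted pair (V ⟶ V', V' ⟶ U) is a universal first-order thickening for the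
restriction V ⟶ U of h. The published statement also asserts that this restriction is formally
unramified and that the conormal sheaf of Z over X restricts on V to that of V over U; this row
states only the thickening part. -/
theorem result {Z Z' X : Scheme.{u}} (h : Z ⟶ X) [FormallyUnramified h] (i : Z ⟶ Z') (h' : Z' ⟶ X)
    (hu : OmegaSh.IsUnivThickening h i h') (V : Z.Opens) (U : X.Opens) (hVU : V ≤ h ⁻¹ᵁ U)
    (V' : Z'.Opens) (hV' : i ⁻¹ᵁ V' = V) (hV'U : V' ≤ h' ⁻¹ᵁ U) :
    OmegaSh.IsUnivThickening (h.resLE U V hVU) (i.resLE V' V hV'.ge) (h'.resLE U V' hV'U) := by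
  subst hV'
  obtain ⟨⟨⟨hci, hsurj⟩, hker⟩, hfac, huniv⟩ := hu
  haveI := hci
  haveI := hsurj
  have hres : i.resLE V' (i ⁻¹ᵁ V') le_rfl = i ∣_ V' := i.resLE_eq_morphismRestrict
  refine ⟨⟨⟨?_, ?_⟩, ?_⟩, ?_, ?_⟩
  · rw [hres]; exact IsZariskiLocalAtTarget.restrict hci V'
  · rw [hres]; exact IsZariskiLocalAtTarget.restrict hsurj V'
  · rw [hres]
    refine Scheme.IdealSheafData.ext (funext fun W => ?_)
    rw [Scheme.IdealSheafData.ideal_mul, Pi.mul_apply, Scheme.ker_morphismRestrict_ideal]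
    have h0 := congr_arg (fun I : Z'.IdealSheafData =>
      I.ideal ⟨V'.ι ''ᵁ W, W.2.image_of_isOpenImmersion _⟩) hker
    exact h0
  · rw [← cancel_mono U.ι, Category.assoc, Scheme.Hom.resLE_comp_ι, Scheme.Hom.resLE_comp_ι_assoc,
      Scheme.Hom.resLE_comp_ι, hfac]
  · intro T T' j b a hj hab
    haveI : Surjective j := hj.1.2
    obtain ⟨a', ⟨h1, h2⟩, huniq⟩ := huniv T T' j (b ≫ U.ι) (a ≫ (i ⁻¹ᵁ V').ι) hj (by
      rw [← Category.assoc, hab, Category.assoc, Category.assoc, Scheme.Hom.resLE_comp_ι])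
    have hr : Set.range a' ⊆ Set.range V'.ι := by
      rintro _ ⟨t, rfl⟩
      obtain ⟨s, rfl⟩ := Surjective.surj (f := j) t
      rw [Scheme.Opens.range_ι]
      change (j ≫ a') s ∈ V'
      rw [h1]
      exact (a s).2
    refine ⟨IsOpenImmersion.lift V'.ι a' hr, ⟨?_, ?_⟩, fun c hc => ?_⟩
    · rw [← cancel_mono V'.ι, Category.assoc, IsOpenImmersion.lift_fac, h1, Category.assoc, Category.assoc,
        Scheme.Hom.resLE_comp_ι]
    · rw [← cancel_mono U.ι, Category.assoc, Scheme.Hom.resLE_comp_ι, IsOpenImmersion.lift_fac_assoc, h2]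
    · rw [← cancel_mono V'.ι, IsOpenImmersion.lift_fac]
      refine huniq _ ⟨?_, ?_⟩
      · rw [← Category.assoc, hc.1, Category.assoc, Category.assoc, Scheme.Hom.resLE_comp_ι]
      · rw [Category.assoc, ← Scheme.Hom.resLE_comp_ι h' hV'U, ← Category.assoc, hc.2]

end Groth.Agent.S9740
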