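import Groth.Statements.S9743
import Groth.Agent.FlatnLib.Basic
import Groth.Agent.QCohLib.Push

set_option autoImplicit false
universe u
open Flatn

namespace Groth.Agent.S9743

open AlgebraicGeometry CategoryTheory Limits in
/-- Suppose π : X ⟶ Y is finite, g : Y ⟶ S is locally of finite type, and F is a quasi-coherent
O_X-module. Then F is relatively finitely presented over S via π ≫ g exactly when the direct image
π_*F is relatively finitely presented over S via g. -/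
theorem result {X Y S : Scheme.{u}} (π : X ⟶ Y) (g : Y ⟶ S) [IsFinite π] [LocallyOfFiniteType g]
    (F : X.Modules) [Coh.IsQCoh F] : Flatn.IsRelFP (π ≫ g) F ↔ Flatn.IsRelFP g ((Coh.push π).obj F) := by
  have : Coh.IsQCoh ((Coh.push π).obj F) := QCohLib.isQCoh_pushforward π F
  have key : ∀ (W : Y.Opens) (hW : IsAffineOpen W) (V : S.Opens) (hV : IsAffineOpen V)
      (hWV : W ≤ g ⁻¹ᵁ V),
      FlatnLib.P g ((Coh.push π).obj F) W V hWV ↔
        FlatnLib.P (π ≫ g) F (π ⁻¹ᵁ W) V (fun z hz => hWV hz) := by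
    intro W hW V hV hWV
    let := (g.appLE V W hWV).hom.toAlgebra
    let := (π.app W).hom.toAlgebra
    let := ((π ≫ g).appLE V (π ⁻¹ᵁ W) (fun z hz => hWV hz)).hom.toAlgebra
    have : IsScalarTower Γ(S, V) Γ(Y, W) Γ(X, π ⁻¹ᵁ W) := IsScalarTower.of_algebraMap_eq fun r => by
      refine Eq.trans ?_ (congr($(π.app_eq_appLE (U := W)) (g.appLE V W hWV r))).symm
      exact (congr($(π.appLE_comp_appLE g V W (π ⁻¹ᵁ W) hWV le_rfl) r)).symm
    have : Algebra.FiniteType Γ(S, V) Γ(Y, W) := g.finiteType_appLE hV hW hWV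
    have : Module.Finite Γ(Y, W) Γ(X, π ⁻¹ᵁ W) := IsFinite.finite_app π W hW
    let := Module.compHom Γ(F, π ⁻¹ᵁ W) (π.app W).hom
    have : IsScalarTower Γ(Y, W) Γ(X, π ⁻¹ᵁ W) Γ(F, π ⁻¹ᵁ W) :=
      IsScalarTower.of_algebraMap_smul fun _ _ => rfl
    exact FlatnLib.rfp_finite_iff (R := Γ(S, V)) (S := Γ(Y, W)) (B := Γ(X, π ⁻¹ᵁ W)) (M := Γ(F, π ⁻¹ᵁ W))
  constructor
  · intro h
    refine FlatnLib.isRelFP_of_forall g _ fun W V hle => (key W.1 W.2 V.1 V.2 hle).mpr ?_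
    exact FlatnLib.P_of_isRelFP (π ≫ g) F h (IsAffineHom.isAffine_preimage W.1 W.2) V.2 _
  · intro h
    refine FlatnLib.isRelFP_of_nhds (π ≫ g) F fun x V hx _ _ => ?_
    obtain ⟨W, hW, hxW, hWle⟩ := exists_isAffineOpen_mem_and_subset (X := Y) (U := g ⁻¹ᵁ V.1) (x := π x) hx
    exact ⟨⟨π ⁻¹ᵁ W, IsAffineHom.isAffine_preimage W hW⟩, fun z hz => hWle hz, hxW,
      (key W hW V.1 V.2 hWle).mp (FlatnLib.P_of_isRelFP g _ h hW V.2 hWle)⟩
end Groth.Agent.S9743
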