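import Groth.Statements.S9744
import Groth.Agent.FlatnLib.Basic
import Groth.Agent.KFlatLib.AffinePull
import Groth.Agent.RpushLib.HBase

set_option autoImplicit false
universe u
open Flatn

namespace Groth.Agent.S9744

open AlgebraicGeometry CategoryTheory Limits in
/-- Let f : X ⟶ S be locally of finite type and F a quasi-coherent O_X-module of finite presentation
relative to S. For a base change f' : X' ⟶ S' of f along S' ⟶ S with projection g' : X' ⟶ X, the
pullback (g')^*F is of finite presentation relative to S'. -/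
theorem result {X S X' S' : Scheme.{u}} (f : X ⟶ S) [LocallyOfFiniteType f] (F : X.Modules) [Coh.IsQCoh F]
    (g : S' ⟶ S) (f' : X' ⟶ S') (g' : X' ⟶ X) (hc : IsPullback g' f' f g) (hF : Flatn.IsRelFP f F) :
    Flatn.IsRelFP f' ((Scheme.Modules.pullback g').obj F) := by
  have := KFlatLib.isQCoh_pullback g' F
  refine FlatnLib.isRelFP_of_nhds f' _ fun x V' hx _ _ => ?_
  have hw : g (f' x) = f (g' x) := (congr($(hc.w).base x)).symm
  obtain ⟨V, hV, hxV, -⟩ := exists_isAffineOpen_mem_and_subset (X := S) (U := ⊤) (x := g (f' x)) trivial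
  obtain ⟨T, hT, hxT, hTle⟩ := exists_isAffineOpen_mem_and_subset (X := S') (U := V'.1 ⊓ g ⁻¹ᵁ V) (x := f' x) ⟨hx, hxV⟩
  obtain ⟨U, hU, hxU, hUle⟩ := exists_isAffineOpen_mem_and_subset (X := X) (U := f ⁻¹ᵁ V) (x := g' x)
    (show f (g' x) ∈ V from hw ▸ hxV)
  have hgT : T ≤ g ⁻¹ᵁ V := fun z hz => (hTle hz).2
  let W : X'.Opens := g' ⁻¹ᵁ U ⊓ f' ⁻¹ᵁ T
  have hW : IsAffineOpen W := RpushLib.isAffineOpen_fibre hc hV hT hgT hU hUle
  have hWT : W ≤ f' ⁻¹ᵁ T := inf_le_right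
  have hWU : W ≤ g' ⁻¹ᵁ U := inf_le_left
  have hpo := RpushLib.isPushout_sections hc hV hT hgT hU hUle
  have hTV' : T ≤ V'.1 := fun z hz => (hTle hz).1
  refine ⟨⟨W, hW⟩, hWT.trans (f'.preimage_mono hTV'), ⟨hxU, hxT⟩, FlatnLib.P_enlarge f' _ V'.2 hT hTV' (h := hWT) ?_⟩
  let := (f.appLE V U hUle).hom.toAlgebra
  let := (g.appLE V T hgT).hom.toAlgebra
  let := (g'.appLE U W hWU).hom.toAlgebra
  let := (f'.appLE T W hWT).hom.toAlgebra
  let : Algebra Γ(S, V) Γ(X', W) := ((g'.appLE U W hWU).hom.comp (f.appLE V U hUle).hom).toAlgebra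
  have : IsScalarTower Γ(S, V) Γ(X, U) Γ(X', W) := IsScalarTower.of_algebraMap_eq fun _ => rfl
  have : IsScalarTower Γ(S, V) Γ(S', T) Γ(X', W) := IsScalarTower.of_algebraMap_eq fun r =>
    congr($(hpo.w) r)
  have : Algebra.IsPushout Γ(S, V) Γ(X, U) Γ(S', T) Γ(X', W) :=
    (CommRingCat.isPushout_iff_isPushout (R := Γ(S, V)) (S := Γ(S', T)) (R' := Γ(X, U)) (S' := Γ(X', W))).mp hpo
  let := Module.compHom Γ((Scheme.Modules.pullback g').obj F, W) (g'.appLE U W hWU).hom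
  have : IsScalarTower Γ(X, U) Γ(X', W) Γ((Scheme.Modules.pullback g').obj F, W) :=
    IsScalarTower.of_algebraMap_smul fun _ _ => rfl
  let ψ : Γ(F, U) →ₗ[Γ(X, U)] Γ((Scheme.Modules.pullback g').obj F, W) :=
    { toFun := KFlatLib.puSecLE g' F hWU
      map_add' := map_add _
      map_smul' := fun r m => KFlatLib.puSecLE_smul g' F hWU r m }
  exact FlatnLib.rfp_baseChange (R' := Γ(S', T)) ψ
    (KFlatLib.isBaseChange_puSec g' F hU hW hWU (fun _ => rfl) ψ fun _ => rfl)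
    (FlatnLib.P_of_isRelFP f F hF hU hV hUle)
end Groth.Agent.S9744
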