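import Groth.Statements.S9745
import Groth.Agent.FlatnLib.Basic
import Groth.Agent.KFlatLib.AffinePull

set_option autoImplicit false
universe u
open Flatn

namespace Groth.Agent.S9745

open AlgebraicGeometry CategoryTheory Limits in
/-- Let f : X ⟶ Y be locally of finite presentation and g : Y ⟶ S locally of finite type, and let G be a
quasi-coherent O_Y-module that is finitely presented relative to S. Then the pullback f^*G is
finitely presented relative to S along f ≫ g. -/
theorem result {X Y S : Scheme.{u}} (f : X ⟶ Y) (g : Y ⟶ S) [LocallyOfFinitePresentation f] [LocallyOfFiniteType g]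
    (G : Y.Modules) [Coh.IsQCoh G] (hG : Flatn.IsRelFP g G) : Flatn.IsRelFP (f ≫ g) ((Scheme.Modules.pullback f).obj G) := by
  have := KFlatLib.isQCoh_pullback f G
  refine FlatnLib.isRelFP_of_nhds (f ≫ g) _ fun x V hx _ _ => ?_
  obtain ⟨W, hW, hxW, hWle⟩ := exists_isAffineOpen_mem_and_subset (X := Y) (U := g ⁻¹ᵁ V.1) (x := f x) hx
  obtain ⟨U, hU, hxU, hUle⟩ := exists_isAffineOpen_mem_and_subset (X := X) (U := f ⁻¹ᵁ W) (x := x) hxW
  have hUV : U ≤ (f ≫ g) ⁻¹ᵁ V.1 := fun z hz => hWle (hUle hz)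
  refine ⟨⟨U, hU⟩, hUV, hxU, ?_⟩
  let := (g.appLE V.1 W hWle).hom.toAlgebra
  let := (f.appLE W U hUle).hom.toAlgebra
  let := ((f ≫ g).appLE V.1 U hUV).hom.toAlgebra
  have : IsScalarTower Γ(S, V.1) Γ(Y, W) Γ(X, U) := IsScalarTower.of_algebraMap_eq fun r =>
    (congr($(f.appLE_comp_appLE g V.1 W U hWle hUle) r)).symm
  have : Algebra.FinitePresentation Γ(Y, W) Γ(X, U) := f.finitePresentation_appLE hW hU hUle
  let := Module.compHom Γ((Scheme.Modules.pullback f).obj G, U) (f.appLE W U hUle).hom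
  have : IsScalarTower Γ(Y, W) Γ(X, U) Γ((Scheme.Modules.pullback f).obj G, U) :=
    IsScalarTower.of_algebraMap_smul fun _ _ => rfl
  let ψ : Γ(G, W) →ₗ[Γ(Y, W)] Γ((Scheme.Modules.pullback f).obj G, U) :=
    { toFun := KFlatLib.puSecLE f G hUle
      map_add' := map_add _
      map_smul' := fun r m => KFlatLib.puSecLE_smul f G hUle r m }
  exact FlatnLib.rfp_tensor ψ
    (KFlatLib.isBaseChange_puSec f G hW hU hUle (fun _ => rfl) ψ fun _ => rfl)
    (FlatnLib.P_of_isRelFP g G hG hW V.2 hWle)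
end Groth.Agent.S9745
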