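import Groth.Statements.S9746
import Groth.Agent.FlatnLib.Basic

set_option autoImplicit false
universe u
open Flatn

namespace Groth.Agent.S9746

open AlgebraicGeometry CategoryTheory Limits in
/-- Let f : X ⟶ Y be locally of finite type, g : Y ⟶ S locally of finite presentation, and F a
quasi-coherent O_X-module that is finitely presented relative to Y. Then F, viewed over S through
the composite f ≫ g, is finitely presented relative to S. -/
theorem result {X Y S : Scheme.{u}} (f : X ⟶ Y) (g : Y ⟶ S) [LocallyOfFiniteType f] [LocallyOfFinitePresentation g]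
    (F : X.Modules) [Coh.IsQCoh F] (hF : Flatn.IsRelFP f F) : Flatn.IsRelFP (f ≫ g) F := by
  refine FlatnLib.isRelFP_of_nhds (f ≫ g) F fun x V hx _ _ => ?_
  obtain ⟨W, hW, hxW, hWle⟩ := exists_isAffineOpen_mem_and_subset (X := Y) (U := g ⁻¹ᵁ V.1) (x := f x) hx
  obtain ⟨U, hU, hxU, hUle⟩ := exists_isAffineOpen_mem_and_subset (X := X) (U := f ⁻¹ᵁ W) (x := x) hxW
  have hUV : U ≤ (f ≫ g) ⁻¹ᵁ V.1 := fun z hz => hWle (hUle hz)
  refine ⟨⟨U, hU⟩, hUV, hxU, ?_⟩
  have hP := FlatnLib.P_of_isRelFP f F hF hU hW hUle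
  let := (g.appLE V.1 W hWle).hom.toAlgebra
  let := (f.appLE W U hUle).hom.toAlgebra
  let := ((f ≫ g).appLE V.1 U hUV).hom.toAlgebra
  have : IsScalarTower Γ(S, V.1) Γ(Y, W) Γ(X, U) := IsScalarTower.of_algebraMap_eq fun r =>
    (congr($(f.appLE_comp_appLE g V.1 W U hWle hUle) r)).symm
  have : Algebra.FinitePresentation Γ(S, V.1) Γ(Y, W) := g.finitePresentation_appLE V.2 hW hWle
  exact FlatnLib.rfp_trans (A := Γ(Y, W)) hP
end Groth.Agent.S9746
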