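import Groth.Statements.S9747
import Groth.Agent.FlatnLib.Basic
import Groth.Agent.QCohLib.Vanishing

set_option autoImplicit false
universe u
open Flatn

namespace Groth.Agent.S9747

open CategoryTheory AlgebraicGeometry in
theorem appSMul {X : Scheme.{u}} {M N : X.Modules} (φ : M ⟶ N) (U : X.Opens) :
    ∃ l : Γ(M, U) →ₗ[Γ(X, U)] Γ(N, U), ∀ x, l x = φ.app U x :=
  ⟨{ toFun := φ.app U, map_add' := map_add (φ.app U).hom, map_smul' := fun r x => φ.app_smul r x },
    fun _ => rfl⟩


open AlgebraicGeometry CategoryTheory Limits in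
/-- Let f : X ⟶ S be locally of finite type and 0 → F' → F → F'' → 0 an exact sequence in quasi-coherent
O_X-modules. When both outer terms are of finite presentation relative to S, the middle term is also
of finite presentation relative to S. -/
theorem result {X S : Scheme.{u}} (f : X ⟶ S) [LocallyOfFiniteType f] (E : ShortComplex X.Modules) (hE : E.ShortExact)
    [Coh.IsQCoh E.X₁] [Coh.IsQCoh E.X₂] [Coh.IsQCoh E.X₃] (h₁ : Flatn.IsRelFP f E.X₁) (h₃ : Flatn.IsRelFP f E.X₃) :
    Flatn.IsRelFP f E.X₂ := by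
  refine FlatnLib.isRelFP_of_forall f E.X₂ fun U V h => ?_
  let := (f.appLE V.1 U.1 h).hom.toAlgebra
  have : Algebra.FiniteType Γ(S, V.1) Γ(X, U.1) := f.finiteType_appLE V.2 U.2 h
  obtain ⟨l, hl⟩ := appSMul E.f U.1
  obtain ⟨p, hp⟩ := appSMul E.g U.1
  refine FlatnLib.rfp_of_exact l p ?_ ?_ ?_ (FlatnLib.P_of_isRelFP f E.X₁ h₁ U.2 V.2 h)
    (FlatnLib.P_of_isRelFP f E.X₃ h₃ U.2 V.2 h)
  · have := hE.mono_f
    intro a b hab
    rw [hl, hl] at hab
    exact QCohLib.app_injective_of_mono E.f U.1 hab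
  · intro y
    obtain ⟨z, hz⟩ := QCohLib.app_surjective_of_affine hE U.2 y
    exact ⟨z, (hp z).trans hz⟩
  · intro y
    constructor
    · intro hy
      rw [hp] at hy
      obtain ⟨z, hz⟩ := QCohLib.exists_of_app_eq_zero hE.exact hE.mono_f y hy
      exact ⟨z, (hl z).trans hz⟩
    · rintro ⟨z, rfl⟩
      rw [hp, hl]
      exact congr(Scheme.Modules.Hom.app $(E.zero) U.1 z)
end Groth.Agent.S9747
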