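import Groth.Statements.S9749
import Groth.Agent.FlatnLib.Basic
import Groth.Agent.QCohLib.QCoh

set_option autoImplicit false
universe u
open Flatn

namespace Groth.Agent.S9749

open CategoryTheory CategoryTheory.Limits AlgebraicGeometry in
theorem summand {X S : Scheme.{u}} (f : X ⟶ S) [LocallyOfFiniteType f] (F G : X.Modules) [Coh.IsQCoh G]
    (i : F ⟶ G) (p : G ⟶ F) (hip : i ≫ p = 𝟙 F) (h : Flatn.IsRelFP f G) : Flatn.IsRelFP f F := by
  refine ⟨Set.univ, ?_, fun V _ => ⟨{U : X.affineOpens | U.1 ≤ f ⁻¹ᵁ V.1}, ?_, fun U _ hle => ?_⟩⟩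
  · simpa using iSup_affineOpens_eq_top S
  · refine le_antisymm (iSup₂_le fun U hU => hU) fun x hx => ?_
    obtain ⟨W, hW, hxW, hle⟩ := exists_isAffineOpen_mem_and_subset (X := X) (U := f ⁻¹ᵁ V.1) (x := x) hx
    exact TopologicalSpace.Opens.mem_iSup.mpr ⟨⟨W, hW⟩, TopologicalSpace.Opens.mem_iSup.mpr ⟨hle, hxW⟩⟩
  · let := (f.appLE V.1 U.1 hle).hom.toAlgebra
    have : Algebra.FiniteType Γ(S, V.1) Γ(X, U.1) := f.finiteType_appLE V.2 U.2 hle
    let li : Γ(F, U.1) →ₗ[Γ(X, U.1)] Γ(G, U.1) :=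
      { toFun := i.app U.1, map_add' := map_add (i.app U.1).hom, map_smul' := fun r x => i.app_smul r x }
    let lp : Γ(G, U.1) →ₗ[Γ(X, U.1)] Γ(F, U.1) :=
      { toFun := p.app U.1, map_add' := map_add (p.app U.1).hom, map_smul' := fun r x => p.app_smul r x }
    exact FlatnLib.rfp_of_retract li lp (fun x => congr(Scheme.Modules.Hom.app $hip U.1 x))
      (FlatnLib.P_of_isRelFP f G h U.2 V.2 hle)


open AlgebraicGeometry CategoryTheory Limits in
/-- For f : X ⟶ S locally of finite type and quasi-coherent O_X-modules F, F', relative finite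
presentation over S of the biproduct F ⊞ F' implies the same property for each summand. -/
theorem result {X S : Scheme.{u}} (f : X ⟶ S) [LocallyOfFiniteType f] (F F' : X.Modules) [Coh.IsQCoh F] [Coh.IsQCoh F']
    (h : Flatn.IsRelFP f (F ⊞ F')) : Flatn.IsRelFP f F ∧ Flatn.IsRelFP f F' := by
  have : Coh.IsQCoh (F ⊞ F') := QCohLib.isQCoh_biprod F F'
  exact ⟨summand f F _ CategoryTheory.Limits.biprod.inl CategoryTheory.Limits.biprod.fst CategoryTheory.Limits.biprod.inl_fst h,
    summand f F' _ CategoryTheory.Limits.biprod.inr CategoryTheory.Limits.biprod.snd CategoryTheory.Limits.biprod.inr_snd h⟩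
end Groth.Agent.S9749
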