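import Groth.Statements.S9756
import Mathlib.AlgebraicGeometry.Morphisms.FiniteType
import Groth.Agent.S1348
import Groth.Agent.S9501
import Groth.Agent.CommAlgDim.Depth

set_option autoImplicit false
universe u
open FlatMor

namespace Groth.Agent.S9756

open IsLocalRing CategoryTheory CategoryTheory.Limits AlgebraicGeometry

theorem exists_fibre_map {X S : Scheme.{u}} (f : X ⟶ S) (x : X) :
    ∃ ψ : X.presheaf.stalk x →+* (f.fiber (f x)).presheaf.stalk (f.asFiber x), Function.Surjective ψ ∧
      RingHom.ker ψ = (maximalIdeal (S.presheaf.stalk (f x))).map (f.stalkMap x).hom := by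
  have key : ∀ (w : X), w = x → ∀ ψ : X.presheaf.stalk w →+* (f.fiber (f x)).presheaf.stalk (f.asFiber x),
      Function.Surjective ψ → RingHom.ker ψ = (maximalIdeal (S.presheaf.stalk (f w))).map (f.stalkMap w).hom →
      ∃ ψ : X.presheaf.stalk x →+* (f.fiber (f x)).presheaf.stalk (f.asFiber x), Function.Surjective ψ ∧
        RingHom.ker ψ = (maximalIdeal (S.presheaf.stalk (f x))).map (f.stalkMap x).hom := by
    rintro w hw ψ hs hk
    subst hw
    exact ⟨ψ, hs, hk⟩
  exact key _ (f.fiberι_asFiber x) _ (Groth.Agent.S9501.result f (f x) (f.asFiber x)).1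
    (Groth.Agent.S9501.result f (f x) (f.asFiber x)).2

open AlgebraicGeometry CategoryTheory Limits in
/-- Let f : X ⟶ S be locally of finite presentation and flat at a point x, and assume the local ring of
the fibre X_{f x} at x has depth at least 1. Then there are an affine open U ∋ x and a
nonzerodivisor h' of Γ(X, U) vanishing at x such that the closed subscheme V(h') of U, an effective
Cartier divisor through x, is flat and locally of finite presentation over S. The published
statement concludes that V(h') ⟶ S is of finite presentation; this row concludes only that it is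
flat and locally of finite presentation, which is what the published argument (slicing by a lift of
a fibrewise nonzerodivisor) yields, and which is equivalent when S is quasi-separated, V(h') being
affine. -/
theorem result {X S : Scheme.{u}} (f : X ⟶ S) [LocallyOfFinitePresentation f] (x : X)
    (hflat : (f.stalkMap x).hom.Flat)
    (hdepth : 1 ≤ LocCoh.depth ↑((f.fiber (f x)).presheaf.stalk (f.asFiber x)) ↑((f.fiber (f x)).presheaf.stalk (f.asFiber x))) :
    ∃ (U : X.Opens) (hU : IsAffineOpen U) (hx : x ∈ U) (h' : Γ(X, U)), h' ∈ nonZeroDivisors Γ(X, U) ∧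
      X.presheaf.germ U x hx h' ∈ IsLocalRing.maximalIdeal ↑(X.presheaf.stalk x) ∧
      Flat (Spec.map (CommRingCat.ofHom (Ideal.Quotient.mk (Ideal.span {h'}))) ≫ hU.fromSpec ≫ f) ∧
      LocallyOfFinitePresentation (Spec.map (CommRingCat.ofHom (Ideal.Quotient.mk (Ideal.span {h'}))) ≫ hU.fromSpec ≫ f) := by
  haveI : LocallyOfFiniteType f := inferInstance
  haveI : LocallyOfFiniteType (f.fiberToSpecResidueField (f x)) :=
    inferInstanceAs (LocallyOfFiniteType (pullback.snd f (S.fromSpecResidueField (f x))))
  haveI : IsLocallyNoetherian (f.fiber (f x)) :=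
    LocallyOfFiniteType.isLocallyNoetherian (f.fiberToSpecResidueField (f x))
  obtain ⟨ψ, hψ, hker⟩ := exists_fibre_map f x
  obtain ⟨rs, hl, hm, hr⟩ := (CommAlgDim.le_depth_iff 1).1 hdepth
  obtain ⟨r, rfl⟩ := List.length_eq_one_iff.1 hl
  have hreg := (RingTheory.Sequence.isWeaklyRegular_singleton_iff _ _).1 hr
  obtain ⟨h, rfl⟩ := hψ r
  have hhm : h ∈ maximalIdeal (X.presheaf.stalk x) := fun hu =>
    (hm (ψ h) List.mem_cons_self) (hu.map ψ)
  obtain ⟨U, hU, hx, h', hg, hnz, hfl, hlfp⟩ := Groth.Agent.S1348.result f x hflat h hhm <| by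
    rw [mem_nonZeroDivisors_iff_right]
    intro z hz
    obtain ⟨a, rfl⟩ := Ideal.Quotient.mk_surjective z
    rw [← map_mul, Ideal.Quotient.eq_zero_iff_mem, ← hker, RingHom.mem_ker, map_mul] at hz
    rw [Ideal.Quotient.eq_zero_iff_mem, ← hker, RingHom.mem_ker]
    exact hreg (show ψ h • ψ a = ψ h • (0 : _) by rw [smul_zero, smul_eq_mul, mul_comm, hz])
  exact ⟨U, hU, hx, h', hnz, hg ▸ hhm, hfl, hlfp⟩

end Groth.Agent.S9756
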