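import Groth.Statements.S9761
import Groth.Agent.S9456
import Groth.Agent.S2394
import Groth.Agent.PerfLib.FiniteType
import Groth.Agent.MiscFlat6.TildeFin
import Groth.Agent.SweepSix.TildePull
import Groth.Agent.RichLib.ModFlatLimit
import Groth.Agent.KFlatLib.QCohPull

set_option autoImplicit false
universe u
open FlatMor

namespace Groth.Agent.S9761

open CategoryTheory TensorProduct in
/-- A base change of modules is the extension of scalars. -/
noncomputable def extendIso {S₀ : Type u} [CommRing S₀] {B : CommRingCat.{u}} [Algebra S₀ B] {M₀ : Type u}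
    [AddCommGroup M₀] [Module S₀ M₀] {M : ModuleCat.{u} B} [Module S₀ M] [IsScalarTower S₀ B M]
    (ι : M₀ →ₗ[S₀] M) (hι : IsBaseChange B ι) :
    (ModuleCat.extendScalars (algebraMap S₀ B)).obj (ModuleCat.of S₀ M₀) ≅ M :=
  let e₁ : ((ModuleCat.restrictScalars (algebraMap S₀ B)).obj (ModuleCat.of B B)) ≃ₗ[S₀] B :=
    { toFun := fun b => b
      invFun := fun b => b
      map_add' := fun _ _ => rfl
      map_smul' := fun r b => (Algebra.smul_def r (show B from b)).symm }
  let e₂ : ((ModuleCat.restrictScalars (algebraMap S₀ B)).obj (ModuleCat.of B B)) ⊗[S₀] M₀ ≃ₗ[S₀] B ⊗[S₀] M₀ :=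
    TensorProduct.congr e₁ (LinearEquiv.refl S₀ M₀)
  let eA : (ModuleCat.extendScalars (algebraMap S₀ B)).obj (ModuleCat.of S₀ M₀) ≃+ M :=
    e₂.toAddEquiv.trans hι.equiv.toAddEquiv
  LinearEquiv.toModuleIso (
    { eA with
      map_smul' := fun b x => by
        show eA (b • x) = b • eA x
        letI : Module B (((ModuleCat.restrictScalars (algebraMap S₀ B)).obj (ModuleCat.of B B)) ⊗[S₀] (ModuleCat.of S₀ M₀)) :=
          ((ModuleCat.extendScalars (algebraMap S₀ B)).obj (ModuleCat.of S₀ M₀)).isModule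
        induction x using TensorProduct.induction_on with
        | zero =>
          refine (congrArg eA (smul_zero b)).trans ?_
          erw [map_zero]
          exact (smul_zero b).symm
        | add x y hx hy =>
          refine (congrArg eA (smul_add b x y)).trans ?_
          refine (eA.map_add _ _).trans ?_
          refine (congrArg₂ (· + ·) hx hy).trans ?_
          refine (smul_add b (eA x) (eA y)).symm.trans ?_
          exact congrArg (b • ·) (eA.map_add x y).symm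
        | tmul c m =>
          show hι.equiv ((b * (show B from c) : B) ⊗ₜ[S₀] m) = b • hι.equiv ((show B from c) ⊗ₜ[S₀] m)
          rw [IsBaseChange.equiv_tmul, IsBaseChange.equiv_tmul, mul_smul] } :
    (ModuleCat.extendScalars (algebraMap S₀ B)).obj (ModuleCat.of S₀ M₀) ≃ₗ[B] M)

open CategoryTheory AlgebraicGeometry in
/-- The case of spectra. -/
theorem spec_case {A B : CommRingCat.{u}} (φ : A ⟶ B) (hφ : φ.hom.FinitePresentation) (M : ModuleCat.{u} B)
    (hM : Module.FinitePresentation B M)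
    (hfl : FlatMod.IsFlatOver (Spec.map φ) (tilde M)) :
    ∃ (X₀ S₀ : Scheme.{u}) (f₀ : X₀ ⟶ S₀) (g : Spec A ⟶ S₀) (g' : Spec B ⟶ X₀), IsAffine X₀ ∧ IsAffine S₀ ∧
      IsPullback g' (Spec.map φ) f₀ g ∧ Algebra.FiniteType ℤ Γ(S₀, ⊤) ∧ LocallyOfFiniteType f₀ ∧
      ∃ F₀ : X₀.Modules, Coh.IsCoh F₀ ∧ FlatMod.IsFlatOver f₀ F₀ ∧
        Nonempty ((Scheme.Modules.pullback g').obj F₀ ≅ tilde M) := by
  letI : Algebra A B := φ.hom.toAlgebra
  haveI : Algebra.FinitePresentation A B := hφ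
  letI : Module A M := Module.compHom M φ.hom
  haveI : IsScalarTower A B M := IsScalarTower.of_algebraMap_smul fun _ _ => rfl
  haveI : Module.Flat A M := (Groth.Agent.S2394.result A B M).mp hfl
  obtain ⟨R₀, _, _, S₀, _, _, _, _, _, _, M₀, _, _, _, _, _, _, ι, hR, hS, hM₀, hflat, hpush, hι⟩ :=
    Groth.Agent.S9456.result A B M
  haveI : IsNoetherianRing R₀ := Algebra.FiniteType.isNoetherianRing ℤ R₀
  haveI : IsNoetherianRing S₀ := Algebra.FiniteType.isNoetherianRing R₀ S₀
  refine ⟨Spec (CommRingCat.of S₀), Spec (CommRingCat.of R₀), Spec.map (CommRingCat.ofHom (algebraMap R₀ S₀)),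
    Spec.map (CommRingCat.ofHom (algebraMap R₀ A)), Spec.map (CommRingCat.ofHom (algebraMap S₀ B)),
    inferInstance, inferInstance, ?_, ?_, ?_, tilde (ModuleCat.of S₀ M₀), ?_, ?_, ⟨?_⟩⟩
  · haveI := hpush.symm
    exact isPullback_SpecMap_of_isPushout _ _ _ _ (CommRingCat.isPushout_of_isPushout R₀ S₀ A B)
  · let e : R₀ ≃+* Γ(Spec (CommRingCat.of R₀), ⊤) :=
      (Scheme.ΓSpecIso (CommRingCat.of R₀)).symm.commRingCatIsoToRingEquiv
    exact Algebra.FiniteType.equiv hR e.toIntAlgEquiv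
  · rw [HasRingHomProperty.Spec_iff (P := @LocallyOfFiniteType)]
    exact RingHom.finiteType_algebraMap.mpr hS
  · exact ⟨inferInstance, (MiscFlat6.isFT_iff (R := CommRingCat.of S₀) (ModuleCat.of S₀ M₀)).mpr hM₀⟩
  · exact (Groth.Agent.S2394.result R₀ S₀ M₀).mpr hflat
  · exact (SweepSix.tildePullIso (CommRingCat.ofHom (algebraMap S₀ B))).app (ModuleCat.of S₀ M₀) ≪≫
      (tilde.functor B).mapIso (extendIso ι hι)

open AlgebraicGeometry CategoryTheory Limits in
/-- For a finitely presented morphism f : X ⟶ S of affine schemes and a quasi-coherent, finitely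
presented O_X-module F that is flat over S, f is the base change along some g' : X ⟶ X₀ of a finite
type morphism f₀ : X₀ ⟶ S₀ of affine schemes with S₀ of finite type over ℤ, and some coherent
O_{X₀}-module F₀, flat over S₀, satisfies g'^*F₀ ≅ F. -/
theorem result {X S : Scheme.{u}} (f : X ⟶ S) [IsAffine X] [IsAffine S] [LocallyOfFinitePresentation f]
    (F : X.Modules) [Coh.IsQCoh F] (hF : CohB1.IsFP F) (hfl : FlatMod.IsFlatOver f F) :
    ∃ (X₀ S₀ : Scheme.{u}) (f₀ : X₀ ⟶ S₀) (g : S ⟶ S₀) (g' : X ⟶ X₀), IsAffine X₀ ∧ IsAffine S₀ ∧ IsPullback g' f f₀ g ∧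
      Algebra.FiniteType ℤ Γ(S₀, ⊤) ∧ LocallyOfFiniteType f₀ ∧
      ∃ F₀ : X₀.Modules, Coh.IsCoh F₀ ∧ FlatMod.IsFlatOver f₀ F₀ ∧ Nonempty ((Scheme.Modules.pullback g').obj F₀ ≅ F) := by
  let G : (Spec Γ(X, ⊤)).Modules := (Scheme.Modules.pullback X.isoSpec.inv).obj F
  haveI : Coh.IsQCoh G := KFlatLib.isQCoh_pullback X.isoSpec.inv F
  let M := moduleSpecΓFunctor.obj G
  let eG : tilde M ≅ G :=
    @asIso _ _ _ _ G.fromTildeΓ (Scheme.Modules.isIso_fromTildeΓ_of_isQuasicoherent G)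
  have hφ : f.appTop.hom.FinitePresentation := by
    rw [← HasRingHomProperty.iff_of_isAffine (P := @LocallyOfFinitePresentation)]
    infer_instance
  have hGfp : CohB1.IsFP (tilde M) :=
    Groth.Agent.PerfLib.isFP_of_iso' eG.symm (RichLib.ModFlat.isFP_pullback X.isoSpec.inv hF)
  have hsq : Spec.map f.appTop = X.isoSpec.inv ≫ f ≫ S.isoSpec.hom := by
    rw [← Scheme.isoSpec_hom_naturality, Iso.inv_hom_id_assoc]
  have hfl' : FlatMod.IsFlatOver (Spec.map f.appTop) (tilde M) := fun x =>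
    (RichLib.ModFlat.isFlatOverAt_congr X.isoSpec.inv S.isoSpec.inv
      (by rw [hsq]; simp) eG x).mpr (hfl _)
  obtain ⟨X₀, S₀, f₀, g, g', h1, h2, h3, h4, h5, F₀, h6, h7, ⟨e⟩⟩ :=
    spec_case f.appTop hφ M ((MiscFlat6.isFP_iff M).mp hGfp) hfl'
  refine ⟨X₀, S₀, f₀, S.isoSpec.hom ≫ g, X.isoSpec.hom ≫ g', h1, h2,
    (IsPullback.of_horiz_isIso ⟨Scheme.isoSpec_hom_naturality f⟩).paste_horiz h3, h4, h5, F₀, h6, h7,
    ⟨((Scheme.Modules.pullbackComp X.isoSpec.hom g').app F₀).symm ≪≫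
      (Scheme.Modules.pullback X.isoSpec.hom).mapIso (e ≪≫ eG) ≪≫
      (Scheme.Modules.pullbackComp X.isoSpec.hom X.isoSpec.inv).app F ≪≫
      (Scheme.Modules.pullbackCongr X.isoSpec.hom_inv_id).app F ≪≫ (Scheme.Modules.pullbackId X).app F⟩⟩

end Groth.Agent.S9761
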