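import Groth.Statements.S9762
import Groth.Agent.EtLocLib.Finite
-- import your own Groth.Agent.* helpers here

set_option autoImplicit false
universe u
open FlatMor

namespace Groth.Agent.S9762

open AlgebraicGeometry CategoryTheory Limits in
/-- For f : X ⟶ S separated and locally of finite type, and a point s of S such that only finitely many
points of the fibre over s are isolated, some elementary étale neighbourhood (U, u) of (S, s) admits
an open and closed V ⊆ U ×_S X, finite over U, such that no point of the fibre over u lying outside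
V is isolated in that fibre. The published statement also asserts that the complement of V has empty
fibre over u when the fibre over s is finite; this row omits that clause. -/
theorem result {X S : Scheme.{u}} (f : X ⟶ S) [LocallyOfFiniteType f] [IsSeparated f] (s : S)
    (hfin : {x : ↑(f.fiber s) | IsOpen ({x} : Set ↑(f.fiber s))}.Finite) :
    ∃ (U : Scheme.{u}) (g : U ⟶ S) (u : U), Hens2.IsEtaleNbhd g u s ∧
      ∃ V : (pullback f g).Opens, IsClopen (V : Set ↑(pullback f g)) ∧ IsFinite (V.ι ≫ pullback.snd f g) ∧
        ∀ w : ↑((pullback.snd f g).fiber u), (pullback.snd f g).fiberι u w ∉ V →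
          ¬ IsOpen ({w} : Set ↑((pullback.snd f g).fiber u)) := by
  let J : Set X := (f.fiberι s).base '' {x | IsOpen ({x} : Set ↑(f.fiber s))}
  have hJs : ∀ x ∈ J, f.base x = s := by
    rintro _ ⟨x, -, rfl⟩
    have := Set.mem_range_self (f := (f.fiberι s).base) x
    rwa [Scheme.Hom.range_fiberι, Set.mem_preimage, Set.mem_singleton_iff] at this
  have hq : ∀ x ∈ J, f.QuasiFiniteAt x := by
    rintro x hxJ
    obtain rfl := hJs x hxJ
    obtain ⟨x', hx', he⟩ := hxJ
    have : x' = f.asFiber x := (f.fiberι (f x)).isEmbedding.injective (he.trans (f.fiberι_asFiber x).symm)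
    exact Scheme.Hom.quasiFiniteAt_iff_isOpen_singleton_asFiber.mpr (this ▸ hx')
  obtain ⟨U, g, hg, σ, hσ, V, hVc, hVf, hV⟩ :=
    EtLocLib.exists_elementary_finite f s J (hfin.image _) hJs hq
  obtain ⟨hu, hbij⟩ := EtLocLib.bijective_of_section g σ hσ
  refine ⟨U, g, σ.base (IsLocalRing.closedPoint _), ⟨hg, hu, hbij⟩, V, ⟨hVc, V.2⟩, hVf, fun w hw hopen => ?_⟩
  obtain ⟨x, hx, he⟩ := EtLocLib.fiber_isOpen_singleton_of_section f g σ hσ w hopen
  refine hw (hV _ ?_ ⟨x, hx, he⟩)
  have := Set.mem_range_self (f := ((pullback.snd f g).fiberι (σ.base (IsLocalRing.closedPoint _))).base) w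
  rwa [Scheme.Hom.range_fiberι, Set.mem_preimage, Set.mem_singleton_iff] at this

end Groth.Agent.S9762
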