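import Groth.Statements.S9763
import Mathlib
-- import your own Groth.Agent.* helpers here

set_option autoImplicit false
universe u
open FlatMor

namespace Groth.Agent.S9763

open AlgebraicGeometry CategoryTheory

open AlgebraicGeometry CategoryTheory Limits in
theorem exists_lift {X : Scheme.{u}} (U : X.Opens) {A : Type u} [CommRing A] (I : Ideal A) (hI : I ^ 2 = ⊥)
    (a : Spec (CommRingCat.of (A ⧸ I)) ⟶ U) (l : Spec (CommRingCat.of A) ⟶ X)
    (h : Spec.map (CommRingCat.ofHom (Ideal.Quotient.mk I)) ≫ l = a ≫ U.ι) :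
    ∃ l' : Spec (CommRingCat.of A) ⟶ U, l' ≫ U.ι = l := by
  refine ⟨IsOpenImmersion.lift U.ι l ?_, IsOpenImmersion.lift_fac _ _ _⟩
  rintro _ ⟨p, rfl⟩
  have hIle : I ≤ p.asIdeal := fun x hx => p.2.mem_of_pow_mem 2 (by
    have h2 : x ^ 2 ∈ I ^ 2 := Ideal.pow_mem_pow hx 2
    rw [hI, Ideal.mem_bot] at h2
    rw [h2]
    exact p.asIdeal.zero_mem)
  obtain ⟨q, rfl⟩ : p ∈ Set.range (PrimeSpectrum.comap (Ideal.Quotient.mk I)) := by
    rw [range_comap_of_surjective _ _ Ideal.Quotient.mk_surjective, Ideal.mk_ker]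
    exact hIle
  exact ⟨a q, congrArg (fun m => m q) h.symm⟩

/-- Let f : X ⟶ S be formally smooth (infinitesimal lifting against square-zero thickenings of affine
schemes), and let U be an open of X and V an open of S with U contained in the preimage of V under
f. Then the induced morphism U ⟶ V is formally smooth. -/
theorem result {X S : Scheme.{u}} (f : X ⟶ S) (hf : MoreMor.IsFormallySmoothHom f)
    (U : X.Opens) (V : S.Opens) (h : U ≤ f ⁻¹ᵁ V) : MoreMor.IsFormallySmoothHom (f.resLE V U h) := by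
  intro A _ I hI a b hab
  obtain ⟨l, h1, h2⟩ := hf A I hI (a ≫ U.ι) (b ≫ V.ι)
    (by rw [reassoc_of% hab, Category.assoc, Scheme.Hom.resLE_comp_ι])
  obtain ⟨l', hl'⟩ := exists_lift U I hI a l h1
  refine ⟨l', ?_, ?_⟩
  · rw [← cancel_mono U.ι, Category.assoc, hl', h1]
  · rw [← cancel_mono V.ι, Category.assoc, Scheme.Hom.resLE_comp_ι, reassoc_of% hl', h2]

end Groth.Agent.S9763
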