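import Groth.Statements.S9764
import Groth.Agent.SweepSix.GeomConn

set_option autoImplicit false
universe u
open FlatMor

namespace Groth.Agent.S9764

open AlgebraicGeometry CategoryTheory Limits in
/-- For morphisms of schemes f : X ⟶ Y and g : Y' ⟶ Y, let f' : X' ⟶ Y' be obtained from f by pulling
back along g (a cartesian square with g' : X' ⟶ X). A point y' of Y' has geometrically irreducible
fibre under f' exactly when g y' has geometrically irreducible fibre under f. -/
theorem result {X Y X' Y' : Scheme.{u}} (f : X ⟶ Y) (g : Y' ⟶ Y) (f' : X' ⟶ Y') (g' : X' ⟶ X)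
    (hc : IsPullback g' f' f g) :
    {y' : ↑Y' | GeometricallyIrreducible (f'.fiberToSpecResidueField y')} =
      g ⁻¹' {y : ↑Y | GeometricallyIrreducible (f.fiberToSpecResidueField y)} := by
  ext y'
  have h := isPullback_fiberToSpecResidueField_of_isPullback hc y'
  simp only [Set.mem_setOf_eq, Set.mem_preimage]
  let f₀ : f.fiber (g y') ⟶ Spec (CommRingCat.of (Y.residueField (g y'))) := f.fiberToSpecResidueField (g y')
  let := (g.residueFieldMap y').hom.toAlgebra
  have e : h.isoPullback.inv ≫ f'.fiberToSpecResidueField y' = CategoryTheory.Limits.pullback.snd f₀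
      (Spec.map (CommRingCat.ofHom (algebraMap (Y.residueField (g y')) (Y'.residueField y')))) :=
    h.isoPullback_inv_snd
  refine ⟨fun hy => ?_, fun hy => MorphismProperty.of_isPullback h hy⟩
  have : GeometricallyIrreducible (CategoryTheory.Limits.pullback.snd f₀
      (Spec.map (CommRingCat.ofHom (algebraMap (Y.residueField (g y')) (Y'.residueField y'))))) :=
    e ▸ (MorphismProperty.cancel_left_of_respectsIso @GeometricallyIrreducible _ _).mpr hy
  exact SweepSix.GeomConn.gi_of_bc f₀ (Y'.residueField y')

end Groth.Agent.S9764
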