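import Groth.Statements.S9768
import Mathlib
import Groth.Agent.CMFlatLib.Open
-- import your own Groth.Agent.* helpers here

set_option autoImplicit false
universe u
open FlatMor

namespace Groth.Agent.S9768

open AlgebraicGeometry CategoryTheory Limits in
/-- Suppose X and Y are locally Noetherian schemes, f : X ⟶ Y is flat, and every local ring of X is
Cohen–Macaulay. Then at each point x of X the morphism f is Cohen–Macaulay (flat at x with
Cohen–Macaulay local ring of the fibre), and the local ring of Y at f x is Cohen–Macaulay. -/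
theorem result {X Y : Scheme.{u}} (f : X ⟶ Y) [IsLocallyNoetherian X] [IsLocallyNoetherian Y] [Flat f]
    (hX : ∀ x : X, LocCoh.IsCohenMacaulayLocalRing ↑(X.presheaf.stalk x)) (x : X) :
    MoreMor.IsCMAt f x ∧ LocCoh.IsCohenMacaulayLocalRing ↑(Y.presheaf.stalk (f x)) := by
  obtain ⟨_, ⟨U, hU, rfl⟩, hxU, -⟩ :=
    Y.isBasis_affineOpens.exists_subset_of_mem_open (Set.mem_univ (f x)) isOpen_univ
  obtain ⟨_, ⟨V, hV, rfl⟩, hxV, hVsub⟩ := X.isBasis_affineOpens.exists_subset_of_mem_open
    (show x ∈ (f ⁻¹ᵁ U : X.Opens) from hxU) (f ⁻¹ᵁ U).2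
  have hVU : V ≤ f ⁻¹ᵁ U := fun z hz ↦ hVsub hz
  algebraize [(f.appLE U V hVU).hom]
  haveI : IsNoetherianRing Γ(X, V) := IsLocallyNoetherian.component_noetherian ⟨V, hV⟩
  haveI : IsNoetherianRing Γ(Y, U) := IsLocallyNoetherian.component_noetherian ⟨U, hU⟩
  let q := hV.primeIdealOf ⟨x, hxV⟩
  let p := q.asIdeal.comap (algebraMap Γ(Y, U) Γ(X, V))
  have hp : p = (hU.primeIdealOf ⟨f x, hVU hxV⟩).asIdeal :=
    congrArg PrimeSpectrum.asIdeal (IsAffineOpen.comap_primeIdealOf_appLE U hU V hV hVU hxV)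
  haveI : q.asIdeal.LiesOver p := ⟨rfl⟩
  letI := Localization.AtPrime.algebraOfLiesOver p q.asIdeal
  haveI := CMFlatLib.isLocalHom_localRingHom (A := Γ(Y, U)) q.asIdeal p
  letI := X.presheaf.algebra_section_stalk ⟨x, hxV⟩
  haveI : IsLocalization.AtPrime (X.presheaf.stalk x) q.asIdeal := hV.isLocalization_stalk ⟨x, hxV⟩
  have hcmq : CommAlgDim.IsCM (Localization.AtPrime q.asIdeal) :=
    (CMFlatLib.isCohenMacaulayLocalRing_iff_isCM _).mp ((CMFlatLib.isCohenMacaulayLocalRing_congr
      (IsLocalization.algEquiv q.asIdeal.primeCompl (X.presheaf.stalk x) (Localization.AtPrime q.asIdeal)).toRingEquiv).mp (hX x))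
  have hst : (f.stalkMap x).hom.Flat := Flat.stalkMap f x
  have hfl := (FlatLib.mem_flatLocus_self_iff q).mp ((FlatLib.flat_stalkMap_iff U hU V hV hVU hxV).mp hst)
  haveI : Module.Flat (Localization.AtPrime p) (Localization.AtPrime q.asIdeal) :=
    (Module.flat_iff_of_isLocalization (Localization.AtPrime p) p.primeCompl (Localization.AtPrime q.asIdeal)).mpr hfl
  haveI : IsLocalRing (GorLib.Fib (Localization.AtPrime p) (Localization.AtPrime q.asIdeal)) :=
    GorLib.isLocalRing_quotient (GorLib.map_maximalIdeal_ne_top _ _)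
  obtain ⟨hA, hF⟩ := (CMFlatLib.isCM_flat_iff (Localization.AtPrime p) (Localization.AtPrime q.asIdeal)).mp hcmq
  refine ⟨⟨hst, ?_⟩, ?_⟩
  · obtain ⟨e⟩ := FlatLib.nonempty_fibreStalk_ringEquiv f hU hV hVU rfl x hxV
    refine (CMFlatLib.isCohenMacaulayLocalRing_congr (e.trans (Ideal.quotEquivOfEq ?_))).mpr
      ((CMFlatLib.isCohenMacaulayLocalRing_iff_isCM _).mpr hF)
    rw [← IsLocalization.AtPrime.map_eq_maximalIdeal p (Localization.AtPrime p), Ideal.map_map,
      ← IsScalarTower.algebraMap_eq]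
  · letI := Y.presheaf.algebra_section_stalk ⟨f x, hVU hxV⟩
    haveI : IsLocalization.AtPrime (Y.presheaf.stalk (f x)) (hU.primeIdealOf ⟨f x, hVU hxV⟩).asIdeal :=
      hU.isLocalization_stalk ⟨f x, hVU hxV⟩
    haveI : IsLocalization.AtPrime (Y.presheaf.stalk (f x)) p := by simp only [hp]; infer_instance
    exact (CMFlatLib.isCohenMacaulayLocalRing_congr
      (IsLocalization.algEquiv p.primeCompl (Y.presheaf.stalk (f x)) (Localization.AtPrime p)).toRingEquiv).mpr
      ((CMFlatLib.isCohenMacaulayLocalRing_iff_isCM _).mpr hA)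

end Groth.Agent.S9768
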