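import Groth.Statements.S9778
import Groth.Agent.WeightLib.Constr
import Mathlib.AlgebraicGeometry.ZariskisMainTheorem

set_option autoImplicit false
universe u
open FlatMor

namespace Groth.Agent.S9778

open AlgebraicGeometry CategoryTheory Limits in
/-- Let f : X ⟶ S be separated and locally of finite type, s a point of S and x_1, …, x_n pairwise
distinct points of X over s at which f is quasi-finite (isolated points of the fibre). Then there
are an étale morphism g : U ⟶ S with a point u over s and finitely many pairwise disjoint open and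
closed subschemes V_{i,j} of X_U = X ×_S U, each finite over U and containing exactly one point
v_{i,j} over u, with v_{i,j} mapping to x_i and κ(v_{i,j}) purely inseparable over κ(u), such that
every point of X_U over u mapping to some x_i lies in one of the V_{i,j} (so the open and closed
complement W of their union has no point over u mapping to any x_i). -/
theorem result {X S : Scheme.{u}} (f : X ⟶ S) [LocallyOfFiniteType f] [IsSeparated f] (s : S)
    {ι : Type} [Finite ι] (x : ι → ↑X) (hinj : Function.Injective x) (hs : ∀ i, f (x i) = s) (hx : ∀ i, f.QuasiFiniteAt (x i)) :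
    ∃ (U : Scheme.{u}) (g : U ⟶ S) (u : U), Etale g ∧ g u = s ∧
      ∃ (J : ι → Type) (_ : ∀ i, Finite (J i)) (V : ∀ i, J i → (pullback f g).Opens) (v : ∀ i, J i → ↑(pullback f g)),
        (∀ i j, IsClopen ((V i j : Set ↑(pullback f g)))) ∧
        (∀ i j i' j', ((V i j : Set ↑(pullback f g)) ∩ (V i' j')).Nonempty → i = i' ∧ HEq j j') ∧
        (∀ i j, v i j ∈ V i j ∧ IsFinite ((V i j).ι ≫ pullback.snd f g) ∧ pullback.snd f g (v i j) = u ∧
          (∀ w : ↑(pullback f g), w ∈ V i j → pullback.snd f g w = u → w = v i j) ∧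
          (letI := ((pullback.snd f g).residueFieldMap (v i j)).hom.toAlgebra
           IsPurelyInseparable ↑(U.residueField (pullback.snd f g (v i j))) ↑((pullback f g).residueField (v i j))) ∧
          pullback.fst f g (v i j) = x i) ∧
        (∀ (w : ↑(pullback f g)) (i : ι), pullback.snd f g w = u → pullback.fst f g w = x i → ∃ j, w ∈ V i j) := by
  classical
  let U₀ := f.quasiFiniteLocus
  let e : U₀.toScheme ⟶ S := U₀.ι ≫ f
  have : LocallyQuasiFinite e := inferInstanceAs (LocallyQuasiFinite (f.quasiFiniteLocus.ι ≫ f))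
  have : LocallyOfFiniteType e := inferInstanceAs (LocallyOfFiniteType (U₀.ι ≫ f))
  let xs : ι → U₀.toScheme := fun i => ⟨x i, hx i⟩
  obtain ⟨V₁, g₁, hg₁, v₁, hv₁, n, W, hW, hsing, hdis, hcov⟩ :=
    WeightLib.exists_split e s (Set.range xs) (Set.finite_range xs)
  let π₁ := pullback.snd f g₁
  let m : pullback e g₁ ⟶ pullback f g₁ := pullback.lift (pullback.fst e g₁ ≫ U₀.ι)
    (pullback.snd e g₁) (by rw [Category.assoc]; exact pullback.condition)
  have hm : IsPullback (pullback.fst e g₁) m U₀.ι (pullback.fst f g₁) :=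
    IsPullback.of_bot (by rw [pullback.lift_snd]; exact IsPullback.of_hasPullback e g₁)
      (pullback.lift_fst ..).symm (IsPullback.of_hasPullback f g₁)
  have : IsOpenImmersion m := MorphismProperty.of_isPullback hm inferInstance
  have hmsnd : m ≫ π₁ = pullback.snd e g₁ := pullback.lift_snd ..
  let W₁ : Fin n → (pullback f g₁).Opens := fun k => m ''ᵁ W k
  have hiso : ∀ k, (m.isoImage (W k)).inv ≫ (W k).ι ≫ pullback.snd e g₁ = (W₁ k).ι ≫ π₁ := by
    intro k
    rw [← hmsnd, ← Category.assoc (W k).ι, ← Scheme.Hom.isoImage_hom_ι, Category.assoc,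
      Iso.inv_hom_id_assoc]
  have hW₁ : ∀ k, IsFinite ((W₁ k).ι ≫ π₁) := fun k => by
    have := hW k
    rw [← hiso k]
    infer_instance
  have hW₁s : ∀ k, WeightLib.GSingle ((W₁ k).ι ≫ π₁) v₁ := fun k =>
    WeightLib.GSingle.of_iso (π := (W k).ι ≫ pullback.snd e g₁) (m.isoImage (W k)).symm
      (Iso.refl V₁) (by simpa using hiso k) (hsing k)
  have hclosed : ∀ k, IsClosed (W₁ k : Set ↥(pullback f g₁)) := fun k => by
    have := hW₁ k
    have : IsFinite (W₁ k).ι := IsFinite.of_comp _ π₁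
    have hh := (W₁ k).ι.isClosedMap.isClosed_range
    rwa [Scheme.Opens.range_ι] at hh
  let B : Set V₁ := ⋃ (k : {k : Fin n × Fin n // k.1 ≠ k.2}),
    π₁ '' ((W₁ k.1.1 : Set ↥(pullback f g₁)) ∩ (W₁ k.1.2 : Set ↥(pullback f g₁)))
  have hB : IsClosed B := isClosed_iUnion_of_finite fun k => by
    have := hW₁ k.1.1
    exact WeightLib.isClosed_image_opens_inter π₁ _ (hclosed _)
  have hvB : v₁ ∉ B := by
    simp only [B, Set.mem_iUnion]
    rintro ⟨⟨⟨k, k'⟩, hkk⟩, p, ⟨⟨q, hq, rfl⟩, ⟨q', hq', hqq⟩⟩, hp⟩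
    obtain rfl : q' = q := m.isOpenEmbedding.injective hqq
    exact hkk (hdis q' k k' (by rw [← hmsnd]; exact hp) hq hq')
  let N : V₁.Opens := ⟨Bᶜ, hB.isOpen_compl⟩
  obtain ⟨m₂, hm₂, hm₂a⟩ := WeightLib.exists_isPullback_map (IsPullback.of_hasPullback f g₁)
    (IsPullback.of_hasPullback f (N.ι ≫ g₁)) N.ι rfl
  let u : N.toScheme := ⟨v₁, hvB⟩
  let π := pullback.snd f (N.ι ≫ g₁)
  let a := pullback.fst f (N.ι ≫ g₁)
  let V₂ : Fin n → (pullback f (N.ι ≫ g₁)).Opens := fun k => m₂ ⁻¹ᵁ W₁ k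
  have hfin₂ : ∀ k, IsFinite ((V₂ k).ι ≫ π) := fun k => by
    have := hW₁ k
    exact WeightLib.isFinite_restrict hm₂ (W₁ k)
  have hsing₂ : ∀ k, WeightLib.GSingle ((V₂ k).ι ≫ π) u := fun k =>
    (hW₁s k).baseChange (WeightLib.isPullback_restrict hm₂ (W₁ k)) rfl
  have huniq : ∀ k p q, p ∈ V₂ k → q ∈ V₂ k → π p = u → π q = u → p = q := by
    intro k p q hp hq hpu hqu
    have := hfin₂ k
    exact congrArg Subtype.val ((hsing₂ k).eq (a := ⟨p, hp⟩) (b := ⟨q, hq⟩) hpu hqu)
  let J : ι → Type := fun i => {k : Fin n // ∃ p, p ∈ V₂ k ∧ π p = u ∧ a p = x i}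
  let v : ∀ i, J i → ↑(pullback f (N.ι ≫ g₁)) := fun i j => j.2.choose
  have hv : ∀ i j, v i j ∈ V₂ j.1 ∧ π (v i j) = u ∧ a (v i j) = x i := fun i j => j.2.choose_spec
  refine ⟨N.toScheme, N.ι ≫ g₁, u, inferInstance, by rw [Scheme.Hom.comp_apply]; exact hv₁,
    J, fun i => Finite.of_injective Subtype.val Subtype.val_injective, fun i j => V₂ j.1, v,
    fun i j => ⟨(hclosed j.1).preimage m₂.continuous, (V₂ j.1).isOpen⟩, ?_, ?_, ?_⟩
  · rintro i j i' j' ⟨p, hp, hp'⟩
    have hkk : j.1 = j'.1 := by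
      by_contra h
      refine (π p).2 (Set.mem_iUnion.mpr ⟨⟨(j.1, j'.1), h⟩, m₂ p, ⟨hp, hp'⟩, ?_⟩)
      rw [← Scheme.Hom.comp_apply, hm₂.w]
      rfl
    have hvv : v i j = v i' j' :=
      huniq j.1 _ _ (hv i j).1 (by rw [hkk]; exact (hv i' j').1) (hv i j).2.1 (hv i' j').2.1
    obtain rfl : i = i' := hinj (by rw [← (hv i j).2.2, hvv, (hv i' j').2.2])
    exact ⟨rfl, heq_of_eq (Subtype.ext hkk)⟩
  · intro i j
    refine ⟨(hv i j).1, hfin₂ j.1, (hv i j).2.1,
      fun w hw hwu => huniq j.1 _ _ hw (hv i j).1 hwu (hv i j).2.1, ?_, (hv i j).2.2⟩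
    have := hfin₂ j.1
    let O := V₂ j.1
    let z : O.toScheme := ⟨v i j, (hv i j).1⟩
    let πO := O.ι ≫ π
    have hz : πO z = u := (hv i j).2.1
    obtain ⟨hfinc, hcard, hpos⟩ := WeightLib.card_gptsAt πO z (WeightLib.gpt u)
      (hz.trans (WeightLib.img_gpt u).symm)
    have := hsing₂ j.1 _ (WeightLib.gpt u) (WeightLib.img_gpt u)
    have hone : Nat.card {p : WeightLib.GPts πO (WeightLib.gpt u) // WeightLib.img p.1 = z} = 1 :=
      le_antisymm (Finite.card_le_one_iff_subsingleton.mpr inferInstance) hpos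
    rw [hone] at hcard
    algebraize [(π.residueFieldMap (O.ι z)).hom, (πO.residueFieldMap z).hom]
    have hP : IsPurelyInseparable (N.toScheme.residueField (πO z)) (O.toScheme.residueField z) :=
      isPurelyInseparable_of_finSepDegree_eq_one hcard.symm
    let : Algebra (N.toScheme.residueField (π (O.ι z))) (O.toScheme.residueField z) :=
      (πO.residueFieldMap z).hom.toAlgebra
    have hP' : IsPurelyInseparable (N.toScheme.residueField (π (O.ι z))) (O.toScheme.residueField z) := hP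
    let φ := (asIso (O.ι.residueFieldMap z)).commRingCatIsoToRingEquiv
    let ψ : (pullback f (N.ι ≫ g₁)).residueField (O.ι z) ≃ₐ[N.toScheme.residueField (π (O.ι z))]
        O.toScheme.residueField z :=
      AlgEquiv.ofRingEquiv (f := φ) fun r => by
        change (π.residueFieldMap (O.ι z) ≫ O.ι.residueFieldMap z).hom r = _
        rw [← Scheme.residueFieldMap_comp]
        rfl
    exact ψ.symm.isPurelyInseparable
  · intro w i hwu hwi
    have h1 : π₁ (m₂ w) = v₁ := by
      rw [← Scheme.Hom.comp_apply, hm₂.w, Scheme.Hom.comp_apply, hwu]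
      rfl
    have h2 : pullback.fst f g₁ (m₂ w) = x i := by
      rw [← Scheme.Hom.comp_apply, hm₂a]
      exact hwi
    obtain ⟨z, hz₁, hz₂⟩ := Scheme.Pullback.exists_preimage_pullback (f := U₀.ι)
      (g := pullback.fst f g₁) (xs i) (m₂ w) h2.symm
    let q := hm.isoPullback.inv z
    have hq₁ : pullback.fst e g₁ q = xs i := by
      rw [← Scheme.Hom.comp_apply, hm.isoPullback_inv_fst, hz₁]
    have hq₂ : m q = m₂ w := by
      rw [← Scheme.Hom.comp_apply, hm.isoPullback_inv_snd, hz₂]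
    obtain ⟨k, hk⟩ := hcov q (by rw [← hmsnd, Scheme.Hom.comp_apply, hq₂, h1]) ⟨i, hq₁.symm⟩
    exact ⟨⟨k, w, ⟨q, hk, hq₂⟩, hwu, hwi⟩, ⟨q, hk, hq₂⟩⟩

end Groth.Agent.S9778
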