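import Groth.Statements.S9779
import Groth.Agent.S1411
-- import your own Groth.Agent.* helpers here

set_option autoImplicit false
set_option backward.isDefEq.respectTransparency false
set_option linter.all false
universe u
open FlatMor

namespace Groth.Agent.S9779

open AlgebraicGeometry CategoryTheory Limits TopologicalSpace in
theorem exists_specializes_of_mem_closure {X : Scheme.{u}} [IsLocallyNoetherian X] (U : X.Opens) (x : X)
    (hx : x ∈ closure (U : Set X)) : ∃ x' ∈ U, x' ⤳ x := by
  obtain ⟨V, hV, hxV, -⟩ := exists_isAffineOpen_mem_and_subset (x := x) (U := ⊤) (Set.mem_univ _)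
  haveI := IsLocallyNoetherian.component_noetherian (X := X) ⟨V, hV⟩
  haveI : NoetherianSpace ↥(V : Set X) :=
    AlgebraicGeometry.noetherianSpace_of_isAffineOpen V hV
  have hsub : ((U : Set X) ∩ V) ⊆ (V : Set X) := Set.inter_subset_right
  haveI : NoetherianSpace ↥((U : Set X) ∩ V) :=
    (Topology.IsInducing.noetherianSpace (i := Set.inclusion hsub)
      (Topology.IsEmbedding.inclusion hsub).isInducing)
  haveI : QuasiSober ↥((U : Set X) ∩ V) := (U.2.inter V.2).isOpenEmbedding_subtypeVal.quasiSober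
  let T := ↥((U : Set X) ∩ V)
  have hfin : (irreducibleComponents T).Finite := NoetherianSpace.finite_irreducibleComponents
  have hx' : x ∈ closure ((U : Set X) ∩ V) := by
    rw [mem_closure_iff] at hx ⊢
    intro o ho hxo
    obtain ⟨y, ⟨hyo, hyV⟩, hyU⟩ := hx (o ∩ V) (ho.inter V.2) ⟨hxo, hxV⟩
    exact ⟨y, hyo, hyU, hyV⟩
  have hcov : ((U : Set X) ∩ V) ⊆ ⋃ Z ∈ irreducibleComponents T, Subtype.val '' Z := by
    intro y hy
    exact Set.mem_biUnion (irreducibleComponent_mem_irreducibleComponents (⟨y, hy⟩ : T))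
      ⟨_, mem_irreducibleComponent, rfl⟩
  have h2 := closure_mono hcov hx'
  rw [hfin.closure_biUnion] at h2
  obtain ⟨Z, hZ, hxZ⟩ := Set.mem_iUnion₂.mp h2
  obtain ⟨ξ, hξ⟩ := QuasiSober.sober hZ.1 (isClosed_of_mem_irreducibleComponents Z hZ)
  refine ⟨ξ.1, ξ.2.1, specializes_iff_mem_closure.mpr (closure_minimal ?_ isClosed_closure hxZ)⟩
  rintro _ ⟨w, hw, rfl⟩
  exact specializes_iff_mem_closure.mp ((hξ.specializes hw).map continuous_subtype_val)

open AlgebraicGeometry CategoryTheory Limits in
/-- Suppose S is locally Noetherian and the morphism f : X ⟶ S is locally of finite type; take x a point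
of X closed in its fibre, and U ⊆ X an open subscheme not meeting the fibre through x but with x in
the closure of U. Then there is a closed subscheme Z of X passing through x such that Z ⟶ S is
quasi-finite at x and Z contains a point z of U specializing to x with f z ≠ f x. -/
theorem result {X S : Scheme.{u}} (f : X ⟶ S) [LocallyOfFiniteType f] [IsLocallyNoetherian S] (x : X)
    (hcl : IsClosed (Subtype.val ⁻¹' {x} : Set ↑(f ⁻¹' {f x}))) (U : X.Opens)
    (hU : ∀ x' ∈ U, f x' ≠ f x) (hxU : x ∈ closure (U : Set ↑X)) :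
    ∃ (I : X.IdealSheafData) (z₀ x₀ : ↑I.subscheme), I.subschemeι x₀ = x ∧ (I.subschemeι ≫ f).QuasiFiniteAt x₀ ∧
      I.subschemeι z₀ ∈ U ∧ I.subschemeι z₀ ⤳ x ∧ f (I.subschemeι z₀) ≠ f x := by
  haveI : IsLocallyNoetherian X := LocallyOfFiniteType.isLocallyNoetherian f
  obtain ⟨x', hx'U, hx's⟩ := exists_specializes_of_mem_closure U x hxU
  exact Groth.Agent.S1411.result f x hcl U ⟨x', hx'U, hx's, hU x' hx'U⟩

end Groth.Agent.S9779
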