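import Groth.Statements.S9784
import Groth.Agent.S5974
import Groth.Agent.S9741
import Groth.Agent.S9371
import Groth.Agent.ConormalSeqLib.Desc
import Groth.Agent.RpushLib.HBase

set_option autoImplicit false
universe u
open OmegaSh

namespace Groth.Agent.S9784

open CategoryTheory CategoryTheory.Limits AlgebraicGeometry TopologicalSpace Opposite

/-- The projection between the universal thickenings is the base change of the one below. -/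
theorem isPullback_thickenings {Z Y X Z' Y' Z'' : Scheme.{u}} (i : Z ⟶ Y) (b : Y ⟶ X)
    [FormallyUnramified i] [FormallyUnramified b]
    (i' : Z ⟶ Z') (c : Z' ⟶ X) (hZ' : OmegaSh.IsUnivThickening (i ≫ b) i' c)
    (j : Y ⟶ Y') (d : Y' ⟶ X) (hY' : OmegaSh.IsUnivThickening b j d)
    (m : Z' ⟶ Y') (hm₁ : i' ≫ m = i ≫ j) (hm₂ : m ≫ d = c)
    (i'' : Z ⟶ Z'') (e : Z'' ⟶ Y) (hZ'' : OmegaSh.IsUnivThickening i i'' e)
    (n : Z'' ⟶ Z') (hn₁ : i'' ≫ n = i') (hn₂ : n ≫ c = e ≫ b) : IsPullback e n j m := by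
  obtain ⟨m₀, hm₀, hm₀d, hP⟩ := Groth.Agent.S9741.result i b i' c hZ' j d hY'
  obtain rfl : m₀ = m :=
    (hY'.2.2 _ _ i' c i hZ'.1 hZ'.2.1).unique ⟨hm₀, hm₀d⟩ ⟨hm₁, hm₂⟩
  let u := pullback.lift i i' hm₀.symm
  obtain ⟨φ, ⟨hφ1, hφ2⟩, -⟩ := hP.2.2 _ _ i'' e (𝟙 Z) hZ''.1 (by rw [Category.id_comp]; exact hZ''.2.1)
  obtain ⟨χ, ⟨hχ1, hχ2⟩, -⟩ := hZ''.2.2 _ _ u (pullback.fst j m₀) (𝟙 Z) hP.1 (by rw [Category.id_comp]; exact hP.2.1)
  rw [Category.id_comp] at hφ1 hχ1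
  have h₁ : φ ≫ χ = 𝟙 Z'' :=
    (hZ''.2.2 _ _ i'' e (𝟙 Z) hZ''.1 (by rw [Category.id_comp]; exact hZ''.2.1)).unique
      ⟨by rw [reassoc_of% hφ1, hχ1, Category.id_comp], by rw [Category.assoc, hχ2, hφ2]⟩
      ⟨by rw [Category.comp_id, Category.id_comp], Category.id_comp e⟩
  have h₂ : χ ≫ φ = 𝟙 _ :=
    (hP.2.2 _ _ u (pullback.fst j m₀) (𝟙 Z) hP.1 (by rw [Category.id_comp]; exact hP.2.1)).unique
      ⟨by rw [reassoc_of% hχ1, hφ1, Category.id_comp], by rw [Category.assoc, hφ2, hχ2]⟩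
      ⟨by rw [Category.comp_id, Category.id_comp], Category.id_comp _⟩
  have hn : φ ≫ pullback.snd j m₀ = n := by
    refine (hZ'.2.2 _ _ i'' (e ≫ b) (𝟙 Z) hZ''.1 ?_).unique ⟨?_, ?_⟩ ⟨?_, hn₂⟩
    · rw [Category.id_comp, ← Category.assoc, hZ''.2.1]
    · rw [reassoc_of% hφ1, pullback.lift_snd, Category.id_comp]
    · rw [← hm₀d, Category.assoc, ← pullback.condition_assoc, hY'.2.1, reassoc_of% hφ2]
    · rw [Category.id_comp, hn₁]
  have w : e ≫ j = n ≫ m₀ := by rw [← hφ2, ← hn, Category.assoc, Category.assoc, pullback.condition]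
  exact IsPullback.of_iso_pullback ⟨w⟩ ⟨φ, χ, h₁, h₂⟩ hφ2 hn

/-- On affine charts the ideal of a base changed closed immersion is extended from below. -/
theorem ker_le_map {Z' Y Y' Z'' : Scheme.{u}} {j : Y ⟶ Y'} [IsClosedImmersion j] {m : Z' ⟶ Y'}
    {e : Z'' ⟶ Y} {n : Z'' ⟶ Z'} (H : IsPullback e n j m) {U₀ : Y'.Opens} (hU₀ : IsAffineOpen U₀)
    {V : Z'.Opens} (hV : IsAffineOpen V) (hle : V ≤ m ⁻¹ᵁ U₀) (x : Γ(Z', V)) (hx : n.app V x = 0) :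
    x ∈ (RingHom.ker (j.app U₀).hom).map (m.appLE U₀ V hle).hom := by
  let K := (RingHom.ker (j.app U₀).hom).map (m.appLE U₀ V hle).hom
  have hpo := RpushLib.isPushout_sections H.flip hU₀ (hU₀.preimage j) (le_refl (j ⁻¹ᵁ U₀)) hV hle
  let g : Γ(Y', U₀) ⟶ CommRingCat.of (Γ(Z', V) ⧸ K) :=
    m.appLE U₀ V hle ≫ CommRingCat.ofHom (Ideal.Quotient.mk K)
  have hker : RingHom.ker (j.app U₀).hom ≤ RingHom.ker g.hom := fun a ha =>
    Ideal.Quotient.eq_zero_iff_mem.mpr (Ideal.mem_map_of_mem _ ha)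
  let q : Γ(Y, j ⁻¹ᵁ U₀) →+* Γ(Z', V) ⧸ K :=
    RingHom.liftOfSurjective (j.app U₀).hom (j.app_surjective U₀ hU₀) ⟨g.hom, hker⟩
  have hw : m.appLE U₀ V hle ≫ CommRingCat.ofHom (Ideal.Quotient.mk K) =
      j.appLE U₀ (j ⁻¹ᵁ U₀) le_rfl ≫ CommRingCat.ofHom q := by
    rw [Scheme.Hom.appLE_eq_app]
    exact CommRingCat.hom_ext (RingHom.ext fun a =>
      (RingHom.liftOfRightInverse_comp_apply (j.app U₀).hom _
        (Function.rightInverse_surjInv (j.app_surjective U₀ hU₀)) ⟨g.hom, hker⟩ a).symm)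
  have h1 := congr($(hpo.inl_desc (CommRingCat.ofHom (Ideal.Quotient.mk K)) (CommRingCat.ofHom q) hw) x)
  have h0 : ∀ W (hW : W ≤ n ⁻¹ᵁ V), n.appLE V W hW x = 0 := fun W hW => by
    show Z''.presheaf.map (homOfLE hW).op (n.app V x) = 0
    rw [hx, map_zero]
  rw [CommRingCat.comp_apply, CommRingCat.ofHom_apply, h0, map_zero] at h1
  exact Ideal.Quotient.eq_zero_iff_mem.mp h1.symm

theorem app_smul_zero {Z : Scheme.{u}} {M N : Z.Modules} (a : M ⟶ N) {W : Z.Opens} (r : Γ(Z, W)) (x : Γ(M, W))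
    (h : a.app W x = 0) : a.app W (r • x) = 0 := by rw [Scheme.Modules.Hom.app_smul, h, smul_zero]

section Kills

variable {Z Y Z' Y' Z'' : Scheme.{u}} {i : Z ⟶ Y} {j : Y ⟶ Y'} [IsClosedImmersion j] {m : Z' ⟶ Y'}
  {i'' : Z ⟶ Z''} [IsClosedImmersion i''] {e : Z'' ⟶ Y} {n : Z'' ⟶ Z'} [IsClosedImmersion n]
  {ψ₁ : (Scheme.Modules.pullback i).obj (Omega.conormal j) ⟶ Omega.conormal (i'' ≫ n)}

/-- A map killing the classes coming from below kills the classes from the middle. -/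
theorem kills (H : IsPullback e n j m) (hψ₁ : OmegaSh.IsConormalMap (i'' ≫ n) j m i ψ₁)
    {φ₁ : (Scheme.Modules.pullback i'').obj (Omega.conormal n) ⟶ Omega.conormal (i'' ≫ n)}
    (hφ₁ : OmegaSh.IsConormalMap (i'' ≫ n) n (𝟙 Z') i'' φ₁)
    {M : Z.Modules} (a : Omega.conormal (i'' ≫ n) ⟶ M) (ha : ψ₁ ≫ a = 0) : φ₁ ≫ a = 0 := by
  refine CohCmpLib.hom_ext_puSec₂ _ _ fun U r => ?_
  have hr : (i'' ≫ n).app U (OmegaSh.idealSect n.ker U r) = 0 := by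
    rw [Scheme.Hom.comp_app]
    show i''.app _ (n.app U (OmegaSh.idealSect n.ker U r)) = 0
    rw [ConormalSecLib.app_idealSect, map_zero]
  let t := ConormalSecLib.lift (i'' ≫ n) U (OmegaSh.idealSect n.ker U r) hr
  have h1 := hφ₁.2 U r t (ConormalSecLib.idealSect_lift (i'' ≫ n) U _ hr) (i'' ⁻¹ᵁ (n ⁻¹ᵁ U)) le_rfl le_rfl
  rw [ConormalSeqLib.hidM] at h1
  show a.app (i'' ⁻¹ᵁ (n ⁻¹ᵁ U)) (φ₁.app (i'' ⁻¹ᵁ (n ⁻¹ᵁ U)) (KFlatLib.puSec i'' (KFlatLib.puSec n r))) = _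
  refine (congrArg (a.app _) (h1.trans (ConormalSeqLib.hidM _ _))).trans ?_
  show _ = 0
  have hloc : ∀ z : (i'' ≫ n) ⁻¹ᵁ U, ∃ V : Z'.Opens, IsAffineOpen V ∧ (i'' ≫ n) z.1 ∈ V ∧ V ≤ U ∧
      ∃ U₀ : Y'.Opens, IsAffineOpen U₀ ∧ V ≤ m ⁻¹ᵁ U₀ := by
    intro z
    obtain ⟨U₀, hU₀, hz₀, -⟩ := exists_isAffineOpen_mem_and_subset
      (show m ((i'' ≫ n) z.1) ∈ (⊤ : Y'.Opens) from trivial)
    obtain ⟨V, hV, hzV, hle⟩ := exists_isAffineOpen_mem_and_subset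
      (show (i'' ≫ n) z.1 ∈ U ⊓ m ⁻¹ᵁ U₀ from ⟨z.2, hz₀⟩)
    exact ⟨V, hV, hzV, fun y hy => (hle hy).1, U₀, hU₀, fun y hy => (hle hy).2⟩
  choose V hV hzV hVU U₀ hU₀ hle using hloc
  refine TopCat.Sheaf.eq_of_locally_eq' (⟨M.presheaf, M.isSheaf⟩ : TopCat.Sheaf AddCommGrpCat Z)
    (fun z => (i'' ≫ n) ⁻¹ᵁ V z) ((i'' ≫ n) ⁻¹ᵁ U) (fun z => homOfLE ((i'' ≫ n).preimage_mono (hVU z)))
    (fun z hz => Opens.mem_iSup.2 ⟨⟨z, hz⟩, hzV _⟩) _ 0 fun z => ?_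
  refine Eq.trans ?_ (map_zero (M.presheaf.map _).hom).symm
  refine (Groth.Agent.S5974.val_map n i'' a (hVU z) t).symm.trans ?_
  have hxV : n.app (V z) (OmegaSh.idealSect (i'' ≫ n).ker (V z)
      ((ClSub.idealMod (i'' ≫ n).ker).presheaf.map (homOfLE (hVU z)).op t)) = 0 := by
    rw [ConormalSecLib.idealSect_map, ConormalSecLib.idealSect_lift, ← ConormalSecLib.idealSect_map,
      ConormalSecLib.app_idealSect]
  have main : ∀ x ∈ (RingHom.ker (j.app (U₀ z)).hom).map (m.appLE (U₀ z) (V z) (hle z)).hom,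
      ∃ s, OmegaSh.idealSect (i'' ≫ n).ker (V z) s = x ∧ Groth.Agent.S5974.val n i'' a (V z) s = 0 := by
    intro x hx
    induction hx using Submodule.span_induction with
    | zero => exact ⟨0, map_zero _, (congrArg (a.app _) (map_zero (OmegaSh.conormalSect (i'' ≫ n) (V z)).hom)).trans (map_zero _)⟩
    | add x y _ _ hx hy =>
      obtain ⟨s, hs, hs'⟩ := hx
      obtain ⟨s', ht, ht'⟩ := hy
      exact ⟨s + s', by rw [map_add, hs, ht], by rw [Groth.Agent.S5974.val_add, hs', ht', add_zero]⟩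
    | smul c x _ hx =>
      obtain ⟨s, hs, hs'⟩ := hx
      refine ⟨c • s, by rw [ConormalSecLib.idealSect_smul, hs]; rfl, ?_⟩
      refine (congrArg (a.app _) (OmegaSh.pullSect_smul (i'' ≫ n) _ (V z) c s)).trans ?_
      exact app_smul_zero a _ _ hs'
    | mem x hx =>
      obtain ⟨y, hy, rfl⟩ := hx
      let sy := ConormalSecLib.lift j (U₀ z) y hy
      have h0 : (i'' ≫ n).app (m ⁻¹ᵁ U₀ z) (m.app (U₀ z) y) = 0 := by
        have key : ∀ (q : Z ⟶ Y'), q = (i'' ≫ n) ≫ m → q.app (U₀ z) y = 0 →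
            (i'' ≫ n).app (m ⁻¹ᵁ U₀ z) (m.app (U₀ z) y) = 0 := by
          rintro _ rfl h
          exact h
        exact key (i ≫ j) hψ₁.1 ((congrArg (i.app _) (show j.app (U₀ z) y = 0 from hy)).trans (map_zero _))
      let s₁ := ConormalSecLib.lift (i'' ≫ n) (m ⁻¹ᵁ U₀ z) _ h0
      have hpre : (i'' ≫ n) ⁻¹ᵁ V z ≤ i ⁻¹ᵁ (j ⁻¹ᵁ U₀ z) :=
        ((i'' ≫ n).preimage_mono (hle z)).trans (congrArg (· ⁻¹ᵁ U₀ z) hψ₁.1).ge
      have h2 := hψ₁.2 (U₀ z) sy s₁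
        ((ConormalSecLib.idealSect_lift (i'' ≫ n) _ _ h0).trans
          (congrArg (m.app (U₀ z)) (ConormalSecLib.idealSect_lift j _ y hy)).symm)
        _ hpre ((i'' ≫ n).preimage_mono (hle z))
      refine ⟨(ClSub.idealMod (i'' ≫ n).ker).presheaf.map (homOfLE (hle z)).op s₁, ?_, ?_⟩
      · rw [ConormalSecLib.idealSect_map, ConormalSecLib.idealSect_lift]
        rfl
      · refine (congrArg (a.app _) ((OmegaSh.pullSect_map (i'' ≫ n) _ (hle z) s₁).trans h2.symm)).trans ?_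
        refine (QCohLib.app_map a (homOfLE hpre) _).trans ?_
        refine (congrArg (M.presheaf.map (homOfLE hpre).op) ?_).trans (map_zero _)
        show (ψ₁ ≫ a).app _ _ = 0
        rw [ha]
        rfl
  obtain ⟨s, hs, hs'⟩ := main _ (ker_le_map H (hU₀ z) (hV z) (hle z) _ hxV)
  rwa [ConormalSecLib.idealSect_injective (i'' ≫ n) (V z) hs] at hs'

end Kills


open AlgebraicGeometry CategoryTheory Limits in
/-- Let i : Z ⟶ Y and b : Y ⟶ X be formally unramified, let (i' : Z ⟶ Z', c) be a first order thickening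
over X that is universal for i ≫ b, (j : Y ⟶ Y', d) one universal for b, m : Z' ⟶ Y' the morphism of
thickenings over X compatible with i, (i'' : Z ⟶ Z'', e) a first order thickening over Y that is
universal for i, and n : Z'' ⟶ Z' the morphism of thickenings over X extending the identity of Z.
Let ψ₁ : i^*C_{Y/Y'} ⟶ C_{Z/Z'} and ψ₂ : C_{Z/Z'} ⟶ C_{Z/Z''} be the canonical maps of conormal
sheaves induced by (i, m) and (id, n). These are the conormal sheaves C_{Y/X}, C_{Z/X}, C_{Z/Y} of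
the formally unramified morphisms and the canonical maps between them. Then the sequence i^*C_{Y/X}
⟶ C_{Z/X} ⟶ C_{Z/Y} ⟶ 0 they form is exact. -/
theorem result {Z Y X Z' Y' Z'' : Scheme.{u}} (i : Z ⟶ Y) (b : Y ⟶ X)
    [FormallyUnramified i] [FormallyUnramified b]
    (i' : Z ⟶ Z') (c : Z' ⟶ X) (hZ' : OmegaSh.IsUnivThickening (i ≫ b) i' c)
    (j : Y ⟶ Y') (d : Y' ⟶ X) (hY' : OmegaSh.IsUnivThickening b j d)
    (m : Z' ⟶ Y') (hm₁ : i' ≫ m = i ≫ j) (hm₂ : m ≫ d = c)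
    (i'' : Z ⟶ Z'') (e : Z'' ⟶ Y) (hZ'' : OmegaSh.IsUnivThickening i i'' e)
    (n : Z'' ⟶ Z') (hn₁ : i'' ≫ n = i') (hn₂ : n ≫ c = e ≫ b)
    (ψ₁ : (Scheme.Modules.pullback i).obj (Omega.conormal j) ⟶ Omega.conormal i') (hψ₁ : OmegaSh.IsConormalMap i' j m i ψ₁)
    (ψ₂ : (Scheme.Modules.pullback (𝟙 Z)).obj (Omega.conormal i') ⟶ Omega.conormal i'') (hψ₂ : OmegaSh.IsConormalMap i'' i' n (𝟙 Z) ψ₂) :
    ∃ w : (Scheme.Modules.pullback (𝟙 Z)).map ψ₁ ≫ ψ₂ = 0, (ShortComplex.mk _ _ w).Exact ∧ Epi ψ₂ := by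
  subst hn₁
  haveI : IsClosedImmersion i'' := hZ''.1.1.1
  haveI : IsClosedImmersion j := hY'.1.1.1
  have H := isPullback_thickenings i b (i'' ≫ n) c hZ' j d hY' m hm₁ hm₂ i'' e hZ'' n rfl hn₂
  haveI : IsClosedImmersion n := MorphismProperty.of_isPullback H (inferInstance : IsClosedImmersion j)
  obtain ⟨φ₁, hφ₁, -⟩ := Groth.Agent.S9371.result (i'' ≫ n) n (𝟙 Z') i'' (Category.comp_id _).symm
  let p : Omega.conormal (i'' ≫ n) ⟶ Omega.conormal i'' := (Scheme.Modules.pullbackId Z).inv.app (Omega.conormal (i'' ≫ n)) ≫ ψ₂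
  haveI := (Groth.Agent.S5974.result n i'' φ₁ hφ₁ ψ₂ hψ₂).1
  haveI : Epi p := epi_comp _ _
  have hp : ∀ (U : Z'.Opens) (t : Γ(ClSub.idealMod (i'' ≫ n).ker, U)) (s : Γ(ClSub.idealMod i''.ker, n ⁻¹ᵁ U)),
      OmegaSh.idealSect i''.ker (n ⁻¹ᵁ U) s = n.app U (OmegaSh.idealSect (i'' ≫ n).ker U t) →
      p.app (i'' ⁻¹ᵁ (n ⁻¹ᵁ U)) (OmegaSh.conormalSect (i'' ≫ n) U t) = OmegaSh.conormalSect i'' (n ⁻¹ᵁ U) s := by
    intro U t s h
    refine (congrArg (ψ₂.app (i'' ⁻¹ᵁ (n ⁻¹ᵁ U))) (OmegaAffLib.pullbackId_inv_app (Omega.conormal (i'' ≫ n))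
      (i'' ⁻¹ᵁ (n ⁻¹ᵁ U)) (OmegaSh.conormalSect (i'' ≫ n) U t))).trans ?_
    have h' := hψ₂.2 U t s h (i'' ⁻¹ᵁ (n ⁻¹ᵁ U)) le_rfl le_rfl
    exact ((ConormalSeqLib.hidM _ _).symm.trans (h'.trans (ConormalSeqLib.hidM _ _)))
  have w₁ : ψ₁ ≫ p = 0 := by
    refine CohCmpLib.hom_ext_puSec₂ _ _ fun U r => ?_
    have h0 : (i'' ≫ n).app (m ⁻¹ᵁ U) (m.app U (OmegaSh.idealSect j.ker U r)) = 0 := by
      have key : ∀ (q : Z ⟶ Y'), q = (i'' ≫ n) ≫ m → ∀ y : Γ(Y', U), q.app U y = 0 →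
          (i'' ≫ n).app (m ⁻¹ᵁ U) (m.app U y) = 0 := by
        rintro _ rfl y h
        exact h
      exact key (i ≫ j) hψ₁.1 _
        ((congrArg (i.app _) (ConormalSecLib.app_idealSect j U r)).trans (map_zero _))
    let s₁ := ConormalSecLib.lift (i'' ≫ n) (m ⁻¹ᵁ U) _ h0
    have hpre : i ⁻¹ᵁ (j ⁻¹ᵁ U) ≤ (i'' ≫ n) ⁻¹ᵁ (m ⁻¹ᵁ U) := (congrArg (· ⁻¹ᵁ U) hψ₁.1).le
    have h2 := hψ₁.2 U r s₁ (ConormalSecLib.idealSect_lift (i'' ≫ n) _ _ h0) _ le_rfl hpre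
    rw [ConormalSeqLib.hidM] at h2
    show p.app (i ⁻¹ᵁ (j ⁻¹ᵁ U)) (ψ₁.app (i ⁻¹ᵁ (j ⁻¹ᵁ U)) (KFlatLib.puSec i (KFlatLib.puSec j r))) = _
    refine (congrArg (p.app _) h2).trans ?_
    refine (QCohLib.app_map p (homOfLE hpre) _).trans ?_
    refine (congrArg ((Omega.conormal i'').presheaf.map (homOfLE hpre).op) (hp (m ⁻¹ᵁ U) s₁ 0 ?_)).trans ?_
    · rw [map_zero, ConormalSecLib.idealSect_lift]
      have key : ∀ (q : Z'' ⟶ Y'), q = n ≫ m → ∀ y : Γ(Y', U), q.app U y = 0 →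
          n.app (m ⁻¹ᵁ U) (m.app U y) = 0 := by
        rintro _ rfl y h
        exact h
      exact (key (e ≫ j) H.w _
        ((congrArg (e.app _) (ConormalSecLib.app_idealSect j U r)).trans (map_zero _))).symm
    · exact (congrArg _ (map_zero _)).trans (map_zero _)
  have hS : (ShortComplex.mk ψ₁ p w₁).Exact := by
    refine ShortComplex.exact_of_g_is_cokernel _ ?_
    refine CokernelCofork.IsColimit.ofπ' _ _ fun {M} ψ hψ => ?_
    have hψ' : φ₁ ≫ ψ = 0 := kills H hψ₁ hφ₁ ψ hψ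
    refine ⟨Groth.Agent.S5974.desc n i'' φ₁ hφ₁ ψ hψ',
      ConormalSecLib.conormal_hom_ext (i'' ≫ n) fun U t => ?_⟩
    have hs : i''.app (n ⁻¹ᵁ U) (n.app U (OmegaSh.idealSect (i'' ≫ n).ker U t)) = 0 := by
      refine Eq.trans ?_ (ConormalSecLib.app_idealSect (i'' ≫ n) U t)
      rw [Scheme.Hom.comp_app]
      rfl
    let s := ConormalSecLib.lift i'' (n ⁻¹ᵁ U) _ hs
    refine (congrArg ((Groth.Agent.S5974.desc n i'' φ₁ hφ₁ ψ hψ').app _)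
      (hp U t s (ConormalSecLib.idealSect_lift i'' _ _ hs))).trans ?_
    exact Groth.Agent.S5974.desc_app n i'' φ₁ hφ₁ ψ hψ' U t s (ConormalSecLib.idealSect_lift i'' _ _ hs).symm
  let ν := Scheme.Modules.pullbackId Z
  have hp' : ν.hom.app _ ≫ p = ψ₂ := by
    exact ν.hom_inv_id_app_assoc (Omega.conormal (i'' ≫ n)) ψ₂
  have w : (Scheme.Modules.pullback (𝟙 Z)).map ψ₁ ≫ ψ₂ = 0 := by
    refine (congrArg ((Scheme.Modules.pullback (𝟙 Z)).map ψ₁ ≫ ·) hp'.symm).trans ?_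
    refine (Category.assoc _ _ _).symm.trans ?_
    refine (congrArg (· ≫ p) (ν.hom.naturality ψ₁)).trans ?_
    exact (Category.assoc _ _ _).trans ((congrArg _ w₁).trans comp_zero)
  refine ⟨w, (ShortComplex.exact_iff_of_iso
    (ShortComplex.isoMk (S₁ := ShortComplex.mk ψ₁ p w₁) (S₂ := ShortComplex.mk _ ψ₂ w)
      (ν.app _).symm (ν.app _).symm (Iso.refl _) ?_ ?_)).mp hS,
    (Groth.Agent.S5974.result n i'' φ₁ hφ₁ ψ₂ hψ₂).1⟩
  · exact (ν.inv.naturality ψ₁).symm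
  · exact (Category.comp_id _).symm

end Groth.Agent.S9784
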