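import Groth.Statements.S9785
import Groth.Agent.S9784
import Groth.Agent.S9772
import Groth.Agent.S13458
import Groth.Agent.LciTransLib.Ring

set_option autoImplicit false
universe u
open OmegaSh

namespace Groth.Agent.S9785

open CategoryTheory CategoryTheory.Limits AlgebraicGeometry TopologicalSpace Opposite TensorProduct

section Chart

variable {Z Y Z' Y' : Scheme.{u}} {i : Z ⟶ Y} {j : Y ⟶ Y'} [IsClosedImmersion j] {i' : Z ⟶ Z'}
  [IsClosedImmersion i'] {m : Z' ⟶ Y'}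

theorem lift_add {V : Z'.Opens} (x y : Γ(Z', V)) (hx : i'.app V x = 0) (hy : i'.app V y = 0)
    (hxy : i'.app V (x + y) = 0) :
    OmegaSh.conormalSect i' V (ConormalSecLib.lift i' V (x + y) hxy) =
      OmegaSh.conormalSect i' V (ConormalSecLib.lift i' V x hx) +
        OmegaSh.conormalSect i' V (ConormalSecLib.lift i' V y hy) := by
  rw [← map_add]
  refine congrArg _ (ConormalSecLib.idealSect_injective i' V ?_)
  rw [map_add, ConormalSecLib.idealSect_lift, ConormalSecLib.idealSect_lift, ConormalSecLib.idealSect_lift]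

theorem conormalSect_lift_zero {V : Z'.Opens} (x : Γ(Z', V)) (hx : i'.app V x = 0) (h0 : x = 0) :
    OmegaSh.conormalSect i' V (ConormalSecLib.lift i' V x hx) = 0 := by
  subst h0
  rw [show ConormalSecLib.lift i' V 0 hx = 0 from ConormalSecLib.idealSect_injective i' V
    ((ConormalSecLib.idealSect_lift i' V 0 hx).trans (map_zero _).symm), map_zero]

/-- Injectivity of the first map on a chart. -/
theorem injective_chart {ψ₁ : (Scheme.Modules.pullback i).obj (Omega.conormal j) ⟶ Omega.conormal i'}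
    (hψ₁ : OmegaSh.IsConormalMap i' j m i ψ₁) (hsq : i'.ker * i'.ker = ⊥)
    {VY : Y'.Opens} (hVY : IsAffineOpen VY) {V : Z'.Opens} (hV : IsAffineOpen V) (e : V ≤ m ⁻¹ᵁ VY)
    (eU : i' ⁻¹ᵁ V ≤ i ⁻¹ᵁ (j ⁻¹ᵁ VY))
    [Algebra Γ(Y', VY) Γ(Y, j ⁻¹ᵁ VY)] [Algebra Γ(Y', VY) Γ(Z', V)] [Algebra Γ(Z', V) Γ(Z, i' ⁻¹ᵁ V)]
    [Algebra Γ(Y', VY) Γ(Z, i' ⁻¹ᵁ V)] [IsScalarTower Γ(Y', VY) Γ(Z', V) Γ(Z, i' ⁻¹ᵁ V)]
    (ha1 : algebraMap Γ(Y', VY) Γ(Y, j ⁻¹ᵁ VY) = (j.app VY).hom)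
    (ha2 : algebraMap Γ(Y', VY) Γ(Z', V) = (m.appLE VY V e).hom)
    (ha3 : algebraMap Γ(Z', V) Γ(Z, i' ⁻¹ᵁ V) = (i'.app V).hom)
    (hinj : ∀ z : Γ(Z', V) ⊗[Γ(Y', VY)] (RingHom.ker (algebraMap Γ(Y', VY) Γ(Y, j ⁻¹ᵁ VY))),
      LciTransLib.mul' Γ(Z', V) _ z = 0 →
      (IsScalarTower.toAlgHom Γ(Y', VY) Γ(Z', V) Γ(Z, i' ⁻¹ᵁ V)).toLinearMap.rTensor
        (RingHom.ker (algebraMap Γ(Y', VY) Γ(Y, j ⁻¹ᵁ VY))) z = 0) :
    Function.Injective (ψ₁.app (i' ⁻¹ᵁ V)) := by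
  let I := RingHom.ker (algebraMap Γ(Y', VY) Γ(Y, j ⁻¹ᵁ VY))
  let N := KFlatLib.pb i (Omega.conormal j)
  have hyI : ∀ x : I, j.app VY x.1 = 0 := fun x => (congr($ha1 x.1)).symm.trans (RingHom.mem_ker.1 x.2)
  have halgB : ∀ a, algebraMap Γ(Y', VY) Γ(Z, i' ⁻¹ᵁ V) a = i.appLE (j ⁻¹ᵁ VY) (i' ⁻¹ᵁ V) eU (j.app VY a) := by
    intro a
    rw [IsScalarTower.algebraMap_apply Γ(Y', VY) Γ(Z', V) Γ(Z, i' ⁻¹ᵁ V), ha2, ha3,
      ← ConormalInjLib.appLE_self i' V, ← ConormalInjLib.appLE_self j VY, ← ConcreteCategory.comp_apply,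
      ← ConcreteCategory.comp_apply, Scheme.Hom.appLE_comp_appLE, Scheme.Hom.appLE_comp_appLE]
    exact congr($(OmegaSh.appLE_congr_hom hψ₁.1.symm _ _) a)
  letI : Module Γ(Y', VY) Γ(N, i' ⁻¹ᵁ V) := Module.compHom _ (algebraMap Γ(Y', VY) Γ(Z, i' ⁻¹ᵁ V))
  haveI : IsScalarTower Γ(Y', VY) Γ(Z, i' ⁻¹ᵁ V) Γ(N, i' ⁻¹ᵁ V) :=
    IsScalarTower.of_algebraMap_smul fun a t => rfl
  let gen : I → Γ(Omega.conormal j, j ⁻¹ᵁ VY) := fun x =>
    OmegaSh.conormalSect j VY (ConormalSecLib.lift j VY x.1 (hyI x))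
  let τ : I →ₗ[Γ(Y', VY)] Γ(N, i' ⁻¹ᵁ V) :=
    { toFun := fun x => KFlatLib.puSecLE i (Omega.conormal j) eU (gen x)
      map_add' := fun x y => by
        rw [← map_add, ← map_add]
        refine congrArg _ (congrArg _ (ConormalSecLib.idealSect_injective j VY ?_))
        rw [map_add, ConormalSecLib.idealSect_lift, ConormalSecLib.idealSect_lift, ConormalSecLib.idealSect_lift]
        rfl
      map_smul' := fun a x => by
        have h1 : gen (a • x) = j.app VY a • gen x := by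
          refine (congrArg (OmegaSh.conormalSect j VY) (ConormalSecLib.idealSect_injective j VY ?_)).trans
            (OmegaSh.pullSect_smul j _ VY a _)
          rw [ConormalSecLib.idealSect_smul, ConormalSecLib.idealSect_lift, ConormalSecLib.idealSect_lift]
          rfl
        show KFlatLib.puSecLE i _ eU (gen (a • x)) = algebraMap Γ(Y', VY) Γ(Z, i' ⁻¹ᵁ V) a • _
        rw [h1, KFlatLib.puSecLE_smul, halgB] }
  let T := τ.liftBaseChange Γ(Z, i' ⁻¹ᵁ V)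
  have hTs : Function.Surjective T := by
    letI := (i.appLE (j ⁻¹ᵁ VY) (i' ⁻¹ᵁ V) eU).hom.toAlgebra
    letI : Module Γ(Y, j ⁻¹ᵁ VY) Γ(N, i' ⁻¹ᵁ V) := Module.compHom _ (i.appLE (j ⁻¹ᵁ VY) (i' ⁻¹ᵁ V) eU).hom
    haveI : IsScalarTower Γ(Y, j ⁻¹ᵁ VY) Γ(Z, i' ⁻¹ᵁ V) Γ(N, i' ⁻¹ᵁ V) :=
      IsScalarTower.of_algebraMap_smul fun a t => rfl
    haveI : Coh.IsQCoh (ClSub.idealMod j.ker) := SweepSix.ConormalSpec.isQCoh_idealMod _
    haveI : Coh.IsQCoh (Omega.conormal j) := KFlatLib.isQCoh_pullback j (ClSub.idealMod j.ker)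
    let θ : Γ(Omega.conormal j, j ⁻¹ᵁ VY) →ₗ[Γ(Y, j ⁻¹ᵁ VY)] Γ(N, i' ⁻¹ᵁ V) :=
      { toFun := KFlatLib.puSecLE i (Omega.conormal j) eU
        map_add' := map_add _
        map_smul' := fun r m => KFlatLib.puSecLE_smul i _ eU r m }
    have hθ : IsBaseChange Γ(Z, i' ⁻¹ᵁ V) θ :=
      KFlatLib.isBaseChange_puSec i (Omega.conormal j) (hVY.preimage j) (hV.preimage i') eU (fun _ => rfl) θ
        fun _ => rfl
    intro t
    obtain ⟨w, rfl⟩ := hθ.equiv.surjective t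
    induction w using TensorProduct.induction_on with
    | zero => exact ⟨0, (map_zero T).trans (map_zero _).symm⟩
    | tmul b c =>
      obtain ⟨s, rfl⟩ := Groth.Agent.S9772.exists_conormalSect_eq j hVY c
      refine ⟨b ⊗ₜ ⟨OmegaSh.idealSect j.ker VY s,
        (congr($ha1 _)).trans (ConormalSecLib.app_idealSect j VY s)⟩, ?_⟩
      rw [LinearMap.liftBaseChange_tmul, IsBaseChange.equiv_tmul]
      refine congrArg (fun u => b • KFlatLib.puSecLE i (Omega.conormal j) eU u) ?_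
      exact congrArg _ (ConormalSecLib.idealSect_injective j VY (ConormalSecLib.idealSect_lift j VY _ _))
    | add a b ha hb =>
      obtain ⟨x, hx⟩ := ha
      obtain ⟨y, hy⟩ := hb
      exact ⟨x + y, by rw [map_add, map_add, hx, hy]⟩
  let p := (IsScalarTower.toAlgHom Γ(Y', VY) Γ(Z', V) Γ(Z, i' ⁻¹ᵁ V)).toLinearMap.rTensor I
  have hkill : ∀ z, i'.app V (LciTransLib.mul' Γ(Z', V) I z) = 0 := by
    intro z
    induction z using TensorProduct.induction_on with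
    | zero => rw [map_zero, map_zero]
    | tmul c x =>
      rw [LciTransLib.mul'_tmul, Algebra.smul_def, map_mul, ← congr($ha3 (algebraMap _ _ x.1)),
        ← IsScalarTower.algebraMap_apply, halgB, hyI, map_zero, zero_mul]
    | add a b ha hb => rw [map_add, map_add, ha, hb, add_zero]
  have hψT : ∀ z, ψ₁.app (i' ⁻¹ᵁ V) (T (p z)) =
      OmegaSh.conormalSect i' V (ConormalSecLib.lift i' V (LciTransLib.mul' Γ(Z', V) I z) (hkill z)) := by
    intro z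
    induction z using TensorProduct.induction_on with
    | zero =>
      rw [map_zero, map_zero, map_zero]
      exact (conormalSect_lift_zero _ _ (map_zero _)).symm
    | tmul c x =>
      let s' := ConormalSecLib.lift j VY x.1 (hyI x)
      have h0 : i'.app (m ⁻¹ᵁ VY) (m.app VY x.1) = 0 := by
        have key : ∀ (q : Z ⟶ Y'), q = i' ≫ m → q.app VY x.1 = 0 → i'.app (m ⁻¹ᵁ VY) (m.app VY x.1) = 0 := by
          rintro _ rfl h
          exact h
        exact key (i ≫ j) hψ₁.1 ((congrArg (i.app _) (hyI x)).trans (map_zero _))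
      let s₁ := ConormalSecLib.lift i' (m ⁻¹ᵁ VY) _ h0
      have h2 := hψ₁.2 VY s' s₁
        ((ConormalSecLib.idealSect_lift i' _ _ h0).trans
          (congrArg (m.app VY) (ConormalSecLib.idealSect_lift j _ x.1 (hyI x))).symm)
        (i' ⁻¹ᵁ V) eU (i'.preimage_mono e)
      have hTp : T (p (c ⊗ₜ x)) = i'.app V c • KFlatLib.puSecLE i (Omega.conormal j) eU (gen x) := by
        refine (LinearMap.liftBaseChange_tmul Γ(Z, i' ⁻¹ᵁ V) τ _ x).trans ?_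
        exact congrArg (· • τ x) congr($ha3 c)
      rw [hTp]
      refine (Scheme.Modules.Hom.app_smul ψ₁ _ _).trans ?_
      have h3 : ψ₁.app (i' ⁻¹ᵁ V) (KFlatLib.puSecLE i (Omega.conormal j) eU (gen x)) =
          OmegaSh.conormalSect i' V ((ClSub.idealMod i'.ker).presheaf.map (homOfLE e).op s₁) :=
        (QCohLib.app_map ψ₁ (homOfLE eU) _).trans
          (h2.trans (OmegaSh.pullSect_map i' (ClSub.idealMod i'.ker) e s₁).symm)
      rw [h3]
      refine (OmegaSh.pullSect_smul i' _ V c _).symm.trans (congrArg (OmegaSh.conormalSect i' V)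
        (ConormalSecLib.idealSect_injective i' V ?_))
      rw [ConormalSecLib.idealSect_lift, LciTransLib.mul'_tmul, ConormalSecLib.idealSect_smul,
        ConormalSecLib.idealSect_map, ConormalSecLib.idealSect_lift, Algebra.smul_def, congr($ha2 x.1), mul_comm]
      rfl
    | add a b ha hb =>
      rw [map_add, map_add, map_add, ha, hb]
      have h4 : i'.app V (LciTransLib.mul' Γ(Z', V) I a + LciTransLib.mul' Γ(Z', V) I b) = 0 := by
        rw [← map_add]; exact hkill (a + b)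
      refine (lift_add _ _ _ _ h4).symm.trans (congrArg _ (ConormalSecLib.idealSect_injective i' V ?_))
      rw [ConormalSecLib.idealSect_lift, ConormalSecLib.idealSect_lift, map_add]
  haveI : Coh.IsQCoh (ClSub.idealMod i'.ker) := SweepSix.ConormalSpec.isQCoh_idealMod _
  have hcb : V ≤ i'.coborderRange := fun y _ => by
    show y ∈ coborder (Set.range i')
    rw [i'.isClosedEmbedding.isClosed_range.coborder_eq]
    trivial
  refine (injective_iff_map_eq_zero (ψ₁.app (i' ⁻¹ᵁ V)).hom).mpr fun t ht => ?_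
  obtain ⟨u, rfl⟩ := hTs t
  obtain ⟨z, rfl⟩ := LinearMap.rTensor_surjective I
    (g := (IsScalarTower.toAlgHom Γ(Y', VY) Γ(Z', V) Γ(Z, i' ⁻¹ᵁ V)).toLinearMap)
    (by intro b; obtain ⟨c, hc⟩ := i'.app_surjective V hV b; exact ⟨c, (congr($ha3 c)).trans hc⟩) u
  have h5 := ConormalInjLib.mem_ker_sq_of_conormalSect_eq_zero i' hV hcb _ ((hψT z).symm.trans ht)
  rw [ConormalSecLib.idealSect_lift] at h5
  have hsqV : RingHom.ker (i'.app V).hom ^ 2 = ⊥ := by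
    have h6 := congrArg (fun K : Z'.IdealSheafData => K.ideal ⟨V, hV⟩) hsq
    simp only [Scheme.IdealSheafData.ideal_mul, Pi.mul_apply, Scheme.IdealSheafData.ideal_bot, Pi.bot_apply,
      Scheme.Hom.ker_apply] at h6
    rw [pow_two]
    exact h6
  rw [hsqV, Ideal.mem_bot] at h5
  show T (p z) = 0
  rw [show p z = 0 from hinj z h5, map_zero]

end Chart

theorem mono_first {Z Y X Z' Y' : Scheme.{u}} (i : Z ⟶ Y) (b : Y ⟶ X)
    (i' : Z ⟶ Z') (c : Z' ⟶ X) (hZ' : OmegaSh.IsUnivThickening (i ≫ b) i' c)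
    (j : Y ⟶ Y') (d : Y' ⟶ X) (hY' : OmegaSh.IsUnivThickening b j d)
    (m : Z' ⟶ Y') (hm₂ : m ≫ d = c)
    {ψ₁ : (Scheme.Modules.pullback i).obj (Omega.conormal j) ⟶ Omega.conormal i'}
    (hψ₁ : OmegaSh.IsConormalMap i' j m i ψ₁) (hlci : ∀ z : Z, Synt.IsKoszulAt i z) : Mono ψ₁ := by
  haveI : IsClosedImmersion i' := hZ'.1.1.1
  haveI : IsClosedImmersion j := hY'.1.1.1
  haveI : Coh.IsQCoh (ClSub.idealMod j.ker) := SweepSix.ConormalSpec.isQCoh_idealMod _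
  haveI : Coh.IsQCoh (ClSub.idealMod i'.ker) := SweepSix.ConormalSpec.isQCoh_idealMod _
  haveI : Coh.IsQCoh (Omega.conormal j) := KFlatLib.isQCoh_pullback j (ClSub.idealMod j.ker)
  haveI : Coh.IsQCoh (Omega.conormal i') := KFlatLib.isQCoh_pullback i' (ClSub.idealMod i'.ker)
  haveI : Coh.IsQCoh ((Scheme.Modules.pullback i).obj (Omega.conormal j)) :=
    KFlatLib.isQCoh_pullback i (Omega.conormal j)
  have hL := (KoszAtLib.forall_isKoszulAt_iff i).1 hlci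
  refine Groth.Agent.S13458.mono_of_injective_charts ψ₁ fun z => ?_
  obtain ⟨W, hW, hzW, -⟩ := exists_isAffineOpen_mem_and_subset (show d (m (i' z)) ∈ (⊤ : X.Opens) from trivial)
  obtain ⟨VY, hVY, hzVY, eY₀⟩ := exists_isAffineOpen_mem_and_subset (show m (i' z) ∈ d ⁻¹ᵁ W from hzW)
  have eY : VY ≤ d ⁻¹ᵁ W := eY₀
  obtain ⟨V, hV, hzV, e₀⟩ := exists_isAffineOpen_mem_and_subset (show i' z ∈ m ⁻¹ᵁ VY from hzVY)
  have e : V ≤ m ⁻¹ᵁ VY := e₀
  have eU : i' ⁻¹ᵁ V ≤ i ⁻¹ᵁ (j ⁻¹ᵁ VY) := (i'.preimage_mono e).trans (congrArg (· ⁻¹ᵁ VY) hψ₁.1).ge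
  have ec : V ≤ c ⁻¹ᵁ W := fun y hy => by
    show c y ∈ W
    rw [← hm₂, Scheme.Hom.comp_apply]
    exact eY (e hy)
  refine ⟨i' ⁻¹ᵁ V, hV.preimage i', hzV, ?_⟩
  letI := (d.appLE W VY eY).hom.toAlgebra
  letI := (j.app VY).hom.toAlgebra
  letI : Algebra Γ(X, W) Γ(Y, j ⁻¹ᵁ VY) := ((j.app VY).hom.comp (d.appLE W VY eY).hom).toAlgebra
  haveI : IsScalarTower Γ(X, W) Γ(Y', VY) Γ(Y, j ⁻¹ᵁ VY) := IsScalarTower.of_algebraMap_eq fun _ => rfl
  letI := (m.appLE VY V e).hom.toAlgebra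
  letI := (i'.app V).hom.toAlgebra
  letI := (c.appLE W V ec).hom.toAlgebra
  letI : Algebra Γ(Y, j ⁻¹ᵁ VY) Γ(Z, i' ⁻¹ᵁ V) := (i.appLE (j ⁻¹ᵁ VY) (i' ⁻¹ᵁ V) eU).hom.toAlgebra
  letI : Algebra Γ(Y', VY) Γ(Z, i' ⁻¹ᵁ V) := ((i'.app V).hom.comp (m.appLE VY V e).hom).toAlgebra
  letI : Algebra Γ(X, W) Γ(Z, i' ⁻¹ᵁ V) := ((i'.app V).hom.comp (c.appLE W V ec).hom).toAlgebra
  haveI : IsScalarTower Γ(Y', VY) Γ(Z', V) Γ(Z, i' ⁻¹ᵁ V) := IsScalarTower.of_algebraMap_eq fun _ => rfl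
  haveI : IsScalarTower Γ(X, W) Γ(Z', V) Γ(Z, i' ⁻¹ᵁ V) := IsScalarTower.of_algebraMap_eq fun _ => rfl
  haveI : IsScalarTower Γ(X, W) Γ(Y', VY) Γ(Z', V) := IsScalarTower.of_algebraMap_eq fun r => by
    show c.appLE W V ec r = m.appLE VY V e (d.appLE W VY eY r)
    rw [← ConcreteCategory.comp_apply, Scheme.Hom.appLE_comp_appLE]
    exact congr($(OmegaSh.appLE_congr_hom hm₂.symm _ _) r)
  haveI : IsScalarTower Γ(X, W) Γ(Y', VY) Γ(Z, i' ⁻¹ᵁ V) := IsScalarTower.of_algebraMap_eq fun r => by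
    show algebraMap Γ(X, W) Γ(Z, i' ⁻¹ᵁ V) r = i'.app V (algebraMap Γ(Y', VY) Γ(Z', V) (algebraMap _ _ r))
    rw [← IsScalarTower.algebraMap_apply Γ(X, W) Γ(Y', VY) Γ(Z', V)]
    rfl
  haveI : IsScalarTower Γ(Y', VY) Γ(Y, j ⁻¹ᵁ VY) Γ(Z, i' ⁻¹ᵁ V) := IsScalarTower.of_algebraMap_eq fun r => by
    show i'.app V (m.appLE VY V e r) = i.appLE (j ⁻¹ᵁ VY) (i' ⁻¹ᵁ V) eU (j.app VY r)
    rw [← ConormalInjLib.appLE_self i' V, ← ConormalInjLib.appLE_self j VY, ← ConcreteCategory.comp_apply,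
      ← ConcreteCategory.comp_apply, Scheme.Hom.appLE_comp_appLE, Scheme.Hom.appLE_comp_appLE]
    exact congr($(OmegaSh.appLE_congr_hom hψ₁.1.symm _ _) r)
  have hA := Groth.Agent.S9783.isUnivRing b j d hY' hW hVY eY rfl rfl
  have hB := Groth.Agent.S9783.isUnivRing (i ≫ b) i' c hZ' hW hV ec rfl rfl
  have hlciR : LCI.IsLCI Γ(Y, j ⁻¹ᵁ VY) Γ(Z, i' ⁻¹ᵁ V) :=
    HasRingHomProperty.appLE (P := KoszAtLib.LCIMor) i hL ⟨_, hVY.preimage j⟩ ⟨_, hV.preimage i'⟩ eU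
  exact injective_chart hψ₁ hZ'.1.2 hVY hV e eU rfl rfl rfl
    fun w hw => LciTransLib.tmul_eq_zero hA hB hlciR _ rfl w hw

theorem mono_iff_injective_map {C : Type*} [Category C] {F : C ⥤ C} (ν : F ≅ 𝟭 C) {A B : C} (f : A ⟶ B) :
    Mono (F.map f) ↔ Mono f :=
  (MorphismProperty.monomorphisms C).arrow_mk_iso_iff (Arrow.isoMk (ν.app A) (ν.app B) (ν.hom.naturality f).symm)


open AlgebraicGeometry CategoryTheory Limits in
/-- Let i : Z ⟶ Y and b : Y ⟶ X be formally unramified, let (i' : Z ⟶ Z', c) be a first order thickening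
over X that is universal for i ≫ b, (j : Y ⟶ Y', d) one universal for b, m : Z' ⟶ Y' the morphism of
thickenings over X compatible with i, (i'' : Z ⟶ Z'', e) a first order thickening over Y that is
universal for i, and n : Z'' ⟶ Z' the morphism of thickenings over X extending the identity of Z.
Let ψ₁ : i^*C_{Y/Y'} ⟶ C_{Z/Z'} and ψ₂ : C_{Z/Z'} ⟶ C_{Z/Z''} be the canonical maps of conormal
sheaves induced by (i, m) and (id, n); these are the conormal sheaves C_{Y/X}, C_{Z/X}, C_{Z/Y} of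
the formally unramified morphisms and the canonical maps between them. Assume moreover that i is
Koszul at every point of Z, i.e. i is lci. Then 0 ⟶ i^*C_{Y/X} ⟶ C_{Z/X} ⟶ C_{Z/Y} ⟶ 0 is a short
exact sequence. -/
theorem result {Z Y X Z' Y' Z'' : Scheme.{u}} (i : Z ⟶ Y) (b : Y ⟶ X)
    [FormallyUnramified i] [FormallyUnramified b]
    (i' : Z ⟶ Z') (c : Z' ⟶ X) (hZ' : OmegaSh.IsUnivThickening (i ≫ b) i' c)
    (j : Y ⟶ Y') (d : Y' ⟶ X) (hY' : OmegaSh.IsUnivThickening b j d)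
    (m : Z' ⟶ Y') (hm₁ : i' ≫ m = i ≫ j) (hm₂ : m ≫ d = c)
    (i'' : Z ⟶ Z'') (e : Z'' ⟶ Y) (hZ'' : OmegaSh.IsUnivThickening i i'' e)
    (n : Z'' ⟶ Z') (hn₁ : i'' ≫ n = i') (hn₂ : n ≫ c = e ≫ b)
    (ψ₁ : (Scheme.Modules.pullback i).obj (Omega.conormal j) ⟶ Omega.conormal i') (hψ₁ : OmegaSh.IsConormalMap i' j m i ψ₁)
    (ψ₂ : (Scheme.Modules.pullback (𝟙 Z)).obj (Omega.conormal i') ⟶ Omega.conormal i'') (hψ₂ : OmegaSh.IsConormalMap i'' i' n (𝟙 Z) ψ₂)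
    (hlci : ∀ z : Z, Synt.IsKoszulAt i z) :
    ∃ w : (Scheme.Modules.pullback (𝟙 Z)).map ψ₁ ≫ ψ₂ = 0, (ShortComplex.mk _ _ w).ShortExact := by
  obtain ⟨w, hex, hepi⟩ := Groth.Agent.S9784.result i b i' c hZ' j d hY' m hm₁ hm₂ i'' e hZ'' n hn₁ hn₂
    ψ₁ hψ₁ ψ₂ hψ₂
  haveI := hepi
  haveI := mono_first i b i' c hZ' j d hY' m hm₂ hψ₁ hlci
  haveI : Mono ((Scheme.Modules.pullback (𝟙 Z)).map ψ₁) := by
    refine (mono_iff_injective_map (Scheme.Modules.pullbackId Z) ψ₁).mpr inferInstance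
  exact ⟨w, { exact := hex, mono_f := inferInstance, epi_g := hepi }⟩

end Groth.Agent.S9785
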