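import Groth.Statements.S9786
import Groth.Agent.S9375
import Groth.Agent.S9371
import Groth.Agent.S13458
import Groth.Agent.UnivThickLib.Local
import Groth.Agent.KFlatLib.AffinePull

set_option autoImplicit false
universe u
open OmegaSh

namespace Groth.Agent.S9786

noncomputable section

open CategoryTheory CategoryTheory.Limits AlgebraicGeometry TopologicalSpace Opposite
open ModGlueLib (rs rs_rs)

/-- A formally smooth morphism lifts against the restriction of a first order thickening to an affine open. -/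
theorem exists_lift_thick {T T' X Y : Scheme.{u}} {p : X ⟶ Y} (hp : MoreMor.IsFormallySmoothHom p)
    {j : T ⟶ T'} (hj : MoreMor.IsFirstOrderThickening j) {O : T'.Opens} (hO' : IsAffineOpen O)
    (a : (↑(j ⁻¹ᵁ O) : Scheme.{u}) ⟶ X) (b : (↑O : Scheme.{u}) ⟶ Y) (hab : (j ∣_ O) ≫ b = a ≫ p) :
    ∃ l : (↑O : Scheme.{u}) ⟶ X, (j ∣_ O) ≫ l = a ∧ l ≫ p = b := by
  let j' := (j ∣_ O) ≫ hO'.isoSpec.hom
  obtain ⟨⟨hci, -⟩, hker⟩ := UnivThickLib.fo_restrict hj O
  haveI := hci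
  haveI : IsClosedImmersion j' := inferInstance
  obtain ⟨I, e, he⟩ := IsClosedImmersion.Spec_iff.1 ‹IsClosedImmersion j'›
  have hI : I ^ 2 = ⊥ := by
    have h1 : j'.ker * j'.ker = ⊥ := by
      refine Scheme.IdealSheafData.ext_of_isAffine ?_
      rw [Scheme.IdealSheafData.ideal_mul, Pi.mul_apply, Scheme.IdealSheafData.ideal_bot, Pi.bot_apply,
        Scheme.Hom.ker_apply, eq_bot_iff, Ideal.mul_le]
      intro x hx y hy
      have hk := congr_arg (fun J : (O : Scheme.{u}).IdealSheafData =>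
        J.ideal ⟨hO'.isoSpec.hom ⁻¹ᵁ ⊤, (isAffineOpen_top _).preimage_of_isIso _⟩) hker
      rw [Scheme.IdealSheafData.ideal_mul, Pi.mul_apply, Scheme.IdealSheafData.ideal_bot, Pi.bot_apply,
        Scheme.Hom.ker_apply, eq_bot_iff, Ideal.mul_le] at hk
      have h0 := hk (hO'.isoSpec.hom.app ⊤ x) hx (hO'.isoSpec.hom.app ⊤ y) hy
      rw [Ideal.mem_bot, ← map_mul] at h0
      exact (Ideal.mem_bot).2 ((ConcreteCategory.bijective_of_isIso (hO'.isoSpec.hom.app ⊤)).1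
        (h0.trans (map_zero _).symm))
    rw [he, Scheme.Hom.ker_comp_of_isIso] at h1
    have h2 := congr_arg (fun J : (Spec Γ(T', O)).IdealSheafData => J.ideal ⟨⊤, isAffineOpen_top _⟩) h1
    rw [Scheme.IdealSheafData.ideal_mul, Pi.mul_apply, Scheme.IdealSheafData.ideal_bot, Pi.bot_apply,
      Scheme.Hom.ker_apply] at h2
    rw [pow_two, eq_bot_iff, Ideal.mul_le]
    intro x hx y hy
    let σ := (Scheme.ΓSpecIso Γ(T', O)).inv
    have key : ∀ z ∈ I, σ z ∈ RingHom.ker ((Spec.map (CommRingCat.ofHom (Ideal.Quotient.mk I))).app ⊤).hom := by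
      intro z hz
      have h := congr($(Scheme.ΓSpecIso_inv_naturality (CommRingCat.ofHom (Ideal.Quotient.mk I))) z)
      rw [CommRingCat.comp_apply, CommRingCat.comp_apply, CommRingCat.ofHom_apply,
        Ideal.Quotient.eq_zero_iff_mem.2 hz, map_zero] at h
      exact h.symm
    have h0 : σ (x * y) = 0 := by
      rw [map_mul, ← Ideal.mem_bot, ← h2]
      exact Ideal.mul_mem_mul (key x hx) (key y hy)
    exact (Ideal.mem_bot).2 ((ConcreteCategory.bijective_of_isIso σ).1 (h0.trans (map_zero _).symm))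
  have he' : e.inv ≫ (j ∣_ O) ≫ hO'.isoSpec.hom = Spec.map (CommRingCat.ofHom (Ideal.Quotient.mk I)) := by
    show e.inv ≫ j' = _
    rw [he, Iso.inv_hom_id_assoc]
  obtain ⟨l, hl1, hl2⟩ := hp Γ(T', O) I hI (e.inv ≫ a) (hO'.isoSpec.inv ≫ b) (by
    rw [← he', Category.assoc, Category.assoc, Iso.hom_inv_id_assoc, hab, Category.assoc])
  refine ⟨hO'.isoSpec.hom ≫ l, ?_, ?_⟩
  · rw [← cancel_epi e.inv, ← hl1, ← he', Category.assoc, Category.assoc]
  · rw [Category.assoc, hl2, Iso.hom_inv_id_assoc]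

/-- Near a point the projection of universal thickenings has a section. -/
theorem exists_section {Z X Y Z' Z'' : Scheme.{u}} (i : Z ⟶ X) (p : X ⟶ Y)
    (hp : MoreMor.IsFormallySmoothHom p)
    (i' : Z ⟶ Z') (a : Z' ⟶ X) (hZ' : OmegaSh.IsUnivThickening i i' a)
    (i'' : Z ⟶ Z'') (b : Z'' ⟶ Y) (hZ'' : OmegaSh.IsUnivThickening (i ≫ p) i'' b)
    (k : Z' ⟶ Z'') (hk₁ : i' ≫ k = i'') (hk₂ : k ≫ b = a ≫ p) (z : Z) :
    ∃ (W : Z''.Opens) (k' : (↑W : Scheme.{u}) ⟶ Z'), z ∈ i'' ⁻¹ᵁ W ∧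
      (i'' ∣_ W) ≫ k' = (i'' ⁻¹ᵁ W).ι ≫ i' ∧ k' ≫ k = W.ι := by
  obtain ⟨W, hW, hzW, -⟩ := exists_isAffineOpen_mem_and_subset (show i'' z ∈ (⊤ : Z''.Opens) from trivial)
  have hfo := UnivThickLib.fo_restrict hZ''.1 W
  obtain ⟨l, hl1, hl2⟩ := exists_lift_thick hp hZ''.1 hW ((i'' ⁻¹ᵁ W).ι ≫ i) (W.ι ≫ b) (by
    rw [morphismRestrict_ι_assoc, hZ''.2.1, Category.assoc])
  obtain ⟨k', ⟨hk', hk'a⟩, -⟩ := hZ'.2.2 _ _ (i'' ∣_ W) l (i'' ⁻¹ᵁ W).ι hfo hl1
  refine ⟨W, k', hzW, hk', ?_⟩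
  obtain ⟨g, -, hu⟩ := hZ''.2.2 _ _ (i'' ∣_ W) (W.ι ≫ b) (i'' ⁻¹ᵁ W).ι hfo (by
    rw [morphismRestrict_ι_assoc, hZ''.2.1])
  rw [hu (k' ≫ k) ⟨by rw [reassoc_of% hk', hk₁], by rw [Category.assoc, hk₂, reassoc_of% hk'a, hl2]⟩,
    hu W.ι ⟨morphismRestrict_ι _ _, rfl⟩]

theorem map_map_any {X : Scheme.{u}} {A B C : X.Opens} (f : op A ⟶ op B) (g : op B ⟶ op C) (m : op A ⟶ op C)
    (a : Γ(X, A)) : X.presheaf.map g (X.presheaf.map f a) = X.presheaf.map m a := by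
  rw [← ConcreteCategory.comp_apply, ← Functor.map_comp, Subsingleton.elim (f ≫ g) m]

section Retract

variable {Z Z' Z'' : Scheme.{u}} (i' : Z ⟶ Z') (i'' : Z ⟶ Z'') (W : Z''.Opens)
  (k' : (↑W : Scheme.{u}) ⟶ Z')

/-- The open of `Z''` over which the section pulls back functions on `A'`. -/
abbrev img (A' : Z'.Opens) : Z''.Opens := W.ι ''ᵁ (k' ⁻¹ᵁ A')

variable {i' i'' W k'} (hk' : (i'' ∣_ W) ≫ k' = (i'' ⁻¹ᵁ W).ι ≫ i')

include hk' in
theorem preimage_img (A' : Z'.Opens) :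
    i'' ⁻¹ᵁ img W k' A' = (i'' ⁻¹ᵁ W).ι ''ᵁ ((i'' ⁻¹ᵁ W).ι ⁻¹ᵁ (i' ⁻¹ᵁ A')) := by
  refine Eq.trans ?_ (congrArg ((i'' ⁻¹ᵁ W).ι ''ᵁ ·) (congrArg (· ⁻¹ᵁ A') hk'))
  exact (image_morphismRestrict_preimage i'' W _).symm

include hk' in
theorem app_img (A' : Z'.Opens) (x : Γ(Z', A'))
    {B : Z.Opens} (h₁ : B ≤ i'' ⁻¹ᵁ img W k' A') (h₂ : B ≤ i' ⁻¹ᵁ A') :
    Z.presheaf.map (homOfLE h₁).op (i''.app (img W k' A') (k'.app A' x)) =
      Z.presheaf.map (homOfLE h₂).op (i'.app A' x) := by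
  have h := congr($(Scheme.Hom.congr_app hk' A') x)
  have e := image_morphismRestrict_preimage i'' W (k' ⁻¹ᵁ A')
  have h3 : B ≤ (i'' ⁻¹ᵁ W).ι ''ᵁ ((i'' ∣_ W) ⁻¹ᵁ (k' ⁻¹ᵁ A')) := h₁.trans e.ge
  replace h := congrArg (Z.presheaf.map (homOfLE h3).op) h
  simp only [Scheme.Hom.comp_app, morphismRestrict_app, Scheme.Opens.ι_app, CommRingCat.comp_apply,
    Scheme.Opens.toScheme_presheaf_map, ConcreteCategory.comp_apply] at h
  refine (map_map_any _ _ _ _).symm.trans (h.trans ?_)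
  refine (congrArg _ (map_map_any _ _ ((homOfLE (e.le.trans ((preimage_img hk' A').le.trans
    ((i'' ⁻¹ᵁ W).ι.image_preimage_le _)))).op) _)).trans ?_
  exact map_map_any _ _ _ _

variable [QuasiCompact i'']

include hk' in
theorem app_img_idealSect (A' : Z'.Opens) (s' : Γ(ClSub.idealMod i'.ker, A')) :
    i''.app (img W k' A') (k'.app A' (OmegaSh.idealSect i'.ker A' s')) = 0 := by
  have h₂ : i'' ⁻¹ᵁ img W k' A' ≤ i' ⁻¹ᵁ A' :=
    (preimage_img hk' A').le.trans ((i'' ⁻¹ᵁ W).ι.image_preimage_le _)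
  have h := app_img hk' A' (OmegaSh.idealSect i'.ker A' s') le_rfl h₂
  rw [ConormalSecLib.app_idealSect, map_zero, ConormalSeqLib.hidX] at h
  exact h

/-- Pulling back sections of the ideal along the section. -/
def upR (A' : Z'.Opens) (s' : Γ(ClSub.idealMod i'.ker, A')) : Γ(ClSub.idealMod i''.ker, img W k' A') :=
  ConormalSecLib.lift i'' _ _ (app_img_idealSect hk' A' s')

/-- Their classes. -/
def clsR (A' : Z'.Opens) :
    Γ(ClSub.idealMod i'.ker, A') →+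
      Γ(KFlatLib.pb (𝟙 Z) (Omega.conormal i''), (i'' ⁻¹ᵁ W).ι ''ᵁ ((i'' ⁻¹ᵁ W).ι ⁻¹ᵁ (i' ⁻¹ᵁ A'))) where
  toFun s' := rs (KFlatLib.pb (𝟙 Z) (Omega.conormal i'')) (preimage_img hk' A').ge
    (OmegaSh.pullSect (𝟙 Z) (Omega.conormal i'') _ (OmegaSh.conormalSect i'' _ (upR hk' A' s')))
  map_zero' := by
    have h : upR hk' A' 0 = 0 := ConormalSecLib.idealSect_injective i'' _ (by
      refine (ConormalSecLib.idealSect_lift i'' _ _ _).trans ?_
      rw [map_zero, map_zero]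
      exact (map_zero _).symm)
    rw [h, map_zero, map_zero]
    exact map_zero _
  map_add' a b := by
    have h : upR hk' A' (a + b) = upR hk' A' a + upR hk' A' b := ConormalSecLib.idealSect_injective i'' _ (by
      refine (ConormalSecLib.idealSect_lift i'' _ _ _).trans ?_
      rw [map_add, map_add]
      refine Eq.trans ?_ (map_add _ _ _).symm
      exact congrArg₂ (· + ·) (ConormalSecLib.idealSect_lift i'' _ _ _).symm
        (ConormalSecLib.idealSect_lift i'' _ _ _).symm)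
    rw [h, map_add, map_add]
    exact map_add _ _ _

theorem clsR_eq (A' : Z'.Opens) (s' : Γ(ClSub.idealMod i'.ker, A'))
    (s : Γ(ClSub.idealMod i''.ker, img W k' A'))
    (h : OmegaSh.idealSect i''.ker _ s = k'.app A' (OmegaSh.idealSect i'.ker A' s')) :
    clsR hk' A' s' = rs (KFlatLib.pb (𝟙 Z) (Omega.conormal i'')) (preimage_img hk' A').ge
      (OmegaSh.pullSect (𝟙 Z) (Omega.conormal i'') _ (OmegaSh.conormalSect i'' _ s)) := by
  have : upR hk' A' s' = s :=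
    ConormalSecLib.idealSect_injective i'' _ ((ConormalSecLib.idealSect_lift i'' _ _ _).trans h.symm)
  show rs _ _ (OmegaSh.pullSect _ _ _ (OmegaSh.conormalSect i'' _ (upR hk' A' s'))) = _
  rw [this]
  rfl

theorem clsR_smul (A' : Z'.Opens) (r : Γ(Z', A')) (s' : Γ(ClSub.idealMod i'.ker, A'))
    (hle : (i'' ⁻¹ᵁ W).ι ''ᵁ ((i'' ⁻¹ᵁ W).ι ⁻¹ᵁ (i' ⁻¹ᵁ A')) ≤ i' ⁻¹ᵁ A') :
    clsR hk' A' (r • s') = Z.presheaf.map (homOfLE hle).op (i'.app A' r) • clsR hk' A' s' := by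
  let c : Γ(Z'', img W k' A') := k'.app A' r
  let N := KFlatLib.pb (𝟙 Z) (Omega.conormal i'')
  refine (clsR_eq hk' A' _ (c • upR hk' A' s') ?_).trans ?_
  · refine (ConormalSecLib.idealSect_smul i'' _ c _).trans
      (Eq.trans ?_ (congrArg (k'.app A') (ConormalSecLib.idealSect_smul i' _ r s')).symm)
    exact (congrArg (c * ·) (ConormalSecLib.idealSect_lift i'' _ _ _)).trans
      (map_mul (k'.app A').hom _ _).symm
  have e1 : OmegaSh.conormalSect i'' (img W k' A') (c • upR hk' A' s') =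
      i''.app (img W k' A') c • OmegaSh.conormalSect i'' (img W k' A') (upR hk' A' s') :=
    OmegaSh.pullSect_smul i'' (ClSub.idealMod i''.ker) (img W k' A') c (upR hk' A' s')
  have e2 : OmegaSh.pullSect (𝟙 Z) (Omega.conormal i'') (i'' ⁻¹ᵁ img W k' A')
        (i''.app (img W k' A') c • OmegaSh.conormalSect i'' (img W k' A') (upR hk' A' s')) =
      (𝟙 Z : Z ⟶ Z).app (i'' ⁻¹ᵁ img W k' A') (i''.app (img W k' A') c) •
        OmegaSh.pullSect (𝟙 Z) (Omega.conormal i'') (i'' ⁻¹ᵁ img W k' A')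
          (OmegaSh.conormalSect i'' (img W k' A') (upR hk' A' s')) :=
    OmegaSh.pullSect_smul (𝟙 Z) (Omega.conormal i'') _ _ _
  rw [e1, e2]
  refine (Scheme.Modules.map_smul _ _ _ _).trans ?_
  have e3 : Z.presheaf.map (homOfLE (preimage_img hk' A').ge).op (i''.app (img W k' A') c) =
      Z.presheaf.map (homOfLE hle).op (i'.app A' r) := app_img hk' A' r _ hle
  exact congrArg (· • clsR hk' A' s') e3

/-- The morphism on the ideal. -/
def clsRHom : ClSub.idealMod i'.ker ⟶ (Scheme.Modules.pushforward i').obj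
    ((Scheme.Modules.pushforward (i'' ⁻¹ᵁ W).ι).obj
      ((Scheme.Modules.restrictFunctor (i'' ⁻¹ᵁ W).ι).obj (KFlatLib.pb (𝟙 Z) (Omega.conormal i'')))) :=
  ⟨PresheafOfModules.homMk (M₁ := (ClSub.idealMod i'.ker).val)
    (M₂ := ((Scheme.Modules.pushforward i').obj ((Scheme.Modules.pushforward (i'' ⁻¹ᵁ W).ι).obj
      ((Scheme.Modules.restrictFunctor (i'' ⁻¹ᵁ W).ι).obj (KFlatLib.pb (𝟙 Z) (Omega.conormal i''))))).val)
    { app := fun A => AddCommGrpCat.ofHom (clsR hk' A.unop)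
      naturality := fun A B e => by
        ext s'
        show clsR hk' B.unop ((ClSub.idealMod i'.ker).presheaf.map (homOfLE e.unop.le).op s') = _
        have him : img W k' B.unop ≤ img W k' A.unop := W.ι.image_mono (k'.preimage_mono e.unop.le)
        refine (clsR_eq hk' B.unop _
          ((ClSub.idealMod i''.ker).presheaf.map (homOfLE him).op (upR hk' A.unop s')) ?_).trans ?_
        · refine (ConormalSecLib.idealSect_map i'' _ _).trans
            (Eq.trans ?_ (congrArg (k'.app B.unop) (ConormalSecLib.idealSect_map i' e.unop.le s')).symm)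
          refine (congrArg _ (ConormalSecLib.idealSect_lift i'' _ _ _)).trans ?_
          exact congr($((k'.naturality (homOfLE e.unop.le).op).symm) (OmegaSh.idealSect i'.ker A.unop s'))
        · refine ((congrArg (fun t => rs (KFlatLib.pb (𝟙 Z) (Omega.conormal i'')) _ (OmegaSh.pullSect (𝟙 Z) _ _ t))
            (OmegaSh.pullSect_map i'' (ClSub.idealMod i''.ker) him _)).trans ?_)
          refine (congrArg (rs (KFlatLib.pb (𝟙 Z) (Omega.conormal i'')) _)
            (OmegaSh.pullSect_map (𝟙 Z) (Omega.conormal i'') (i''.preimage_mono him) _)).trans ?_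
          exact (rs_rs _ _ _ _).trans (rs_rs (KFlatLib.pb (𝟙 Z) (Omega.conormal i''))
            ((i'' ⁻¹ᵁ W).ι.image_mono ((i'' ⁻¹ᵁ W).ι.preimage_mono (i'.preimage_mono e.unop.le)))
            (preimage_img hk' A.unop).ge
            (OmegaSh.pullSect (𝟙 Z) (Omega.conormal i'') _ (OmegaSh.conormalSect i'' _ (upR hk' A.unop s')))).symm }
    (fun A r s' => by
      show clsR hk' A.unop (r • s') =
        ((i'' ⁻¹ᵁ W).ι.appIso _).inv ((i'' ⁻¹ᵁ W).ι.app _ (i'.app A.unop r)) • clsR hk' A.unop s'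
      rw [← CommRingCat.comp_apply, Scheme.Hom.app_appIso_inv]
      exact clsR_smul hk' A.unop r s' _)⟩

end Retract

/-- A section of the projection gives a left inverse of the map of conormal sheaves. -/
theorem exists_leftInverse {Z Z' Z'' : Scheme.{u}} (i' : Z ⟶ Z') (i'' : Z ⟶ Z'') [QuasiCompact i'] [QuasiCompact i'']
    (k : Z' ⟶ Z'') (hk₁ : i' ≫ k = i'')
    {W : Z''.Opens} {k' : (↑W : Scheme.{u}) ⟶ Z'} (hk' : (i'' ∣_ W) ≫ k' = (i'' ⁻¹ᵁ W).ι ≫ i')
    (hk'' : k' ≫ k = W.ι)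
    {ψ : (Scheme.Modules.pullback (𝟙 Z)).obj (Omega.conormal i'') ⟶ Omega.conormal i'}
    (hψ : OmegaSh.IsConormalMap i' i'' k (𝟙 Z) ψ) :
    ∃ r : (Scheme.Modules.restrictFunctor (i'' ⁻¹ᵁ W).ι).obj (Omega.conormal i') ⟶
        (Scheme.Modules.restrictFunctor (i'' ⁻¹ᵁ W).ι).obj
          ((Scheme.Modules.pullback (𝟙 Z)).obj (Omega.conormal i'')),
      (Scheme.Modules.restrictFunctor (i'' ⁻¹ᵁ W).ι).map ψ ≫ r = 𝟙 _ := by
  let a := Scheme.Modules.pullbackPushforwardAdjunction i'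
  let a1 := Scheme.Modules.pullbackPushforwardAdjunction (𝟙 Z)
  let a2 := Scheme.Modules.pullbackPushforwardAdjunction i''
  let R := Scheme.Modules.restrictFunctor (i'' ⁻¹ᵁ W).ι
  let aR := Scheme.Modules.restrictAdjunction (i'' ⁻¹ᵁ W).ι
  let N := (Scheme.Modules.pullback (𝟙 Z)).obj (Omega.conormal i'')
  let ρ : Omega.conormal i' ⟶ (Scheme.Modules.pushforward (i'' ⁻¹ᵁ W).ι).obj (R.obj N) :=
    (a.homEquiv _ _).symm (clsRHom hk')
  have hρ : ∀ (A' : Z'.Opens) (s' : Γ(ClSub.idealMod i'.ker, A')),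
      ρ.app (i' ⁻¹ᵁ A') (OmegaSh.conormalSect i' A' s') = clsR hk' A' s' := fun A' s' => by
    have h1 : a.homEquiv _ _ ρ = clsRHom hk' := (a.homEquiv _ _).apply_symm_apply _
    exact congr((($h1).app A') s')
  refine ⟨(aR.homEquiv _ _).symm ρ, ?_⟩
  rw [← Adjunction.homEquiv_naturality_left_symm, Equiv.symm_apply_eq, Adjunction.homEquiv_id]
  apply (a1.homEquiv _ _).injective
  apply (a2.homEquiv _ _).injective
  refine Scheme.Modules.hom_ext _ _ fun U => ConcreteCategory.hom_ext _ _ fun s => ?_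
  have hpre : i'' ⁻¹ᵁ U ≤ i' ⁻¹ᵁ (k ⁻¹ᵁ U) := (congrArg (· ⁻¹ᵁ U) hk₁).ge
  have hx : i'.app (k ⁻¹ᵁ U) (k.app U (OmegaSh.idealSect i''.ker U s)) = 0 := by
    have key : ∀ (q : Z ⟶ Z''), q = i' ≫ k → ∀ x : Γ(Z'', U), q.app U x = 0 → i'.app (k ⁻¹ᵁ U) (k.app U x) = 0 := by
      rintro _ rfl x h
      exact h
    exact key i'' hk₁.symm _ (ConormalSecLib.app_idealSect i'' U s)
  let s₁ := ConormalSecLib.lift i' (k ⁻¹ᵁ U) _ hx
  have h1 : ψ.app (i'' ⁻¹ᵁ U) (OmegaSh.pullSect (𝟙 Z) (Omega.conormal i'') _ (OmegaSh.conormalSect i'' U s)) =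
      (Omega.conormal i').presheaf.map (homOfLE hpre).op (OmegaSh.conormalSect i' (k ⁻¹ᵁ U) s₁) :=
    (ConormalSeqLib.hidM _ _).symm.trans
      (hψ.2 U s s₁ (ConormalSecLib.idealSect_lift i' _ _ hx) (i'' ⁻¹ᵁ U) le_rfl hpre)
  show ρ.app (i'' ⁻¹ᵁ U) (ψ.app (i'' ⁻¹ᵁ U) (OmegaSh.pullSect (𝟙 Z) (Omega.conormal i'') _ (OmegaSh.conormalSect i'' U s))) =
    rs N ((i'' ⁻¹ᵁ W).ι.image_preimage_le _)
      (OmegaSh.pullSect (𝟙 Z) (Omega.conormal i'') _ (OmegaSh.conormalSect i'' U s))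
  rw [h1]
  refine (QCohLib.app_map ρ (homOfLE hpre) _).trans ?_
  rw [hρ]
  have himg : img W k' (k ⁻¹ᵁ U) ≤ U := by
    rintro _ ⟨w, hw, rfl⟩
    exact (congr($hk'' w) : _) ▸ hw
  let g := OmegaSh.pullSect (𝟙 Z) (Omega.conormal i'') _ (OmegaSh.conormalSect i'' U s)
  have hle : (i'' ⁻¹ᵁ W).ι ''ᵁ ((i'' ⁻¹ᵁ W).ι ⁻¹ᵁ (i' ⁻¹ᵁ (k ⁻¹ᵁ U))) ≤ i'' ⁻¹ᵁ U :=
    (preimage_img hk' (k ⁻¹ᵁ U)).ge.trans (i''.preimage_mono himg)
  have hcls : clsR hk' (k ⁻¹ᵁ U) s₁ = rs N hle g := by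
    refine (clsR_eq hk' (k ⁻¹ᵁ U) s₁ ((ClSub.idealMod i''.ker).presheaf.map (homOfLE himg).op s) ?_).trans ?_
    · refine (ConormalSecLib.idealSect_map i'' _ _).trans (Eq.trans ?_
        (congrArg (k'.app (k ⁻¹ᵁ U)) (ConormalSecLib.idealSect_lift i' _ _ hx)).symm)
      have h := congr($(Scheme.Hom.congr_app hk'' U) (OmegaSh.idealSect i''.ker U s))
      simp only [Scheme.Hom.comp_app, Scheme.Opens.ι_app, Scheme.Opens.toScheme_presheaf_map,
        ConcreteCategory.comp_apply] at h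
      exact (h.trans (map_map_any _ _ _ _)).symm
    · refine (congrArg (fun t => rs N _ (OmegaSh.pullSect (𝟙 Z) _ _ t))
        (OmegaSh.pullSect_map i'' (ClSub.idealMod i''.ker) himg s)).trans ?_
      refine (congrArg (rs N _)
        (OmegaSh.pullSect_map (𝟙 Z) (Omega.conormal i'') (i''.preimage_mono himg) _)).trans ?_
      exact rs_rs N (preimage_img hk' (k ⁻¹ᵁ U)).ge (i''.preimage_mono himg) g
  rw [hcls]
  exact rs_rs N ((i'' ⁻¹ᵁ W).ι.image_mono ((i'' ⁻¹ᵁ W).ι.preimage_mono hpre)) hle g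


open AlgebraicGeometry CategoryTheory Limits in
/-- Let i : Z ⟶ X be a morphism and p : X ⟶ Y a formally smooth morphism (infinitesimal lifting against
square-zero thickenings of affine schemes) with i and i ≫ p formally unramified. Let (i' : Z ⟶ Z',
a) be the universal first-order thickening attached to i, (i'' : Z ⟶ Z'', b) the one attached to i ≫
p, and k : Z' ⟶ Z'' the morphism of thickenings (i' ≫ k = i'', k ≫ b = a ≫ p). Let d : O_{Z'} → Ω be
a universal derivation over Z'', ψ : C_{Z/Z''} ⟶ C_{Z/Z'} the canonical map of conormal sheaves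
induced by (id, k) and φ : C_{Z/Z'} ⟶ (i')^*Ω the map induced by d. Then 0 ⟶ C_{Z/Z''} ⟶ C_{Z/Z'} ⟶
(i')^*Ω ⟶ 0 is short exact and locally split: every point of Z has an open neighbourhood over which
ψ admits a left inverse. The published statement concerns the conormal–differential sequence of Z in
X over Y; this row states it on the thickenings Z ⊂ Z' ⟶ Z'', whose terms identify with the
published ones by the definition of the conormal sheaf of a formally unramified morphism and by the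
isomorphism of (i')^*Ω_{Z'/S} with i^*Ω_{X/S} for a universal thickening (with Ω_{Z'/Z''} =
Ω_{Z'/Y}, as Z'' ⟶ Y is formally unramified). -/
theorem result {Z X Y Z' Z'' : Scheme.{u}} (i : Z ⟶ X) (p : X ⟶ Y)
    (hp : MoreMor.IsFormallySmoothHom p) [FormallyUnramified i] [FormallyUnramified (i ≫ p)]
    (i' : Z ⟶ Z') (a : Z' ⟶ X) (hZ' : OmegaSh.IsUnivThickening i i' a)
    (i'' : Z ⟶ Z'') (b : Z'' ⟶ Y) (hZ'' : OmegaSh.IsUnivThickening (i ≫ p) i'' b)
    (k : Z' ⟶ Z'') (hk₁ : i' ≫ k = i'') (hk₂ : k ≫ b = a ≫ p)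
    (Ω : Z'.Modules) (d : OmegaSh.Der k Ω) (hd : OmegaSh.IsUniversal d)
    (ψ : (Scheme.Modules.pullback (𝟙 Z)).obj (Omega.conormal i'') ⟶ Omega.conormal i') (hψ : OmegaSh.IsConormalMap i' i'' k (𝟙 Z) ψ)
    (φ : Omega.conormal i' ⟶ (Scheme.Modules.pullback i').obj Ω) (hφ : OmegaSh.IsConormalDiff i' d φ) :
    ∃ w : ψ ≫ φ = 0, (ShortComplex.mk ψ φ w).ShortExact ∧
      ∀ z : Z, ∃ (U : Z.Opens) (r : (Scheme.Modules.restrictFunctor U.ι).obj (Omega.conormal i') ⟶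
          (Scheme.Modules.restrictFunctor U.ι).obj ((Scheme.Modules.pullback (𝟙 Z)).obj (Omega.conormal i''))),
        z ∈ U ∧ (Scheme.Modules.restrictFunctor U.ι).map ψ ≫ r = 𝟙 _ := by
  haveI : IsClosedImmersion i' := hZ'.1.1.1
  haveI : IsClosedImmersion i'' := hZ''.1.1.1
  obtain ⟨w, hex, hepi⟩ := Groth.Agent.S9375.result k i' i'' hk₁ Ω d hd ψ hψ φ hφ
  have hsplit : ∀ z : Z, ∃ (U : Z.Opens) (r : (Scheme.Modules.restrictFunctor U.ι).obj (Omega.conormal i') ⟶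
      (Scheme.Modules.restrictFunctor U.ι).obj ((Scheme.Modules.pullback (𝟙 Z)).obj (Omega.conormal i''))),
      z ∈ U ∧ (Scheme.Modules.restrictFunctor U.ι).map ψ ≫ r = 𝟙 _ := fun z => by
    obtain ⟨W, k', hz, hk', hk''⟩ := exists_section i p hp i' a hZ' i'' b hZ'' k hk₁ hk₂ z
    obtain ⟨r, hr⟩ := exists_leftInverse i' i'' k hk₁ hk' hk'' hψ
    exact ⟨_, r, hz, hr⟩
  haveI : Coh.IsQCoh (ClSub.idealMod i'.ker) := SweepSix.ConormalSpec.isQCoh_idealMod _
  haveI : Coh.IsQCoh (ClSub.idealMod i''.ker) := SweepSix.ConormalSpec.isQCoh_idealMod _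
  haveI : Coh.IsQCoh (Omega.conormal i') := KFlatLib.isQCoh_pullback i' (ClSub.idealMod i'.ker)
  haveI : Coh.IsQCoh (Omega.conormal i'') := KFlatLib.isQCoh_pullback i'' (ClSub.idealMod i''.ker)
  haveI : Coh.IsQCoh ((Scheme.Modules.pullback (𝟙 Z)).obj (Omega.conormal i'')) :=
    KFlatLib.isQCoh_pullback (𝟙 Z) (Omega.conormal i'')
  haveI : Mono ψ := by
    refine Groth.Agent.S13458.mono_of_injective_charts ψ fun z => ?_
    obtain ⟨U, r, hz, hr⟩ := hsplit z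
    obtain ⟨A, hA, hzA, hAU⟩ := exists_isAffineOpen_mem_and_subset (show z ∈ U from hz)
    refine ⟨A, hA, hzA, ?_⟩
    have h : Function.Injective (((Scheme.Modules.restrictFunctor U.ι).map ψ).app (U.ι ⁻¹ᵁ A)) :=
      Function.LeftInverse.injective (g := r.app (U.ι ⁻¹ᵁ A)) fun t => congr((($hr).app (U.ι ⁻¹ᵁ A)) t)
    have e : U.ι ''ᵁ (U.ι ⁻¹ᵁ A) = A := by
      rw [Scheme.Hom.image_preimage_eq_opensRange_inf, Scheme.Opens.opensRange_ι]
      exact inf_eq_right.mpr hAU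
    replace h : Function.Injective (ψ.app (U.ι ''ᵁ (U.ι ⁻¹ᵁ A))) := h
    rwa [e] at h
  haveI := hepi
  exact ⟨w, { exact := hex, mono_f := inferInstance, epi_g := inferInstance }, hsplit⟩

end

end Groth.Agent.S9786
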