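import Groth.Statements.S9788
import Groth.Agent.TorDescLib.Main
import Groth.Agent.BaseAmpLib.PC
import Groth.Agent.RelFlatLib.Absolute
import Groth.Agent.RelFlatLib.Affine
import Groth.Agent.S7243
import Groth.Agent.KFlatLib.TorAmp

set_option autoImplicit false
set_option backward.isDefEq.respectTransparency false
set_option backward.isDefEq.respectTransparency.types false
set_option maxHeartbeats 1600000
universe u
attribute [local instance] HasDerivedCategory.standard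
open FlatMor

namespace Groth.Agent.S9788


section Helpers

open AlgebraicGeometry CategoryTheory Limits HomologicalComplex

attribute [local instance] FlatRelPCLib.tildeExact

theorem isZero_Hn_of_tildeD (A : CommRingCat.{u}) (N : Dual.D A) (i : ℤ)
    (h : IsZero (DCoh.HD ((DCoh.tildeD A).obj N) i)) :
    IsZero ((DRingLib.Hn A i).obj N) := by
  let K := DerivedCategory.Q.objPreimage N
  let e : DerivedCategory.Q.obj K ≅ N := DerivedCategory.Q.objObjPreimageIso N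
  let T := (tilde.functor A)
  have h1 : IsZero (((T.mapHomologicalComplex (ComplexShape.up ℤ)).obj K).homology i) :=
    h.of_iso (((DerivedCategory.homologyFunctorFactors (Scheme.Modules (Spec A)) i).app _).symm ≪≫
      (DerivedCategory.homologyFunctor _ i).mapIso
        ((T.mapDerivedCategoryFactors.app K).symm ≪≫ (DCoh.tildeD A).mapIso e))
  have h2 : IsZero (T.obj (K.homology i)) := h1.of_iso ((K.sc i).mapHomologyIso T).symm
  exact (DRingLib.isZero_Hn_of_homology (RelFlatLib.isZero_of_tilde (A := A) h2)).of_iso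
    ((DRingLib.Hn A i).mapIso e).symm

theorem exists_single_of_flatAmp {S : Scheme.{u}} {M : DCoh.D S}
    (h : DCoh.HasFlatAmplitudeIn 0 0 M) :
    ∃ G : S.Modules, FlatMod.IsFlat G ∧ Nonempty (M ≅ DCoh.inD S G) := by
  obtain ⟨E, hE, hf, ⟨e⟩⟩ := h
  haveI : E.IsStrictlyGE 0 := (CochainComplex.isStrictlyGE_iff _ _).2 fun i hi => hE i (Or.inl hi)
  haveI : E.IsStrictlyLE 0 := (CochainComplex.isStrictlyLE_iff _ _).2 fun i hi => hE i (Or.inr hi)
  obtain ⟨G, ⟨w⟩⟩ := CochainComplex.exists_iso_single E 0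
  refine ⟨G, KFlatLib.flat_of_iso (@Iso.trans S.Modules _ _ (((single S.Modules (ComplexShape.up ℤ) 0).obj G).X 0) _
    ((HomologicalComplex.eval _ _ 0).mapIso w) (singleObjXSelf (ComplexShape.up ℤ) 0 G)) (hf 0), ⟨?_⟩⟩
  exact e.symm ≪≫ DerivedCategory.Q.mapIso w ≪≫
    ((DerivedCategory.singleFunctorIsoCompQ S.Modules 0).app G).symm

theorem flatAmp_affine {X S : Scheme.{u}} (f : X ⟶ S) [Surjective f]
    [LocallyOfFinitePresentation f] [QuasiCompact f] [DCoh.HasLpull f]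
    (M : DCoh.D S) (hM : DCoh.IsQCohD M) (hpos : ∀ i : ℤ, 0 < i → IsZero (DCoh.HD M i))
    (hA : DCoh.HasFlatAmplitudeIn 0 0 ((DCoh.Lpull f).obj M)) {U : S.Opens} (hU : IsAffineOpen U) :
    DCoh.HasFlatAmplitudeIn 0 0 ((PerfLib.resD hU.fromSpec).obj M) := by
  obtain ⟨N, hN⟩ := FlatRelPCLib.exists_mod hM hU
  obtain ⟨eN⟩ := id hN
  suffices DRing.HasTorAmplitudeIn Γ(S, U) 0 0 N by
    obtain ⟨E, h1, h2, ⟨e⟩⟩ := (S7243.result (Γ(S, U) : Type u) N 0 0).2 this
    exact ⟨E, h1, h2, ⟨e ≪≫ eN⟩⟩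
  have hN0 : ∀ i : ℤ, 0 < i → IsZero ((DRingLib.Hn Γ(S, U) i).obj N) := fun i hi => by
    refine isZero_Hn_of_tildeD Γ(S, U) N i ?_
    exact IsZero.of_iso (((PerfLib.res hU.fromSpec).map_isZero (hpos i hi)).of_iso
      (PerfLib.resHDIso hU.fromSpec M i)) ((DerivedCategory.homologyFunctor _ i).mapIso eN)
  obtain ⟨P, hPb, hPf, ⟨eP⟩⟩ := DRingLib.exists_free_rep N 0 hN0
  have hPK := DRingLib.isKFlat_of_free P 0 hPb hPf
  have hPflat : ∀ n, Module.Flat Γ(S, U) (P.X n) := fun n => by haveI := hPf n; infer_instance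
  refine DRingLib.hasTorAmplitudeIn_of_amp hPK eP fun W i hi => ?_
  rcases hi with hi | hi
  swap
  · exact (HomologicalComplex.exactAt_iff_isZero_homology _ i).mp
      (ShortComplex.exact_of_isZero_X₂ _
        ((MonoidalCategory.tensorRight W).map_isZero (hPb i hi)))
  obtain ⟨s, hs, hsf, hU'⟩ : ∃ s : Set X.affineOpens, (∀ V ∈ s, (V : X.Opens) ≤ f ⁻¹ᵁ U) ∧ s.Finite ∧
      ∀ x : X, f x ∈ U → ∃ V ∈ s, x ∈ (V : X.Opens) := by
    have hc : IsCompact ((f ⁻¹ᵁ U : X.Opens) : Set X) :=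
      QuasiCompact.isCompact_preimage (f := f) _ U.2 hU.isCompact
    obtain ⟨t, ht⟩ := hc.elim_finite_subcover
      (fun V : {V : X.affineOpens // (V : X.Opens) ≤ f ⁻¹ᵁ U} => ((V.1 : X.Opens) : Set X))
      (fun V => V.1.1.2) fun x hx => by
        obtain ⟨W, hW, hxW, hWU⟩ := exists_isAffineOpen_mem_and_subset (U := f ⁻¹ᵁ U) hx
        exact Set.mem_iUnion.2 ⟨⟨⟨W, hW⟩, hWU⟩, hxW⟩
    refine ⟨Subtype.val '' (t : Set {V : X.affineOpens // (V : X.Opens) ≤ f ⁻¹ᵁ U}), ?_,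
      t.finite_toSet.image _, fun x hx => ?_⟩
    · rintro _ ⟨W, -, rfl⟩
      exact W.2
    · obtain ⟨W, hWt, hxW⟩ := Set.mem_iUnion₂.1 (ht hx)
      exact ⟨W.1, ⟨W, hWt, rfl⟩, hxW⟩
  haveI : Finite s := hsf.to_subtype
  obtain ⟨n, ⟨ev⟩⟩ := Finite.exists_equiv_fin s
  let V : Fin n → X.affineOpens := fun j => (ev.symm j).1
  have hV : ∀ j, (V j : X.Opens) ≤ f ⁻¹ᵁ U := fun j => hs _ (ev.symm j).2
  let φ := fun j => (f.appLE U (V j : X.Opens) (hV j)).hom
  letI : ∀ j, Algebra Γ(S, U) Γ(X, (V j : X.Opens)) := fun j => (φ j).toAlgebra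
  haveI : ∀ j, Algebra.FinitePresentation Γ(S, U) Γ(X, (V j : X.Opens)) := fun j =>
    LocallyOfFinitePresentation.finitePresentation_appLE f hU (V j).2 (hV j)
  refine TorDescLib.van_of_fp_cover P hPflat (fun j => (Γ(X, (V j : X.Opens)) : Type u)) ?_ ?_ i hi W
  · intro p hp
    obtain ⟨x, hx⟩ := Surjective.surj (f := f) (hU.fromSpec ⟨p, hp⟩)
    have hmem : f x ∈ U := hx ▸ (hU.range_fromSpec ▸ Set.mem_range_self _ : hU.fromSpec ⟨p, hp⟩ ∈ (U : Set S))
    obtain ⟨V', hV's, hxV⟩ := hU' x hmem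
    refine ⟨ev ⟨V', hV's⟩, ?_⟩
    have hVe : V (ev ⟨V', hV's⟩) = V' := by simp [V]
    obtain ⟨q, hq⟩ : x ∈ Set.range (V (ev ⟨V', hV's⟩)).2.fromSpec := by
      rw [(V (ev ⟨V', hV's⟩)).2.range_fromSpec, hVe]; exact hxV
    refine ⟨q.asIdeal, q.isPrime, ?_⟩
    have h1 : hU.fromSpec (Spec.map (f.appLE U (V (ev ⟨V', hV's⟩) : X.Opens) (hV _)) q) = hU.fromSpec ⟨p, hp⟩ := by
      rw [← Scheme.Hom.comp_apply, IsAffineOpen.SpecMap_appLE_fromSpec f hU (V _).2 (hV _),
        Scheme.Hom.comp_apply, hq, hx]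
    exact congrArg PrimeSpectrum.asIdeal (hU.fromSpec.isOpenEmbedding.injective h1)
  · intro i hi j W' _ _ _ hW'
    haveI := DRingLib.hasLBaseChange (φ j)
    have hm := BaseAmpLib.mod_lpull hU f (V j).2 (hV j) hN
    obtain ⟨em⟩ := hm
    have h1 := RelFlatLib.flatAmp_res (V j).2.fromSpec hA
    obtain ⟨E, hE1, hE2, ⟨e⟩⟩ := h1
    have h2 : DRing.HasTorAmplitudeIn Γ(X, (V j : X.Opens)) 0 0 ((DRing.LBaseChange (φ j)).obj N) :=
      (S7243.result (Γ(X, (V j : X.Opens)) : Type u) _ 0 0).1 ⟨E, hE1, hE2, ⟨e ≪≫ em.symm⟩⟩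
    have h3 := DRingLib.amp_of_hasTorAmplitudeIn h2 (KFlatLib.isKFlat_extend (φ j) hPK)
      ((DRingLib.lBaseChangeObjIso (φ j) P hPK).symm ≪≫ (DRing.LBaseChange (φ j)).mapIso eP)
      (ModuleCat.of Γ(X, (V j : X.Opens)) W') i (Or.inl hi)
    exact (TwoTermLib.Nil.isZero_extCx_tensorN_iff (φ j) P W' hW' i).1 h3

end Helpers

open AlgebraicGeometry CategoryTheory Limits in
/-- Let f : X ⟶ S be surjective, locally of finite presentation, quasi-compact and quasi-separated, and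
let M ∈ D(O_S) have quasi-coherent cohomology sheaves vanishing in all positive degrees. If Lf^*M is
isomorphic in D(O_X) to a flat O_X-module concentrated in degree zero, then M is isomorphic in
D(O_S) to a flat O_S-module concentrated in degree zero. The published statement is an equivalence
of these two conditions, with the converse left unproved there; this row states only the implication
from the pullback to M. The existence of the derived pullback Lf^* is carried as a hypothesis. -/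
theorem result {X S : Scheme.{u}} (f : X ⟶ S) [Surjective f]
    [LocallyOfFinitePresentation f] [QuasiCompact f] [QuasiSeparated f] [DCoh.HasLpull f]
    (M : DCoh.D S) (hM : DCoh.IsQCohD M) (hpos : ∀ i : ℤ, 0 < i → IsZero (DCoh.HD M i))
    (h2 : ∃ F : X.Modules, FlatMod.IsFlat F ∧ Nonempty ((DCoh.Lpull f).obj M ≅ DCoh.inD X F)) :
    ∃ G : S.Modules, FlatMod.IsFlat G ∧ Nonempty (M ≅ DCoh.inD S G) := by
  obtain ⟨F, hF, ⟨eF⟩⟩ := h2
  have hA : DCoh.HasFlatAmplitudeIn 0 0 ((DCoh.Lpull f).obj M) := by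
    obtain ⟨E, h1, h2, ⟨e⟩⟩ := KFlatLib.flatAmplitude_inD hF
    exact ⟨E, h1, h2, ⟨e ≪≫ eF.symm⟩⟩
  refine exists_single_of_flatAmp ((RelFlatLib.flatAmp_iff_ampD M 0 0).2 fun s => ?_)
  obtain ⟨U, hU, hsU, -⟩ :=
    exists_isAffineOpen_mem_and_subset (x := s) (U := ⊤) (by trivial)
  obtain ⟨t, ht⟩ : s ∈ Set.range hU.fromSpec := by rw [hU.range_fromSpec]; exact hsU
  rw [← ht]
  exact (RelFlatLib.ampD_id_res_iff hU.fromSpec t 0 0 M).1
    ((RelFlatLib.flatAmp_iff_ampD _ 0 0).1 (flatAmp_affine f M hM hpos hA hU) t)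

end Groth.Agent.S9788
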