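import Groth.Statements.S9791
import Groth.Agent.LocFFLib.Norm
import Groth.Agent.Unram17Lib.SmoothNormal
import Groth.Agent.AlgSpLib.CodimZero
import Groth.Agent.AlgSpLib.HasAtMore

set_option autoImplicit false
set_option backward.isDefEq.respectTransparency false
set_option backward.isDefEq.respectTransparency.types false
universe u
open CategoryTheory CategoryTheory.Limits AlgebraicGeometry
open FlatMor

namespace Groth.Agent.S9791

/-- Maps from the spectrum of a field agree if they agree after a map with an isomorphic stalk. -/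
theorem ext_of_isIso_stalkMap {K : Type u} [Field K] {A B : Scheme.{u}} (g : A ⟶ B) {a : A} [IsIso (g.stalkMap a)]
    {s s' : Spec (CommRingCat.of K) ⟶ A} (hs : s (IsLocalRing.closedPoint K) = a)
    (hs' : s' (IsLocalRing.closedPoint K) = a) (e : s ≫ g = s' ≫ g) : s = s' := by
  have key : ∀ t : Spec (CommRingCat.of K) ⟶ A, t (IsLocalRing.closedPoint K) = a →
      ∃ φ : A.presheaf.stalk a ⟶ CommRingCat.of K, t = Spec.map φ ≫ A.fromSpecStalk a := by
    rintro t rfl
    exact ⟨_, (Scheme.Spec_stalkClosedPointTo_fromSpecStalk t).symm⟩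
  obtain ⟨φ, rfl⟩ := key s hs
  obtain ⟨φ', rfl⟩ := key s' hs'
  simp only [Category.assoc, ← Scheme.SpecMap_stalkMap_fromSpecStalk, ← Spec.map_comp_assoc] at e
  rw [cancel_mono (B.fromSpecStalk (g a))] at e
  have e' := Spec.map_injective e
  rw [cancel_epi (g.stalkMap a)] at e'
  rw [e']

theorem isNormal_pullback {X Y N : Scheme.{u}} (f : X ⟶ Y) [Smooth f] (ι : N ⟶ Y) (hN : Pi1.IsNormalScheme N) :
    Pi1.IsNormalScheme (pullback f ι) := fun z => by
  haveI : Smooth (pullback.snd f ι) := inferInstance
  exact (Unram17Lib.normal_stalk_iff_of_smooth (pullback.snd f ι)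
    (x := z) (by rw [Scheme.Hom.smoothLocus_eq_top_iff.mpr inferInstance]; trivial)).2 (hN _)


/-- In the case of integral schemes: let f : X ⟶ Y be a smooth morphism with X and Y integral, and let
X^ν ⟶ X and Y^ν ⟶ Y be the normalizations (in the function fields). Then X^ν is isomorphic over X to
the fibre product X ×_Y Y^ν, and such an isomorphism is unique. (The published statement requires
only that each quasi-compact open subset of Y meet finitely many irreducible components of Y, and
also derives this for X; this row assumes X and Y integral, the case in which the normalization used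
here is defined. The quasi-compactness and quasi-separatedness binders on Spec K(X) → X and Spec
K(Y) → Y always hold and are needed only to form the normalization.) -/
theorem result {X Y : Scheme.{u}} (f : X ⟶ Y) [Smooth f] [IsIntegral X] [IsIntegral Y]
    [QuasiCompact (X.fromSpecStalk (genericPoint X))] [QuasiSeparated (X.fromSpecStalk (genericPoint X))]
    [QuasiCompact (Y.fromSpecStalk (genericPoint Y))] [QuasiSeparated (Y.fromSpecStalk (genericPoint Y))] :
    ∃! e : Curv2.normalization X ≅ pullback f (Curv2.normalizationι Y),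
      e.hom ≫ pullback.fst f (Curv2.normalizationι Y) = Curv2.normalizationι X := by
  let ν := Curv2.normalizationι Y
  have hν : PurBirLib.Bir ν := LocFFLib.normalization_bir Y
  let jY := Y.fromSpecStalk (genericPoint Y)
  let tY : Spec Y.functionField ⟶ Curv2.normalization Y := jY.toNormalization
  have htY : tY ≫ ν = jY := jY.toNormalization_fromNormalization
  let q := pullback.fst f ν
  let p := pullback.snd f ν
  haveI : IsIntegralHom ν := inferInstanceAs (IsIntegralHom jY.fromNormalization)
  haveI : IsIntegralHom q := inferInstance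
  haveI : Smooth p := inferInstance
  have hnP := isNormal_pullback f ν (LocFFLib.normalization_isNormal Y)
  haveI : ∀ z, IsDomain ((pullback f ν).presheaf.stalk z) := fun z => (hnP z).1
  -- the generic fibre
  let a := pullback.fst f jY
  let c : pullback f jY ⟶ pullback f ν :=
    pullback.lift a (pullback.snd f jY ≫ tY) (by rw [Category.assoc, htY]; exact pullback.condition)
  have hcq : c ≫ q = a := pullback.lift_fst _ _ _
  have hcp : c ≫ p = pullback.snd f jY ≫ tY := pullback.lift_snd _ _ _
  have sqc : IsPullback c (pullback.snd f jY) p tY :=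
    (IsPullback.of_bot (h₁₁ := pullback.snd f jY) (v₁₁ := c) (h₂₁ := p) (v₂₁ := q) (h₃₁ := f) (v₂₂ := ν) (v₁₂ := tY)
      (by rw [hcq, htY]; exact (IsPullback.of_hasPullback f jY).flip) hcp.symm
      (IsPullback.of_hasPullback f ν).flip).flip
  let η : Spec Y.functionField := IsLocalRing.closedPoint _
  have hjη : jY η = genericPoint Y := Scheme.fromSpecStalk_closedPoint
  have htη : tY η = genericPoint (Curv2.normalization Y) := by
    refine PurBirLib.eq_generic_of_map_generic ν hν ?_
    rw [← Scheme.Hom.comp_apply, htY, hjη]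
  have hfη : f (genericPoint X) = genericPoint Y := by
    obtain ⟨y, hy⟩ : ∃ y, f (genericPoint X) = y := ⟨_, rfl⟩
    have hop : IsOpen (Set.range f) := f.isOpenMap.isOpen_range
    obtain ⟨x, hx⟩ := ((genericPoint_spec Y).mem_open_set_iff hop).2 ⟨y, trivial, genericPoint X, hy⟩
    have h1 : f (genericPoint X) ⤳ genericPoint Y := hx ▸ ((genericPoint_spec X).specializes trivial).map f.continuous
    exact (h1.antisymm ((genericPoint_spec Y).specializes trivial)).eq
  have hmax : ∀ z, (∀ w, w ⤳ z → w = z) → q z = genericPoint X := by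
    intro z hz
    obtain ⟨w, hw₁, hw₂⟩ : ∃ w, w ⤳ z ∧ p w = genericPoint (Curv2.normalization Y) := by
      obtain ⟨w, hw, hw'⟩ := Flat.generalizingMap p ((genericPoint_spec (Curv2.normalization Y)).specializes (Set.mem_univ (p z)))
      exact ⟨w, hw, hw'⟩
    obtain rfl := hz w hw₁
    obtain ⟨g, hg, -⟩ := Scheme.exists_preimage_of_isPullback sqc w η (by rw [hw₂, htη])
    obtain ⟨g', hg'a, -⟩ := Scheme.exists_preimage_of_isPullback (IsPullback.of_hasPullback f jY) (genericPoint X) η
      (by rw [hfη, hjη])
    have hsp : g' ⤳ g := a.isEmbedding.isInducing.specializes_iff.1 (by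
      show a g' ⤳ a g
      rw [show a g' = genericPoint X from hg'a]
      exact (genericPoint_spec X).specializes trivial)
    have h2 := hz (c g') (hg ▸ hsp.map c.continuous)
    rw [← h2, ← Scheme.Hom.comp_apply, hcq]
    exact hg'a
  obtain ⟨g₀, hg₀a, -⟩ := Scheme.exists_preimage_of_isPullback (IsPullback.of_hasPullback f jY) (genericPoint X) η
    (by rw [hfη, hjη])
  let ξ := c g₀
  have hover : ∀ z, q z = genericPoint X → z = ξ := by
    intro z hz
    have hpz : p z = tY η := by
      rw [htη]
      refine PurBirLib.eq_generic_of_map_generic ν hν ?_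
      rw [← Scheme.Hom.comp_apply, ← pullback.condition, Scheme.Hom.comp_apply, hz, hfη]
    obtain ⟨g, hg, -⟩ := Scheme.exists_preimage_of_isPullback sqc z η hpz
    have : g = g₀ := a.isEmbedding.injective (by
      show a g = a g₀
      rw [← hcq, Scheme.Hom.comp_apply, hg, hz]
      exact (show (c ≫ q) g₀ = genericPoint X by rw [hcq]; exact hg₀a).symm.trans (by rw [hcq]))
    rw [← hg, this]
  have hqξ : q ξ = genericPoint X := by
    show q (c g₀) = _
    rw [← Scheme.Hom.comp_apply, hcq]; exact hg₀a
  have hgen : ∀ z, ξ ⤳ z := fun z => by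
    obtain ⟨w, hw, hwm⟩ := AlgSpLib.exists_maximal_generization z
    rwa [hover w (hmax w hwm)] at hw
  haveI hirr : IrreducibleSpace ↥(pullback f ν) := by
    have hgp : IsGenericPoint ξ (Set.univ : Set ↥(pullback f ν)) :=
      Set.eq_univ_of_forall fun z => (hgen z).mem_closure
    haveI : Nonempty ↥(pullback f ν) := ⟨ξ⟩
    exact { toPreirreducibleSpace := ⟨hgp.isIrreducible.2⟩, toNonempty := ⟨ξ⟩ }
  have hξ : ξ = genericPoint ↥(pullback f ν) :=
    IsGenericPoint.eq (Set.eq_univ_of_forall fun z => (hgen z).mem_closure) (genericPoint_spec _)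
  have hstalk : IsIso (q.stalkMap ξ) := by
    refine (ConcreteCategory.isIso_iff_bijective _).2 ?_
    have hX : IsField (X.presheaf.stalk (q ξ)) := by
      rw [hqξ]; exact Field.toIsField X.functionField
    letI := hX.toField
    refine ⟨RingHom.injective (q.stalkMap ξ).hom, ?_⟩
    haveI : Ring.KrullDimLE 0 ((pullback f ν).presheaf.stalk ξ) := Ring.krullDimLE_iff.2
      (AlgSpLib.stalkDim_eq_zero_of_maximal ξ fun z hz => (hz.antisymm (hgen z)).eq).le
    letI := (Ring.KrullDimLE.isField_of_isDomain (R := (pullback f ν).presheaf.stalk ξ)).toField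
    intro b
    obtain ⟨r, hr⟩ : ∃ r, (c ≫ q).stalkMap g₀ r = c.stalkMap g₀ b :=
      (show Function.Surjective ((c ≫ q).stalkMap g₀) by rw [hcq]; exact a.stalkMap_surjective g₀) _
    rw [Scheme.Hom.stalkMap_comp] at hr
    exact ⟨r, RingHom.injective (c.stalkMap g₀).hom hr⟩
  obtain ⟨e, he⟩ := (LocFFLib.normalization_char X q).2 ⟨hnP, inferInstance, hirr,
    Set.eq_singleton_iff_unique_mem.2 ⟨by rw [← hξ]; exact hqξ, fun z hz => (hover z hz).trans hξ⟩, hξ ▸ hstalk⟩
  refine ⟨e.symm, (Iso.inv_comp_eq e).2 he.symm, fun e' he' => Iso.ext ?_⟩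
  let jX := X.fromSpecStalk (genericPoint X)
  have h₀ : e.inv ≫ q = jX.fromNormalization := (Iso.inv_comp_eq e).2 he.symm
  refine Scheme.Hom.normalization.hom_ext jX _ _ q ?_ he' h₀
  have hp₁ : ∀ d : Curv2.normalization X ⟶ pullback f ν, d ≫ q = jX.fromNormalization →
      (jX.toNormalization ≫ d) (IsLocalRing.closedPoint _) = ξ := fun d hd => hover _ (by
    rw [← Scheme.Hom.comp_apply, Category.assoc, hd, Scheme.Hom.toNormalization_fromNormalization]
    exact Scheme.fromSpecStalk_closedPoint)
  haveI := hstalk
  refine ext_of_isIso_stalkMap q (a := ξ) (hp₁ _ he') (hp₁ _ h₀) ?_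
  rw [Category.assoc, Category.assoc]
  exact congrArg (jX.toNormalization ≫ ·) (he'.trans h₀.symm)

end Groth.Agent.S9791
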