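import Groth.Statements.S9793
import Mathlib
-- import your own Groth.Agent.* helpers here

set_option autoImplicit false
universe u
open CategoryTheory AlgebraicGeometry TopologicalSpace
open Props

namespace Groth.Agent.S9793

open CategoryTheory CategoryTheory.Limits AlgebraicGeometry

/-- Let S be a Noetherian scheme and T a set of points of S. Every point of T is a specialization of
some point of T which admits no non-trivial generization lying in T. -/
theorem result (S : Scheme.{u}) [IsNoetherian S]
    (T : Set S) (t : S) (ht : t ∈ T) :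
    ∃ t₀ ∈ T, (∀ t' ∈ T, t' ⤳ t₀ → t' = t₀) ∧ t₀ ⤳ t := by
  have hem := (S.fromSpecStalk t).isEmbedding
  let A : Set (PrimeSpectrum (S.presheaf.stalk t)) := {p | S.fromSpecStalk t p ∈ T}
  have hA : A.Nonempty := ⟨IsLocalRing.closedPoint _, by
    show S.fromSpecStalk t (IsLocalRing.closedPoint _) ∈ T
    rw [S.fromSpecStalk_closedPoint]; exact ht⟩
  obtain ⟨p, hp, hmin⟩ :=
    (InvImage.wf (fun p : PrimeSpectrum (S.presheaf.stalk t) => p.asIdeal.height) wellFounded_lt).has_min A hA
  have hpt : S.fromSpecStalk t p ⤳ t := Scheme.range_fromSpecStalk.subset ⟨p, rfl⟩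
  refine ⟨_, hp, fun t' ht' hsp => ?_, hpt⟩
  obtain ⟨p', rfl⟩ : t' ∈ Set.range (S.fromSpecStalk t) :=
    Scheme.range_fromSpecStalk ▸ hsp.trans hpt
  have hle : p'.asIdeal ≤ p.asIdeal :=
    (PrimeSpectrum.le_iff_specializes p' p).2 (hem.specializes_iff.1 hsp)
  rcases eq_or_lt_of_le hle with h | h
  · rw [PrimeSpectrum.ext h]
  · exact absurd (Ideal.height_strict_mono_of_isPrime_of_isPrime h) (hmin p' ht')

end Groth.Agent.S9793
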