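import Groth.Statements.S9798
import Groth.Agent.FibDimLib.TopLocalDim

set_option autoImplicit false
universe u
open CategoryTheory AlgebraicGeometry TopologicalSpace
open Props

namespace Groth.Agent.S9798

/-- A point of a locally Noetherian scheme has local dimension zero exactly when it is isolated. -/
theorem result (X : Scheme.{u}) [IsLocallyNoetherian X] (x : X) :
    FlatMor.localDim X x = 0 ↔ IsOpen ({x} : Set X) := by
  refine FibDimLib.localDim_eq_zero_iff x fun U hU => ?_
  obtain ⟨_, ⟨V, hV, rfl⟩, hxV, hVU⟩ := X.isBasis_affineOpens.exists_subset_of_mem_open hU U.isOpen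
  refine ⟨V, hxV, hVU, ?_⟩
  have hV : IsAffineOpen V := hV
  have : CompactSpace (V : Scheme.{u}) := isCompact_iff_compactSpace.mp hV.isCompact
  have : IsNoetherian (V : Scheme.{u}) := {}
  exact (inferInstance : TopologicalSpace.NoetherianSpace ↥(V : Scheme.{u}))


end Groth.Agent.S9798
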