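import Groth.Statements.S9803
import Groth.Agent.JouanLib.Alg

set_option autoImplicit false
universe u
open CategoryTheory AlgebraicGeometry TopologicalSpace
open Props

namespace Groth.Agent.S9803

/-- A quasi-affine scheme X admits a morphism from an affine scheme T which, after base change to any
affine scheme over X, becomes isomorphic over that affine scheme to an affine space of fixed
dimension n. -/
theorem result (X : Scheme.{u}) [X.IsQuasiAffine] :
    ∃ (n : ℕ) (T : Scheme.{u}) (_ : IsAffine T) (p : T ⟶ X),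
      ∀ (X' : Scheme.{u}) [IsAffine X'] (g : X' ⟶ X),
        ∃ e : Limits.pullback g p ≅ 𝔸(ULift.{u} (Fin n); X'),
          e.hom ≫ (𝔸(ULift.{u} (Fin n); X') ↘ X') = Limits.pullback.fst g p := by
  classical
  let j := X.toSpecΓ
  obtain ⟨t, ht⟩ := PrimeSpectrum.isCompact_isOpen_iff.1
    ⟨isCompact_range j.continuous, j.opensRange.2⟩
  let n := t.card
  let f : Fin n → Γ(X, ⊤) := fun i => (t.equivFin.symm i).1
  have hf : Set.range f = (t : Set Γ(X, ⊤)) := by
    ext a; exact ⟨fun ⟨i, hi⟩ => hi ▸ (t.equivFin.symm i).2, fun ha => ⟨t.equivFin ⟨a, ha⟩, by simp [f]⟩⟩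
  let C := JouanLib.UnitAlg f
  let q : Spec (CommRingCat.of C) ⟶ Spec Γ(X, ⊤) := Spec.map (CommRingCat.ofHom (algebraMap Γ(X, ⊤) C))
  have hrange : Set.range q ⊆ Set.range j := by
    rintro _ ⟨P, rfl⟩
    refine ht ▸ ?_
    intro hz
    refine P.isPrime.ne_top (top_le_iff.1 ?_)
    rw [← JouanLib.span_eq_top f, Ideal.span_le]
    rintro _ ⟨i, rfl⟩
    exact hz (hf ▸ ⟨i, rfl⟩ : f i ∈ (t : Set Γ(X, ⊤)))
  let p : Spec (CommRingCat.of C) ⟶ X := IsOpenImmersion.lift j q hrange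
  have hp : p ≫ j = q := IsOpenImmersion.lift_fac j q hrange
  refine ⟨n, Spec (CommRingCat.of C), inferInstance, p, fun X' _ g => ?_⟩
  let φ : Γ(X, ⊤) ⟶ Γ(X', ⊤) := Spec.preimage (X'.isoSpec.inv ≫ g ≫ j)
  letI : Algebra Γ(X, ⊤) Γ(X', ⊤) := φ.hom.toAlgebra
  have hgj : g ≫ j = X'.isoSpec.hom ≫ Spec.map (CommRingCat.ofHom (algebraMap Γ(X, ⊤) Γ(X', ⊤))) := by
    rw [show CommRingCat.ofHom (algebraMap Γ(X, ⊤) Γ(X', ⊤)) = φ from rfl, Spec.map_preimage, Iso.hom_inv_id_assoc]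
  have htop : Ideal.span (Set.range fun i => algebraMap Γ(X, ⊤) Γ(X', ⊤) (f i)) = ⊤ := by
    by_contra hne
    obtain ⟨M, hM, hle⟩ := Ideal.exists_le_maximal _ hne
    let x' : X' := X'.isoSpec.inv.base (⟨M, hM.isPrime⟩ : PrimeSpectrum Γ(X', ⊤))
    have h1 : j.base (g.base x') ∈ Set.range j.base := ⟨_, rfl⟩
    have h2 : j.base (g.base x') = (Spec.map φ).base (⟨M, hM.isPrime⟩ : PrimeSpectrum Γ(X', ⊤)) := by
      rw [Spec.map_preimage]; rfl
    rw [h2] at h1
    refine (show _ ∈ (PrimeSpectrum.zeroLocus (t : Set Γ(X, ⊤)))ᶜ from ht ▸ h1) ?_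
    intro a ha
    obtain ⟨i, rfl⟩ := hf.symm ▸ ha
    exact hle (Ideal.subset_span ⟨i, rfl⟩)
  obtain ⟨v, hv⟩ := (Ideal.mem_span_range_iff_exists_fun (R := Γ(X', ⊤))).1 (htop ▸ Submodule.mem_top (x := (1 : Γ(X', ⊤))))
  have hv' : ∑ i, algebraMap Γ(X, ⊤) Γ(X', ⊤) (f i) * v i = 1 :=
    (Finset.sum_congr rfl fun i _ => mul_comm _ _).trans hv
  let sB := Spec.map (CommRingCat.ofHom (algebraMap Γ(X, ⊤) Γ(X', ⊤)))
  let e₁ : Limits.pullback g p ≅ Limits.pullback sB q :=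
    { hom := Limits.pullback.lift (Limits.pullback.fst g p ≫ X'.isoSpec.hom) (Limits.pullback.snd g p)
        (by rw [Category.assoc, ← hgj, Limits.pullback.condition_assoc, hp])
      inv := Limits.pullback.lift (Limits.pullback.fst sB q ≫ X'.isoSpec.inv) (Limits.pullback.snd sB q)
        (by rw [← cancel_mono j, Category.assoc, Category.assoc, Category.assoc, hgj, Iso.inv_hom_id_assoc, hp,
          Limits.pullback.condition])
      hom_inv_id := by apply Limits.pullback.hom_ext <;> simp [Limits.limit.lift_π, Limits.limit.lift_π_assoc, Limits.pullback.lift_fst, Limits.pullback.lift_snd, Limits.pullback.lift_fst_assoc, Limits.pullback.lift_snd_assoc]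
      inv_hom_id := by apply Limits.pullback.hom_ext <;> simp [Limits.limit.lift_π, Limits.limit.lift_π_assoc, Limits.pullback.lift_fst, Limits.pullback.lift_snd, Limits.pullback.lift_fst_assoc, Limits.pullback.lift_snd_assoc] }
  let e₂ : Limits.pullback sB q ≅ Spec (CommRingCat.of (TensorProduct Γ(X, ⊤) Γ(X', ⊤) C)) :=
    pullbackSpecIso Γ(X, ⊤) Γ(X', ⊤) C
  let e₃ : Spec (CommRingCat.of (TensorProduct Γ(X, ⊤) Γ(X', ⊤) C)) ≅
      Spec (CommRingCat.of (MvPolynomial (ULift.{u} (Fin n)) Γ(X', ⊤))) :=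
    Scheme.Spec.mapIso (JouanLib.equivPoly f v hv').toRingEquiv.toCommRingCatIso.symm.op
  let e₄ := (AffineSpace.isoOfIsAffine (ULift.{u} (Fin n)) X').symm
  refine ⟨e₁ ≪≫ e₂ ≪≫ e₃ ≪≫ e₄, ?_⟩
  have k₄ : e₄.hom ≫ (𝔸(ULift.{u} (Fin n); X') ↘ X') =
      Spec.map (CommRingCat.ofHom MvPolynomial.C) ≫ X'.isoSpec.inv := by
    simp [e₄, AffineSpace.isoOfIsAffine_inv]
  have k₃ : e₃.hom ≫ Spec.map (CommRingCat.ofHom MvPolynomial.C) =
      Spec.map (CommRingCat.ofHom Algebra.TensorProduct.includeLeftRingHom) := by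
    refine (Spec.map_comp _ _).symm.trans (congrArg Spec.map ?_)
    ext b
    show (JouanLib.equivPoly f v hv').symm (MvPolynomial.C b) = b ⊗ₜ[Γ(X, ⊤)] (1 : C)
    rw [← JouanLib.equivPoly_algebraMap f v hv' b, AlgEquiv.symm_apply_apply]
  have k₂ : e₂.hom ≫ Spec.map (CommRingCat.ofHom Algebra.TensorProduct.includeLeftRingHom) = Limits.pullback.fst sB q := by
    rw [← Iso.eq_inv_comp]
    exact (pullbackSpecIso_inv_fst _ _ _).symm
  simp only [Iso.trans_hom, Category.assoc, k₄]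
  rw [reassoc_of% k₃, reassoc_of% k₂]
  simp [e₁, Limits.pullback.lift_fst_assoc]

end Groth.Agent.S9803
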