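import Groth.Statements.S9813
import Groth.Agent.MiscFlat6.AmpleSep


-- import your own Groth.Agent.* helpers here

set_option autoImplicit false
universe u
open CategoryTheory CategoryTheory.Limits AlgebraicGeometry TopologicalSpace
open Props

namespace Groth.Agent.S9813

/-- Let L be an invertible module on a scheme X such that every point lies in an affine open of the form
X_s for some global section s of a positive tensor power of L. Then X is separated. In particular a
scheme carrying an ample invertible module is separated. -/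
theorem result (X : Scheme.{u}) (L : X.Modules) (hL : PicF.IsInvertible L)
    (h : ∀ x : X, ∃ (n : ℕ) (s : Coh.structureModule X ⟶ CohB1.tensorPow L (n + 1)),
      x ∈ CohB1.genLocus _ s ∧ IsAffineOpen (CohB1.genLocus _ s)) :
    X.IsSeparated := by
  open AmpleLib AmpleThLib MiscFlat6 TopologicalSpace in
  focus
    have hloc : ∀ x : X, ∃ (n : ℕ) (V : X.Opens), 0 < n ∧ AmpleThLib.IsLocus hL n V ∧ x ∈ V ∧ IsAffineOpen V := fun x => by
      obtain ⟨n, s, hx, hs⟩ := h x
      exact ⟨n + 1, _, n.succ_pos, ⟨_, (genLocus_hom (tensorPow_isInvertible hL (n + 1)) s).symm⟩, hx, hs⟩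
    choose n V hn hV hxV haff using hloc
    have key : ∀ x y, ∃ (b : Γ(X, V x)) (c : Γ(X, V y)), V x ⊓ V y = X.basicOpen b ∧
        X.presheaf.map (homOfLE (inf_le_left : V x ⊓ V y ≤ V x)).op b *
          X.presheaf.map (homOfLE (inf_le_right : V x ⊓ V y ≤ V y)).op c = 1 := by
      intro x y
      obtain ⟨σ, hσ⟩ := (hV x).mul_right (hn y)
      obtain ⟨τ, hτ⟩ := (mul_comm (n y) (n x)) ▸ (hV y).mul_right (hn x)
      have hM := tensorPow_isInvertible hL (n x * n y)
      have gσ := TwistLib.genSet_genOn hM σ
      have gτ := TwistLib.genSet_genOn hM τ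
      revert hσ hτ
      generalize V x = A, V y = B
      rintro rfl rfl
      obtain ⟨b, hb⟩ := exists_coeff τ gσ
      obtain ⟨c, hc⟩ := exists_coeff σ gτ
      refine ⟨b, c, (inf_comm _ _).trans (mem_genSet_coeff hM τ gσ hb), ?_⟩
      have h1 := congrArg (res _ (inf_le_left : TwistLib.genSet hM σ ⊓ TwistLib.genSet hM τ ≤ TwistLib.genSet hM σ)) hb
      have h2 := congrArg (res _ (inf_le_right : TwistLib.genSet hM σ ⊓ TwistLib.genSet hM τ ≤ TwistLib.genSet hM τ)) hc
      rw [res_smul, res_res, res_res] at h1 h2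
      rw [← h1, smul_smul] at h2
      refine ((gσ.res inf_le_left) _ le_rfl).1 ?_
      dsimp only
      rw [res_refl, one_smul, res_res]
      exact (congrArg (· • _) (mul_comm _ _)).trans h2
    refine isSeparated_of_affine_cover V (eq_top_iff.mpr fun x _ => Opens.mem_iSup.mpr ⟨x, hxV x⟩) haff
      (fun x y => ?_) fun x y R hl hr => eq_top_iff.2 fun z _ => ?_
    · obtain ⟨b, c, h, -⟩ := key x y
      rw [h]; exact (haff x).basicOpen b
    · obtain ⟨b, c, h, hbc⟩ := key x y
      have hle : X.basicOpen b ≤ V x := Scheme.basicOpen_le _ _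
      let z' : Γ(X, X.basicOpen b) := X.presheaf.map (eqToHom h.symm).op z
      haveI := (haff x).isLocalization_basicOpen b
      obtain ⟨⟨a, ⟨_, k, rfl⟩⟩, ha⟩ := IsLocalization.surj (Submonoid.powers b) z'
      have ha' := congrArg (X.presheaf.map (eqToHom h).op) ha
      simp only [map_mul, RingHom.algebraMap_toAlgebra, z', ← CommRingCat.comp_apply, ← Functor.map_comp,
        ← op_comp, eqToHom_trans, eqToHom_refl, op_id, CategoryTheory.Functor.map_id, CommRingCat.id_apply] at ha'
      replace ha' : z * X.presheaf.map (homOfLE (inf_le_left : V x ⊓ V y ≤ V x)).op (b ^ k) =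
          X.presheaf.map (homOfLE (inf_le_left : V x ⊓ V y ≤ V x)).op a := ha'
      have hz : z = X.presheaf.map (homOfLE (inf_le_left : V x ⊓ V y ≤ V x)).op a *
          X.presheaf.map (homOfLE (inf_le_right : V x ⊓ V y ≤ V y)).op (c ^ k) := by
        rw [← ha', mul_assoc, map_pow, map_pow, ← mul_pow, hbc, one_pow, mul_one]
      rw [hz]
      exact mul_mem (hl a) (hr _)

end Groth.Agent.S9813
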