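import Groth.Statements.S9814
import Mathlib
import Groth.Agent.S2350
import Groth.Agent.AmpleThLib.VeryAmple
-- import your own Groth.Agent.* helpers here

set_option autoImplicit false
universe u
open CategoryTheory CategoryTheory.Limits AlgebraicGeometry TopologicalSpace
open Props

namespace Groth.Agent.S9814

/-- Let L be an invertible module on a scheme X. If the opens X_s (s a global section of a positive
tensor power of L) form a basis for the topology, then so do the affine ones among them. -/
theorem result (X : Scheme.{u}) (L : X.Modules) (hL : PicF.IsInvertible L)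
    (hB : Opens.IsBasis {U : X.Opens | ∃ (n : ℕ) (s : Coh.structureModule X ⟶ CohB1.tensorPow L (n + 1)),
      U = CohB1.genLocus _ s}) :
    Opens.IsBasis {U : X.Opens | IsAffineOpen U ∧ ∃ (n : ℕ) (s : Coh.structureModule X ⟶ CohB1.tensorPow L (n + 1)),
      U = CohB1.genLocus _ s} := by
  rw [Opens.isBasis_iff_nbhd]
  intro U x hxU
  obtain ⟨V, hV, hxV, hVU⟩ := exists_isAffineOpen_mem_and_subset hxU
  obtain ⟨W, ⟨n, s, rfl⟩, hxW, hWV⟩ := Opens.isBasis_iff_nbhd.1 hB hxV
  refine ⟨_, ⟨?_, n, s, rfl⟩, hxW, hWV.trans hVU⟩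
  haveI := Groth.Agent.S2350.result X _ (AmpleThLib.tensorPow_isInvertible hL (n + 1)) s
  let G := CohB1.genLocus (CohB1.tensorPow L (n + 1)) s
  have h := hV.preimage G.ι
  rw [← Scheme.Hom.isAffineOpen_iff_of_isOpenImmersion G.ι, Scheme.Hom.image_preimage_eq_opensRange_inf,
    Scheme.Opens.opensRange_ι, inf_eq_left.2 hWV] at h
  exact h

end Groth.Agent.S9814
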