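import Groth.Statements.S9822
import Mathlib
-- import your own Groth.Agent.* helpers here

set_option autoImplicit false
universe u
open CategoryTheory CategoryTheory.Limits AlgebraicGeometry TopologicalSpace Opposite
open Props

namespace Groth.Agent.S9822

open CategoryTheory CategoryTheory.Limits AlgebraicGeometry

/-- A scheme is irreducible if and only if it is nonempty and every nonempty affine open subset is
irreducible. -/
theorem result (X : Scheme.{u}) :
    IrreducibleSpace X ↔ Nonempty X ∧ ∀ U : X.Opens, IsAffineOpen U → (U : Set X).Nonempty → IsIrreducible (U : Set X) := by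
  constructor
  · intro hX
    refine ⟨hX.toNonempty, fun U _ hne => ⟨hne, ?_⟩⟩
    exact (PreirreducibleSpace.isPreirreducible_univ (X := X)).open_subset U.2 (Set.subset_univ _)
  · rintro ⟨hne, h⟩
    haveI : PreirreducibleSpace X := ⟨fun A B hA hB ⟨a, _, ha⟩ ⟨b, _, hb⟩ => ?_⟩
    · exact ⟨hne⟩
    · obtain ⟨U, hU, haU, hUA⟩ := exists_isAffineOpen_mem_and_subset (x := a) (U := ⟨A, hA⟩) ha
      obtain ⟨V, hV, hbV, hVB⟩ := exists_isAffineOpen_mem_and_subset (x := b) (U := ⟨B, hB⟩) hb
      by_contra hAB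
      have hd : Disjoint U V := by
        rw [disjoint_iff_inf_le]
        intro z hz
        exact absurd ⟨z, trivial, hUA hz.1, hVB hz.2⟩ hAB
      obtain ⟨z, -, hzU, hzV⟩ := (h _ (hU.sup_of_disjoint hV hd) ⟨a, Or.inl haU⟩).2 U V U.2 V.2
        ⟨a, Or.inl haU, haU⟩ ⟨b, Or.inr hbV, hbV⟩
      exact (disjoint_iff_inf_le.1 hd ⟨hzU, hzV⟩ : z ∈ (⊥ : X.Opens))

end Groth.Agent.S9822
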