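import Groth.Statements.S9828
import Groth.Agent.LimHomLib.FPColim
import Groth.Agent.FlatFunLimLib.Main
-- import your own Groth.Agent.* helpers here

set_option autoImplicit false
set_option backward.isDefEq.respectTransparency false
set_option linter.all false
universe u
open CategoryTheory CategoryTheory.Limits AlgebraicGeometry TopologicalSpace Opposite
open Props

namespace Groth.Agent.S9828

open CategoryTheory CategoryTheory.Limits AlgebraicGeometry

/-- On a quasi-compact quasi-separated scheme, a quasi-coherent module of finite type is a directed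
colimit of modules of finite presentation with surjective transition maps. -/
theorem result {X : Scheme.{u}} [CompactSpace X]
    [QuasiSeparatedSpace X] (F : X.Modules) [Coh.IsQCoh F] (hF : CohB1.IsFT F) :
    ∃ (J : Type u) (_ : PartialOrder J) (_ : IsDirected J (· ≤ ·)) (_ : Nonempty J) (D : J ⥤ X.Modules)
      (ι : D ⟶ (Functor.const J).obj F), Nonempty (IsColimit (Cocone.mk F ι)) ∧
      (∀ j, CohB1.IsFP (D.obj j)) ∧ ∀ (j j' : J) (h : j ⟶ j'), Epi (D.map h) := by
  classical
  obtain ⟨P, hPq, e, hP, he⟩ := LimHomLib.exists_fp_epi F hF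
  haveI := hPq
  haveI := he
  haveI : Coh.IsQCoh (kernel e) := QCohLib.isQCoh_kernel e
  choose Q g hQq hQ a ha using fun r : Σ V : X.affineOpens, Γ(kernel e, V.1) =>
    LimHomLib.exists_fp_through (kernel e) r.1 r.2
  let J : Type u := Finset (Σ V : X.affineOpens, Γ(kernel e, V.1))
  let w : ∀ R : J, (∐ fun r : R => Q r.1) ⟶ P := fun R => Sigma.desc fun r => g r.1 ≫ kernel.ι e
  have hwe : ∀ R : J, w R ≫ e = 0 := fun R => Sigma.hom_ext _ _ fun r => by
    simp only [w, Sigma.ι_desc_assoc, Category.assoc, kernel.condition, comp_zero]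
  have hmap : ∀ {R R' : J} (h : R ≤ R'), w R ≫ cokernel.π (w R') = 0 := fun {R R'} h =>
    Sigma.hom_ext _ _ fun r => by
      rw [comp_zero, ← Category.assoc, Sigma.ι_desc,
        ← Sigma.ι_desc (fun r : R' => g r.1 ≫ kernel.ι e) ⟨r.1, h r.2⟩, Category.assoc]
      exact (congrArg _ (cokernel.condition (w R'))).trans comp_zero
  let D : J ⥤ X.Modules :=
    { obj := fun R => cokernel (w R)
      map := fun {R R'} h => cokernel.desc (w R) (cokernel.π (w R')) (hmap (leOfHom h))
      map_id := fun R => coequalizer.hom_ext (by simp)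
      map_comp := fun {R R' R''} h h' => coequalizer.hom_ext (by simp) }
  let ι : D ⟶ (Functor.const J).obj F :=
    { app := fun R => cokernel.desc (w R) e (hwe R)
      naturality := fun {R R'} h => coequalizer.hom_ext (by simp [D]) }
  haveI : ∀ R : J, Coh.IsQCoh (∐ fun r : R => Q r.1) := fun R => QCohLib.isQCoh_sigma _ fun r => hQq r.1
  refine ⟨J, inferInstance, inferInstance, inferInstance, D, ι, ?_, fun R => ?_, fun R R' h => ?_⟩
  · refine LimHomLib.isColimit_of_stalk (Cocone.mk F ι) (fun x y => ?_) (fun x R z hz => ?_)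
    · haveI : Epi ((DevissLib.St x).map e) := inferInstance
      obtain ⟨p, rfl⟩ := (ModuleCat.epi_iff_surjective ((DevissLib.St x).map e)).1 inferInstance y
      refine ⟨(∅ : J), ((DevissLib.St x).map (cokernel.π (w ∅))).hom p, ?_⟩
      show ((DevissLib.St x).map (cokernel.desc (w ∅) e (hwe ∅))).hom _ = _
      rw [← LinearMap.comp_apply, ← ModuleCat.hom_comp, ← Functor.map_comp, cokernel.π_desc]
    · obtain ⟨p, rfl⟩ := (ModuleCat.epi_iff_surjective ((DevissLib.St x).map (cokernel.π (w R)))).1 inferInstance z
      have hp : ((DevissLib.St x).map e).hom p = 0 := by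
        rw [← hz]
        show _ = ((DevissLib.St x).map (cokernel.desc (w R) e (hwe R))).hom _
        rw [← LinearMap.comp_apply, ← ModuleCat.hom_comp, ← Functor.map_comp, cokernel.π_desc]
      obtain ⟨V, hxV, k, hk⟩ := LimHomLib.exists_kernel_section e x p hp
      let r : Σ V : X.affineOpens, Γ(kernel e, V.1) := ⟨V, k⟩
      refine ⟨insert r R, homOfLE (Finset.subset_insert r R), ?_⟩
      show ((DevissLib.St x).map (cokernel.desc (w R) (cokernel.π (w (insert r R))) _)).hom _ = 0
      rw [← LinearMap.comp_apply, ← ModuleCat.hom_comp, ← Functor.map_comp, cokernel.π_desc, ← hk, DevissLib.gm_app,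
        ← show (g r).app V.1 (a r) = k from ha r]
      show DevissLib.gm _ x hxV ((g r ≫ kernel.ι e ≫ cokernel.π (w (insert r R))).app r.1.1 (a r)) = 0
      rw [← Category.assoc, ← Sigma.ι_desc (fun q : (insert r R : J) => g q.1 ≫ kernel.ι e) ⟨r, Finset.mem_insert_self r R⟩,
        Category.assoc, cokernel.condition (w (insert r R)), comp_zero]
      exact DevissLib.gm_zero _ x hxV
  · exact LimHomLib.isFP_cokernel' (FlatFunLimLib.isFT_of_isFP' (LimHomLib.isFP_sigma (fun r : R => Q r.1) (fun r => hQq r.1) (fun r => hQ r.1)))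
      hP (w R)
  · haveI : Epi (cokernel.π (w R) ≫ D.map h) := by
      show Epi (cokernel.π (w R) ≫ cokernel.desc (w R) (cokernel.π (w R')) _)
      rw [cokernel.π_desc]
      infer_instance
    exact epi_of_epi (cokernel.π (w R)) (D.map h)

end Groth.Agent.S9828
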