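import Groth.Statements.S9831
import Groth.Agent.LimHomLib.ExtendFP
-- import your own Groth.Agent.* helpers here

set_option autoImplicit false
set_option backward.isDefEq.respectTransparency false
set_option linter.all false
universe u
open CategoryTheory CategoryTheory.Limits AlgebraicGeometry TopologicalSpace Opposite
open Props

namespace Groth.Agent.S9831

open CategoryTheory CategoryTheory.Limits AlgebraicGeometry

/-- On a quasi-compact quasi-separated scheme, a quasi-coherent module of finite type on a quasi-compact
open U is the restriction of a quasi-coherent module of finite type on the whole scheme. -/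
theorem result {X : Scheme.{u}} [CompactSpace X]
    [QuasiSeparatedSpace X] (U : X.Opens) (hU : IsCompact (U : Set X)) (G : (U : Scheme.{u}).Modules)
    [Coh.IsQCoh G] (hG : CohB1.IsFT G) :
    ∃ G' : X.Modules, Coh.IsQCoh G' ∧ CohB1.IsFT G' ∧ Nonempty (G'.restrict U.ι ≅ G) := by
  haveI : CompactSpace (U : Scheme.{u}) := isCompact_iff_compactSpace.mp hU
  haveI : QuasiCompact U.ι := quasiCompact_of_compactSpace U.ι
  haveI : Coh.IsQCoh (Coh.structureModule X) := QCohLib.isQCoh_unit
  obtain ⟨H, ψ, e, hH, -⟩ := LimHomLib.exists_extension U (Coh.structureModule X) G 0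
  haveI := hH
  obtain ⟨M, j, hq, hft, hj⟩ := LimHomLib.exists_ft_sub U hU H (QCohLib.isFT_of_epi e.inv hG)
  haveI := hj
  exact ⟨M, hq, hft, ⟨asIso ((Scheme.Modules.restrictFunctor U.ι).map j) ≪≫ e⟩⟩

end Groth.Agent.S9831
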