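import Groth.Statements.S9834
import Groth.Agent.NagataFG.Japanese

set_option autoImplicit false
universe u
open CategoryTheory AlgebraicGeometry TopologicalSpace
open Props

namespace Groth.Agent.S9834

/-- If a scheme has an affine open covering by spectra of universally Japanese rings, then the
coordinate ring of every affine open is universally Japanese. -/
theorem result (X : Scheme.{u}) {ι : Type u} (U : ι → X.Opens)
    (hU : iSup U = ⊤) (haff : ∀ i, IsAffineOpen (U i)) (hJ : ∀ i, CAlg.IsUniversallyJapanese Γ(X, U i))
    (V : X.Opens) (hV : IsAffineOpen V) : CAlg.IsUniversallyJapanese Γ(X, V) := by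
  refine of_affine_open_cover (P := fun V : X.affineOpens => CAlg.IsUniversallyJapanese Γ(X, V)) (fun i => (⟨U i, haff i⟩ : X.affineOpens))
    hU ⟨V, hV⟩ (fun W f hW => ?_) (fun W s hs h => ?_) hJ
  · have := W.2.isLocalization_basicOpen f
    show CAlg.IsUniversallyJapanese Γ(X, X.basicOpen f)
    exact by
      have : Algebra.EssFiniteType Γ(X, W) Γ(X, X.basicOpen f) :=
        Algebra.EssFiniteType.of_isLocalization _ (Submonoid.powers f)
      exact NagataFG.isUniversallyJapanese_of_essFiniteType Γ(X, W) hW Γ(X, X.basicOpen f)
  · refine NagataFG.isUniversallyJapanese_of_cover Γ(X, W) (fun f : s => (f : Γ(X, W))) (by rw [← hs]; congr 1; ext; simp) fun f => ?_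
    have := W.2.isLocalization_basicOpen (f : Γ(X, W))
    have hf : CAlg.IsUniversallyJapanese Γ(X, X.basicOpen (f : Γ(X, W))) := h f
    exact by
      let e := IsLocalization.algEquiv (Submonoid.powers (f : Γ(X, W))) Γ(X, X.basicOpen (f : Γ(X, W)))
        (Localization.Away (f : Γ(X, W)))
      let _ := e.toRingEquiv.toRingHom.toAlgebra
      have : Module.Finite Γ(X, X.basicOpen (f : Γ(X, W))) (Localization.Away (f : Γ(X, W))) :=
        Module.Finite.of_surjective (Algebra.linearMap _ _) e.surjective
      exact NagataFG.isUniversallyJapanese_of_essFiniteType Γ(X, X.basicOpen (f : Γ(X, W))) hf (Localization.Away (f : Γ(X, W)))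

end Groth.Agent.S9834
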