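import Groth.Statements.S9835
import Mathlib
import Groth.Agent.NormalLib.N1Local
import Mathlib
-- import your own Groth.Agent.* helpers here

set_option autoImplicit false
universe u
open CategoryTheory AlgebraicGeometry TopologicalSpace
open Props

namespace Groth.Agent.S9835

/-- If an integral scheme has an affine open covering by spectra of Japanese (N-2) domains, then the
coordinate ring of every nonempty affine open is a Japanese domain. -/
theorem result (X : Scheme.{u}) [IsIntegral X] {ι : Type u}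
    (U : ι → X.Opens) [∀ i, Nonempty (U i)] (hU : iSup U = ⊤) (haff : ∀ i, IsAffineOpen (U i))
    (hJ : ∀ i, CAlg.IsN2 Γ(X, U i)) (V : X.Opens) [Nonempty V] (hV : IsAffineOpen V) :
    CAlg.IsN2 Γ(X, V) := by
  let P : X.affineOpens → Prop := fun W => ∀ _ : Nonempty W.1, CAlg.IsN2 Γ(X, W.1)
  refine AlgebraicGeometry.of_affine_open_cover (P := P) (fun i => (⟨U i, haff i⟩ : X.affineOpens)) hU ⟨V, hV⟩
    (fun W f hW hne => ?_) (fun W s hs hW hne => ?_) (fun i _ => hJ i) ‹Nonempty V›
  · haveI : Nonempty W.1 := hne.elim fun x => ⟨⟨x.1, X.basicOpen_le f x.2⟩⟩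
    haveI : Nonempty (X.basicOpen f) := hne
    haveI := W.2.isLocalization_basicOpen f
    exact NormalLib.isN2_of_isLocalization (Submonoid.powers f) Γ(X, X.basicOpen f) (hW ‹_›)
  · classical
    have hne' : ∀ g : {g : s // (g : Γ(X, W.1)) ≠ 0}, Nonempty (X.basicOpen (g.1 : Γ(X, W.1))) := fun g => by
      by_contra h
      refine g.2 ((basicOpen_eq_bot_iff _).1 ?_)
      exact eq_bot_iff.2 fun x hx => (h ⟨⟨x, hx⟩⟩).elim
    haveI : ∀ g : {g : s // (g : Γ(X, W.1)) ≠ 0}, IsDomain Γ(X, X.basicOpen (g.1 : Γ(X, W.1))) := fun g => by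
      haveI := hne' g
      infer_instance
    haveI : ∀ g : {g : s // (g : Γ(X, W.1)) ≠ 0},
        IsLocalization.Away (g.1 : Γ(X, W.1)) Γ(X, X.basicOpen (g.1 : Γ(X, W.1))) := fun g =>
      W.2.isLocalization_basicOpen _
    refine NormalLib.isN2_of_span_eq_top (fun g : {g : s // (g : Γ(X, W.1)) ≠ 0} => (g.1 : Γ(X, W.1))) ?_
      (fun g => Γ(X, X.basicOpen (g.1 : Γ(X, W.1)))) fun g => hW g.1 (hne' g)
    rw [eq_top_iff, ← hs, Ideal.span_le]
    intro g hg
    by_cases hg0 : g = 0
    · rw [hg0]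
      exact zero_mem _
    · exact Ideal.subset_span ⟨⟨⟨g, hg⟩, hg0⟩, rfl⟩

end Groth.Agent.S9835
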