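import Groth.Statements.S9836
import Mathlib
import Groth.Agent.S3669
import Groth.Agent.QCohLib.Affine
import Groth.Agent.PrinPartLib.FP
-- import your own Groth.Agent.* helpers here

set_option autoImplicit false
universe u
open CategoryTheory CategoryTheory.Limits AlgebraicGeometry
open Props

namespace Groth.Agent.S9836

/-- For a closed immersion i : Z → X with ideal sheaf of finite type and a quasi-coherent O_X-module F,
the subsheaf of sections of F annihilated by the ideal, namely i_* Hom(O_Z, F) for the right adjoint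
Hom(O_Z, -) of i_*, is a quasi-coherent O_X-module. -/
theorem result {Z X : Scheme.{u}} (i : Z ⟶ X)
    [IsClosedImmersion i] [LocallyOfFinitePresentation i] [Dual3.HasHomO i] (F : X.Modules) [Coh.IsQCoh F] :
    Coh.IsQCoh ((Scheme.Modules.pushforward i).obj ((Dual3.homO i).obj F)) := by
  classical
  let N := (Scheme.Modules.pushforward i).obj ((Dual3.homO i).obj F)
  let ε : N ⟶ F := (Dual3.homOAdj i).counit.app F
  have hinj : ∀ U : X.affineOpens, Function.Injective (ε.app U.1) := fun U => (Groth.Agent.S3669.result Z X i F U).1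
  have hrg : ∀ (U : X.affineOpens) (t : Γ(F, U.1)), (∀ a ∈ i.ker.ideal U, a • t = 0) → ∃ m, ε.app U.1 m = t :=
    fun U t ht => Set.mem_range.1 ((Groth.Agent.S3669.result Z X i F U).2.symm.subset
      ((Submodule.mem_torsionBySet_iff _ _).2 fun a => ht a.1 a.2))
  refine (QCohLib.isQCoh_iff_localizingAt N).2 fun V hV f => ?_
  have hW : IsAffineOpen (X.basicOpen f) := hV.basicOpen f
  have hF := QCohLib.localizingAt_of_isQCoh hV F f
  refine ⟨fun s => ?_, fun t ht => ?_⟩
  · obtain ⟨n, t, ht⟩ := hF.exists_extend (ε.app (X.basicOpen f) s)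
    obtain ⟨g, hg⟩ := PrinPartLib.fg_ker i ⟨V, hV⟩
    have hz : ∀ a : {a // a ∈ g}, ∃ m : ℕ, f ^ m • ((a.1 : Γ(X, V)) • t) = 0 := fun a => by
      have ha : (a.1 : Γ(X, V)) ∈ i.ker.ideal ⟨V, hV⟩ := hg ▸ Submodule.subset_span a.2
      have hres : X.presheaf.map (homOfLE (X.basicOpen_le f)).op a.1 ∈ i.ker.ideal ⟨X.basicOpen f, hW⟩ :=
        i.ker.ideal_le_comap_ideal (U := ⟨X.basicOpen f, hW⟩) (V := ⟨V, hV⟩) (X.basicOpen_le f) ha
      obtain ⟨m, hm⟩ := hF.eq_zero ((a.1 : Γ(X, V)) • t) (by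
        refine (F.map_smul (homOfLE (X.basicOpen_le f)) a.1 t).trans ?_
        rw [ht, smul_comm]
        refine (congrArg (_ • ·) ?_).trans (smul_zero _)
        refine (QCohLib.app_smul ε (X.basicOpen f) _ s).symm.trans ?_
        exact (congrArg (ε.app (X.basicOpen f)) (CycKSuppLib.killed_push i _ ⟨X.basicOpen f, hW⟩ _ hres s)).trans
          (map_zero _))
      exact ⟨m, by simpa using hm⟩
    choose m hm using hz
    obtain ⟨M, hM⟩ : ∃ M, ∀ a : {a // a ∈ g}, m a ≤ M :=
      ⟨∑ a, m a, fun a => Finset.single_le_sum (f := m) (fun _ _ => Nat.zero_le _) (Finset.mem_univ a)⟩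
    have hkill : ∀ a ∈ i.ker.ideal ⟨V, hV⟩, a • (f ^ M • t) = 0 := fun a ha => by
      rw [← hg] at ha
      induction ha using Submodule.span_induction with
      | mem b hb =>
        obtain ⟨r, hr⟩ := Nat.exists_eq_add_of_le' (hM ⟨b, hb⟩)
        rw [hr, pow_add, smul_comm, mul_smul, hm ⟨b, hb⟩, smul_zero]
      | zero => exact zero_smul _ _
      | add b c _ _ hb hc => rw [add_smul, hb, hc, add_zero]
      | smul r b _ hb => rw [smul_eq_mul, mul_smul, hb, smul_zero]
    obtain ⟨t', ht'⟩ := hrg ⟨V, hV⟩ _ hkill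
    refine ⟨n + M, t', hinj ⟨X.basicOpen f, hW⟩ ?_⟩
    refine (QCohLib.app_map ε (homOfLE (X.basicOpen_le f)) t').trans ?_
    rw [ht']
    refine (F.map_smul (homOfLE (X.basicOpen_le f)) (f ^ M) t).trans ?_
    rw [ht, QCohLib.app_smul, smul_smul, map_pow, ← pow_add, add_comm M n]
  · obtain ⟨m, hm⟩ := hF.eq_zero (ε.app V t) (by
      rw [← QCohLib.app_map ε (homOfLE (X.basicOpen_le f)) t, ht, map_zero])
    refine ⟨m, hinj ⟨V, hV⟩ ?_⟩
    rw [QCohLib.app_smul, hm, map_zero]

end Groth.Agent.S9836
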