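import Groth.Statements.S9838
import Groth.Agent.QCohLib.Push
import Groth.Agent.QCohLib.AffineFinite
-- import your own Groth.Agent.* helpers here

set_option autoImplicit false
set_option backward.isDefEq.respectTransparency false
set_option linter.all false
open CategoryTheory CategoryTheory.Limits AlgebraicGeometry Opposite
universe u
open Desc

namespace Groth.Agent.S9838

open CategoryTheory CategoryTheory.Limits AlgebraicGeometry TopologicalSpace Opposite

/-- Let f : X ⟶ Y be a finite morphism of schemes and F a quasi-coherent O_X-module. The pushforward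
f_*F is of finite type as an O_Y-module exactly when F itself is of finite type as an O_X-module. -/
theorem result {X Y : Scheme.{u}} (f : X ⟶ Y) [IsFinite f]
    (F : X.Modules) [F.IsQuasicoherent] :
    SheafOfModules.IsFiniteType (R := X.ringCatSheaf) F ↔
      SheafOfModules.IsFiniteType (R := Y.ringCatSheaf) ((Scheme.Modules.pushforward f).obj F) := by
  haveI : Coh.IsQCoh F := ‹F.IsQuasicoherent›
  haveI : Coh.IsQCoh ((Scheme.Modules.pushforward f).obj F) := QCohLib.isQCoh_pushforward f F
  have key : ∀ (V : Y.Opens) (hV : IsAffineOpen V),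
      Module.Finite Γ(Y, V) Γ((Scheme.Modules.pushforward f).obj F, V) ↔ Module.Finite Γ(X, f ⁻¹ᵁ V) Γ(F, f ⁻¹ᵁ V) := by
    intro V hV
    letI : Algebra Γ(Y, V) Γ(X, f ⁻¹ᵁ V) := (f.app V).hom.toAlgebra
    letI : Module Γ(Y, V) Γ(F, f ⁻¹ᵁ V) := Module.compHom _ (f.app V).hom
    haveI : IsScalarTower Γ(Y, V) Γ(X, f ⁻¹ᵁ V) Γ(F, f ⁻¹ᵁ V) := IsScalarTower.of_algebraMap_smul fun _ _ => rfl
    haveI : Module.Finite Γ(Y, V) Γ(X, f ⁻¹ᵁ V) := f.finite_app V hV
    let e : Γ((Scheme.Modules.pushforward f).obj F, V) ≃ₗ[Γ(Y, V)] Γ(F, f ⁻¹ᵁ V) :=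
      { toFun := fun x => x
        invFun := fun x => x
        map_add' := fun _ _ => rfl
        map_smul' := fun a x => QCohLib.push_smul f F a x
        left_inv := fun _ => rfl
        right_inv := fun _ => rfl }
    constructor
    · intro h
      haveI := Module.Finite.equiv e
      exact Module.Finite.of_restrictScalars_finite Γ(Y, V) Γ(X, f ⁻¹ᵁ V) Γ(F, f ⁻¹ᵁ V)
    · intro h
      haveI : Module.Finite Γ(Y, V) Γ(F, f ⁻¹ᵁ V) := Module.Finite.trans Γ(X, f ⁻¹ᵁ V) _
      exact Module.Finite.equiv e.symm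
  constructor
  · intro h
    refine QCohLib.isFT_of_finite fun y => ?_
    obtain ⟨V, hV, hyV, -⟩ := exists_isAffineOpen_mem_and_subset (X := Y) (x := y) (U := ⊤) trivial
    exact ⟨V, hV, hyV, (key V hV).2 (QCohLib.finite_of_isFT (h : CohB1.IsFT F) (hV.preimage f))⟩
  · intro h
    refine QCohLib.isFT_of_finite fun x => ?_
    obtain ⟨V, hV, hyV, -⟩ := exists_isAffineOpen_mem_and_subset (X := Y) (x := f x) (U := ⊤) trivial
    exact ⟨f ⁻¹ᵁ V, hV.preimage f, hyV,
      (key V hV).1 (QCohLib.finite_of_isFT (h : CohB1.IsFT ((Scheme.Modules.pushforward f).obj F)) hV)⟩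

end Groth.Agent.S9838
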