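import Groth.Statements.S9839
import Mathlib
-- import your own Groth.Agent.* helpers here

set_option autoImplicit false
open CategoryTheory CategoryTheory.Limits AlgebraicGeometry Opposite
universe u
open Desc

namespace Groth.Agent.S9839

/-- Let f i : T i ⟶ T be an fpqc covering family of a scheme T (a family in the fpqc precoverage) and W
i ⊆ T i open subsets such that for all i, j the inverse images of W i and W j under the two
projections of T i ×_T T j coincide. Then there is a unique open subset W ⊆ T with (f i)⁻¹(W) = W i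
for every i. -/
theorem result {ι : Type u} {T : Scheme.{u}} {Ti : ι → Scheme.{u}}
    (f : ∀ i, Ti i ⟶ T) (hf : Presieve.ofArrows Ti f ∈ Scheme.fpqcPrecoverage T)
    (W : ∀ i, (Ti i).Opens)
    (hW : ∀ i j, (pullback.fst (f i) (f j)) ⁻¹ᵁ (W i) = (pullback.snd (f i) (f j)) ⁻¹ᵁ (W j)) :
    ∃! V : T.Opens, ∀ i, (f i) ⁻¹ᵁ V = W i := by
  let E : PreZeroHypercover.{u} T := ⟨ι, Ti, f⟩
  have hqc : QuasiCompactCover E := Scheme.presieve₀_mem_qcPrecoverage_iff.1 (by
    show Presieve.ofArrows Ti f ∈ Scheme.qcPrecoverage T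
    exact hf.1)
  obtain ⟨hsurj, hflat⟩ := (Scheme.ofArrows_mem_precoverage_iff _).1 hf.2
  let S : Set T := ⋃ i, f i '' (W i : Set (Ti i))
  have hpre : ∀ i, f i ⁻¹' S = (W i : Set (Ti i)) := by
    intro i
    refine Set.Subset.antisymm ?_ fun x hx => Set.mem_iUnion.2 ⟨i, x, hx, rfl⟩
    intro x hx
    obtain ⟨j, y, hy, he⟩ := Set.mem_iUnion.1 hx
    obtain ⟨z, hz1, hz2⟩ := Scheme.Pullback.exists_preimage_pullback x y he.symm
    have hz : z ∈ pullback.snd (f i) (f j) ⁻¹ᵁ W j := show pullback.snd (f i) (f j) z ∈ W j from hz2 ▸ hy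
    rw [← hW i j] at hz
    exact hz1 ▸ (hz : pullback.fst (f i) (f j) z ∈ W i)
  have hSo : IsOpen S := by
    refine isOpen_iff_forall_mem_open.2 fun y hy => ?_
    obtain ⟨U, hU, hyU, -⟩ := exists_isAffineOpen_mem_and_subset (X := T) (x := y) (U := ⊤) trivial
    obtain ⟨n, a, V, hV, heq⟩ := QuasiCompactCover.exists_isAffineOpen_of_isCompact E hU.isCompact
    let a' : ULift.{u} (Fin n) → ι := fun j => a j.down
    let V' : ∀ j : ULift.{u} (Fin n), (Ti (a' j)).Opens := fun j => V j.down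
    have hVaff : ∀ j, IsAffine (V' j : Scheme) := fun j => hV j.down
    have hle : ∀ j, V' j ≤ f (a' j) ⁻¹ᵁ U := fun j x hx => by
      show f (a' j) x ∈ (U : Set T)
      rw [← heq]
      exact Set.mem_iUnion.2 ⟨j.down, x, hx, rfl⟩
    let g : (∐ fun j => (V' j : Scheme)) ⟶ U := Sigma.desc fun j => (f (a' j)).resLE U (V' j) (hle j)
    have hfl : ∀ j, Flat ((f (a' j)).resLE U (V' j) (hle j)) := fun j => by
      have : Flat (f (a' j)) := hflat _
      have : Flat ((f (a' j)).resLE U (V' j) (hle j) ≫ U.ι) := by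
        rw [Scheme.Hom.resLE_comp_ι]; infer_instance
      exact MorphismProperty.of_postcomp (W := @Flat) (W' := @IsOpenImmersion) _ U.ι inferInstance this
    have : Flat g := IsZariskiLocalAtSource.sigmaDesc hfl
    have : IsAffine (U : Scheme) := hU
    have : IsAffineHom g := inferInstance
    have hg : ∀ (j : ULift.{u} (Fin n)) (v : (V' j : Scheme)),
        U.ι (g (Sigma.ι (fun j => (V' j : Scheme)) j v)) = f (a' j) ((V' j).ι v) := fun j v => by
      rw [← Scheme.Hom.comp_apply, ← Scheme.Hom.comp_apply, Sigma.ι_desc_assoc, Scheme.Hom.resLE_comp_ι,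
        Scheme.Hom.comp_apply]
    have : Surjective g := ⟨fun u => by
      obtain ⟨j, x, hx, he⟩ := Set.mem_iUnion.1 ((Set.ext_iff.1 heq u.1).2 u.2)
      exact ⟨Sigma.ι (fun j => (V' j : Scheme)) ⟨j⟩ ⟨x, hx⟩,
        U.ι.isOpenEmbedding.injective ((hg ⟨j⟩ ⟨x, hx⟩).trans he)⟩⟩
    have h1 : IsOpen (g ⁻¹' (U.ι ⁻¹' S)) := by
      refine isOpen_iff_forall_mem_open.2 fun p hp => ?_
      obtain ⟨⟨j, v⟩, rfl⟩ := (sigmaMk fun j => (V' j : Scheme)).surjective p
      rw [sigmaMk_mk] at hp ⊢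
      refine ⟨Sigma.ι (fun j => (V' j : Scheme)) j '' ((V' j).ι ⁻¹' (W (a' j) : Set _)), ?_,
        (Sigma.ι (fun j => (V' j : Scheme)) j).isOpenEmbedding.isOpenMap _
          ((W (a' j)).2.preimage (V' j).ι.continuous), ⟨v, ?_, rfl⟩⟩
      · rintro _ ⟨w, hw, rfl⟩
        show U.ι (g _) ∈ S
        rw [hg]
        exact Set.mem_iUnion.2 ⟨_, _, hw, rfl⟩
      · have hp' : U.ι (g (Sigma.ι (fun j => (V' j : Scheme)) j v)) ∈ S := hp
        rw [hg] at hp'
        exact (Set.ext_iff.1 (hpre (a' j)) _).1 hp'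
    have h2 := (Flat.isQuotientMap_of_surjective g).isOpen_preimage.1 h1
    exact ⟨_, Set.image_preimage_subset U.ι S, U.ι.isOpenEmbedding.isOpenMap _ h2, ⟨y, hyU⟩, hy, rfl⟩
  refine ⟨⟨S, hSo⟩, fun i => TopologicalSpace.Opens.ext (hpre i), fun V' hV' => ?_⟩
  refine TopologicalSpace.Opens.ext (Set.ext fun t => ?_)
  obtain ⟨i, x, rfl⟩ := hsurj t
  exact (SetLike.ext_iff.1 (hV' i) x).trans (Set.ext_iff.1 (hpre i) x).symm

end Groth.Agent.S9839
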