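import Groth.Statements.S9842
import Mathlib.AlgebraicGeometry.Morphisms.UniversallyOpen
-- import your own Groth.Agent.* helpers here

set_option autoImplicit false
open CategoryTheory CategoryTheory.Limits AlgebraicGeometry Opposite
universe u
open Desc

namespace Groth.Agent.S9842

open CategoryTheory CategoryTheory.Limits AlgebraicGeometry

/-- Let E/k be a field extension, Y a scheme over k and f : X ⟶ Y a morphism. Writing Y_E = Y ×_k Spec
E, the morphism f is dominant if and only if its base change X ×_Y Y_E ⟶ Y_E is dominant. -/
theorem result {k E : Type u} [Field k] [Field E] [Algebra k E]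
    {X Y : Scheme.{u}} (f : X ⟶ Y) (q : Y ⟶ Spec (.of k)) :
    IsDominant f ↔
      IsDominant (pullback.snd f (pullback.fst q (Spec.map (CommRingCat.ofHom (algebraMap k E))))) := by
  let i := Spec.map (CommRingCat.ofHom (algebraMap k E))
  let p := pullback.fst q i
  haveI : Surjective i := ⟨fun _ => ⟨IsLocalRing.closedPoint E, Subsingleton.elim _ _⟩⟩
  haveI : UniversallyOpen i := inferInstance
  have hr : Set.range (pullback.snd f p) = p ⁻¹' Set.range f := Scheme.Pullback.range_snd f p
  simp only [isDominant_iff, DenseRange]
  constructor
  · intro h
    rw [hr]
    exact h.preimage p.isOpenMap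
  · intro h
    rw [hr] at h
    exact (p.surjective.denseRange.dense_image p.continuous h).mono
      (Set.image_preimage_subset _ _)

end Groth.Agent.S9842
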