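import Groth.Statements.S9843
import Mathlib
-- import your own Groth.Agent.* helpers here

set_option autoImplicit false
open CategoryTheory CategoryTheory.Limits AlgebraicGeometry Opposite
universe u
open Desc

namespace Groth.Agent.S9843

theorem isOpenMap_of_mem {X : Scheme.{u}} {R : Presieve X} (hR : R ∈ Scheme.fppfPrecoverage X) {U : Scheme.{u}}
    {g : U ⟶ X} (hg : R g) : Flat g ∧ UniversallyOpen g := by
  obtain ⟨h1, h2⟩ : Flat g ∧ LocallyOfFinitePresentation g := hR.2 hg
  exact ⟨h1, inferInstance⟩

theorem exists_mem {X : Scheme.{u}} {R : Presieve X} (hR : R ∈ Scheme.fppfPrecoverage X) (x : X) :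
    ∃ (U : Scheme.{u}) (g : U ⟶ X), R g ∧ x ∈ Set.range g := by
  obtain ⟨E, rfl⟩ := Precoverage.mem_iff_exists_zeroHypercover.1 hR
  obtain ⟨i, hi⟩ := (Scheme.presieve₀_mem_precoverage_iff _).1 E.mem₀ |>.1 x
  exact ⟨_, E.f i, ⟨i⟩, hi⟩

/-- Being dominant is fppf local on the base: for every fppf covering family Y i ⟶ Y (flat, locally of
finite presentation, jointly surjective), a morphism X ⟶ Y is dominant if and only if all its base
changes X ×_Y Y i ⟶ Y i are. -/
theorem result :
    MorphismProperty.IsLocalAtTarget (@IsDominant : MorphismProperty Scheme.{u}) Scheme.fppfPrecoverage := by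
  have : MorphismProperty.RespectsIso (@IsDominant : MorphismProperty Scheme.{u}) := inferInstance
  constructor
  · intro X Y f R U g hR hg hf _
    have := (isOpenMap_of_mem hR hg).2
    refine ⟨fun x => ?_⟩
    have h1 : x ∈ closure (g ⁻¹' Set.range f) := by
      rw [← g.isOpenMap.preimage_closure_eq_closure_preimage g.continuous]
      exact (show IsDominant f from hf).denseRange (g x)
    refine closure_mono ?_ h1
    rintro u ⟨y, hy⟩
    obtain ⟨z, -, hz⟩ := Scheme.Pullback.exists_preimage_pullback y u hy
    exact ⟨z, hz⟩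
  · intro X Y f R hR h
    refine ⟨fun x => ?_⟩
    obtain ⟨U, g, hg, u, rfl⟩ := exists_mem hR x
    have hu := (h hg).denseRange u
    refine closure_mono ?_ (image_closure_subset_closure_image g.continuous ⟨u, hu, rfl⟩)
    rintro _ ⟨_, ⟨z, rfl⟩, rfl⟩
    exact ⟨pullback.fst f g z, by rw [← Scheme.Hom.comp_apply, pullback.condition, Scheme.Hom.comp_apply]⟩

end Groth.Agent.S9843
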