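import Groth.Statements.S9846
import Mathlib
-- import your own Groth.Agent.* helpers here

set_option autoImplicit false
open CategoryTheory CategoryTheory.Limits AlgebraicGeometry Opposite
universe u
open Desc

namespace Groth.Agent.S9846

theorem isOpenMap_of_mem {X : Scheme.{u}} {R : Presieve X} (hR : R ∈ Scheme.fppfPrecoverage X) {U : Scheme.{u}}
    {g : U ⟶ X} (hg : R g) : Flat g ∧ UniversallyOpen g := by
  obtain ⟨h1, h2⟩ : Flat g ∧ LocallyOfFinitePresentation g := hR.2 hg
  exact ⟨h1, inferInstance⟩

theorem exists_mem {X : Scheme.{u}} {R : Presieve X} (hR : R ∈ Scheme.fppfPrecoverage X) (x : X) :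
    ∃ (U : Scheme.{u}) (g : U ⟶ X), R g ∧ x ∈ Set.range g := by
  obtain ⟨E, rfl⟩ := Precoverage.mem_iff_exists_zeroHypercover.1 hR
  obtain ⟨i, hi⟩ := (Scheme.presieve₀_mem_precoverage_iff _).1 E.mem₀ |>.1 x
  exact ⟨_, E.f i, ⟨i⟩, hi⟩

/-- Being universally open is fppf local on the source: for every fppf covering family g i : X i ⟶ X, a
morphism f : X ⟶ Y is universally open if and only if every composite g i ≫ f is. -/
theorem result :
    MorphismProperty.IsLocalAtSource (@UniversallyOpen : MorphismProperty Scheme.{u}) Scheme.fppfPrecoverage := by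
  constructor
  · intro X Y f R hR U g hg hf
    have := (isOpenMap_of_mem hR hg).2
    infer_instance
  · intro X Y f R hR h
    refine ⟨MorphismProperty.universally_mk' _ _ fun {T} t _ => ?_⟩
    intro O hO
    refine isOpen_iff_forall_mem_open.2 ?_
    rintro _ ⟨p, hp, rfl⟩
    obtain ⟨U, g, hg, u₀, hu₀⟩ := exists_mem hR (pullback.snd t f p)
    have : UniversallyOpen (g ≫ f) := h hg
    let q : pullback t (g ≫ f) ⟶ pullback t f := pullback.lift (pullback.fst _ _) (pullback.snd _ _ ≫ g)
      (by rw [pullback.condition, Category.assoc])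
    have hsq : IsPullback (pullback.snd t (g ≫ f)) q g (pullback.snd t f) := by
      have h0 := (IsPullback.of_hasPullback t (g ≫ f)).flip
      refine IsPullback.of_bot (v₂₁ := pullback.fst t f) ?_ (pullback.lift_snd _ _ _).symm
        (IsPullback.of_hasPullback t f).flip
      rwa [show q ≫ pullback.fst t f = pullback.fst t (g ≫ f) from pullback.lift_fst _ _ _]
    obtain ⟨z, -, hz2⟩ := Scheme.Pullback.exists_preimage_pullback u₀ p hu₀
    let z' := hsq.isoPullback.inv z
    have hz' : q z' = p := by
      show q (hsq.isoPullback.inv z) = p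
      rw [← Scheme.Hom.comp_apply, hsq.isoPullback_inv_snd]
      exact hz2
    have hq : ∀ w, pullback.fst t (g ≫ f) w = pullback.fst t f (q w) := fun w => by
      rw [← Scheme.Hom.comp_apply, show q ≫ pullback.fst t f = pullback.fst t (g ≫ f) from pullback.lift_fst _ _ _]
    refine ⟨pullback.fst t (g ≫ f) '' (q ⁻¹' O), ?_,
      (pullback.fst t (g ≫ f)).isOpenMap _ (hO.preimage q.continuous), ⟨z', ?_, ?_⟩⟩
    · rintro _ ⟨w, hw, rfl⟩
      exact ⟨q w, hw, (hq w).symm⟩
    · show q z' ∈ O
      rw [hz']; exact hp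
    · rw [hq, hz']

end Groth.Agent.S9846
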