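import Groth.Statements.S9849
import Groth.Agent.RegImmKindLib.H1Descent
import Groth.Agent.KRLib.ImmFlat

set_option autoImplicit false
open CategoryTheory CategoryTheory.Limits AlgebraicGeometry Opposite
universe u
open RegImm

namespace Groth.Agent.S9849

/-- Being a Koszul-regular, H_1-regular or quasi-regular immersion is fpqc local on the base; the
descent direction for a single flat surjective quasi-compact base change g : X' ⟶ X: if i : Z ⟶ X is
an immersion whose base change Z ×_X X' ⟶ X' is a regular immersion of kind k (k Koszul, H_1 or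
quasi, not the plain regular-sequence kind), then i is a regular immersion of kind k. (This row
assumes from the start that i is an immersion and descends only the regularity of the defining
ideal; descent of the immersion property itself along such a base change is known for quasi-compact
immersions and is not asserted here.) -/
theorem result {Z X X' : Scheme.{u}} (i : Z ⟶ X) [IsImmersion i] (g : X' ⟶ X)
    [Flat g] [Surjective g] [QuasiCompact g] (k : RegImm.Kind) (hk : k ≠ RegImm.Kind.regular)
    (h : RegImm.IsRegularImmersion k (pullback.snd i g)) :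
    RegImm.IsRegularImmersion k i := by
  refine ⟨inferInstance, fun z => ?_⟩
  obtain ⟨U, hU, hzU, hUc⟩ := exists_isAffineOpen_mem_and_subset
    (show i z ∈ i.coborderRange from subset_coborder ⟨z, rfl⟩)
  obtain ⟨hUY, hs⟩ := KRLib.data_of_le_coborderRange i hU hUc
  refine RegImmKindLib.isRegularImmersionAt_of_locK hk hU hUY hs ?_ z hzU
  obtain ⟨t, htfin, htcov⟩ := (isCompact_iff_finite_and_eq_biUnion_affineOpens (U := g ⁻¹ᵁ U)).mp
    (QuasiCompact.isCompact_preimage (f := g) U U.isOpen hU.isCompact)
  have : Finite t := htfin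
  have hWU : ∀ W : t, W.1.1 ≤ g ⁻¹ᵁ U := fun W => by
    rw [htcov]; exact le_iSup₂_of_le W.1 W.2 le_rfl
  letI : ∀ W : t, Algebra Γ(X, U) Γ(X', W.1.1) := fun W => (g.appLE U W.1.1 (hWU W)).hom.toAlgebra
  haveI : ∀ W : t, Module.Flat Γ(X, U) Γ(X', W.1.1) := fun W => g.flat_appLE hU W.1.2 (hWU W)
  refine RegImmKindLib.LocK.of_jointly hk (fun W : t => Γ(X', W.1.1)) ?_ ?_
  · intro p
    obtain ⟨s, hs⟩ := ‹Surjective g›.surj (hU.fromSpec p)
    have hsU : g s ∈ U := by
      rw [hs, ← SetLike.mem_coe, ← hU.range_fromSpec]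
      exact ⟨p, rfl⟩
    have hsW : s ∈ g ⁻¹ᵁ U := hsU
    rw [htcov] at hsW
    simp only [TopologicalSpace.Opens.mem_iSup] at hsW
    obtain ⟨W, hWt, hsW⟩ := hsW
    obtain ⟨q, hq⟩ : ∃ q, W.2.fromSpec q = s := by
      rw [← Set.mem_range, W.2.range_fromSpec]; exact hsW
    refine ⟨⟨W, hWt⟩, q, hU.fromSpec.isOpenEmbedding.injective ?_⟩
    have e := IsAffineOpen.SpecMap_appLE_fromSpec g hU W.2 (hWU ⟨W, hWt⟩)
    have h2 := congrArg (fun φ : Spec Γ(X', W.1) ⟶ X => φ q) e
    simp only [Scheme.Hom.comp_apply] at h2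
    rw [hq, hs] at h2
    exact h2
  · intro W
    obtain ⟨h1, h2, h3⟩ := KRLib.baseChange_data (IsPullback.of_hasPullback i g) hU hUY hs W.1.2 (hWU W)
    have := RegImmKindLib.locK_ker_of_forall hk h.2 W.1.2 h1 h2
    rw [h3] at this
    exact this

end Groth.Agent.S9849
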