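import Groth.Statements.S9852
import Mathlib

set_option autoImplicit false
open CategoryTheory CategoryTheory.Limits AlgebraicGeometry Opposite
universe u
open Desc

namespace Groth.Agent.S9852

set_option backward.isDefEq.respectTransparency false
set_option backward.isDefEq.respectTransparency.types false

/-- Let g : X ⟶ X' be a morphism of schemes over S, with structure morphisms a : X ⟶ S and a' : X' ⟶ S,
and assume a is surjective and flat. Then the pullback functor along g, from descent data for
schemes relative to X' ⟶ S to descent data relative to X ⟶ S, is faithful. (Descent data relative to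
a single morphism are written as descent data relative to the corresponding one-member family.) -/
theorem result {X X' S : Scheme.{u}} (a : X ⟶ S) (a' : X' ⟶ S) (g : X ⟶ X')
    (h : g ≫ a' = a) [Surjective a] [Flat a] :
    (Desc.pullDDFam (f := fun _ : PUnit.{u + 1} => a') (f' := fun _ : PUnit.{u + 1} => a) (α := fun j => j)
        (p := 𝟙 S) (p' := fun _ => g) (fun _ => (h).trans (Category.comp_id a).symm)).Faithful := by
  refine ⟨fun {D D'} α β e => ?_⟩
  ext j : 2
  refine Over.OverMorphism.ext ?_
  let x := (D.obj j).hom
  let q := pullback.fst (x ≫ a') a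
  let r := pullback.snd (x ≫ a') a
  haveI : Surjective q := MorphismProperty.pullback_fst _ _ ‹_›
  haveI : Flat q := MorphismProperty.pullback_fst _ _ ‹_›
  haveI := Flat.epi_of_flat_of_surjective q
  have hc : (q ≫ x) ≫ a' = (r ≫ g) ≫ a' := by
    rw [Category.assoc, Category.assoc, h]
    exact pullback.condition
  let v : Desc.Lifts (D.obj j) (q ≫ x) := ⟨q, rfl⟩
  let u : Desc.Lifts (D.obj j) (r ≫ g) := D.φ (q ≫ x) (r ≫ g) hc v
  have hu : u.1 ≫ (α.hom j).left = u.1 ≫ (β.hom j).left := by
    let l : pullback (x ≫ a') a ⟶ pullback x g := pullback.lift u.1 r u.2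
    have e1 := congrArg (fun k => l ≫ (k.hom j).left ≫ pullback.fst (D'.obj j).hom g) e
    simpa [l, x, Desc.pullDDFam, Desc.pullDDFamObj] using e1
  have key : α.push v = β.push v := (D'.φ (q ≫ x) (r ≫ g) hc (j := j)).injective (Subtype.ext ?_)
  · rw [← cancel_epi q]
    exact congrArg Subtype.val key
  · rw [α.comm _ _ hc v (α.push v) rfl, β.comm _ _ hc v (β.push v) rfl]
    exact hu

end Groth.Agent.S9852
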