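import Groth.Statements.S9857
import Groth.Agent.FibDimLib.Comps


-- import your own Groth.Agent.* helpers here

set_option autoImplicit false
open CategoryTheory CategoryTheory.Limits AlgebraicGeometry Opposite
universe u
open Desc

namespace Groth.Agent.S9857

/-- The property of a morphism being locally of finite type with relative dimension d may be checked
fpqc locally on the target; the descent direction for the dimension condition, stated for a single
flat surjective quasi-compact base change g : Y' ⟶ Y of a morphism f : X ⟶ Y locally of finite type
and a cartesian square with base change f' : X' ⟶ Y': if every irreducible component of every fibre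
of f' has dimension d, then every irreducible component of every fibre of f has dimension d. (Local
finite type itself descends along g by a separate result; stability under base change is the other
direction.) -/
theorem result {X Y X' Y' : Scheme.{u}} (f : X ⟶ Y) [LocallyOfFiniteType f] (g : Y' ⟶ Y)
    [Flat g] [Surjective g] [QuasiCompact g] (g' : X' ⟶ X) (f' : X' ⟶ Y') (hsq : IsPullback g' f' f g)
    (d : ℕ) (h : Cyc.HasRelDim f' d) : Cyc.HasRelDim f d := by
  haveI : LocallyOfFiniteType f' := MorphismProperty.of_isPullback hsq ‹LocallyOfFiniteType f›
  intro y T hT
  obtain ⟨z, -, hd⟩ := @FibDimLib.exists_generic_of_component (Y.residueField y) _ _ (f.fiberToSpecResidueField y) (UOpenLib.lft_fiberToSpec f y) _ hT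
  have hy : f.base ((f.fiberι y).base z) = y := by
    have h := Set.mem_range_self (f := (f.fiberι y).base) z
    rw [Scheme.Hom.range_fiberι] at h
    exact h
  obtain ⟨y', hy'⟩ := g.surjective y
  obtain ⟨x', hx', hx''⟩ := Scheme.exists_preimage_of_isPullback hsq ((f.fiberι y).base z) y' (hy.trans hy'.symm)
  rw [← hd, ← FibDimLib.fibreDimAt_fiberι, ← hx', ← FibDimLib.fibreDimAt_baseChange hsq, FlatMor.fibreDimAt]
  obtain ⟨g₀, hg₀, -, hd₀⟩ := @FibDimLib.exists_generic_localDim _ _ _ _
    (UOpenLib.lft_fiberToSpec f' _) (f'.asFiber x')
  rw [hd₀]
  exact h _ _ hg₀

end Groth.Agent.S9857
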