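import Groth.Statements.S9859
import Mathlib

set_option autoImplicit false
open CategoryTheory CategoryTheory.Limits AlgebraicGeometry Opposite
universe u
open Desc

namespace Groth.Agent.S9859

open TopologicalSpace

variable (P : MorphismProperty Scheme.{u}) [MorphismProperty.IsLocalAtTarget P Scheme.fppfPrecoverage]

theorem of_family {ι : Type u} {A W : Scheme.{u}} (f : A ⟶ W) {T : ι → Scheme.{u}} (g : ∀ i, T i ⟶ W)
    (hs : ∀ x, ∃ i, x ∈ Set.range (g i)) (hp : ∀ i, Flat (g i) ∧ LocallyOfFinitePresentation (g i)) :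
    (∀ i, P (pullback.snd f (g i))) ↔ P f := by
  have hR : Presieve.ofArrows T g ∈ Scheme.fppfPrecoverage W :=
    (Scheme.ofArrows_mem_precoverage_iff (P := @Flat ⊓ @LocallyOfFinitePresentation)).2 ⟨hs, hp⟩
  exact ⟨fun h => MorphismProperty.IsLocalAtTarget.of_forall_pullbackSnd hR (by rintro _ _ _ ⟨i⟩; exact h i),
    fun h i => MorphismProperty.IsLocalAtTarget.pullbackSnd hR ⟨i⟩ h⟩

theorem desc {A T W : Scheme.{u}} (f : A ⟶ W) (g : T ⟶ W) [Surjective g] [Flat g] [LocallyOfFinitePresentation g]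
    (h : P (pullback.snd f g)) : P f :=
  (of_family P f (ι := PUnit.{u + 1}) (fun _ => g) (fun x => ⟨⟨⟩, g.surjective x⟩)
    fun _ => ⟨inferInstance, inferInstance⟩).1 fun _ => h

theorem bc {A T W : Scheme.{u}} (f : A ⟶ W) (g : T ⟶ W) [Flat g] [LocallyOfFinitePresentation g]
    (h : P f) : P (pullback.snd f g) := by
  let Z : ULift.{u} Bool → Scheme.{u} := fun b => if b.down then T else W
  let m : ∀ b, Z b ⟶ W := fun b => match b with
    | ⟨true⟩ => g
    | ⟨false⟩ => 𝟙 W
  refine (of_family P f m (fun x => ⟨⟨false⟩, ⟨x, rfl⟩⟩) ?_).2 h ⟨true⟩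
  rintro ⟨_ | _⟩
  · exact ⟨inferInstanceAs (Flat (𝟙 W)), inferInstanceAs (LocallyOfFinitePresentation (𝟙 W))⟩
  · exact ⟨inferInstanceAs (Flat g), inferInstanceAs (LocallyOfFinitePresentation g)⟩

theorem transfer {A B T : Scheme.{u}} (f : A ⟶ B) (W : B.Opens) (g : T ⟶ W) :
    P (pullback.snd (f ∣_ W) g) ↔ P (pullback.snd f (g ≫ W.ι)) := by
  have h := (IsPullback.of_hasPullback (f ∣_ W) g).paste_horiz (isPullback_morphismRestrict f W).flip
  rw [← h.isoPullback_hom_snd, P.cancel_left_of_respectsIso]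

theorem restrict_iff {A B : Scheme.{u}} (f : A ⟶ B) (W : B.Opens) : P (f ∣_ W) ↔ P (pullback.snd f W.ι) := by
  rw [← (isPullback_morphismRestrict f W).flip.isoPullback_hom_snd, P.cancel_left_of_respectsIso]

theorem range_le {X Y : Scheme.{u}} (f : X ⟶ Y) (W : Y.Opens) (hmax : ∀ W₀ : Y.Opens, P (f ∣_ W₀) → W₀ ≤ W)
    {T : Scheme.{u}} (g : T ⟶ Y) [Flat g] [LocallyOfFinitePresentation g] (h : P (pullback.snd f g)) :
    Set.range g ⊆ W := by
  let V : Y.Opens := ⟨Set.range g, g.isOpenMap.isOpen_range⟩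
  let g' : T ⟶ V := IsOpenImmersion.lift V.ι g (by simp [V])
  have hg' : g' ≫ V.ι = g := IsOpenImmersion.lift_fac _ _ _
  haveI : Flat (g' ≫ V.ι) := hg'.symm ▸ inferInstance
  haveI : LocallyOfFinitePresentation (g' ≫ V.ι) := hg'.symm ▸ inferInstance
  haveI : Flat g' := MorphismProperty.of_postcomp @Flat g' V.ι (W' := @IsOpenImmersion) inferInstance inferInstance
  haveI : LocallyOfFinitePresentation g' :=
    MorphismProperty.of_postcomp @LocallyOfFinitePresentation g' V.ι (W' := @IsOpenImmersion) inferInstance inferInstance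
  haveI : Surjective g' := ⟨fun v => by
    obtain ⟨t, ht⟩ := v.2
    exact ⟨t, V.ι.isOpenEmbedding.injective ((congr($(hg') t)).trans ht)⟩⟩
  refine hmax V (desc P (f ∣_ V) g' ?_)
  rw [transfer P, hg']
  exact h

/-- Case τ = fppf: let P be a property of morphisms of schemes which is fppf local on the base and f : X
⟶ Y a morphism. There is a largest open W of Y such that the restriction of f over W has P;
moreover, first, if g : Y' ⟶ Y is flat and locally of finite presentation and the base change of f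
to Y' has P, then the image of g lies in W; and second, for such g the largest open of Y' over which
the base change of f has P is exactly g⁻¹(W). -/
theorem result (P : MorphismProperty Scheme.{u})
    [MorphismProperty.IsLocalAtTarget P Scheme.fppfPrecoverage] {X Y : Scheme.{u}} (f : X ⟶ Y) :
    ∃ W : Y.Opens, P (f ∣_ W) ∧ (∀ W₀ : Y.Opens, P (f ∣_ W₀) → W₀ ≤ W) ∧
      (∀ (Y' : Scheme.{u}) (g : Y' ⟶ Y), Flat g → LocallyOfFinitePresentation g →
        P (pullback.snd f g) → Set.range g.base ⊆ (W : Set Y)) ∧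
      (∀ (Y' : Scheme.{u}) (g : Y' ⟶ Y), Flat g → LocallyOfFinitePresentation g →
        ∀ W' : Y'.Opens, P (pullback.snd f g ∣_ W') → (∀ W₀ : Y'.Opens, P (pullback.snd f g ∣_ W₀) → W₀ ≤ W') →
          W' = g ⁻¹ᵁ W) := by
  let W : Y.Opens := sSup {W₀ | P (f ∣_ W₀)}
  have hmax : ∀ W₀ : Y.Opens, P (f ∣_ W₀) → W₀ ≤ W := fun W₀ h => le_sSup h
  have hW : P (f ∣_ W) := by
    refine (of_family P (f ∣_ W) (fun i : {W₀ : Y.Opens // P (f ∣_ W₀)} => Y.homOfLE (hmax i.1 i.2))
      (fun x => ?_) fun i => ⟨inferInstance, inferInstance⟩).1 fun i => ?_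
    · obtain ⟨W₀, hW₀, hx⟩ := TopologicalSpace.Opens.mem_sSup.1 (show x.1 ∈ sSup {W₀ | P (f ∣_ W₀)} from x.2)
      exact ⟨⟨W₀, hW₀⟩, ⟨x.1, hx⟩, W.ι.isOpenEmbedding.injective (by simp)⟩
    · rw [transfer P, Scheme.homOfLE_ι, ← restrict_iff P]
      exact i.2
  refine ⟨W, hW, hmax, fun T g _ _ h => range_le P f W hmax g h, fun T g _ _ W' hW' hmax' => le_antisymm ?_ ?_⟩
  · intro t ht
    refine range_le P f W hmax (W'.ι ≫ g) ?_ ⟨⟨t, ht⟩, rfl⟩
    have h := (isPullback_morphismRestrict (pullback.snd f g) W').flip.paste_horiz (IsPullback.of_hasPullback f g)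
    rwa [← P.cancel_left_of_respectsIso h.isoPullback.hom, h.isoPullback_hom_snd]
  · refine hmax' _ ?_
    rw [restrict_iff P]
    have h1 : P (pullback.snd (f ∣_ W) (g ∣_ W)) := by
      haveI : Flat (g ∣_ W) := IsZariskiLocalAtTarget.restrict (P := @Flat) ‹_› W
      haveI : LocallyOfFinitePresentation (g ∣_ W) :=
        IsZariskiLocalAtTarget.restrict (P := @LocallyOfFinitePresentation) ‹_› W
      exact bc P _ _ hW
    rw [transfer P, morphismRestrict_ι] at h1
    have h := (IsPullback.of_hasPullback (pullback.snd f g) (g ⁻¹ᵁ W).ι).paste_horiz (IsPullback.of_hasPullback f g)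
    rwa [← h.isoPullback_hom_snd, P.cancel_left_of_respectsIso]

end Groth.Agent.S9859
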