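import Groth.Statements.S9860
import Mathlib.CategoryTheory.Sites.EffectiveEpimorphic
import Mathlib.AlgebraicGeometry.Gluing

set_option autoImplicit false
set_option linter.all false
open CategoryTheory CategoryTheory.Limits AlgebraicGeometry Opposite
universe u
open Desc

namespace Groth.Agent.S9860

lemma isSheafFor_of_affine {X : Scheme.{u}} (S : Sieve X) (W : Scheme.{u})
    (h : ∀ (Y : Scheme.{u}) (g : Y ⟶ X), IsAffine Y →
      Presieve.IsSheafFor (yoneda.obj W) (S.pullback g : Presieve Y))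
    {Y : Scheme.{u}} (g : Y ⟶ X) :
    Presieve.IsSheafFor (yoneda.obj W) (S.pullback g : Presieve Y) := by
  have sep : ∀ {Z : Scheme.{u}} (k : Z ⟶ X) (a b : Z ⟶ W),
      (∀ {T : Scheme.{u}} (q : T ⟶ Z), S.arrows (q ≫ k) → q ≫ a = q ≫ b) → a = b := by
    intro Z k a b hab
    refine Scheme.Cover.hom_ext Z.affineCover _ _ fun j => ?_
    refine ((h (Z.affineCover.X j) (Z.affineCover.f j ≫ k) inferInstance).isSeparatedFor).ext ?_
    intro T q hq
    have hq' : S.arrows ((q ≫ Z.affineCover.f j) ≫ k) := by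
      simpa [Category.assoc] using hq
    have := hab _ hq'
    simpa [Category.assoc] using this
  intro x hx
  let 𝒰 := Y.affineCover
  let y : ∀ j, Presieve.FamilyOfElements (yoneda.obj W)
      (S.pullback (𝒰.f j ≫ g) : Presieve (𝒰.X j)) :=
    fun j T q hq => x (q ≫ 𝒰.f j)
      (show S.arrows ((q ≫ 𝒰.f j) ≫ g) by simpa [Category.assoc] using hq)
  have hy : ∀ j, (y j).Compatible := fun j T₁ T₂ Z g₁ g₂ f₁ f₂ h₁ h₂ hh =>
    hx g₁ g₂ _ _ (by simp [reassoc_of% hh])
  choose t ht _ using fun j => h (𝒰.X j) (𝒰.f j ≫ g) inferInstance (y j) (hy j)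
  have ht' : ∀ j {T : Scheme.{u}} (q : T ⟶ 𝒰.X j) (hq : S.arrows ((q ≫ 𝒰.f j) ≫ g)),
      q ≫ (show 𝒰.X j ⟶ W from t j) = x (q ≫ 𝒰.f j) hq := fun j T q hq =>
    ht j q (by simpa [Category.assoc] using hq)
  have hglue : ∀ i j, pullback.fst (𝒰.f i) (𝒰.f j) ≫ (show 𝒰.X i ⟶ W from t i) =
      pullback.snd _ _ ≫ (show 𝒰.X j ⟶ W from t j) := by
    intro i j
    refine sep ((pullback.fst (𝒰.f i) (𝒰.f j) ≫ 𝒰.f i) ≫ g) _ _ fun {T} q hq => ?_
    have h₁ : S.arrows (((q ≫ pullback.fst (𝒰.f i) (𝒰.f j)) ≫ 𝒰.f i) ≫ g) := by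
      simpa [Category.assoc] using hq
    have h₂ : S.arrows (((q ≫ pullback.snd (𝒰.f i) (𝒰.f j)) ≫ 𝒰.f j) ≫ g) := by
      simpa [Category.assoc, ← pullback.condition_assoc] using hq
    have e : (q ≫ pullback.fst (𝒰.f i) (𝒰.f j)) ≫ 𝒰.f i =
        (q ≫ pullback.snd (𝒰.f i) (𝒰.f j)) ≫ 𝒰.f j := by
      simp [pullback.condition]
    rw [← Category.assoc, ← Category.assoc, ht' i _ h₁, ht' j _ h₂]
    congr 1
  refine ⟨Scheme.Cover.glueMorphisms 𝒰 _ hglue, ?_, ?_⟩
  · intro Z q hq
    change q ≫ _ = x q hq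
    refine Scheme.Cover.hom_ext (𝒰.pullback₁ q) _ _ fun j => ?_
    change pullback.fst q (𝒰.f j) ≫ q ≫ _ = pullback.fst q (𝒰.f j) ≫ (show Z ⟶ W from x q hq)
    rw [← Category.assoc, pullback.condition, Category.assoc, Scheme.Cover.ι_glueMorphisms]
    have hq' : S.arrows ((pullback.snd q (𝒰.f j) ≫ 𝒰.f j) ≫ g) := by
      rw [← pullback.condition, Category.assoc]
      exact S.downward_closed hq _
    rw [ht' j _ hq']
    have hh := hx (𝟙 (pullback q (𝒰.f j))) (pullback.fst q (𝒰.f j)) hq' hq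
      (by simp [pullback.condition])
    simpa using hh
  · intro t' ht''
    refine sep g _ _ fun {T} q hq => ?_
    refine (ht'' q hq).trans (Eq.symm ?_)
    refine Scheme.Cover.hom_ext (𝒰.pullback₁ q) _ _ fun j => ?_
    change pullback.fst q (𝒰.f j) ≫ q ≫ _ = pullback.fst q (𝒰.f j) ≫ (show T ⟶ W from x q hq)
    rw [← Category.assoc, pullback.condition, Category.assoc, Scheme.Cover.ι_glueMorphisms]
    have hq' : S.arrows ((pullback.snd q (𝒰.f j) ≫ 𝒰.f j) ≫ g) := by
      rw [← pullback.condition, Category.assoc]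
      exact S.downward_closed hq _
    rw [ht' j _ hq']
    have hh := hx (𝟙 (pullback q (𝒰.f j))) (pullback.fst q (𝒰.f j)) hq' hq
      (by simp [pullback.condition])
    simpa using hh

/-- Consider morphisms of schemes f i : X i ⟶ X indexed by i. Suppose that, whenever Y is an affine
scheme and g : Y ⟶ X is a morphism, the sieve on Y obtained by pulling back along g (generated by
the base changes X i ×_X Y ⟶ Y) is effective epimorphic. Then the pulled-back sieve along every
morphism Y ⟶ X of schemes is effective epimorphic; in other words, within schemes the family forms a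
universal effective epimorphism. -/
theorem result {ι : Type u} {X : Scheme.{u}} {Xi : ι → Scheme.{u}} (f : ∀ i, Xi i ⟶ X)
    (h : ∀ (Y : Scheme.{u}) (g : Y ⟶ X), IsAffine Y → ((Sieve.ofArrows Xi f).pullback g).EffectiveEpimorphic)
    {Y : Scheme.{u}} (g : Y ⟶ X) : ((Sieve.ofArrows Xi f).pullback g).EffectiveEpimorphic := by
  refine (Sieve.forallYonedaIsSheaf_iff_colimit _).mp fun W => ?_
  exact isSheafFor_of_affine (Sieve.ofArrows Xi f) W
    (fun Y g hY => (Sieve.forallYonedaIsSheaf_iff_colimit _).mpr (h Y g hY) W) g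

end Groth.Agent.S9860
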