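import Groth.Statements.S9864
import Mathlib

set_option autoImplicit false
open CategoryTheory CategoryTheory.Limits AlgebraicGeometry Opposite
universe u
open Desc

namespace Groth.Agent.S9864

set_option backward.isDefEq.respectTransparency false
set_option backward.isDefEq.respectTransparency.types false

noncomputable section

variable {X S : Scheme.{u}} (a : X ⟶ S) (f : X ⟶ X) (h : f ≫ a = a)

abbrev F := Desc.pullDDFam (f := fun _ : PUnit.{u + 1} => a) (f' := fun _ : PUnit.{u + 1} => a) (α := fun j => j)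
    (p := 𝟙 S) (p' := fun _ => f) (fun _ => (h).trans (Category.comp_id a).symm)

variable (D : Desc.SchDDFam (fun _ : PUnit.{u + 1} => a))

include h in
theorem agree {T : Scheme.{u}} (x : T ⟶ X) : (x ≫ f) ≫ a = x ≫ a := by rw [Category.assoc, h]

/-- Move a point. -/
def mv {T : Scheme.{u}} (j : PUnit.{u + 1}) (x : T ⟶ X) (u : Desc.Lifts (D.obj j) (x ≫ f)) :
    Desc.Lifts (D.obj j) x := D.φ (x ≫ f) x (agree a f h x) u

/-- The component. -/
def toHom (j : PUnit.{u + 1}) : pullback (D.obj j).hom f ⟶ (D.obj j).left :=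
  (mv a f h D j (pullback.snd _ _) ⟨pullback.fst _ _, pullback.condition⟩).1

theorem comp_toHom {T : Scheme.{u}} (j : PUnit.{u + 1}) (x : T ⟶ X) (v : T ⟶ pullback (D.obj j).hom f)
    (hv : v ≫ pullback.snd _ _ = x) (u : Desc.Lifts (D.obj j) (x ≫ f)) (hu : u.1 = v ≫ pullback.fst _ _) :
    v ≫ toHom a f h D j = (mv a f h D j x u).1 :=
  (D.φ_natural v _ _ (agree a f h _) (x ≫ f) x (by rw [← Category.assoc, hv]) hv (agree a f h x)
    ⟨pullback.fst _ _, pullback.condition⟩ u hu).symm

/-- The inverse component. -/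
def invHom (j : PUnit.{u + 1}) : (D.obj j).left ⟶ pullback (D.obj j).hom f :=
  pullback.lift (D.φ (D.obj j).hom ((D.obj j).hom ≫ f) (agree a f h _).symm ⟨𝟙 _, Category.id_comp _⟩).1
    (D.obj j).hom (D.φ _ _ _ _).2

theorem toHom_hom (j : PUnit.{u + 1}) : toHom a f h D j ≫ (D.obj j).hom = pullback.snd _ _ :=
  (mv a f h D j _ _).2

theorem toHom_invHom (j : PUnit.{u + 1}) : toHom a f h D j ≫ invHom a f h D j = 𝟙 _ := by
  refine pullback.hom_ext ?_ ?_
  · rw [Category.assoc, invHom, pullback.lift_fst, Category.id_comp]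
    let u : Desc.Lifts (D.obj j) (pullback.snd (D.obj j).hom f ≫ f) := ⟨pullback.fst _ _, pullback.condition⟩
    refine (D.φ_natural (toHom a f h D j) _ _ _ (pullback.snd _ _) (pullback.snd _ _ ≫ f) (toHom_hom a f h D j)
      (by rw [← Category.assoc, toHom_hom]) (agree a f h _).symm ⟨𝟙 _, Category.id_comp _⟩
      (mv a f h D j _ u) (Category.comp_id _).symm).symm.trans ?_
    rw [mv, D.φ_comp, D.φ_self]
  · rw [Category.assoc, invHom, pullback.lift_snd, toHom_hom, Category.id_comp]

theorem invHom_toHom (j : PUnit.{u + 1}) : invHom a f h D j ≫ toHom a f h D j = 𝟙 _ := by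
  rw [comp_toHom a f h D j (D.obj j).hom (invHom a f h D j) (pullback.lift_snd _ _ _)
    (D.φ (D.obj j).hom ((D.obj j).hom ≫ f) (agree a f h _).symm ⟨𝟙 _, Category.id_comp _⟩)
    (pullback.lift_fst _ _ _).symm, mv, D.φ_comp, D.φ_self]

theorem comm_toHom ⦃T : Scheme.{u}⦄ ⦃i j : PUnit.{u + 1}⦄ (x₀ x₁ : T ⟶ X) (hh : x₀ ≫ a = x₁ ≫ a)
    (v : Desc.Lifts (((F a f h).obj D).obj i) x₀) (w : Desc.Lifts (D.obj i) x₀)
    (hw : w.1 = v.1 ≫ toHom a f h D i) :
    (D.φ x₀ x₁ hh w).1 = (((F a f h).obj D).φ x₀ x₁ hh v).1 ≫ toHom a f h D j := by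
  let u : Desc.Lifts (D.obj i) (x₀ ≫ f) := Desc.liftsPullbackEquiv (D.obj i) f x₀ v
  have e : w = mv a f h D i x₀ u := Subtype.ext (hw.trans (comp_toHom a f h D i x₀ v.1 v.2 u rfl))
  let u₁ : Desc.Lifts (D.obj j) (x₁ ≫ f) := D.φ (x₀ ≫ f) (x₁ ≫ f) (by rw [agree a f h, agree a f h, hh]) u
  refine Eq.trans ?_ (comp_toHom a f h D j x₁ _ (((F a f h).obj D).φ x₀ x₁ hh v).2 u₁ ?_).symm
  · rw [e, mv, mv, D.φ_comp, D.φ_comp]
  · exact (pullback.lift_fst _ _ _).symm

/-- The map of descent data. -/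
def toMap : (F a f h).obj D ⟶ D :=
  ⟨fun j => Over.homMk (toHom a f h D j) (toHom_hom a f h D j), comm_toHom a f h D⟩

/-- The inverse map. -/
def invMap : D ⟶ (F a f h).obj D :=
  ⟨fun j => Over.homMk (invHom a f h D j) (pullback.lift_snd _ _ _), fun T i j x₀ x₁ hh v w hw => by
    have hw' : w.1 = v.1 ≫ invHom a f h D i := hw
    have := comm_toHom a f h D x₀ x₁ hh w v (by rw [hw', Category.assoc, invHom_toHom, Category.comp_id]) (j := j)
    show _ = (D.φ x₀ x₁ hh v).1 ≫ invHom a f h D j
    rw [this, Category.assoc, toHom_invHom]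
    exact (Category.comp_id _).symm⟩

/-- The isomorphism at a datum. -/
def iso : (F a f h).obj D ≅ D where
  hom := toMap a f h D
  inv := invMap a f h D
  hom_inv_id := by ext j : 2; exact Over.OverMorphism.ext (toHom_invHom a f h D j)
  inv_hom_id := by ext j : 2; exact Over.OverMorphism.ext (invHom_toHom a f h D j)

end

/-- Let a : X ⟶ S be a morphism of schemes and f : X ⟶ X a morphism over S (f ≫ a = a). Then the
pullback functor along f on the category of descent data for schemes relative to X ⟶ S is isomorphic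
to the identity functor. (Existence of an isomorphism of functors only; descent data relative to a
single morphism are written as descent data relative to the corresponding one-member family.) -/
theorem result {X S : Scheme.{u}} (a : X ⟶ S) (f : X ⟶ X) (h : f ≫ a = a) :
    Nonempty (Desc.pullDDFam (f := fun _ : PUnit.{u + 1} => a) (f' := fun _ : PUnit.{u + 1} => a) (α := fun j => j)
        (p := 𝟙 S) (p' := fun _ => f) (fun _ => (h).trans (Category.comp_id a).symm) ≅
      𝟭 (Desc.SchDDFam (fun _ : PUnit.{u + 1} => a))) := by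
  refine ⟨NatIso.ofComponents (iso a f h) fun {D D'} φ => ?_⟩
  ext j : 2
  refine Over.OverMorphism.ext ?_
  show pullback.map (D.obj j).hom f (D'.obj j).hom f (φ.hom j).left (𝟙 _) (𝟙 _) (by simp [Over.w]) (by simp) ≫ toHom a f h D' j = toHom a f h D j ≫ (φ.hom j).left
  let u : Desc.Lifts (D.obj j) (pullback.snd (D.obj j).hom f ≫ f) := ⟨pullback.fst _ _, pullback.condition⟩
  refine (comp_toHom a f h D' j (pullback.snd (D.obj j).hom f) _ ?_ (φ.push u) ?_).trans ?_
  · exact (pullback.lift_snd _ _ _).trans (Category.comp_id _)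
  · exact (pullback.lift_fst _ _ _).symm
  exact φ.comm _ _ _ u (φ.push u) rfl

end Groth.Agent.S9864
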