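import Groth.Statements.S9865
import Groth.Agent.S9864

set_option autoImplicit false
open CategoryTheory CategoryTheory.Limits AlgebraicGeometry Opposite
universe u
open Desc

namespace Groth.Agent.S9865

set_option backward.isDefEq.respectTransparency false
set_option backward.isDefEq.respectTransparency.types false

noncomputable section

variable {X X' X'' S : Scheme.{u}} {a : X ⟶ S} {a' : X' ⟶ S} {a'' : X'' ⟶ S}
  {f : X' ⟶ X} (h : f ≫ a = a') {g : X'' ⟶ X'} (h' : g ≫ a' = a'')

abbrev P : Desc.SchDDFam (fun _ : PUnit.{u + 1} => a) ⥤ Desc.SchDDFam (fun _ : PUnit.{u + 1} => a') :=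
  Desc.pullDDFam (f := fun _ : PUnit.{u + 1} => a) (f' := fun _ : PUnit.{u + 1} => a') (α := fun j => j)
    (p := 𝟙 S) (p' := fun _ => f) (fun _ => (h).trans (Category.comp_id a').symm)

include h h' in
theorem comp_eq : (g ≫ f) ≫ a = a'' := by rw [Category.assoc, h, h']

variable (D : Desc.SchDDFam (fun _ : PUnit.{u + 1} => a))

/-- The component of the compositor. -/
def compHom (j : PUnit.{u + 1}) :
    (((P h ⋙ P h').obj D).obj j) ≅ (((P (comp_eq h h')).obj D).obj j) :=
  Over.isoMk (pullbackLeftPullbackSndIso (D.obj j).hom f g) (pullbackLeftPullbackSndIso_hom_snd _ _ _)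

theorem comm_comp ⦃T : Scheme.{u}⦄ ⦃i j : PUnit.{u + 1}⦄ (x₀ x₁ : T ⟶ X'') (hh : x₀ ≫ a'' = x₁ ≫ a'')
    (v : Desc.Lifts (((P h ⋙ P h').obj D).obj i) x₀) (w : Desc.Lifts (((P (comp_eq h h')).obj D).obj i) x₀)
    (hw : w.1 = v.1 ≫ (compHom h h' D i).hom.left) :
    (((P (comp_eq h h')).obj D).φ x₀ x₁ hh w).1 =
      (((P h ⋙ P h').obj D).φ x₀ x₁ hh v).1 ≫ (compHom h h' D j).hom.left := by
  refine pullback.hom_ext ?_ ?_
  · refine (pullback.lift_fst _ _ _).trans ?_
    rw [Category.assoc]
    show _ = _ ≫ (pullbackLeftPullbackSndIso (D.obj j).hom f g).hom ≫ pullback.fst _ _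
    rw [pullbackLeftPullbackSndIso_hom_fst]
    refine Eq.trans ?_ (Category.assoc _ _ _)
    refine Eq.trans ?_ (congrArg (· ≫ pullback.fst _ _) (pullback.lift_fst _ _ _)).symm
    refine Eq.trans ?_ (pullback.lift_fst _ _ _).symm
    let v₀ : Desc.Lifts (D.obj i) ((x₀ ≫ g) ≫ f) :=
      Desc.liftsPullbackEquiv (D.obj i) f (x₀ ≫ g) (Desc.liftsPullbackEquiv (((P h).obj D).obj i) g x₀ v)
    let w₀ : Desc.Lifts (D.obj i) (x₀ ≫ g ≫ f) := Desc.liftsPullbackEquiv (D.obj i) (g ≫ f) x₀ w
    show (D.φ _ _ _ w₀).1 = (D.φ _ _ _ v₀).1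
    refine (D.φ_natural (𝟙 T) _ _ _ _ _ ((Category.id_comp _).trans (Category.assoc x₀ g f))
      ((Category.id_comp _).trans (Category.assoc x₁ g f)) _ v₀ w₀ ?_).trans (Category.id_comp _)
    show w.1 ≫ pullback.fst _ _ = 𝟙 T ≫ (v.1 ≫ pullback.fst _ _) ≫ pullback.fst _ _
    rw [Category.id_comp, hw, Category.assoc, Category.assoc]
    exact congrArg (v.1 ≫ ·) (pullbackLeftPullbackSndIso_hom_fst _ _ _)
  · refine (pullback.lift_snd _ _ _).trans ?_
    rw [Category.assoc]
    show _ = _ ≫ (pullbackLeftPullbackSndIso (D.obj j).hom f g).hom ≫ pullback.snd _ _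
    rw [pullbackLeftPullbackSndIso_hom_snd]
    exact (((P h ⋙ P h').obj D).φ x₀ x₁ hh v).2.symm

/-- The compositor at a datum. -/
def compIso : (P h ⋙ P h').obj D ≅ (P (comp_eq h h')).obj D where
  hom := ⟨fun j => (compHom h h' D j).hom, comm_comp h h' D⟩
  inv := ⟨fun j => (compHom h h' D j).inv, fun T i j x₀ x₁ hh v w hw => by
    have := comm_comp h h' D x₀ x₁ hh w v (by
      rw [hw, Category.assoc, ← Over.comp_left, Iso.inv_hom_id, Over.id_left]
      exact (Category.comp_id _).symm) (j := j)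
    rw [this, Category.assoc, ← Over.comp_left, Iso.hom_inv_id, Over.id_left]
    exact (Category.comp_id _).symm⟩
  hom_inv_id := by ext j : 2; exact (compHom h h' D j).hom_inv_id
  inv_hom_id := by ext j : 2; exact (compHom h h' D j).inv_hom_id

/-- The compositor. -/
def compNat : P h ⋙ P h' ≅ P (comp_eq h h') :=
  NatIso.ofComponents (compIso h h') fun {D D'} φ => by
    ext j : 2
    refine Over.OverMorphism.ext (pullback.hom_ext ?_ ?_)
    · simp [P, compIso, compHom, Desc.pullDDFam, Desc.pullDDFamObj]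
    · simp [P, compIso, compHom, Desc.pullDDFam, Desc.pullDDFamObj]

end

/-- Let f : X' ⟶ X be a morphism of schemes over S, with structure morphisms a' : X' ⟶ S and a : X ⟶ S,
and assume there exists a morphism g : X ⟶ X' over S (for instance a section of f). Then the
pullback functor along f, from descent data for schemes relative to X ⟶ S to descent data relative
to X' ⟶ S, is an equivalence of categories. (Descent data relative to a single morphism are written
as descent data relative to the corresponding one-member family.) -/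
theorem result {X X' S : Scheme.{u}} (a : X ⟶ S) (a' : X' ⟶ S) (f : X' ⟶ X)
    (h : f ≫ a = a') (hg : ∃ g : X ⟶ X', g ≫ a' = a) :
    (Desc.pullDDFam (f := fun _ : PUnit.{u + 1} => a) (f' := fun _ : PUnit.{u + 1} => a') (α := fun j => j)
        (p := 𝟙 S) (p' := fun _ => f) (fun _ => (h).trans (Category.comp_id a').symm)).IsEquivalence := by
  obtain ⟨g, hg⟩ := hg
  let i₁ : P h ⋙ P hg ≅ 𝟭 _ := compNat h hg ≪≫ (Groth.Agent.S9864.result a (g ≫ f) (comp_eq h hg)).some
  let i₂ : P hg ⋙ P h ≅ 𝟭 _ := compNat hg h ≪≫ (Groth.Agent.S9864.result a' (f ≫ g) (comp_eq hg h)).some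
  exact (CategoryTheory.Equivalence.mk (P h) (P hg) i₁.symm i₂).isEquivalence_functor

end Groth.Agent.S9865
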