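import Groth.Statements.S9870
import Groth.Agent.QuotOpenLib.Main
-- import your own Groth.Agent.* helpers here

set_option autoImplicit false
set_option backward.isDefEq.respectTransparency false
set_option backward.isDefEq.respectTransparency.types false
universe u
open CategoryTheory CategoryTheory.Limits AlgebraicGeometry
open AlgSp

namespace Groth.Agent.S9870

/-- Let `s, t : R ⟶ U` be a pre-relation on a scheme `U` over `S` which is an equivalence relation (on
`T`-points, for every scheme `T` over `S`), with `s` and `t` surjective, flat and locally of finite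
presentation, and let `g : U' ⟶ U` be flat and locally of finite presentation. Let `s', t' : R' ⟶
U'` be the restriction of the pre-relation to `U'`, i.e. `R'` with `(t', s')` and `R' ⟶ R` is the
fibre product of `U' ×_S U'` and `R` over `U ×_S U`. Then the map of fppf quotient sheaves `U'/R' ⟶
U/R` induced by `g` (the unique map under the quotient maps compatible with `h_g`) is representable
and an open immersion. -/
theorem result (S : Scheme.{u}) {R U R' U' : Over S} (s t : R ⟶ U)
    (g : U' ⟶ U) (s' t' : R' ⟶ U') (r : R' ⟶ R)
    (hsq : IsPullback (prod.lift t' s') r (prod.map g g) (prod.lift t s))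
    (hR : AlgSp.IsEqvRel s t)
    [Surjective s.left] [Flat s.left] [LocallyOfFinitePresentation s.left]
    [Surjective t.left] [Flat t.left] [LocallyOfFinitePresentation t.left]
    [Flat g.left] [LocallyOfFinitePresentation g.left]
    (φ : QuotSh.quot Scheme.fppfPrecoverage s' t' ⟶ QuotSh.quot Scheme.fppfPrecoverage s t)
    (hφ : QuotSh.quotπ Scheme.fppfPrecoverage s' t' ≫ φ = QuotSh.repMap Scheme.fppfPrecoverage g ≫ QuotSh.quotπ Scheme.fppfPrecoverage s t) :
    AlgSp.RepWith @IsOpenImmersion φ := by
  have sqP := (IsPullback.of_hasPullback g t).map (Over.forget S)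
  let h : pullback g t ⟶ U := pullback.snd g t ≫ s
  haveI : Flat (pullback.snd g t).left := MorphismProperty.of_isPullback (P := @Flat) sqP ‹Flat g.left›
  haveI : LocallyOfFinitePresentation (pullback.snd g t).left :=
    MorphismProperty.of_isPullback (P := @LocallyOfFinitePresentation) sqP ‹LocallyOfFinitePresentation g.left›
  haveI : Flat h.left := by rw [Over.comp_left]; infer_instance
  haveI : LocallyOfFinitePresentation h.left := by rw [Over.comp_left]; infer_instance
  refine QuotOpenLib.main s t g s' t' r hsq (fun T => ?_)
    ⟨Set.range h.left, h.left.isOpenMap.isOpen_range⟩ (fun u z hz => ?_) (fun {V} l hl y => ?_) φ hφ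
  · exact ⟨fun a => (hR.equivalence T).refl a.down, fun h => (hR.equivalence T).symm h,
      fun h h' => (hR.equivalence T).trans h h'⟩
  · obtain ⟨w, -, hw⟩ := Scheme.Pullback.exists_preimage_pullback u z (f := g.left) (g := t.left) hz.symm
    refine ⟨sqP.isoPullback.inv w, ?_⟩
    change (pullback.snd g t ≫ s).left (sqP.isoPullback.inv w) = s.left z
    rw [Over.comp_left, Scheme.Hom.comp_apply]
    congr 1
    change ((Over.forget S).map (pullback.snd g t)) (sqP.isoPullback.inv w) = z
    rw [← Scheme.Hom.comp_apply, sqP.isoPullback_inv_snd]
    exact hw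
  · have sqV := (IsPullback.of_hasPullback h l).map (Over.forget S)
    obtain ⟨x, hx⟩ : l.left y ∈ Set.range h.left := hl y
    obtain ⟨w, -, hw⟩ := Scheme.Pullback.exists_preimage_pullback x y (f := h.left) (g := l.left) hx
    refine ⟨pullback h l, pullback.snd h l, MorphismProperty.of_isPullback (P := @Flat) sqV ‹Flat h.left›,
      MorphismProperty.of_isPullback (P := @LocallyOfFinitePresentation) sqV ‹LocallyOfFinitePresentation h.left›,
      ⟨sqV.isoPullback.inv w, ?_⟩, pullback.fst h l ≫ pullback.fst g t, pullback.fst h l ≫ pullback.snd g t,
      by rw [Category.assoc, Category.assoc, pullback.condition],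
      by rw [Category.assoc]; exact pullback.condition⟩
    change ((Over.forget S).map (pullback.snd h l)) (sqV.isoPullback.inv w) = y
    rw [← Scheme.Hom.comp_apply, sqV.isoPullback_inv_snd]
    exact hw

end Groth.Agent.S9870
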