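import Groth.Statements.S9871
import Groth.Agent.AlgSpLib.Bootstrap
import Groth.Agent.AlgSpLib.RepDiag
import Groth.Agent.AlgSpLib.LocalTarget

set_option autoImplicit false
universe u
open CategoryTheory CategoryTheory.Limits AlgebraicGeometry
open AlgSp

namespace Groth.Agent.S9871

/-- Let `s, t : R ⟶ U` be an etale equivalence relation on a scheme `U` over `S` and let `g : U' ⟶ U` be
an etale morphism over `S`. Let `s', t' : R' ⟶ U'` be the restriction to `U'`: `R'`, with `(t', s')`
and `R' ⟶ R`, is the fibre product of `U' ×_S U'` and `R` over `U ×_S U`. Then `s', t'` is again an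
etale equivalence relation. -/
theorem result (S : Scheme.{u}) {R U R' U' : Over S} (s t : R ⟶ U)
    (g : U' ⟶ U) (s' t' : R' ⟶ U') (r : R' ⟶ R)
    (hsq : IsPullback (prod.lift t' s') r (prod.map g g) (prod.lift t s))
    (h : AlgSp.IsEtaleEqvRel s t) [Etale g.left] :
    AlgSp.IsEtaleEqvRel s' t' := by
  have hT : ∀ {T : Over S} (a : T ⟶ R'), a ≫ r ≫ t = a ≫ t' ≫ g ∧ a ≫ r ≫ s = a ≫ s' ≫ g := by
    intro T a
    refine ⟨?_, ?_⟩
    · have h := congrArg (· ≫ prod.fst) hsq.w
      simp only [Category.assoc, prod.map_fst, prod.lift_fst_assoc, prod.lift_fst] at h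
      rw [h]
    · have h := congrArg (· ≫ prod.snd) hsq.w
      simp only [Category.assoc, prod.map_snd, prod.lift_snd_assoc, prod.lift_snd] at h
      rw [h]
  have hrs : r ≫ s = s' ≫ g := by simpa using (hT (𝟙 R')).2
  have hrt : r ≫ t = t' ≫ g := by simpa using (hT (𝟙 R')).1
  have hlift : ∀ {T : Over S} (a b : T ⟶ U') (x : T ⟶ R), x ≫ t = a ≫ g → x ≫ s = b ≫ g →
      ∃ x' : T ⟶ R', x' ≫ t' = a ∧ x' ≫ s' = b := by
    intro T a b x h1 h2
    have w : prod.lift a b ≫ prod.map g g = x ≫ prod.lift t s := by ext <;> simp [h1, h2]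
    have hw := hsq.lift_fst (prod.lift a b) x w
    exact ⟨hsq.lift _ _ w, by simpa only [Category.assoc, prod.lift_fst] using congrArg (· ≫ prod.fst) hw,
      by simpa only [Category.assoc, prod.lift_snd] using congrArg (· ≫ prod.snd) hw⟩
  haveI := h.etale_left
  haveI := h.etale_right
  have het : Etale r.left := by
    have hW : ∀ A : Over S, (MorphismProperty.inverseImage @Etale (Over.forget S)) (prod.map g (𝟙 A)) := fun A =>
      MorphismProperty.of_isPullback (P := MorphismProperty.inverseImage @Etale (Over.forget S)) (IsPullback.of_prod_fst_with_id g A) (inferInstanceAs (Etale g.left))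
    have h2 : (MorphismProperty.inverseImage @Etale (Over.forget S)) (prod.map (𝟙 U) g) := by
      have e : prod.map (𝟙 U) g = (prod.braiding U U').hom ≫ prod.map g (𝟙 U) ≫ (prod.braiding U U).hom := by
        ext <;> simp only [prod.braiding_hom, Category.assoc, prod.lift_fst, prod.lift_snd, prod.map_fst,
          prod.map_snd, Category.comp_id, prod.lift_fst_assoc, prod.lift_snd_assoc]
      rw [e]
      exact ((MorphismProperty.inverseImage @Etale (Over.forget S)).cancel_left_of_respectsIso _ _).2 (((MorphismProperty.inverseImage @Etale (Over.forget S)).cancel_right_of_respectsIso _ _).2 (hW U))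
    have : (MorphismProperty.inverseImage @Etale (Over.forget S)) (prod.map g g) := by
      have e : prod.map g g = prod.map g (𝟙 U') ≫ prod.map (𝟙 U) g := by
        ext <;> simp only [Category.assoc, prod.map_fst, prod.map_snd, prod.map_fst_assoc, prod.map_snd_assoc,
          Category.comp_id, Category.id_comp]
      rw [e]
      exact MorphismProperty.comp_mem _ _ _ (hW U') h2
    exact MorphismProperty.of_isPullback (hsq.map (Over.forget S)) this
  refine ⟨⟨fun T a b h1 h2 => hsq.hom_ext (by ext <;> simp [h1, h2]) ?_, fun T => ⟨?_, ?_, ?_⟩⟩, ?_, ?_⟩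
  · refine h.injective T _ _ ?_ ?_ <;> simp only [Category.assoc]
    · rw [(hT a).1, (hT b).1, reassoc_of% h1]
    · rw [(hT a).2, (hT b).2, reassoc_of% h2]
  · intro a
    obtain ⟨x, h1, h2⟩ := (h.equivalence T).refl (a ≫ g)
    exact hlift a a x h1 h2
  · rintro a b ⟨x, rfl, rfl⟩
    obtain ⟨y, h1, h2⟩ := (h.equivalence T).symm ⟨x ≫ r, rfl, rfl⟩
    refine hlift _ _ y (h1.trans ?_) (h2.trans ?_) <;> simp [hrs, hrt]
  · rintro a b c ⟨x, rfl, rfl⟩ ⟨y, hy, rfl⟩
    obtain ⟨z, h1, h2⟩ := (h.equivalence T).trans (x := x ≫ t' ≫ g) (y := x ≫ s' ≫ g) (z := y ≫ s' ≫ g)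
      ⟨x ≫ r, by simp [hrt], by simp [hrs]⟩ ⟨y ≫ r, by simp [hrt, reassoc_of% hy], by simp [hrs]⟩
    exact hlift _ _ z (by simpa using h1) (by simpa using h2)
  · haveI : Etale (s'.left ≫ g.left) := by
      rw [← Over.comp_left, ← hrs]; exact MorphismProperty.comp_mem _ _ _ het h.etale_left
    exact Etale.of_comp _ g.left
  · haveI : Etale (t'.left ≫ g.left) := by
      rw [← Over.comp_left, ← hrt]; exact MorphismProperty.comp_mem _ _ _ het h.etale_right
    exact Etale.of_comp _ g.left

end Groth.Agent.S9871
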