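import Groth.Statements.S9876
import Groth.Agent.AlgSpLib.Bootstrap
import Groth.Agent.AlgSpLib.RepDiag
import Groth.Agent.AlgSpLib.LocalTarget

set_option autoImplicit false
universe u
open CategoryTheory CategoryTheory.Limits AlgebraicGeometry
open AlgSp

namespace Groth.Agent.S9876

/-- Let `X` be an algebraic space over `S` and `G` a presheaf of sets on schemes over `S` with a map `a
: G ⟶ X` of presheaves which is representable by schemes. Then `G` is an fppf sheaf and an algebraic
space over `S`. -/
theorem result (S : Scheme.{u}) (X : AlgSp.Space S)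
    (G : AlgSp.PSp S) (a : G ⟶ X.obj.obj) (ha : (AlgSp.pyon S).relativelyRepresentable a) :
    AlgSp.IsAlgSpaceP G := by
  have hG := AlgSpLib.isSheaf_of_representable ha X.obj.property
  refine ⟨hG, ?_⟩
  let G' : AlgSp.Sp S := ⟨G, hG⟩
  refine AlgSpLib.isAlgSpace_of_representable X.property (ObjectProperty.homMk a : G' ⟶ X.obj) ?_
  intro T ξ
  exact ⟨ha.pullback ξ.hom, ha.snd ξ.hom, ObjectProperty.homMk (ha.fst ξ.hom),
    IsPullback.of_map (sheafToPresheaf _ _) (ObjectProperty.hom_ext _ (ha.w ξ.hom)) (ha.isPullback ξ.hom)⟩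

end Groth.Agent.S9876
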