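import Groth.Statements.S9877
import Groth.Agent.AlgSpLib.CoprodOpen

set_option autoImplicit false
universe u
open CategoryTheory CategoryTheory.Limits AlgebraicGeometry
open AlgSp

namespace Groth.Agent.S9877

/-- Let `F` be an fppf sheaf of sets over `S` and `F_i ⟶ F` a family of maps of sheaves such that each
`F_i` is an algebraic space over `S`, each `F_i ⟶ F` is representable by open immersions, the
induced map from the coproduct `∐ F_i` (in sheaves) to `F` is a surjective map of sheaves, and `∐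
F_i` is an algebraic space. Then `F` is an algebraic space over `S`. -/
theorem result (S : Scheme.{u}) (F : AlgSp.Sp S) {ι : Type u} (Fi : ι → AlgSp.Sp S)
    (f : ∀ i, Fi i ⟶ F) (halg : ∀ i, AlgSp.IsAlgSpace (Fi i))
    (hopen : ∀ i, AlgSp.RepWith @IsOpenImmersion (f i)) (c : Cofan Fi) (hc : IsColimit c)
    (hsurj : Sheaf.IsLocallySurjective (Cofan.IsColimit.desc hc f)) (hcop : AlgSp.IsAlgSpace c.pt) :
    AlgSp.IsAlgSpace F := by
  let d := Cofan.IsColimit.desc hc f
  have hfac : ∀ i, c.inj i ≫ d = f i := Cofan.IsColimit.fac hc f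
  have he : RepWith @Etale d := by
    refine AlgSpLib.repWith_of_source_cover c.inj
      (fun i => AlgSpLib.repWith_mono (fun _ _ g hg => hg.1) (AlgSpLib.repWith_inj c hc i))
      (AlgSpLib.exists_mem_range_inj c hc) fun i => ?_
    rw [hfac]
    exact AlgSpLib.repWith_mono (fun _ _ g (_ : IsOpenImmersion g) => (inferInstance : Etale g)) (hopen i)
  refine AlgSpLib.isAlgSpace_of_space_atlas hcop d he ((AlgSpLib.repWith_surjective_iff he.rep).2 fun x => ?_)
  obtain ⟨T, b, t, rfl⟩ := AlgSpLib.exists_ofPt_eq x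
  haveI := hsurj
  obtain ⟨V, h, -, -, h₃, hl⟩ := AlgSpLib.exists_lift_of_isLocallySurjective d b
  obtain ⟨r, hr⟩ := h₃ t
  obtain ⟨l, hl⟩ := hl t
  exact ⟨Points.ofPt l r, by rw [Points.map_ofPt, hl, AlgSpLib.ofPt_yon_comp, hr]⟩

end Groth.Agent.S9877
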