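import Groth.Statements.S9879
import Groth.Agent.AlgSpLib.CoprodOpen
import Groth.Agent.AlgSpLib.Coprod
import Groth.Agent.AlgSpLib.Univ
import Mathlib.CategoryTheory.Extensive
-- import your own Groth.Agent.* helpers here

set_option autoImplicit false
universe u
open CategoryTheory CategoryTheory.Limits AlgebraicGeometry
open AlgSp

namespace Groth.Agent.S9879

/-- Let `U` be a scheme over `S` and `F_i` a family of fppf sheaves of sets over `S` whose coproduct in
sheaves is isomorphic to `h_U`. Then each `F_i` is representable by a scheme `V_i` over `S` such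
that `V_i ⟶ U` (the morphism inducing `h_{V_i} ≅ F_i ⟶ ∐ F_i ≅ h_U`) is an open and closed
immersion, and `U` is the coproduct of the `V_i` in schemes. -/
theorem result (S : Scheme.{u}) (U : Over S) {ι : Type u}
    (F : ι → AlgSp.Sp S) (c : Cofan F) (hc : IsColimit c) (e : c.pt ≅ (AlgSp.yon S).obj U) :
    ∃ (V : ι → Over S) (g : ∀ i, V i ⟶ U) (ei : ∀ i, (AlgSp.yon S).obj (V i) ≅ F i),
      (∀ i, IsOpenImmersion (g i).left ∧ IsClosedImmersion (g i).left) ∧
      (∀ i, (ei i).hom ≫ c.inj i ≫ e.hom = (AlgSp.yon S).map (g i)) ∧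
      Nonempty (IsColimit (Cofan.mk U.left (fun i => (g i).left))) := by
  classical
  have hr := fun i => AlgSpLib.repWith_inj c hc i
  let V : ι → Over S := fun i => (hr i).rep.pullback e.inv
  let g : ∀ i, V i ⟶ U := fun i => (hr i).rep.snd e.inv
  have sq : ∀ i, IsPullback ((hr i).rep.fst e.inv) ((AlgSp.yon S).map (g i)) (c.inj i) e.inv :=
    fun i => (hr i).rep.isPullback e.inv
  haveI : ∀ i, IsIso ((hr i).rep.fst e.inv) := fun i => (sq i).isIso_fst_of_isIso
  have hg : ∀ i, IsOpenImmersion (g i).left ∧ IsClosedImmersion (g i).left := fun i => (hr i).property_snd e.inv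
  refine ⟨V, g, fun i => asIso ((hr i).rep.fst e.inv), hg, fun i => ?_, ?_⟩
  · rw [asIso_hom, ← Category.assoc, (sq i).w, Category.assoc, e.inv_hom_id, Category.comp_id]
  · haveI : ∀ i, IsOpenImmersion (g i).left := fun i => (hg i).1
    refine nonempty_isColimit_cofanMk_of (fun i => (g i).left) ?_ ?_
    · refine top_le_iff.1 fun u _ => TopologicalSpace.Opens.mem_iSup.2 ?_
      obtain ⟨i, hi⟩ := AlgSpLib.exists_mem_range_inj c hc
        (AlgSp.Points.map e.inv (AlgSp.Points.schemeHomeo U u))
      have hu : AlgSp.Points.schemeHomeo U u ∈ Set.range (AlgSp.Points.map ((AlgSp.yon S).map (g i))) := by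
        rw [AlgSpLib.range_map_of_isPullback (sq i)]; exact hi
      obtain ⟨z, hz⟩ := hu
      obtain ⟨y, rfl⟩ := (AlgSp.Points.schemeHomeo (V i)).surjective z
      rw [AlgSp.Points.map_yon_map_apply] at hz
      exact ⟨i, y, (AlgSp.Points.schemeHomeo U).injective hz⟩
    · intro i j hij
      change Disjoint (g i).left.opensRange (g j).left.opensRange
      rw [disjoint_iff]
      refine bot_unique ?_
      rintro u ⟨⟨y, hy⟩, ⟨y', hy'⟩⟩
      exfalso
      let r : (∐ fun k : {k : ι // k ≠ i} => F k.1) ⟶ c.pt := Sigma.desc fun k => c.inj k.1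
      let c₂ := BinaryCofan.mk (c.inj i) r
      have hc₂ : IsColimit c₂ := BinaryCofan.isColimitMk
        (fun t => Cofan.IsColimit.desc hc fun k =>
          if h : k = i then eqToHom (congrArg F h) ≫ t.inl
          else Sigma.ι (fun k : {k : ι // k ≠ i} => F k.1) ⟨k, h⟩ ≫ t.inr)
        (fun t => by simp [Cofan.IsColimit.fac])
        (fun t => Sigma.hom_ext _ _ fun k => by
          rw [Sigma.ι_desc_assoc, Cofan.IsColimit.fac, dif_neg k.2])
        (fun t m h1 h2 => Cofan.IsColimit.hom_ext hc _ _ fun k => by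
          rw [Cofan.IsColimit.fac]
          split
          · next h => subst h; simp [← h1]
          · next h => rw [← h2, Sigma.ι_desc_assoc])
      obtain ⟨z, hz⟩ : ∃ z : ↥(pullback (g i).left (g j).left), (pullback.fst (g i).left (g j).left) z = y := by
        obtain ⟨z, hz, -⟩ := Scheme.Pullback.exists_preimage_pullback y y' (hy.trans hy'.symm)
        exact ⟨z, hz⟩
      let P := pullback (g i) (g j)
      let pj : (AlgSp.yon S).obj P ⟶ F j := (AlgSp.yon S).map (pullback.snd (g i) (g j)) ≫ (hr j).rep.fst e.inv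
      let pi' : (AlgSp.yon S).obj P ⟶ F i := (AlgSp.yon S).map (pullback.fst (g i) (g j)) ≫ (hr i).rep.fst e.inv
      have w : pi' ≫ c.inj i = (pj ≫ Sigma.ι (fun k : {k : ι // k ≠ i} => F k.1) ⟨j, hij.symm⟩) ≫ r := by
        simp only [pi', pj, Category.assoc, r, Sigma.ι_desc, (sq i).w, (sq j).w, ← Functor.map_comp_assoc,
          pullback.condition]
      let q : (AlgSp.yon S).obj P ⟶ ⊥_ (AlgSp.Sp S) :=
        (BinaryCofan.isPullback_initial_to_of_isVanKampen (FinitaryExtensive.vanKampen _ hc₂)).lift pi'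
          (pj ≫ Sigma.ι (fun k : {k : ι // k ≠ i} => F k.1) ⟨j, hij.symm⟩) w
      let E : Over S := Over.mk (Sigma.desc (f := (fun k : PEmpty.{u + 1} => k.elim : PEmpty.{u + 1} → Scheme.{u}))
        fun k => k.elim)
      obtain ⟨φ, -⟩ := (AlgSp.yon S).map_surjective (q ≫ initial.to ((AlgSp.yon S).obj E))
      haveI : Nonempty P.left := by
        obtain ⟨z', hz', -⟩ := Scheme.Pullback.exists_preimage_pullback y y' (hy.trans hy'.symm)
        exact ⟨((IsPullback.of_hasPullback (g i) (g j)).map (Over.forget S)).isoPullback.inv z'⟩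
      obtain ⟨p₀⟩ := (inferInstance : Nonempty P.left)
      obtain ⟨k, -, -⟩ := (sigmaOpenCover _).exists_eq (φ.left p₀)
      exact k.elim


end Groth.Agent.S9879
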