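import Groth.Statements.S9886
import Groth.Agent.AlgSpLib.Sep

set_option autoImplicit false
universe u
open CategoryTheory CategoryTheory.Limits AlgebraicGeometry
open AlgSp

namespace Groth.Agent.S9886

/-- Let `F` be an fppf sheaf of sets over `S` and `P` a property of morphisms of schemes stable under
base change. Assume that for all schemes `U`, `V` over `S` and all `a : h_U ⟶ F`, `b : h_V ⟶ F` the
fibre product `h_U ×_F h_V` is represented by some scheme `W` over `S` with its projections induced
by morphisms `W ⟶ U`, `W ⟶ V`, and that for every such represented fibre product the morphism `W ⟶ U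
×_S V` has `P`. Then the diagonal `F ⟶ F × F` is representable by schemes and has `P`. (The
published statement is for a presheaf of sets `F` and a property `P` that is also fppf local on the
base; this row takes `F` an fppf sheaf and `P` only stable under base change.) -/
theorem result (S : Scheme.{u}) (F : AlgSp.Sp S) (P : MorphismProperty Scheme.{u})
    [P.IsStableUnderBaseChange]
    (h₁ : ∀ ⦃U V : Over S⦄ (a : (AlgSp.yon S).obj U ⟶ F) (b : (AlgSp.yon S).obj V ⟶ F),
      ∃ (W : Over S) (fst : W ⟶ U) (snd : W ⟶ V), IsPullback ((AlgSp.yon S).map fst) ((AlgSp.yon S).map snd) a b)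
    (h₂ : ∀ ⦃U V W : Over S⦄ (a : (AlgSp.yon S).obj U ⟶ F) (b : (AlgSp.yon S).obj V ⟶ F) (fst : W ⟶ U)
      (snd : W ⟶ V), IsPullback ((AlgSp.yon S).map fst) ((AlgSp.yon S).map snd) a b → P (prod.lift fst snd).left) :
    AlgSp.RepWith P (Limits.diag F) := by
  refine MorphismProperty.relative.of_exists fun T g => ?_
  obtain ⟨W, fst, snd, sq⟩ := h₁ (g ≫ Limits.prod.fst) (g ≫ Limits.prod.snd)
  let c := PreservesLimitPair.iso (AlgSp.yon S) T T
  have hl : (AlgSp.yon S).map (prod.lift fst snd) ≫ c.hom =
      prod.lift ((AlgSp.yon S).map fst) ((AlgSp.yon S).map snd) := by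
    apply Limits.prod.hom_ext
    · rw [Category.assoc, PreservesLimitPair.iso_hom, prodComparison_fst, ← Functor.map_comp,
        Limits.prod.lift_fst, Limits.prod.lift_fst]
    · rw [Category.assoc, PreservesLimitPair.iso_hom, prodComparison_snd, ← Functor.map_comp,
        Limits.prod.lift_snd, Limits.prod.lift_snd]
  have hd : (AlgSp.yon S).map (Limits.diag T) ≫ c.hom = Limits.diag ((AlgSp.yon S).obj T) :=
    (AlgSp.diag_yon_obj T).symm
  have sq1 := (IsPullback.of_horiz_isIso (fst := 𝟙 _) (snd := (AlgSp.yon S).map (prod.lift fst snd))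
    (f := prod.lift ((AlgSp.yon S).map fst) ((AlgSp.yon S).map snd)) (g := c.hom)
    ⟨by rw [Category.id_comp, hl]⟩).paste_horiz (AlgSpLib.isPullback_diag_prod sq)
  have hp := IsPullback.of_hasPullback (prod.lift fst snd) (Limits.diag T)
  have hg : (AlgSp.yon S).map (Limits.diag T) ≫ c.hom ≫
      prod.map (g ≫ Limits.prod.fst) (g ≫ Limits.prod.snd) = g := by
    rw [← Category.assoc, hd]
    apply Limits.prod.hom_ext <;>
      simp only [Category.assoc, Limits.diag, Limits.prod.map_fst, Limits.prod.map_snd,
        Limits.prod.lift_fst_assoc, Limits.prod.lift_snd_assoc, Category.id_comp]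
  refine ⟨_, _, pullback.snd (prod.lift fst snd) (Limits.diag T),
    hg ▸ (hp.map (AlgSp.yon S)).paste_horiz sq1, ?_⟩
  exact P.of_isPullback (hp.map (Over.forget S)) (h₂ _ _ fst snd sq)

end Groth.Agent.S9886
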