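import Groth.Statements.S9888
import Groth.Agent.AlgSpLib.Sep

set_option autoImplicit false
universe u
open CategoryTheory CategoryTheory.Limits AlgebraicGeometry
open AlgSp

namespace Groth.Agent.S9888

/-- Let `F` be an algebraic space over `S`, `f₂ : F₂ ⟶ F` a map of fppf sheaves which is representable
by immersions, `f₁ : F₁ ⟶ F` a map which is representable with property `P`, and `g : F₁ ⟶ F₂` with
`g ≫ f₂ = f₁` (so `F₁ ⊆ F₂` as subsheaves of `F`). Then `g` is representable and has `P`. (The
published statement is the three cases `P` = immersion, open immersion, closed immersion, i.e. a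
locally closed, open or closed subspace contained in a locally closed subspace is such a subspace of
it; the same argument applies to any `P` stable under base change, and the row is stated for such
`P`.) -/
theorem result (S : Scheme.{u}) (F F₁ F₂ : AlgSp.Sp S) (hF : AlgSp.IsAlgSpace F)
    (f₁ : F₁ ⟶ F) (f₂ : F₂ ⟶ F) (P : MorphismProperty Scheme.{u}) [P.IsStableUnderBaseChange]
    (h₁ : AlgSp.RepWith P f₁) (h₂ : AlgSp.RepWith @IsImmersion f₂) (g : F₁ ⟶ F₂) (w : g ≫ f₂ = f₁) :
    AlgSp.RepWith P g := by
  haveI : Mono f₂ := AlgSpLib.mono_of_repWith (fun g (_ : IsImmersion g) => inferInstance) h₂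
  refine AlgSpLib.repWith_of_isPullback (fst := 𝟙 F₁) (g := f₂) ?_ h₁
  refine ⟨⟨by simp [w]⟩, ⟨PullbackCone.IsLimit.mk _ (fun c => c.fst) (fun c => by simp) (fun c => ?_)
    (fun c m h _ => by simpa using h)⟩⟩
  rw [← cancel_mono f₂, Category.assoc, w, c.condition]

end Groth.Agent.S9888
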