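import Groth.Statements.S9890
import Groth.Agent.S10182
import Groth.Agent.AlgSpLib.FreeAction
import Groth.Agent.AlgSpLib.ImmLocal
import Groth.Agent.CycBivLib.Disjoint

set_option backward.isDefEq.respectTransparency false
set_option backward.isDefEq.respectTransparency.types false

set_option autoImplicit false
universe u
open CategoryTheory CategoryTheory.Limits AlgebraicGeometry
open AlgSp

namespace Groth.Agent.S9890

theorem key {S : Scheme.{u}} {U R : Over S} {s t : R ⟶ U} (h : AlgSp.IsEtaleEqvRel s t) [IsFinite s.left] :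
    (QuasiSeparated U.hom → AlgSp.IsQuasiSeparatedSp (QuotSh.quot Scheme.fppfPrecoverage s t)) ∧
      (IsSeparated U.hom → AlgSp.IsSeparatedSp (QuotSh.quot Scheme.fppfPrecoverage s t)) := by
  have sq := AlgSpLib.isPullback_qπ s t h.toIsEqvRel
  haveI := AlgSpLib.isLocallySurjective_prodMap (AlgSpLib.qπ s t) (AlgSpLib.qπ s t)
  have hd := (AlgSpLib.isAlgSpace_quot s t h).diag
  have e : prod.lift ((AlgSp.yon S).map t) ((AlgSp.yon S).map s) =
      (AlgSp.yon S).map (prod.lift t s) ≫ prodComparison (AlgSp.yon S) U U := by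
    apply prod.hom_ext
    · rw [Category.assoc, prodComparison_fst, ← Functor.map_comp, prod.lift_fst, prod.lift_fst]
    · rw [Category.assoc, prodComparison_snd, ← Functor.map_comp, prod.lift_snd, prod.lift_snd]
  have hc : IsFinite ((prod.lift t s).left ≫ (prod.snd : U ⨯ U ⟶ U).left) := by
    rw [← Over.comp_left, prod.lift_snd]; infer_instance
  have hp : (prod.snd : U ⨯ U ⟶ U).left = (Over.prodLeftIsoPullback U U).hom ≫ pullback.snd U.hom U.hom :=
    (Over.prodLeftIsoPullback_hom_snd U U).symm
  refine ⟨fun hU => ?_, fun hU => ?_⟩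
  · refine AlgSpLib.repWith_of_cover (AlgSpLib.isPullback_diag_prodMap sq) hd ?_
    rw [e, MorphismProperty.cancel_right_of_respectsIso (RepWith @QuasiCompact), repWith_yon_map_iff]
    haveI : QuasiSeparated (prod.snd : U ⨯ U ⟶ U).left := by rw [hp]; infer_instance
    haveI : QuasiCompact ((prod.lift t s).left ≫ (prod.snd : U ⨯ U ⟶ U).left) := inferInstance
    exact QuasiCompact.of_comp (prod.lift t s).left (prod.snd : U ⨯ U ⟶ U).left
  · refine AlgSpLib.repWith_of_cover (AlgSpLib.isPullback_diag_prodMap sq) hd ?_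
    rw [e, MorphismProperty.cancel_right_of_respectsIso (RepWith @IsClosedImmersion), repWith_yon_map_iff]
    haveI : IsSeparated (prod.snd : U ⨯ U ⟶ U).left := by rw [hp]; infer_instance
    haveI : IsFinite (prod.lift t s).left := IsFinite.of_comp (prod.lift t s).left (prod.snd : U ⨯ U ⟶ U).left
    haveI : Mono (prod.lift t s) := ⟨fun {Z} a b hab => by
      refine h.injective _ a b ?_ ?_
      · simpa using congrArg (· ≫ (prod.fst : U ⨯ U ⟶ U)) hab
      · simpa using congrArg (· ≫ (prod.snd : U ⨯ U ⟶ U)) hab⟩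
    haveI : Mono (prod.lift t s).left := inferInstance
    exact (IsClosedImmersion.iff_isProper_and_mono _).2 ⟨inferInstance, inferInstance⟩

theorem isFinite_left {S : Scheme.{u}} {U : Over S} {G : Type u} [Finite G]
    {c : Cofan (fun _ : G => U)} (hc : IsColimit c) {s : c.pt ⟶ U} (hs : ∀ g, c.inj g ≫ s = 𝟙 U) :
    IsFinite s.left := by
  let hc' : IsColimit (Cofan.mk c.pt c.inj) :=
    IsColimit.ofIsoColimit hc (Cofan.ext (c₁ := c) (c₂ := Cofan.mk c.pt c.inj) (Iso.refl _) (fun _ => by simp))
  let e := (isColimitCofanMkObjOfIsColimit (Over.forget S) (fun _ : G => U) c.inj hc').coconePointUniqueUpToIso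
      (colimit.isColimit (Discrete.functor fun _ : G => U.left))
  have he : s.left = e.hom ≫ Sigma.desc (fun _ : G => 𝟙 U.left) := by
    rw [← Iso.inv_comp_eq]
    refine Sigma.hom_ext _ _ fun g => ?_
    rw [Sigma.ι_desc, ← Category.assoc]
    have hg : Sigma.ι (fun _ : G => U.left) g ≫ e.inv = (c.inj g).left :=
      IsColimit.comp_coconePointUniqueUpToIso_inv
        (isColimitCofanMkObjOfIsColimit (Over.forget S) (fun _ : G => U) c.inj hc')
        (colimit.isColimit (Discrete.functor fun _ : G => U.left)) (⟨g⟩ : Discrete G)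
    rw [hg, ← Over.comp_left, hs g]
    rfl
  haveI : IsFinite (Sigma.desc (fun _ : G => 𝟙 U.left)) :=
    CycBivLib.isFinite_sigmaDesc (fun _ : G => 𝟙 U.left) fun y => ⟨⊤, trivial, Set.toFinite _⟩
  rw [he]
  infer_instance

/-- Let a finite group `G` act freely (no non-identity element fixes a point together with its residue
field) by `S`-automorphisms on a scheme `U` over `S`, and let `s, t : R = ∐_{g ∈ G} U ⟶ U` be the
identity and the action. When `U ⟶ S` is quasi-separated, so is the quotient sheaf `U/G = U/R` over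
`S`; when `U ⟶ S` is separated, `U/G` is also separated over `S`. -/
theorem result (S : Scheme.{u}) (U : Over S) (G : Type u) [Group G] [Finite G]
    (ρ : G →* Aut U)
    (hfree : ∀ (g : G) (x : U.left), g ≠ 1 →
      U.left.fromSpecResidueField x ≫ (ρ g).hom.left ≠ U.left.fromSpecResidueField x)
    (c : Cofan (fun _ : G => U)) (hc : IsColimit c) (s t : c.pt ⟶ U)
    (hs : ∀ g, c.inj g ≫ s = 𝟙 U) (ht : ∀ g, c.inj g ≫ t = (ρ g).hom) :
    (QuasiSeparated U.hom → AlgSp.IsQuasiSeparatedSp (QuotSh.quot Scheme.fppfPrecoverage s t)) ∧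
      (IsSeparated U.hom → AlgSp.IsSeparatedSp (QuotSh.quot Scheme.fppfPrecoverage s t)) := by
  haveI := isFinite_left hc hs
  exact key (AlgSpLib.FreeAct.isEtaleEqvRel hc ρ hs ht hfree)

end Groth.Agent.S9890
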