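import Groth.Statements.S9894
import Groth.Agent.AlgSpFieldLib.Effective
import Groth.Agent.AlgSpLib.Bootstrap

set_option autoImplicit false
set_option linter.style.haveILetI false
set_option backward.isDefEq.respectTransparency false
set_option backward.isDefEq.respectTransparency.types false
universe u
open CategoryTheory CategoryTheory.Limits AlgebraicGeometry
open AlgSp

namespace Groth.Agent.S9894
open AlgSpLib AlgSpFieldLib



/-- Let `P` be a property of morphisms of schemes which is stable under base change, fppf local on the
base, and such that morphisms of type `P` satisfy descent: for every surjective, flat, locally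
finitely presented `p : X' ⟶ S'` every descent datum relative to `p` whose scheme has structure
morphism in `P` is effective (descent is asked along single fppf covers, the case the argument
uses). Let `F` be an algebraic space over `S`, `G` an fppf sheaf of sets with a map `f : G ⟶ F`, and
`q : h_U ⟶ F` representable etale and surjective such that the base change of `f` along `q` is
represented by a scheme `V` over `S` with `g : V ⟶ U` having `P`. Then `G` is an algebraic space
over `S` and `f` is representable by schemes with property `P`. -/
theorem result (S : Scheme.{u}) (P : MorphismProperty Scheme.{u})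
    [P.IsStableUnderBaseChange] [P.IsLocalAtTarget Scheme.fppfPrecoverage]
    (hdesc : ∀ ⦃X' S' : Scheme.{u}⦄ (p : X' ⟶ S'), Surjective p → Flat p → LocallyOfFinitePresentation p →
      ∀ D : Desc.SchDD p, P D.obj.hom → (Desc.toDD p).essImage D)
    (F : AlgSp.Space S) (G : AlgSp.Sp S) (f : G ⟶ F.obj) {U V : Over S} (q : (AlgSp.yon S).obj U ⟶ F.obj)
    (hqe : AlgSp.RepWith @Etale q) (hqs : AlgSp.RepWith @Surjective q) (fst : (AlgSp.yon S).obj V ⟶ G)
    (g : V ⟶ U) (sq : IsPullback fst ((AlgSp.yon S).map g) f q) (hP : P g.left) :
    AlgSp.IsAlgSpace G ∧ AlgSp.RepWith P f := by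
  haveI : P.RespectsIso := MorphismProperty.IsStableUnderBaseChange.respectsIso
  have hq1 : AlgSp.RepWith @Flat q := repWith_mono (fun _ _ g (_ : Etale g) => (inferInstance : Flat g)) hqe
  have hq2 : AlgSp.RepWith @LocallyOfFinitePresentation q :=
    repWith_mono (fun _ _ g (_ : Etale g) => (inferInstance : LocallyOfFinitePresentation g)) hqe
  haveI : Sheaf.IsLocallySurjective q := isLocallySurjective_of_repWith hq1 hq2 hqs
  have hE : IsEffClass S P := fun T T' W' q' G' π fst' pW sq' _ _ hf hlp hsu hPW => by
    haveI := hf; haveI := hlp; haveI := hsu
    exact isRepSh_of_effective sq' fun D e => hdesc q'.left hsu hf hlp D (by rw [e]; exact hPW)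
  have hg : AlgSp.RepWith P ((AlgSp.yon S).map g) := (AlgSp.repWith_yon_map_iff P g).2 hP
  have hf : AlgSp.Representable f := representable_of_cover hE sq hg
  haveI := descendsAlong_of_isLocalAtTarget P
  exact ⟨isAlgSpace_of_representable F.property f hf, repWith_of_cover sq hf hg⟩

end Groth.Agent.S9894
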