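import Groth.Statements.S9895
import Groth.Agent.AlgSpLib.FreeAction
import Groth.Agent.AlgSpLib.Bootstrap
import Groth.Agent.AlgSpLib.ValFinSep

set_option autoImplicit false
set_option backward.isDefEq.respectTransparency false
set_option backward.isDefEq.respectTransparency.types false
-- import your own Groth.Agent.* helpers here

set_option autoImplicit false
noncomputable section
universe u
open CategoryTheory CategoryTheory.Limits AlgebraicGeometry
open AlgSp

namespace Groth.Agent.S9895

open AlgSp AlgSpLib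

section

variable {S : Scheme.{u}} {U : Over S} {G : Type u} [Group G] {c : Cofan (fun _ : G => U)} (hc : IsColimit c)
  (ρ : G →* Aut U) {s t : c.pt ⟶ U} (hs : ∀ g, c.inj g ≫ s = 𝟙 U) (ht : ∀ g, c.inj g ≫ t = (ρ g).hom)

include hc hs ht in
theorem exists_translate (h : IsEtaleEqvRel s t) {L : Type u} [Field L] {str : Spec (CommRingCat.of L) ⟶ S}
    (a b : Over.mk str ⟶ U) (hab : (yon S).map a ≫ qπ s t = (yon S).map b ≫ qπ s t) :
    ∃ g : G, b = a ≫ (ρ g).hom := by
  let T : Over S := Over.mk str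
  have sq := isPullback_qπ s t h.toIsEqvRel
  let r : T ⟶ c.pt := (yon S).preimage (sq.lift _ _ hab.symm)
  have hrt : r ≫ t = b := (yon S).map_injective (by
    rw [Functor.map_comp, Functor.map_preimage, IsPullback.lift_fst])
  have hrs : r ≫ s = a := (yon S).map_injective (by
    rw [Functor.map_comp, Functor.map_preimage, IsPullback.lift_snd])
  obtain ⟨𝒰, lbl, u, hu⟩ := FreeAct.exists_decomp r hc
  let x₀ : ↥T.left := IsLocalRing.closedPoint L
  let i := 𝒰.idx x₀
  let j : Over.mk (𝒰.f i ≫ T.hom) ⟶ T := Over.homMk (𝒰.f i) rfl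
  haveI : Surjective (𝒰.f i) := ⟨fun y => by
    obtain ⟨z, -⟩ := 𝒰.covers x₀
    exact ⟨z, Subsingleton.elim (α := PrimeSpectrum L) _ _⟩⟩
  haveI : IsIso (𝒰.f i) := by
    haveI : Epi (𝒰.f i).base := (TopCat.epi_iff_surjective _).2 (𝒰.f i).surjective
    exact IsOpenImmersion.isIso _
  haveI : IsIso j := by
    haveI : IsIso ((Over.forget S).map j) := inferInstanceAs (IsIso (𝒰.f i))
    exact isIso_of_reflects_iso j (Over.forget S)
  refine ⟨lbl i, ?_⟩
  rw [← cancel_epi j, ← hrt, ← hrs, Category.assoc, reassoc_of% hu i, reassoc_of% hu i, ht, reassoc_of% hs]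

include hc hs ht in
theorem act_qπ (g : G) : (yon S).map (ρ g).hom ≫ qπ s t = qπ s t := by
  rw [← ht g, Functor.map_comp, Category.assoc, ← qπ_condition, ← Functor.map_comp_assoc, hs]
  exact ((congrArg (· ≫ qπ s t) ((yon S).map_id U))).trans (Category.id_comp _)

end


/-- Let a group `G` act freely (no non-identity element fixes a point together with its residue field)
by `S`-automorphisms on a scheme `U` over `S`, let `s, t : R = ∐_{g ∈ G} U ⟶ U` be the identity and
the action, and let `ξ : h_{Spec k} ⟶ U/R` be a morphism from the spectrum of a field `k` over `S`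
to the quotient sheaf. Then one can find a finite Galois extension `k'/k` together with a finite
subgroup `H ⊆ G`, a group isomorphism `e : H ≅ Gal(k'/k)` and a morphism `x' : Spec k' ⟶ U` over `S`
which is `H`-equivariant (with `h ∈ H` acting on `Spec k'` through `Spec` of `(e h)⁻¹`) and whose
composite with `U ⟶ U/R` is the restriction of `ξ` to `Spec k'`. (The published statement also
asserts that such data determine a morphism from `Spec k` to the quotient; this row states only the
direction above.) -/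
theorem result (S : Scheme.{u}) (U : Over S) (G : Type u) [Group G]
    (ρ : G →* Aut U)
    (hfree : ∀ (g : G) (x : U.left), g ≠ 1 →
      U.left.fromSpecResidueField x ≫ (ρ g).hom.left ≠ U.left.fromSpecResidueField x)
    (c : Cofan (fun _ : G => U)) (hc : IsColimit c) (s t : c.pt ⟶ U)
    (hs : ∀ g, c.inj g ≫ s = 𝟙 U) (ht : ∀ g, c.inj g ≫ t = (ρ g).hom)
    (k : Type u) [Field k] (σ : Spec (CommRingCat.of k) ⟶ S)
    (ξ : (AlgSp.yon S).obj (Over.mk σ) ⟶ QuotSh.quot Scheme.fppfPrecoverage s t) :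
    ∃ (k' : Type u) (_ : Field k') (_ : Algebra k k') (_ : FiniteDimensional k k') (_ : IsGalois k k')
      (H : Subgroup G) (_ : Finite H) (e : H ≃* (k' ≃ₐ[k] k'))
      (x' : Over.mk (Spec.map (CommRingCat.ofHom (algebraMap k k')) ≫ σ) ⟶ U),
      (∀ h : H, Spec.map (CommRingCat.ofHom (e h).symm.toRingEquiv.toRingHom) ≫ x'.left =
        x'.left ≫ (ρ (h : G)).hom.left) ∧
      (AlgSp.yon S).map x' ≫ (QuotSh.repIsoUliftYoneda Scheme.fppfPrecoverage U).inv ≫ QuotSh.quotπ Scheme.fppfPrecoverage s t =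
        (AlgSp.yon S).map (Over.homMk (Spec.map (CommRingCat.ofHom (algebraMap k k'))) :
          Over.mk (Spec.map (CommRingCat.ofHom (algebraMap k k')) ≫ σ) ⟶ Over.mk σ) ≫ ξ := by
  have hR : IsEtaleEqvRel s t := FreeAct.isEtaleEqvRel hc ρ hs ht hfree
  have sqR := isPullback_qπ s t hR.toIsEqvRel
  have hpres := isPresentation_qπ s t hR
  obtain ⟨hE, hπe, hπs, -⟩ := hpres
  obtain ⟨W, p, w, sqW⟩ := exists_isPullback_yon (qπ s t) ξ hπe.rep
  haveI : Etale w.left := etale_left (repWith_of_isPullback sqW hπe)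
  haveI : Surjective w.left := surjective_left (repWith_of_isPullback sqW hπs)
  obtain ⟨z, -⟩ := w.left.surjective (IsLocalRing.closedPoint k)
  let κ := W.left.residueField z
  obtain ⟨ψ, hψ⟩ := Spec.map_surjective (R := CommRingCat.of k) (S := κ)
    (W.left.fromSpecResidueField z ≫ w.left)
  have hfs := finite_separable_of_etale (str := σ) w z ψ hψ
  letI : Algebra k κ := ψ.hom.toAlgebra
  haveI : FiniteDimensional k κ := hfs.1
  haveI : Algebra.IsSeparable k κ := hfs.2
  haveI : Mono (W.left.fromSpecResidueField z) := inferInstance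
  -- translations of `W`
  have hP : ∀ g : G, (yon S).map (p ≫ (ρ g).hom) ≫ qπ s t = (yon S).map w ≫ ξ := fun g => by
    rw [Functor.map_comp, Category.assoc, act_qπ hc ρ hs ht g, sqW.w]
  let Pg : G → (W ⟶ W) := fun g => (yon S).preimage (sqW.lift _ _ (hP g))
  have hPp : ∀ g, Pg g ≫ p = p ≫ (ρ g).hom := fun g => (yon S).map_injective (by
    rw [Functor.map_comp, Functor.map_preimage, IsPullback.lift_fst])
  have hPw : ∀ g, Pg g ≫ w = w := fun g => (yon S).map_injective (by
    rw [Functor.map_comp, Functor.map_preimage, IsPullback.lift_snd])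
  have hext : ∀ {T : Over S} (m₁ m₂ : T ⟶ W), m₁ ≫ p = m₂ ≫ p → m₁ ≫ w = m₂ ≫ w → m₁ = m₂ :=
    fun m₁ m₂ h1 h2 => (yon S).map_injective (sqW.hom_ext
      (by rw [← Functor.map_comp, ← Functor.map_comp, h1]) (by rw [← Functor.map_comp, ← Functor.map_comp, h2]))
  have hmove : ∀ {L : Type u} [Field L] {str : Spec (CommRingCat.of L) ⟶ S} (m₁ m₂ : Over.mk str ⟶ W),
      m₁ ≫ w = m₂ ≫ w → ∃ g, m₂ = m₁ ≫ Pg g := by
    intro L _ str m₁ m₂ hw
    obtain ⟨g, hg⟩ := exists_translate hc ρ hs ht hR (m₁ ≫ p) (m₂ ≫ p) (by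
      rw [Functor.map_comp, Functor.map_comp, Category.assoc, Category.assoc, sqW.w, ← Functor.map_comp_assoc,
        ← Functor.map_comp_assoc, hw])
    refine ⟨g, hext _ _ ?_ ?_⟩
    · rw [hg, Category.assoc, Category.assoc, hPp]
    · rw [Category.assoc, hPw, hw]
  -- field valued points at `z`
  let pt : ∀ {L : Type u} [Field L] [Algebra k L] (e : κ →ₐ[k] L),
      Over.mk (Spec.map (CommRingCat.ofHom (algebraMap k L)) ≫ σ) ⟶ W := fun {L} _ _ e =>
    Over.homMk (Spec.map (CommRingCat.ofHom e.toRingHom) ≫ W.left.fromSpecResidueField z) (by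
      have e1 : W.left.fromSpecResidueField z ≫ W.hom = Spec.map ψ ≫ σ := by
        rw [hψ, Category.assoc]
        exact congrArg (W.left.fromSpecResidueField z ≫ ·) (Over.w w).symm
      change (Spec.map _ ≫ _) ≫ W.hom = Spec.map _ ≫ σ
      rw [Category.assoc, e1, ← Spec.map_comp_assoc]
      congr 2
      ext x
      exact e.commutes x)
  have hptw : ∀ {L : Type u} [Field L] [Algebra k L] (e : κ →ₐ[k] L),
      (pt e ≫ w).left = Spec.map (CommRingCat.ofHom (algebraMap k L)) := by
    intro L _ _ e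
    change (Spec.map _ ≫ W.left.fromSpecResidueField z) ≫ w.left = _
    rw [Category.assoc, ← hψ, ← Spec.map_comp]
    congr 1
    ext x
    exact e.commutes x
  -- normality
  have hnormal : ∀ (i j : κ →ₐ[k] AlgebraicClosure k), j.fieldRange ≤ i.fieldRange := by
    intro i j
    obtain ⟨g, hg⟩ := hmove (pt i) (pt j) (Over.OverMorphism.ext ((hptw i).trans (hptw j).symm))
    have hg' : Spec.map (CommRingCat.ofHom j.toRingHom) ≫ W.left.fromSpecResidueField z =
        (Spec.map (CommRingCat.ofHom i.toRingHom) ≫ W.left.fromSpecResidueField z) ≫ (Pg g).left :=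
      congrArg Over.Hom.left hg
    have hfix : (Pg g).left z = z := by
      have h1 := congrArg (fun m : Spec (CommRingCat.of (AlgebraicClosure k)) ⟶ W.left =>
        m (IsLocalRing.closedPoint (AlgebraicClosure k))) hg'
      rw [Scheme.Hom.comp_apply, Scheme.Hom.comp_apply, Scheme.Hom.comp_apply] at h1
      exact ((congrArg (Pg g).left (Scheme.fromSpecResidueField_apply (X := W.left) z _)).symm.trans
        (h1.symm.trans (Scheme.fromSpecResidueField_apply (X := W.left) z _)))
    let τ : κ ⟶ κ := (W.left.residueFieldCongr hfix.symm).hom ≫ (Pg g).left.residueFieldMap z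
    have hτ : Spec.map τ ≫ W.left.fromSpecResidueField z = W.left.fromSpecResidueField z ≫ (Pg g).left := by
      rw [← Scheme.Hom.SpecMap_residueFieldMap_fromSpecResidueField, Spec.map_comp, Category.assoc,
        Scheme.residueFieldCongr_fromSpecResidueField]
    rw [Category.assoc, ← hτ, ← Category.assoc, cancel_mono, ← Spec.map_comp] at hg'
    have hj := congrArg CommRingCat.Hom.hom (Spec.map_injective hg')
    rintro _ ⟨x, rfl⟩
    exact ⟨τ.hom x, (RingHom.congr_fun hj x).symm⟩
  haveI : Normal k κ := by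
    let i : κ →ₐ[k] AlgebraicClosure k := IsAlgClosed.lift
    let e : κ ≃ₐ[k] i.fieldRange := AlgEquiv.ofInjectiveField i
    haveI : Normal k i.fieldRange := IntermediateField.normal_iff_forall_fieldRange_le.2 fun τ => by
      refine le_trans ?_ (hnormal i (τ.comp e.toAlgHom))
      rintro _ ⟨x, rfl⟩
      exact ⟨e.symm x, congrArg τ (e.apply_symm_apply x)⟩
    exact Normal.of_algEquiv e.symm
  haveI : IsGalois k κ := ⟨⟩
  -- the point and the group
  let σ' : Spec (CommRingCat.of κ) ⟶ S := Spec.map (CommRingCat.ofHom (algebraMap k κ)) ≫ σ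
  let z₀ : Over.mk σ' ⟶ W := pt (AlgHom.id k κ)
  let x' : Over.mk σ' ⟶ U := z₀ ≫ p
  have hz₀ : z₀.left = W.left.fromSpecResidueField z := by
    change Spec.map (CommRingCat.ofHom (RingHom.id κ)) ≫ _ = _
    rw [CommRingCat.ofHom_id, Spec.map_id]
    exact Category.id_comp _
  let sh : (κ ≃ₐ[k] κ) → (Over.mk σ' ⟶ Over.mk σ') := fun e =>
    Over.homMk (Spec.map (CommRingCat.ofHom e.toRingEquiv.toRingHom)) (by
      change Spec.map _ ≫ Spec.map _ ≫ σ = Spec.map _ ≫ σ
      rw [← Spec.map_comp_assoc]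
      congr 2
      ext x
      exact e.commutes x)
  have hsh : ∀ e e', sh (e * e') = sh e ≫ sh e' := fun e e' => Over.OverMorphism.ext (by
    change Spec.map _ = Spec.map _ ≫ Spec.map _
    rw [← Spec.map_comp]
    rfl)
  have hshw : ∀ e, sh e ≫ z₀ ≫ w = z₀ ≫ w := fun e => Over.OverMorphism.ext (by
    have h1 : (z₀ ≫ w).left = Spec.map (CommRingCat.ofHom (algebraMap k κ)) := hptw (AlgHom.id k κ)
    rw [Over.comp_left, h1]
    change Spec.map _ ≫ Spec.map _ = Spec.map _
    rw [← Spec.map_comp]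
    congr 1
    ext x
    exact e.commutes x)
  have hθ' : ∀ e, ∃ g, sh e ≫ x' = x' ≫ (ρ g).hom := fun e => by
    obtain ⟨g, hg⟩ := hmove z₀ (sh e ≫ z₀) (by rw [Category.assoc, hshw])
    exact ⟨g, by rw [← Category.assoc, hg, Category.assoc, hPp, ← Category.assoc]⟩
  choose θ₀ hθ₀ using hθ'
  have huniq : ∀ g g', x' ≫ (ρ g).hom = x' ≫ (ρ g').hom → g = g' := fun g g' h =>
    FreeAct.eq_of_comp_eq ρ hfree (IsLocalRing.closedPoint κ) x' g g' h
  have hθm : ∀ e e', θ₀ (e * e') = θ₀ e' * θ₀ e := fun e e' => by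
    refine huniq _ _ ?_
    rw [← hθ₀, hsh, Category.assoc, hθ₀, ← Category.assoc, hθ₀, Category.assoc, ← FreeAct.hom_mul]
  have hone : θ₀ 1 = 1 := by
    have h := hθm 1 1
    rw [one_mul] at h
    exact left_eq_mul.1 h
  let θ : (κ ≃ₐ[k] κ) →* G :=
    { toFun := fun e => θ₀ e⁻¹
      map_one' := by rw [inv_one]; exact hone
      map_mul' := fun e e' => by rw [mul_inv_rev, hθm] }
  have hinj : Function.Injective θ := by
    refine (injective_iff_map_eq_one θ).2 fun e he => ?_
    have h1 : sh e⁻¹ ≫ x' = x' := by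
      rw [hθ₀, show θ₀ e⁻¹ = 1 from he, map_one]
      exact Category.comp_id x'
    have h2 : sh e⁻¹ ≫ z₀ = z₀ := hext _ _ (by rw [Category.assoc]; exact h1) (by rw [Category.assoc, hshw])
    have h3 : Spec.map (CommRingCat.ofHom e⁻¹.toRingEquiv.toRingHom) ≫ W.left.fromSpecResidueField z =
        W.left.fromSpecResidueField z := by
      rw [← hz₀]; exact congrArg Over.Hom.left h2
    have h4 : CommRingCat.ofHom e⁻¹.toRingEquiv.toRingHom = 𝟙 κ := Spec.map_injective (by
      rw [← cancel_mono (W.left.fromSpecResidueField z), h3]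
      refine Eq.trans ?_ (congrArg (· ≫ W.left.fromSpecResidueField z) (Spec.map_id κ).symm)
      exact (Category.id_comp _).symm)
    rw [← inv_eq_one]
    exact AlgEquiv.ext fun x => RingHom.congr_fun (congrArg CommRingCat.Hom.hom h4) x
  let e : θ.range ≃* (κ ≃ₐ[k] κ) := (MonoidHom.ofInjective hinj).symm
  refine ⟨κ, inferInstance, inferInstance, inferInstance, inferInstance, θ.range,
    Finite.of_equiv _ e.symm.toEquiv, e, x', fun h => ?_, ?_⟩
  · have h1 : θ₀ (e h)⁻¹ = (h : G) := congrArg Subtype.val (e.symm_apply_apply h)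
    have h2 := congrArg Over.Hom.left (hθ₀ (e h)⁻¹)
    rw [h1] at h2
    exact h2
  · change (yon S).map (z₀ ≫ p) ≫ qπ s t = _
    rw [Functor.map_comp, Category.assoc, sqW.w, ← Functor.map_comp_assoc]
    congr 2
    exact Over.OverMorphism.ext (hptw (AlgHom.id k κ))

end Groth.Agent.S9895
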