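import Groth.Statements.S9904
import Groth.Agent.AlgSpLib.AffineFpqc

set_option autoImplicit false
universe u
open CategoryTheory CategoryTheory.Limits AlgebraicGeometry
open AlgSp

namespace Groth.Agent.S9904

/-- (5) ⇒ (1): separatedness (resp. quasi-separatedness) of a morphism of algebraic spaces descends
along one surjective etale base change from a scheme. -/
theorem result {S : Scheme.{u}} {X Y : AlgSp.Space S} (f : X ⟶ Y) (V : Over S)
    (p : (AlgSp.yon S).obj V ⟶ Y.obj) (hp : AlgSp.RepWith @Etale p) (hps : AlgSp.RepWith @Surjective p)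
    {P : AlgSp.Sp S} (fst : P ⟶ X.obj) (snd : P ⟶ (AlgSp.yon S).obj V) (sq : IsPullback fst snd f.hom p) :
    (AlgSp.IsSeparatedMor snd → AlgSp.IsSeparatedMor f.hom) ∧
    (AlgSp.IsQuasiSeparatedMor snd → AlgSp.IsQuasiSeparatedMor f.hom) := by
  have hcov := AlgSpLib.isFpqcCover_chart hp hps
  have hP := AlgSpLib.isAlgSpace_of_isPullback X.property (IsAlgSpace.yon_obj V) Y.property sq
  exact ⟨fun h => (AlgSpLib.isLocalOnBase_fpqc_isSeparatedMor S (fun _ : PUnit.{u + 1} => _) (fun _ => p) Y.property
      (fun _ => IsAlgSpace.yon_obj V) hcov f.hom X.property _ (fun _ => snd) (fun _ => fst) (fun _ => hP)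
      fun _ => sq).2 fun _ => h,
    fun h => (AlgSpLib.isLocalOnBase_fpqc_isQuasiSeparatedMor S (fun _ : PUnit.{u + 1} => _) (fun _ => p) Y.property
      (fun _ => IsAlgSpace.yon_obj V) hcov f.hom X.property _ (fun _ => snd) (fun _ => fst) (fun _ => hP)
      fun _ => sq).2 fun _ => h⟩

end Groth.Agent.S9904
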