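import Groth.Statements.S9915
import Groth.Agent.AlgSpLib.Qc

set_option autoImplicit false
universe u
open CategoryTheory CategoryTheory.Limits AlgebraicGeometry
open AlgSp

namespace Groth.Agent.S9915

/-- In a commutative triangle of algebraic spaces with f : X -> Y surjective, if X -> Z is quasi-compact
then Y -> Z is quasi-compact. -/
theorem result {S : Scheme.{u}} {X Y Z : AlgSp.Space S} (f : X ⟶ Y)
    (p : X ⟶ Z) (q : Y ⟶ Z) (comm : f ≫ q = p) (hf : AlgSp.IsSurjectiveMor f.hom)
    (hp : AlgSp.IsQuasiCompactMor p.hom) : AlgSp.IsQuasiCompactMor q.hom := by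
  intro W W' hW hqc g fst snd sq
  have e : f.hom ≫ q.hom = p.hom := congrArg (·.hom) comm
  have sq' := IsPullback.of_hasPullback f.hom fst
  have hWY := AlgSpLib.isAlgSpace_of_isPullback Y.property hW Z.property sq
  refine AlgSpLib.isQuasiCompactSp_of_surjective hWY (AlgSpLib.map_surjective_of_isPullback sq' hf) ?_
  refine hp hW hqc g (pullback.fst f.hom fst) (pullback.snd f.hom fst ≫ snd) ?_
  rw [← e]
  exact (sq'.paste_vert sq)

end Groth.Agent.S9915
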