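import Groth.Statements.S9927
import Groth.Agent.AlgSpLib.Space

set_option autoImplicit false
universe u
open CategoryTheory CategoryTheory.Limits AlgebraicGeometry
open AlgSp

namespace Groth.Agent.S9927

/-- (4) ⇒ (1): being a monomorphism descends along a surjective etale base change from a scheme. -/
theorem result {S : Scheme.{u}} {X Y : AlgSp.Space S} (f : X ⟶ Y) (V : Over S)
    (p : (AlgSp.yon S).obj V ⟶ Y.obj) (hp : AlgSp.RepWith @Etale p) (hps : AlgSp.RepWith @Surjective p)
    {P : AlgSp.Sp S} (fst : P ⟶ X.obj) (snd : P ⟶ (AlgSp.yon S).obj V) (sq : IsPullback fst snd f.hom p)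
    [Mono snd] : Mono f.hom := by
  refine AlgSpLib.mono_of_injective fun T a b e => ?_
  obtain ⟨T', v, t, sqT⟩ := AlgSpLib.exists_isPullback_yon p (a ≫ f.hom) hp.rep
  have := AlgSpLib.etale_left (AlgSpLib.repWith_of_isPullback sqT hp)
  have := AlgSpLib.surjective_left (AlgSpLib.repWith_of_isPullback sqT hps)
  refine AlgSpLib.eq_of_comp_eq t ?_
  have ha : ((AlgSp.yon S).map t ≫ a) ≫ f.hom = (AlgSp.yon S).map v ≫ p := by
    rw [Category.assoc]; exact sqT.w.symm
  have hb : ((AlgSp.yon S).map t ≫ b) ≫ f.hom = (AlgSp.yon S).map v ≫ p := by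
    rw [Category.assoc, ← e]; exact sqT.w.symm
  rw [← sq.lift_fst _ _ ha, ← sq.lift_fst _ _ hb]
  congr 1
  rw [← cancel_mono snd, sq.lift_snd, sq.lift_snd]

end Groth.Agent.S9927
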