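import Groth.Statements.S9929
import Groth.Agent.AlgSpLib.DecentBasic

set_option autoImplicit false
universe u
open CategoryTheory CategoryTheory.Limits AlgebraicGeometry
open AlgSp

namespace Groth.Agent.S9929

/-- A monomorphism from an algebraic space to the spectrum of a field is either the empty space or an
isomorphism. -/
theorem result {S : Scheme.{u}} {k : Type u} [Field k] (str : Spec (CommRingCat.of k) ⟶ S)
    (Z : AlgSp.Space S) (f : Z ⟶ (AlgSp.ofScheme S).obj (Over.mk str)) [Mono f.hom] :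
    IsEmpty (AlgSp.Points Z.obj) ∨ IsIso f := by
  by_cases hE : IsEmpty (AlgSp.Points Z.obj)
  · exact Or.inl hE
  refine Or.inr ?_
  obtain ⟨ι, U, a, hU, ha, -, hs⟩ := AlgSpLib.exists_affine_charts Z.property
  obtain ⟨z⟩ := not_isEmpty_iff.1 hE
  obtain ⟨i, v, -⟩ := hs z
  obtain ⟨v, -⟩ := (AlgSp.Points.schemeHomeo (U i)).surjective v
  haveI := hU i
  let T : Over S := Over.mk str
  haveI : IsAffine T.left := inferInstanceAs (IsAffine (Spec (CommRingCat.of k)))
  obtain ⟨q, hq⟩ := (AlgSp.yon S).map_surjective (a i ≫ f.hom)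
  haveI : Surjective q.left := ⟨fun x => ⟨v, Subsingleton.elim (α := PrimeSpectrum k) _ _⟩⟩
  haveI : Flat q.left := by
    haveI : IsIntegral T.left := inferInstanceAs (IsIntegral (Spec (CommRingCat.of k)))
    haveI : Subsingleton T.left := inferInstanceAs (Subsingleton (PrimeSpectrum k))
    infer_instance
  have hT := IsAlgSpace.yon_obj (S := S) T
  have hV := IsAlgSpace.yon_obj (S := S) (U i)
  have hcov := AlgSpLib.isFpqcCover_singleton hV hT (f := (AlgSp.yon S).map q)
    ((AlgSpLib.locP_yon_map_iff q).2 inferInstance)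
    (AlgSpLib.isQuasiCompactMor_of_repWith hV hT ((repWith_yon_map_iff _ q).2 (inferInstanceAs (QuasiCompact q.left))))
    (AlgSpLib.map_surjective_of_repWith ((repWith_yon_map_iff _ q).2 (inferInstanceAs (Surjective q.left))))
  have sq := IsPullback.of_hasPullback f.hom ((AlgSp.yon S).map q)
  haveI : IsSplitEpi (pullback.snd f.hom ((AlgSp.yon S).map q)) :=
    ⟨⟨⟨sq.lift (a i) (𝟙 _) (by rw [Category.id_comp]; exact hq.symm), sq.lift_snd _ _ _⟩⟩⟩
  haveI : IsIso (pullback.snd f.hom ((AlgSp.yon S).map q)) := isIso_of_mono_of_isSplitEpi _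
  haveI : IsIso f.hom := (AlgSpLib.isLocalOnBase_fpqc_isomorphisms S (fun _ : PUnit.{u + 1} => _)
    (fun _ => (AlgSp.yon S).map q) hT (fun _ => hV) hcov f.hom Z.property _ (fun _ => pullback.snd _ _)
    (fun _ => pullback.fst _ _) (fun _ => AlgSpLib.isAlgSpace_pullback Z.property hV hT _ _) fun _ => sq).2
    fun _ => inferInstanceAs (IsIso (pullback.snd f.hom ((AlgSp.yon S).map q)))
  haveI : IsIso ((ObjectProperty.ι (AlgSp.IsAlgSpace (S := S))).map f) := inferInstanceAs (IsIso f.hom)
  exact isIso_of_reflects_iso f (ObjectProperty.ι _)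

end Groth.Agent.S9929
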