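import Groth.Statements.S9932
import Groth.Agent.AlgSpLib.ImmLocal

set_option autoImplicit false
universe u
open CategoryTheory CategoryTheory.Limits AlgebraicGeometry
open AlgSp

namespace Groth.Agent.S9932

/-- (4) ⇒ (1): for P = closed immersion, open immersion or immersion, being representable with P
descends along a surjective etale base change from a scheme. -/
theorem result {S : Scheme.{u}} (P : MorphismProperty Scheme.{u})
    (hP : P = @IsClosedImmersion ∨ P = @IsOpenImmersion ∨ P = @IsImmersion) {X Y : AlgSp.Space S} (f : X ⟶ Y)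
    (V : Over S) (p : (AlgSp.yon S).obj V ⟶ Y.obj) (hp : AlgSp.RepWith @Etale p) (hps : AlgSp.RepWith @Surjective p)
    {P₀ : AlgSp.Sp S} (fst : P₀ ⟶ X.obj) (snd : P₀ ⟶ (AlgSp.yon S).obj V) (sq : IsPullback fst snd f.hom p)
    (h : AlgSp.RepWith P snd) : AlgSp.RepWith P f.hom := by
  refine AlgSpLib.repWith_imm_of_fppf hP (ι := PUnit.{u + 1}) Y.property (fun _ => IsAlgSpace.yon_obj V)
    (AlgSpLib.isFppfCover_of_charts (fun _ => p) (fun _ => hp) fun y => ⟨⟨⟩, ?_⟩) X.property (fun _ => sq) fun _ => h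
  obtain ⟨v, rfl⟩ := AlgSpLib.surjective_ofPt hps y
  exact ⟨Points.ofPt (𝟙 ((AlgSp.yon S).obj V)) v, by rw [Points.map_ofPt, Category.id_comp]⟩

end Groth.Agent.S9932
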