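import Groth.Statements.S9933
import Groth.Agent.AlgSpLib.Sep

set_option autoImplicit false
universe u
open CategoryTheory CategoryTheory.Limits AlgebraicGeometry
open AlgSp

namespace Groth.Agent.S9933

/-- Permanence for Z -> Y -> X: the five representable finiteness/separation properties of Z -> X pass
to Z -> Y, and a closed immersion Z -> X with Y -> X separated gives a closed immersion Z -> Y. -/
theorem result {S : Scheme.{u}} {Z Y X : AlgSp.Space S} (a : Z ⟶ Y) (b : Y ⟶ X) :
    ((AlgSp.Representable (a ≫ b).hom ∧ AlgSp.RepWith @LocallyOfFiniteType (a ≫ b).hom ∧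
        AlgSp.RepWith (@LocallyQuasiFinite ⊓ @LocallyOfFiniteType) (a ≫ b).hom ∧
        AlgSp.RepWith @IsSeparated (a ≫ b).hom ∧
        AlgSp.RepWith (MorphismProperty.monomorphisms Scheme.{u}) (a ≫ b).hom) →
      (AlgSp.Representable a.hom ∧ AlgSp.RepWith @LocallyOfFiniteType a.hom ∧
        AlgSp.RepWith (@LocallyQuasiFinite ⊓ @LocallyOfFiniteType) a.hom ∧
        AlgSp.RepWith @IsSeparated a.hom ∧
        AlgSp.RepWith (MorphismProperty.monomorphisms Scheme.{u}) a.hom)) ∧
    (AlgSp.RepWith @IsClosedImmersion (a ≫ b).hom → AlgSp.IsSeparatedMor b.hom →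
      AlgSp.RepWith @IsClosedImmersion a.hom) := by
  have sq := IsPullback.of_hasPullback (a.hom ≫ b.hom) b.hom
  let Γ : Z.obj ⟶ pullback (a.hom ≫ b.hom) b.hom := pullback.lift (𝟙 _) a.hom (by simp)
  have h1 : Γ ≫ pullback.fst (a.hom ≫ b.hom) b.hom = 𝟙 _ := pullback.lift_fst _ _ _
  have h2 : Γ ≫ pullback.snd (a.hom ≫ b.hom) b.hom = a.hom := pullback.lift_snd _ _ _
  constructor
  · rintro ⟨-, g2, g3, g4, g5⟩
    obtain ⟨-, d2, d3, d4, d5⟩ := AlgSpLib.repWith_diagonal_properties
      (AlgSpLib.isAlgSpace_pullback Z.property Y.property X.property (a.hom ≫ b.hom) b.hom)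
      (pullback.fst (a.hom ≫ b.hom) b.hom)
    haveI : (@LocallyQuasiFinite ⊓ @LocallyOfFiniteType : MorphismProperty Scheme.{u}).IsStableUnderComposition :=
      AlgSpLib.isStableUnderComposition_of_list (Or.inr (Or.inr (Or.inr (Or.inr (Or.inr (Or.inl fun _ _ _ => Iff.rfl))))))
    have k2 := AlgSpLib.repWith_comp (AlgSpLib.repWith_section h1 d2) (AlgSpLib.repWith_of_isPullback sq g2)
    rw [h2] at k2
    refine ⟨k2.rep, k2, ?_, ?_, ?_⟩
    · rw [← h2]; exact AlgSpLib.repWith_comp (AlgSpLib.repWith_section h1 d3) (AlgSpLib.repWith_of_isPullback sq g3)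
    · rw [← h2]; exact AlgSpLib.repWith_comp (AlgSpLib.repWith_section h1 d4) (AlgSpLib.repWith_of_isPullback sq g4)
    · rw [← h2]; exact AlgSpLib.repWith_comp (AlgSpLib.repWith_section h1 d5) (AlgSpLib.repWith_of_isPullback sq g5)
  · intro g1 hs
    rw [← h2]
    exact AlgSpLib.repWith_comp (AlgSpLib.repWith_section h1 (AlgSpLib.repWith_diagonal_of_isPullback sq.flip hs))
      (AlgSpLib.repWith_of_isPullback sq g1)

end Groth.Agent.S9933
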