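import Groth.Statements.S9934
import Groth.Agent.AlgSpLib.Points

set_option autoImplicit false
universe u
open CategoryTheory CategoryTheory.Limits AlgebraicGeometry
open AlgSp

namespace Groth.Agent.S9934

/-- An immersion of algebraic spaces is a closed immersion exactly when its image on points is closed. -/
theorem result {S : Scheme.{u}} {Z X : AlgSp.Space S} (i : Z ⟶ X)
    (hi : AlgSp.RepWith @IsImmersion i.hom) :
    AlgSp.RepWith @IsClosedImmersion i.hom ↔ IsClosed (Set.range (AlgSp.Points.map i.hom)) := by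
  refine ⟨fun h => ?_, fun h => ⟨hi.rep, fun T W b fst snd sq => ?_⟩⟩
  · obtain ⟨U, a, ha, has⟩ := X.property.atlas
    obtain ⟨W, p, q, sq⟩ : ∃ (W : Over S) (q : (AlgSp.yon S).obj W ⟶ Z.obj) (r : W ⟶ U),
        IsPullback q ((AlgSp.yon S).map r) i.hom a :=
      ⟨_, h.rep.fst a, h.rep.snd a, h.rep.isPullback a⟩
    have : IsClosedImmersion q.left := h.property _ _ _ sq
    rw [← (AlgSpLib.isQuotientMap_ofPt ha has).isClosed_preimage]
    convert q.left.isClosedEmbedding.isClosed_range using 1
    ext u
    constructor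
    · rintro ⟨z, hz⟩
      rw [AlgSpLib.ofPt_comp_ofScheme] at hz
      obtain ⟨w, -, h2⟩ := AlgSpLib.exists_point_isPullback sq z _ hz
      obtain ⟨w, rfl⟩ := (Points.schemeHomeo W).surjective w
      rw [Points.map_yon_map_apply] at h2
      exact ⟨w, (Points.schemeHomeo U).injective h2⟩
    · rintro ⟨w, rfl⟩
      exact ⟨Points.ofPt p w, by rw [Points.map_ofPt, sq.w, AlgSpLib.ofPt_yon_comp]⟩
  · have : IsImmersion snd.left := hi.property _ _ _ sq
    change IsClosedImmersion snd.left
    refine IsClosedImmersion.of_isPreimmersion _ ?_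
    convert h.preimage (Points.continuous_ofPt b) using 1
    ext u
    constructor
    · rintro ⟨w, rfl⟩
      exact ⟨Points.ofPt fst w, by rw [Points.map_ofPt, sq.w, AlgSpLib.ofPt_yon_comp]⟩
    · rintro ⟨z, hz⟩
      rw [AlgSpLib.ofPt_comp_ofScheme] at hz
      obtain ⟨w, -, h2⟩ := AlgSpLib.exists_point_isPullback sq z _ hz
      obtain ⟨w, rfl⟩ := (Points.schemeHomeo W).surjective w
      rw [Points.map_yon_map_apply] at h2
      exact ⟨w, (Points.schemeHomeo T).injective h2⟩

end Groth.Agent.S9934
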