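import Groth.Statements.S9935
import Groth.Agent.AlgSpRegLib.ImageImmersion
-- import your own Groth.Agent.* helpers here

set_option autoImplicit false
universe u
open CategoryTheory CategoryTheory.Limits AlgebraicGeometry
open AlgSp

namespace Groth.Agent.S9935

/-- A quasi-compact immersion of algebraic spaces factors as an open immersion followed by a closed
immersion. -/
theorem result {S : Scheme.{u}} {Z X : AlgSp.Space S}
    (i : Z ⟶ X) (hi : AlgSp.RepWith @IsImmersion i.hom) (hq : AlgSp.IsQuasiCompactMor i.hom) :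
    ∃ (Zbar : AlgSp.Space S) (j : Z ⟶ Zbar) (c : Zbar ⟶ X), j ≫ c = i ∧
      AlgSp.RepWith @IsOpenImmersion j.hom ∧ AlgSp.RepWith @IsClosedImmersion c.hom := by
  obtain ⟨Zb, c, hZb, hc⟩ := AlgSpRegLib.exists_schImage Z.property X.property i.hom
  obtain ⟨h', fac⟩ := hc.2.1
  exact ⟨⟨Zb, hZb⟩, ObjectProperty.homMk h', ObjectProperty.homMk c, ObjectProperty.hom_ext _ fac,
    (AlgSpRegLib.immersion_into_schImage Z.property X.property hi (Or.inl hq) hc fac).1, hc.1⟩

end Groth.Agent.S9935
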