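import Groth.Statements.S9940
import Groth.Agent.AlgSpLib.Qc

set_option autoImplicit false
universe u
open CategoryTheory CategoryTheory.Limits AlgebraicGeometry
open AlgSp

namespace Groth.Agent.S9940

/-- (4) ⇒ (1): universal injectivity of a morphism of algebraic spaces descends along a surjective base
change from a scheme. -/
theorem result {S : Scheme.{u}} {X Y : AlgSp.Space S} (f : X ⟶ Y)
    (Z : Over S) (g : (AlgSp.yon S).obj Z ⟶ Y.obj) (hg : AlgSp.IsSurjectiveMor g) {P : AlgSp.Sp S}
    (fst : P ⟶ X.obj) (snd : P ⟶ (AlgSp.yon S).obj Z) (sq : IsPullback fst snd f.hom g)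
    (h : AlgSp.IsUnivInjectiveMor snd) : AlgSp.IsUnivInjectiveMor f.hom := by
  intro W W' hW t fst' snd' sq'
  have hU := IsPullback.of_hasPullback g t
  refine AlgSpLib.injective_descend (ι := PUnit.{u + 1}) (c := fun _ => pullback.snd g t)
    (fun _ => IsPullback.of_hasPullback snd' (pullback.snd g t))
    (fun w => ⟨⟨⟩, AlgSpLib.map_surjective_of_isPullback hU hg w⟩) fun _ => ?_
  have big : IsPullback (pullback.fst snd' (pullback.snd g t) ≫ fst')
      (pullback.snd snd' (pullback.snd g t)) f.hom (pullback.fst g t ≫ g) := by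
    rw [hU.w]
    exact (IsPullback.of_hasPullback _ _).paste_horiz sq'
  refine h (AlgSpLib.isAlgSpace_pullback (AlgSp.IsAlgSpace.yon_obj Z) hW Y.property g t) (pullback.fst g t)
    (sq.lift _ _ (big.w.trans (Category.assoc _ _ _).symm)) _ (IsPullback.of_right ?_ (sq.lift_snd _ _ _) sq)
  rw [sq.lift_fst]
  exact big

end Groth.Agent.S9940
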