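import Groth.Statements.S9942
import Groth.Agent.AlgSpLib.AffineFpqc

set_option autoImplicit false
universe u
open CategoryTheory CategoryTheory.Limits AlgebraicGeometry
open AlgSp

namespace Groth.Agent.S9942

/-- (3) ⇒ (2): if X x_Y V is an affine scheme for every affine scheme V etale over Y, then f : X -> Y is
affine. -/
theorem result {S : Scheme.{u}} {X Y : AlgSp.Space S} (f : X ⟶ Y)
    (h : ∀ (V : Over S), IsAffine V.left → ∀ (b : (AlgSp.yon S).obj V ⟶ Y.obj), AlgSp.RepWith @Etale b →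
      ∀ (P : AlgSp.Sp S) (fst : P ⟶ X.obj) (snd : P ⟶ (AlgSp.yon S).obj V), IsPullback fst snd f.hom b →
      ∃ (W : Over S), IsAffine W.left ∧ Nonempty ((AlgSp.yon S).obj W ≅ P)) :
    AlgSp.IsAffineMor f.hom := by
  obtain ⟨ι, U, a, hU, ha, -, hs⟩ := AlgSpLib.exists_affine_charts Y.property
  have hτ : AlgSp.IsFpqcCover (fun i => (AlgSp.yon S).obj (U i)) a :=
    AlgSpLib.isFpqcCover_of_isFppfCover Y.property (fun i => IsAlgSpace.yon_obj _)
      ⟨fun i => ⟨AlgSpLib.locP_of_repWith (AlgSpLib.repWith_mono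
        (fun _ _ g (_ : Etale g) => (inferInstance : Flat g)) (ha i)),
        AlgSpLib.locP_of_repWith (AlgSpLib.repWith_mono
        (fun _ _ g (_ : Etale g) => (inferInstance : LocallyOfFinitePresentation g)) (ha i))⟩, hs⟩
  refine AlgSpLib.isAffineMor_of_fpqc Y.property hτ X.property (fun i => IsPullback.of_hasPullback f.hom (a i))
    fun i => AlgSpLib.isAffineMor_iff.2 ?_
  obtain ⟨W, hW, ⟨e⟩⟩ := h (U i) (hU i) (a i) (ha i) _ _ _ (IsPullback.of_hasPullback f.hom (a i))
  obtain ⟨s, hs⟩ := (AlgSp.yon S).map_surjective (e.hom ≫ pullback.snd f.hom (a i))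
  haveI := hU i
  haveI := hW
  have he : pullback.snd f.hom (a i) = e.inv ≫ (AlgSp.yon S).map s := by rw [hs, e.inv_hom_id_assoc]
  rw [he]
  exact AlgSpLib.repWith_comp (AlgSpLib.repWith_of_isIso _)
    ((repWith_yon_map_iff (P := (@IsAffineHom : MorphismProperty Scheme.{u})) s).2 inferInstance)

end Groth.Agent.S9942
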