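import Groth.Statements.S9944
import Groth.Agent.AlgSpLib.MorPack

set_option autoImplicit false
universe u
open CategoryTheory CategoryTheory.Limits AlgebraicGeometry
open AlgSp

namespace Groth.Agent.S9944

/-- Let g : X -> Y be a morphism over a base algebraic space B with X affine over B. Then g is affine as
soon as the diagonal of Y over B is affine, and in particular as soon as Y is B-separated. (The
published lemma also has two versions with the absolute diagonal of Y; this row states the versions
over B.) -/
theorem result {S : Scheme.{u}} {X Y B : AlgSp.Space S} (g : X ⟶ Y) (p : X ⟶ B)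
    (q : Y ⟶ B) (comm : g ≫ q = p) (hp : AlgSp.IsAffineMor p.hom) :
    (AlgSp.IsAffineMor (pullback.diagonal q.hom) → AlgSp.IsAffineMor g.hom) ∧
    (AlgSp.IsSeparatedMor q.hom → AlgSp.IsAffineMor g.hom) := by
  have main : AlgSp.IsAffineMor (pullback.diagonal q.hom) → AlgSp.IsAffineMor g.hom := fun hd => by
    have hq : g.hom ≫ q.hom = p.hom := congrArg InducedCategory.Hom.hom comm
    have hc : 𝟙 X.obj ≫ p.hom = g.hom ≫ q.hom := by rw [Category.id_comp, hq]
    let Γ : X.obj ⟶ pullback p.hom q.hom := pullback.lift (𝟙 _) g.hom hc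
    have h1 : Γ ≫ pullback.fst p.hom q.hom = 𝟙 _ := pullback.lift_fst _ _ _
    have h2 : Γ ≫ pullback.snd p.hom q.hom = g.hom := pullback.lift_snd _ _ _
    have sq := IsPullback.of_hasPullback p.hom q.hom
    have hd' : RepWith @IsAffineHom (pullback.diagonal (pullback.fst p.hom q.hom)) :=
      AlgSpLib.repWith_diagonal_of_isPullback sq.flip (AlgSpLib.isAffineMor_iff.1 hd)
    rw [AlgSpLib.isAffineMor_iff, ← h2]
    exact AlgSpLib.repWith_comp (AlgSpLib.repWith_section h1 hd')
      (AlgSpLib.repWith_of_isPullback sq (AlgSpLib.isAffineMor_iff.1 hp))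
  exact ⟨main, fun h => main (AlgSpLib.isAffineMor_iff.2
    (AlgSpLib.repWith_mono (fun _ _ g (_ : IsClosedImmersion g) => (inferInstance : IsAffineHom g)) h))⟩

end Groth.Agent.S9944
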