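import Groth.Statements.S9945
import Groth.Agent.AlgSpLib.QcQs
import Groth.Agent.AlgSpLib.MorPack
import Groth.Agent.MonoPtLib.Basic

set_option autoImplicit false
set_option backward.isDefEq.respectTransparency false
set_option backward.isDefEq.respectTransparency.types false
universe u
open CategoryTheory CategoryTheory.Limits AlgebraicGeometry
open AlgSp

namespace Groth.Agent.S9945

/-- Over a base scheme with quasi-separated underlying space, every morphism from the spectrum of an
Artinian ring to an algebraic space quasi-separated over S is affine. (The published statement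
assumes X quasi-separated in the absolute sense over any base; this row assumes the base
quasi-separated and X quasi-separated over it, which on such bases is the same condition.) -/
theorem result {S : Scheme.{u}} [QuasiSeparatedSpace ↥S] (X : AlgSp.Space S)
    (hX : AlgSp.IsQuasiSeparatedSp X.obj) (A : Type u) [CommRing A] [IsArtinianRing A]
    (str : Spec (CommRingCat.of A) ⟶ S) (a : (AlgSp.yon S).obj (Over.mk str) ⟶ X.obj) :
    AlgSp.IsAffineMor a := by
  haveI : IsArtinianScheme (Spec (CommRingCat.of A)) := inferInstance
  haveI : IsLocallyArtinian (Over.mk str).left := inferInstanceAs (IsLocallyArtinian (Spec (CommRingCat.of A)))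
  haveI : CompactSpace ↥(Over.mk str).left := inferInstanceAs (CompactSpace (Spec (CommRingCat.of A)))
  have hT := IsAlgSpace.yon_obj (S := S) (Over.mk str)
  have hrep := X.property.representable_from_yon a
  have hqc : RepWith @QuasiCompact a := (AlgSpLib.repWith_quasiCompact_iff hT X.property hrep).2
    (AlgSpLib.isQuasiCompactMor_of_qcSp_qsSp hT X.property a (AlgSpLib.isQuasiCompactSp_yon _) hX)
  obtain ⟨U, p, hp, hps⟩ := X.property.atlas
  have sq := hrep.isPullback p
  haveI : QuasiCompact (hrep.snd p).left := hqc.property _ _ _ sq
  have hfst : RepWith @Etale (hrep.fst p) := AlgSpLib.repWith_of_isPullback sq.flip hp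
  obtain ⟨e, he⟩ := (yon S).map_surjective (hrep.fst p)
  haveI : Etale e.left := AlgSpLib.etale_left (he ▸ hfst)
  haveI : LocallyQuasiFinite e.left := AlgSpLib.locallyQuasiFinite_of_etale e.left
  haveI : IsLocallyArtinian (hrep.pullback p).left := .of_locallyQuasiFinite e.left
  haveI : IsAffineHom (hrep.snd p).left := ⟨fun O hO => by
    haveI : CompactSpace ((hrep.snd p).left ⁻¹ᵁ O).toScheme :=
      isCompact_iff_compactSpace.1 (QuasiCompact.isCompact_preimage _ O.isOpen hO.isCompact)
    haveI : IsArtinianScheme ((hrep.snd p).left ⁻¹ᵁ O).toScheme := {}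
    exact (inferInstance : IsAffine ((hrep.snd p).left ⁻¹ᵁ O).toScheme)⟩
  exact AlgSpLib.isAffineMor_iff.2 (AlgSpLib.repWith_of_etale_cover
    (P := (@IsAffineHom : MorphismProperty Scheme.{u})) le_rfl hp hps sq
    ((repWith_yon_map_iff (P := (@IsAffineHom : MorphismProperty Scheme.{u})) (hrep.snd p)).2 inferInstance))

end Groth.Agent.S9945
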