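import Groth.Statements.S9954
import Groth.Agent.AlgSpLib.Points
import Groth.Agent.AlgSpLib.LocP
import Mathlib.AlgebraicGeometry.AlgClosed.Basic
import Mathlib.AlgebraicGeometry.Morphisms.Etale

set_option autoImplicit false
set_option backward.isDefEq.respectTransparency false
set_option backward.isDefEq.respectTransparency.types false
universe u
open CategoryTheory CategoryTheory.Limits AlgebraicGeometry
open AlgSp

namespace Groth.Agent.S9954

/-- A morphism locally of finite type is surjective if and only if it is surjective on k-valued points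
for every algebraically closed field k over the base. -/
theorem result {S : Scheme.{u}} {X Y : AlgSp.Space S} (f : X ⟶ Y)
    (hf : AlgSp.LocP @LocallyOfFiniteType f.hom) :
    AlgSp.IsSurjectiveMor f.hom ↔
      ∀ (k : Type u) [Field k] [IsAlgClosed k] (str : Spec (CommRingCat.of k) ⟶ S)
        (y : (AlgSp.yon S).obj (Over.mk str) ⟶ Y.obj),
        ∃ x : (AlgSp.yon S).obj (Over.mk str) ⟶ X.obj, x ≫ f.hom = y := by
  constructor
  · intro hs k _ _ str y
    let T : Over S := Over.mk str
    have sq := IsPullback.of_hasPullback f.hom y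
    have hP := AlgSpLib.isAlgSpace_pullback X.property (IsAlgSpace.yon_obj T) Y.property f.hom y
    have hl := AlgSpLib.locP_of_isPullback X.property Y.property (IsAlgSpace.yon_obj T) sq hf
    obtain ⟨U, a, ha, has⟩ := hP.atlas
    obtain ⟨u, hu⟩ := (AlgSp.yon S).map_surjective (a ≫ pullback.snd f.hom y)
    haveI : LocallyOfFiniteType u.left := hl a (𝟙 _) u ha (repWith_id (@Etale : MorphismProperty Scheme.{u}) T) (by rw [Category.comp_id, hu])
    haveI : Nonempty U.left := by
      obtain ⟨x, hx⟩ := AlgSpLib.map_surjective_of_isPullback sq hs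
        (Points.schemeHomeo T (IsLocalRing.closedPoint k))
      obtain ⟨v, -⟩ := AlgSpLib.surjective_ofPt has x
      exact ⟨v⟩
    haveI : JacobsonSpace U.left := LocallyOfFiniteType.jacobsonSpace (Y := Spec (.of k)) u.left
    obtain ⟨c, -, hc⟩ := nonempty_inter_closedPoints (Z := (Set.univ : Set U.left)) Set.univ_nonempty
      isOpen_univ.isLocallyClosed
    let σ := pointOfClosedPoint (K := k) u.left c hc
    let σ' : T ⟶ U := Over.homMk σ (by
      rw [← Over.w u, ← Category.assoc]
      exact (congrArg (· ≫ T.hom) (pointOfClosedPoint_comp (K := k) u.left c hc)).trans (Category.id_comp _))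
    refine ⟨(AlgSp.yon S).map σ' ≫ a ≫ pullback.fst f.hom y, ?_⟩
    have hσ : σ' ≫ u = 𝟙 T := Over.OverMorphism.ext (pointOfClosedPoint_comp (K := k) u.left c hc)
    rw [Category.assoc, Category.assoc, pullback.condition, ← Category.assoc a, ← hu, ← Category.assoc,
      ← Functor.map_comp, hσ, CategoryTheory.Functor.map_id, Category.id_comp]
  · intro h x
    induction x using Points.ind with
    | h p =>
    let k := AlgebraicClosure p.K
    let q₀ : Spec (CommRingCat.of k) ⟶ p.pt.left := Spec.map (CommRingCat.ofHom (algebraMap p.K k))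
    let q : Over.mk (q₀ ≫ p.pt.hom) ⟶ p.pt := Over.homMk q₀ rfl
    obtain ⟨x, hx⟩ := h k (q₀ ≫ p.pt.hom) ((AlgSp.yon S).map q ≫ AlgSpLib.toMor p)
    let t : (Over.mk (q₀ ≫ p.pt.hom)).left := IsLocalRing.closedPoint k
    refine ⟨Points.ofPt x t, ?_⟩
    rw [Points.map_ofPt, hx, AlgSpLib.ofPt_yon_comp, AlgSpLib.mk_eq_ofPt_toMor]
    congr 1
    exact Subsingleton.elim (α := PrimeSpectrum p.K) _ _

end Groth.Agent.S9954
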