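import Groth.Statements.S9957
import Groth.Agent.AlgSpLib.Noeth

set_option autoImplicit false
universe u
open CategoryTheory CategoryTheory.Limits AlgebraicGeometry
open AlgSp

namespace Groth.Agent.S9957
open AlgSpLib

/-- The source of a morphism of finite presentation whose target is Noetherian is itself Noetherian,
Noetherian meaning quasi-compact, quasi-separated over S and locally Noetherian. (The published
statement uses quasi-separatedness in the absolute sense; this row uses quasi-separatedness over S
in hypothesis and conclusion.) -/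
theorem result {S : Scheme.{u}} {X Y : AlgSp.Space S} (f : X ⟶ Y)
    (hf : AlgSp.IsFinitePresentationMor f.hom)
    (hY : AlgSp.IsQuasiCompactSp Y.obj ∧ AlgSp.IsQuasiSeparatedSp Y.obj ∧ AlgSp.IsLocNoethSp Y.obj) :
    AlgSp.IsQuasiCompactSp X.obj ∧ AlgSp.IsQuasiSeparatedSp X.obj ∧ AlgSp.IsLocNoethSp X.obj := by
  obtain ⟨h1, h2, h3⟩ := hf
  exact ⟨isQuasiCompactSp_of_mor Y.property h2 hY.1, isQuasiSeparatedSp_of_mor h3 hY.2.1,
    isLocNoethSp_of_lft X.property Y.property (fun U V a b h ha hb e => by
      have : LocallyOfFinitePresentation h.left := h1 a b h ha hb e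
      infer_instance) hY.2.2⟩

end Groth.Agent.S9957
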