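import Groth.Statements.S9967
import Groth.Agent.AlgSpRegLib.ImageQc
import Groth.Agent.AlgSpRegLib.ImageIdeal
import Groth.Agent.AlgSpLib.MorPack
import Groth.Agent.AlgSpLib.Sep
-- import your own Groth.Agent.* helpers here

set_option autoImplicit false
universe u
open CategoryTheory CategoryTheory.Limits AlgebraicGeometry
open AlgSp

namespace Groth.Agent.S9967

/-- For a separated f : X -> Y and a section s of f over a quasi-compact open V of Y, the scheme
theoretic image of s maps isomorphically to Y over V. -/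
theorem result {S : Scheme.{u}} {X Y V Y' : AlgSp.Space S} (f : X ⟶ Y) (j : V ⟶ Y)
    (hj : AlgSp.RepWith @IsOpenImmersion j.hom) (hjq : AlgSp.IsQuasiCompactMor j.hom) (hf : AlgSp.IsSeparatedMor f.hom)
    (s : V ⟶ X) (hs : s ≫ f = j) (c : Y' ⟶ X) (hc : AlgSp.IsSchImage s.hom c.hom)
    {P : AlgSp.Sp S} (fst : P ⟶ Y'.obj) (snd : P ⟶ V.obj) (sq : IsPullback fst snd (c ≫ f).hom j.hom) :
    IsIso snd := by
  have es : s.hom ≫ f.hom = j.hom := congrArg (fun k => k.hom) hs
  haveI hjm : Mono j.hom := AlgSpLib.mono_of_repWith (fun g (_ : IsOpenImmersion g) => inferInstance) hj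
  let g : pullback f.hom j.hom ⟶ X.obj := pullback.fst f.hom j.hom
  have sqg := IsPullback.of_hasPullback f.hom j.hom
  have hg : AlgSp.RepWith @IsOpenImmersion g := AlgSpLib.repWith_of_isPullback sqg.flip hj
  have hA := AlgSpLib.isAlgSpace_pullback X.property V.property Y.property f.hom j.hom
  have hgf : AlgSp.LocP @Flat g := AlgSpRegLib.locP_flat_of_repWith_etale
    (AlgSpLib.repWith_mono (fun _ _ k (_ : IsOpenImmersion k) => (inferInstance : Etale k)) hg)
  let s' : V.obj ⟶ pullback f.hom j.hom := pullback.lift s.hom (𝟙 _) (by rw [es, Category.id_comp])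
  haveI : Mono g := AlgSpLib.mono_of_repWith (fun g (_ : IsOpenImmersion g) => inferInstance) hg
  have hs1 : s' ≫ g = s.hom := pullback.lift_fst _ _ _
  have hs2 : s' ≫ pullback.snd f.hom j.hom = 𝟙 _ := pullback.lift_snd _ _ _
  have sqs : IsPullback (𝟙 V.obj) s' s.hom g := by
    refine ⟨⟨by rw [hs1, Category.id_comp]⟩, ⟨PullbackCone.IsLimit.mk _ (fun t => t.fst) (fun t => Category.comp_id _)
      (fun t => ?_) (fun t m h1 _ => by simpa using h1)⟩⟩
    rw [← cancel_mono g, ← t.condition, Category.assoc, hs1]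
  have hsq : AlgSp.IsQuasiCompactMor s.hom := AlgSpLib.isQuasiCompactMor_of_comp V.property X.property Y.property
    (g := f.hom) (es.symm ▸ hjq) (AlgSpLib.isQuasiSeparatedMor_of_isSeparatedMor hf)
  have hsn : IsPullback fst snd (c.hom ≫ f.hom) j.hom := sq
  let m : P ⟶ pullback f.hom j.hom := pullback.lift (fst ≫ c.hom) snd (by rw [Category.assoc]; exact hsn.w)
  have sqm : IsPullback fst m c.hom g :=
    IsPullback.of_bot (by rw [pullback.lift_snd]; exact hsn) (pullback.lift_fst _ _ _).symm sqg
  have him := AlgSpRegLib.isSchImage_base_change V.property X.property hA hsq hc hgf sqs sqm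
  have hs' : AlgSp.RepWith @IsClosedImmersion s' := AlgSpLib.repWith_section (f := pullback.snd f.hom j.hom)
    (pullback.lift_snd _ _ _) (AlgSpLib.repWith_diagonal_of_isPullback sqg hf)
  obtain ⟨l, hl⟩ := him.2.1
  obtain ⟨k, hk⟩ := him.2.2 s' V.property hs' ⟨𝟙 _, Category.id_comp _⟩
  haveI := AlgSpRegLib.mono_of_closedImmersion him.1
  haveI := AlgSpRegLib.mono_of_closedImmersion hs'
  have e : k = snd := by
    have := congrArg (· ≫ pullback.snd f.hom j.hom) hk
    rw [Category.assoc, hs2, Category.comp_id, pullback.lift_snd] at this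
    exact this
  refine ⟨l, ?_, ?_⟩
  · rw [← e, ← cancel_mono m, Category.assoc, hl, hk, Category.id_comp]
  · rw [← e, ← cancel_mono s', Category.assoc, hk, hl, Category.id_comp]

end Groth.Agent.S9967
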