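import Groth.Statements.S9969
import Groth.Agent.AlgSpRegLib.ImageApps
-- import your own Groth.Agent.* helpers here

set_option autoImplicit false
universe u
open CategoryTheory CategoryTheory.Limits AlgebraicGeometry
open AlgSp

namespace Groth.Agent.S9969

/-- For a quasi-compact open subspace, scheme theoretic density is equivalent to the scheme theoretic
closure being everything. -/
theorem result {S : Scheme.{u}} {U X : AlgSp.Space S} (j : U ⟶ X)
    (hj : AlgSp.RepWith @IsOpenImmersion j.hom) (hq : AlgSp.IsQuasiCompactMor j.hom) :
    AlgSp.IsSchDense j.hom ↔ AlgSp.IsSchImage j.hom (𝟙 X.obj) := by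
  exact ⟨fun h => AlgSpRegLib.isSchImage_id_of_isSchDense X.property h,
    fun h => AlgSpRegLib.isSchDense_of_isSchImage_id U.property X.property hj hq h⟩

end Groth.Agent.S9969
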