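import Groth.Statements.S9977
import Groth.Agent.AlgSpLib.FtPoints

set_option autoImplicit false
universe u
open CategoryTheory CategoryTheory.Limits AlgebraicGeometry
open AlgSp

namespace Groth.Agent.S9977

/-- Every nonempty locally closed subset of |X| contains a finite type point, and finite type points are
dense in every closed subset. -/
theorem result {S : Scheme.{u}} (X : AlgSp.Space S) :
    (∀ T : Set (AlgSp.Points X.obj), IsLocallyClosed T → T.Nonempty →
      ∃ x ∈ T, (∃ (k : Type u) (_ : Field k) (str : Spec (CommRingCat.of k) ⟶ S) (ξ : (AlgSp.yon S).obj (Over.mk str) ⟶ X.obj),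
        AlgSp.LocP @LocallyOfFiniteType ξ ∧ AlgSp.Points.ofPt ξ (IsLocalRing.closedPoint k) = x)) ∧
    (∀ T : Set (AlgSp.Points X.obj), IsClosed T →
      T ⊆ closure {x | x ∈ T ∧ (∃ (k : Type u) (_ : Field k) (str : Spec (CommRingCat.of k) ⟶ S) (ξ : (AlgSp.yon S).obj (Over.mk str) ⟶ X.obj),
        AlgSp.LocP @LocallyOfFiniteType ξ ∧ AlgSp.Points.ofPt ξ (IsLocalRing.closedPoint k) = x)}) := by
  have h : ∀ T : Set (AlgSp.Points X.obj), IsLocallyClosed T → T.Nonempty → ∃ x ∈ T,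
      (∃ (k : Type u) (_ : Field k) (str : Spec (CommRingCat.of k) ⟶ S) (ξ : (AlgSp.yon S).obj (Over.mk str) ⟶ X.obj),
        AlgSp.LocP @LocallyOfFiniteType ξ ∧ AlgSp.Points.ofPt ξ (IsLocalRing.closedPoint k) = x) := by
    intro T hT hne
    obtain ⟨x, hx, hxf⟩ := AlgSpLib.exists_ftChartPt_mem X.property hT hne
    exact ⟨x, hx, AlgSpLib.ftPoint_of_chart X.property hxf⟩
  refine ⟨h, fun T hT x hx => mem_closure_iff.2 fun O hO hxO => ?_⟩
  obtain ⟨z, ⟨hzO, hzT⟩, hz⟩ := h (O ∩ T) (hO.isLocallyClosed.inter hT.isLocallyClosed) ⟨x, hxO, hx⟩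
  exact ⟨z, hzO, hzT, hz⟩

end Groth.Agent.S9977
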