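import Groth.Statements.S9978
import Groth.Agent.AlgSpLib.LocP
import Groth.Agent.S9833
import Groth.Agent.S0566

set_option autoImplicit false
universe u
open CategoryTheory CategoryTheory.Limits AlgebraicGeometry
open AlgSp

namespace Groth.Agent.S9978

/-- An algebraic space locally of finite type over a Nagata algebraic space is Nagata. -/
theorem result {S : Scheme.{u}} {X Y : AlgSp.Space S} (f : X ⟶ Y)
    (hf : AlgSp.LocP @LocallyOfFiniteType f.hom)
    (hY : AlgSp.EtaleLocally (fun U => ∀ V : U.Opens, IsAffineOpen V → CAlg.IsNagata ↑Γ(U, V)) Y.obj) :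
    AlgSp.EtaleLocally (fun U => ∀ V : U.Opens, IsAffineOpen V → CAlg.IsNagata ↑Γ(U, V)) X.obj := by
  obtain ⟨V, b, hb, hbs, hV⟩ := hY
  obtain ⟨U, a, h, ha, has, hab⟩ := AlgSpLib.exists_chart_over X.property Y.property f.hom b hb hbs
  haveI : LocallyOfFiniteType h.left := hf a b h ha hb hab
  have key : ∀ u : U.left, ∃ O : U.left.Opens, IsAffineOpen O ∧ u ∈ O ∧ CAlg.IsNagata Γ(U.left, O) := by
    intro u
    obtain ⟨W, hW, huW, -⟩ := exists_isAffineOpen_mem_and_subset (U := ⊤) (x := h.left u) trivial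
    obtain ⟨O, hO, huO, hOW⟩ := exists_isAffineOpen_mem_and_subset (U := h.left ⁻¹ᵁ W) (x := u) huW
    refine ⟨O, hO, huO, ?_⟩
    have hft := LocallyOfFiniteType.finiteType_appLE h.left hW hO hOW
    letI := (h.left.appLE W O hOW).hom.toAlgebra
    haveI : Algebra.FiniteType Γ(V.left, W) Γ(U.left, O) := hft
    exact Groth.Agent.S0566.result Γ(V.left, W) (hV W hW) Γ(U.left, O)
  choose O hO hu hN using key
  exact ⟨U, a, ha, has, fun W hW => Groth.Agent.S9833.result U.left O
    (TopologicalSpace.Opens.ext (Set.eq_univ_of_forall fun u => by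
      rw [TopologicalSpace.Opens.coe_iSup]; exact Set.mem_iUnion.2 ⟨u, hu u⟩)) hO hN W hW⟩

end Groth.Agent.S9978
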