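import Groth.Statements.S9980
import Groth.Agent.AlgSpLib.FtPointQuot

set_option autoImplicit false
universe u
open CategoryTheory CategoryTheory.Limits AlgebraicGeometry
open AlgSp

namespace Groth.Agent.S9980

/-- Characterizations of finite type points via one-point algebraic spaces locally of finite type over X
and via monomorphisms from quotients of spectra of fields. -/
theorem result {S : Scheme.{u}} (X : AlgSp.Space S) (x : AlgSp.Points X.obj) :
    ((∃ (k : Type u) (_ : Field k) (str : Spec (CommRingCat.of k) ⟶ S) (ξ : (AlgSp.yon S).obj (Over.mk str) ⟶ X.obj),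
        AlgSp.LocP @LocallyOfFiniteType ξ ∧ AlgSp.Points.ofPt ξ (IsLocalRing.closedPoint k) = x) ↔
      ∃ (Z : AlgSp.Space S) (f : Z ⟶ X), Nonempty (Unique (AlgSp.Points Z.obj)) ∧
        AlgSp.LocP @LocallyOfFiniteType f.hom ∧ Set.range (AlgSp.Points.map f.hom) = {x}) ∧
    ((∃ (k : Type u) (_ : Field k) (str : Spec (CommRingCat.of k) ⟶ S) (ξ : (AlgSp.yon S).obj (Over.mk str) ⟶ X.obj),
        AlgSp.LocP @LocallyOfFiniteType ξ ∧ AlgSp.Points.ofPt ξ (IsLocalRing.closedPoint k) = x) ↔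
      ∃ (Z : AlgSp.Space S) (f : Z ⟶ X) (k : Type u) (_ : Field k) (str : Spec (CommRingCat.of k) ⟶ S)
        (z : (AlgSp.yon S).obj (Over.mk str) ⟶ Z.obj), AlgSp.RepWith @Etale z ∧ AlgSp.RepWith @Surjective z ∧
        AlgSp.LocP @LocallyOfFiniteType f.hom ∧ Mono f.hom ∧
        AlgSp.Points.ofPt (z ≫ f.hom) (IsLocalRing.closedPoint k) = x) := by
  have toFt : ∀ {k : Type u} [Field k] (str : Spec (CommRingCat.of k) ⟶ S)
      (z : (AlgSp.yon S).obj (Over.mk str) ⟶ X.obj), AlgSp.LocP @LocallyOfFiniteType z →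
      AlgSp.Points.ofPt z (IsLocalRing.closedPoint k) = x → AlgSpLib.IsFtChartPt x :=
    fun str z hz hzx => AlgSpLib.isFtChartPt_of_ftPoint X.property hz hzx
  refine ⟨⟨?_, ?_⟩, ⟨?_, ?_⟩⟩
  · rintro ⟨k, _, str, ξ, hξ, hx⟩
    refine ⟨(AlgSp.ofScheme S).obj (Over.mk str), ObjectProperty.homMk ξ, ?_, hξ, ?_⟩
    · haveI : Unique ↥(Over.mk str).left := inferInstanceAs (Unique (PrimeSpectrum k))
      exact ⟨(AlgSp.Points.schemeEquiv (Over.mk str)).symm.unique⟩
    · change Set.range (AlgSp.Points.map ξ) = {x}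
      rw [← AlgSpLib.range_ofPt]
      haveI : Subsingleton ↥(Over.mk str).left := inferInstanceAs (Subsingleton (PrimeSpectrum k))
      refine Set.eq_singleton_iff_unique_mem.2 ⟨⟨_, hx⟩, ?_⟩
      rintro _ ⟨t, rfl⟩
      rw [← hx]
      exact congrArg _ (Subsingleton.elim _ _)
  · rintro ⟨Z, f, -, hf, hr⟩
    exact AlgSpLib.ftPoint_of_chart X.property
      (AlgSpLib.isFtChartPt_of_range_singleton Z.property X.property hf hr)
  · rintro ⟨k, _, str, ξ, hξ, hx⟩
    obtain ⟨Z, f, K, _, str', z, hZ, hze, hzs, hf, hm, hzx⟩ :=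
      AlgSpLib.exists_mono_quotient X.property (toFt str ξ hξ hx)
    exact ⟨⟨Z, hZ⟩, ObjectProperty.homMk f, K, inferInstance, str', z, hze, hzs, hf, hm, hzx⟩
  · rintro ⟨Z, f, k, _, str, z, hze, -, hf, -, hzx⟩
    exact ⟨k, inferInstance, str, z ≫ f.hom, AlgSpLib.locP_comp (IsAlgSpace.yon_obj _) Z.property X.property
      (AlgSpLib.locP_of_repWith (AlgSpLib.repWith_mono
        (fun _ _ g (_ : Etale g) => (inferInstance : LocallyOfFiniteType g)) hze)) hf, hzx⟩

end Groth.Agent.S9980
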