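import Groth.Statements.S9982
import Groth.Agent.AlgSpLib.LocConstr
import Groth.Agent.AlgSpLib.Qc

set_option autoImplicit false
set_option backward.isDefEq.respectTransparency false
set_option backward.isDefEq.respectTransparency.types false
universe u
open CategoryTheory CategoryTheory.Limits AlgebraicGeometry
open AlgSp

namespace Groth.Agent.S9982

/-- A quasi-compact morphism locally of finite presentation between algebraic spaces maps etale locally
constructible sets to etale locally constructible sets. -/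
theorem result {S : Scheme.{u}} {X Y : AlgSp.Space S} (f : X ⟶ Y)
    (hq : AlgSp.IsQuasiCompactMor f.hom) (hfp : AlgSp.LocP @LocallyOfFinitePresentation f.hom)
    (E : Set (AlgSp.Points X.obj))
    (hE : (∀ (U : Over S) (φ : (AlgSp.yon S).obj U ⟶ X.obj), AlgSp.RepWith @Etale φ →
        Topology.IsLocallyConstructible (AlgSp.Points.ofPt φ ⁻¹' E))) :
    (∀ (U : Over S) (φ : (AlgSp.yon S).obj U ⟶ Y.obj), AlgSp.RepWith @Etale φ →
        Topology.IsLocallyConstructible (AlgSp.Points.ofPt φ ⁻¹' (AlgSp.Points.map f.hom '' E))) := by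
  intro U φ hφ u
  obtain ⟨U₀, hU₀, hu₀, -⟩ := exists_isAffineOpen_mem_and_subset (U := ⊤) (x := u) trivial
  refine ⟨U₀, U₀.2.mem_nhds hu₀, U₀.2, ?_⟩
  haveI : IsAffine U₀.toScheme := hU₀
  let U' : Over S := Over.mk (U₀.ι ≫ U.hom)
  let ι' : U' ⟶ U := Over.homMk U₀.ι rfl
  haveI : IsAffine U'.left := hU₀
  haveI : Etale ι'.left := inferInstanceAs (Etale U₀.ι)
  let φ₀ : (yon S).obj U' ⟶ Y.obj := (yon S).map ι' ≫ φ
  have hφ₀ : RepWith @Etale φ₀ :=
    AlgSpLib.repWith_comp ((repWith_yon_map_iff (P := (@Etale : MorphismProperty Scheme.{u})) ι').2 ‹_›) hφ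
  have sq := IsPullback.of_hasPullback f.hom φ₀
  obtain ⟨W, c, hW, hc, hcs⟩ := AlgSpLib.exists_affine_chart
    (hq (IsAlgSpace.yon_obj U') (AlgSpLib.isQuasiCompactSp_yon U') φ₀ _ _ sq)
  obtain ⟨h, hh⟩ := (yon S).map_surjective (c ≫ pullback.snd f.hom φ₀)
  have hcE : RepWith @Etale (c ≫ pullback.fst f.hom φ₀) :=
    AlgSpLib.repWith_comp hc (AlgSpLib.repWith_of_isPullback sq.flip hφ₀)
  have hsq : (c ≫ pullback.fst f.hom φ₀) ≫ f.hom = (yon S).map h ≫ φ₀ := by
    rw [hh, Category.assoc, Category.assoc, pullback.condition]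
  haveI : LocallyOfFinitePresentation h.left := hfp _ φ₀ h hcE hφ₀ hsq
  haveI : IsAffine W.left := hW
  haveI : QuasiCompact h.left := inferInstance
  have key : Topology.IsConstructible (h.left '' (Points.ofPt (c ≫ pullback.fst f.hom φ₀) ⁻¹' E)) :=
    h.left.isConstructible_image (hE W _ hcE).isConstructible
  have e : ((Subtype.val : U₀ → U.left) ⁻¹' (Points.ofPt φ ⁻¹' (Points.map f.hom '' E))) =
      h.left '' (Points.ofPt (c ≫ pullback.fst f.hom φ₀) ⁻¹' E) := by
   ext z
   have hz : Points.ofPt φ (z : U.left) = Points.ofPt φ₀ z := (AlgSpLib.ofPt_yon_comp ι' φ z).symm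
   constructor
   · rintro ⟨e, heE, he⟩
     obtain ⟨x, hx⟩ : ∃ x, Points.ofPt φ₀ z = x := ⟨_, rfl⟩
     obtain ⟨w, hw₁, hw₂⟩ := AlgSpLib.exists_point_isPullback sq e (Points.ofPt (𝟙 _) z) (by
       rw [he, hz, Points.map_ofPt, Category.id_comp])
     obtain ⟨v, rfl⟩ := AlgSpLib.surjective_ofPt hcs w
     refine ⟨v, ?_, ?_⟩
     · change Points.ofPt (c ≫ pullback.fst f.hom φ₀) v ∈ E
       rwa [← Points.map_ofPt, hw₁]
     · rw [Points.map_ofPt, ← hh, ← Category.comp_id ((yon S).map h), AlgSpLib.ofPt_yon_comp] at hw₂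
       exact (Points.schemeHomeo U').injective hw₂
   · rintro ⟨v, hv, rfl⟩
     refine ⟨_, hv, ?_⟩
     rw [hz, Points.map_ofPt, hsq, AlgSpLib.ofPt_yon_comp]
  exact (congrArg Topology.IsConstructible e).mpr key


end Groth.Agent.S9982
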