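import Groth.Statements.S9986
import Groth.Agent.AlgSpRegLib.DenseSpace

set_option autoImplicit false
set_option linter.all false
set_option backward.isDefEq.respectTransparency false
set_option backward.isDefEq.respectTransparency.types false
universe u
open CategoryTheory CategoryTheory.Limits AlgebraicGeometry
open AlgSp

namespace Groth.Agent.S9986

theorem appTop_eq_zero_iff {U T : Scheme.{u}} (π : U ⟶ T) [IsOpenImmersion π] (s : Γ(T, ⊤)) :
    π.appTop.hom s = 0 ↔ ∀ x, x ∈ π.opensRange → T.presheaf.germ ⊤ x trivial s = 0 := by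
  constructor
  · rintro h _ ⟨y, rfl⟩
    refine (ConcreteCategory.bijective_of_isIso (π.stalkMap y)).1 ?_
    rw [map_zero]
    exact (π.germ_stalkMap_apply ⊤ y trivial s).trans ((congrArg _ h).trans (map_zero _))
  · intro h
    refine TopCat.Presheaf.section_ext U.sheaf _ _ _ fun y hy => ?_
    refine Eq.trans ?_ (map_zero _).symm
    exact (π.germ_stalkMap_apply ⊤ y trivial s).symm.trans ((congrArg _ (h _ ⟨y, rfl⟩)).trans (map_zero _))


/-- For an open immersion j : U -> X of algebraic spaces, U is scheme theoretically dense in X exactly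
when the comparison map from O_X to j_* O_U on the small etale site of X is a monomorphism of
sheaves of rings. -/
theorem result {S : Scheme.{u}} {U X : AlgSp.Space S} (j : U ⟶ X)
    (hj : AlgSp.RepWith @IsOpenImmersion j.hom) :
    AlgSp.IsSchDense j.hom ↔ Mono (AlgSp.bcRingHom hj.1) := by
  constructor
  · intro hd
    haveI : ∀ E, Mono ((AlgSp.bcRingHom hj.1).hom.app E) := fun ⟨E⟩ => by
      refine ConcreteCategory.mono_of_injective _ ((injective_iff_map_eq_zero _).2 fun s hs => ?_)
      let π := (hj.1.snd E.obj.hom).left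
      haveI : IsOpenImmersion π := hj.property _ _ _ (hj.1.isPullback E.obj.hom)
      have hden := AlgSpRegLib.dense_of_isSchDense hd E.property (W := π.opensRange)
        fun v => AlgSpRegLib.mem_range_iff (hj.1.isPullback E.obj.hom) v
      have h0 : π.appTop.hom s.down = 0 := congrArg ULift.down hs
      exact ULift.ext _ _ ((AlgSpRegLib.isSchematicallyDense_iff _).1 hden ⊤ s.down
        fun x _ hx => (appTop_eq_zero_iff π s.down).1 h0 x hx)
    haveI : Mono (AlgSp.bcRingHom hj.1).hom := NatTrans.mono_of_mono_app _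
    exact (sheafToPresheaf (etTop X.obj) RingCat.{u + 1}).mono_of_mono_map this
  · intro hm
    haveI := hm
    haveI : Mono (AlgSp.bcRingHom hj.1).hom :=
      inferInstanceAs (Mono ((sheafToPresheaf (etTop X.obj) RingCat.{u + 1}).map (AlgSp.bcRingHom hj.1)))
    have hinj : ∀ E : EtOver X.obj, Function.Injective ((AlgSp.bcRingHom hj.1).hom.app (Opposite.op E)) := fun E =>
      (ConcreteCategory.mono_iff_injective_of_preservesPullback _).1 inferInstance
    obtain ⟨V, φ, hφ, hφs⟩ := X.property.atlas
    have sq0 := hj.1.isPullback φ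
    haveI : IsOpenImmersion (hj.1.snd φ).left := hj.property _ _ _ sq0
    refine AlgSpRegLib.isSchDense_of_chart hj hφ hφs (hj.1.snd φ).left.opensRange
      (fun v => AlgSpRegLib.mem_range_iff sq0 v) ((AlgSpRegLib.isSchematicallyDense_iff _).2 fun A s hs => ?_)
    let VA : Over S := Over.mk (A.ι ≫ V.hom)
    let o : VA ⟶ V := Over.homMk A.ι
    let E : EtOver X.obj := EtOver.mk ((yon S).map o ≫ φ) ((repWith_isMultiplicative (S := S) @Etale).comp_mem _ _
      ((repWith_yon_map_iff (P := (@Etale : MorphismProperty Scheme.{u})) o).2 (inferInstanceAs (Etale A.ι))) hφ)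
    let π := (hj.1.snd E.obj.hom).left
    haveI : IsOpenImmersion π := hj.property _ _ _ (hj.1.isPullback E.obj.hom)
    have h0 : π.appTop.hom (A.topIso.inv.hom s) = 0 := (appTop_eq_zero_iff π _).2 fun y hy => by
      refine (ConcreteCategory.bijective_of_isIso (A.stalkIso y).hom).1 ?_
      rw [map_zero]
      have hy' : A.ι y ∈ (hj.1.snd φ).left.opensRange := by
        show A.ι y ∈ Set.range (hj.1.snd φ).left
        rw [AlgSpRegLib.mem_range_iff sq0]
        have := (AlgSpRegLib.mem_range_iff (hj.1.isPullback E.obj.hom) y).1 hy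
        exact (AlgSpLib.ofPt_yon_comp o φ y).symm ▸ this
      refine (ConcreteCategory.congr_hom (Scheme.Opens.germ_stalkIso_hom A (V := ⊤) y trivial) _).trans ?_
      refine Eq.trans ?_ (hs (A.ι y) y.2 hy')
      exact V.left.presheaf.germ_res_apply _ _ _ _
    have h1 : A.topIso.inv.hom s = 0 := congrArg ULift.down
      (hinj E (show (AlgSp.bcRingHom hj.1).hom.app (Opposite.op E) (ULift.up (A.topIso.inv.hom s)) =
        (AlgSp.bcRingHom hj.1).hom.app (Opposite.op E) 0 from (ULift.ext _ _ h0).trans (map_zero _).symm))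
    have h2 := congrArg A.topIso.hom.hom h1
    rw [map_zero, ← RingHom.comp_apply, ← CommRingCat.hom_comp, Iso.inv_hom_id] at h2
    exact h2

end Groth.Agent.S9986
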