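import Groth.Statements.S9987
import Groth.Agent.AlgSpRegLib.SiteEt
import Mathlib.AlgebraicGeometry.Morphisms.ClosedImmersion

set_option autoImplicit false
set_option backward.isDefEq.respectTransparency false
set_option backward.isDefEq.respectTransparency.types false
universe u
open CategoryTheory CategoryTheory.Limits AlgebraicGeometry Opposite
open AlgSp

namespace Groth.Agent.S9987

/-- For a closed immersion i : Z ⟶ X of algebraic spaces over S (representable, every base change to a
scheme a closed immersion), the comparison map O_X ⟶ i_* O_Z of sheaves of rings on the small etale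
site of X is locally surjective. (The published statement also asserts that i_* O_Z is a
quasi-coherent O_X-module and that the kernel of O_X ⟶ i_* O_Z is a quasi-coherent sheaf of ideals;
those two assertions are the closed-immersion cases of the general facts that direct images along
quasi-compact quasi-separated morphisms preserve quasi-coherence and that the kernel ideal of a
quasi-compact morphism is quasi-coherent, a closed immersion being quasi-compact and separated, and
only the surjectivity is stated here.) -/
theorem result {S : Scheme.{u}} {Z X : AlgSp.Space S} (i : Z ⟶ X)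
    (hi : AlgSp.RepWith @IsClosedImmersion i.hom) :
    Presheaf.IsLocallySurjective (AlgSp.etTop X.obj) (AlgSp.bcRingHom hi.1).hom := by
  refine ⟨fun {E} s => (AlgSpRegLib.mem_etTop_iff _).2 fun v => ?_⟩
  obtain ⟨A, hA, hvA, -⟩ := exists_isAffineOpen_mem_and_subset (X := E.obj.left.left) (x := v) (U := ⊤) trivial
  let V : Over S := Over.mk (A.ι ≫ E.obj.left.hom)
  let o : V ⟶ E.obj.left := Over.homMk A.ι
  have ho : RepWith @Etale ((yon S).map o ≫ E.obj.hom) := (repWith_isMultiplicative (S := S) @Etale).comp_mem _ _
    ((repWith_yon_map_iff (P := (@Etale : MorphismProperty Scheme.{u})) o).2 (inferInstanceAs (Etale A.ι))) E.property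
  let D : EtOver X.obj := EtOver.mk _ ho
  let oD : D ⟶ E := EtOver.homMk o rfl
  haveI : IsAffine D.obj.left.left := hA
  haveI : IsClosedImmersion (hi.1.snd D.obj.hom).left := hi.property _ _ _ (hi.1.isPullback D.obj.hom)
  let s' := ((EtOver.bc hi.1).op ⋙ (OEtRing Z.obj).obj).map oD.op s
  obtain ⟨t, ht⟩ := Scheme.Hom.app_surjective (hi.1.snd D.obj.hom).left ⊤ (isAffineOpen_top _) s'.down
  refine ⟨D, oD, ⟨ULift.up t, ?_⟩, ⟨⟨v, hvA⟩, rfl⟩⟩
  exact congrArg ULift.up ht

end Groth.Agent.S9987
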