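import Groth.Statements.S9993
import Groth.Agent.AlgSpLib.Space

set_option autoImplicit false
universe u
open CategoryTheory CategoryTheory.Limits AlgebraicGeometry
open AlgSp

namespace Groth.Agent.S9993

/-- A morphism f : X ⟶ Y of algebraic spaces has P at the point x in the neighbourhood sense (some chart
diagram through x whose top arrow has P on an open neighbourhood of the chosen point) if and only if
some open subspace X' of X through x has its restriction X' ⟶ Y in the class P etale locally on the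
source and target. -/
theorem result {S : Scheme.{u}} (P : MorphismProperty Scheme.{u})
    (hP : P = @LocallyOfFiniteType ∨ P = @LocallyOfFinitePresentation ∨ P = @Flat ∨ P = @Smooth ∨ P = @Etale ∨
      (∀ ⦃A B : Scheme.{u}⦄ (g : A ⟶ B), P g ↔ (LocallyQuasiFinite g ∧ LocallyOfFiniteType g)) ∨
      (∀ ⦃A B : Scheme.{u}⦄ (g : A ⟶ B), P g ↔ (LocallyOfFiniteType g ∧ FormallyUnramified g)))
    {X Y : AlgSp.Space S} (f : X ⟶ Y) (x : AlgSp.Points X.obj) :
    AlgSp.HasAtMor (fun U _ h u => ∃ W : U.Opens, u ∈ W ∧ P (W.ι ≫ h)) f.hom x ↔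
      ∃ (X' : AlgSp.Space S) (j : X' ⟶ X), AlgSp.RepWith @IsOpenImmersion j.hom ∧
        x ∈ Set.range (AlgSp.Points.map j.hom) ∧ AlgSp.LocP P (j ≫ f).hom := by
  haveI := AlgSpLib.etLocProp_of_list hP
  haveI := AlgSpLib.isZariskiLocalAtSource_of_list hP
  constructor
  · rintro ⟨U, V, a, b, h, u, ha, hb, e, rfl, W, huW, hW⟩
    let U' : Over S := Over.mk (W.ι ≫ U.hom)
    let i : U' ⟶ U := Over.homMk W.ι rfl
    have hi : AlgSp.RepWith @Etale ((AlgSp.yon S).map i ≫ a) :=
      AlgSpLib.repWith_comp ((AlgSp.repWith_yon_map_iff (P := (@Etale : MorphismProperty Scheme.{u})) i).2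
        (inferInstanceAs (Etale W.ι))) ha
    let R := Set.range (AlgSp.Points.ofPt ((AlgSp.yon S).map i ≫ a))
    have hR : IsOpen R := (AlgSpLib.isOpenMap_ofPt hi).isOpen_range
    have hj := AlgSpLib.repWith_openSubι X.obj hR
    obtain ⟨a', e', he', hs'⟩ := AlgSpLib.exists_factor_etale_surjective _ hi hj (AlgSpLib.range_openSubι X.obj)
    refine ⟨⟨AlgSpLib.openSub X.obj R, AlgSpLib.isAlgSpace_openSub X.property hR⟩,
      ObjectProperty.homMk (AlgSpLib.openSubι X.obj R), hj, ?_,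
      AlgSpLib.locP_of_chart (h₀ := i ≫ h) he' hs' hb ?_ hW⟩
    · change _ ∈ Set.range (AlgSp.Points.map (AlgSpLib.openSubι X.obj R))
      rw [AlgSpLib.range_openSubι]
      exact ⟨⟨u, huW⟩, (AlgSpLib.ofPt_yon_comp i a _).trans rfl⟩
    · change a' ≫ AlgSpLib.openSubι X.obj R ≫ f.hom = _
      rw [reassoc_of% e', e, Functor.map_comp, Category.assoc]
  · rintro ⟨X', j, hj, ⟨x', rfl⟩, hf⟩
    obtain ⟨U, V, a, b, h, ha, has, hb, -, e⟩ := AlgSpLib.exists_chart X'.property Y.property (j ≫ f).hom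
    obtain ⟨u, hu⟩ := AlgSpLib.surjective_ofPt has x'
    refine ⟨U, V, a ≫ j.hom, b, h, u, AlgSpLib.isEtaleMor_of_openImmersion hj a ha, hb,
      (Category.assoc _ _ _).trans e, ?_, ⊤, trivial, IsZariskiLocalAtSource.comp (hf a b h ha hb e) _⟩
    rw [← AlgSp.Points.map_ofPt, hu]

end Groth.Agent.S9993
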